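import Cfsg.Agent.Lib.Helper28.S1685.Model

set_option autoImplicit false
set_option maxRecDepth 100000
set_option linter.all false

namespace Cfsg.Agent.Helper28.S1685

open Cfsg.Agent.Helper28
open Cfsg.Spor.Fi22 (Gen)

theorem relchk_8 : chkWordF allPts beqPt relF_8 = true := by decide +kernel
theorem relchk_21 : chkWordF allPts beqPt relF_21 = true := by decide +kernel
theorem relchk_26 : chkWordF allPts beqPt relF_26 = true := by decide +kernel
theorem relchk_35 : chkWordF allPts beqPt relF_35 = true := by decide +kernel
theorem relchk_37 : chkWordF allPts beqPt relF_37 = true := by decide +kernel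

end Cfsg.Agent.Helper28.S1685
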