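import Cfsg.Agent.Lib.Helper28.S1685.Levels

set_option autoImplicit false
set_option maxRecDepth 100000
set_option linter.all false

namespace Cfsg.Agent.Helper28.S1685

open Cfsg.Agent.Helper28
open Cfsg.Spor.Fi22 (Gen)

noncomputable section

abbrev sl_at : Gen × Bool := (Gen.a, true)
abbrev sl_af : Gen × Bool := (Gen.a, false)
abbrev sl_bt : Gen × Bool := (Gen.b, true)
abbrev sl_bf : Gen × Bool := (Gen.b, false)
abbrev sl_ct : Gen × Bool := (Gen.c, true)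
abbrev sl_cf : Gen × Bool := (Gen.c, false)
abbrev sl_dt : Gen × Bool := (Gen.d, true)
abbrev sl_df : Gen × Bool := (Gen.d, false)
abbrev sl_et : Gen × Bool := (Gen.e, true)
abbrev sl_ef : Gen × Bool := (Gen.e, false)
abbrev sl_ft : Gen × Bool := (Gen.f, true)
abbrev sl_ff : Gen × Bool := (Gen.f, false)
abbrev sl_gt : Gen × Bool := (Gen.g, true)
abbrev sl_gf : Gen × Bool := (Gen.g, false)
abbrev sl_ht : Gen × Bool := (Gen.h, true)
abbrev sl_hf : Gen × Bool := (Gen.h, false)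
abbrev sl_it : Gen × Bool := (Gen.i, true)
abbrev sl_if : Gen × Bool := (Gen.i, false)
theorem relone_inv (rels : Set (FreeGroup Gen)) (w : Word Gen) (h : wG rels w = 1) :
    wG rels (FreeGroup.invRev w) = 1 := by
  rw [wG_invRev, h, inv_one]

abbrev ed (l : Gen × Bool) (c : Qt rels S) : Qt rels S := edge rels S l c
abbrev sp8 : Pt := (Pt.mk D1.c0 D2.c0 D3.c8)
abbrev sq8 : Qt rels S := P sp8
abbrev sp9 : Pt := (Pt.mk D1.c0 D2.c0 D3.c9)
abbrev sq9 : Qt rels S := P sp9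
abbrev sp12 : Pt := (Pt.mk D1.c0 D2.c0 D3.c12)
abbrev sq12 : Qt rels S := P sp12
abbrev sp13 : Pt := (Pt.mk D1.c0 D2.c0 D3.c13)
abbrev sq13 : Qt rels S := P sp13
abbrev sp16 : Pt := (Pt.mk D1.c0 D2.c0 D3.c16)
abbrev sq16 : Qt rels S := P sp16
abbrev sp17 : Pt := (Pt.mk D1.c0 D2.c0 D3.c17)
abbrev sq17 : Qt rels S := P sp17
abbrev sp18 : Pt := (Pt.mk D1.c0 D2.c0 D3.c18)
abbrev sq18 : Qt rels S := P sp18
abbrev sp22 : Pt := (Pt.mk D1.c0 D2.c0 D3.c22)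
abbrev sq22 : Qt rels S := P sp22
abbrev sp23 : Pt := (Pt.mk D1.c0 D2.c0 D3.c23)
abbrev sq23 : Qt rels S := P sp23
abbrev sp24 : Pt := (Pt.mk D1.c0 D2.c0 D3.c24)
abbrev sq24 : Qt rels S := P sp24
abbrev sp25 : Pt := (Pt.mk D1.c0 D2.c0 D3.c25)
abbrev sq25 : Qt rels S := P sp25
abbrev sp26 : Pt := (Pt.mk D1.c0 D2.c0 D3.c26)
abbrev sq26 : Qt rels S := P sp26
abbrev sp30 : Pt := (Pt.mk D1.c0 D2.c0 D3.c30)
abbrev sq30 : Qt rels S := P sp30
abbrev sp31 : Pt := (Pt.mk D1.c0 D2.c0 D3.c31)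
abbrev sq31 : Qt rels S := P sp31
abbrev sp32 : Pt := (Pt.mk D1.c0 D2.c1 D3.c0)
abbrev sq32 : Qt rels S := P sp32
abbrev sp33 : Pt := (Pt.mk D1.c0 D2.c1 D3.c1)
abbrev sq33 : Qt rels S := P sp33
abbrev sp34 : Pt := (Pt.mk D1.c0 D2.c1 D3.c2)
abbrev sq34 : Qt rels S := P sp34
abbrev sp36 : Pt := (Pt.mk D1.c0 D2.c1 D3.c4)
abbrev sq36 : Qt rels S := P sp36
abbrev sp37 : Pt := (Pt.mk D1.c0 D2.c1 D3.c5)
abbrev sq37 : Qt rels S := P sp37
abbrev sp45 : Pt := (Pt.mk D1.c0 D2.c1 D3.c13)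
abbrev sq45 : Qt rels S := P sp45
abbrev sp46 : Pt := (Pt.mk D1.c0 D2.c1 D3.c14)
abbrev sq46 : Qt rels S := P sp46
abbrev sp47 : Pt := (Pt.mk D1.c0 D2.c1 D3.c15)
abbrev sq47 : Qt rels S := P sp47
abbrev sp48 : Pt := (Pt.mk D1.c0 D2.c1 D3.c16)
abbrev sq48 : Qt rels S := P sp48
abbrev sp49 : Pt := (Pt.mk D1.c0 D2.c1 D3.c17)
abbrev sq49 : Qt rels S := P sp49
abbrev sp50 : Pt := (Pt.mk D1.c0 D2.c1 D3.c18)
abbrev sq50 : Qt rels S := P sp50
abbrev sp51 : Pt := (Pt.mk D1.c0 D2.c1 D3.c19)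
abbrev sq51 : Qt rels S := P sp51
abbrev sp63 : Pt := (Pt.mk D1.c0 D2.c1 D3.c31)
abbrev sq63 : Qt rels S := P sp63
abbrev sp65 : Pt := (Pt.mk D1.c0 D2.c2 D3.c1)
abbrev sq65 : Qt rels S := P sp65
abbrev sp66 : Pt := (Pt.mk D1.c0 D2.c2 D3.c2)
abbrev sq66 : Qt rels S := P sp66
abbrev sp67 : Pt := (Pt.mk D1.c0 D2.c2 D3.c3)
abbrev sq67 : Qt rels S := P sp67
abbrev sp68 : Pt := (Pt.mk D1.c0 D2.c2 D3.c4)
abbrev sq68 : Qt rels S := P sp68
abbrev sp69 : Pt := (Pt.mk D1.c0 D2.c2 D3.c5)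
abbrev sq69 : Qt rels S := P sp69
abbrev sp70 : Pt := (Pt.mk D1.c0 D2.c2 D3.c6)
abbrev sq70 : Qt rels S := P sp70
abbrev sp72 : Pt := (Pt.mk D1.c0 D2.c2 D3.c8)
abbrev sq72 : Qt rels S := P sp72
abbrev sp73 : Pt := (Pt.mk D1.c0 D2.c2 D3.c9)
abbrev sq73 : Qt rels S := P sp73
abbrev sp90 : Pt := (Pt.mk D1.c0 D2.c2 D3.c26)
abbrev sq90 : Qt rels S := P sp90
abbrev sp91 : Pt := (Pt.mk D1.c0 D2.c2 D3.c27)
abbrev sq91 : Qt rels S := P sp91
abbrev sp92 : Pt := (Pt.mk D1.c0 D2.c2 D3.c28)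
abbrev sq92 : Qt rels S := P sp92
abbrev sp94 : Pt := (Pt.mk D1.c0 D2.c2 D3.c30)
abbrev sq94 : Qt rels S := P sp94
abbrev sp95 : Pt := (Pt.mk D1.c0 D2.c2 D3.c31)
abbrev sq95 : Qt rels S := P sp95
abbrev sp97 : Pt := (Pt.mk D1.c0 D2.c3 D3.c1)
abbrev sq97 : Qt rels S := P sp97
abbrev sp99 : Pt := (Pt.mk D1.c0 D2.c3 D3.c3)
abbrev sq99 : Qt rels S := P sp99
abbrev sp100 : Pt := (Pt.mk D1.c0 D2.c3 D3.c4)
abbrev sq100 : Qt rels S := P sp100
abbrev sp102 : Pt := (Pt.mk D1.c0 D2.c3 D3.c6)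
abbrev sq102 : Qt rels S := P sp102
abbrev sp129 : Pt := (Pt.mk D1.c0 D2.c4 D3.c1)
abbrev sq129 : Qt rels S := P sp129
abbrev sp130 : Pt := (Pt.mk D1.c0 D2.c4 D3.c2)
abbrev sq130 : Qt rels S := P sp130
abbrev sp131 : Pt := (Pt.mk D1.c0 D2.c4 D3.c3)
abbrev sq131 : Qt rels S := P sp131
abbrev sp136 : Pt := (Pt.mk D1.c0 D2.c4 D3.c8)
abbrev sq136 : Qt rels S := P sp136
abbrev sp137 : Pt := (Pt.mk D1.c0 D2.c4 D3.c9)
abbrev sq137 : Qt rels S := P sp137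
abbrev sp138 : Pt := (Pt.mk D1.c0 D2.c4 D3.c10)
abbrev sq138 : Qt rels S := P sp138
abbrev sp139 : Pt := (Pt.mk D1.c0 D2.c4 D3.c11)
abbrev sq139 : Qt rels S := P sp139
abbrev sp140 : Pt := (Pt.mk D1.c0 D2.c4 D3.c12)
abbrev sq140 : Qt rels S := P sp140
abbrev sp141 : Pt := (Pt.mk D1.c0 D2.c4 D3.c13)
abbrev sq141 : Qt rels S := P sp141
abbrev sp142 : Pt := (Pt.mk D1.c0 D2.c4 D3.c14)
abbrev sq142 : Qt rels S := P sp142
abbrev sp174 : Pt := (Pt.mk D1.c0 D2.c5 D3.c14)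
abbrev sq174 : Qt rels S := P sp174
abbrev sp175 : Pt := (Pt.mk D1.c0 D2.c5 D3.c15)
abbrev sq175 : Qt rels S := P sp175
abbrev sp176 : Pt := (Pt.mk D1.c0 D2.c5 D3.c16)
abbrev sq176 : Qt rels S := P sp176
abbrev sp177 : Pt := (Pt.mk D1.c0 D2.c5 D3.c17)
abbrev sq177 : Qt rels S := P sp177
abbrev sp179 : Pt := (Pt.mk D1.c0 D2.c5 D3.c19)
abbrev sq179 : Qt rels S := P sp179
abbrev sp182 : Pt := (Pt.mk D1.c0 D2.c5 D3.c22)
abbrev sq182 : Qt rels S := P sp182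
abbrev sp183 : Pt := (Pt.mk D1.c0 D2.c5 D3.c23)
abbrev sq183 : Qt rels S := P sp183
abbrev sp184 : Pt := (Pt.mk D1.c0 D2.c5 D3.c24)
abbrev sq184 : Qt rels S := P sp184
abbrev sp186 : Pt := (Pt.mk D1.c0 D2.c5 D3.c26)
abbrev sq186 : Qt rels S := P sp186
abbrev sp187 : Pt := (Pt.mk D1.c0 D2.c5 D3.c27)
abbrev sq187 : Qt rels S := P sp187
abbrev sp189 : Pt := (Pt.mk D1.c0 D2.c5 D3.c29)
abbrev sq189 : Qt rels S := P sp189
abbrev sp191 : Pt := (Pt.mk D1.c0 D2.c5 D3.c31)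
abbrev sq191 : Qt rels S := P sp191
abbrev sp230 : Pt := (Pt.mk D1.c0 D2.c7 D3.c6)
abbrev sq230 : Qt rels S := P sp230
abbrev sp231 : Pt := (Pt.mk D1.c0 D2.c7 D3.c7)
abbrev sq231 : Qt rels S := P sp231
abbrev sp232 : Pt := (Pt.mk D1.c0 D2.c7 D3.c8)
abbrev sq232 : Qt rels S := P sp232
abbrev sp235 : Pt := (Pt.mk D1.c0 D2.c7 D3.c11)
abbrev sq235 : Qt rels S := P sp235
abbrev sp236 : Pt := (Pt.mk D1.c0 D2.c7 D3.c12)
abbrev sq236 : Qt rels S := P sp236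
abbrev sp240 : Pt := (Pt.mk D1.c0 D2.c7 D3.c16)
abbrev sq240 : Qt rels S := P sp240
abbrev sp242 : Pt := (Pt.mk D1.c0 D2.c7 D3.c18)
abbrev sq242 : Qt rels S := P sp242
abbrev sp246 : Pt := (Pt.mk D1.c0 D2.c7 D3.c22)
abbrev sq246 : Qt rels S := P sp246
abbrev sp247 : Pt := (Pt.mk D1.c0 D2.c7 D3.c23)
abbrev sq247 : Qt rels S := P sp247
abbrev sp300 : Pt := (Pt.mk D1.c0 D2.c9 D3.c12)
abbrev sq300 : Qt rels S := P sp300
abbrev sp302 : Pt := (Pt.mk D1.c0 D2.c9 D3.c14)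
abbrev sq302 : Qt rels S := P sp302
abbrev sp303 : Pt := (Pt.mk D1.c0 D2.c9 D3.c15)
abbrev sq303 : Qt rels S := P sp303
abbrev sp304 : Pt := (Pt.mk D1.c0 D2.c9 D3.c16)
abbrev sq304 : Qt rels S := P sp304
abbrev sp309 : Pt := (Pt.mk D1.c0 D2.c9 D3.c21)
abbrev sq309 : Qt rels S := P sp309
abbrev sp310 : Pt := (Pt.mk D1.c0 D2.c9 D3.c22)
abbrev sq310 : Qt rels S := P sp310
abbrev sp311 : Pt := (Pt.mk D1.c0 D2.c9 D3.c23)
abbrev sq311 : Qt rels S := P sp311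
abbrev sp317 : Pt := (Pt.mk D1.c0 D2.c9 D3.c29)
abbrev sq317 : Qt rels S := P sp317
abbrev sp320 : Pt := (Pt.mk D1.c0 D2.c10 D3.c0)
abbrev sq320 : Qt rels S := P sp320
abbrev sp392 : Pt := (Pt.mk D1.c0 D2.c12 D3.c8)
abbrev sq392 : Qt rels S := P sp392
abbrev sp394 : Pt := (Pt.mk D1.c0 D2.c12 D3.c10)
abbrev sq394 : Qt rels S := P sp394
abbrev sp395 : Pt := (Pt.mk D1.c0 D2.c12 D3.c11)
abbrev sq395 : Qt rels S := P sp395
abbrev sp399 : Pt := (Pt.mk D1.c0 D2.c12 D3.c15)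
abbrev sq399 : Qt rels S := P sp399
abbrev sp404 : Pt := (Pt.mk D1.c0 D2.c12 D3.c20)
abbrev sq404 : Qt rels S := P sp404
abbrev sp405 : Pt := (Pt.mk D1.c0 D2.c12 D3.c21)
abbrev sq405 : Qt rels S := P sp405
abbrev sp413 : Pt := (Pt.mk D1.c0 D2.c12 D3.c29)
abbrev sq413 : Qt rels S := P sp413
abbrev sp417 : Pt := (Pt.mk D1.c0 D2.c13 D3.c1)
abbrev sq417 : Qt rels S := P sp417
abbrev sp511 : Pt := (Pt.mk D1.c0 D2.c15 D3.c31)
abbrev sq511 : Qt rels S := P sp511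
abbrev sp512 : Pt := (Pt.mk D1.c0 D2.c16 D3.c0)
abbrev sq512 : Qt rels S := P sp512
abbrev sp517 : Pt := (Pt.mk D1.c0 D2.c16 D3.c5)
abbrev sq517 : Qt rels S := P sp517
abbrev sp520 : Pt := (Pt.mk D1.c0 D2.c16 D3.c8)
abbrev sq520 : Qt rels S := P sp520
abbrev sp527 : Pt := (Pt.mk D1.c0 D2.c16 D3.c15)
abbrev sq527 : Qt rels S := P sp527
abbrev sp528 : Pt := (Pt.mk D1.c0 D2.c16 D3.c16)
abbrev sq528 : Qt rels S := P sp528
abbrev sp536 : Pt := (Pt.mk D1.c0 D2.c16 D3.c24)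
abbrev sq536 : Qt rels S := P sp536
abbrev sp540 : Pt := (Pt.mk D1.c0 D2.c16 D3.c28)
abbrev sq540 : Qt rels S := P sp540
abbrev sp663 : Pt := (Pt.mk D1.c0 D2.c20 D3.c23)
abbrev sq663 : Qt rels S := P sp663
abbrev sp664 : Pt := (Pt.mk D1.c0 D2.c20 D3.c24)
abbrev sq664 : Qt rels S := P sp664
abbrev sp668 : Pt := (Pt.mk D1.c0 D2.c20 D3.c28)
abbrev sq668 : Qt rels S := P sp668
abbrev sp669 : Pt := (Pt.mk D1.c0 D2.c20 D3.c29)
abbrev sq669 : Qt rels S := P sp669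
abbrev sp671 : Pt := (Pt.mk D1.c0 D2.c20 D3.c31)
abbrev sq671 : Qt rels S := P sp671
abbrev sp672 : Pt := (Pt.mk D1.c0 D2.c21 D3.c0)
abbrev sq672 : Qt rels S := P sp672
abbrev sp674 : Pt := (Pt.mk D1.c0 D2.c21 D3.c2)
abbrev sq674 : Qt rels S := P sp674
abbrev sp688 : Pt := (Pt.mk D1.c0 D2.c21 D3.c16)
abbrev sq688 : Qt rels S := P sp688
abbrev sp694 : Pt := (Pt.mk D1.c0 D2.c21 D3.c22)
abbrev sq694 : Qt rels S := P sp694
abbrev sp853 : Pt := (Pt.mk D1.c1 D2.c4 D3.c21)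
abbrev sq853 : Qt rels S := P sp853
abbrev sp854 : Pt := (Pt.mk D1.c1 D2.c4 D3.c22)
abbrev sq854 : Qt rels S := P sp854
abbrev sp860 : Pt := (Pt.mk D1.c1 D2.c4 D3.c28)
abbrev sq860 : Qt rels S := P sp860
abbrev sp861 : Pt := (Pt.mk D1.c1 D2.c4 D3.c29)
abbrev sq861 : Qt rels S := P sp861
abbrev sp865 : Pt := (Pt.mk D1.c1 D2.c5 D3.c1)
abbrev sq865 : Qt rels S := P sp865
abbrev sp866 : Pt := (Pt.mk D1.c1 D2.c5 D3.c2)
abbrev sq866 : Qt rels S := P sp866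
abbrev sp884 : Pt := (Pt.mk D1.c1 D2.c5 D3.c20)
abbrev sq884 : Qt rels S := P sp884
abbrev sp888 : Pt := (Pt.mk D1.c1 D2.c5 D3.c24)
abbrev sq888 : Qt rels S := P sp888
abbrev sp1098 : Pt := (Pt.mk D1.c1 D2.c12 D3.c10)
abbrev sq1098 : Qt rels S := P sp1098
abbrev sp1111 : Pt := (Pt.mk D1.c1 D2.c12 D3.c23)
abbrev sq1111 : Qt rels S := P sp1111
abbrev sp1126 : Pt := (Pt.mk D1.c1 D2.c13 D3.c6)
abbrev sq1126 : Qt rels S := P sp1126
abbrev sp1127 : Pt := (Pt.mk D1.c1 D2.c13 D3.c7)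
abbrev sq1127 : Qt rels S := P sp1127
abbrev sp1134 : Pt := (Pt.mk D1.c1 D2.c13 D3.c14)
abbrev sq1134 : Qt rels S := P sp1134
abbrev sp1396 : Pt := (Pt.mk D1.c1 D2.c21 D3.c20)
abbrev sq1396 : Qt rels S := P sp1396
abbrev sp1410 : Pt := (Pt.mk D1.c2 D2.c0 D3.c2)
abbrev sq1410 : Qt rels S := P sp1410
abbrev sp1427 : Pt := (Pt.mk D1.c2 D2.c0 D3.c19)
abbrev sq1427 : Qt rels S := P sp1427
abbrev sp1432 : Pt := (Pt.mk D1.c2 D2.c0 D3.c24)
abbrev sq1432 : Qt rels S := P sp1432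
abbrev sp1780 : Pt := (Pt.mk D1.c2 D2.c11 D3.c20)
abbrev sq1780 : Qt rels S := P sp1780
abbrev sp2186 : Pt := (Pt.mk D1.c3 D2.c2 D3.c10)
abbrev sq2186 : Qt rels S := P sp2186
abbrev sp2666 : Pt := (Pt.mk D1.c3 D2.c17 D3.c10)
abbrev sq2666 : Qt rels S := P sp2666
def s0_v0 : Qt rels S := ed sl_ft sq528
def s0_v1 : Qt rels S := ed sl_et s0_v0
def s0_v2 : Qt rels S := ed sl_dt s0_v1
def s0_v27 : Qt rels S := ed sl_ft sq674
def s0_v28 : Qt rels S := ed sl_et s0_v27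
def s0_v29 : Qt rels S := ed sl_dt s0_v28
def s0_v30 : Qt rels S := ed sl_bt s0_v29
def s0_v31 : Qt rels S := ed sl_ct s0_v30
def s0_v32 : Qt rels S := ed sl_dt s0_v31
def s0_v84 : Qt rels S := ed sl_ft sq1410
def s0_v85 : Qt rels S := ed sl_et s0_v84
def s0_v118 : Qt rels S := ed sl_ct sq176
def s0_v119 : Qt rels S := ed sl_dt s0_v118
def s0_v120 : Qt rels S := ed sl_ht s0_v119
def s0_v121 : Qt rels S := ed sl_ft s0_v120
def s0_v122 : Qt rels S := ed sl_et s0_v121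
def s0_v123 : Qt rels S := ed sl_dt s0_v122
def s0_v124 : Qt rels S := ed sl_bt s0_v123
def s0_v125 : Qt rels S := ed sl_ct s0_v124
def s0_v126 : Qt rels S := ed sl_dt s0_v125
def s0_v127 : Qt rels S := ed sl_it s0_v126
def s0_v128 : Qt rels S := ed sl_ht s0_v127
def s0_v129 : Qt rels S := ed sl_dt s0_v128
def s0_v130 : Qt rels S := ed sl_et s0_v129
def s0_v131 : Qt rels S := ed sl_dt s0_v130
def s0_v132 : Qt rels S := ed sl_bt s0_v131
def s0_v133 : Qt rels S := ed sl_ct s0_v132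
def s0_v134 : Qt rels S := ed sl_dt s0_v133
def s0_v135 : Qt rels S := ed sl_it s0_v134
def s0_v136 : Qt rels S := ed sl_ht s0_v135
def s0_v137 : Qt rels S := ed sl_dt s0_v136
def s0_v138 : Qt rels S := ed sl_ft s0_v137
def s0_v139 : Qt rels S := ed sl_et s0_v138
def s0_v140 : Qt rels S := ed sl_dt s0_v139
def s0_v141 : Qt rels S := ed sl_bt s0_v140
def s0_v142 : Qt rels S := ed sl_ct s0_v141
def s0_v143 : Qt rels S := ed sl_dt s0_v142
def s0_v144 : Qt rels S := ed sl_it s0_v143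
def s0_v145 : Qt rels S := ed sl_ht s0_v144
def s0_v146 : Qt rels S := ed sl_dt s0_v145
def s0_v147 : Qt rels S := ed sl_ft s0_v146
def s0_v148 : Qt rels S := ed sl_ht sq1396
def s0_v149 : Qt rels S := ed sl_ft s0_v148
def s0_v150 : Qt rels S := ed sl_et s0_v149
def s0_v151 : Qt rels S := ed sl_dt s0_v150
def s0_v152 : Qt rels S := ed sl_ct s0_v151
def s0_v153 : Qt rels S := ed sl_bt s0_v152
def s0_v154 : Qt rels S := ed sl_at s0_v153
def s0_v155 : Qt rels S := ed sl_ht s0_v154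
def s0_v156 : Qt rels S := ed sl_ft s0_v155
def s0_v157 : Qt rels S := ed sl_et s0_v156
def s0_v158 : Qt rels S := ed sl_dt s0_v157
def s0_v159 : Qt rels S := ed sl_ct s0_v158
def s0_v160 : Qt rels S := ed sl_bt s0_v159
def s0_v161 : Qt rels S := ed sl_at s0_v160
def s0_v162 : Qt rels S := ed sl_ht s0_v161
def s0_v163 : Qt rels S := ed sl_ft s0_v162
def s0_v349 : Qt rels S := ed sl_ht sq1098
def s0_v350 : Qt rels S := ed sl_ft s0_v349
def s0_v351 : Qt rels S := ed sl_et s0_v350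
def s0_v352 : Qt rels S := ed sl_dt s0_v351
def s0_v353 : Qt rels S := ed sl_ct s0_v352
def s0_v354 : Qt rels S := ed sl_bt s0_v353
def s0_v355 : Qt rels S := ed sl_at s0_v354
def s0_v356 : Qt rels S := ed sl_ht s0_v355
def s0_v357 : Qt rels S := ed sl_ft s0_v356
def s0_v358 : Qt rels S := ed sl_at s0_v29
def s0_v359 : Qt rels S := ed sl_et s0_v2
def s0_v360 : Qt rels S := ed sl_dt s0_v359
def s0_v361 : Qt rels S := ed sl_ct s0_v360
def s0_v362 : Qt rels S := ed sl_bt s0_v361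
def s0_v363 : Qt rels S := ed sl_at s0_v362
def s0_v364 : Qt rels S := ed sl_ht s0_v363
def s0_v365 : Qt rels S := ed sl_et s0_v364
def s0_v366 : Qt rels S := ed sl_dt s0_v365
def s0_v367 : Qt rels S := ed sl_ct s0_v366
def s0_v368 : Qt rels S := ed sl_bt s0_v367
def s0_v404 : Qt rels S := ed sl_dt sq303
def s0_v405 : Qt rels S := ed sl_bt s0_v404
def s0_v406 : Qt rels S := ed sl_ct s0_v405
def s0_v407 : Qt rels S := ed sl_ht s0_v406
def s0_v408 : Qt rels S := ed sl_dt s0_v407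
def s0_v409 : Qt rels S := ed sl_ft s0_v408
def s0_v410 : Qt rels S := ed sl_et s0_v409
def s0_v411 : Qt rels S := ed sl_dt s0_v410
def s0_v412 : Qt rels S := ed sl_bt s0_v411
def s0_v413 : Qt rels S := ed sl_ct s0_v412
def s0_v414 : Qt rels S := ed sl_dt s0_v413
def s0_v415 : Qt rels S := ed sl_it s0_v414
def s0_v416 : Qt rels S := ed sl_ht s0_v415
def s0_v417 : Qt rels S := ed sl_dt s0_v416
def s0_v418 : Qt rels S := ed sl_ft s0_v417
def s0_v419 : Qt rels S := ed sl_et s0_v418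
def s0_v420 : Qt rels S := ed sl_dt s0_v419
def s0_v421 : Qt rels S := ed sl_bt s0_v420
def s0_v422 : Qt rels S := ed sl_ct s0_v421
def s0_v423 : Qt rels S := ed sl_dt s0_v422
def s0_v424 : Qt rels S := ed sl_it s0_v423
def s0_v425 : Qt rels S := ed sl_ht s0_v424
def s0_v426 : Qt rels S := ed sl_dt s0_v425
def s0_v427 : Qt rels S := ed sl_ft s0_v426
def s0_v428 : Qt rels S := ed sl_et s0_v427
def s0_v429 : Qt rels S := ed sl_dt s0_v428
def s0_v430 : Qt rels S := ed sl_bt s0_v429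
def s0_v431 : Qt rels S := ed sl_ct s0_v430
def s0_v432 : Qt rels S := ed sl_dt s0_v431
def s0_v433 : Qt rels S := ed sl_it s0_v432
def s0_v434 : Qt rels S := ed sl_ht s0_v433
def s0_v435 : Qt rels S := ed sl_dt s0_v434
def s0_v436 : Qt rels S := ed sl_ft s0_v435
def s0_v437 : Qt rels S := ed sl_et s0_v436
def s0_v438 : Qt rels S := ed sl_dt s0_v437
def s0_v439 : Qt rels S := ed sl_bt s0_v438
def s0_v440 : Qt rels S := ed sl_ct s0_v439
def s0_v441 : Qt rels S := ed sl_dt s0_v440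
def s0_v442 : Qt rels S := ed sl_it s0_v441
def s0_v507 : Qt rels S := ed sl_ht sq2186
def s0_v508 : Qt rels S := ed sl_et s0_v507
def s0_v509 : Qt rels S := ed sl_dt s0_v508
def s0_v510 : Qt rels S := ed sl_ct s0_v509
def s0_v511 : Qt rels S := ed sl_bt s0_v510
def s0_v512 : Qt rels S := ed sl_at s0_v511
def s0_v513 : Qt rels S := ed sl_ht s0_v512
def s0_v514 : Qt rels S := ed sl_ft s0_v513
def s0_v515 : Qt rels S := ed sl_et s0_v514
def s0_v516 : Qt rels S := ed sl_dt s0_v515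
def relWi_0_s0 : Word Gen := [sl_af, sl_af]
theorem relone_inv_0_s0 : wG rels relWi_0_s0 = 1 :=
  relone_inv rels relW_0 relone_0
def relWi_1_s0 : Word Gen := [sl_bf, sl_af, sl_bf, sl_af, sl_bf, sl_af]
theorem relone_inv_1_s0 : wG rels relWi_1_s0 = 1 :=
  relone_inv rels relW_1 relone_1
def relWi_2_s0 : Word Gen := [sl_cf, sl_af, sl_cf, sl_af]
theorem relone_inv_2_s0 : wG rels relWi_2_s0 = 1 :=
  relone_inv rels relW_2 relone_2
def relWi_3_s0 : Word Gen := [sl_df, sl_af, sl_df, sl_af]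
theorem relone_inv_3_s0 : wG rels relWi_3_s0 = 1 :=
  relone_inv rels relW_3 relone_3
def relWi_4_s0 : Word Gen := [sl_ef, sl_af, sl_ef, sl_af]
theorem relone_inv_4_s0 : wG rels relWi_4_s0 = 1 :=
  relone_inv rels relW_4 relone_4
def relWi_6_s0 : Word Gen := [sl_ff, sl_af, sl_ff, sl_af]
theorem relone_inv_6_s0 : wG rels relWi_6_s0 = 1 :=
  relone_inv rels relW_6 relone_6
def relWi_8_s0 : Word Gen := [sl_if, sl_af, sl_if, sl_af]
theorem relone_inv_8_s0 : wG rels relWi_8_s0 = 1 :=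
  relone_inv rels relW_8 relone_8
def relWi_9_s0 : Word Gen := [sl_bf, sl_bf]
theorem relone_inv_9_s0 : wG rels relWi_9_s0 = 1 :=
  relone_inv rels relW_9 relone_9
def relWi_10_s0 : Word Gen := [sl_cf, sl_bf, sl_cf, sl_bf, sl_cf, sl_bf]
theorem relone_inv_10_s0 : wG rels relWi_10_s0 = 1 :=
  relone_inv rels relW_10 relone_10
def relWi_11_s0 : Word Gen := [sl_df, sl_bf, sl_df, sl_bf]
theorem relone_inv_11_s0 : wG rels relWi_11_s0 = 1 :=
  relone_inv rels relW_11 relone_11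
def relWi_12_s0 : Word Gen := [sl_ef, sl_bf, sl_ef, sl_bf]
theorem relone_inv_12_s0 : wG rels relWi_12_s0 = 1 :=
  relone_inv rels relW_12 relone_12
def relWi_13_s0 : Word Gen := [sl_hf, sl_bf, sl_hf, sl_bf]
theorem relone_inv_13_s0 : wG rels relWi_13_s0 = 1 :=
  relone_inv rels relW_13 relone_13
def relWi_14_s0 : Word Gen := [sl_ff, sl_bf, sl_ff, sl_bf]
theorem relone_inv_14_s0 : wG rels relWi_14_s0 = 1 :=
  relone_inv rels relW_14 relone_14
def relWi_16_s0 : Word Gen := [sl_if, sl_bf, sl_if, sl_bf]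
theorem relone_inv_16_s0 : wG rels relWi_16_s0 = 1 :=
  relone_inv rels relW_16 relone_16
def relWi_17_s0 : Word Gen := [sl_cf, sl_cf]
theorem relone_inv_17_s0 : wG rels relWi_17_s0 = 1 :=
  relone_inv rels relW_17 relone_17
def relWi_18_s0 : Word Gen := [sl_df, sl_cf, sl_df, sl_cf, sl_df, sl_cf]
theorem relone_inv_18_s0 : wG rels relWi_18_s0 = 1 :=
  relone_inv rels relW_18 relone_18
def relWi_19_s0 : Word Gen := [sl_ef, sl_cf, sl_ef, sl_cf]
theorem relone_inv_19_s0 : wG rels relWi_19_s0 = 1 :=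
  relone_inv rels relW_19 relone_19
def relWi_20_s0 : Word Gen := [sl_hf, sl_cf, sl_hf, sl_cf]
theorem relone_inv_20_s0 : wG rels relWi_20_s0 = 1 :=
  relone_inv rels relW_20 relone_20
def relWi_21_s0 : Word Gen := [sl_ff, sl_cf, sl_ff, sl_cf]
theorem relone_inv_21_s0 : wG rels relWi_21_s0 = 1 :=
  relone_inv rels relW_21 relone_21
def relWi_23_s0 : Word Gen := [sl_if, sl_cf, sl_if, sl_cf]
theorem relone_inv_23_s0 : wG rels relWi_23_s0 = 1 :=
  relone_inv rels relW_23 relone_23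
def relWi_24_s0 : Word Gen := [sl_df, sl_df]
theorem relone_inv_24_s0 : wG rels relWi_24_s0 = 1 :=
  relone_inv rels relW_24 relone_24
def relWi_25_s0 : Word Gen := [sl_ef, sl_df, sl_ef, sl_df, sl_ef, sl_df]
theorem relone_inv_25_s0 : wG rels relWi_25_s0 = 1 :=
  relone_inv rels relW_25 relone_25
def relWi_26_s0 : Word Gen := [sl_hf, sl_df, sl_hf, sl_df, sl_hf, sl_df]
theorem relone_inv_26_s0 : wG rels relWi_26_s0 = 1 :=
  relone_inv rels relW_26 relone_26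
def relWi_27_s0 : Word Gen := [sl_ff, sl_df, sl_ff, sl_df]
theorem relone_inv_27_s0 : wG rels relWi_27_s0 = 1 :=
  relone_inv rels relW_27 relone_27
def relWi_29_s0 : Word Gen := [sl_if, sl_df, sl_if, sl_df]
theorem relone_inv_29_s0 : wG rels relWi_29_s0 = 1 :=
  relone_inv rels relW_29 relone_29
def relWi_30_s0 : Word Gen := [sl_ef, sl_ef]
theorem relone_inv_30_s0 : wG rels relWi_30_s0 = 1 :=
  relone_inv rels relW_30 relone_30
def relWi_31_s0 : Word Gen := [sl_hf, sl_ef, sl_hf, sl_ef]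
theorem relone_inv_31_s0 : wG rels relWi_31_s0 = 1 :=
  relone_inv rels relW_31 relone_31
def relWi_32_s0 : Word Gen := [sl_ff, sl_ef, sl_ff, sl_ef, sl_ff, sl_ef]
theorem relone_inv_32_s0 : wG rels relWi_32_s0 = 1 :=
  relone_inv rels relW_32 relone_32
def relWi_34_s0 : Word Gen := [sl_if, sl_ef, sl_if, sl_ef]
theorem relone_inv_34_s0 : wG rels relWi_34_s0 = 1 :=
  relone_inv rels relW_34 relone_34
def relWi_35_s0 : Word Gen := [sl_hf, sl_hf]
theorem relone_inv_35_s0 : wG rels relWi_35_s0 = 1 :=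
  relone_inv rels relW_35 relone_35
def relWi_37_s0 : Word Gen := [sl_hf, sl_ff, sl_hf, sl_ff]
theorem relone_inv_37_s0 : wG rels relWi_37_s0 = 1 :=
  relone_inv rels relW_37 relone_37
def relWi_38_s0 : Word Gen := [sl_ff, sl_ff]
theorem relone_inv_38_s0 : wG rels relWi_38_s0 = 1 :=
  relone_inv rels relW_38 relone_38
def relWi_40_s0 : Word Gen := [sl_if, sl_ff, sl_if, sl_ff]
theorem relone_inv_40_s0 : wG rels relWi_40_s0 = 1 :=
  relone_inv rels relW_40 relone_40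
def relWi_44_s0 : Word Gen := [sl_if, sl_if]
theorem relone_inv_44_s0 : wG rels relWi_44_s0 = 1 :=
  relone_inv rels relW_44 relone_44
def relWi_45_s0 : Word Gen := [sl_if, sl_hf, sl_df, sl_ff, sl_ef, sl_df, sl_bf, sl_cf, sl_df, sl_if, sl_hf, sl_df, sl_ff, sl_ef, sl_df, sl_bf, sl_cf, sl_df, sl_if, sl_hf, sl_df, sl_ff, sl_ef, sl_df, sl_bf, sl_cf, sl_df, sl_if, sl_hf, sl_df, sl_ff, sl_ef, sl_df, sl_bf, sl_cf, sl_df, sl_if, sl_hf, sl_df, sl_ff, sl_ef, sl_df, sl_bf, sl_cf, sl_df, sl_if, sl_hf, sl_df, sl_ff, sl_ef, sl_df, sl_bf, sl_cf, sl_df, sl_if, sl_hf, sl_df, sl_ff, sl_ef, sl_df, sl_bf, sl_cf, sl_df, sl_if, sl_hf, sl_df, sl_ff, sl_ef, sl_df, sl_bf, sl_cf, sl_df, sl_if, sl_hf, sl_df, sl_ff, sl_ef, sl_df, sl_bf, sl_cf, sl_df, sl_if, sl_hf, sl_df, sl_ff, sl_ef, sl_df, sl_bf, sl_cf, sl_df]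
theorem relone_inv_45_s0 : wG rels relWi_45_s0 = 1 :=
  relone_inv rels relW_45 relone_45
def relWi_46_s0 : Word Gen := [sl_hf, sl_ff, sl_ef, sl_df, sl_cf, sl_bf, sl_af, sl_hf, sl_ff, sl_ef, sl_df, sl_cf, sl_bf, sl_af, sl_hf, sl_ff, sl_ef, sl_df, sl_cf, sl_bf, sl_af, sl_hf, sl_ff, sl_ef, sl_df, sl_cf, sl_bf, sl_af, sl_hf, sl_ff, sl_ef, sl_df, sl_cf, sl_bf, sl_af, sl_hf, sl_ff, sl_ef, sl_df, sl_cf, sl_bf, sl_af, sl_hf, sl_ff, sl_ef, sl_df, sl_cf, sl_bf, sl_af, sl_hf, sl_ff, sl_ef, sl_df, sl_cf, sl_bf, sl_af, sl_hf, sl_ff, sl_ef, sl_df, sl_cf, sl_bf, sl_af]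
theorem relone_inv_46_s0 : wG rels relWi_46_s0 = 1 :=
  relone_inv rels relW_46 relone_46
theorem s0_rot0 : wG rels [sl_ff, sl_ff] = 1 :=
  wG_of_rotate rels relWi_38_s0 [sl_ff, sl_ff] 0 (by decide +kernel) relone_inv_38_s0
theorem s0_rot1 : wG rels [sl_ct, sl_ft, sl_ct, sl_ft] = 1 :=
  wG_of_rotate rels relW_21 [sl_ct, sl_ft, sl_ct, sl_ft] 0 (by decide +kernel) relone_21
theorem s0_rot2 : wG rels [sl_ht, sl_ft, sl_ht, sl_ft] = 1 :=
  wG_of_rotate rels relW_37 [sl_ht, sl_ft, sl_ht, sl_ft] 1 (by decide +kernel) relone_37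
theorem s0_rot3 : wG rels [sl_ef, sl_ef] = 1 :=
  wG_of_rotate rels relWi_30_s0 [sl_ef, sl_ef] 0 (by decide +kernel) relone_inv_30_s0
theorem s0_rot4 : wG rels [sl_ct, sl_et, sl_ct, sl_et] = 1 :=
  wG_of_rotate rels relW_19 [sl_ct, sl_et, sl_ct, sl_et] 0 (by decide +kernel) relone_19
theorem s0_rot5 : wG rels [sl_df, sl_df] = 1 :=
  wG_of_rotate rels relWi_24_s0 [sl_df, sl_df] 0 (by decide +kernel) relone_inv_24_s0
theorem s0_rot6 : wG rels [sl_af, sl_ff, sl_af, sl_ff] = 1 :=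
  wG_of_rotate rels relWi_6_s0 [sl_af, sl_ff, sl_af, sl_ff] 1 (by decide +kernel) relone_inv_6_s0
theorem s0_rot7 : wG rels [sl_dt, sl_ft, sl_dt, sl_ft] = 1 :=
  wG_of_rotate rels relW_27 [sl_dt, sl_ft, sl_dt, sl_ft] 0 (by decide +kernel) relone_27
theorem s0_rot8 : wG rels [sl_ef, sl_df, sl_ef, sl_df, sl_ef, sl_df] = 1 :=
  wG_of_rotate rels relWi_25_s0 [sl_ef, sl_df, sl_ef, sl_df, sl_ef, sl_df] 0 (by decide +kernel) relone_inv_25_s0
theorem s0_rot9 : wG rels [sl_bf, sl_bf] = 1 :=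
  wG_of_rotate rels relWi_9_s0 [sl_bf, sl_bf] 0 (by decide +kernel) relone_inv_9_s0
theorem s0_rot10 : wG rels [sl_cf, sl_cf] = 1 :=
  wG_of_rotate rels relWi_17_s0 [sl_cf, sl_cf] 0 (by decide +kernel) relone_inv_17_s0
theorem s0_rot11 : wG rels [sl_af, sl_cf, sl_af, sl_cf] = 1 :=
  wG_of_rotate rels relWi_2_s0 [sl_af, sl_cf, sl_af, sl_cf] 1 (by decide +kernel) relone_inv_2_s0
theorem s0_rot12 : wG rels [sl_hf, sl_cf, sl_hf, sl_cf] = 1 :=
  wG_of_rotate rels relWi_20_s0 [sl_hf, sl_cf, sl_hf, sl_cf] 0 (by decide +kernel) relone_inv_20_s0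
theorem s0_rot13 : wG rels [sl_if, sl_cf, sl_if, sl_cf] = 1 :=
  wG_of_rotate rels relWi_23_s0 [sl_if, sl_cf, sl_if, sl_cf] 0 (by decide +kernel) relone_inv_23_s0
theorem s0_rot14 : wG rels [sl_at, sl_it, sl_at, sl_it] = 1 :=
  wG_of_rotate rels relW_8 [sl_at, sl_it, sl_at, sl_it] 0 (by decide +kernel) relone_8
theorem s0_rot15 : wG rels [sl_af, sl_df, sl_af, sl_df] = 1 :=
  wG_of_rotate rels relWi_3_s0 [sl_af, sl_df, sl_af, sl_df] 1 (by decide +kernel) relone_inv_3_s0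
theorem s0_rot16 : wG rels [sl_if, sl_df, sl_if, sl_df] = 1 :=
  wG_of_rotate rels relWi_29_s0 [sl_if, sl_df, sl_if, sl_df] 0 (by decide +kernel) relone_inv_29_s0
theorem s0_rot17 : wG rels [sl_ef, sl_af, sl_ef, sl_af] = 1 :=
  wG_of_rotate rels relWi_4_s0 [sl_ef, sl_af, sl_ef, sl_af] 0 (by decide +kernel) relone_inv_4_s0
theorem s0_rot18 : wG rels [sl_hf, sl_hf] = 1 :=
  wG_of_rotate rels relWi_35_s0 [sl_hf, sl_hf] 0 (by decide +kernel) relone_inv_35_s0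
theorem s0_rot19 : wG rels [sl_dt, sl_ht, sl_dt, sl_ht, sl_dt, sl_ht] = 1 :=
  wG_of_rotate rels relW_26 [sl_dt, sl_ht, sl_dt, sl_ht, sl_dt, sl_ht] 0 (by decide +kernel) relone_26
theorem s0_rot20 : wG rels [sl_et, sl_ht, sl_et, sl_ht] = 1 :=
  wG_of_rotate rels relW_31 [sl_et, sl_ht, sl_et, sl_ht] 0 (by decide +kernel) relone_31
theorem s0_rot21 : wG rels [sl_ff, sl_ef, sl_ff, sl_ef, sl_ff, sl_ef] = 1 :=
  wG_of_rotate rels relWi_32_s0 [sl_ff, sl_ef, sl_ff, sl_ef, sl_ff, sl_ef] 0 (by decide +kernel) relone_inv_32_s0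
theorem s0_rot22 : wG rels [sl_ff, sl_df, sl_ff, sl_df] = 1 :=
  wG_of_rotate rels relWi_27_s0 [sl_ff, sl_df, sl_ff, sl_df] 0 (by decide +kernel) relone_inv_27_s0
theorem s0_rot23 : wG rels [sl_ff, sl_bf, sl_ff, sl_bf] = 1 :=
  wG_of_rotate rels relWi_14_s0 [sl_ff, sl_bf, sl_ff, sl_bf] 0 (by decide +kernel) relone_inv_14_s0
theorem s0_rot24 : wG rels [sl_ff, sl_cf, sl_ff, sl_cf] = 1 :=
  wG_of_rotate rels relWi_21_s0 [sl_ff, sl_cf, sl_ff, sl_cf] 0 (by decide +kernel) relone_inv_21_s0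
theorem s0_rot25 : wG rels [sl_if, sl_if] = 1 :=
  wG_of_rotate rels relWi_44_s0 [sl_if, sl_if] 0 (by decide +kernel) relone_inv_44_s0
theorem s0_rot26 : wG rels [sl_ft, sl_it, sl_ft, sl_it] = 1 :=
  wG_of_rotate rels relW_40 [sl_ft, sl_it, sl_ft, sl_it] 0 (by decide +kernel) relone_40
theorem s0_rot27 : wG rels [sl_ff, sl_hf, sl_ff, sl_hf] = 1 :=
  wG_of_rotate rels relWi_37_s0 [sl_ff, sl_hf, sl_ff, sl_hf] 1 (by decide +kernel) relone_inv_37_s0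
theorem s0_rot28 : wG rels [sl_ef, sl_df, sl_bf, sl_cf, sl_df, sl_if, sl_hf, sl_df, sl_ff, sl_ef, sl_df, sl_bf, sl_cf, sl_df, sl_if, sl_hf, sl_df, sl_ff, sl_ef, sl_df, sl_bf, sl_cf, sl_df, sl_if, sl_hf, sl_df, sl_ff, sl_ef, sl_df, sl_bf, sl_cf, sl_df, sl_if, sl_hf, sl_df, sl_ff, sl_ef, sl_df, sl_bf, sl_cf, sl_df, sl_if, sl_hf, sl_df, sl_ff, sl_ef, sl_df, sl_bf, sl_cf, sl_df, sl_if, sl_hf, sl_df, sl_ff, sl_ef, sl_df, sl_bf, sl_cf, sl_df, sl_if, sl_hf, sl_df, sl_ff, sl_ef, sl_df, sl_bf, sl_cf, sl_df, sl_if, sl_hf, sl_df, sl_ff, sl_ef, sl_df, sl_bf, sl_cf, sl_df, sl_if, sl_hf, sl_df, sl_ff, sl_ef, sl_df, sl_bf, sl_cf, sl_df, sl_if, sl_hf, sl_df, sl_ff] = 1 :=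
  wG_of_rotate rels relWi_45_s0 [sl_ef, sl_df, sl_bf, sl_cf, sl_df, sl_if, sl_hf, sl_df, sl_ff, sl_ef, sl_df, sl_bf, sl_cf, sl_df, sl_if, sl_hf, sl_df, sl_ff, sl_ef, sl_df, sl_bf, sl_cf, sl_df, sl_if, sl_hf, sl_df, sl_ff, sl_ef, sl_df, sl_bf, sl_cf, sl_df, sl_if, sl_hf, sl_df, sl_ff, sl_ef, sl_df, sl_bf, sl_cf, sl_df, sl_if, sl_hf, sl_df, sl_ff, sl_ef, sl_df, sl_bf, sl_cf, sl_df, sl_if, sl_hf, sl_df, sl_ff, sl_ef, sl_df, sl_bf, sl_cf, sl_df, sl_if, sl_hf, sl_df, sl_ff, sl_ef, sl_df, sl_bf, sl_cf, sl_df, sl_if, sl_hf, sl_df, sl_ff, sl_ef, sl_df, sl_bf, sl_cf, sl_df, sl_if, sl_hf, sl_df, sl_ff, sl_ef, sl_df, sl_bf, sl_cf, sl_df, sl_if, sl_hf, sl_df, sl_ff] 4 (by decide +kernel) relone_inv_45_s0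
theorem s0_rot29 : wG rels [sl_et, sl_et] = 1 :=
  wG_of_rotate rels relW_30 [sl_et, sl_et] 0 (by decide +kernel) relone_30
theorem s0_rot30 : wG rels [sl_ht, sl_et, sl_ht, sl_et] = 1 :=
  wG_of_rotate rels relW_31 [sl_ht, sl_et, sl_ht, sl_et] 1 (by decide +kernel) relone_31
theorem s0_rot31 : wG rels [sl_it, sl_et, sl_it, sl_et] = 1 :=
  wG_of_rotate rels relW_34 [sl_it, sl_et, sl_it, sl_et] 1 (by decide +kernel) relone_34
theorem s0_rot32 : wG rels [sl_if, sl_ff, sl_if, sl_ff] = 1 :=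
  wG_of_rotate rels relWi_40_s0 [sl_if, sl_ff, sl_if, sl_ff] 0 (by decide +kernel) relone_inv_40_s0
theorem s0_rot33 : wG rels [sl_at, sl_ht, sl_at, sl_ht] = 1 :=
  wG_of_rotate rels relW_5 [sl_at, sl_ht, sl_at, sl_ht] 0 (by decide +kernel) relone_5
theorem s0_rot34 : wG rels [sl_at, sl_ft, sl_at, sl_ft] = 1 :=
  wG_of_rotate rels relW_6 [sl_at, sl_ft, sl_at, sl_ft] 0 (by decide +kernel) relone_6
theorem s0_rot35 : wG rels [sl_at, sl_et, sl_at, sl_et] = 1 :=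
  wG_of_rotate rels relW_4 [sl_at, sl_et, sl_at, sl_et] 0 (by decide +kernel) relone_4
theorem s0_rot36 : wG rels [sl_at, sl_dt, sl_at, sl_dt] = 1 :=
  wG_of_rotate rels relW_3 [sl_at, sl_dt, sl_at, sl_dt] 0 (by decide +kernel) relone_3
theorem s0_rot37 : wG rels [sl_at, sl_ct, sl_at, sl_ct] = 1 :=
  wG_of_rotate rels relW_2 [sl_at, sl_ct, sl_at, sl_ct] 0 (by decide +kernel) relone_2
theorem s0_rot38 : wG rels [sl_af, sl_af] = 1 :=
  wG_of_rotate rels relWi_0_s0 [sl_af, sl_af] 0 (by decide +kernel) relone_inv_0_s0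
theorem s0_rot39 : wG rels [sl_bf, sl_af, sl_bf, sl_af, sl_bf, sl_af] = 1 :=
  wG_of_rotate rels relWi_1_s0 [sl_bf, sl_af, sl_bf, sl_af, sl_bf, sl_af] 0 (by decide +kernel) relone_inv_1_s0
theorem s0_rot40 : wG rels [sl_bt, sl_ht, sl_bt, sl_ht] = 1 :=
  wG_of_rotate rels relW_13 [sl_bt, sl_ht, sl_bt, sl_ht] 0 (by decide +kernel) relone_13
theorem s0_rot41 : wG rels [sl_bt, sl_ft, sl_bt, sl_ft] = 1 :=
  wG_of_rotate rels relW_14 [sl_bt, sl_ft, sl_bt, sl_ft] 0 (by decide +kernel) relone_14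
theorem s0_rot42 : wG rels [sl_bt, sl_et, sl_bt, sl_et] = 1 :=
  wG_of_rotate rels relW_12 [sl_bt, sl_et, sl_bt, sl_et] 0 (by decide +kernel) relone_12
theorem s0_rot43 : wG rels [sl_bt, sl_dt, sl_bt, sl_dt] = 1 :=
  wG_of_rotate rels relW_11 [sl_bt, sl_dt, sl_bt, sl_dt] 0 (by decide +kernel) relone_11
theorem s0_rot44 : wG rels [sl_cf, sl_bf, sl_cf, sl_bf, sl_cf, sl_bf] = 1 :=
  wG_of_rotate rels relWi_10_s0 [sl_cf, sl_bf, sl_cf, sl_bf, sl_cf, sl_bf] 0 (by decide +kernel) relone_inv_10_s0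
theorem s0_rot45 : wG rels [sl_cf, sl_af, sl_cf, sl_af] = 1 :=
  wG_of_rotate rels relWi_2_s0 [sl_cf, sl_af, sl_cf, sl_af] 0 (by decide +kernel) relone_inv_2_s0
theorem s0_rot46 : wG rels [sl_ef, sl_df, sl_cf, sl_bf, sl_af, sl_hf, sl_ff, sl_ef, sl_df, sl_cf, sl_bf, sl_af, sl_hf, sl_ff, sl_ef, sl_df, sl_cf, sl_bf, sl_af, sl_hf, sl_ff, sl_ef, sl_df, sl_cf, sl_bf, sl_af, sl_hf, sl_ff, sl_ef, sl_df, sl_cf, sl_bf, sl_af, sl_hf, sl_ff, sl_ef, sl_df, sl_cf, sl_bf, sl_af, sl_hf, sl_ff, sl_ef, sl_df, sl_cf, sl_bf, sl_af, sl_hf, sl_ff, sl_ef, sl_df, sl_cf, sl_bf, sl_af, sl_hf, sl_ff, sl_ef, sl_df, sl_cf, sl_bf, sl_af, sl_hf, sl_ff] = 1 :=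
  wG_of_rotate rels relWi_46_s0 [sl_ef, sl_df, sl_cf, sl_bf, sl_af, sl_hf, sl_ff, sl_ef, sl_df, sl_cf, sl_bf, sl_af, sl_hf, sl_ff, sl_ef, sl_df, sl_cf, sl_bf, sl_af, sl_hf, sl_ff, sl_ef, sl_df, sl_cf, sl_bf, sl_af, sl_hf, sl_ff, sl_ef, sl_df, sl_cf, sl_bf, sl_af, sl_hf, sl_ff, sl_ef, sl_df, sl_cf, sl_bf, sl_af, sl_hf, sl_ff, sl_ef, sl_df, sl_cf, sl_bf, sl_af, sl_hf, sl_ff, sl_ef, sl_df, sl_cf, sl_bf, sl_af, sl_hf, sl_ff, sl_ef, sl_df, sl_cf, sl_bf, sl_af, sl_hf, sl_ff] 2 (by decide +kernel) relone_inv_46_s0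
theorem s0_rot47 : wG rels [sl_et, sl_ft, sl_et, sl_ft, sl_et, sl_ft] = 1 :=
  wG_of_rotate rels relW_32 [sl_et, sl_ft, sl_et, sl_ft, sl_et, sl_ft] 0 (by decide +kernel) relone_32
theorem s0_rot48 : wG rels [sl_ef, sl_hf, sl_ef, sl_hf] = 1 :=
  wG_of_rotate rels relWi_31_s0 [sl_ef, sl_hf, sl_ef, sl_hf] 1 (by decide +kernel) relone_inv_31_s0
theorem s0_rot49 : wG rels [sl_et, sl_ct, sl_et, sl_ct] = 1 :=
  wG_of_rotate rels relW_19 [sl_et, sl_ct, sl_et, sl_ct] 1 (by decide +kernel) relone_19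
theorem s0_rot50 : wG rels [sl_ft, sl_et, sl_ft, sl_et, sl_ft, sl_et] = 1 :=
  wG_of_rotate rels relW_32 [sl_ft, sl_et, sl_ft, sl_et, sl_ft, sl_et] 1 (by decide +kernel) relone_32
theorem s0_rot51 : wG rels [sl_df, sl_bf, sl_df, sl_bf] = 1 :=
  wG_of_rotate rels relWi_11_s0 [sl_df, sl_bf, sl_df, sl_bf] 0 (by decide +kernel) relone_inv_11_s0
theorem s0_rot52 : wG rels [sl_ct, sl_dt, sl_ct, sl_dt, sl_ct, sl_dt] = 1 :=
  wG_of_rotate rels relW_18 [sl_ct, sl_dt, sl_ct, sl_dt, sl_ct, sl_dt] 0 (by decide +kernel) relone_18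
theorem s0_rot53 : wG rels [sl_df, sl_ff, sl_df, sl_ff] = 1 :=
  wG_of_rotate rels relWi_27_s0 [sl_df, sl_ff, sl_df, sl_ff] 1 (by decide +kernel) relone_inv_27_s0
theorem s0_rot54 : wG rels [sl_ht, sl_dt, sl_ht, sl_dt, sl_ht, sl_dt] = 1 :=
  wG_of_rotate rels relW_26 [sl_ht, sl_dt, sl_ht, sl_dt, sl_ht, sl_dt] 1 (by decide +kernel) relone_26
theorem s0_rot55 : wG rels [sl_bf, sl_hf, sl_bf, sl_hf] = 1 :=
  wG_of_rotate rels relWi_13_s0 [sl_bf, sl_hf, sl_bf, sl_hf] 1 (by decide +kernel) relone_inv_13_s0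
theorem s0_rot56 : wG rels [sl_bf, sl_ef, sl_bf, sl_ef] = 1 :=
  wG_of_rotate rels relWi_12_s0 [sl_bf, sl_ef, sl_bf, sl_ef] 1 (by decide +kernel) relone_inv_12_s0
theorem s0_rot57 : wG rels [sl_ct, sl_ct] = 1 :=
  wG_of_rotate rels relW_17 [sl_ct, sl_ct] 0 (by decide +kernel) relone_17
theorem s0_rot58 : wG rels [sl_cf, sl_hf, sl_cf, sl_hf] = 1 :=
  wG_of_rotate rels relWi_20_s0 [sl_cf, sl_hf, sl_cf, sl_hf] 1 (by decide +kernel) relone_inv_20_s0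
theorem s0_rot59 : wG rels [sl_ef, sl_cf, sl_ef, sl_cf] = 1 :=
  wG_of_rotate rels relWi_19_s0 [sl_ef, sl_cf, sl_ef, sl_cf] 0 (by decide +kernel) relone_inv_19_s0
theorem s0_rot60 : wG rels [sl_df, sl_af, sl_df, sl_af] = 1 :=
  wG_of_rotate rels relWi_3_s0 [sl_df, sl_af, sl_df, sl_af] 0 (by decide +kernel) relone_inv_3_s0
theorem s0_rot61 : wG rels [sl_dt, sl_et, sl_dt, sl_et, sl_dt, sl_et] = 1 :=
  wG_of_rotate rels relW_25 [sl_dt, sl_et, sl_dt, sl_et, sl_dt, sl_et] 0 (by decide +kernel) relone_25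
theorem s0_rot62 : wG rels [sl_hf, sl_df, sl_hf, sl_df, sl_hf, sl_df] = 1 :=
  wG_of_rotate rels relWi_26_s0 [sl_hf, sl_df, sl_hf, sl_df, sl_hf, sl_df] 0 (by decide +kernel) relone_inv_26_s0
theorem s0_rot63 : wG rels [sl_ft, sl_ht, sl_ft, sl_ht] = 1 :=
  wG_of_rotate rels relW_37 [sl_ft, sl_ht, sl_ft, sl_ht] 0 (by decide +kernel) relone_37
theorem s0_rot64 : wG rels [sl_ff, sl_af, sl_ff, sl_af] = 1 :=
  wG_of_rotate rels relWi_6_s0 [sl_ff, sl_af, sl_ff, sl_af] 0 (by decide +kernel) relone_inv_6_s0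
theorem s0_rot65 : wG rels [sl_af, sl_hf, sl_ff, sl_ef, sl_df, sl_cf, sl_bf, sl_af, sl_hf, sl_ff, sl_ef, sl_df, sl_cf, sl_bf, sl_af, sl_hf, sl_ff, sl_ef, sl_df, sl_cf, sl_bf, sl_af, sl_hf, sl_ff, sl_ef, sl_df, sl_cf, sl_bf, sl_af, sl_hf, sl_ff, sl_ef, sl_df, sl_cf, sl_bf, sl_af, sl_hf, sl_ff, sl_ef, sl_df, sl_cf, sl_bf, sl_af, sl_hf, sl_ff, sl_ef, sl_df, sl_cf, sl_bf, sl_af, sl_hf, sl_ff, sl_ef, sl_df, sl_cf, sl_bf, sl_af, sl_hf, sl_ff, sl_ef, sl_df, sl_cf, sl_bf] = 1 :=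
  wG_of_rotate rels relWi_46_s0 [sl_af, sl_hf, sl_ff, sl_ef, sl_df, sl_cf, sl_bf, sl_af, sl_hf, sl_ff, sl_ef, sl_df, sl_cf, sl_bf, sl_af, sl_hf, sl_ff, sl_ef, sl_df, sl_cf, sl_bf, sl_af, sl_hf, sl_ff, sl_ef, sl_df, sl_cf, sl_bf, sl_af, sl_hf, sl_ff, sl_ef, sl_df, sl_cf, sl_bf, sl_af, sl_hf, sl_ff, sl_ef, sl_df, sl_cf, sl_bf, sl_af, sl_hf, sl_ff, sl_ef, sl_df, sl_cf, sl_bf, sl_af, sl_hf, sl_ff, sl_ef, sl_df, sl_cf, sl_bf, sl_af, sl_hf, sl_ff, sl_ef, sl_df, sl_cf, sl_bf] 6 (by decide +kernel) relone_inv_46_s0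
theorem s0_rot66 : wG rels [sl_at, sl_at] = 1 :=
  wG_of_rotate rels relW_0 [sl_at, sl_at] 0 (by decide +kernel) relone_0
theorem s0_rot67 : wG rels [sl_ht, sl_at, sl_ht, sl_at] = 1 :=
  wG_of_rotate rels relW_5 [sl_ht, sl_at, sl_ht, sl_at] 1 (by decide +kernel) relone_5
theorem s0_rot68 : wG rels [sl_ft, sl_at, sl_ft, sl_at] = 1 :=
  wG_of_rotate rels relW_6 [sl_ft, sl_at, sl_ft, sl_at] 1 (by decide +kernel) relone_6
theorem s0_rot69 : wG rels [sl_it, sl_at, sl_it, sl_at] = 1 :=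
  wG_of_rotate rels relW_8 [sl_it, sl_at, sl_it, sl_at] 1 (by decide +kernel) relone_8
theorem s0_rot70 : wG rels [sl_bt, sl_at, sl_bt, sl_at, sl_bt, sl_at] = 1 :=
  wG_of_rotate rels relW_1 [sl_bt, sl_at, sl_bt, sl_at, sl_bt, sl_at] 1 (by decide +kernel) relone_1
theorem s0_rot71 : wG rels [sl_ff, sl_if, sl_ff, sl_if] = 1 :=
  wG_of_rotate rels relWi_40_s0 [sl_ff, sl_if, sl_ff, sl_if] 1 (by decide +kernel) relone_inv_40_s0
theorem s0_rot72 : wG rels [sl_if, sl_bf, sl_if, sl_bf] = 1 :=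
  wG_of_rotate rels relWi_16_s0 [sl_if, sl_bf, sl_if, sl_bf] 0 (by decide +kernel) relone_inv_16_s0
theorem s0_rot73 : wG rels [sl_dt, sl_it, sl_dt, sl_it] = 1 :=
  wG_of_rotate rels relW_29 [sl_dt, sl_it, sl_dt, sl_it] 0 (by decide +kernel) relone_29
theorem s0_rot74 : wG rels [sl_df, sl_cf, sl_df, sl_cf, sl_df, sl_cf] = 1 :=
  wG_of_rotate rels relWi_18_s0 [sl_df, sl_cf, sl_df, sl_cf, sl_df, sl_cf] 0 (by decide +kernel) relone_inv_18_s0
theorem s0_rot75 : wG rels [sl_hf, sl_df, sl_ff, sl_ef, sl_df, sl_bf, sl_cf, sl_df, sl_if, sl_hf, sl_df, sl_ff, sl_ef, sl_df, sl_bf, sl_cf, sl_df, sl_if, sl_hf, sl_df, sl_ff, sl_ef, sl_df, sl_bf, sl_cf, sl_df, sl_if, sl_hf, sl_df, sl_ff, sl_ef, sl_df, sl_bf, sl_cf, sl_df, sl_if, sl_hf, sl_df, sl_ff, sl_ef, sl_df, sl_bf, sl_cf, sl_df, sl_if, sl_hf, sl_df, sl_ff, sl_ef, sl_df, sl_bf, sl_cf, sl_df, sl_if, sl_hf, sl_df, sl_ff, sl_ef, sl_df, sl_bf, sl_cf, sl_df,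 sl_if, sl_hf, sl_df, sl_ff, sl_ef, sl_df, sl_bf, sl_cf, sl_df, sl_if, sl_hf, sl_df, sl_ff, sl_ef, sl_df, sl_bf, sl_cf, sl_df, sl_if, sl_hf, sl_df, sl_ff, sl_ef, sl_df, sl_bf, sl_cf, sl_df, sl_if] = 1 :=
  wG_of_rotate rels relWi_45_s0 [sl_hf, sl_df, sl_ff, sl_ef, sl_df, sl_bf, sl_cf, sl_df, sl_if, sl_hf, sl_df, sl_ff, sl_ef, sl_df, sl_bf, sl_cf, sl_df, sl_if, sl_hf, sl_df, sl_ff, sl_ef, sl_df, sl_bf, sl_cf, sl_df, sl_if, sl_hf, sl_df, sl_ff, sl_ef, sl_df, sl_bf, sl_cf, sl_df, sl_if, sl_hf, sl_df, sl_ff, sl_ef, sl_df, sl_bf, sl_cf, sl_df, sl_if, sl_hf, sl_df, sl_ff, sl_ef, sl_df, sl_bf, sl_cf, sl_df, sl_if, sl_hf, sl_df, sl_ff, sl_ef, sl_df, sl_bf, sl_cf, sl_df, sl_if, sl_hf, sl_df, sl_ff, sl_ef, sl_df, sl_bf, sl_cf, sl_df, sl_if, sl_hf, sl_df, sl_ff, sl_ef, sl_df, sl_bf, sl_cf, sl_df, sl_if, sl_hf, sl_df, sl_ff, sl_ef, sl_df, sl_bf, sl_cf, sl_df, sl_if] 1 (by decide +kernel) relone_inv_45_s0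
theorem s0_rot76 : wG rels [sl_bf, sl_ff, sl_bf, sl_ff] = 1 :=
  wG_of_rotate rels relWi_14_s0 [sl_bf, sl_ff, sl_bf, sl_ff] 1 (by decide +kernel) relone_inv_14_s0
theorem s0_rot77 : wG rels [sl_cf, sl_bf, sl_af, sl_hf, sl_ff, sl_ef, sl_df, sl_cf, sl_bf, sl_af, sl_hf, sl_ff, sl_ef, sl_df, sl_cf, sl_bf, sl_af, sl_hf, sl_ff, sl_ef, sl_df, sl_cf, sl_bf, sl_af, sl_hf, sl_ff, sl_ef, sl_df, sl_cf, sl_bf, sl_af, sl_hf, sl_ff, sl_ef, sl_df, sl_cf, sl_bf, sl_af, sl_hf, sl_ff, sl_ef, sl_df, sl_cf, sl_bf, sl_af, sl_hf, sl_ff, sl_ef, sl_df, sl_cf, sl_bf, sl_af, sl_hf, sl_ff, sl_ef, sl_df, sl_cf, sl_bf, sl_af, sl_hf, sl_ff, sl_ef, sl_df] = 1 :=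
  wG_of_rotate rels relWi_46_s0 [sl_cf, sl_bf, sl_af, sl_hf, sl_ff, sl_ef, sl_df, sl_cf, sl_bf, sl_af, sl_hf, sl_ff, sl_ef, sl_df, sl_cf, sl_bf, sl_af, sl_hf, sl_ff, sl_ef, sl_df, sl_cf, sl_bf, sl_af, sl_hf, sl_ff, sl_ef, sl_df, sl_cf, sl_bf, sl_af, sl_hf, sl_ff, sl_ef, sl_df, sl_cf, sl_bf, sl_af, sl_hf, sl_ff, sl_ef, sl_df, sl_cf, sl_bf, sl_af, sl_hf, sl_ff, sl_ef, sl_df, sl_cf, sl_bf, sl_af, sl_hf, sl_ff, sl_ef, sl_df, sl_cf, sl_bf, sl_af, sl_hf, sl_ff, sl_ef, sl_df] 4 (by decide +kernel) relone_inv_46_s0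
theorem s0_rot78 : wG rels [sl_ft, sl_ct, sl_ft, sl_ct] = 1 :=
  wG_of_rotate rels relW_21 [sl_ft, sl_ct, sl_ft, sl_ct] 1 (by decide +kernel) relone_21
theorem s0_rot79 : wG rels [sl_if, sl_af, sl_if, sl_af] = 1 :=
  wG_of_rotate rels relWi_8_s0 [sl_if, sl_af, sl_if, sl_af] 0 (by decide +kernel) relone_inv_8_s0
theorem s0_rot80 : wG rels [sl_it, sl_bt, sl_it, sl_bt] = 1 :=
  wG_of_rotate rels relW_16 [sl_it, sl_bt, sl_it, sl_bt] 1 (by decide +kernel) relone_16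
theorem s0_rot81 : wG rels [sl_it, sl_dt, sl_it, sl_dt] = 1 :=
  wG_of_rotate rels relW_29 [sl_it, sl_dt, sl_it, sl_dt] 1 (by decide +kernel) relone_29
theorem s0_rot82 : wG rels [sl_if, sl_ef, sl_if, sl_ef] = 1 :=
  wG_of_rotate rels relWi_34_s0 [sl_if, sl_ef, sl_if, sl_ef] 0 (by decide +kernel) relone_inv_34_s0
theorem s0_rot83 : wG rels [sl_ht, sl_it, sl_ht, sl_it, sl_ht, sl_it] = 1 :=
  wG_of_rotate rels relW_36 [sl_ht, sl_it, sl_ht, sl_it, sl_ht, sl_it] 0 (by decide +kernel) relone_36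

section Seed0
variable (IH : ∀ y q, lvl y q < 54 → EntryOK rels S fwd inv o plet idx y q)
include IH

theorem s0_f52 : ed sl_ct sq31 = sq22 :=
  real_edge rels S fwd inv o lvl plet idx 54 IH Gen.c sp31 sp22 rfl rfl
theorem s0_f74 : ed sl_ht sq25 = sq37 :=
  real_edge rels S fwd inv o lvl plet idx 54 IH Gen.h sp25 sp37 rfl rfl
theorem s0_f87 : ed sl_dt sq23 = sq16 :=
  real_edge rels S fwd inv o lvl plet idx 54 IH Gen.d sp23 sp16 rfl rfl
theorem s0_f90 : ed sl_dt sq46 = sq46 :=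
  real_edge rels S fwd inv o lvl plet idx 54 IH Gen.d sp46 sp46 rfl rfl
theorem s0_f93 : ed sl_dt sq95 = sq66 :=
  real_edge rels S fwd inv o lvl plet idx 54 IH Gen.d sp95 sp66 rfl rfl
theorem s0_f101 : ed sl_ft sq528 = s0_v0 :=
  rfl
theorem s0_f103 : ed sl_ct sq528 = sq528 :=
  real_edge rels S fwd inv o lvl plet idx 54 IH Gen.c sp528 sp528 rfl rfl
theorem s0_f105 : ed sl_ft sq861 = sq669 :=
  real_edge rels S fwd inv o lvl plet idx 54 IH Gen.f sp861 sp669 rfl rfl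
theorem s0_f107 : ed sl_ft sq527 = sq404 :=
  real_edge rels S fwd inv o lvl plet idx 54 IH Gen.f sp527 sp404 rfl rfl
theorem s0_f101r : ed sl_ff s0_v0 = sq528 :=
  edge_flip (s0_f101 IH)
theorem s0_f109 : ed sl_ff sq528 = s0_v0 :=
  gap_rel s0_rot0 (path_edge (s0_f101r IH) (path_nil s0_v0))
theorem s0_f139 : ed sl_ht sq186 = sq140 :=
  real_edge rels S fwd inv o lvl plet idx 54 IH Gen.h sp186 sp140 rfl rfl
theorem s0_f140 : ed sl_bt sq236 = sq186 :=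
  real_edge rels S fwd inv o lvl plet idx 54 IH Gen.b sp236 sp186 rfl rfl
theorem s0_f141 : ed sl_ct sq309 = sq236 :=
  real_edge rels S fwd inv o lvl plet idx 54 IH Gen.c sp309 sp236 rfl rfl
theorem s0_f142 : ed sl_dt sq404 = sq309 :=
  real_edge rels S fwd inv o lvl plet idx 54 IH Gen.d sp404 sp309 rfl rfl
theorem s0_f143 : ed sl_et sq517 = sq404 :=
  real_edge rels S fwd inv o lvl plet idx 54 IH Gen.e sp517 sp404 rfl rfl
theorem s0_f144 : ed sl_ft sq668 = sq517 :=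
  real_edge rels S fwd inv o lvl plet idx 54 IH Gen.f sp668 sp517 rfl rfl
theorem s0_f109r : ed sl_ft s0_v0 = sq528 :=
  edge_flip (s0_f109 IH)
theorem s0_f146 : ed sl_ct s0_v0 = s0_v0 :=
  gap_rel s0_rot1 (path_edge (s0_f101 IH) (path_edge (s0_f103 IH) (path_edge (s0_f109r IH) (path_nil s0_v0))))
theorem s0_f148 : ed sl_et sq528 = sq669 :=
  real_edge rels S fwd inv o lvl plet idx 54 IH Gen.e sp528 sp669 rfl rfl
theorem s0_f149 : ed sl_ft sq669 = sq861 :=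
  real_edge rels S fwd inv o lvl plet idx 54 IH Gen.f sp669 sp861 rfl rfl
theorem s0_f150 : ed sl_ht sq528 = sq404 :=
  real_edge rels S fwd inv o lvl plet idx 54 IH Gen.h sp528 sp404 rfl rfl
theorem s0_f151 : ed sl_ft sq404 = sq527 :=
  real_edge rels S fwd inv o lvl plet idx 54 IH Gen.f sp404 sp527 rfl rfl
theorem s0_f152 : ed sl_ht sq527 = s0_v0 :=
  gap_rel s0_rot2 (path_edge (s0_f151 IH) (path_edge (s0_f150 IH) (path_edge (s0_f109r IH) (path_nil s0_v0))))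
theorem s0_f240 : ed sl_dt sq527 = sq405 :=
  real_edge rels S fwd inv o lvl plet idx 54 IH Gen.d sp527 sp405 rfl rfl
theorem s0_f246 : ed sl_dt sq235 = sq304 :=
  real_edge rels S fwd inv o lvl plet idx 54 IH Gen.d sp235 sp304 rfl rfl
theorem s0_f252 : ed sl_dt sq399 = sq392 :=
  real_edge rels S fwd inv o lvl plet idx 54 IH Gen.d sp399 sp392 rfl rfl
theorem s0_f253 : ed sl_ft sq392 = sq392 :=
  real_edge rels S fwd inv o lvl plet idx 54 IH Gen.f sp392 sp392 rfl rfl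
theorem s0_f254 : ed sl_et sq392 = sq512 :=
  real_edge rels S fwd inv o lvl plet idx 54 IH Gen.e sp392 sp512 rfl rfl
theorem s0_f255 : ed sl_dt sq512 = sq664 :=
  real_edge rels S fwd inv o lvl plet idx 54 IH Gen.d sp512 sp664 rfl rfl
theorem s0_f261 : ed sl_ft sq517 = sq668 :=
  real_edge rels S fwd inv o lvl plet idx 54 IH Gen.f sp517 sp668 rfl rfl
theorem s0_f262 : ed sl_et sq668 = sq860 :=
  real_edge rels S fwd inv o lvl plet idx 54 IH Gen.e sp668 sp860 rfl rfl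
theorem s0_f263 : ed sl_dt sq860 = sq860 :=
  real_edge rels S fwd inv o lvl plet idx 54 IH Gen.d sp860 sp860 rfl rfl
theorem s0_f267 : ed sl_et sq404 = sq517 :=
  real_edge rels S fwd inv o lvl plet idx 54 IH Gen.e sp404 sp517 rfl rfl
theorem s0_f306 : ed sl_et s0_v0 = s0_v1 :=
  rfl
theorem s0_f306r : ed sl_ef s0_v1 = s0_v0 :=
  edge_flip (s0_f306 IH)
theorem s0_f307 : ed sl_ef s0_v0 = s0_v1 :=
  gap_rel s0_rot3 (path_edge (s0_f306r IH) (path_nil s0_v1))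
theorem s0_f307r : ed sl_et s0_v1 = s0_v0 :=
  edge_flip (s0_f307 IH)
theorem s0_f308 : ed sl_ct s0_v1 = s0_v1 :=
  gap_rel s0_rot4 (path_edge (s0_f306 IH) (path_edge (s0_f146 IH) (path_edge (s0_f307r IH) (path_nil s0_v1))))
theorem s0_f309 : ed sl_dt s0_v1 = s0_v2 :=
  rfl
theorem s0_f309r : ed sl_df s0_v2 = s0_v1 :=
  edge_flip (s0_f309 IH)
theorem s0_f310 : ed sl_df s0_v1 = s0_v2 :=
  gap_rel s0_rot5 (path_edge (s0_f309r IH) (path_nil s0_v2))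
theorem s0_f372 : ed sl_bt sq317 = sq242 :=
  real_edge rels S fwd inv o lvl plet idx 54 IH Gen.b sp317 sp242 rfl rfl
theorem s0_f449 : ed sl_dt sq99 = sq138 :=
  real_edge rels S fwd inv o lvl plet idx 54 IH Gen.d sp99 sp138 rfl rfl
theorem s0_f450 : ed sl_et sq99 = sq99 :=
  real_edge rels S fwd inv o lvl plet idx 54 IH Gen.e sp99 sp99 rfl rfl
theorem s0_f451 : ed sl_ft sq99 = sq99 :=
  real_edge rels S fwd inv o lvl plet idx 54 IH Gen.f sp99 sp99 rfl rfl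
theorem s0_f455 : ed sl_ct sq131 = sq95 :=
  real_edge rels S fwd inv o lvl plet idx 54 IH Gen.c sp131 sp95 rfl rfl
theorem s0_f456 : ed sl_dt sq131 = sq131 :=
  real_edge rels S fwd inv o lvl plet idx 54 IH Gen.d sp131 sp131 rfl rfl
theorem s0_f457 : ed sl_et sq131 = sq131 :=
  real_edge rels S fwd inv o lvl plet idx 54 IH Gen.e sp131 sp131 rfl rfl
theorem s0_f458 : ed sl_ft sq131 = sq131 :=
  real_edge rels S fwd inv o lvl plet idx 54 IH Gen.f sp131 sp131 rfl rfl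
theorem s0_f459 : ed sl_ht sq177 = sq131 :=
  real_edge rels S fwd inv o lvl plet idx 54 IH Gen.h sp177 sp131 rfl rfl
theorem s0_f463 : ed sl_dt sq184 = sq137 :=
  real_edge rels S fwd inv o lvl plet idx 54 IH Gen.d sp184 sp137 rfl rfl
theorem s0_f488 : ed sl_et sq860 = sq668 :=
  real_edge rels S fwd inv o lvl plet idx 54 IH Gen.e sp860 sp668 rfl rfl
theorem s0_f490 : ed sl_ct sq664 = sq854 :=
  real_edge rels S fwd inv o lvl plet idx 54 IH Gen.c sp664 sp854 rfl rfl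
theorem s0_f522 : ed sl_ct sq100 = sq139 :=
  real_edge rels S fwd inv o lvl plet idx 54 IH Gen.c sp100 sp139 rfl rfl
theorem s0_f584 : ed sl_ft sq865 = sq671 :=
  real_edge rels S fwd inv o lvl plet idx 54 IH Gen.f sp865 sp671 rfl rfl
theorem s0_f587 : ed sl_it sq395 = sq395 :=
  real_edge rels S fwd inv o lvl plet idx 54 IH Gen.i sp395 sp395 rfl rfl
theorem s0_f594 : ed sl_dt sq45 = sq65 :=
  real_edge rels S fwd inv o lvl plet idx 54 IH Gen.d sp45 sp65 rfl rfl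
theorem s0_f632 : ed sl_dt sq22 = sq22 :=
  real_edge rels S fwd inv o lvl plet idx 54 IH Gen.d sp22 sp22 rfl rfl
theorem s0_f643 : ed sl_dt sq674 = sq674 :=
  real_edge rels S fwd inv o lvl plet idx 54 IH Gen.d sp674 sp674 rfl rfl
theorem s0_f645 : ed sl_dt sq9 = sq9 :=
  real_edge rels S fwd inv o lvl plet idx 54 IH Gen.d sp9 sp9 rfl rfl
theorem s0_f646 : ed sl_ct sq9 = sq9 :=
  real_edge rels S fwd inv o lvl plet idx 54 IH Gen.c sp9 sp9 rfl rfl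
theorem s0_f647 : ed sl_bt sq9 = sq9 :=
  real_edge rels S fwd inv o lvl plet idx 54 IH Gen.b sp9 sp9 rfl rfl
theorem s0_f648 : ed sl_et sq13 = sq9 :=
  real_edge rels S fwd inv o lvl plet idx 54 IH Gen.e sp13 sp9 rfl rfl
theorem s0_f649 : ed sl_ft sq16 = sq13 :=
  real_edge rels S fwd inv o lvl plet idx 54 IH Gen.f sp16 sp13 rfl rfl
theorem s0_f654 : ed sl_bt sq67 = sq49 :=
  real_edge rels S fwd inv o lvl plet idx 54 IH Gen.b sp67 sp49 rfl rfl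
theorem s0_f655 : ed sl_dt sq97 = sq67 :=
  real_edge rels S fwd inv o lvl plet idx 54 IH Gen.d sp97 sp67 rfl rfl
theorem s0_f656 : ed sl_et sq136 = sq97 :=
  real_edge rels S fwd inv o lvl plet idx 54 IH Gen.e sp136 sp97 rfl rfl
theorem s0_f657 : ed sl_ft sq183 = sq136 :=
  real_edge rels S fwd inv o lvl plet idx 54 IH Gen.f sp183 sp136 rfl rfl
theorem s0_f662 : ed sl_dt sq865 = sq672 :=
  real_edge rels S fwd inv o lvl plet idx 54 IH Gen.d sp865 sp672 rfl rfl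
theorem s0_f663 : ed sl_ft sq674 = s0_v27 :=
  rfl
theorem s0_f664 : ed sl_at sq669 = sq674 :=
  real_edge rels S fwd inv o lvl plet idx 54 IH Gen.a sp669 sp674 rfl rfl
theorem s0_f663r : ed sl_ff s0_v27 = sq674 :=
  edge_flip (s0_f663 IH)
theorem s0_f664r : ed sl_af sq674 = sq669 :=
  edge_flip (s0_f664 IH)
theorem s0_f105r : ed sl_ff sq669 = sq861 :=
  edge_flip (s0_f105 IH)
theorem s0_f665 : ed sl_af sq861 = s0_v27 :=
  gap_rel s0_rot6 (path_edge (s0_f105r IH) (path_edge (s0_f664r IH) (path_edge (s0_f663r IH) (path_nil s0_v27))))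
theorem s0_f670 : ed sl_ff sq674 = s0_v27 :=
  gap_rel s0_rot0 (path_edge (s0_f663r IH) (path_nil s0_v27))
theorem s0_f692 : ed sl_bt sq674 = sq866 :=
  real_edge rels S fwd inv o lvl plet idx 54 IH Gen.b sp674 sp866 rfl rfl
theorem s0_f670r : ed sl_ft s0_v27 = sq674 :=
  edge_flip (s0_f670 IH)
theorem s0_f694 : ed sl_dt s0_v27 = s0_v27 :=
  gap_rel s0_rot7 (path_edge (s0_f663 IH) (path_edge (s0_f643 IH) (path_edge (s0_f670r IH) (path_nil s0_v27))))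
theorem s0_f713 : ed sl_dt sq65 = sq45 :=
  real_edge rels S fwd inv o lvl plet idx 54 IH Gen.d sp65 sp45 rfl rfl
theorem s0_f733 : ed sl_ht sq861 = sq668 :=
  real_edge rels S fwd inv o lvl plet idx 54 IH Gen.h sp861 sp668 rfl rfl
theorem s0_f746 : ed sl_dt sq861 = sq861 :=
  real_edge rels S fwd inv o lvl plet idx 54 IH Gen.d sp861 sp861 rfl rfl
theorem s0_f747 : ed sl_ct sq861 = sq861 :=
  real_edge rels S fwd inv o lvl plet idx 54 IH Gen.c sp861 sp861 rfl rfl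
theorem s0_f750 : ed sl_ht sq668 = sq861 :=
  real_edge rels S fwd inv o lvl plet idx 54 IH Gen.h sp668 sp861 rfl rfl
theorem s0_f770 : ed sl_dt sq240 = sq182 :=
  real_edge rels S fwd inv o lvl plet idx 54 IH Gen.d sp240 sp182 rfl rfl
theorem s0_f771 : ed sl_it sq182 = sq182 :=
  real_edge rels S fwd inv o lvl plet idx 54 IH Gen.i sp182 sp182 rfl rfl
theorem s0_f789 : ed sl_at sq186 = sq186 :=
  real_edge rels S fwd inv o lvl plet idx 54 IH Gen.a sp186 sp186 rfl rfl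
theorem s0_f790 : ed sl_ft sq140 = sq189 :=
  real_edge rels S fwd inv o lvl plet idx 54 IH Gen.f sp140 sp189 rfl rfl
theorem s0_f791 : ed sl_et sq189 = sq189 :=
  real_edge rels S fwd inv o lvl plet idx 54 IH Gen.e sp189 sp189 rfl rfl
theorem s0_f792 : ed sl_dt sq189 = sq141 :=
  real_edge rels S fwd inv o lvl plet idx 54 IH Gen.d sp189 sp141 rfl rfl
theorem s0_f793 : ed sl_ct sq141 = sq141 :=
  real_edge rels S fwd inv o lvl plet idx 54 IH Gen.c sp141 sp141 rfl rfl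
theorem s0_f794 : ed sl_bt sq141 = sq183 :=
  real_edge rels S fwd inv o lvl plet idx 54 IH Gen.b sp141 sp183 rfl rfl
theorem s0_f795 : ed sl_et s0_v27 = s0_v28 :=
  rfl
theorem s0_f795r : ed sl_ef s0_v28 = s0_v27 :=
  edge_flip (s0_f795 IH)
theorem s0_f796 : ed sl_ef s0_v27 = s0_v28 :=
  gap_rel s0_rot3 (path_edge (s0_f795r IH) (path_nil s0_v28))
theorem s0_f798 : ed sl_dt s0_v28 = s0_v29 :=
  rfl
theorem s0_f798r : ed sl_df s0_v29 = s0_v28 :=
  edge_flip (s0_f798 IH)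
theorem s0_f799 : ed sl_df s0_v28 = s0_v29 :=
  gap_rel s0_rot5 (path_edge (s0_f798r IH) (path_nil s0_v29))
theorem s0_f694r : ed sl_df s0_v27 = s0_v27 :=
  edge_flip (s0_f694 IH)
theorem s0_f800 : ed sl_ef s0_v29 = s0_v29 :=
  gap_rel s0_rot8 (path_edge (s0_f799 IH) (path_edge (s0_f796 IH) (path_edge (s0_f694r IH) (path_edge (s0_f795r IH) (path_edge (s0_f798r IH) (path_nil s0_v29))))))
theorem s0_f801 : ed sl_bt s0_v29 = s0_v30 :=
  rfl
theorem s0_f801r : ed sl_bf s0_v30 = s0_v29 :=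
  edge_flip (s0_f801 IH)
theorem s0_f802 : ed sl_bf s0_v29 = s0_v30 :=
  gap_rel s0_rot9 (path_edge (s0_f801r IH) (path_nil s0_v30))
theorem s0_f804 : ed sl_ct s0_v30 = s0_v31 :=
  rfl
theorem s0_f804r : ed sl_cf s0_v31 = s0_v30 :=
  edge_flip (s0_f804 IH)
theorem s0_f805 : ed sl_cf s0_v30 = s0_v31 :=
  gap_rel s0_rot10 (path_edge (s0_f804r IH) (path_nil s0_v31))
theorem s0_f807 : ed sl_dt s0_v31 = s0_v32 :=
  rfl
theorem s0_f807r : ed sl_df s0_v32 = s0_v31 :=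
  edge_flip (s0_f807 IH)
theorem s0_f808 : ed sl_df s0_v31 = s0_v32 :=
  gap_rel s0_rot5 (path_edge (s0_f807r IH) (path_nil s0_v32))
theorem s0_f861 : ed sl_ct sq242 = sq184 :=
  real_edge rels S fwd inv o lvl plet idx 54 IH Gen.c sp242 sp184 rfl rfl
theorem s0_f951 : ed sl_ht sq9 = sq9 :=
  real_edge rels S fwd inv o lvl plet idx 54 IH Gen.h sp9 sp9 rfl rfl
theorem s0_f959 : ed sl_dt sq12 = sq8 :=
  real_edge rels S fwd inv o lvl plet idx 54 IH Gen.d sp12 sp8 rfl rfl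
theorem s0_f961 : ed sl_it sq8 = sq13 :=
  real_edge rels S fwd inv o lvl plet idx 54 IH Gen.i sp8 sp13 rfl rfl
theorem s0_f962 : ed sl_ht sq13 = sq13 :=
  real_edge rels S fwd inv o lvl plet idx 54 IH Gen.h sp13 sp13 rfl rfl
theorem s0_f983 : ed sl_ft sq65 = sq65 :=
  real_edge rels S fwd inv o lvl plet idx 54 IH Gen.f sp65 sp65 rfl rfl
theorem s0_f984 : ed sl_et sq65 = sq65 :=
  real_edge rels S fwd inv o lvl plet idx 54 IH Gen.e sp65 sp65 rfl rfl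
theorem s0_f986 : ed sl_bt sq45 = sq31 :=
  real_edge rels S fwd inv o lvl plet idx 54 IH Gen.b sp45 sp31 rfl rfl
theorem s0_f1000 : ed sl_ht sq30 = sq30 :=
  real_edge rels S fwd inv o lvl plet idx 54 IH Gen.h sp30 sp30 rfl rfl
theorem s0_f1011 : ed sl_dt sq90 = sq63 :=
  real_edge rels S fwd inv o lvl plet idx 54 IH Gen.d sp90 sp63 rfl rfl
theorem s0_f1036 : ed sl_at sq9 = sq9 :=
  real_edge rels S fwd inv o lvl plet idx 54 IH Gen.a sp9 sp9 rfl rfl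
theorem s0_f1037 : ed sl_et sq9 = sq13 :=
  real_edge rels S fwd inv o lvl plet idx 54 IH Gen.e sp9 sp13 rfl rfl
theorem s0_f1038 : ed sl_ft sq9 = sq9 :=
  real_edge rels S fwd inv o lvl plet idx 54 IH Gen.f sp9 sp9 rfl rfl
theorem s0_f1040 : ed sl_dt sq13 = sq18 :=
  real_edge rels S fwd inv o lvl plet idx 54 IH Gen.d sp13 sp18 rfl rfl
theorem s0_f1041 : ed sl_bt sq18 = sq18 :=
  real_edge rels S fwd inv o lvl plet idx 54 IH Gen.b sp18 sp18 rfl rfl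
theorem s0_f1042 : ed sl_ct sq18 = sq25 :=
  real_edge rels S fwd inv o lvl plet idx 54 IH Gen.c sp18 sp25 rfl rfl
theorem s0_f1043 : ed sl_dt sq25 = sq25 :=
  real_edge rels S fwd inv o lvl plet idx 54 IH Gen.d sp25 sp25 rfl rfl
theorem s0_f1055 : ed sl_ct sq16 = sq16 :=
  real_edge rels S fwd inv o lvl plet idx 54 IH Gen.c sp16 sp16 rfl rfl
theorem s0_f1056 : ed sl_bt sq16 = sq16 :=
  real_edge rels S fwd inv o lvl plet idx 54 IH Gen.b sp16 sp16 rfl rfl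
theorem s0_f1057 : ed sl_et sq33 = sq23 :=
  real_edge rels S fwd inv o lvl plet idx 54 IH Gen.e sp33 sp23 rfl rfl
theorem s0_f1058 : ed sl_ft sq33 = sq33 :=
  real_edge rels S fwd inv o lvl plet idx 54 IH Gen.f sp33 sp33 rfl rfl
theorem s0_f1059 : ed sl_dt sq33 = sq33 :=
  real_edge rels S fwd inv o lvl plet idx 54 IH Gen.d sp33 sp33 rfl rfl
theorem s0_f1060 : ed sl_ht sq50 = sq33 :=
  real_edge rels S fwd inv o lvl plet idx 54 IH Gen.h sp50 sp33 rfl rfl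
theorem s0_f1062 : ed sl_dt sq72 = sq50 :=
  real_edge rels S fwd inv o lvl plet idx 54 IH Gen.d sp72 sp50 rfl rfl
theorem s0_f1070 : ed sl_dt sq688 = sq536 :=
  real_edge rels S fwd inv o lvl plet idx 54 IH Gen.d sp688 sp536 rfl rfl
theorem s0_f1126 : ed sl_ct sq866 = sq1111 :=
  real_edge rels S fwd inv o lvl plet idx 54 IH Gen.c sp866 sp1111 rfl rfl
theorem s0_f1281 : ed sl_dt sq1427 = sq1126 :=
  real_edge rels S fwd inv o lvl plet idx 54 IH Gen.d sp1427 sp1126 rfl rfl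
theorem s0_f1332 : ed sl_ht sq16 = sq16 :=
  real_edge rels S fwd inv o lvl plet idx 54 IH Gen.h sp16 sp16 rfl rfl
theorem s0_f1336 : ed sl_ht sq18 = sq26 :=
  real_edge rels S fwd inv o lvl plet idx 54 IH Gen.h sp18 sp26 rfl rfl
theorem s0_f1338 : ed sl_ft sq26 = sq34 :=
  real_edge rels S fwd inv o lvl plet idx 54 IH Gen.f sp26 sp34 rfl rfl
theorem s0_f1339 : ed sl_et sq34 = sq50 :=
  real_edge rels S fwd inv o lvl plet idx 54 IH Gen.e sp34 sp50 rfl rfl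
theorem s0_f1340 : ed sl_dt sq50 = sq72 :=
  real_edge rels S fwd inv o lvl plet idx 54 IH Gen.d sp50 sp72 rfl rfl
theorem s0_f1342 : ed sl_ct sq72 = sq102 :=
  real_edge rels S fwd inv o lvl plet idx 54 IH Gen.c sp72 sp102 rfl rfl
theorem s0_f1353 : ed sl_ct sq25 = sq18 :=
  real_edge rels S fwd inv o lvl plet idx 54 IH Gen.c sp25 sp18 rfl rfl
theorem s0_f1354 : ed sl_bt sq36 = sq25 :=
  real_edge rels S fwd inv o lvl plet idx 54 IH Gen.b sp36 sp25 rfl rfl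
theorem s0_f1355 : ed sl_dt sq36 = sq36 :=
  real_edge rels S fwd inv o lvl plet idx 54 IH Gen.d sp36 sp36 rfl rfl
theorem s0_f1356 : ed sl_et sq36 = sq36 :=
  real_edge rels S fwd inv o lvl plet idx 54 IH Gen.e sp36 sp36 rfl rfl
theorem s0_f1357 : ed sl_ft sq46 = sq36 :=
  real_edge rels S fwd inv o lvl plet idx 54 IH Gen.f sp46 sp36 rfl rfl
theorem s0_f1358 : ed sl_ht sq67 = sq46 :=
  real_edge rels S fwd inv o lvl plet idx 54 IH Gen.h sp67 sp46 rfl rfl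
theorem s0_f1364 : ed sl_ft sq1410 = s0_v84 :=
  rfl
theorem s0_f1364r : ed sl_ff s0_v84 = sq1410 :=
  edge_flip (s0_f1364 IH)
theorem s0_f1371 : ed sl_ff sq1410 = s0_v84 :=
  gap_rel s0_rot0 (path_edge (s0_f1364r IH) (path_nil s0_v84))
theorem s0_f1412 : ed sl_dt sq1410 = sq1111 :=
  real_edge rels S fwd inv o lvl plet idx 54 IH Gen.d sp1410 sp1111 rfl rfl
theorem s0_f1413 : ed sl_ht sq1410 = sq1127 :=
  real_edge rels S fwd inv o lvl plet idx 54 IH Gen.h sp1410 sp1127 rfl rfl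
theorem s0_f1414 : ed sl_ft sq1127 = sq1427 :=
  real_edge rels S fwd inv o lvl plet idx 54 IH Gen.f sp1127 sp1427 rfl rfl
theorem s0_f1371r : ed sl_ft s0_v84 = sq1410 :=
  edge_flip (s0_f1371 IH)
theorem s0_f1415 : ed sl_ht sq1427 = s0_v84 :=
  gap_rel s0_rot2 (path_edge (s0_f1414 IH) (path_edge (s0_f1413 IH) (path_edge (s0_f1371r IH) (path_nil s0_v84))))
theorem s0_f1426 : ed sl_it sq1427 = sq1427 :=
  real_edge rels S fwd inv o lvl plet idx 54 IH Gen.i sp1427 sp1427 rfl rfl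
theorem s0_f1472 : ed sl_et s0_v84 = s0_v85 :=
  rfl
theorem s0_f1548 : ed sl_ct sq182 = sq136 :=
  real_edge rels S fwd inv o lvl plet idx 54 IH Gen.c sp182 sp136 rfl rfl
theorem s0_f1590 : ed sl_it sq183 = sq183 :=
  real_edge rels S fwd inv o lvl plet idx 54 IH Gen.i sp183 sp183 rfl rfl
theorem s0_f1594 : ed sl_it sq240 = sq240 :=
  real_edge rels S fwd inv o lvl plet idx 54 IH Gen.i sp240 sp240 rfl rfl
theorem s0_f1615 : ed sl_et sq240 = sq240 :=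
  real_edge rels S fwd inv o lvl plet idx 54 IH Gen.e sp240 sp240 rfl rfl
theorem s0_f1626 : ed sl_bt sq310 = sq246 :=
  real_edge rels S fwd inv o lvl plet idx 54 IH Gen.b sp310 sp246 rfl rfl
theorem s0_f1665 : ed sl_dt sq70 = sq100 :=
  real_edge rels S fwd inv o lvl plet idx 54 IH Gen.d sp70 sp100 rfl rfl
theorem s0_f1670 : ed sl_dt sq24 = sq24 :=
  real_edge rels S fwd inv o lvl plet idx 54 IH Gen.d sp24 sp24 rfl rfl
theorem s0_f1672 : ed sl_ct sq36 = sq36 :=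
  real_edge rels S fwd inv o lvl plet idx 54 IH Gen.c sp36 sp36 rfl rfl
theorem s0_f1673 : ed sl_bt sq25 = sq36 :=
  real_edge rels S fwd inv o lvl plet idx 54 IH Gen.b sp25 sp36 rfl rfl
theorem s0_f1674 : ed sl_et sq25 = sq25 :=
  real_edge rels S fwd inv o lvl plet idx 54 IH Gen.e sp25 sp25 rfl rfl
theorem s0_f1675 : ed sl_ft sq32 = sq25 :=
  real_edge rels S fwd inv o lvl plet idx 54 IH Gen.f sp32 sp25 rfl rfl
theorem s0_f1676 : ed sl_dt sq32 = sq32 :=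
  real_edge rels S fwd inv o lvl plet idx 54 IH Gen.d sp32 sp32 rfl rfl
theorem s0_f1677 : ed sl_ht sq49 = sq32 :=
  real_edge rels S fwd inv o lvl plet idx 54 IH Gen.h sp49 sp32 rfl rfl
theorem s0_f1690 : ed sl_dt sq230 = sq174 :=
  real_edge rels S fwd inv o lvl plet idx 54 IH Gen.d sp230 sp174 rfl rfl
theorem s0_f1713 : ed sl_ht sq246 = sq189 :=
  real_edge rels S fwd inv o lvl plet idx 54 IH Gen.h sp246 sp189 rfl rfl
theorem s0_f1714 : ed sl_ct sq405 = sq310 :=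
  real_edge rels S fwd inv o lvl plet idx 54 IH Gen.c sp405 sp310 rfl rfl
theorem s0_f1735 : ed sl_ht sq183 = sq183 :=
  real_edge rels S fwd inv o lvl plet idx 54 IH Gen.h sp183 sp183 rfl rfl
theorem s0_f1737 : ed sl_bt sq183 = sq141 :=
  real_edge rels S fwd inv o lvl plet idx 54 IH Gen.b sp183 sp141 rfl rfl
theorem s0_f1777 : ed sl_at sq141 = sq141 :=
  real_edge rels S fwd inv o lvl plet idx 54 IH Gen.a sp141 sp141 rfl rfl
theorem s0_f1791 : ed sl_bt sq32 = sq46 :=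
  real_edge rels S fwd inv o lvl plet idx 54 IH Gen.b sp32 sp46 rfl rfl
theorem s0_f1866 : ed sl_ft sq30 = sq24 :=
  real_edge rels S fwd inv o lvl plet idx 54 IH Gen.f sp30 sp24 rfl rfl
theorem s0_f1867 : ed sl_et sq24 = sq24 :=
  real_edge rels S fwd inv o lvl plet idx 54 IH Gen.e sp24 sp24 rfl rfl
theorem s0_f1869 : ed sl_bt sq24 = sq17 :=
  real_edge rels S fwd inv o lvl plet idx 54 IH Gen.b sp24 sp17 rfl rfl
theorem s0_f1902 : ed sl_ct sq17 = sq12 :=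
  real_edge rels S fwd inv o lvl plet idx 54 IH Gen.c sp17 sp12 rfl rfl
theorem s0_f1906 : ed sl_ft sq18 = sq23 :=
  real_edge rels S fwd inv o lvl plet idx 54 IH Gen.f sp18 sp23 rfl rfl
theorem s0_f1907 : ed sl_et sq23 = sq33 :=
  real_edge rels S fwd inv o lvl plet idx 54 IH Gen.e sp23 sp33 rfl rfl
theorem s0_f1908 : ed sl_bt sq33 = sq33 :=
  real_edge rels S fwd inv o lvl plet idx 54 IH Gen.b sp33 sp33 rfl rfl
theorem s0_f1909 : ed sl_ct sq33 = sq48 :=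
  real_edge rels S fwd inv o lvl plet idx 54 IH Gen.c sp33 sp48 rfl rfl
theorem s0_f1910 : ed sl_dt sq48 = sq69 :=
  real_edge rels S fwd inv o lvl plet idx 54 IH Gen.d sp48 sp69 rfl rfl
theorem s0_f1911 : ed sl_it sq69 = sq47 :=
  real_edge rels S fwd inv o lvl plet idx 54 IH Gen.i sp69 sp47 rfl rfl
theorem s0_f1912 : ed sl_ht sq47 = sq68 :=
  real_edge rels S fwd inv o lvl plet idx 54 IH Gen.h sp47 sp68 rfl rfl
theorem s0_f1913 : ed sl_dt sq68 = sq68 :=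
  real_edge rels S fwd inv o lvl plet idx 54 IH Gen.d sp68 sp68 rfl rfl
theorem s0_f1914 : ed sl_ft sq68 = sq68 :=
  real_edge rels S fwd inv o lvl plet idx 54 IH Gen.f sp68 sp68 rfl rfl
theorem s0_f1915 : ed sl_et sq68 = sq68 :=
  real_edge rels S fwd inv o lvl plet idx 54 IH Gen.e sp68 sp68 rfl rfl
theorem s0_f1916 : ed sl_bt sq68 = sq94 :=
  real_edge rels S fwd inv o lvl plet idx 54 IH Gen.b sp68 sp94 rfl rfl
theorem s0_f1917 : ed sl_ct sq94 = sq90 :=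
  real_edge rels S fwd inv o lvl plet idx 54 IH Gen.c sp94 sp90 rfl rfl
theorem s0_f1918 : ed sl_it sq63 = sq91 :=
  real_edge rels S fwd inv o lvl plet idx 54 IH Gen.i sp63 sp91 rfl rfl
theorem s0_f1919 : ed sl_ht sq91 = sq129 :=
  real_edge rels S fwd inv o lvl plet idx 54 IH Gen.h sp91 sp129 rfl rfl
theorem s0_f1920 : ed sl_dt sq129 = sq175 :=
  real_edge rels S fwd inv o lvl plet idx 54 IH Gen.d sp129 sp175 rfl rfl
theorem s0_f1921 : ed sl_ft sq175 = sq175 :=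
  real_edge rels S fwd inv o lvl plet idx 54 IH Gen.f sp175 sp175 rfl rfl
theorem s0_f1922 : ed sl_et sq175 = sq232 :=
  real_edge rels S fwd inv o lvl plet idx 54 IH Gen.e sp175 sp232 rfl rfl
theorem s0_f1923 : ed sl_dt sq232 = sq176 :=
  real_edge rels S fwd inv o lvl plet idx 54 IH Gen.d sp232 sp176 rfl rfl
theorem s0_f1924 : ed sl_bt sq176 = sq176 :=
  real_edge rels S fwd inv o lvl plet idx 54 IH Gen.b sp176 sp176 rfl rfl
theorem s0_f1925 : ed sl_dt sq30 = sq30 :=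
  real_edge rels S fwd inv o lvl plet idx 54 IH Gen.d sp30 sp30 rfl rfl
theorem s0_f1926 : ed sl_it sq46 = sq30 :=
  real_edge rels S fwd inv o lvl plet idx 54 IH Gen.i sp46 sp30 rfl rfl
theorem s0_f1927 : ed sl_ct sq46 = sq46 :=
  real_edge rels S fwd inv o lvl plet idx 54 IH Gen.c sp46 sp46 rfl rfl
theorem s0_f1928 : ed sl_et sq48 = sq32 :=
  real_edge rels S fwd inv o lvl plet idx 54 IH Gen.e sp48 sp32 rfl rfl
theorem s0_f1929 : ed sl_ft sq48 = sq48 :=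
  real_edge rels S fwd inv o lvl plet idx 54 IH Gen.f sp48 sp48 rfl rfl
theorem s0_f1930 : ed sl_dt sq69 = sq48 :=
  real_edge rels S fwd inv o lvl plet idx 54 IH Gen.d sp69 sp48 rfl rfl
theorem s0_f1931 : ed sl_ht sq99 = sq69 :=
  real_edge rels S fwd inv o lvl plet idx 54 IH Gen.h sp99 sp69 rfl rfl
theorem s0_f1932 : ed sl_it sq137 = sq99 :=
  real_edge rels S fwd inv o lvl plet idx 54 IH Gen.i sp137 sp99 rfl rfl
theorem s0_f1933 : ed sl_dt sq317 = sq317 :=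
  real_edge rels S fwd inv o lvl plet idx 54 IH Gen.d sp317 sp317 rfl rfl
theorem s0_f1934 : ed sl_et sq413 = sq317 :=
  real_edge rels S fwd inv o lvl plet idx 54 IH Gen.e sp413 sp317 rfl rfl
theorem s0_f1935 : ed sl_ft sq536 = sq413 :=
  real_edge rels S fwd inv o lvl plet idx 54 IH Gen.f sp536 sp413 rfl rfl
theorem s0_f1936 : ed sl_ht sq884 = sq688 :=
  real_edge rels S fwd inv o lvl plet idx 54 IH Gen.h sp884 sp688 rfl rfl
theorem s0_f1937 : ed sl_it sq884 = sq884 :=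
  real_edge rels S fwd inv o lvl plet idx 54 IH Gen.i sp884 sp884 rfl rfl
theorem s0_f1938 : ed sl_dt sq884 = sq884 :=
  real_edge rels S fwd inv o lvl plet idx 54 IH Gen.d sp884 sp884 rfl rfl
theorem s0_f1939 : ed sl_ct sq1126 = sq884 :=
  real_edge rels S fwd inv o lvl plet idx 54 IH Gen.c sp1126 sp884 rfl rfl
theorem s0_f1940 : ed sl_bt sq1126 = sq1126 :=
  real_edge rels S fwd inv o lvl plet idx 54 IH Gen.b sp1126 sp1126 rfl rfl
theorem s0_f1941 : ed sl_ct sq176 = s0_v118 :=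
  rfl
theorem s0_f1942 : ed sl_at sq136 = sq176 :=
  real_edge rels S fwd inv o lvl plet idx 54 IH Gen.a sp136 sp176 rfl rfl
theorem s0_f1941r : ed sl_cf s0_v118 = sq176 :=
  edge_flip (s0_f1941 IH)
theorem s0_f1942r : ed sl_af sq176 = sq136 :=
  edge_flip (s0_f1942 IH)
theorem s0_f1548r : ed sl_cf sq136 = sq182 :=
  edge_flip (s0_f1548 IH)
theorem s0_f1943 : ed sl_af sq182 = s0_v118 :=
  gap_rel s0_rot11 (path_edge (s0_f1548r IH) (path_edge (s0_f1942r IH) (path_edge (s0_f1941r IH) (path_nil s0_v118))))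
theorem s0_f1944 : ed sl_cf sq176 = s0_v118 :=
  gap_rel s0_rot10 (path_edge (s0_f1941r IH) (path_nil s0_v118))
theorem s0_f1947 : ed sl_ht sq176 = sq176 :=
  real_edge rels S fwd inv o lvl plet idx 54 IH Gen.h sp176 sp176 rfl rfl
theorem s0_f1947r : ed sl_hf sq176 = sq176 :=
  edge_flip (s0_f1947 IH)
theorem s0_f1948 : ed sl_hf s0_v118 = s0_v118 :=
  gap_rel s0_rot12 (path_edge (s0_f1944 IH) (path_edge (s0_f1947r IH) (path_edge (s0_f1941r IH) (path_nil s0_v118))))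
theorem s0_f1950 : ed sl_it sq176 = sq176 :=
  real_edge rels S fwd inv o lvl plet idx 54 IH Gen.i sp176 sp176 rfl rfl
theorem s0_f1950r : ed sl_if sq176 = sq176 :=
  edge_flip (s0_f1950 IH)
theorem s0_f1951 : ed sl_if s0_v118 = s0_v118 :=
  gap_rel s0_rot13 (path_edge (s0_f1944 IH) (path_edge (s0_f1950r IH) (path_edge (s0_f1941r IH) (path_nil s0_v118))))
theorem s0_f1954 : ed sl_bt sq138 = sq179 :=
  real_edge rels S fwd inv o lvl plet idx 54 IH Gen.b sp138 sp179 rfl rfl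
theorem s0_f1951r : ed sl_it s0_v118 = s0_v118 :=
  edge_flip (s0_f1951 IH)
theorem s0_f1943r : ed sl_at s0_v118 = sq182 :=
  edge_flip (s0_f1943 IH)
theorem s0_f1972 : ed sl_at sq182 = s0_v118 :=
  gap_rel s0_rot14 (path_edge (s0_f771 IH) (path_edge (s0_f1943r IH) (path_edge (s0_f1951r IH) (path_nil s0_v118))))
theorem s0_f1976 : ed sl_ct sq300 = sq230 :=
  real_edge rels S fwd inv o lvl plet idx 54 IH Gen.c sp300 sp230 rfl rfl
theorem s0_f1980 : ed sl_et sq176 = sq130 :=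
  real_edge rels S fwd inv o lvl plet idx 54 IH Gen.e sp176 sp130 rfl rfl
theorem s0_f1992 : ed sl_dt s0_v118 = s0_v119 :=
  rfl
theorem s0_f1992r : ed sl_df s0_v119 = s0_v118 :=
  edge_flip (s0_f1992 IH)
theorem s0_f1972r : ed sl_af s0_v118 = sq182 :=
  edge_flip (s0_f1972 IH)
theorem s0_f770r : ed sl_df sq182 = sq240 :=
  edge_flip (s0_f770 IH)
theorem s0_f1993 : ed sl_af sq240 = s0_v119 :=
  gap_rel s0_rot15 (path_edge (s0_f770r IH) (path_edge (s0_f1972r IH) (path_edge (s0_f1992r IH) (path_nil s0_v119))))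
theorem s0_f1994 : ed sl_df s0_v118 = s0_v119 :=
  gap_rel s0_rot5 (path_edge (s0_f1992r IH) (path_nil s0_v119))
theorem s0_f1995 : ed sl_if s0_v119 = s0_v119 :=
  gap_rel s0_rot16 (path_edge (s0_f1994 IH) (path_edge (s0_f1951 IH) (path_edge (s0_f1992r IH) (path_nil s0_v119))))
theorem s0_f1995r : ed sl_it s0_v119 = s0_v119 :=
  edge_flip (s0_f1995 IH)
theorem s0_f1993r : ed sl_at s0_v119 = sq240 :=
  edge_flip (s0_f1993 IH)
theorem s0_f1996 : ed sl_at sq240 = s0_v119 :=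
  gap_rel s0_rot14 (path_edge (s0_f1594 IH) (path_edge (s0_f1993r IH) (path_edge (s0_f1995r IH) (path_nil s0_v119))))
theorem s0_f1996r : ed sl_af s0_v119 = sq240 :=
  edge_flip (s0_f1996 IH)
theorem s0_f1615r : ed sl_ef sq240 = sq240 :=
  edge_flip (s0_f1615 IH)
theorem s0_f1997 : ed sl_ef s0_v119 = s0_v119 :=
  gap_rel s0_rot17 (path_edge (s0_f1993 IH) (path_edge (s0_f1615r IH) (path_edge (s0_f1996r IH) (path_nil s0_v119))))
theorem s0_f2000 : ed sl_bt sq392 = sq300 :=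
  real_edge rels S fwd inv o lvl plet idx 54 IH Gen.b sp392 sp300 rfl rfl
theorem s0_f2001 : ed sl_et sq520 = sq399 :=
  real_edge rels S fwd inv o lvl plet idx 54 IH Gen.e sp520 sp399 rfl rfl
theorem s0_f2002 : ed sl_ft sq672 = sq520 :=
  real_edge rels S fwd inv o lvl plet idx 54 IH Gen.f sp672 sp520 rfl rfl
theorem s0_f2009 : ed sl_ht s0_v119 = s0_v120 :=
  rfl
theorem s0_f2009r : ed sl_hf s0_v120 = s0_v119 :=
  edge_flip (s0_f2009 IH)
theorem s0_f2011 : ed sl_hf s0_v119 = s0_v120 :=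
  gap_rel s0_rot18 (path_edge (s0_f2009r IH) (path_nil s0_v120))
theorem s0_f2011r : ed sl_ht s0_v120 = s0_v119 :=
  edge_flip (s0_f2011 IH)
theorem s0_f1994r : ed sl_dt s0_v119 = s0_v118 :=
  edge_flip (s0_f1994 IH)
theorem s0_f1948r : ed sl_ht s0_v118 = s0_v118 :=
  edge_flip (s0_f1948 IH)
theorem s0_f2013 : ed sl_dt s0_v120 = s0_v120 :=
  gap_rel s0_rot19 (path_edge (s0_f2009 IH) (path_edge (s0_f1992 IH) (path_edge (s0_f1948r IH) (path_edge (s0_f1994r IH) (path_edge (s0_f2011r IH) (path_nil s0_v120))))))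
theorem s0_f1997r : ed sl_et s0_v119 = s0_v119 :=
  edge_flip (s0_f1997 IH)
theorem s0_f2014 : ed sl_et s0_v120 = s0_v120 :=
  gap_rel s0_rot20 (path_edge (s0_f2009 IH) (path_edge (s0_f1997r IH) (path_edge (s0_f2011r IH) (path_nil s0_v120))))
theorem s0_f2021 : ed sl_ft s0_v120 = s0_v121 :=
  rfl
theorem s0_f2021r : ed sl_ff s0_v121 = s0_v120 :=
  edge_flip (s0_f2021 IH)
theorem s0_f2024 : ed sl_ff s0_v120 = s0_v121 :=
  gap_rel s0_rot0 (path_edge (s0_f2021r IH) (path_nil s0_v121))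
theorem s0_f2028 : ed sl_et s0_v121 = s0_v122 :=
  rfl
theorem s0_f2028r : ed sl_ef s0_v122 = s0_v121 :=
  edge_flip (s0_f2028 IH)
theorem s0_f2030 : ed sl_ef s0_v121 = s0_v122 :=
  gap_rel s0_rot3 (path_edge (s0_f2028r IH) (path_nil s0_v122))
theorem s0_f2014r : ed sl_ef s0_v120 = s0_v120 :=
  edge_flip (s0_f2014 IH)
theorem s0_f2031 : ed sl_ff s0_v122 = s0_v122 :=
  gap_rel s0_rot21 (path_edge (s0_f2030 IH) (path_edge (s0_f2024 IH) (path_edge (s0_f2014r IH) (path_edge (s0_f2021r IH) (path_edge (s0_f2028r IH) (path_nil s0_v122))))))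
theorem s0_f2033 : ed sl_dt s0_v122 = s0_v123 :=
  rfl
theorem s0_f2033r : ed sl_df s0_v123 = s0_v122 :=
  edge_flip (s0_f2033 IH)
theorem s0_f2034 : ed sl_df s0_v122 = s0_v123 :=
  gap_rel s0_rot5 (path_edge (s0_f2033r IH) (path_nil s0_v123))
theorem s0_f2036 : ed sl_ff s0_v123 = s0_v123 :=
  gap_rel s0_rot22 (path_edge (s0_f2034 IH) (path_edge (s0_f2031 IH) (path_edge (s0_f2033r IH) (path_nil s0_v123))))
theorem s0_f2037 : ed sl_bt s0_v123 = s0_v124 :=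
  rfl
theorem s0_f2037r : ed sl_bf s0_v124 = s0_v123 :=
  edge_flip (s0_f2037 IH)
theorem s0_f2038 : ed sl_bf s0_v123 = s0_v124 :=
  gap_rel s0_rot9 (path_edge (s0_f2037r IH) (path_nil s0_v124))
theorem s0_f2040 : ed sl_ff s0_v124 = s0_v124 :=
  gap_rel s0_rot23 (path_edge (s0_f2038 IH) (path_edge (s0_f2036 IH) (path_edge (s0_f2037r IH) (path_nil s0_v124))))
theorem s0_f2041 : ed sl_ct s0_v124 = s0_v125 :=
  rfl
theorem s0_f2041r : ed sl_cf s0_v125 = s0_v124 :=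
  edge_flip (s0_f2041 IH)
theorem s0_f2042 : ed sl_cf s0_v124 = s0_v125 :=
  gap_rel s0_rot10 (path_edge (s0_f2041r IH) (path_nil s0_v125))
theorem s0_f2044 : ed sl_ff s0_v125 = s0_v125 :=
  gap_rel s0_rot24 (path_edge (s0_f2042 IH) (path_edge (s0_f2040 IH) (path_edge (s0_f2041r IH) (path_nil s0_v125))))
theorem s0_f2045 : ed sl_dt s0_v125 = s0_v126 :=
  rfl
theorem s0_f2045r : ed sl_df s0_v126 = s0_v125 :=
  edge_flip (s0_f2045 IH)
theorem s0_f2046 : ed sl_df s0_v125 = s0_v126 :=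
  gap_rel s0_rot5 (path_edge (s0_f2045r IH) (path_nil s0_v126))
theorem s0_f2047 : ed sl_ff s0_v126 = s0_v126 :=
  gap_rel s0_rot22 (path_edge (s0_f2046 IH) (path_edge (s0_f2044 IH) (path_edge (s0_f2045r IH) (path_nil s0_v126))))
theorem s0_f2048 : ed sl_it s0_v126 = s0_v127 :=
  rfl
theorem s0_f2048r : ed sl_if s0_v127 = s0_v126 :=
  edge_flip (s0_f2048 IH)
theorem s0_f2049 : ed sl_if s0_v126 = s0_v127 :=
  gap_rel s0_rot25 (path_edge (s0_f2048r IH) (path_nil s0_v127))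
theorem s0_f2049r : ed sl_it s0_v127 = s0_v126 :=
  edge_flip (s0_f2049 IH)
theorem s0_f2047r : ed sl_ft s0_v126 = s0_v126 :=
  edge_flip (s0_f2047 IH)
theorem s0_f2050 : ed sl_ft s0_v127 = s0_v127 :=
  gap_rel s0_rot26 (path_edge (s0_f2048 IH) (path_edge (s0_f2047r IH) (path_edge (s0_f2049r IH) (path_nil s0_v127))))
theorem s0_f2051 : ed sl_ht s0_v127 = s0_v128 :=
  rfl
theorem s0_f2051r : ed sl_hf s0_v128 = s0_v127 :=
  edge_flip (s0_f2051 IH)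
theorem s0_f2052 : ed sl_hf s0_v127 = s0_v128 :=
  gap_rel s0_rot18 (path_edge (s0_f2051r IH) (path_nil s0_v128))
theorem s0_f2050r : ed sl_ff s0_v127 = s0_v127 :=
  edge_flip (s0_f2050 IH)
theorem s0_f2053 : ed sl_ff s0_v128 = s0_v128 :=
  gap_rel s0_rot27 (path_edge (s0_f2052 IH) (path_edge (s0_f2050r IH) (path_edge (s0_f2051r IH) (path_nil s0_v128))))
theorem s0_f2054 : ed sl_dt s0_v128 = s0_v129 :=
  rfl
theorem s0_f2054r : ed sl_df s0_v129 = s0_v128 :=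
  edge_flip (s0_f2054 IH)
theorem s0_f2055 : ed sl_df s0_v128 = s0_v129 :=
  gap_rel s0_rot5 (path_edge (s0_f2054r IH) (path_nil s0_v129))
theorem s0_f2056 : ed sl_ff s0_v129 = s0_v129 :=
  gap_rel s0_rot22 (path_edge (s0_f2055 IH) (path_edge (s0_f2053 IH) (path_edge (s0_f2054r IH) (path_nil s0_v129))))
theorem s0_f2057 : ed sl_et s0_v129 = s0_v130 :=
  rfl
theorem s0_f2059 : ed sl_dt s0_v130 = s0_v131 :=
  rfl
theorem s0_f2061 : ed sl_bt s0_v131 = s0_v132 :=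
  rfl
theorem s0_f2063 : ed sl_ct s0_v132 = s0_v133 :=
  rfl
theorem s0_f2065 : ed sl_dt s0_v133 = s0_v134 :=
  rfl
theorem s0_f2067 : ed sl_it s0_v134 = s0_v135 :=
  rfl
theorem s0_f2069 : ed sl_ht s0_v135 = s0_v136 :=
  rfl
theorem s0_f2071 : ed sl_dt s0_v136 = s0_v137 :=
  rfl
theorem s0_f2073 : ed sl_ft s0_v137 = s0_v138 :=
  rfl
theorem s0_f2075 : ed sl_et s0_v138 = s0_v139 :=
  rfl
theorem s0_f2077 : ed sl_dt s0_v139 = s0_v140 :=
  rfl
theorem s0_f2079 : ed sl_bt s0_v140 = s0_v141 :=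
  rfl
theorem s0_f2081 : ed sl_ct s0_v141 = s0_v142 :=
  rfl
theorem s0_f2083 : ed sl_dt s0_v142 = s0_v143 :=
  rfl
theorem s0_f2085 : ed sl_it s0_v143 = s0_v144 :=
  rfl
theorem s0_f2087 : ed sl_ht s0_v144 = s0_v145 :=
  rfl
theorem s0_f2089 : ed sl_dt s0_v145 = s0_v146 :=
  rfl
theorem s0_f2091 : ed sl_ft s0_v146 = s0_v147 :=
  rfl
theorem s0_f2091r : ed sl_ff s0_v147 = s0_v146 :=
  edge_flip (s0_f2091 IH)
theorem s0_f2092 : ed sl_ff s0_v146 = s0_v147 :=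
  gap_rel s0_rot0 (path_edge (s0_f2091r IH) (path_nil s0_v147))
theorem s0_f2089r : ed sl_df s0_v146 = s0_v145 :=
  edge_flip (s0_f2089 IH)
theorem s0_f2087r : ed sl_hf s0_v145 = s0_v144 :=
  edge_flip (s0_f2087 IH)
theorem s0_f2085r : ed sl_if s0_v144 = s0_v143 :=
  edge_flip (s0_f2085 IH)
theorem s0_f2083r : ed sl_df s0_v143 = s0_v142 :=
  edge_flip (s0_f2083 IH)
theorem s0_f2081r : ed sl_cf s0_v142 = s0_v141 :=
  edge_flip (s0_f2081 IH)
theorem s0_f2079r : ed sl_bf s0_v141 = s0_v140 :=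
  edge_flip (s0_f2079 IH)
theorem s0_f2077r : ed sl_df s0_v140 = s0_v139 :=
  edge_flip (s0_f2077 IH)
theorem s0_f2075r : ed sl_ef s0_v139 = s0_v138 :=
  edge_flip (s0_f2075 IH)
theorem s0_f2073r : ed sl_ff s0_v138 = s0_v137 :=
  edge_flip (s0_f2073 IH)
theorem s0_f2071r : ed sl_df s0_v137 = s0_v136 :=
  edge_flip (s0_f2071 IH)
theorem s0_f2069r : ed sl_hf s0_v136 = s0_v135 :=
  edge_flip (s0_f2069 IH)
theorem s0_f2067r : ed sl_if s0_v135 = s0_v134 :=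
  edge_flip (s0_f2067 IH)
theorem s0_f2065r : ed sl_df s0_v134 = s0_v133 :=
  edge_flip (s0_f2065 IH)
theorem s0_f2063r : ed sl_cf s0_v133 = s0_v132 :=
  edge_flip (s0_f2063 IH)
theorem s0_f2061r : ed sl_bf s0_v132 = s0_v131 :=
  edge_flip (s0_f2061 IH)
theorem s0_f2059r : ed sl_df s0_v131 = s0_v130 :=
  edge_flip (s0_f2059 IH)
theorem s0_f2057r : ed sl_ef s0_v130 = s0_v129 :=
  edge_flip (s0_f2057 IH)
theorem s0_f2013r : ed sl_df s0_v120 = s0_v120 :=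
  edge_flip (s0_f2013 IH)
theorem s0_f1924r : ed sl_bf sq176 = sq176 :=
  edge_flip (s0_f1924 IH)
theorem s0_f1923r : ed sl_df sq176 = sq232 :=
  edge_flip (s0_f1923 IH)
theorem s0_f1922r : ed sl_ef sq232 = sq175 :=
  edge_flip (s0_f1922 IH)
theorem s0_f1921r : ed sl_ff sq175 = sq175 :=
  edge_flip (s0_f1921 IH)
theorem s0_f1920r : ed sl_df sq175 = sq129 :=
  edge_flip (s0_f1920 IH)
theorem s0_f1919r : ed sl_hf sq129 = sq91 :=
  edge_flip (s0_f1919 IH)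
theorem s0_f1918r : ed sl_if sq91 = sq63 :=
  edge_flip (s0_f1918 IH)
theorem s0_f1011r : ed sl_df sq63 = sq90 :=
  edge_flip (s0_f1011 IH)
theorem s0_f1917r : ed sl_cf sq90 = sq94 :=
  edge_flip (s0_f1917 IH)
theorem s0_f1916r : ed sl_bf sq94 = sq68 :=
  edge_flip (s0_f1916 IH)
theorem s0_f1913r : ed sl_df sq68 = sq68 :=
  edge_flip (s0_f1913 IH)
theorem s0_f1915r : ed sl_ef sq68 = sq68 :=
  edge_flip (s0_f1915 IH)
theorem s0_f1914r : ed sl_ff sq68 = sq68 :=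
  edge_flip (s0_f1914 IH)
theorem s0_f1912r : ed sl_hf sq68 = sq47 :=
  edge_flip (s0_f1912 IH)
theorem s0_f1911r : ed sl_if sq47 = sq69 :=
  edge_flip (s0_f1911 IH)
theorem s0_f1910r : ed sl_df sq69 = sq48 :=
  edge_flip (s0_f1910 IH)
theorem s0_f1909r : ed sl_cf sq48 = sq33 :=
  edge_flip (s0_f1909 IH)
theorem s0_f1908r : ed sl_bf sq33 = sq33 :=
  edge_flip (s0_f1908 IH)
theorem s0_f1059r : ed sl_df sq33 = sq33 :=
  edge_flip (s0_f1059 IH)
theorem s0_f1907r : ed sl_ef sq33 = sq23 :=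
  edge_flip (s0_f1907 IH)
theorem s0_f1906r : ed sl_ff sq23 = sq18 :=
  edge_flip (s0_f1906 IH)
theorem s0_f1040r : ed sl_df sq18 = sq13 :=
  edge_flip (s0_f1040 IH)
theorem s0_f962r : ed sl_hf sq13 = sq13 :=
  edge_flip (s0_f962 IH)
theorem s0_f961r : ed sl_if sq13 = sq8 :=
  edge_flip (s0_f961 IH)
theorem s0_f959r : ed sl_df sq8 = sq12 :=
  edge_flip (s0_f959 IH)
theorem s0_f1902r : ed sl_cf sq12 = sq17 :=
  edge_flip (s0_f1902 IH)
theorem s0_f1869r : ed sl_bf sq17 = sq24 :=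
  edge_flip (s0_f1869 IH)
theorem s0_f1670r : ed sl_df sq24 = sq24 :=
  edge_flip (s0_f1670 IH)
theorem s0_f1867r : ed sl_ef sq24 = sq24 :=
  edge_flip (s0_f1867 IH)
theorem s0_f1866r : ed sl_ff sq24 = sq30 :=
  edge_flip (s0_f1866 IH)
theorem s0_f1925r : ed sl_df sq30 = sq30 :=
  edge_flip (s0_f1925 IH)
theorem s0_f1000r : ed sl_hf sq30 = sq30 :=
  edge_flip (s0_f1000 IH)
theorem s0_f1926r : ed sl_if sq30 = sq46 :=
  edge_flip (s0_f1926 IH)
theorem s0_f90r : ed sl_df sq46 = sq46 :=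
  edge_flip (s0_f90 IH)
theorem s0_f1927r : ed sl_cf sq46 = sq46 :=
  edge_flip (s0_f1927 IH)
theorem s0_f1791r : ed sl_bf sq46 = sq32 :=
  edge_flip (s0_f1791 IH)
theorem s0_f1676r : ed sl_df sq32 = sq32 :=
  edge_flip (s0_f1676 IH)
theorem s0_f1928r : ed sl_ef sq32 = sq48 :=
  edge_flip (s0_f1928 IH)
theorem s0_f1929r : ed sl_ff sq48 = sq48 :=
  edge_flip (s0_f1929 IH)
theorem s0_f1930r : ed sl_df sq48 = sq69 :=
  edge_flip (s0_f1930 IH)
theorem s0_f1931r : ed sl_hf sq69 = sq99 :=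
  edge_flip (s0_f1931 IH)
theorem s0_f1932r : ed sl_if sq99 = sq137 :=
  edge_flip (s0_f1932 IH)
theorem s0_f463r : ed sl_df sq137 = sq184 :=
  edge_flip (s0_f463 IH)
theorem s0_f861r : ed sl_cf sq184 = sq242 :=
  edge_flip (s0_f861 IH)
theorem s0_f372r : ed sl_bf sq242 = sq317 :=
  edge_flip (s0_f372 IH)
theorem s0_f1933r : ed sl_df sq317 = sq317 :=
  edge_flip (s0_f1933 IH)
theorem s0_f1934r : ed sl_ef sq317 = sq413 :=
  edge_flip (s0_f1934 IH)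
theorem s0_f1935r : ed sl_ff sq413 = sq536 :=
  edge_flip (s0_f1935 IH)
theorem s0_f1070r : ed sl_df sq536 = sq688 :=
  edge_flip (s0_f1070 IH)
theorem s0_f1936r : ed sl_hf sq688 = sq884 :=
  edge_flip (s0_f1936 IH)
theorem s0_f1937r : ed sl_if sq884 = sq884 :=
  edge_flip (s0_f1937 IH)
theorem s0_f1938r : ed sl_df sq884 = sq884 :=
  edge_flip (s0_f1938 IH)
theorem s0_f1939r : ed sl_cf sq884 = sq1126 :=
  edge_flip (s0_f1939 IH)
theorem s0_f1940r : ed sl_bf sq1126 = sq1126 :=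
  edge_flip (s0_f1940 IH)
theorem s0_f1281r : ed sl_df sq1126 = sq1427 :=
  edge_flip (s0_f1281 IH)
theorem s0_f2093 : ed sl_ef sq1427 = s0_v147 :=
  gap_rel s0_rot28 (path_edge (s0_f1281r IH) (path_edge (s0_f1940r IH) (path_edge (s0_f1939r IH) (path_edge (s0_f1938r IH) (path_edge (s0_f1937r IH) (path_edge (s0_f1936r IH) (path_edge (s0_f1070r IH) (path_edge (s0_f1935r IH) (path_edge (s0_f1934r IH) (path_edge (s0_f1933r IH) (path_edge (s0_f372r IH) (path_edge (s0_f861r IH) (path_edge (s0_f463r IH) (path_edge (s0_f1932r IH) (path_edge (s0_f1931r IH) (path_edge (s0_f1930r IH) (path_edge (s0_f1929r IH) (path_edge (s0_f1928r IH) (path_edge (s0_f1676r IH) (path_edge (s0_f1791r IH) (path_edge (s0_f1927r IH) (path_edge (s0_f90r IH) (path_edge (s0_f1926r IH) (path_edge (s0_f1000r IH) (path_edge (s0_f1925r IH) (path_edge (s0_f1866r IH) (path_edge (s0_f1867r IH) (path_edge (s0_f1670r IH) (path_edge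 (s0_f1869r IH) (path_edge (s0_f1902r IH) (path_edge (s0_f959r IH) (path_edge (s0_f961r IH) (path_edge (s0_f962r IH) (path_edge (s0_f1040r IH) (path_edge (s0_f1906r IH) (path_edge (s0_f1907r IH) (path_edge (s0_f1059r IH) (path_edge (s0_f1908r IH) (path_edge (s0_f1909r IH) (path_edge (s0_f1910r IH) (path_edge (s0_f1911r IH) (path_edge (s0_f1912r IH) (path_edge (s0_f1913r IH) (path_edge (s0_f1914r IH) (path_edge (s0_f1915r IH) (path_edge (s0_f1913r IH) (path_edge (s0_f1916r IH) (path_edge (s0_f1917r IH) (path_edge (s0_f1011r IH) (path_edge (s0_f1918r IH) (path_edge (s0_f1919r IH) (path_edge (s0_f1920r IH) (path_edge (s0_f1921r IH) (path_edge (s0_f1922r IH) (path_edge (s0_f1923r IH) (path_edge (s0_f1924r IH) (path_edge (s0_f1941r IH) (path_edge (s0_f1992r IH) (path_edge (s0_f1995 IH) (path_edge (s0_f2009r IH) (path_edge (s0_f2013r IH) (path_edge (s0_f2021r IH) (path_edge (s0_f2028r IH) (path_edge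 (s0_f2033r IH) (path_edge (s0_f2037r IH) (path_edge (s0_f2041r IH) (path_edge (s0_f2045r IH) (path_edge (s0_f2048r IH) (path_edge (s0_f2051r IH) (path_edge (s0_f2054r IH) (path_edge (s0_f2056 IH) (path_edge (s0_f2057r IH) (path_edge (s0_f2059r IH) (path_edge (s0_f2061r IH) (path_edge (s0_f2063r IH) (path_edge (s0_f2065r IH) (path_edge (s0_f2067r IH) (path_edge (s0_f2069r IH) (path_edge (s0_f2071r IH) (path_edge (s0_f2073r IH) (path_edge (s0_f2075r IH) (path_edge (s0_f2077r IH) (path_edge (s0_f2079r IH) (path_edge (s0_f2081r IH) (path_edge (s0_f2083r IH) (path_edge (s0_f2085r IH) (path_edge (s0_f2087r IH) (path_edge (s0_f2089r IH) (path_edge (s0_f2091r IH) (path_nil s0_v147))))))))))))))))))))))))))))))))))))))))))))))))))))))))))))))))))))))))))))))))))))))))))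
theorem s0_f2093r : ed sl_et s0_v147 = sq1427 :=
  edge_flip (s0_f2093 IH)
theorem s0_f2122 : ed sl_et sq1427 = s0_v147 :=
  gap_rel s0_rot29 (path_edge (s0_f2093r IH) (path_nil s0_v147))
theorem s0_f2123 : ed sl_ht s0_v85 = s0_v147 :=
  gap_rel s0_rot30 (path_edge (s0_f1472 IH) (path_edge (s0_f1415 IH) (path_edge (s0_f2093r IH) (path_nil s0_v147))))
theorem s0_f2124 : ed sl_it s0_v147 = s0_v147 :=
  gap_rel s0_rot31 (path_edge (s0_f2122 IH) (path_edge (s0_f1426 IH) (path_edge (s0_f2093r IH) (path_nil s0_v147))))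
theorem s0_f2124r : ed sl_if s0_v147 = s0_v147 :=
  edge_flip (s0_f2124 IH)
theorem s0_f2125 : ed sl_if s0_v146 = s0_v146 :=
  gap_rel s0_rot32 (path_edge (s0_f2091r IH) (path_edge (s0_f2124r IH) (path_edge (s0_f2092 IH) (path_nil s0_v146))))
theorem s0_f2123r : ed sl_hf s0_v147 = s0_v85 :=
  edge_flip (s0_f2123 IH)
theorem s0_f2128 : ed sl_hf s0_v85 = s0_v147 :=
  gap_rel s0_rot18 (path_edge (s0_f2123r IH) (path_nil s0_v147))
theorem s0_f2154 : ed sl_at sq36 = sq51 :=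
  real_edge rels S fwd inv o lvl plet idx 54 IH Gen.a sp36 sp51 rfl rfl
theorem s0_f2155 : ed sl_ht sq51 = sq73 :=
  real_edge rels S fwd inv o lvl plet idx 54 IH Gen.h sp51 sp73 rfl rfl
theorem s0_f2156 : ed sl_ft sq73 = sq92 :=
  real_edge rels S fwd inv o lvl plet idx 54 IH Gen.f sp73 sp92 rfl rfl
theorem s0_f2157 : ed sl_et sq92 = sq129 :=
  real_edge rels S fwd inv o lvl plet idx 54 IH Gen.e sp92 sp129 rfl rfl
theorem s0_f2158 : ed sl_ct sq175 = sq231 :=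
  real_edge rels S fwd inv o lvl plet idx 54 IH Gen.c sp175 sp231 rfl rfl
theorem s0_f2159 : ed sl_bt sq231 = sq302 :=
  real_edge rels S fwd inv o lvl plet idx 54 IH Gen.b sp231 sp302 rfl rfl
theorem s0_f2160 : ed sl_at sq302 = sq394 :=
  real_edge rels S fwd inv o lvl plet idx 54 IH Gen.a sp302 sp394 rfl rfl
theorem s0_f2161 : ed sl_ht sq394 = sq511 :=
  real_edge rels S fwd inv o lvl plet idx 54 IH Gen.h sp394 sp511 rfl rfl
theorem s0_f2162 : ed sl_ft sq511 = sq511 :=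
  real_edge rels S fwd inv o lvl plet idx 54 IH Gen.f sp511 sp511 rfl rfl
theorem s0_f2163 : ed sl_et sq511 = sq663 :=
  real_edge rels S fwd inv o lvl plet idx 54 IH Gen.e sp511 sp663 rfl rfl
theorem s0_f2164 : ed sl_dt sq663 = sq853 :=
  real_edge rels S fwd inv o lvl plet idx 54 IH Gen.d sp663 sp853 rfl rfl
theorem s0_f2165 : ed sl_ct sq853 = sq1098 :=
  real_edge rels S fwd inv o lvl plet idx 54 IH Gen.c sp853 sp1098 rfl rfl
theorem s0_f2166 : ed sl_bt sq1098 = sq1396 :=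
  real_edge rels S fwd inv o lvl plet idx 54 IH Gen.b sp1098 sp1396 rfl rfl
theorem s0_f2167 : ed sl_at sq1396 = sq1396 :=
  real_edge rels S fwd inv o lvl plet idx 54 IH Gen.a sp1396 sp1396 rfl rfl
theorem s0_f2168 : ed sl_at sq16 = sq16 :=
  real_edge rels S fwd inv o lvl plet idx 54 IH Gen.a sp16 sp16 rfl rfl
theorem s0_f2169 : ed sl_at sq50 = sq50 :=
  real_edge rels S fwd inv o lvl plet idx 54 IH Gen.a sp50 sp50 rfl rfl
theorem s0_f2170 : ed sl_bt sq50 = sq50 :=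
  real_edge rels S fwd inv o lvl plet idx 54 IH Gen.b sp50 sp50 rfl rfl
theorem s0_f2171 : ed sl_ct sq70 = sq50 :=
  real_edge rels S fwd inv o lvl plet idx 54 IH Gen.c sp70 sp50 rfl rfl
theorem s0_f2172 : ed sl_dt sq100 = sq70 :=
  real_edge rels S fwd inv o lvl plet idx 54 IH Gen.d sp100 sp70 rfl rfl
theorem s0_f2173 : ed sl_et sq140 = sq100 :=
  real_edge rels S fwd inv o lvl plet idx 54 IH Gen.e sp140 sp100 rfl rfl
theorem s0_f2174 : ed sl_ft sq189 = sq140 :=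
  real_edge rels S fwd inv o lvl plet idx 54 IH Gen.f sp189 sp140 rfl rfl
theorem s0_f2175 : ed sl_at sq246 = sq246 :=
  real_edge rels S fwd inv o lvl plet idx 54 IH Gen.a sp246 sp246 rfl rfl
theorem s0_f2176 : ed sl_ht sq1396 = s0_v148 :=
  rfl
theorem s0_f2176r : ed sl_hf s0_v148 = sq1396 :=
  edge_flip (s0_f2176 IH)
theorem s0_f2184 : ed sl_hf sq1396 = s0_v148 :=
  gap_rel s0_rot18 (path_edge (s0_f2176r IH) (path_nil s0_v148))
theorem s0_f2184r : ed sl_ht s0_v148 = sq1396 :=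
  edge_flip (s0_f2184 IH)
theorem s0_f2218 : ed sl_at s0_v148 = s0_v148 :=
  gap_rel s0_rot33 (path_edge (s0_f2176 IH) (path_edge (s0_f2167 IH) (path_edge (s0_f2184r IH) (path_nil s0_v148))))
theorem s0_f2219 : ed sl_bt sq1396 = sq1098 :=
  real_edge rels S fwd inv o lvl plet idx 54 IH Gen.b sp1396 sp1098 rfl rfl
theorem s0_f2278 : ed sl_ft s0_v148 = s0_v149 :=
  rfl
theorem s0_f2278r : ed sl_ff s0_v149 = s0_v148 :=
  edge_flip (s0_f2278 IH)
theorem s0_f2279 : ed sl_ff s0_v148 = s0_v149 :=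
  gap_rel s0_rot0 (path_edge (s0_f2278r IH) (path_nil s0_v149))
theorem s0_f2279r : ed sl_ft s0_v149 = s0_v148 :=
  edge_flip (s0_f2279 IH)
theorem s0_f2280 : ed sl_at s0_v149 = s0_v149 :=
  gap_rel s0_rot34 (path_edge (s0_f2278 IH) (path_edge (s0_f2218 IH) (path_edge (s0_f2279r IH) (path_nil s0_v149))))
theorem s0_f2281 : ed sl_et s0_v149 = s0_v150 :=
  rfl
theorem s0_f2281r : ed sl_ef s0_v150 = s0_v149 :=
  edge_flip (s0_f2281 IH)
theorem s0_f2282 : ed sl_ef s0_v149 = s0_v150 :=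
  gap_rel s0_rot3 (path_edge (s0_f2281r IH) (path_nil s0_v150))
theorem s0_f2282r : ed sl_et s0_v150 = s0_v149 :=
  edge_flip (s0_f2282 IH)
theorem s0_f2283 : ed sl_at s0_v150 = s0_v150 :=
  gap_rel s0_rot35 (path_edge (s0_f2281 IH) (path_edge (s0_f2280 IH) (path_edge (s0_f2282r IH) (path_nil s0_v150))))
theorem s0_f2284 : ed sl_dt s0_v150 = s0_v151 :=
  rfl
theorem s0_f2284r : ed sl_df s0_v151 = s0_v150 :=
  edge_flip (s0_f2284 IH)
theorem s0_f2285 : ed sl_df s0_v150 = s0_v151 :=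
  gap_rel s0_rot5 (path_edge (s0_f2284r IH) (path_nil s0_v151))
theorem s0_f2285r : ed sl_dt s0_v151 = s0_v150 :=
  edge_flip (s0_f2285 IH)
theorem s0_f2286 : ed sl_at s0_v151 = s0_v151 :=
  gap_rel s0_rot36 (path_edge (s0_f2284 IH) (path_edge (s0_f2283 IH) (path_edge (s0_f2285r IH) (path_nil s0_v151))))
theorem s0_f2287 : ed sl_ct s0_v151 = s0_v152 :=
  rfl
theorem s0_f2287r : ed sl_cf s0_v152 = s0_v151 :=
  edge_flip (s0_f2287 IH)
theorem s0_f2288 : ed sl_cf s0_v151 = s0_v152 :=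
  gap_rel s0_rot10 (path_edge (s0_f2287r IH) (path_nil s0_v152))
theorem s0_f2288r : ed sl_ct s0_v152 = s0_v151 :=
  edge_flip (s0_f2288 IH)
theorem s0_f2289 : ed sl_at s0_v152 = s0_v152 :=
  gap_rel s0_rot37 (path_edge (s0_f2287 IH) (path_edge (s0_f2286 IH) (path_edge (s0_f2288r IH) (path_nil s0_v152))))
theorem s0_f2290 : ed sl_bt s0_v152 = s0_v153 :=
  rfl
theorem s0_f2290r : ed sl_bf s0_v153 = s0_v152 :=
  edge_flip (s0_f2290 IH)
theorem s0_f2291 : ed sl_bf s0_v152 = s0_v153 :=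
  gap_rel s0_rot9 (path_edge (s0_f2290r IH) (path_nil s0_v153))
theorem s0_f2292 : ed sl_at s0_v153 = s0_v154 :=
  rfl
theorem s0_f2292r : ed sl_af s0_v154 = s0_v153 :=
  edge_flip (s0_f2292 IH)
theorem s0_f2293 : ed sl_af s0_v153 = s0_v154 :=
  gap_rel s0_rot38 (path_edge (s0_f2292r IH) (path_nil s0_v154))
theorem s0_f2289r : ed sl_af s0_v152 = s0_v152 :=
  edge_flip (s0_f2289 IH)
theorem s0_f2294 : ed sl_bf s0_v154 = s0_v154 :=
  gap_rel s0_rot39 (path_edge (s0_f2293 IH) (path_edge (s0_f2291 IH) (path_edge (s0_f2289r IH) (path_edge (s0_f2290r IH) (path_edge (s0_f2292r IH) (path_nil s0_v154))))))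
theorem s0_f2295 : ed sl_ht s0_v154 = s0_v155 :=
  rfl
theorem s0_f2295r : ed sl_hf s0_v155 = s0_v154 :=
  edge_flip (s0_f2295 IH)
theorem s0_f2296 : ed sl_hf s0_v154 = s0_v155 :=
  gap_rel s0_rot18 (path_edge (s0_f2295r IH) (path_nil s0_v155))
theorem s0_f2296r : ed sl_ht s0_v155 = s0_v154 :=
  edge_flip (s0_f2296 IH)
theorem s0_f2294r : ed sl_bt s0_v154 = s0_v154 :=
  edge_flip (s0_f2294 IH)
theorem s0_f2297 : ed sl_bt s0_v155 = s0_v155 :=
  gap_rel s0_rot40 (path_edge (s0_f2295 IH) (path_edge (s0_f2294r IH) (path_edge (s0_f2296r IH) (path_nil s0_v155))))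
theorem s0_f2298 : ed sl_ft s0_v155 = s0_v156 :=
  rfl
theorem s0_f2298r : ed sl_ff s0_v156 = s0_v155 :=
  edge_flip (s0_f2298 IH)
theorem s0_f2299 : ed sl_ff s0_v155 = s0_v156 :=
  gap_rel s0_rot0 (path_edge (s0_f2298r IH) (path_nil s0_v156))
theorem s0_f2299r : ed sl_ft s0_v156 = s0_v155 :=
  edge_flip (s0_f2299 IH)
theorem s0_f2300 : ed sl_bt s0_v156 = s0_v156 :=
  gap_rel s0_rot41 (path_edge (s0_f2298 IH) (path_edge (s0_f2297 IH) (path_edge (s0_f2299r IH) (path_nil s0_v156))))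
theorem s0_f2301 : ed sl_et s0_v156 = s0_v157 :=
  rfl
theorem s0_f2301r : ed sl_ef s0_v157 = s0_v156 :=
  edge_flip (s0_f2301 IH)
theorem s0_f2302 : ed sl_ef s0_v156 = s0_v157 :=
  gap_rel s0_rot3 (path_edge (s0_f2301r IH) (path_nil s0_v157))
theorem s0_f2302r : ed sl_et s0_v157 = s0_v156 :=
  edge_flip (s0_f2302 IH)
theorem s0_f2303 : ed sl_bt s0_v157 = s0_v157 :=
  gap_rel s0_rot42 (path_edge (s0_f2301 IH) (path_edge (s0_f2300 IH) (path_edge (s0_f2302r IH) (path_nil s0_v157))))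
theorem s0_f2304 : ed sl_dt s0_v157 = s0_v158 :=
  rfl
theorem s0_f2304r : ed sl_df s0_v158 = s0_v157 :=
  edge_flip (s0_f2304 IH)
theorem s0_f2305 : ed sl_df s0_v157 = s0_v158 :=
  gap_rel s0_rot5 (path_edge (s0_f2304r IH) (path_nil s0_v158))
theorem s0_f2305r : ed sl_dt s0_v158 = s0_v157 :=
  edge_flip (s0_f2305 IH)
theorem s0_f2306 : ed sl_bt s0_v158 = s0_v158 :=
  gap_rel s0_rot43 (path_edge (s0_f2304 IH) (path_edge (s0_f2303 IH) (path_edge (s0_f2305r IH) (path_nil s0_v158))))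
theorem s0_f2307 : ed sl_ct s0_v158 = s0_v159 :=
  rfl
theorem s0_f2307r : ed sl_cf s0_v159 = s0_v158 :=
  edge_flip (s0_f2307 IH)
theorem s0_f2308 : ed sl_cf s0_v158 = s0_v159 :=
  gap_rel s0_rot10 (path_edge (s0_f2307r IH) (path_nil s0_v159))
theorem s0_f2309 : ed sl_bt s0_v159 = s0_v160 :=
  rfl
theorem s0_f2309r : ed sl_bf s0_v160 = s0_v159 :=
  edge_flip (s0_f2309 IH)
theorem s0_f2310 : ed sl_bf s0_v159 = s0_v160 :=
  gap_rel s0_rot9 (path_edge (s0_f2309r IH) (path_nil s0_v160))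
theorem s0_f2306r : ed sl_bf s0_v158 = s0_v158 :=
  edge_flip (s0_f2306 IH)
theorem s0_f2311 : ed sl_cf s0_v160 = s0_v160 :=
  gap_rel s0_rot44 (path_edge (s0_f2310 IH) (path_edge (s0_f2308 IH) (path_edge (s0_f2306r IH) (path_edge (s0_f2307r IH) (path_edge (s0_f2309r IH) (path_nil s0_v160))))))
theorem s0_f2312 : ed sl_at s0_v160 = s0_v161 :=
  rfl
theorem s0_f2312r : ed sl_af s0_v161 = s0_v160 :=
  edge_flip (s0_f2312 IH)
theorem s0_f2313 : ed sl_af s0_v160 = s0_v161 :=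
  gap_rel s0_rot38 (path_edge (s0_f2312r IH) (path_nil s0_v161))
theorem s0_f2314 : ed sl_cf s0_v161 = s0_v161 :=
  gap_rel s0_rot45 (path_edge (s0_f2313 IH) (path_edge (s0_f2311 IH) (path_edge (s0_f2312r IH) (path_nil s0_v161))))
theorem s0_f2315 : ed sl_ht s0_v161 = s0_v162 :=
  rfl
theorem s0_f2315r : ed sl_hf s0_v162 = s0_v161 :=
  edge_flip (s0_f2315 IH)
theorem s0_f2316 : ed sl_hf s0_v161 = s0_v162 :=
  gap_rel s0_rot18 (path_edge (s0_f2315r IH) (path_nil s0_v162))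
theorem s0_f2318 : ed sl_ft s0_v162 = s0_v163 :=
  rfl
theorem s0_f2318r : ed sl_ff s0_v163 = s0_v162 :=
  edge_flip (s0_f2318 IH)
theorem s0_f2319 : ed sl_ff s0_v162 = s0_v163 :=
  gap_rel s0_rot0 (path_edge (s0_f2318r IH) (path_nil s0_v163))
theorem s0_f2167r : ed sl_af sq1396 = sq1396 :=
  edge_flip (s0_f2167 IH)
theorem s0_f2166r : ed sl_bf sq1396 = sq1098 :=
  edge_flip (s0_f2166 IH)
theorem s0_f2165r : ed sl_cf sq1098 = sq853 :=
  edge_flip (s0_f2165 IH)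
theorem s0_f2164r : ed sl_df sq853 = sq663 :=
  edge_flip (s0_f2164 IH)
theorem s0_f2163r : ed sl_ef sq663 = sq511 :=
  edge_flip (s0_f2163 IH)
theorem s0_f2162r : ed sl_ff sq511 = sq511 :=
  edge_flip (s0_f2162 IH)
theorem s0_f2161r : ed sl_hf sq511 = sq394 :=
  edge_flip (s0_f2161 IH)
theorem s0_f2160r : ed sl_af sq394 = sq302 :=
  edge_flip (s0_f2160 IH)
theorem s0_f2159r : ed sl_bf sq302 = sq231 :=
  edge_flip (s0_f2159 IH)
theorem s0_f2158r : ed sl_cf sq231 = sq175 :=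
  edge_flip (s0_f2158 IH)
theorem s0_f2157r : ed sl_ef sq129 = sq92 :=
  edge_flip (s0_f2157 IH)
theorem s0_f2156r : ed sl_ff sq92 = sq73 :=
  edge_flip (s0_f2156 IH)
theorem s0_f2155r : ed sl_hf sq73 = sq51 :=
  edge_flip (s0_f2155 IH)
theorem s0_f2154r : ed sl_af sq51 = sq36 :=
  edge_flip (s0_f2154 IH)
theorem s0_f1673r : ed sl_bf sq36 = sq25 :=
  edge_flip (s0_f1673 IH)
theorem s0_f1042r : ed sl_cf sq25 = sq18 :=
  edge_flip (s0_f1042 IH)
theorem s0_f1037r : ed sl_ef sq13 = sq9 :=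
  edge_flip (s0_f1037 IH)
theorem s0_f1038r : ed sl_ff sq9 = sq9 :=
  edge_flip (s0_f1038 IH)
theorem s0_f951r : ed sl_hf sq9 = sq9 :=
  edge_flip (s0_f951 IH)
theorem s0_f1036r : ed sl_af sq9 = sq9 :=
  edge_flip (s0_f1036 IH)
theorem s0_f647r : ed sl_bf sq9 = sq9 :=
  edge_flip (s0_f647 IH)
theorem s0_f646r : ed sl_cf sq9 = sq9 :=
  edge_flip (s0_f646 IH)
theorem s0_f645r : ed sl_df sq9 = sq9 :=
  edge_flip (s0_f645 IH)
theorem s0_f648r : ed sl_ef sq9 = sq13 :=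
  edge_flip (s0_f648 IH)
theorem s0_f649r : ed sl_ff sq13 = sq16 :=
  edge_flip (s0_f649 IH)
theorem s0_f1332r : ed sl_hf sq16 = sq16 :=
  edge_flip (s0_f1332 IH)
theorem s0_f2168r : ed sl_af sq16 = sq16 :=
  edge_flip (s0_f2168 IH)
theorem s0_f1056r : ed sl_bf sq16 = sq16 :=
  edge_flip (s0_f1056 IH)
theorem s0_f1055r : ed sl_cf sq16 = sq16 :=
  edge_flip (s0_f1055 IH)
theorem s0_f87r : ed sl_df sq16 = sq23 :=
  edge_flip (s0_f87 IH)
theorem s0_f1057r : ed sl_ef sq23 = sq33 :=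
  edge_flip (s0_f1057 IH)
theorem s0_f1058r : ed sl_ff sq33 = sq33 :=
  edge_flip (s0_f1058 IH)
theorem s0_f1060r : ed sl_hf sq33 = sq50 :=
  edge_flip (s0_f1060 IH)
theorem s0_f2169r : ed sl_af sq50 = sq50 :=
  edge_flip (s0_f2169 IH)
theorem s0_f2170r : ed sl_bf sq50 = sq50 :=
  edge_flip (s0_f2170 IH)
theorem s0_f2171r : ed sl_cf sq50 = sq70 :=
  edge_flip (s0_f2171 IH)
theorem s0_f2172r : ed sl_df sq70 = sq100 :=
  edge_flip (s0_f2172 IH)
theorem s0_f2173r : ed sl_ef sq100 = sq140 :=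
  edge_flip (s0_f2173 IH)
theorem s0_f2174r : ed sl_ff sq140 = sq189 :=
  edge_flip (s0_f2174 IH)
theorem s0_f1713r : ed sl_hf sq189 = sq246 :=
  edge_flip (s0_f1713 IH)
theorem s0_f2175r : ed sl_af sq246 = sq246 :=
  edge_flip (s0_f2175 IH)
theorem s0_f1626r : ed sl_bf sq246 = sq310 :=
  edge_flip (s0_f1626 IH)
theorem s0_f1714r : ed sl_cf sq310 = sq405 :=
  edge_flip (s0_f1714 IH)
theorem s0_f240r : ed sl_df sq405 = sq527 :=
  edge_flip (s0_f240 IH)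
theorem s0_f2320 : ed sl_ef sq527 = s0_v163 :=
  gap_rel s0_rot46 (path_edge (s0_f240r IH) (path_edge (s0_f1714r IH) (path_edge (s0_f1626r IH) (path_edge (s0_f2175r IH) (path_edge (s0_f1713r IH) (path_edge (s0_f2174r IH) (path_edge (s0_f2173r IH) (path_edge (s0_f2172r IH) (path_edge (s0_f2171r IH) (path_edge (s0_f2170r IH) (path_edge (s0_f2169r IH) (path_edge (s0_f1060r IH) (path_edge (s0_f1058r IH) (path_edge (s0_f1057r IH) (path_edge (s0_f87r IH) (path_edge (s0_f1055r IH) (path_edge (s0_f1056r IH) (path_edge (s0_f2168r IH) (path_edge (s0_f1332r IH) (path_edge (s0_f649r IH) (path_edge (s0_f648r IH) (path_edge (s0_f645r IH) (path_edge (s0_f646r IH) (path_edge (s0_f647r IH) (path_edge (s0_f1036r IH) (path_edge (s0_f951r IH) (path_edge (s0_f1038r IH) (path_edge (s0_f1037r IH) (path_edge (s0_f1040r IH) (path_edge (s0_f1042r IH) (path_edge (s0_f1673r IH) (path_edge (s0_f2154r IH) (path_edge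 (s0_f2155r IH) (path_edge (s0_f2156r IH) (path_edge (s0_f2157r IH) (path_edge (s0_f1920r IH) (path_edge (s0_f2158r IH) (path_edge (s0_f2159r IH) (path_edge (s0_f2160r IH) (path_edge (s0_f2161r IH) (path_edge (s0_f2162r IH) (path_edge (s0_f2163r IH) (path_edge (s0_f2164r IH) (path_edge (s0_f2165r IH) (path_edge (s0_f2166r IH) (path_edge (s0_f2167r IH) (path_edge (s0_f2176r IH) (path_edge (s0_f2278r IH) (path_edge (s0_f2281r IH) (path_edge (s0_f2284r IH) (path_edge (s0_f2287r IH) (path_edge (s0_f2290r IH) (path_edge (s0_f2292r IH) (path_edge (s0_f2295r IH) (path_edge (s0_f2298r IH) (path_edge (s0_f2301r IH) (path_edge (s0_f2304r IH) (path_edge (s0_f2307r IH) (path_edge (s0_f2309r IH) (path_edge (s0_f2312r IH) (path_edge (s0_f2315r IH) (path_edge (s0_f2318r IH) (path_nil s0_v163)))))))))))))))))))))))))))))))))))))))))))))))))))))))))))))))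
theorem s0_f2320r : ed sl_et s0_v163 = sq527 :=
  edge_flip (s0_f2320 IH)
theorem s0_f2323 : ed sl_ht s0_v1 = s0_v163 :=
  gap_rel s0_rot30 (path_edge (s0_f306 IH) (path_edge (s0_f152 IH) (path_edge (s0_f2320r IH) (path_nil s0_v163))))
theorem s0_f2335 : sq860 = s0_v162 :=
  (loop_rel s0_rot47 (path_edge (s0_f262 IH) (path_edge (s0_f261 IH) (path_edge (s0_f267 IH) (path_edge (s0_f107 IH) (path_edge (s0_f2320r IH) (path_edge (s0_f2318 IH) (path_nil s0_v162)))))))).symm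
theorem s0_f750r : ed sl_hf sq861 = sq668 :=
  edge_flip (s0_f750 IH)
theorem s0_f488r : ed sl_ef sq668 = sq860 :=
  edge_flip (s0_f488 IH)
theorem s0_f2337 : ed sl_ef s0_v161 = sq861 :=
  gap_rel s0_rot48 (path_edge (s0_f2315r IH) (path_eq (s0_f2335 IH) (path_edge (s0_f488r IH) (path_edge (s0_f750r IH) (path_nil sq861)))))
theorem s0_f2337r : ed sl_et sq861 = s0_v161 :=
  edge_flip (s0_f2337 IH)
theorem s0_f2314r : ed sl_ct s0_v161 = s0_v161 :=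
  edge_flip (s0_f2314 IH)
theorem s0_f2338 : ed sl_et s0_v161 = sq861 :=
  gap_rel s0_rot49 (path_edge (s0_f2314r IH) (path_edge (s0_f2337r IH) (path_edge (s0_f747 IH) (path_nil sq861))))
theorem s0_f2339 : ed sl_ft s0_v161 = s0_v1 :=
  gap_rel s0_rot50 (path_edge (s0_f2337r IH) (path_edge (s0_f149 IH) (path_edge (s0_f148 IH) (path_edge (s0_f109r IH) (path_edge (s0_f307r IH) (path_nil s0_v1))))))
theorem s0_f2354 : ed sl_dt sq138 = sq99 :=
  real_edge rels S fwd inv o lvl plet idx 54 IH Gen.d sp138 sp99 rfl rfl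
theorem s0_f796r : ed sl_et s0_v28 = s0_v27 :=
  edge_flip (s0_f796 IH)
theorem s0_f665r : ed sl_at s0_v27 = sq861 :=
  edge_flip (s0_f665 IH)
theorem s0_f2313r : ed sl_at s0_v161 = s0_v160 :=
  edge_flip (s0_f2313 IH)
theorem s0_f2380 : s0_v160 = s0_v28 :=
  (loop_rel s0_rot35 (path_edge (s0_f2313r IH) (path_edge (s0_f2337r IH) (path_edge (s0_f665r IH) (path_edge (s0_f796r IH) (path_nil s0_v28)))))).symm
theorem s0_f2381 : ed sl_df s0_v30 = s0_v159 :=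
  gap_rel s0_rot51 (path_edge (s0_f802 IH) (path_edge (s0_f799 IH) (path_eq (s0_f2380 IH) (path_edge (s0_f2310 IH) (path_nil s0_v159)))))
theorem s0_f2381r : ed sl_dt s0_v159 = s0_v30 :=
  edge_flip (s0_f2381 IH)
theorem s0_f2382 : ed sl_ct s0_v32 = s0_v157 :=
  gap_rel s0_rot52 (path_edge (s0_f807 IH) (path_edge (s0_f804 IH) (path_edge (s0_f2381r IH) (path_edge (s0_f2307 IH) (path_edge (s0_f2304 IH) (path_nil s0_v157))))))
theorem s0_f308r : ed sl_cf s0_v1 = s0_v1 :=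
  edge_flip (s0_f308 IH)
theorem s0_f2339r : ed sl_ff s0_v1 = s0_v161 :=
  edge_flip (s0_f2339 IH)
theorem s0_f2385 : ed sl_ff s0_v161 = s0_v1 :=
  gap_rel s0_rot24 (path_edge (s0_f2314 IH) (path_edge (s0_f2339r IH) (path_edge (s0_f308r IH) (path_nil s0_v1))))
theorem s0_f2385r : ed sl_ft s0_v1 = s0_v161 :=
  edge_flip (s0_f2385 IH)
theorem s0_f2386 : ed sl_ht s0_v163 = s0_v1 :=
  gap_rel s0_rot2 (path_edge (s0_f2318 IH) (path_edge (s0_f2315 IH) (path_edge (s0_f2385r IH) (path_nil s0_v1))))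
theorem s0_f263r : ed sl_df sq860 = sq860 :=
  edge_flip (s0_f263 IH)
theorem s0_f2401 : ed sl_df s0_v163 = s0_v163 :=
  gap_rel s0_rot53 (path_edge (s0_f2319 IH) (path_eq (s0_f2335 IH) (path_edge (s0_f263r IH) (path_eq (s0_f2335 IH).symm (path_edge (s0_f2318r IH) (path_nil s0_v163))))))
theorem s0_f310r : ed sl_dt s0_v2 = s0_v1 :=
  edge_flip (s0_f310 IH)
theorem s0_f2401r : ed sl_dt s0_v163 = s0_v163 :=
  edge_flip (s0_f2401 IH)
theorem s0_f2422 : ed sl_ht s0_v2 = s0_v2 :=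
  gap_rel s0_rot54 (path_edge (s0_f309 IH) (path_edge (s0_f2386 IH) (path_edge (s0_f2401r IH) (path_edge (s0_f2323 IH) (path_edge (s0_f310r IH) (path_nil s0_v2))))))
theorem s0_f2496 : ed sl_bt sq854 = sq854 :=
  real_edge rels S fwd inv o lvl plet idx 54 IH Gen.b sp854 sp854 rfl rfl
theorem s0_f3229 : ed sl_ht sq671 = sq866 :=
  real_edge rels S fwd inv o lvl plet idx 54 IH Gen.h sp671 sp866 rfl rfl
theorem s0_f3456 : ed sl_dt sq130 = sq92 :=
  real_edge rels S fwd inv o lvl plet idx 54 IH Gen.d sp130 sp92 rfl rfl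
theorem s0_f3459 : ed sl_ct sq92 = sq92 :=
  real_edge rels S fwd inv o lvl plet idx 54 IH Gen.c sp92 sp92 rfl rfl
theorem s0_f3460 : ed sl_bt sq92 = sq92 :=
  real_edge rels S fwd inv o lvl plet idx 54 IH Gen.b sp92 sp92 rfl rfl
theorem s0_f3494 : ed sl_ct sq50 = sq70 :=
  real_edge rels S fwd inv o lvl plet idx 54 IH Gen.c sp50 sp70 rfl rfl
theorem s0_f3495 : ed sl_et sq72 = sq72 :=
  real_edge rels S fwd inv o lvl plet idx 54 IH Gen.e sp72 sp72 rfl rfl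
theorem s0_f3496 : ed sl_ft sq72 = sq72 :=
  real_edge rels S fwd inv o lvl plet idx 54 IH Gen.f sp72 sp72 rfl rfl
theorem s0_f3528 : ed sl_at sq18 = sq18 :=
  real_edge rels S fwd inv o lvl plet idx 54 IH Gen.a sp18 sp18 rfl rfl
theorem s0_f3547 : ed sl_ht sq45 = sq45 :=
  real_edge rels S fwd inv o lvl plet idx 54 IH Gen.h sp45 sp45 rfl rfl
theorem s0_f5021 : ed sl_ft sq37 = sq49 :=
  real_edge rels S fwd inv o lvl plet idx 54 IH Gen.f sp37 sp49 rfl rfl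
theorem s0_f5022 : ed sl_et sq49 = sq70 :=
  real_edge rels S fwd inv o lvl plet idx 54 IH Gen.e sp49 sp70 rfl rfl
theorem s0_f5057 : ed sl_at sq854 = sq1098 :=
  real_edge rels S fwd inv o lvl plet idx 54 IH Gen.a sp854 sp1098 rfl rfl
theorem s0_f5865 : ed sl_ht sq33 = sq50 :=
  real_edge rels S fwd inv o lvl plet idx 54 IH Gen.h sp33 sp50 rfl rfl
theorem s0_f6048 : ed sl_at sq25 = sq25 :=
  real_edge rels S fwd inv o lvl plet idx 54 IH Gen.a sp25 sp25 rfl rfl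
theorem s0_f6052 : ed sl_bt sq102 = sq142 :=
  real_edge rels S fwd inv o lvl plet idx 54 IH Gen.b sp102 sp142 rfl rfl
theorem s0_f6053 : ed sl_at sq142 = sq191 :=
  real_edge rels S fwd inv o lvl plet idx 54 IH Gen.a sp142 sp191 rfl rfl
theorem s0_f6054 : ed sl_ht sq191 = sq191 :=
  real_edge rels S fwd inv o lvl plet idx 54 IH Gen.h sp191 sp191 rfl rfl
theorem s0_f6055 : ed sl_ft sq191 = sq191 :=
  real_edge rels S fwd inv o lvl plet idx 54 IH Gen.f sp191 sp191 rfl rfl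
theorem s0_f6056 : ed sl_et sq191 = sq191 :=
  real_edge rels S fwd inv o lvl plet idx 54 IH Gen.e sp191 sp191 rfl rfl
theorem s0_f6057 : ed sl_dt sq191 = sq247 :=
  real_edge rels S fwd inv o lvl plet idx 54 IH Gen.d sp191 sp247 rfl rfl
theorem s0_f6058 : ed sl_ct sq247 = sq311 :=
  real_edge rels S fwd inv o lvl plet idx 54 IH Gen.c sp247 sp311 rfl rfl
theorem s0_f6059 : ed sl_bt sq311 = sq394 :=
  real_edge rels S fwd inv o lvl plet idx 54 IH Gen.b sp311 sp394 rfl rfl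
theorem s0_f6060 : ed sl_at sq394 = sq302 :=
  real_edge rels S fwd inv o lvl plet idx 54 IH Gen.a sp394 sp302 rfl rfl
theorem s0_f6061 : ed sl_ht sq302 = sq392 :=
  real_edge rels S fwd inv o lvl plet idx 54 IH Gen.h sp302 sp392 rfl rfl
theorem s0_f6062 : ed sl_at sq49 = sq49 :=
  real_edge rels S fwd inv o lvl plet idx 54 IH Gen.a sp49 sp49 rfl rfl
theorem s0_f6063 : ed sl_ct sq67 = sq67 :=
  real_edge rels S fwd inv o lvl plet idx 54 IH Gen.c sp67 sp67 rfl rfl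
theorem s0_f6064 : ed sl_ht sq1098 = s0_v349 :=
  rfl
theorem s0_f6064r : ed sl_hf s0_v349 = sq1098 :=
  edge_flip (s0_f6064 IH)
theorem s0_f2219r : ed sl_bf sq1098 = sq1396 :=
  edge_flip (s0_f2219 IH)
theorem s0_f6066 : ed sl_bf s0_v148 = s0_v349 :=
  gap_rel s0_rot55 (path_edge (s0_f2184 IH) (path_edge (s0_f2219r IH) (path_edge (s0_f6064r IH) (path_nil s0_v349))))
theorem s0_f6131 : ed sl_ft s0_v349 = s0_v350 :=
  rfl
theorem s0_f6131r : ed sl_ff s0_v350 = s0_v349 :=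
  edge_flip (s0_f6131 IH)
theorem s0_f6133 : ed sl_ff s0_v349 = s0_v350 :=
  gap_rel s0_rot0 (path_edge (s0_f6131r IH) (path_nil s0_v350))
theorem s0_f6133r : ed sl_ft s0_v350 = s0_v349 :=
  edge_flip (s0_f6133 IH)
theorem s0_f6066r : ed sl_bt s0_v349 = s0_v148 :=
  edge_flip (s0_f6066 IH)
theorem s0_f6134 : ed sl_bt s0_v149 = s0_v350 :=
  gap_rel s0_rot41 (path_edge (s0_f2278 IH) (path_edge (s0_f6066r IH) (path_edge (s0_f6133r IH) (path_nil s0_v350))))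
theorem s0_f6135 : ed sl_et s0_v350 = s0_v351 :=
  rfl
theorem s0_f6135r : ed sl_ef s0_v351 = s0_v350 :=
  edge_flip (s0_f6135 IH)
theorem s0_f6134r : ed sl_bf s0_v350 = s0_v149 :=
  edge_flip (s0_f6134 IH)
theorem s0_f6136 : ed sl_bf s0_v150 = s0_v351 :=
  gap_rel s0_rot56 (path_edge (s0_f2282 IH) (path_edge (s0_f6134r IH) (path_edge (s0_f6135r IH) (path_nil s0_v351))))
theorem s0_f6139 : ed sl_dt s0_v351 = s0_v352 :=
  rfl
theorem s0_f6139r : ed sl_df s0_v352 = s0_v351 :=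
  edge_flip (s0_f6139 IH)
theorem s0_f6141 : ed sl_df s0_v351 = s0_v352 :=
  gap_rel s0_rot5 (path_edge (s0_f6139r IH) (path_nil s0_v352))
theorem s0_f6141r : ed sl_dt s0_v352 = s0_v351 :=
  edge_flip (s0_f6141 IH)
theorem s0_f6136r : ed sl_bt s0_v351 = s0_v150 :=
  edge_flip (s0_f6136 IH)
theorem s0_f6142 : ed sl_bt s0_v151 = s0_v352 :=
  gap_rel s0_rot43 (path_edge (s0_f2284 IH) (path_edge (s0_f6136r IH) (path_edge (s0_f6141r IH) (path_nil s0_v352))))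
theorem s0_f6143 : ed sl_ct s0_v352 = s0_v353 :=
  rfl
theorem s0_f6145 : ed sl_bt s0_v353 = s0_v354 :=
  rfl
theorem s0_f6145r : ed sl_bf s0_v354 = s0_v353 :=
  edge_flip (s0_f6145 IH)
theorem s0_f6143r : ed sl_cf s0_v353 = s0_v352 :=
  edge_flip (s0_f6143 IH)
theorem s0_f6142r : ed sl_bf s0_v352 = s0_v151 :=
  edge_flip (s0_f6142 IH)
theorem s0_f6147 : ed sl_cf s0_v153 = s0_v354 :=
  gap_rel s0_rot44 (path_edge (s0_f2291 IH) (path_edge (s0_f2288 IH) (path_edge (s0_f6142r IH) (path_edge (s0_f6143r IH) (path_edge (s0_f6145r IH) (path_nil s0_v354))))))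
theorem s0_f6147r : ed sl_ct s0_v354 = s0_v153 :=
  edge_flip (s0_f6147 IH)
theorem s0_f6148 : ed sl_ct s0_v153 = s0_v354 :=
  gap_rel s0_rot57 (path_edge (s0_f6147r IH) (path_nil s0_v354))
theorem s0_f6149 : ed sl_at s0_v354 = s0_v355 :=
  rfl
theorem s0_f6149r : ed sl_af s0_v355 = s0_v354 :=
  edge_flip (s0_f6149 IH)
theorem s0_f6148r : ed sl_cf s0_v354 = s0_v153 :=
  edge_flip (s0_f6148 IH)
theorem s0_f6151 : ed sl_cf s0_v154 = s0_v355 :=
  gap_rel s0_rot45 (path_edge (s0_f2293 IH) (path_edge (s0_f6148r IH) (path_edge (s0_f6149r IH) (path_nil s0_v355))))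
theorem s0_f6151r : ed sl_ct s0_v355 = s0_v154 :=
  edge_flip (s0_f6151 IH)
theorem s0_f6152 : ed sl_ct s0_v154 = s0_v355 :=
  gap_rel s0_rot57 (path_edge (s0_f6151r IH) (path_nil s0_v355))
theorem s0_f6153 : ed sl_ht s0_v355 = s0_v356 :=
  rfl
theorem s0_f6153r : ed sl_hf s0_v356 = s0_v355 :=
  edge_flip (s0_f6153 IH)
theorem s0_f6152r : ed sl_cf s0_v355 = s0_v154 :=
  edge_flip (s0_f6152 IH)
theorem s0_f6154 : ed sl_cf s0_v155 = s0_v356 :=
  gap_rel s0_rot58 (path_edge (s0_f2296 IH) (path_edge (s0_f6152r IH) (path_edge (s0_f6153r IH) (path_nil s0_v356))))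
theorem s0_f6157 : ed sl_ft s0_v356 = s0_v357 :=
  rfl
theorem s0_f6157r : ed sl_ff s0_v357 = s0_v356 :=
  edge_flip (s0_f6157 IH)
theorem s0_f6159 : ed sl_ff s0_v356 = s0_v357 :=
  gap_rel s0_rot0 (path_edge (s0_f6157r IH) (path_nil s0_v357))
theorem s0_f6159r : ed sl_ft s0_v357 = s0_v356 :=
  edge_flip (s0_f6159 IH)
theorem s0_f6154r : ed sl_ct s0_v356 = s0_v155 :=
  edge_flip (s0_f6154 IH)
theorem s0_f6160 : ed sl_ct s0_v156 = s0_v357 :=
  gap_rel s0_rot1 (path_edge (s0_f2298 IH) (path_edge (s0_f6154r IH) (path_edge (s0_f6159r IH) (path_nil s0_v357))))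
theorem s0_f6160r : ed sl_cf s0_v357 = s0_v156 :=
  edge_flip (s0_f6160 IH)
theorem s0_f2382r : ed sl_cf s0_v157 = s0_v32 :=
  edge_flip (s0_f2382 IH)
theorem s0_f6161 : ed sl_ef s0_v32 = s0_v357 :=
  gap_rel s0_rot59 (path_edge (s0_f2382r IH) (path_edge (s0_f2302 IH) (path_edge (s0_f6160r IH) (path_nil s0_v357))))
theorem s0_f6165 : ed sl_at s0_v29 = s0_v358 :=
  rfl
theorem s0_f6165r : ed sl_af s0_v358 = s0_v29 :=
  edge_flip (s0_f6165 IH)
theorem s0_f6166 : ed sl_af s0_v29 = s0_v358 :=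
  gap_rel s0_rot38 (path_edge (s0_f6165r IH) (path_nil s0_v358))
theorem s0_f6167 : ed sl_df s0_v161 = s0_v358 :=
  gap_rel s0_rot60 (path_edge (s0_f2313 IH) (path_eq (s0_f2380 IH).symm (path_edge (s0_f798r IH) (path_edge (s0_f6165r IH) (path_nil s0_v358)))))
theorem s0_f6168 : ed sl_ef s0_v358 = s0_v358 :=
  gap_rel s0_rot17 (path_edge (s0_f6166 IH) (path_edge (s0_f800 IH) (path_edge (s0_f6165r IH) (path_nil s0_v358))))
theorem s0_f6168r : ed sl_et s0_v358 = s0_v358 :=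
  edge_flip (s0_f6168 IH)
theorem s0_f6167r : ed sl_dt s0_v358 = s0_v161 :=
  edge_flip (s0_f6167 IH)
theorem s0_f6169 : ed sl_dt s0_v161 = s0_v358 :=
  gap_rel s0_rot61 (path_edge (s0_f2337r IH) (path_edge (s0_f746 IH) (path_edge (s0_f2338 IH) (path_edge (s0_f6167r IH) (path_edge (s0_f6168r IH) (path_nil s0_v358))))))
theorem s0_f6169r : ed sl_df s0_v358 = s0_v161 :=
  edge_flip (s0_f6169 IH)
theorem s0_f6170 : ed sl_hf s0_v358 = s0_v358 :=
  gap_rel s0_rot62 (path_edge (s0_f6167 IH) (path_edge (s0_f2315r IH) (path_eq (s0_f2335 IH) (path_edge (s0_f263r IH) (path_eq (s0_f2335 IH).symm (path_edge (s0_f2316 IH) (path_edge (s0_f6169r IH) (path_nil s0_v358))))))))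
theorem s0_f6171 : ed sl_ff s0_v2 = s0_v358 :=
  gap_rel s0_rot22 (path_edge (s0_f310 IH) (path_edge (s0_f2385 IH) (path_edge (s0_f6169r IH) (path_nil s0_v358))))
theorem s0_f6170r : ed sl_ht s0_v358 = s0_v358 :=
  edge_flip (s0_f6170 IH)
theorem s0_f6171r : ed sl_ft s0_v358 = s0_v2 :=
  edge_flip (s0_f6171 IH)
theorem s0_f6172 : ed sl_ft s0_v2 = s0_v358 :=
  gap_rel s0_rot63 (path_edge (s0_f2422 IH) (path_edge (s0_f6171r IH) (path_edge (s0_f6170r IH) (path_nil s0_v358))))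
theorem s0_f6176 : ed sl_et s0_v2 = s0_v359 :=
  rfl
theorem s0_f6176r : ed sl_ef s0_v359 = s0_v2 :=
  edge_flip (s0_f6176 IH)
theorem s0_f6177 : ed sl_ef s0_v2 = s0_v359 :=
  gap_rel s0_rot3 (path_edge (s0_f6176r IH) (path_nil s0_v359))
theorem s0_f6172r : ed sl_ff s0_v358 = s0_v2 :=
  edge_flip (s0_f6172 IH)
theorem s0_f6179 : ed sl_ff s0_v359 = s0_v359 :=
  gap_rel s0_rot21 (path_edge (s0_f6177 IH) (path_edge (s0_f6172r IH) (path_edge (s0_f6168 IH) (path_edge (s0_f6171 IH) (path_edge (s0_f6176r IH) (path_nil s0_v359))))))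
theorem s0_f6180 : ed sl_dt s0_v359 = s0_v360 :=
  rfl
theorem s0_f6180r : ed sl_df s0_v360 = s0_v359 :=
  edge_flip (s0_f6180 IH)
theorem s0_f6181 : ed sl_df s0_v359 = s0_v360 :=
  gap_rel s0_rot5 (path_edge (s0_f6180r IH) (path_nil s0_v360))
theorem s0_f6182 : ed sl_ff s0_v360 = s0_v360 :=
  gap_rel s0_rot22 (path_edge (s0_f6181 IH) (path_edge (s0_f6179 IH) (path_edge (s0_f6180r IH) (path_nil s0_v360))))
theorem s0_f6183 : ed sl_ct s0_v360 = s0_v361 :=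
  rfl
theorem s0_f6183r : ed sl_cf s0_v361 = s0_v360 :=
  edge_flip (s0_f6183 IH)
theorem s0_f6184 : ed sl_cf s0_v360 = s0_v361 :=
  gap_rel s0_rot10 (path_edge (s0_f6183r IH) (path_nil s0_v361))
theorem s0_f6185 : ed sl_ff s0_v361 = s0_v361 :=
  gap_rel s0_rot24 (path_edge (s0_f6184 IH) (path_edge (s0_f6182 IH) (path_edge (s0_f6183r IH) (path_nil s0_v361))))
theorem s0_f6186 : ed sl_bt s0_v361 = s0_v362 :=
  rfl
theorem s0_f6186r : ed sl_bf s0_v362 = s0_v361 :=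
  edge_flip (s0_f6186 IH)
theorem s0_f6187 : ed sl_bf s0_v361 = s0_v362 :=
  gap_rel s0_rot9 (path_edge (s0_f6186r IH) (path_nil s0_v362))
theorem s0_f6188 : ed sl_ff s0_v362 = s0_v362 :=
  gap_rel s0_rot23 (path_edge (s0_f6187 IH) (path_edge (s0_f6185 IH) (path_edge (s0_f6186r IH) (path_nil s0_v362))))
theorem s0_f6189 : ed sl_at s0_v362 = s0_v363 :=
  rfl
theorem s0_f6189r : ed sl_af s0_v363 = s0_v362 :=
  edge_flip (s0_f6189 IH)
theorem s0_f6190 : ed sl_af s0_v362 = s0_v363 :=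
  gap_rel s0_rot38 (path_edge (s0_f6189r IH) (path_nil s0_v363))
theorem s0_f6191 : ed sl_ff s0_v363 = s0_v363 :=
  gap_rel s0_rot64 (path_edge (s0_f6190 IH) (path_edge (s0_f6188 IH) (path_edge (s0_f6189r IH) (path_nil s0_v363))))
theorem s0_f6192 : ed sl_ht s0_v363 = s0_v364 :=
  rfl
theorem s0_f6192r : ed sl_hf s0_v364 = s0_v363 :=
  edge_flip (s0_f6192 IH)
theorem s0_f6193 : ed sl_hf s0_v363 = s0_v364 :=
  gap_rel s0_rot18 (path_edge (s0_f6192r IH) (path_nil s0_v364))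
theorem s0_f6194 : ed sl_ff s0_v364 = s0_v364 :=
  gap_rel s0_rot27 (path_edge (s0_f6193 IH) (path_edge (s0_f6191 IH) (path_edge (s0_f6192r IH) (path_nil s0_v364))))
theorem s0_f6195 : ed sl_et s0_v364 = s0_v365 :=
  rfl
theorem s0_f6197 : ed sl_dt s0_v365 = s0_v366 :=
  rfl
theorem s0_f6199 : ed sl_ct s0_v366 = s0_v367 :=
  rfl
theorem s0_f6201 : ed sl_bt s0_v367 = s0_v368 :=
  rfl
theorem s0_f6201r : ed sl_bf s0_v368 = s0_v367 :=
  edge_flip (s0_f6201 IH)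
theorem s0_f6202 : ed sl_bf s0_v367 = s0_v368 :=
  gap_rel s0_rot9 (path_edge (s0_f6201r IH) (path_nil s0_v368))
theorem s0_f6199r : ed sl_cf s0_v367 = s0_v366 :=
  edge_flip (s0_f6199 IH)
theorem s0_f6197r : ed sl_df s0_v366 = s0_v365 :=
  edge_flip (s0_f6197 IH)
theorem s0_f6195r : ed sl_ef s0_v365 = s0_v364 :=
  edge_flip (s0_f6195 IH)
theorem s0_f5057r : ed sl_af sq1098 = sq854 :=
  edge_flip (s0_f5057 IH)
theorem s0_f2496r : ed sl_bf sq854 = sq854 :=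
  edge_flip (s0_f2496 IH)
theorem s0_f490r : ed sl_cf sq854 = sq664 :=
  edge_flip (s0_f490 IH)
theorem s0_f255r : ed sl_df sq664 = sq512 :=
  edge_flip (s0_f255 IH)
theorem s0_f254r : ed sl_ef sq512 = sq392 :=
  edge_flip (s0_f254 IH)
theorem s0_f253r : ed sl_ff sq392 = sq392 :=
  edge_flip (s0_f253 IH)
theorem s0_f6061r : ed sl_hf sq392 = sq302 :=
  edge_flip (s0_f6061 IH)
theorem s0_f6060r : ed sl_af sq302 = sq394 :=
  edge_flip (s0_f6060 IH)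
theorem s0_f6059r : ed sl_bf sq394 = sq311 :=
  edge_flip (s0_f6059 IH)
theorem s0_f6058r : ed sl_cf sq311 = sq247 :=
  edge_flip (s0_f6058 IH)
theorem s0_f6057r : ed sl_df sq247 = sq191 :=
  edge_flip (s0_f6057 IH)
theorem s0_f6056r : ed sl_ef sq191 = sq191 :=
  edge_flip (s0_f6056 IH)
theorem s0_f6055r : ed sl_ff sq191 = sq191 :=
  edge_flip (s0_f6055 IH)
theorem s0_f6054r : ed sl_hf sq191 = sq191 :=
  edge_flip (s0_f6054 IH)
theorem s0_f6053r : ed sl_af sq191 = sq142 :=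
  edge_flip (s0_f6053 IH)
theorem s0_f6052r : ed sl_bf sq142 = sq102 :=
  edge_flip (s0_f6052 IH)
theorem s0_f1342r : ed sl_cf sq102 = sq72 :=
  edge_flip (s0_f1342 IH)
theorem s0_f1340r : ed sl_df sq72 = sq50 :=
  edge_flip (s0_f1340 IH)
theorem s0_f1339r : ed sl_ef sq50 = sq34 :=
  edge_flip (s0_f1339 IH)
theorem s0_f1338r : ed sl_ff sq34 = sq26 :=
  edge_flip (s0_f1338 IH)
theorem s0_f1336r : ed sl_hf sq26 = sq18 :=
  edge_flip (s0_f1336 IH)
theorem s0_f3528r : ed sl_af sq18 = sq18 :=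
  edge_flip (s0_f3528 IH)
theorem s0_f1041r : ed sl_bf sq18 = sq18 :=
  edge_flip (s0_f1041 IH)
theorem s0_f1353r : ed sl_cf sq18 = sq25 :=
  edge_flip (s0_f1353 IH)
theorem s0_f1043r : ed sl_df sq25 = sq25 :=
  edge_flip (s0_f1043 IH)
theorem s0_f1674r : ed sl_ef sq25 = sq25 :=
  edge_flip (s0_f1674 IH)
theorem s0_f1675r : ed sl_ff sq25 = sq32 :=
  edge_flip (s0_f1675 IH)
theorem s0_f1677r : ed sl_hf sq32 = sq49 :=
  edge_flip (s0_f1677 IH)
theorem s0_f6062r : ed sl_af sq49 = sq49 :=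
  edge_flip (s0_f6062 IH)
theorem s0_f654r : ed sl_bf sq49 = sq67 :=
  edge_flip (s0_f654 IH)
theorem s0_f6063r : ed sl_cf sq67 = sq67 :=
  edge_flip (s0_f6063 IH)
theorem s0_f655r : ed sl_df sq67 = sq97 :=
  edge_flip (s0_f655 IH)
theorem s0_f656r : ed sl_ef sq97 = sq136 :=
  edge_flip (s0_f656 IH)
theorem s0_f657r : ed sl_ff sq136 = sq183 :=
  edge_flip (s0_f657 IH)
theorem s0_f1735r : ed sl_hf sq183 = sq183 :=
  edge_flip (s0_f1735 IH)
theorem s0_f6203 : ed sl_af sq183 = s0_v368 :=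
  gap_rel s0_rot65 (path_edge (s0_f1735r IH) (path_edge (s0_f657r IH) (path_edge (s0_f656r IH) (path_edge (s0_f655r IH) (path_edge (s0_f6063r IH) (path_edge (s0_f654r IH) (path_edge (s0_f6062r IH) (path_edge (s0_f1677r IH) (path_edge (s0_f1675r IH) (path_edge (s0_f1674r IH) (path_edge (s0_f1043r IH) (path_edge (s0_f1353r IH) (path_edge (s0_f1041r IH) (path_edge (s0_f3528r IH) (path_edge (s0_f1336r IH) (path_edge (s0_f1338r IH) (path_edge (s0_f1339r IH) (path_edge (s0_f1340r IH) (path_edge (s0_f1342r IH) (path_edge (s0_f6052r IH) (path_edge (s0_f6053r IH) (path_edge (s0_f6054r IH) (path_edge (s0_f6055r IH) (path_edge (s0_f6056r IH) (path_edge (s0_f6057r IH) (path_edge (s0_f6058r IH) (path_edge (s0_f6059r IH) (path_edge (s0_f6060r IH) (path_edge (s0_f6061r IH) (path_edge (s0_f253r IH) (path_edge (s0_f254r IH) (path_edge (s0_f255r IH) (path_edge (s0_f490r IH) (path_edge (s0_f2496r IH) (path_edge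 (s0_f5057r IH) (path_edge (s0_f6064r IH) (path_edge (s0_f6131r IH) (path_edge (s0_f6135r IH) (path_edge (s0_f6139r IH) (path_edge (s0_f6143r IH) (path_edge (s0_f6145r IH) (path_edge (s0_f6149r IH) (path_edge (s0_f6153r IH) (path_edge (s0_f6157r IH) (path_edge (s0_f6161 IH) (path_edge (s0_f808 IH) (path_edge (s0_f805 IH) (path_edge (s0_f802 IH) (path_edge (s0_f6165r IH) (path_edge (s0_f6170 IH) (path_edge (s0_f6171 IH) (path_edge (s0_f6176r IH) (path_edge (s0_f6180r IH) (path_edge (s0_f6183r IH) (path_edge (s0_f6186r IH) (path_edge (s0_f6189r IH) (path_edge (s0_f6192r IH) (path_edge (s0_f6194 IH) (path_edge (s0_f6195r IH) (path_edge (s0_f6197r IH) (path_edge (s0_f6199r IH) (path_edge (s0_f6201r IH) (path_nil s0_v368)))))))))))))))))))))))))))))))))))))))))))))))))))))))))))))))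
theorem s0_f6203r : ed sl_at s0_v368 = sq183 :=
  edge_flip (s0_f6203 IH)
theorem s0_f6204 : ed sl_at sq183 = s0_v368 :=
  gap_rel s0_rot66 (path_edge (s0_f6203r IH) (path_nil s0_v368))
theorem s0_f6205 : ed sl_ht s0_v368 = s0_v368 :=
  gap_rel s0_rot67 (path_edge (s0_f6204 IH) (path_edge (s0_f1735 IH) (path_edge (s0_f6203r IH) (path_nil s0_v368))))
theorem s0_f6206 : ed sl_ft sq176 = s0_v368 :=
  gap_rel s0_rot68 (path_edge (s0_f1942 IH) (path_edge (s0_f657 IH) (path_edge (s0_f6203r IH) (path_nil s0_v368))))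
theorem s0_f6207 : ed sl_it s0_v368 = s0_v368 :=
  gap_rel s0_rot69 (path_edge (s0_f6204 IH) (path_edge (s0_f1590 IH) (path_edge (s0_f6203r IH) (path_nil s0_v368))))
theorem s0_f6202r : ed sl_bt s0_v368 = s0_v367 :=
  edge_flip (s0_f6202 IH)
theorem s0_f6208 : s0_v367 = s0_v368 :=
  (loop_rel s0_rot70 (path_edge (s0_f6202r IH) (path_edge (s0_f6204 IH) (path_edge (s0_f794 IH) (path_edge (s0_f1777 IH) (path_edge (s0_f1737 IH) (path_edge (s0_f6203r IH) (path_nil s0_v368)))))))).symm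
theorem s0_f6207r : ed sl_if s0_v368 = s0_v368 :=
  edge_flip (s0_f6207 IH)
theorem s0_f6206r : ed sl_ff s0_v368 = sq176 :=
  edge_flip (s0_f6206 IH)
theorem s0_f6210 : ed sl_ff sq176 = s0_v367 :=
  gap_rel s0_rot71 (path_edge (s0_f1950r IH) (path_edge (s0_f6206r IH) (path_edge (s0_f6207r IH) (path_eq (s0_f6208 IH) (path_nil s0_v367)))))
theorem s0_f6212 : ed sl_at sq92 = sq67 :=
  real_edge rels S fwd inv o lvl plet idx 54 IH Gen.a sp92 sp67 rfl rfl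
theorem s0_f6213 : ed sl_bt sq139 = sq187 :=
  real_edge rels S fwd inv o lvl plet idx 54 IH Gen.b sp139 sp187 rfl rfl
theorem s0_f6214 : ed sl_at sq187 = sq247 :=
  real_edge rels S fwd inv o lvl plet idx 54 IH Gen.a sp187 sp247 rfl rfl
theorem s0_f6215 : ed sl_ht sq247 = sq320 :=
  real_edge rels S fwd inv o lvl plet idx 54 IH Gen.h sp247 sp320 rfl rfl
theorem s0_f6216 : ed sl_ft sq320 = sq320 :=
  real_edge rels S fwd inv o lvl plet idx 54 IH Gen.f sp320 sp320 rfl rfl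
theorem s0_f6217 : ed sl_et sq320 = sq417 :=
  real_edge rels S fwd inv o lvl plet idx 54 IH Gen.e sp320 sp417 rfl rfl
theorem s0_f6218 : ed sl_dt sq417 = sq540 :=
  real_edge rels S fwd inv o lvl plet idx 54 IH Gen.d sp417 sp540 rfl rfl
theorem s0_f6219 : ed sl_ct sq540 = sq694 :=
  real_edge rels S fwd inv o lvl plet idx 54 IH Gen.c sp540 sp694 rfl rfl
theorem s0_f6220 : ed sl_bt sq694 = sq888 :=
  real_edge rels S fwd inv o lvl plet idx 54 IH Gen.b sp694 sp888 rfl rfl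
theorem s0_f6221 : ed sl_at sq888 = sq888 :=
  real_edge rels S fwd inv o lvl plet idx 54 IH Gen.a sp888 sp888 rfl rfl
theorem s0_f6222 : ed sl_ht sq888 = sq888 :=
  real_edge rels S fwd inv o lvl plet idx 54 IH Gen.h sp888 sp888 rfl rfl
theorem s0_f6223 : ed sl_ft sq888 = sq1134 :=
  real_edge rels S fwd inv o lvl plet idx 54 IH Gen.f sp888 sp1134 rfl rfl
theorem s0_f6224 : ed sl_et sq1134 = sq1432 :=
  real_edge rels S fwd inv o lvl plet idx 54 IH Gen.e sp1134 sp1432 rfl rfl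
theorem s0_f6225 : ed sl_dt sq1432 = sq1780 :=
  real_edge rels S fwd inv o lvl plet idx 54 IH Gen.d sp1432 sp1780 rfl rfl
theorem s0_f6226 : ed sl_ct sq1780 = sq2186 :=
  real_edge rels S fwd inv o lvl plet idx 54 IH Gen.c sp1780 sp2186 rfl rfl
theorem s0_f6227 : ed sl_bt sq2186 = sq2186 :=
  real_edge rels S fwd inv o lvl plet idx 54 IH Gen.b sp2186 sp2186 rfl rfl
theorem s0_f6228 : ed sl_at sq2186 = sq2186 :=
  real_edge rels S fwd inv o lvl plet idx 54 IH Gen.a sp2186 sp2186 rfl rfl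
theorem s0_f7443 : ed sl_it sq22 = sq33 :=
  real_edge rels S fwd inv o lvl plet idx 54 IH Gen.i sp22 sp33 rfl rfl
theorem s0_f7445 : ed sl_it sq100 = sq100 :=
  real_edge rels S fwd inv o lvl plet idx 54 IH Gen.i sp100 sp100 rfl rfl
theorem s0_f7446 : ed sl_ht sq100 = sq138 :=
  real_edge rels S fwd inv o lvl plet idx 54 IH Gen.h sp100 sp138 rfl rfl
theorem s0_f7447 : ed sl_ct sq179 = sq235 :=
  real_edge rels S fwd inv o lvl plet idx 54 IH Gen.c sp179 sp235 rfl rfl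
theorem s0_f7448 : ed sl_it sq304 = sq300 :=
  real_edge rels S fwd inv o lvl plet idx 54 IH Gen.i sp304 sp300 rfl rfl
theorem s0_f7449 : ed sl_ht sq300 = sq231 :=
  real_edge rels S fwd inv o lvl plet idx 54 IH Gen.h sp300 sp231 rfl rfl
theorem s0_f7450 : ed sl_dt sq231 = sq231 :=
  real_edge rels S fwd inv o lvl plet idx 54 IH Gen.d sp231 sp231 rfl rfl
theorem s0_f7451 : ed sl_ft sq231 = sq231 :=
  real_edge rels S fwd inv o lvl plet idx 54 IH Gen.f sp231 sp231 rfl rfl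
theorem s0_f7452 : ed sl_et sq231 = sq303 :=
  real_edge rels S fwd inv o lvl plet idx 54 IH Gen.e sp231 sp303 rfl rfl
theorem s0_f7453 : ed sl_it sq66 = sq45 :=
  real_edge rels S fwd inv o lvl plet idx 54 IH Gen.i sp66 sp45 rfl rfl
theorem s0_f7454 : ed sl_bt sq131 = sq131 :=
  real_edge rels S fwd inv o lvl plet idx 54 IH Gen.b sp131 sp131 rfl rfl
theorem s0_f7455 : ed sl_it sq174 = sq177 :=
  real_edge rels S fwd inv o lvl plet idx 54 IH Gen.i sp174 sp177 rfl rfl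
theorem s0_f7456 : ed sl_dt sq303 = s0_v404 :=
  rfl
theorem s0_f7458 : ed sl_bt sq395 = sq303 :=
  real_edge rels S fwd inv o lvl plet idx 54 IH Gen.b sp395 sp303 rfl rfl
theorem s0_f7456r : ed sl_df s0_v404 = sq303 :=
  edge_flip (s0_f7456 IH)
theorem s0_f7460 : ed sl_df sq303 = s0_v404 :=
  gap_rel s0_rot5 (path_edge (s0_f7456r IH) (path_nil s0_v404))
theorem s0_f7465 : ed sl_it sq303 = sq303 :=
  real_edge rels S fwd inv o lvl plet idx 54 IH Gen.i sp303 sp303 rfl rfl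
theorem s0_f7465r : ed sl_if sq303 = sq303 :=
  edge_flip (s0_f7465 IH)
theorem s0_f7466 : ed sl_if s0_v404 = s0_v404 :=
  gap_rel s0_rot16 (path_edge (s0_f7460 IH) (path_edge (s0_f7465r IH) (path_edge (s0_f7456r IH) (path_nil s0_v404))))
theorem s0_f7521 : ed sl_ct sq395 = sq395 :=
  real_edge rels S fwd inv o lvl plet idx 54 IH Gen.c sp395 sp395 rfl rfl
theorem s0_f7550 : ed sl_bt s0_v404 = s0_v405 :=
  rfl
theorem s0_f7550r : ed sl_bf s0_v405 = s0_v404 :=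
  edge_flip (s0_f7550 IH)
theorem s0_f7551 : ed sl_bf s0_v404 = s0_v405 :=
  gap_rel s0_rot9 (path_edge (s0_f7550r IH) (path_nil s0_v405))
theorem s0_f7458r : ed sl_bf sq303 = sq395 :=
  edge_flip (s0_f7458 IH)
theorem s0_f7552 : ed sl_df sq395 = s0_v405 :=
  gap_rel s0_rot51 (path_edge (s0_f7458r IH) (path_edge (s0_f7456r IH) (path_edge (s0_f7550r IH) (path_nil s0_v405))))
theorem s0_f7554 : ed sl_if s0_v405 = s0_v405 :=
  gap_rel s0_rot72 (path_edge (s0_f7551 IH) (path_edge (s0_f7466 IH) (path_edge (s0_f7550r IH) (path_nil s0_v405))))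
theorem s0_f7554r : ed sl_it s0_v405 = s0_v405 :=
  edge_flip (s0_f7554 IH)
theorem s0_f7552r : ed sl_dt s0_v405 = sq395 :=
  edge_flip (s0_f7552 IH)
theorem s0_f7555 : ed sl_dt sq395 = s0_v405 :=
  gap_rel s0_rot73 (path_edge (s0_f587 IH) (path_edge (s0_f7552r IH) (path_edge (s0_f7554r IH) (path_nil s0_v405))))
theorem s0_f7601 : ed sl_ct s0_v405 = s0_v406 :=
  rfl
theorem s0_f7601r : ed sl_cf s0_v406 = s0_v405 :=
  edge_flip (s0_f7601 IH)
theorem s0_f7602 : ed sl_cf s0_v405 = s0_v406 :=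
  gap_rel s0_rot10 (path_edge (s0_f7601r IH) (path_nil s0_v406))
theorem s0_f7555r : ed sl_df s0_v405 = sq395 :=
  edge_flip (s0_f7555 IH)
theorem s0_f7521r : ed sl_cf sq395 = sq395 :=
  edge_flip (s0_f7521 IH)
theorem s0_f7603 : ed sl_df s0_v406 = s0_v406 :=
  gap_rel s0_rot74 (path_edge (s0_f7602 IH) (path_edge (s0_f7552 IH) (path_edge (s0_f7521r IH) (path_edge (s0_f7555r IH) (path_edge (s0_f7601r IH) (path_nil s0_v406))))))
theorem s0_f7605 : ed sl_if s0_v406 = s0_v406 :=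
  gap_rel s0_rot13 (path_edge (s0_f7602 IH) (path_edge (s0_f7554 IH) (path_edge (s0_f7601r IH) (path_nil s0_v406))))
theorem s0_f7606 : ed sl_ht s0_v406 = s0_v407 :=
  rfl
theorem s0_f7609 : ed sl_dt s0_v407 = s0_v408 :=
  rfl
theorem s0_f7612 : ed sl_ft s0_v408 = s0_v409 :=
  rfl
theorem s0_f7615 : ed sl_et s0_v409 = s0_v410 :=
  rfl
theorem s0_f7618 : ed sl_dt s0_v410 = s0_v411 :=
  rfl
theorem s0_f7620 : ed sl_bt s0_v411 = s0_v412 :=
  rfl
theorem s0_f7622 : ed sl_ct s0_v412 = s0_v413 :=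
  rfl
theorem s0_f7624 : ed sl_dt s0_v413 = s0_v414 :=
  rfl
theorem s0_f7626 : ed sl_it s0_v414 = s0_v415 :=
  rfl
theorem s0_f7628 : ed sl_ht s0_v415 = s0_v416 :=
  rfl
theorem s0_f7630 : ed sl_dt s0_v416 = s0_v417 :=
  rfl
theorem s0_f7632 : ed sl_ft s0_v417 = s0_v418 :=
  rfl
theorem s0_f7634 : ed sl_et s0_v418 = s0_v419 :=
  rfl
theorem s0_f7636 : ed sl_dt s0_v419 = s0_v420 :=
  rfl
theorem s0_f7638 : ed sl_bt s0_v420 = s0_v421 :=
  rfl
theorem s0_f7640 : ed sl_ct s0_v421 = s0_v422 :=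
  rfl
theorem s0_f7642 : ed sl_dt s0_v422 = s0_v423 :=
  rfl
theorem s0_f7644 : ed sl_it s0_v423 = s0_v424 :=
  rfl
theorem s0_f7646 : ed sl_ht s0_v424 = s0_v425 :=
  rfl
theorem s0_f7648 : ed sl_dt s0_v425 = s0_v426 :=
  rfl
theorem s0_f7650 : ed sl_ft s0_v426 = s0_v427 :=
  rfl
theorem s0_f7652 : ed sl_et s0_v427 = s0_v428 :=
  rfl
theorem s0_f7654 : ed sl_dt s0_v428 = s0_v429 :=
  rfl
theorem s0_f7656 : ed sl_bt s0_v429 = s0_v430 :=
  rfl
theorem s0_f7658 : ed sl_ct s0_v430 = s0_v431 :=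
  rfl
theorem s0_f7660 : ed sl_dt s0_v431 = s0_v432 :=
  rfl
theorem s0_f7662 : ed sl_it s0_v432 = s0_v433 :=
  rfl
theorem s0_f7664 : ed sl_ht s0_v433 = s0_v434 :=
  rfl
theorem s0_f7666 : ed sl_dt s0_v434 = s0_v435 :=
  rfl
theorem s0_f7668 : ed sl_ft s0_v435 = s0_v436 :=
  rfl
theorem s0_f7670 : ed sl_et s0_v436 = s0_v437 :=
  rfl
theorem s0_f7672 : ed sl_dt s0_v437 = s0_v438 :=
  rfl
theorem s0_f7674 : ed sl_bt s0_v438 = s0_v439 :=
  rfl
theorem s0_f7676 : ed sl_ct s0_v439 = s0_v440 :=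
  rfl
theorem s0_f7678 : ed sl_dt s0_v440 = s0_v441 :=
  rfl
theorem s0_f7680 : ed sl_it s0_v441 = s0_v442 :=
  rfl
theorem s0_f7680r : ed sl_if s0_v442 = s0_v441 :=
  edge_flip (s0_f7680 IH)
theorem s0_f7678r : ed sl_df s0_v441 = s0_v440 :=
  edge_flip (s0_f7678 IH)
theorem s0_f7676r : ed sl_cf s0_v440 = s0_v439 :=
  edge_flip (s0_f7676 IH)
theorem s0_f7674r : ed sl_bf s0_v439 = s0_v438 :=
  edge_flip (s0_f7674 IH)
theorem s0_f7672r : ed sl_df s0_v438 = s0_v437 :=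
  edge_flip (s0_f7672 IH)
theorem s0_f7670r : ed sl_ef s0_v437 = s0_v436 :=
  edge_flip (s0_f7670 IH)
theorem s0_f7668r : ed sl_ff s0_v436 = s0_v435 :=
  edge_flip (s0_f7668 IH)
theorem s0_f7666r : ed sl_df s0_v435 = s0_v434 :=
  edge_flip (s0_f7666 IH)
theorem s0_f7664r : ed sl_hf s0_v434 = s0_v433 :=
  edge_flip (s0_f7664 IH)
theorem s0_f7662r : ed sl_if s0_v433 = s0_v432 :=
  edge_flip (s0_f7662 IH)
theorem s0_f7660r : ed sl_df s0_v432 = s0_v431 :=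
  edge_flip (s0_f7660 IH)
theorem s0_f7658r : ed sl_cf s0_v431 = s0_v430 :=
  edge_flip (s0_f7658 IH)
theorem s0_f7656r : ed sl_bf s0_v430 = s0_v429 :=
  edge_flip (s0_f7656 IH)
theorem s0_f7654r : ed sl_df s0_v429 = s0_v428 :=
  edge_flip (s0_f7654 IH)
theorem s0_f7652r : ed sl_ef s0_v428 = s0_v427 :=
  edge_flip (s0_f7652 IH)
theorem s0_f7650r : ed sl_ff s0_v427 = s0_v426 :=
  edge_flip (s0_f7650 IH)
theorem s0_f7648r : ed sl_df s0_v426 = s0_v425 :=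
  edge_flip (s0_f7648 IH)
theorem s0_f7646r : ed sl_hf s0_v425 = s0_v424 :=
  edge_flip (s0_f7646 IH)
theorem s0_f7644r : ed sl_if s0_v424 = s0_v423 :=
  edge_flip (s0_f7644 IH)
theorem s0_f7642r : ed sl_df s0_v423 = s0_v422 :=
  edge_flip (s0_f7642 IH)
theorem s0_f7640r : ed sl_cf s0_v422 = s0_v421 :=
  edge_flip (s0_f7640 IH)
theorem s0_f7638r : ed sl_bf s0_v421 = s0_v420 :=
  edge_flip (s0_f7638 IH)
theorem s0_f7636r : ed sl_df s0_v420 = s0_v419 :=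
  edge_flip (s0_f7636 IH)
theorem s0_f7634r : ed sl_ef s0_v419 = s0_v418 :=
  edge_flip (s0_f7634 IH)
theorem s0_f7632r : ed sl_ff s0_v418 = s0_v417 :=
  edge_flip (s0_f7632 IH)
theorem s0_f7630r : ed sl_df s0_v417 = s0_v416 :=
  edge_flip (s0_f7630 IH)
theorem s0_f7628r : ed sl_hf s0_v416 = s0_v415 :=
  edge_flip (s0_f7628 IH)
theorem s0_f7626r : ed sl_if s0_v415 = s0_v414 :=
  edge_flip (s0_f7626 IH)
theorem s0_f7624r : ed sl_df s0_v414 = s0_v413 :=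
  edge_flip (s0_f7624 IH)
theorem s0_f7622r : ed sl_cf s0_v413 = s0_v412 :=
  edge_flip (s0_f7622 IH)
theorem s0_f7620r : ed sl_bf s0_v412 = s0_v411 :=
  edge_flip (s0_f7620 IH)
theorem s0_f7618r : ed sl_df s0_v411 = s0_v410 :=
  edge_flip (s0_f7618 IH)
theorem s0_f7615r : ed sl_ef s0_v410 = s0_v409 :=
  edge_flip (s0_f7615 IH)
theorem s0_f7612r : ed sl_ff s0_v409 = s0_v408 :=
  edge_flip (s0_f7612 IH)
theorem s0_f7609r : ed sl_df s0_v408 = s0_v407 :=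
  edge_flip (s0_f7609 IH)
theorem s0_f7606r : ed sl_hf s0_v407 = s0_v406 :=
  edge_flip (s0_f7606 IH)
theorem s0_f7452r : ed sl_ef sq303 = sq231 :=
  edge_flip (s0_f7452 IH)
theorem s0_f7451r : ed sl_ff sq231 = sq231 :=
  edge_flip (s0_f7451 IH)
theorem s0_f7450r : ed sl_df sq231 = sq231 :=
  edge_flip (s0_f7450 IH)
theorem s0_f7449r : ed sl_hf sq231 = sq300 :=
  edge_flip (s0_f7449 IH)
theorem s0_f7448r : ed sl_if sq300 = sq304 :=
  edge_flip (s0_f7448 IH)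
theorem s0_f246r : ed sl_df sq304 = sq235 :=
  edge_flip (s0_f246 IH)
theorem s0_f7447r : ed sl_cf sq235 = sq179 :=
  edge_flip (s0_f7447 IH)
theorem s0_f1954r : ed sl_bf sq179 = sq138 :=
  edge_flip (s0_f1954 IH)
theorem s0_f449r : ed sl_df sq138 = sq99 :=
  edge_flip (s0_f449 IH)
theorem s0_f450r : ed sl_ef sq99 = sq99 :=
  edge_flip (s0_f450 IH)
theorem s0_f451r : ed sl_ff sq99 = sq99 :=
  edge_flip (s0_f451 IH)
theorem s0_f2354r : ed sl_df sq99 = sq138 :=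
  edge_flip (s0_f2354 IH)
theorem s0_f7446r : ed sl_hf sq138 = sq100 :=
  edge_flip (s0_f7446 IH)
theorem s0_f7445r : ed sl_if sq100 = sq100 :=
  edge_flip (s0_f7445 IH)
theorem s0_f1665r : ed sl_df sq100 = sq70 :=
  edge_flip (s0_f1665 IH)
theorem s0_f3494r : ed sl_cf sq70 = sq50 :=
  edge_flip (s0_f3494 IH)
theorem s0_f1062r : ed sl_df sq50 = sq72 :=
  edge_flip (s0_f1062 IH)
theorem s0_f3495r : ed sl_ef sq72 = sq72 :=
  edge_flip (s0_f3495 IH)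
theorem s0_f3496r : ed sl_ff sq72 = sq72 :=
  edge_flip (s0_f3496 IH)
theorem s0_f5865r : ed sl_hf sq50 = sq33 :=
  edge_flip (s0_f5865 IH)
theorem s0_f7443r : ed sl_if sq33 = sq22 :=
  edge_flip (s0_f7443 IH)
theorem s0_f632r : ed sl_df sq22 = sq22 :=
  edge_flip (s0_f632 IH)
theorem s0_f52r : ed sl_cf sq22 = sq31 :=
  edge_flip (s0_f52 IH)
theorem s0_f986r : ed sl_bf sq31 = sq45 :=
  edge_flip (s0_f986 IH)
theorem s0_f713r : ed sl_df sq45 = sq65 :=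
  edge_flip (s0_f713 IH)
theorem s0_f984r : ed sl_ef sq65 = sq65 :=
  edge_flip (s0_f984 IH)
theorem s0_f983r : ed sl_ff sq65 = sq65 :=
  edge_flip (s0_f983 IH)
theorem s0_f594r : ed sl_df sq65 = sq45 :=
  edge_flip (s0_f594 IH)
theorem s0_f3547r : ed sl_hf sq45 = sq45 :=
  edge_flip (s0_f3547 IH)
theorem s0_f7453r : ed sl_if sq45 = sq66 :=
  edge_flip (s0_f7453 IH)
theorem s0_f93r : ed sl_df sq66 = sq95 :=
  edge_flip (s0_f93 IH)
theorem s0_f455r : ed sl_cf sq95 = sq131 :=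
  edge_flip (s0_f455 IH)
theorem s0_f7454r : ed sl_bf sq131 = sq131 :=
  edge_flip (s0_f7454 IH)
theorem s0_f456r : ed sl_df sq131 = sq131 :=
  edge_flip (s0_f456 IH)
theorem s0_f457r : ed sl_ef sq131 = sq131 :=
  edge_flip (s0_f457 IH)
theorem s0_f458r : ed sl_ff sq131 = sq131 :=
  edge_flip (s0_f458 IH)
theorem s0_f459r : ed sl_hf sq131 = sq177 :=
  edge_flip (s0_f459 IH)
theorem s0_f7455r : ed sl_if sq177 = sq174 :=
  edge_flip (s0_f7455 IH)
theorem s0_f1690r : ed sl_df sq174 = sq230 :=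
  edge_flip (s0_f1690 IH)
theorem s0_f1976r : ed sl_cf sq230 = sq300 :=
  edge_flip (s0_f1976 IH)
theorem s0_f2000r : ed sl_bf sq300 = sq392 :=
  edge_flip (s0_f2000 IH)
theorem s0_f252r : ed sl_df sq392 = sq399 :=
  edge_flip (s0_f252 IH)
theorem s0_f2001r : ed sl_ef sq399 = sq520 :=
  edge_flip (s0_f2001 IH)
theorem s0_f2002r : ed sl_ff sq520 = sq672 :=
  edge_flip (s0_f2002 IH)
theorem s0_f662r : ed sl_df sq672 = sq865 :=
  edge_flip (s0_f662 IH)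
theorem s0_f7682 : ed sl_hf sq865 = s0_v442 :=
  gap_rel s0_rot75 (path_edge (s0_f662r IH) (path_edge (s0_f2002r IH) (path_edge (s0_f2001r IH) (path_edge (s0_f252r IH) (path_edge (s0_f2000r IH) (path_edge (s0_f1976r IH) (path_edge (s0_f1690r IH) (path_edge (s0_f7455r IH) (path_edge (s0_f459r IH) (path_edge (s0_f456r IH) (path_edge (s0_f458r IH) (path_edge (s0_f457r IH) (path_edge (s0_f456r IH) (path_edge (s0_f7454r IH) (path_edge (s0_f455r IH) (path_edge (s0_f93r IH) (path_edge (s0_f7453r IH) (path_edge (s0_f3547r IH) (path_edge (s0_f594r IH) (path_edge (s0_f983r IH) (path_edge (s0_f984r IH) (path_edge (s0_f713r IH) (path_edge (s0_f986r IH) (path_edge (s0_f52r IH) (path_edge (s0_f632r IH) (path_edge (s0_f7443r IH) (path_edge (s0_f5865r IH) (path_edge (s0_f1340r IH) (path_edge (s0_f3496r IH) (path_edge (s0_f3495r IH) (path_edge (s0_f1062r IH) (path_edge (s0_f2170r IH) (path_edge (s0_f3494r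 IH) (path_edge (s0_f1665r IH) (path_edge (s0_f7445r IH) (path_edge (s0_f7446r IH) (path_edge (s0_f2354r IH) (path_edge (s0_f451r IH) (path_edge (s0_f450r IH) (path_edge (s0_f449r IH) (path_edge (s0_f1954r IH) (path_edge (s0_f7447r IH) (path_edge (s0_f246r IH) (path_edge (s0_f7448r IH) (path_edge (s0_f7449r IH) (path_edge (s0_f7450r IH) (path_edge (s0_f7451r IH) (path_edge (s0_f7452r IH) (path_edge (s0_f7456r IH) (path_edge (s0_f7550r IH) (path_edge (s0_f7601r IH) (path_edge (s0_f7603 IH) (path_edge (s0_f7605 IH) (path_edge (s0_f7606r IH) (path_edge (s0_f7609r IH) (path_edge (s0_f7612r IH) (path_edge (s0_f7615r IH) (path_edge (s0_f7618r IH) (path_edge (s0_f7620r IH) (path_edge (s0_f7622r IH) (path_edge (s0_f7624r IH) (path_edge (s0_f7626r IH) (path_edge (s0_f7628r IH) (path_edge (s0_f7630r IH) (path_edge (s0_f7632r IH) (path_edge (s0_f7634r IH) (path_edge (s0_f7636r IH) (path_edge (s0_f7638r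 IH) (path_edge (s0_f7640r IH) (path_edge (s0_f7642r IH) (path_edge (s0_f7644r IH) (path_edge (s0_f7646r IH) (path_edge (s0_f7648r IH) (path_edge (s0_f7650r IH) (path_edge (s0_f7652r IH) (path_edge (s0_f7654r IH) (path_edge (s0_f7656r IH) (path_edge (s0_f7658r IH) (path_edge (s0_f7660r IH) (path_edge (s0_f7662r IH) (path_edge (s0_f7664r IH) (path_edge (s0_f7666r IH) (path_edge (s0_f7668r IH) (path_edge (s0_f7670r IH) (path_edge (s0_f7672r IH) (path_edge (s0_f7674r IH) (path_edge (s0_f7676r IH) (path_edge (s0_f7678r IH) (path_edge (s0_f7680r IH) (path_nil s0_v442))))))))))))))))))))))))))))))))))))))))))))))))))))))))))))))))))))))))))))))))))))))))))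
theorem s0_f7682r : ed sl_ht s0_v442 = sq865 :=
  edge_flip (s0_f7682 IH)
theorem s0_f7685 : ed sl_ft sq866 = s0_v442 :=
  gap_rel s0_rot63 (path_edge (s0_f3229 IH) (path_edge (s0_f584 IH) (path_edge (s0_f7682r IH) (path_nil s0_v442))))
theorem s0_f7685r : ed sl_ff s0_v442 = sq866 :=
  edge_flip (s0_f7685 IH)
theorem s0_f692r : ed sl_bf sq866 = sq674 :=
  edge_flip (s0_f692 IH)
theorem s0_f7703 : ed sl_bf s0_v27 = s0_v442 :=
  gap_rel s0_rot76 (path_edge (s0_f670 IH) (path_edge (s0_f692r IH) (path_edge (s0_f7685r IH) (path_nil s0_v442))))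
theorem s0_f7704 : ed sl_ff sq866 = s0_v442 :=
  gap_rel s0_rot0 (path_edge (s0_f7685r IH) (path_nil s0_v442))
theorem s0_f8668 : ed sl_ht sq2186 = s0_v507 :=
  rfl
theorem s0_f8668r : ed sl_hf s0_v507 = sq2186 :=
  edge_flip (s0_f8668 IH)
theorem s0_f8669 : ed sl_hf sq2186 = s0_v507 :=
  gap_rel s0_rot18 (path_edge (s0_f8668r IH) (path_nil s0_v507))
theorem s0_f8670 : ed sl_it sq2666 = sq2186 :=
  real_edge rels S fwd inv o lvl plet idx 54 IH Gen.i sp2666 sp2186 rfl rfl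
theorem s0_f8671 : ed sl_ft sq2186 = sq2186 :=
  real_edge rels S fwd inv o lvl plet idx 54 IH Gen.f sp2186 sp2186 rfl rfl
theorem s0_f8671r : ed sl_ff sq2186 = sq2186 :=
  edge_flip (s0_f8671 IH)
theorem s0_f8672 : ed sl_ff s0_v507 = s0_v507 :=
  gap_rel s0_rot27 (path_edge (s0_f8669 IH) (path_edge (s0_f8671r IH) (path_edge (s0_f8668r IH) (path_nil s0_v507))))
theorem s0_f8697 : ed sl_it sq2186 = sq2666 :=
  real_edge rels S fwd inv o lvl plet idx 54 IH Gen.i sp2186 sp2666 rfl rfl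
theorem s0_f8701 : ed sl_et s0_v507 = s0_v508 :=
  rfl
theorem s0_f8701r : ed sl_ef s0_v508 = s0_v507 :=
  edge_flip (s0_f8701 IH)
theorem s0_f8702 : ed sl_ef s0_v507 = s0_v508 :=
  gap_rel s0_rot3 (path_edge (s0_f8701r IH) (path_nil s0_v508))
theorem s0_f8705 : ed sl_dt s0_v508 = s0_v509 :=
  rfl
theorem s0_f8705r : ed sl_df s0_v509 = s0_v508 :=
  edge_flip (s0_f8705 IH)
theorem s0_f8706 : ed sl_df s0_v508 = s0_v509 :=
  gap_rel s0_rot5 (path_edge (s0_f8705r IH) (path_nil s0_v509))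
theorem s0_f8709 : ed sl_ct s0_v509 = s0_v510 :=
  rfl
theorem s0_f8709r : ed sl_cf s0_v510 = s0_v509 :=
  edge_flip (s0_f8709 IH)
theorem s0_f8710 : ed sl_cf s0_v509 = s0_v510 :=
  gap_rel s0_rot10 (path_edge (s0_f8709r IH) (path_nil s0_v510))
theorem s0_f8712 : ed sl_bt s0_v510 = s0_v511 :=
  rfl
theorem s0_f8712r : ed sl_bf s0_v511 = s0_v510 :=
  edge_flip (s0_f8712 IH)
theorem s0_f8713 : ed sl_bf s0_v510 = s0_v511 :=
  gap_rel s0_rot9 (path_edge (s0_f8712r IH) (path_nil s0_v511))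
theorem s0_f8715 : ed sl_at s0_v511 = s0_v512 :=
  rfl
theorem s0_f8715r : ed sl_af s0_v512 = s0_v511 :=
  edge_flip (s0_f8715 IH)
theorem s0_f8716 : ed sl_af s0_v511 = s0_v512 :=
  gap_rel s0_rot38 (path_edge (s0_f8715r IH) (path_nil s0_v512))
theorem s0_f8719 : ed sl_ht s0_v512 = s0_v513 :=
  rfl
theorem s0_f8719r : ed sl_hf s0_v513 = s0_v512 :=
  edge_flip (s0_f8719 IH)
theorem s0_f8720 : ed sl_hf s0_v512 = s0_v513 :=
  gap_rel s0_rot18 (path_edge (s0_f8719r IH) (path_nil s0_v513))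
theorem s0_f8723 : ed sl_ft s0_v513 = s0_v514 :=
  rfl
theorem s0_f8723r : ed sl_ff s0_v514 = s0_v513 :=
  edge_flip (s0_f8723 IH)
theorem s0_f8724 : ed sl_ff s0_v513 = s0_v514 :=
  gap_rel s0_rot0 (path_edge (s0_f8723r IH) (path_nil s0_v514))
theorem s0_f8727 : ed sl_et s0_v514 = s0_v515 :=
  rfl
theorem s0_f8727r : ed sl_ef s0_v515 = s0_v514 :=
  edge_flip (s0_f8727 IH)
theorem s0_f8728 : ed sl_ef s0_v514 = s0_v515 :=
  gap_rel s0_rot3 (path_edge (s0_f8727r IH) (path_nil s0_v515))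
theorem s0_f8731 : ed sl_dt s0_v515 = s0_v516 :=
  rfl
theorem s0_f8731r : ed sl_df s0_v516 = s0_v515 :=
  edge_flip (s0_f8731 IH)
theorem s0_f8732 : ed sl_df s0_v515 = s0_v516 :=
  gap_rel s0_rot5 (path_edge (s0_f8731r IH) (path_nil s0_v516))
theorem s0_f6228r : ed sl_af sq2186 = sq2186 :=
  edge_flip (s0_f6228 IH)
theorem s0_f6227r : ed sl_bf sq2186 = sq2186 :=
  edge_flip (s0_f6227 IH)
theorem s0_f6226r : ed sl_cf sq2186 = sq1780 :=
  edge_flip (s0_f6226 IH)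
theorem s0_f6225r : ed sl_df sq1780 = sq1432 :=
  edge_flip (s0_f6225 IH)
theorem s0_f6224r : ed sl_ef sq1432 = sq1134 :=
  edge_flip (s0_f6224 IH)
theorem s0_f6223r : ed sl_ff sq1134 = sq888 :=
  edge_flip (s0_f6223 IH)
theorem s0_f6222r : ed sl_hf sq888 = sq888 :=
  edge_flip (s0_f6222 IH)
theorem s0_f6221r : ed sl_af sq888 = sq888 :=
  edge_flip (s0_f6221 IH)
theorem s0_f6220r : ed sl_bf sq888 = sq694 :=
  edge_flip (s0_f6220 IH)
theorem s0_f6219r : ed sl_cf sq694 = sq540 :=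
  edge_flip (s0_f6219 IH)
theorem s0_f6218r : ed sl_df sq540 = sq417 :=
  edge_flip (s0_f6218 IH)
theorem s0_f6217r : ed sl_ef sq417 = sq320 :=
  edge_flip (s0_f6217 IH)
theorem s0_f6216r : ed sl_ff sq320 = sq320 :=
  edge_flip (s0_f6216 IH)
theorem s0_f6215r : ed sl_hf sq320 = sq247 :=
  edge_flip (s0_f6215 IH)
theorem s0_f6214r : ed sl_af sq247 = sq187 :=
  edge_flip (s0_f6214 IH)
theorem s0_f6213r : ed sl_bf sq187 = sq139 :=
  edge_flip (s0_f6213 IH)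
theorem s0_f522r : ed sl_cf sq139 = sq100 :=
  edge_flip (s0_f522 IH)
theorem s0_f5022r : ed sl_ef sq70 = sq49 :=
  edge_flip (s0_f5022 IH)
theorem s0_f5021r : ed sl_ff sq49 = sq37 :=
  edge_flip (s0_f5021 IH)
theorem s0_f74r : ed sl_hf sq37 = sq25 :=
  edge_flip (s0_f74 IH)
theorem s0_f6048r : ed sl_af sq25 = sq25 :=
  edge_flip (s0_f6048 IH)
theorem s0_f1354r : ed sl_bf sq25 = sq36 :=
  edge_flip (s0_f1354 IH)
theorem s0_f1672r : ed sl_cf sq36 = sq36 :=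
  edge_flip (s0_f1672 IH)
theorem s0_f1355r : ed sl_df sq36 = sq36 :=
  edge_flip (s0_f1355 IH)
theorem s0_f1356r : ed sl_ef sq36 = sq36 :=
  edge_flip (s0_f1356 IH)
theorem s0_f1357r : ed sl_ff sq36 = sq46 :=
  edge_flip (s0_f1357 IH)
theorem s0_f1358r : ed sl_hf sq46 = sq67 :=
  edge_flip (s0_f1358 IH)
theorem s0_f6212r : ed sl_af sq67 = sq92 :=
  edge_flip (s0_f6212 IH)
theorem s0_f3460r : ed sl_bf sq92 = sq92 :=
  edge_flip (s0_f3460 IH)
theorem s0_f3459r : ed sl_cf sq92 = sq92 :=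
  edge_flip (s0_f3459 IH)
theorem s0_f3456r : ed sl_df sq92 = sq130 :=
  edge_flip (s0_f3456 IH)
theorem s0_f1980r : ed sl_ef sq130 = sq176 :=
  edge_flip (s0_f1980 IH)
theorem s0_f6205r : ed sl_hf s0_v368 = s0_v368 :=
  edge_flip (s0_f6205 IH)
theorem s0_f6204r : ed sl_af s0_v368 = sq183 :=
  edge_flip (s0_f6204 IH)
theorem s0_f794r : ed sl_bf sq183 = sq141 :=
  edge_flip (s0_f794 IH)
theorem s0_f793r : ed sl_cf sq141 = sq141 :=
  edge_flip (s0_f793 IH)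
theorem s0_f792r : ed sl_df sq141 = sq189 :=
  edge_flip (s0_f792 IH)
theorem s0_f791r : ed sl_ef sq189 = sq189 :=
  edge_flip (s0_f791 IH)
theorem s0_f790r : ed sl_ff sq189 = sq140 :=
  edge_flip (s0_f790 IH)
theorem s0_f139r : ed sl_hf sq140 = sq186 :=
  edge_flip (s0_f139 IH)
theorem s0_f789r : ed sl_af sq186 = sq186 :=
  edge_flip (s0_f789 IH)
theorem s0_f140r : ed sl_bf sq186 = sq236 :=
  edge_flip (s0_f140 IH)
theorem s0_f141r : ed sl_cf sq236 = sq309 :=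
  edge_flip (s0_f141 IH)
theorem s0_f142r : ed sl_df sq309 = sq404 :=
  edge_flip (s0_f142 IH)
theorem s0_f143r : ed sl_ef sq404 = sq517 :=
  edge_flip (s0_f143 IH)
theorem s0_f144r : ed sl_ff sq517 = sq668 :=
  edge_flip (s0_f144 IH)
theorem s0_f733r : ed sl_hf sq668 = sq861 :=
  edge_flip (s0_f733 IH)
theorem s0_f8733 : ed sl_cf s0_v442 = s0_v516 :=
  gap_rel s0_rot77 (path_edge (s0_f7703 IH) (path_edge (s0_f665 IH) (path_edge (s0_f733r IH) (path_edge (s0_f144r IH) (path_edge (s0_f143r IH) (path_edge (s0_f142r IH) (path_edge (s0_f141r IH) (path_edge (s0_f140r IH) (path_edge (s0_f789r IH) (path_edge (s0_f139r IH) (path_edge (s0_f790r IH) (path_edge (s0_f791r IH) (path_edge (s0_f792r IH) (path_edge (s0_f793r IH) (path_edge (s0_f794r IH) (path_edge (s0_f6204r IH) (path_edge (s0_f6205r IH) (path_eq (s0_f6208 IH) (path_edge (s0_f6210 IH) (path_edge (s0_f1980r IH) (path_edge (s0_f3456r IH) (path_edge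 (s0_f3459r IH) (path_edge (s0_f3460r IH) (path_edge (s0_f6212r IH) (path_edge (s0_f1358r IH) (path_edge (s0_f1357r IH) (path_edge (s0_f1356r IH) (path_edge (s0_f1355r IH) (path_edge (s0_f1672r IH) (path_edge (s0_f1354r IH) (path_edge (s0_f6048r IH) (path_edge (s0_f74r IH) (path_edge (s0_f5021r IH) (path_edge (s0_f5022r IH) (path_edge (s0_f1665r IH) (path_edge (s0_f522r IH) (path_edge (s0_f6213r IH) (path_edge (s0_f6214r IH) (path_edge (s0_f6215r IH) (path_edge (s0_f6216r IH) (path_edge (s0_f6217r IH) (path_edge (s0_f6218r IH) (path_edge (s0_f6219r IH) (path_edge (s0_f6220r IH) (path_edge (s0_f6221r IH) (path_edge (s0_f6222r IH) (path_edge (s0_f6223r IH) (path_edge (s0_f6224r IH) (path_edge (s0_f6225r IH) (path_edge (s0_f6226r IH) (path_edge (s0_f6227r IH) (path_edge (s0_f6228r IH) (path_edge (s0_f8668r IH) (path_edge (s0_f8672 IH) (path_edge (s0_f8701r IH) (path_edge (s0_f8705r IH) (path_edge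 (s0_f8709r IH) (path_edge (s0_f8712r IH) (path_edge (s0_f8715r IH) (path_edge (s0_f8719r IH) (path_edge (s0_f8723r IH) (path_edge (s0_f8727r IH) (path_edge (s0_f8731r IH) (path_nil s0_v516))))))))))))))))))))))))))))))))))))))))))))))))))))))))))))))))
theorem s0_f8733r : ed sl_ct s0_v516 = s0_v442 :=
  edge_flip (s0_f8733 IH)
theorem s0_f7704r : ed sl_ft s0_v442 = sq866 :=
  edge_flip (s0_f7704 IH)
theorem s0_f8737 : ed sl_ft sq1111 = s0_v516 :=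
  gap_rel s0_rot78 (path_edge (s0_f1126 IH) (path_edge (s0_f7704r IH) (path_edge (s0_f8733r IH) (path_nil s0_v516))))
theorem s0_f8737r : ed sl_ff s0_v516 = sq1111 :=
  edge_flip (s0_f8737 IH)
theorem s0_f1412r : ed sl_df sq1111 = sq1410 :=
  edge_flip (s0_f1412 IH)
theorem s0_f8778 : s0_v84 = s0_v515 :=
  (loop_rel s0_rot22 (path_edge (s0_f1371 IH) (path_edge (s0_f1412r IH) (path_edge (s0_f8737r IH) (path_edge (s0_f8732 IH) (path_nil s0_v515)))))).symm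
theorem s0_f8728r : ed sl_et s0_v515 = s0_v514 :=
  edge_flip (s0_f8728 IH)
theorem s0_f8779 : s0_v514 = s0_v85 :=
  edge_fun (edge_congr (s0_f8728r IH) (s0_f8778 IH).symm) (s0_f1472 IH)
theorem s0_f8780 : s0_v146 = s0_v512 :=
  (loop_rel s0_rot27 (path_edge (s0_f2091r IH) (path_edge (s0_f2128 IH) (path_eq (s0_f8779 IH) (path_edge (s0_f8724 IH) (path_edge (s0_f8720 IH) (path_nil s0_v512))))))).symm
theorem s0_f8781 : ed sl_if s0_v511 = s0_v511 :=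
  gap_rel s0_rot79 (path_edge (s0_f8715r IH) (path_eq (s0_f8780 IH) (path_edge (s0_f2125 IH) (path_eq (s0_f8780 IH).symm (path_edge (s0_f8716 IH) (path_nil s0_v511))))))
theorem s0_f8781r : ed sl_it s0_v511 = s0_v511 :=
  edge_flip (s0_f8781 IH)
theorem s0_f8713r : ed sl_bt s0_v511 = s0_v510 :=
  edge_flip (s0_f8713 IH)
theorem s0_f8782 : ed sl_it s0_v510 = s0_v510 :=
  gap_rel s0_rot80 (path_edge (s0_f8713r IH) (path_edge (s0_f8781r IH) (path_edge (s0_f8712 IH) (path_nil s0_v510))))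
theorem s0_f8782r : ed sl_if s0_v510 = s0_v510 :=
  edge_flip (s0_f8782 IH)
theorem s0_f8783 : ed sl_if s0_v509 = s0_v509 :=
  gap_rel s0_rot13 (path_edge (s0_f8709r IH) (path_edge (s0_f8782r IH) (path_edge (s0_f8710 IH) (path_nil s0_v509))))
theorem s0_f8783r : ed sl_it s0_v509 = s0_v509 :=
  edge_flip (s0_f8783 IH)
theorem s0_f8706r : ed sl_dt s0_v509 = s0_v508 :=
  edge_flip (s0_f8706 IH)
theorem s0_f8784 : ed sl_it s0_v508 = s0_v508 :=
  gap_rel s0_rot81 (path_edge (s0_f8706r IH) (path_edge (s0_f8783r IH) (path_edge (s0_f8705 IH) (path_nil s0_v508))))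
theorem s0_f8784r : ed sl_if s0_v508 = s0_v508 :=
  edge_flip (s0_f8784 IH)
theorem s0_f8785 : ed sl_if s0_v507 = s0_v507 :=
  gap_rel s0_rot82 (path_edge (s0_f8701r IH) (path_edge (s0_f8784r IH) (path_edge (s0_f8702 IH) (path_nil s0_v507))))
theorem s0_f8785r : ed sl_it s0_v507 = s0_v507 :=
  edge_flip (s0_f8785 IH)
theorem s0_f8669r : ed sl_ht s0_v507 = sq2186 :=
  edge_flip (s0_f8669 IH)
theorem s0_f8786 : ed sl_ht sq2666 = sq2666 :=
  gap_rel s0_rot83 (path_edge (s0_f8697 IH) (path_edge (s0_f8669r IH) (path_edge (s0_f8785r IH) (path_edge (s0_f8668 IH) (path_edge (s0_f8670 IH) (path_nil sq2666))))))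
theorem s0_f8787 : ed sl_ht sq2666 = sq2666 :=
  edge_of_path (path_edge (s0_f8786 IH) (path_nil sq2666))

theorem seed_0 : EntryOK rels S fwd inv o plet idx Gen.h (Pt.mk D1.c3 D2.c17 D3.c10) :=
  entryOK_of_edge rels S fwd inv o plet idx Gen.h (Pt.mk D1.c3 D2.c17 D3.c10) (s0_f8787 IH)

end Seed0

theorem hseed : ∀ x p, isSeed x p = true →
    (∀ y q, lvl y q < lvl x p → EntryOK rels S fwd inv o plet idx y q) →
    EntryOK rels S fwd inv o plet idx x p := by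
  intro x p hs IH
  cases x
  · exact absurd hs (by simp [isSeed, isSeed_a])
  · exact absurd hs (by simp [isSeed, isSeed_b])
  · exact absurd hs (by simp [isSeed, isSeed_c])
  · exact absurd hs (by simp [isSeed, isSeed_d])
  · exact absurd hs (by simp [isSeed, isSeed_e])
  · exact absurd hs (by simp [isSeed, isSeed_f])
  · exact absurd hs (by simp [isSeed, isSeed_g])
  · have hs' : isSeed_h p = true := hs
    unfold isSeed_h at hs'
    rcases orB_true hs' with h1 | hs'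
    · have hp := beqPt_sound _ _ h1
      subst hp
      exact seed_0 IH
    exact absurd hs' (by decide)
  · exact absurd hs (by simp [isSeed, isSeed_i])

end

end Cfsg.Agent.Helper28.S1685
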