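import Cfsg.Agent.Lib.Helper28.S1685.Rel0
import Cfsg.Agent.Lib.Helper28.S1685.Rel1
import Cfsg.Agent.Lib.Helper28.S1685.Rel2
import Cfsg.Agent.Lib.Helper28.S1685.Rel3
import Cfsg.Agent.Lib.Helper28.S1685.Rel4
import Cfsg.Agent.Lib.Helper28.S1685.Rel5
import Cfsg.Agent.Lib.Helper28.S1685.Rel6
import Cfsg.Agent.Lib.Helper28.S1685.Rel7
import Cfsg.Agent.Lib.Helper28.S1685.Rel8
import Cfsg.Agent.Lib.Helper28.S1685.Rel9
import Cfsg.Agent.Lib.Helper28.S1685.Rel10
import Cfsg.Agent.Lib.Helper28.S1685.Rel11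
import Cfsg.Agent.Lib.Helper28.S1685.Ent_a
import Cfsg.Agent.Lib.Helper28.S1685.Ent_b
import Cfsg.Agent.Lib.Helper28.S1685.Ent_c
import Cfsg.Agent.Lib.Helper28.S1685.Ent_d
import Cfsg.Agent.Lib.Helper28.S1685.Ent_e
import Cfsg.Agent.Lib.Helper28.S1685.Ent_f
import Cfsg.Agent.Lib.Helper28.S1685.Ent_g
import Cfsg.Agent.Lib.Helper28.S1685.Ent_h
import Cfsg.Agent.Lib.Helper28.S1685.Ent_i
import Cfsg.Agent.Lib.Helper28.S1685.Seeds

set_option autoImplicit false
set_option maxRecDepth 100000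
set_option linter.all false

namespace Cfsg.Agent.Helper28.S1685

open Cfsg.Agent.Helper28
open Cfsg.Spor.Fi22 (Gen)

theorem relact_0 : ∀ p, act fwd inv relW_0 p = p :=
  chkWordF_sound allPts beqPt allPts_sound beqPt_sound fwd inv relW_0 relF_0 relF_0_eq relchk_0
theorem relact_1 : ∀ p, act fwd inv relW_1 p = p :=
  chkWordF_sound allPts beqPt allPts_sound beqPt_sound fwd inv relW_1 relF_1 relF_1_eq relchk_1
theorem relact_2 : ∀ p, act fwd inv relW_2 p = p :=
  chkWordF_sound allPts beqPt allPts_sound beqPt_sound fwd inv relW_2 relF_2 relF_2_eq relchk_2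
theorem relact_3 : ∀ p, act fwd inv relW_3 p = p :=
  chkWordF_sound allPts beqPt allPts_sound beqPt_sound fwd inv relW_3 relF_3 relF_3_eq relchk_3
theorem relact_4 : ∀ p, act fwd inv relW_4 p = p :=
  chkWordF_sound allPts beqPt allPts_sound beqPt_sound fwd inv relW_4 relF_4 relF_4_eq relchk_4
theorem relact_5 : ∀ p, act fwd inv relW_5 p = p :=
  chkWordF_sound allPts beqPt allPts_sound beqPt_sound fwd inv relW_5 relF_5 relF_5_eq relchk_5
theorem relact_6 : ∀ p, act fwd inv relW_6 p = p :=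
  chkWordF_sound allPts beqPt allPts_sound beqPt_sound fwd inv relW_6 relF_6 relF_6_eq relchk_6
theorem relact_7 : ∀ p, act fwd inv relW_7 p = p :=
  chkWordF_sound allPts beqPt allPts_sound beqPt_sound fwd inv relW_7 relF_7 relF_7_eq relchk_7
theorem relact_8 : ∀ p, act fwd inv relW_8 p = p :=
  chkWordF_sound allPts beqPt allPts_sound beqPt_sound fwd inv relW_8 relF_8 relF_8_eq relchk_8
theorem relact_9 : ∀ p, act fwd inv relW_9 p = p :=
  chkWordF_sound allPts beqPt allPts_sound beqPt_sound fwd inv relW_9 relF_9 relF_9_eq relchk_9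
theorem relact_10 : ∀ p, act fwd inv relW_10 p = p :=
  chkWordF_sound allPts beqPt allPts_sound beqPt_sound fwd inv relW_10 relF_10 relF_10_eq relchk_10
theorem relact_11 : ∀ p, act fwd inv relW_11 p = p :=
  chkWordF_sound allPts beqPt allPts_sound beqPt_sound fwd inv relW_11 relF_11 relF_11_eq relchk_11
theorem relact_12 : ∀ p, act fwd inv relW_12 p = p :=
  chkWordF_sound allPts beqPt allPts_sound beqPt_sound fwd inv relW_12 relF_12 relF_12_eq relchk_12
theorem relact_13 : ∀ p, act fwd inv relW_13 p = p :=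
  chkWordF_sound allPts beqPt allPts_sound beqPt_sound fwd inv relW_13 relF_13 relF_13_eq relchk_13
theorem relact_14 : ∀ p, act fwd inv relW_14 p = p :=
  chkWordF_sound allPts beqPt allPts_sound beqPt_sound fwd inv relW_14 relF_14 relF_14_eq relchk_14
theorem relact_15 : ∀ p, act fwd inv relW_15 p = p :=
  chkWordF_sound allPts beqPt allPts_sound beqPt_sound fwd inv relW_15 relF_15 relF_15_eq relchk_15
theorem relact_16 : ∀ p, act fwd inv relW_16 p = p :=
  chkWordF_sound allPts beqPt allPts_sound beqPt_sound fwd inv relW_16 relF_16 relF_16_eq relchk_16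
theorem relact_17 : ∀ p, act fwd inv relW_17 p = p :=
  chkWordF_sound allPts beqPt allPts_sound beqPt_sound fwd inv relW_17 relF_17 relF_17_eq relchk_17
theorem relact_18 : ∀ p, act fwd inv relW_18 p = p :=
  chkWordF_sound allPts beqPt allPts_sound beqPt_sound fwd inv relW_18 relF_18 relF_18_eq relchk_18
theorem relact_19 : ∀ p, act fwd inv relW_19 p = p :=
  chkWordF_sound allPts beqPt allPts_sound beqPt_sound fwd inv relW_19 relF_19 relF_19_eq relchk_19
theorem relact_20 : ∀ p, act fwd inv relW_20 p = p :=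
  chkWordF_sound allPts beqPt allPts_sound beqPt_sound fwd inv relW_20 relF_20 relF_20_eq relchk_20
theorem relact_21 : ∀ p, act fwd inv relW_21 p = p :=
  chkWordF_sound allPts beqPt allPts_sound beqPt_sound fwd inv relW_21 relF_21 relF_21_eq relchk_21
theorem relact_22 : ∀ p, act fwd inv relW_22 p = p :=
  chkWordF_sound allPts beqPt allPts_sound beqPt_sound fwd inv relW_22 relF_22 relF_22_eq relchk_22
theorem relact_23 : ∀ p, act fwd inv relW_23 p = p :=
  chkWordF_sound allPts beqPt allPts_sound beqPt_sound fwd inv relW_23 relF_23 relF_23_eq relchk_23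
theorem relact_24 : ∀ p, act fwd inv relW_24 p = p :=
  chkWordF_sound allPts beqPt allPts_sound beqPt_sound fwd inv relW_24 relF_24 relF_24_eq relchk_24
theorem relact_25 : ∀ p, act fwd inv relW_25 p = p :=
  chkWordF_sound allPts beqPt allPts_sound beqPt_sound fwd inv relW_25 relF_25 relF_25_eq relchk_25
theorem relact_26 : ∀ p, act fwd inv relW_26 p = p :=
  chkWordF_sound allPts beqPt allPts_sound beqPt_sound fwd inv relW_26 relF_26 relF_26_eq relchk_26
theorem relact_27 : ∀ p, act fwd inv relW_27 p = p :=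
  chkWordF_sound allPts beqPt allPts_sound beqPt_sound fwd inv relW_27 relF_27 relF_27_eq relchk_27
theorem relact_28 : ∀ p, act fwd inv relW_28 p = p :=
  chkWordF_sound allPts beqPt allPts_sound beqPt_sound fwd inv relW_28 relF_28 relF_28_eq relchk_28
theorem relact_29 : ∀ p, act fwd inv relW_29 p = p :=
  chkWordF_sound allPts beqPt allPts_sound beqPt_sound fwd inv relW_29 relF_29 relF_29_eq relchk_29
theorem relact_30 : ∀ p, act fwd inv relW_30 p = p :=
  chkWordF_sound allPts beqPt allPts_sound beqPt_sound fwd inv relW_30 relF_30 relF_30_eq relchk_30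
theorem relact_31 : ∀ p, act fwd inv relW_31 p = p :=
  chkWordF_sound allPts beqPt allPts_sound beqPt_sound fwd inv relW_31 relF_31 relF_31_eq relchk_31
theorem relact_32 : ∀ p, act fwd inv relW_32 p = p :=
  chkWordF_sound allPts beqPt allPts_sound beqPt_sound fwd inv relW_32 relF_32 relF_32_eq relchk_32
theorem relact_33 : ∀ p, act fwd inv relW_33 p = p :=
  chkWordF_sound allPts beqPt allPts_sound beqPt_sound fwd inv relW_33 relF_33 relF_33_eq relchk_33
theorem relact_34 : ∀ p, act fwd inv relW_34 p = p :=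
  chkWordF_sound allPts beqPt allPts_sound beqPt_sound fwd inv relW_34 relF_34 relF_34_eq relchk_34
theorem relact_35 : ∀ p, act fwd inv relW_35 p = p :=
  chkWordF_sound allPts beqPt allPts_sound beqPt_sound fwd inv relW_35 relF_35 relF_35_eq relchk_35
theorem relact_36 : ∀ p, act fwd inv relW_36 p = p :=
  chkWordF_sound allPts beqPt allPts_sound beqPt_sound fwd inv relW_36 relF_36 relF_36_eq relchk_36
theorem relact_37 : ∀ p, act fwd inv relW_37 p = p :=
  chkWordF_sound allPts beqPt allPts_sound beqPt_sound fwd inv relW_37 relF_37 relF_37_eq relchk_37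
theorem relact_38 : ∀ p, act fwd inv relW_38 p = p :=
  chkWordF_sound allPts beqPt allPts_sound beqPt_sound fwd inv relW_38 relF_38 relF_38_eq relchk_38
theorem relact_39 : ∀ p, act fwd inv relW_39 p = p :=
  chkWordF_sound allPts beqPt allPts_sound beqPt_sound fwd inv relW_39 relF_39 relF_39_eq relchk_39
theorem relact_40 : ∀ p, act fwd inv relW_40 p = p :=
  chkWordF_sound allPts beqPt allPts_sound beqPt_sound fwd inv relW_40 relF_40 relF_40_eq relchk_40
theorem relact_41 : ∀ p, act fwd inv relW_41 p = p :=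
  chkWordF_sound allPts beqPt allPts_sound beqPt_sound fwd inv relW_41 relF_41 relF_41_eq relchk_41
theorem relact_42 : ∀ p, act fwd inv relW_42 p = p :=
  chkWordF_sound allPts beqPt allPts_sound beqPt_sound fwd inv relW_42 relF_42 relF_42_eq relchk_42
theorem relact_43 : ∀ p, act fwd inv relW_43 p = p :=
  chkWordF_sound allPts beqPt allPts_sound beqPt_sound fwd inv relW_43 relF_43 relF_43_eq relchk_43
theorem relact_44 : ∀ p, act fwd inv relW_44 p = p :=
  chkWordF_sound allPts beqPt allPts_sound beqPt_sound fwd inv relW_44 relF_44 relF_44_eq relchk_44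
theorem relact_45 : ∀ p, act fwd inv relW_45 p = p :=
  chkWordF_sound allPts beqPt allPts_sound beqPt_sound fwd inv relW_45 relF_45 relF_45_eq relchk_45
theorem relact_46 : ∀ p, act fwd inv relW_46 p = p :=
  chkWordF_sound allPts beqPt allPts_sound beqPt_sound fwd inv relW_46 relF_46 relF_46_eq relchk_46
theorem relact_47 : ∀ p, act fwd inv relW_47 p = p :=
  chkWordF_sound allPts beqPt allPts_sound beqPt_sound fwd inv relW_47 relF_47 relF_47_eq relchk_47
theorem coxl_a_a : FreeGroup.lift (permOf fwd inv hfi hif) ((FreeGroup.of Gen.a * FreeGroup.of Gen.a) ^ 1) = 1 :=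
  lift_cox_eq_one fwd inv hfi hif 1 Gen.a Gen.a relact_0
theorem coxl_a_b : FreeGroup.lift (permOf fwd inv hfi hif) ((FreeGroup.of Gen.a * FreeGroup.of Gen.b) ^ 3) = 1 :=
  lift_cox_eq_one fwd inv hfi hif 3 Gen.a Gen.b relact_1
theorem coxl_a_c : FreeGroup.lift (permOf fwd inv hfi hif) ((FreeGroup.of Gen.a * FreeGroup.of Gen.c) ^ 2) = 1 :=
  lift_cox_eq_one fwd inv hfi hif 2 Gen.a Gen.c relact_2
theorem coxl_a_d : FreeGroup.lift (permOf fwd inv hfi hif) ((FreeGroup.of Gen.a * FreeGroup.of Gen.d) ^ 2) = 1 :=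
  lift_cox_eq_one fwd inv hfi hif 2 Gen.a Gen.d relact_3
theorem coxl_a_e : FreeGroup.lift (permOf fwd inv hfi hif) ((FreeGroup.of Gen.a * FreeGroup.of Gen.e) ^ 2) = 1 :=
  lift_cox_eq_one fwd inv hfi hif 2 Gen.a Gen.e relact_4
theorem coxl_a_f : FreeGroup.lift (permOf fwd inv hfi hif) ((FreeGroup.of Gen.a * FreeGroup.of Gen.f) ^ 2) = 1 :=
  lift_cox_eq_one fwd inv hfi hif 2 Gen.a Gen.f relact_6
theorem coxl_a_g : FreeGroup.lift (permOf fwd inv hfi hif) ((FreeGroup.of Gen.a * FreeGroup.of Gen.g) ^ 2) = 1 :=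
  lift_cox_eq_one fwd inv hfi hif 2 Gen.a Gen.g relact_7
theorem coxl_a_h : FreeGroup.lift (permOf fwd inv hfi hif) ((FreeGroup.of Gen.a * FreeGroup.of Gen.h) ^ 2) = 1 :=
  lift_cox_eq_one fwd inv hfi hif 2 Gen.a Gen.h relact_5
theorem coxl_a_i : FreeGroup.lift (permOf fwd inv hfi hif) ((FreeGroup.of Gen.a * FreeGroup.of Gen.i) ^ 2) = 1 :=
  lift_cox_eq_one fwd inv hfi hif 2 Gen.a Gen.i relact_8
theorem coxl_b_b : FreeGroup.lift (permOf fwd inv hfi hif) ((FreeGroup.of Gen.b * FreeGroup.of Gen.b) ^ 1) = 1 :=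
  lift_cox_eq_one fwd inv hfi hif 1 Gen.b Gen.b relact_9
theorem coxl_b_c : FreeGroup.lift (permOf fwd inv hfi hif) ((FreeGroup.of Gen.b * FreeGroup.of Gen.c) ^ 3) = 1 :=
  lift_cox_eq_one fwd inv hfi hif 3 Gen.b Gen.c relact_10
theorem coxl_b_d : FreeGroup.lift (permOf fwd inv hfi hif) ((FreeGroup.of Gen.b * FreeGroup.of Gen.d) ^ 2) = 1 :=
  lift_cox_eq_one fwd inv hfi hif 2 Gen.b Gen.d relact_11
theorem coxl_b_e : FreeGroup.lift (permOf fwd inv hfi hif) ((FreeGroup.of Gen.b * FreeGroup.of Gen.e) ^ 2) = 1 :=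
  lift_cox_eq_one fwd inv hfi hif 2 Gen.b Gen.e relact_12
theorem coxl_b_f : FreeGroup.lift (permOf fwd inv hfi hif) ((FreeGroup.of Gen.b * FreeGroup.of Gen.f) ^ 2) = 1 :=
  lift_cox_eq_one fwd inv hfi hif 2 Gen.b Gen.f relact_14
theorem coxl_b_g : FreeGroup.lift (permOf fwd inv hfi hif) ((FreeGroup.of Gen.b * FreeGroup.of Gen.g) ^ 2) = 1 :=
  lift_cox_eq_one fwd inv hfi hif 2 Gen.b Gen.g relact_15
theorem coxl_b_h : FreeGroup.lift (permOf fwd inv hfi hif) ((FreeGroup.of Gen.b * FreeGroup.of Gen.h) ^ 2) = 1 :=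
  lift_cox_eq_one fwd inv hfi hif 2 Gen.b Gen.h relact_13
theorem coxl_b_i : FreeGroup.lift (permOf fwd inv hfi hif) ((FreeGroup.of Gen.b * FreeGroup.of Gen.i) ^ 2) = 1 :=
  lift_cox_eq_one fwd inv hfi hif 2 Gen.b Gen.i relact_16
theorem coxl_c_c : FreeGroup.lift (permOf fwd inv hfi hif) ((FreeGroup.of Gen.c * FreeGroup.of Gen.c) ^ 1) = 1 :=
  lift_cox_eq_one fwd inv hfi hif 1 Gen.c Gen.c relact_17
theorem coxl_c_d : FreeGroup.lift (permOf fwd inv hfi hif) ((FreeGroup.of Gen.c * FreeGroup.of Gen.d) ^ 3) = 1 :=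
  lift_cox_eq_one fwd inv hfi hif 3 Gen.c Gen.d relact_18
theorem coxl_c_e : FreeGroup.lift (permOf fwd inv hfi hif) ((FreeGroup.of Gen.c * FreeGroup.of Gen.e) ^ 2) = 1 :=
  lift_cox_eq_one fwd inv hfi hif 2 Gen.c Gen.e relact_19
theorem coxl_c_f : FreeGroup.lift (permOf fwd inv hfi hif) ((FreeGroup.of Gen.c * FreeGroup.of Gen.f) ^ 2) = 1 :=
  lift_cox_eq_one fwd inv hfi hif 2 Gen.c Gen.f relact_21
theorem coxl_c_g : FreeGroup.lift (permOf fwd inv hfi hif) ((FreeGroup.of Gen.c * FreeGroup.of Gen.g) ^ 2) = 1 :=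
  lift_cox_eq_one fwd inv hfi hif 2 Gen.c Gen.g relact_22
theorem coxl_c_h : FreeGroup.lift (permOf fwd inv hfi hif) ((FreeGroup.of Gen.c * FreeGroup.of Gen.h) ^ 2) = 1 :=
  lift_cox_eq_one fwd inv hfi hif 2 Gen.c Gen.h relact_20
theorem coxl_c_i : FreeGroup.lift (permOf fwd inv hfi hif) ((FreeGroup.of Gen.c * FreeGroup.of Gen.i) ^ 2) = 1 :=
  lift_cox_eq_one fwd inv hfi hif 2 Gen.c Gen.i relact_23
theorem coxl_d_d : FreeGroup.lift (permOf fwd inv hfi hif) ((FreeGroup.of Gen.d * FreeGroup.of Gen.d) ^ 1) = 1 :=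
  lift_cox_eq_one fwd inv hfi hif 1 Gen.d Gen.d relact_24
theorem coxl_d_e : FreeGroup.lift (permOf fwd inv hfi hif) ((FreeGroup.of Gen.d * FreeGroup.of Gen.e) ^ 3) = 1 :=
  lift_cox_eq_one fwd inv hfi hif 3 Gen.d Gen.e relact_25
theorem coxl_d_f : FreeGroup.lift (permOf fwd inv hfi hif) ((FreeGroup.of Gen.d * FreeGroup.of Gen.f) ^ 2) = 1 :=
  lift_cox_eq_one fwd inv hfi hif 2 Gen.d Gen.f relact_27
theorem coxl_d_g : FreeGroup.lift (permOf fwd inv hfi hif) ((FreeGroup.of Gen.d * FreeGroup.of Gen.g) ^ 2) = 1 :=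
  lift_cox_eq_one fwd inv hfi hif 2 Gen.d Gen.g relact_28
theorem coxl_d_h : FreeGroup.lift (permOf fwd inv hfi hif) ((FreeGroup.of Gen.d * FreeGroup.of Gen.h) ^ 3) = 1 :=
  lift_cox_eq_one fwd inv hfi hif 3 Gen.d Gen.h relact_26
theorem coxl_d_i : FreeGroup.lift (permOf fwd inv hfi hif) ((FreeGroup.of Gen.d * FreeGroup.of Gen.i) ^ 2) = 1 :=
  lift_cox_eq_one fwd inv hfi hif 2 Gen.d Gen.i relact_29
theorem coxl_e_e : FreeGroup.lift (permOf fwd inv hfi hif) ((FreeGroup.of Gen.e * FreeGroup.of Gen.e) ^ 1) = 1 :=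
  lift_cox_eq_one fwd inv hfi hif 1 Gen.e Gen.e relact_30
theorem coxl_e_f : FreeGroup.lift (permOf fwd inv hfi hif) ((FreeGroup.of Gen.e * FreeGroup.of Gen.f) ^ 3) = 1 :=
  lift_cox_eq_one fwd inv hfi hif 3 Gen.e Gen.f relact_32
theorem coxl_e_g : FreeGroup.lift (permOf fwd inv hfi hif) ((FreeGroup.of Gen.e * FreeGroup.of Gen.g) ^ 2) = 1 :=
  lift_cox_eq_one fwd inv hfi hif 2 Gen.e Gen.g relact_33
theorem coxl_e_h : FreeGroup.lift (permOf fwd inv hfi hif) ((FreeGroup.of Gen.e * FreeGroup.of Gen.h) ^ 2) = 1 :=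
  lift_cox_eq_one fwd inv hfi hif 2 Gen.e Gen.h relact_31
theorem coxl_e_i : FreeGroup.lift (permOf fwd inv hfi hif) ((FreeGroup.of Gen.e * FreeGroup.of Gen.i) ^ 2) = 1 :=
  lift_cox_eq_one fwd inv hfi hif 2 Gen.e Gen.i relact_34
theorem coxl_f_f : FreeGroup.lift (permOf fwd inv hfi hif) ((FreeGroup.of Gen.f * FreeGroup.of Gen.f) ^ 1) = 1 :=
  lift_cox_eq_one fwd inv hfi hif 1 Gen.f Gen.f relact_38
theorem coxl_f_g : FreeGroup.lift (permOf fwd inv hfi hif) ((FreeGroup.of Gen.f * FreeGroup.of Gen.g) ^ 3) = 1 :=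
  lift_cox_eq_one fwd inv hfi hif 3 Gen.f Gen.g relact_39
theorem coxl_f_h : FreeGroup.lift (permOf fwd inv hfi hif) ((FreeGroup.of Gen.f * FreeGroup.of Gen.h) ^ 2) = 1 :=
  lift_cox_eq_one fwd inv hfi hif 2 Gen.f Gen.h relact_37
theorem coxl_f_i : FreeGroup.lift (permOf fwd inv hfi hif) ((FreeGroup.of Gen.f * FreeGroup.of Gen.i) ^ 2) = 1 :=
  lift_cox_eq_one fwd inv hfi hif 2 Gen.f Gen.i relact_40
theorem coxl_g_g : FreeGroup.lift (permOf fwd inv hfi hif) ((FreeGroup.of Gen.g * FreeGroup.of Gen.g) ^ 1) = 1 :=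
  lift_cox_eq_one fwd inv hfi hif 1 Gen.g Gen.g relact_42
theorem coxl_g_h : FreeGroup.lift (permOf fwd inv hfi hif) ((FreeGroup.of Gen.g * FreeGroup.of Gen.h) ^ 2) = 1 :=
  lift_cox_eq_one fwd inv hfi hif 2 Gen.g Gen.h relact_41
theorem coxl_g_i : FreeGroup.lift (permOf fwd inv hfi hif) ((FreeGroup.of Gen.g * FreeGroup.of Gen.i) ^ 2) = 1 :=
  lift_cox_eq_one fwd inv hfi hif 2 Gen.g Gen.i relact_43
theorem coxl_h_h : FreeGroup.lift (permOf fwd inv hfi hif) ((FreeGroup.of Gen.h * FreeGroup.of Gen.h) ^ 1) = 1 :=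
  lift_cox_eq_one fwd inv hfi hif 1 Gen.h Gen.h relact_35
theorem coxl_h_i : FreeGroup.lift (permOf fwd inv hfi hif) ((FreeGroup.of Gen.h * FreeGroup.of Gen.i) ^ 3) = 1 :=
  lift_cox_eq_one fwd inv hfi hif 3 Gen.h Gen.i relact_36
theorem coxl_i_i : FreeGroup.lift (permOf fwd inv hfi hif) ((FreeGroup.of Gen.i * FreeGroup.of Gen.i) ^ 1) = 1 :=
  lift_cox_eq_one fwd inv hfi hif 1 Gen.i Gen.i relact_44
theorem coxl_b_a : FreeGroup.lift (permOf fwd inv hfi hif) ((FreeGroup.of Gen.b * FreeGroup.of Gen.a) ^ 3) = 1 :=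
  lift_cox_symm fwd inv hfi hif 3 Gen.a Gen.b coxl_a_b
theorem coxl_c_a : FreeGroup.lift (permOf fwd inv hfi hif) ((FreeGroup.of Gen.c * FreeGroup.of Gen.a) ^ 2) = 1 :=
  lift_cox_symm fwd inv hfi hif 2 Gen.a Gen.c coxl_a_c
theorem coxl_c_b : FreeGroup.lift (permOf fwd inv hfi hif) ((FreeGroup.of Gen.c * FreeGroup.of Gen.b) ^ 3) = 1 :=
  lift_cox_symm fwd inv hfi hif 3 Gen.b Gen.c coxl_b_c
theorem coxl_d_a : FreeGroup.lift (permOf fwd inv hfi hif) ((FreeGroup.of Gen.d * FreeGroup.of Gen.a) ^ 2) = 1 :=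
  lift_cox_symm fwd inv hfi hif 2 Gen.a Gen.d coxl_a_d
theorem coxl_d_b : FreeGroup.lift (permOf fwd inv hfi hif) ((FreeGroup.of Gen.d * FreeGroup.of Gen.b) ^ 2) = 1 :=
  lift_cox_symm fwd inv hfi hif 2 Gen.b Gen.d coxl_b_d
theorem coxl_d_c : FreeGroup.lift (permOf fwd inv hfi hif) ((FreeGroup.of Gen.d * FreeGroup.of Gen.c) ^ 3) = 1 :=
  lift_cox_symm fwd inv hfi hif 3 Gen.c Gen.d coxl_c_d
theorem coxl_e_a : FreeGroup.lift (permOf fwd inv hfi hif) ((FreeGroup.of Gen.e * FreeGroup.of Gen.a) ^ 2) = 1 :=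
  lift_cox_symm fwd inv hfi hif 2 Gen.a Gen.e coxl_a_e
theorem coxl_e_b : FreeGroup.lift (permOf fwd inv hfi hif) ((FreeGroup.of Gen.e * FreeGroup.of Gen.b) ^ 2) = 1 :=
  lift_cox_symm fwd inv hfi hif 2 Gen.b Gen.e coxl_b_e
theorem coxl_e_c : FreeGroup.lift (permOf fwd inv hfi hif) ((FreeGroup.of Gen.e * FreeGroup.of Gen.c) ^ 2) = 1 :=
  lift_cox_symm fwd inv hfi hif 2 Gen.c Gen.e coxl_c_e
theorem coxl_e_d : FreeGroup.lift (permOf fwd inv hfi hif) ((FreeGroup.of Gen.e * FreeGroup.of Gen.d) ^ 3) = 1 :=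
  lift_cox_symm fwd inv hfi hif 3 Gen.d Gen.e coxl_d_e
theorem coxl_f_a : FreeGroup.lift (permOf fwd inv hfi hif) ((FreeGroup.of Gen.f * FreeGroup.of Gen.a) ^ 2) = 1 :=
  lift_cox_symm fwd inv hfi hif 2 Gen.a Gen.f coxl_a_f
theorem coxl_f_b : FreeGroup.lift (permOf fwd inv hfi hif) ((FreeGroup.of Gen.f * FreeGroup.of Gen.b) ^ 2) = 1 :=
  lift_cox_symm fwd inv hfi hif 2 Gen.b Gen.f coxl_b_f
theorem coxl_f_c : FreeGroup.lift (permOf fwd inv hfi hif) ((FreeGroup.of Gen.f * FreeGroup.of Gen.c) ^ 2) = 1 :=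
  lift_cox_symm fwd inv hfi hif 2 Gen.c Gen.f coxl_c_f
theorem coxl_f_d : FreeGroup.lift (permOf fwd inv hfi hif) ((FreeGroup.of Gen.f * FreeGroup.of Gen.d) ^ 2) = 1 :=
  lift_cox_symm fwd inv hfi hif 2 Gen.d Gen.f coxl_d_f
theorem coxl_f_e : FreeGroup.lift (permOf fwd inv hfi hif) ((FreeGroup.of Gen.f * FreeGroup.of Gen.e) ^ 3) = 1 :=
  lift_cox_symm fwd inv hfi hif 3 Gen.e Gen.f coxl_e_f
theorem coxl_g_a : FreeGroup.lift (permOf fwd inv hfi hif) ((FreeGroup.of Gen.g * FreeGroup.of Gen.a) ^ 2) = 1 :=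
  lift_cox_symm fwd inv hfi hif 2 Gen.a Gen.g coxl_a_g
theorem coxl_g_b : FreeGroup.lift (permOf fwd inv hfi hif) ((FreeGroup.of Gen.g * FreeGroup.of Gen.b) ^ 2) = 1 :=
  lift_cox_symm fwd inv hfi hif 2 Gen.b Gen.g coxl_b_g
theorem coxl_g_c : FreeGroup.lift (permOf fwd inv hfi hif) ((FreeGroup.of Gen.g * FreeGroup.of Gen.c) ^ 2) = 1 :=
  lift_cox_symm fwd inv hfi hif 2 Gen.c Gen.g coxl_c_g
theorem coxl_g_d : FreeGroup.lift (permOf fwd inv hfi hif) ((FreeGroup.of Gen.g * FreeGroup.of Gen.d) ^ 2) = 1 :=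
  lift_cox_symm fwd inv hfi hif 2 Gen.d Gen.g coxl_d_g
theorem coxl_g_e : FreeGroup.lift (permOf fwd inv hfi hif) ((FreeGroup.of Gen.g * FreeGroup.of Gen.e) ^ 2) = 1 :=
  lift_cox_symm fwd inv hfi hif 2 Gen.e Gen.g coxl_e_g
theorem coxl_g_f : FreeGroup.lift (permOf fwd inv hfi hif) ((FreeGroup.of Gen.g * FreeGroup.of Gen.f) ^ 3) = 1 :=
  lift_cox_symm fwd inv hfi hif 3 Gen.f Gen.g coxl_f_g
theorem coxl_h_a : FreeGroup.lift (permOf fwd inv hfi hif) ((FreeGroup.of Gen.h * FreeGroup.of Gen.a) ^ 2) = 1 :=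
  lift_cox_symm fwd inv hfi hif 2 Gen.a Gen.h coxl_a_h
theorem coxl_h_b : FreeGroup.lift (permOf fwd inv hfi hif) ((FreeGroup.of Gen.h * FreeGroup.of Gen.b) ^ 2) = 1 :=
  lift_cox_symm fwd inv hfi hif 2 Gen.b Gen.h coxl_b_h
theorem coxl_h_c : FreeGroup.lift (permOf fwd inv hfi hif) ((FreeGroup.of Gen.h * FreeGroup.of Gen.c) ^ 2) = 1 :=
  lift_cox_symm fwd inv hfi hif 2 Gen.c Gen.h coxl_c_h
theorem coxl_h_d : FreeGroup.lift (permOf fwd inv hfi hif) ((FreeGroup.of Gen.h * FreeGroup.of Gen.d) ^ 3) = 1 :=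
  lift_cox_symm fwd inv hfi hif 3 Gen.d Gen.h coxl_d_h
theorem coxl_h_e : FreeGroup.lift (permOf fwd inv hfi hif) ((FreeGroup.of Gen.h * FreeGroup.of Gen.e) ^ 2) = 1 :=
  lift_cox_symm fwd inv hfi hif 2 Gen.e Gen.h coxl_e_h
theorem coxl_h_f : FreeGroup.lift (permOf fwd inv hfi hif) ((FreeGroup.of Gen.h * FreeGroup.of Gen.f) ^ 2) = 1 :=
  lift_cox_symm fwd inv hfi hif 2 Gen.f Gen.h coxl_f_h
theorem coxl_h_g : FreeGroup.lift (permOf fwd inv hfi hif) ((FreeGroup.of Gen.h * FreeGroup.of Gen.g) ^ 2) = 1 :=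
  lift_cox_symm fwd inv hfi hif 2 Gen.g Gen.h coxl_g_h
theorem coxl_i_a : FreeGroup.lift (permOf fwd inv hfi hif) ((FreeGroup.of Gen.i * FreeGroup.of Gen.a) ^ 2) = 1 :=
  lift_cox_symm fwd inv hfi hif 2 Gen.a Gen.i coxl_a_i
theorem coxl_i_b : FreeGroup.lift (permOf fwd inv hfi hif) ((FreeGroup.of Gen.i * FreeGroup.of Gen.b) ^ 2) = 1 :=
  lift_cox_symm fwd inv hfi hif 2 Gen.b Gen.i coxl_b_i
theorem coxl_i_c : FreeGroup.lift (permOf fwd inv hfi hif) ((FreeGroup.of Gen.i * FreeGroup.of Gen.c) ^ 2) = 1 :=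
  lift_cox_symm fwd inv hfi hif 2 Gen.c Gen.i coxl_c_i
theorem coxl_i_d : FreeGroup.lift (permOf fwd inv hfi hif) ((FreeGroup.of Gen.i * FreeGroup.of Gen.d) ^ 2) = 1 :=
  lift_cox_symm fwd inv hfi hif 2 Gen.d Gen.i coxl_d_i
theorem coxl_i_e : FreeGroup.lift (permOf fwd inv hfi hif) ((FreeGroup.of Gen.i * FreeGroup.of Gen.e) ^ 2) = 1 :=
  lift_cox_symm fwd inv hfi hif 2 Gen.e Gen.i coxl_e_i
theorem coxl_i_f : FreeGroup.lift (permOf fwd inv hfi hif) ((FreeGroup.of Gen.i * FreeGroup.of Gen.f) ^ 2) = 1 :=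
  lift_cox_symm fwd inv hfi hif 2 Gen.f Gen.i coxl_f_i
theorem coxl_i_g : FreeGroup.lift (permOf fwd inv hfi hif) ((FreeGroup.of Gen.i * FreeGroup.of Gen.g) ^ 2) = 1 :=
  lift_cox_symm fwd inv hfi hif 2 Gen.g Gen.i coxl_g_i
theorem coxl_i_h : FreeGroup.lift (permOf fwd inv hfi hif) ((FreeGroup.of Gen.i * FreeGroup.of Gen.h) ^ 3) = 1 :=
  lift_cox_symm fwd inv hfi hif 3 Gen.h Gen.i coxl_h_i

theorem hrel : ∀ r ∈ rels, FreeGroup.lift (permOf fwd inv hfi hif) r = 1 := by
  intro r hr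
  rcases hr with ⟨x, hx, y, hy, rfl⟩ | hr
  · cases x <;> cases y
    · exact coxl_a_a
    · exact coxl_a_b
    · exact coxl_a_c
    · exact coxl_a_d
    · exact coxl_a_e
    · exact coxl_a_f
    · exact coxl_a_g
    · exact coxl_a_h
    · exact coxl_a_i
    · exact coxl_b_a
    · exact coxl_b_b
    · exact coxl_b_c
    · exact coxl_b_d
    · exact coxl_b_e
    · exact coxl_b_f
    · exact coxl_b_g
    · exact coxl_b_h
    · exact coxl_b_i
    · exact coxl_c_a
    · exact coxl_c_b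
    · exact coxl_c_c
    · exact coxl_c_d
    · exact coxl_c_e
    · exact coxl_c_f
    · exact coxl_c_g
    · exact coxl_c_h
    · exact coxl_c_i
    · exact coxl_d_a
    · exact coxl_d_b
    · exact coxl_d_c
    · exact coxl_d_d
    · exact coxl_d_e
    · exact coxl_d_f
    · exact coxl_d_g
    · exact coxl_d_h
    · exact coxl_d_i
    · exact coxl_e_a
    · exact coxl_e_b
    · exact coxl_e_c
    · exact coxl_e_d
    · exact coxl_e_e
    · exact coxl_e_f
    · exact coxl_e_g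
    · exact coxl_e_h
    · exact coxl_e_i
    · exact coxl_f_a
    · exact coxl_f_b
    · exact coxl_f_c
    · exact coxl_f_d
    · exact coxl_f_e
    · exact coxl_f_f
    · exact coxl_f_g
    · exact coxl_f_h
    · exact coxl_f_i
    · exact coxl_g_a
    · exact coxl_g_b
    · exact coxl_g_c
    · exact coxl_g_d
    · exact coxl_g_e
    · exact coxl_g_f
    · exact coxl_g_g
    · exact coxl_g_h
    · exact coxl_g_i
    · exact coxl_h_a
    · exact coxl_h_b
    · exact coxl_h_c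
    · exact coxl_h_d
    · exact coxl_h_e
    · exact coxl_h_f
    · exact coxl_h_g
    · exact coxl_h_h
    · exact coxl_h_i
    · exact coxl_i_a
    · exact coxl_i_b
    · exact coxl_i_c
    · exact coxl_i_d
    · exact coxl_i_e
    · exact coxl_i_f
    · exact coxl_i_g
    · exact coxl_i_h
    · exact coxl_i_i
  · have hr' : r ∈ Cfsg.Spor.Fi22.extra := hr
    unfold Cfsg.Spor.Fi22.extra at hr'
    simp only [List.mem_cons, List.not_mem_nil, or_false] at hr'
    rcases hr' with rfl | rfl | rfl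
    · exact lift_eq_one_of_act fwd inv hfi hif relW_45 relact_45
    · exact lift_eq_one_of_act fwd inv hfi hif relW_46 relact_46
    · exact lift_eq_one_of_act fwd inv hfi hif relW_47 relact_47
theorem subfix_0 : act fwd inv subW_0 o = o := by
  have h : beqPt (actF subF_0 o) o = true := by decide +kernel
  have := beqPt_sound _ _ h
  rw [subF_0_eq, actF_map] at this
  exact this
theorem subfix_1 : act fwd inv subW_1 o = o := by
  have h : beqPt (actF subF_1 o) o = true := by decide +kernel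
  have := beqPt_sound _ _ h
  rw [subF_1_eq, actF_map] at this
  exact this
theorem subfix_2 : act fwd inv subW_2 o = o := by
  have h : beqPt (actF subF_2 o) o = true := by decide +kernel
  have := beqPt_sound _ _ h
  rw [subF_2_eq, actF_map] at this
  exact this
theorem subfix_3 : act fwd inv subW_3 o = o := by
  have h : beqPt (actF subF_3 o) o = true := by decide +kernel
  have := beqPt_sound _ _ h
  rw [subF_3_eq, actF_map] at this
  exact this
theorem subfix_4 : act fwd inv subW_4 o = o := by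
  have h : beqPt (actF subF_4 o) o = true := by decide +kernel
  have := beqPt_sound _ _ h
  rw [subF_4_eq, actF_map] at this
  exact this
theorem subfix_5 : act fwd inv subW_5 o = o := by
  have h : beqPt (actF subF_5 o) o = true := by decide +kernel
  have := beqPt_sound _ _ h
  rw [subF_5_eq, actF_map] at this
  exact this
theorem subfix_6 : act fwd inv subW_6 o = o := by
  have h : beqPt (actF subF_6 o) o = true := by decide +kernel
  have := beqPt_sound _ _ h
  rw [subF_6_eq, actF_map] at this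
  exact this
theorem subfix_7 : act fwd inv subW_7 o = o := by
  have h : beqPt (actF subF_7 o) o = true := by decide +kernel
  have := beqPt_sound _ _ h
  rw [subF_7_eq, actF_map] at this
  exact this

theorem hS : ∀ s ∈ S, FreeGroup.lift (permOf fwd inv hfi hif) s o = o := by
  intro s hs
  rcases hs with rfl | rfl | rfl | rfl | rfl | rfl | rfl | rfl
  · exact lift_fix_of_act fwd inv hfi hif o subW_0 subfix_0
  · exact lift_fix_of_act fwd inv hfi hif o subW_1 subfix_1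
  · exact lift_fix_of_act fwd inv hfi hif o subW_2 subfix_2
  · exact lift_fix_of_act fwd inv hfi hif o subW_3 subfix_3
  · exact lift_fix_of_act fwd inv hfi hif o subW_4 subfix_4
  · exact lift_fix_of_act fwd inv hfi hif o subW_5 subfix_5
  · exact lift_fix_of_act fwd inv hfi hif o subW_6 subfix_6
  · exact lift_fix_of_act fwd inv hfi hif o subW_7 subfix_7

theorem htree : ∀ p, p ≠ o → idx (parent fwd inv plet p) < idx p :=
  chkTree_sound fwd inv allPts o plet idx beqPt allPts_sound beqPt_sound tree_chk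

theorem hidx0 : idx o = 0 := rfl

theorem hchk : ∀ x p, orB (isSeed x p) (chkEntry rels S fwd inv o lvl plet idx beqPt leq x (cert x p) p) = true := by
  intro x p
  cases x
  · exact allPts_sound _ ent_chk_a p
  · exact allPts_sound _ ent_chk_b p
  · exact allPts_sound _ ent_chk_c p
  · exact allPts_sound _ ent_chk_d p
  · exact allPts_sound _ ent_chk_e p
  · exact allPts_sound _ ent_chk_f p
  · exact allPts_sound _ ent_chk_g p
  · exact allPts_sound _ ent_chk_h p
  · exact allPts_sound _ ent_chk_i p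

theorem hok : ∀ x p, EntryOK rels S fwd inv o plet idx x p :=
  entries_ok_seeded rels S fwd inv o hfi hif lvl plet idx beqPt leq beqPt_sound leq_sound
    htree hidx0 cert isSeed hchk hseed

theorem index_thm : (subH rels S).index = 14080 := by
  rw [index_of_ok rels S fwd inv o hfi hif plet idx htree hrel hS hok, card_Pt]

end Cfsg.Agent.Helper28.S1685
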