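import Cfsg.Agent.Lib.Helper28.S1685.Defs

set_option autoImplicit false
set_option maxRecDepth 100000
set_option linter.all false

namespace Cfsg.Agent.Helper28.S1685

open Cfsg.Agent.Helper28
open Cfsg.Spor.Fi22 (Gen)

noncomputable section

abbrev kd := Pt.mk
abbrev xd0 := D1.c0
abbrev xd1 := D1.c1
abbrev xd2 := D1.c2
abbrev xd3 := D1.c3
abbrev xd4 := D1.c4
abbrev xd5 := D1.c5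
abbrev xd6 := D1.c6
abbrev xd7 := D1.c7
abbrev xd8 := D1.c8
abbrev xd9 := D1.c9
abbrev xd10 := D1.c10
abbrev xd11 := D1.c11
abbrev xd12 := D1.c12
abbrev xd13 := D1.c13
abbrev xd14 := D1.c14
abbrev xd15 := D1.c15
abbrev xd16 := D1.c16
abbrev xd17 := D1.c17
abbrev xd18 := D1.c18
abbrev xd19 := D1.c19
abbrev yd0 := D2.c0
abbrev yd1 := D2.c1
abbrev yd2 := D2.c2
abbrev yd3 := D2.c3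
abbrev yd4 := D2.c4
abbrev yd5 := D2.c5
abbrev yd6 := D2.c6
abbrev yd7 := D2.c7
abbrev yd8 := D2.c8
abbrev yd9 := D2.c9
abbrev yd10 := D2.c10
abbrev yd11 := D2.c11
abbrev yd12 := D2.c12
abbrev yd13 := D2.c13
abbrev yd14 := D2.c14
abbrev yd15 := D2.c15
abbrev yd16 := D2.c16
abbrev yd17 := D2.c17
abbrev yd18 := D2.c18
abbrev yd19 := D2.c19
abbrev yd20 := D2.c20
abbrev yd21 := D2.c21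
abbrev zd0 := D3.c0
abbrev zd1 := D3.c1
abbrev zd2 := D3.c2
abbrev zd3 := D3.c3
abbrev zd4 := D3.c4
abbrev zd5 := D3.c5
abbrev zd6 := D3.c6
abbrev zd7 := D3.c7
abbrev zd8 := D3.c8
abbrev zd9 := D3.c9
abbrev zd10 := D3.c10
abbrev zd11 := D3.c11
abbrev zd12 := D3.c12
abbrev zd13 := D3.c13
abbrev zd14 := D3.c14
abbrev zd15 := D3.c15
abbrev zd16 := D3.c16
abbrev zd17 := D3.c17
abbrev zd18 := D3.c18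
abbrev zd19 := D3.c19
abbrev zd20 := D3.c20
abbrev zd21 := D3.c21
abbrev zd22 := D3.c22
abbrev zd23 := D3.c23
abbrev zd24 := D3.c24
abbrev zd25 := D3.c25
abbrev zd26 := D3.c26
abbrev zd27 := D3.c27
abbrev zd28 := D3.c28
abbrev zd29 := D3.c29
abbrev zd30 := D3.c30
abbrev zd31 := D3.c31
def f_d_0 : D2 → D3 → Pt := @D2.rec (fun _ => D3 → Pt) (@D3.rec (fun _ => Pt) (kd xd0 yd0 zd0) (kd xd0 yd0 zd1) (kd xd0 yd0 zd2) (kd xd0 yd0 zd4) (kd xd0 yd0 zd3) (kd xd0 yd0 zd5) (kd xd0 yd0 zd6) (kd xd0 yd0 zd7) (kd xd0 yd0 zd12) (kd xd0 yd0 zd9) (kd xd0 yd0 zd10) (kd xd0 yd0 zd15) (kd xd0 yd0 zd8) (kd xd0 yd0 zd18) (kd xd0 yd0 zd19) (kd xd0 yd0 zd11) (kd xd0 yd0 zd23) (kd xd0 yd0 zd17) (kd xd0 yd0 zd13) (kd xd0 yd0 zd14) (kd xd0 yd0 zd29) (kd xd0 yd0 zd21) (kd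 xd0 yd0 zd22) (kd xd0 yd0 zd16) (kd xd0 yd0 zd24) (kd xd0 yd0 zd25) (kd xd0 yd0 zd26) (kd xd0 yd0 zd27) (kd xd0 yd0 zd28) (kd xd0 yd0 zd20) (kd xd0 yd0 zd30) (kd xd0 yd1 zd15)) (@D3.rec (fun _ => Pt) (kd xd0 yd1 zd0) (kd xd0 yd1 zd1) (kd xd0 yd1 zd2) (kd xd0 yd1 zd3) (kd xd0 yd1 zd4) (kd xd0 yd1 zd21) (kd xd0 yd1 zd6) (kd xd0 yd1 zd25) (kd xd0 yd1 zd8) (kd xd0 yd1 zd9) (kd xd0 yd1 zd10) (kd xd0 yd1 zd11) (kd xd0 yd1 zd12) (kd xd0 yd2 zd1) (kd xd0 yd1 zd14) (kd xd0 yd0 zd31) (kd xd0 yd2 zd5) (kd xd0 yd2 zd7) (kd xd0 yd2 zd8) (kd xd0 yd1 zd19) (kd xd0 yd2 zd10) (kd xd0 yd1 zd5) (kd xd0 yd1 zd22) (kd xd0 yd2 zd14) (kd xd0 yd1 zd24) (kd xd0 yd1 zd7) (kd xd0 yd2 zd18) (kd xd0 yd2 zd20) (kd xd0 yd2 zd23) (kd xd0 yd1 zd29) (kd xd0 yd2 zd25) (kd xd0 yd2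 zd26)) (@D3.rec (fun _ => Pt) (kd xd0 yd2 zd0) (kd xd0 yd1 zd13) (kd xd0 yd2 zd31) (kd xd0 yd3 zd1) (kd xd0 yd2 zd4) (kd xd0 yd1 zd16) (kd xd0 yd3 zd4) (kd xd0 yd1 zd17) (kd xd0 yd1 zd18) (kd xd0 yd3 zd7) (kd xd0 yd1 zd20) (kd xd0 yd2 zd11) (kd xd0 yd3 zd11) (kd xd0 yd2 zd13) (kd xd0 yd1 zd23) (kd xd0 yd3 zd16) (kd xd0 yd3 zd18) (kd xd0 yd3 zd21) (kd xd0 yd1 zd26) (kd xd0 yd2 zd19) (kd xd0 yd1 zd27) (kd xd0 yd3 zd24) (kd xd0 yd3 zd28) (kd xd0 yd1 zd28) (kd xd0 yd3 zd30) (kd xd0 yd1 zd30) (kd xd0 yd1 zd31) (kd xd0 yd4 zd0) (kd xd0 yd4 zd2) (kd xd0 yd2 zd29) (kd xd0 yd2 zd30) (kd xd0 yd2 zd2)) (@D3.rec (fun _ => Pt) (kd xd0 yd4 zd6) (kd xd0 yd2 zd3) (kd xd0 yd3 zd2) (kd xd0 yd4 zd10) (kd xd0 yd2 zd6) (kd xd0 yd4 zd12) (kd xd0 yd4 zd11) (kd xd0 yd2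 zd9) (kd xd0 yd3 zd8) (kd xd0 yd3 zd9) (kd xd0 yd3 zd10) (kd xd0 yd2 zd12) (kd xd0 yd4 zd17) (kd xd0 yd4 zd18) (kd xd0 yd4 zd21) (kd xd0 yd3 zd15) (kd xd0 yd2 zd15) (kd xd0 yd3 zd17) (kd xd0 yd2 zd16) (kd xd0 yd4 zd26) (kd xd0 yd4 zd30) (kd xd0 yd2 zd17) (kd xd0 yd3 zd22) (kd xd0 yd3 zd23) (kd xd0 yd2 zd21) (kd xd0 yd3 zd25) (kd xd0 yd5 zd6) (kd xd0 yd5 zd7) (kd xd0 yd2 zd22) (kd xd0 yd5 zd9) (kd xd0 yd2 zd24) (kd xd0 yd5 zd8)) (@D3.rec (fun _ => Pt) (kd xd0 yd2 zd27) (kd xd0 yd5 zd15) (kd xd0 yd2 zd28) (kd xd0 yd4 zd3) (kd xd0 yd4 zd4) (kd xd0 yd5 zd19) (kd xd0 yd3 zd0) (kd xd0 yd4 zd7) (kd xd0 yd5 zd21) (kd xd0 yd5 zd24) (kd xd0 yd3 zd3) (kd xd0 yd3 zd6) (kd xd0 yd3 zd5) (kd xd0 yd5 zd29) (kd xd0 yd5 zd27) (kd xd0 yd4 zd15) (kd xd0 yd4 zd16)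 (kd xd0 yd3 zd12) (kd xd0 yd3 zd13) (kd xd0 yd6 zd2) (kd xd0 yd6 zd5) (kd xd0 yd3 zd14) (kd xd0 yd4 zd22) (kd xd0 yd4 zd23) (kd xd0 yd4 zd24) (kd xd0 yd4 zd25) (kd xd0 yd3 zd19) (kd xd0 yd4 zd27) (kd xd0 yd6 zd15) (kd xd0 yd6 zd16) (kd xd0 yd3 zd20) (kd xd0 yd4 zd31)) (@D3.rec (fun _ => Pt) (kd xd0 yd6 zd18) (kd xd0 yd6 zd21) (kd xd0 yd5 zd2) (kd xd0 yd5 zd3) (kd xd0 yd6 zd25) (kd xd0 yd6 zd26) (kd xd0 yd3 zd26) (kd xd0 yd3 zd27) (kd xd0 yd3 zd31) (kd xd0 yd3 zd29) (kd xd0 yd7 zd1) (kd xd0 yd6 zd29) (kd xd0 yd5 zd12) (kd xd0 yd6 zd31) (kd xd0 yd7 zd6) (kd xd0 yd4 zd1) (kd xd0 yd7 zd8) (kd xd0 yd7 zd9) (kd xd0 yd7 zd10) (kd xd0 yd4 zd5) (kd xd0 yd5 zd20) (kd xd0 yd4 zd8) (kd xd0 yd7 zd16) (kd xd0 yd7 zd15) (kd xd0 yd4 zd9) (kd xd0 yd5 zd25) (kd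 xd0 yd5 zd26) (kd xd0 yd4 zd14) (kd xd0 yd5 zd28) (kd xd0 yd4 zd13) (kd xd0 yd7 zd26) (kd xd0 yd7 zd23)) (@D3.rec (fun _ => Pt) (kd xd0 yd6 zd0) (kd xd0 yd6 zd1) (kd xd0 yd4 zd19) (kd xd0 yd7 zd29) (kd xd0 yd7 zd30) (kd xd0 yd4 zd20) (kd xd0 yd8 zd0) (kd xd0 yd8 zd2) (kd xd0 yd6 zd8) (kd xd0 yd8 zd5) (kd xd0 yd8 zd6) (kd xd0 yd6 zd11) (kd xd0 yd6 zd12) (kd xd0 yd8 zd10) (kd xd0 yd8 zd11) (kd xd0 yd4 zd28) (kd xd0 yd4 zd29) (kd xd0 yd6 zd17) (kd xd0 yd5 zd0) (kd xd0 yd8 zd19) (kd xd0 yd8 zd18) (kd xd0 yd5 zd1) (kd xd0 yd8 zd23) (kd xd0 yd8 zd25) (kd xd0 yd8 zd26) (kd xd0 yd5 zd4) (kd xd0 yd5 zd5) (kd xd0 yd6 zd27) (kd xd0 yd6 zd28) (kd xd0 yd5 zd11) (kd xd0 yd6 zd30) (kd xd0 yd5 zd13)) (@D3.rec (fun _ => Pt) (kd xd0 yd7 zd0) (kd xd0 yd5 zd10) (kd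 xd0 yd9 zd8) (kd xd0 yd9 zd2) (kd xd0 yd9 zd11) (kd xd0 yd9 zd5) (kd xd0 yd5 zd14) (kd xd0 yd7 zd7) (kd xd0 yd5 zd16) (kd xd0 yd5 zd17) (kd xd0 yd5 zd18) (kd xd0 yd9 zd16) (kd xd0 yd7 zd12) (kd xd0 yd7 zd13) (kd xd0 yd9 zd25) (kd xd0 yd5 zd23) (kd xd0 yd5 zd22) (kd xd0 yd9 zd27) (kd xd0 yd7 zd18) (kd xd0 yd7 zd19) (kd xd0 yd7 zd20) (kd xd0 yd10 zd2) (kd xd0 yd7 zd22) (kd xd0 yd5 zd31) (kd xd0 yd7 zd24) (kd xd0 yd7 zd25) (kd xd0 yd5 zd30) (kd xd0 yd7 zd27) (kd xd0 yd10 zd9) (kd xd0 yd6 zd3) (kd xd0 yd6 zd4) (kd xd0 yd7 zd31)) (@D3.rec (fun _ => Pt) (kd xd0 yd6 zd6) (kd xd0 yd10 zd16) (kd xd0 yd6 zd7) (kd xd0 yd10 zd17) (kd xd0 yd10 zd19) (kd xd0 yd6 zd9) (kd xd0 yd6 zd10) (kd xd0 yd10 zd22) (kd xd0 yd10 zd24) (kd xd0 yd10 zd25) (kd xd0 yd6 zd13)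 (kd xd0 yd6 zd14) (kd xd0 yd10 zd20) (kd xd0 yd8 zd13) (kd xd0 yd8 zd14) (kd xd0 yd8 zd15) (kd xd0 yd8 zd16) (kd xd0 yd11 zd6) (kd xd0 yd6 zd20) (kd xd0 yd6 zd19) (kd xd0 yd11 zd9) (kd xd0 yd11 zd8) (kd xd0 yd8 zd22) (kd xd0 yd6 zd22) (kd xd0 yd11 zd13) (kd xd0 yd6 zd23) (kd xd0 yd6 zd24) (kd xd0 yd8 zd27) (kd xd0 yd11 zd15) (kd xd0 yd8 zd29) (kd xd0 yd8 zd30) (kd xd0 yd8 zd31)) (@D3.rec (fun _ => Pt) (kd xd0 yd11 zd26) (kd xd0 yd9 zd1) (kd xd0 yd7 zd3) (kd xd0 yd11 zd31) (kd xd0 yd9 zd4) (kd xd0 yd7 zd5) (kd xd0 yd9 zd6) (kd xd0 yd9 zd7) (kd xd0 yd7 zd2) (kd xd0 yd11 zd29) (kd xd0 yd12 zd6) (kd xd0 yd7 zd4) (kd xd0 yd9 zd18) (kd xd0 yd9 zd13) (kd xd0 yd9 zd14) (kd xd0 yd9 zd26) (kd xd0 yd7 zd11) (kd xd0 yd9 zd17) (kd xd0 yd9 zd12) (kd xd0 yd9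 zd19) (kd xd0 yd12 zd12) (kd xd0 yd12 zd20) (kd xd0 yd9 zd22) (kd xd0 yd9 zd23) (kd xd0 yd12 zd24) (kd xd0 yd7 zd14) (kd xd0 yd9 zd15) (kd xd0 yd7 zd17) (kd xd0 yd9 zd28) (kd xd0 yd9 zd29) (kd xd0 yd12 zd30) (kd xd0 yd9 zd31)) (@D3.rec (fun _ => Pt) (kd xd0 yd10 zd0) (kd xd0 yd13 zd2) (kd xd0 yd7 zd21) (kd xd0 yd13 zd4) (kd xd0 yd10 zd4) (kd xd0 yd10 zd5) (kd xd0 yd10 zd6) (kd xd0 yd10 zd7) (kd xd0 yd13 zd8) (kd xd0 yd7 zd28) (kd xd0 yd10 zd28) (kd xd0 yd10 zd11) (kd xd0 yd10 zd12) (kd xd0 yd10 zd13) (kd xd0 yd10 zd14) (kd xd0 yd12 zd27) (kd xd0 yd8 zd1) (kd xd0 yd8 zd3) (kd xd0 yd13 zd21) (kd xd0 yd8 zd4) (kd xd0 yd8 zd12) (kd xd0 yd10 zd21) (kd xd0 yd8 zd7) (kd xd0 yd13 zd28) (kd xd0 yd8 zd8) (kd xd0 yd8 zd9) (kd xd0 yd13 zd22) (kd xd0 yd13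 zd30) (kd xd0 yd10 zd10) (kd xd0 yd10 zd29) (kd xd0 yd13 zd24) (kd xd0 yd14 zd9)) (@D3.rec (fun _ => Pt) (kd xd0 yd11 zd0) (kd xd0 yd11 zd1) (kd xd0 yd14 zd14) (kd xd0 yd11 zd3) (kd xd0 yd11 zd4) (kd xd0 yd14 zd18) (kd xd0 yd8 zd17) (kd xd0 yd14 zd20) (kd xd0 yd8 zd21) (kd xd0 yd8 zd20) (kd xd0 yd11 zd10) (kd xd0 yd11 zd11) (kd xd0 yd14 zd27) (kd xd0 yd8 zd24) (kd xd0 yd11 zd14) (kd xd0 yd8 zd28) (kd xd0 yd11 zd16) (kd xd0 yd14 zd29) (kd xd0 yd11 zd18) (kd xd0 yd15 zd6) (kd xd0 yd15 zd0) (kd xd0 yd11 zd21) (kd xd0 yd15 zd11) (kd xd0 yd11 zd23) (kd xd0 yd11 zd24) (kd xd0 yd15 zd15) (kd xd0 yd9 zd0) (kd xd0 yd15 zd17) (kd xd0 yd11 zd28) (kd xd0 yd9 zd9) (kd xd0 yd15 zd20) (kd xd0 yd9 zd3)) (@D3.rec (fun _ => Pt) (kd xd0 yd15 zd22) (kd xd0 yd12 zd1)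 (kd xd0 yd12 zd2) (kd xd0 yd12 zd3) (kd xd0 yd12 zd4) (kd xd0 yd15 zd27) (kd xd0 yd9 zd10) (kd xd0 yd12 zd7) (kd xd0 yd12 zd15) (kd xd0 yd16 zd1) (kd xd0 yd12 zd10) (kd xd0 yd12 zd25) (kd xd0 yd9 zd20) (kd xd0 yd16 zd5) (kd xd0 yd12 zd14) (kd xd0 yd12 zd8) (kd xd0 yd16 zd9) (kd xd0 yd12 zd17) (kd xd0 yd16 zd3) (kd xd0 yd16 zd13) (kd xd0 yd9 zd21) (kd xd0 yd16 zd15) (kd xd0 yd12 zd22) (kd xd0 yd16 zd18) (kd xd0 yd9 zd24) (kd xd0 yd12 zd11) (kd xd0 yd16 zd16) (kd xd0 yd10 zd15) (kd xd0 yd12 zd28) (kd xd0 yd16 zd23) (kd xd0 yd9 zd30) (kd xd0 yd16 zd25)) (@D3.rec (fun _ => Pt) (kd xd0 yd13 zd0) (kd xd0 yd16 zd28) (kd xd0 yd10 zd1) (kd xd0 yd16 zd31) (kd xd0 yd10 zd3) (kd xd0 yd17 zd2) (kd xd0 yd13 zd6) (kd xd0 yd13 zd7) (kd xd0 yd10 zd8) (kd xd0 yd13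 zd31) (kd xd0 yd17 zd5) (kd xd0 yd14 zd4) (kd xd0 yd17 zd11) (kd xd0 yd13 zd13) (kd xd0 yd13 zd14) (kd xd0 yd17 zd15) (kd xd0 yd13 zd16) (kd xd0 yd13 zd17) (kd xd0 yd16 zd21) (kd xd0 yd14 zd22) (kd xd0 yd17 zd19) (kd xd0 yd10 zd18) (kd xd0 yd10 zd26) (kd xd0 yd17 zd21) (kd xd0 yd10 zd30) (kd xd0 yd17 zd27) (kd xd0 yd13 zd26) (kd xd0 yd17 zd30) (kd xd0 yd10 zd23) (kd xd0 yd17 zd20) (kd xd0 yd10 zd27) (kd xd0 yd13 zd9)) (@D3.rec (fun _ => Pt) (kd xd0 yd18 zd0) (kd xd0 yd17 zd22) (kd xd0 yd18 zd9) (kd xd0 yd18 zd3) (kd xd0 yd13 zd11) (kd xd0 yd18 zd14) (kd xd0 yd14 zd6) (kd xd0 yd17 zd25) (kd xd0 yd18 zd18) (kd xd0 yd10 zd31) (kd xd0 yd18 zd20) (kd xd0 yd14 zd11) (kd xd0 yd14 zd12) (kd xd0 yd18 zd24) (kd xd0 yd11 zd2) (kd xd0 yd18 zd26) (kd xd0 yd14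 zd16) (kd xd0 yd18 zd29) (kd xd0 yd11 zd5) (kd xd0 yd18 zd31) (kd xd0 yd11 zd7) (kd xd0 yd18 zd21) (kd xd0 yd13 zd19) (kd xd0 yd14 zd23) (kd xd0 yd14 zd24) (kd xd0 yd14 zd25) (kd xd0 yd19 zd6) (kd xd0 yd11 zd12) (kd xd0 yd14 zd28) (kd xd0 yd11 zd17) (kd xd0 yd14 zd30) (kd xd0 yd19 zd14)) (@D3.rec (fun _ => Pt) (kd xd0 yd11 zd20) (kd xd0 yd15 zd1) (kd xd0 yd19 zd19) (kd xd0 yd19 zd11) (kd xd0 yd15 zd4) (kd xd0 yd19 zd23) (kd xd0 yd11 zd19) (kd xd0 yd19 zd25) (kd xd0 yd19 zd16) (kd xd0 yd15 zd9) (kd xd0 yd19 zd29) (kd xd0 yd11 zd22) (kd xd0 yd19 zd31) (kd xd0 yd15 zd13) (kd xd0 yd20 zd2) (kd xd0 yd11 zd25) (kd xd0 yd20 zd5) (kd xd0 yd11 zd27) (kd xd0 yd20 zd8) (kd xd0 yd20 zd9) (kd xd0 yd11 zd30) (kd xd0 yd20 zd12) (kd xd0 yd12 zd0) (kd xd0 yd19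 zd26) (kd xd0 yd20 zd15) (kd xd0 yd15 zd25) (kd xd0 yd15 zd26) (kd xd0 yd12 zd5) (kd xd0 yd15 zd28) (kd xd0 yd15 zd29) (kd xd0 yd15 zd30) (kd xd0 yd16 zd7)) (@D3.rec (fun _ => Pt) (kd xd0 yd20 zd24) (kd xd0 yd12 zd9) (kd xd0 yd16 zd19) (kd xd0 yd12 zd18) (kd xd0 yd20 zd26) (kd xd0 yd12 zd13) (kd xd0 yd20 zd28) (kd xd0 yd15 zd31) (kd xd0 yd20 zd31) (kd xd0 yd12 zd16) (kd xd0 yd21 zd1) (kd xd0 yd16 zd11) (kd xd0 yd21 zd4) (kd xd0 yd12 zd19) (kd xd0 yd21 zd7) (kd xd0 yd12 zd21) (kd xd0 yd12 zd26) (kd xd0 yd21 zd10) (kd xd0 yd12 zd23) (kd xd0 yd16 zd2) (kd xd0 yd21 zd8) (kd xd0 yd13 zd18) (kd xd0 yd21 zd13) (kd xd0 yd12 zd29) (kd xd0 yd21 zd16) (kd xd0 yd12 zd31) (kd xd0 yd16 zd26) (kd xd0 yd21 zd20) (kd xd0 yd13 zd1) (kd xd0 yd21 zd23) (kd xd0 yd21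 zd6) (kd xd0 yd13 zd3)) (@D3.rec (fun _ => Pt) (kd xd0 yd21 zd27) (kd xd0 yd17 zd1) (kd xd0 yd13 zd5) (kd xd0 yd17 zd3) (kd xd0 yd17 zd31) (kd xd0 yd13 zd10) (kd xd0 yd18 zd4) (kd xd1 yd0 zd2) (kd xd0 yd21 zd31) (kd xd0 yd18 zd12) (kd xd1 yd0 zd5) (kd xd0 yd13 zd12) (kd xd1 yd0 zd7) (kd xd0 yd17 zd13) (kd xd1 yd0 zd9) (kd xd0 yd13 zd15) (kd xd1 yd0 zd11) (kd xd0 yd21 zd12) (kd xd0 yd19 zd1) (kd xd0 yd13 zd20) (kd xd0 yd13 zd29) (kd xd0 yd13 zd23) (kd xd0 yd14 zd1) (kd xd1 yd0 zd21) (kd xd1 yd0 zd18) (kd xd0 yd14 zd7) (kd xd1 yd0 zd25) (kd xd0 yd13 zd25) (kd xd1 yd0 zd27) (kd xd0 yd17 zd29) (kd xd0 yd13 zd27) (kd xd0 yd17 zd4)) (@D3.rec (fun _ => Pt) (kd xd0 yd14 zd0) (kd xd1 yd0 zd16) (kd xd1 yd1 zd5) (kd xd0 yd14 zd3) (kd xd0 yd17 zd6) (kd xd1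 yd1 zd10) (kd xd1 yd1 zd2) (kd xd1 yd0 zd19) (kd xd1 yd1 zd14) (kd xd0 yd14 zd2) (kd xd1 yd1 zd16) (kd xd1 yd1 zd7) (kd xd0 yd17 zd9) (kd xd1 yd1 zd20) (kd xd0 yd14 zd5) (kd xd1 yd1 zd22) (kd xd0 yd18 zd16) (kd xd1 yd1 zd25) (kd xd0 yd14 zd8) (kd xd1 yd1 zd28) (kd xd0 yd14 zd10) (kd xd0 yd14 zd21) (kd xd1 yd2 zd0) (kd xd1 yd2 zd3) (kd xd0 yd14 zd13) (kd xd1 yd2 zd6) (kd xd0 yd14 zd15) (kd xd1 yd1 zd17) (kd xd1 yd2 zd10) (kd xd0 yd14 zd17) (kd xd1 yd2 zd13) (kd xd0 yd14 zd19)) (@D3.rec (fun _ => Pt) (kd xd1 yd1 zd29) (kd xd0 yd17 zd18) (kd xd1 yd2 zd9) (kd xd1 yd2 zd1) (kd xd1 yd2 zd2) (kd xd1 yd2 zd20) (kd xd0 yd14 zd26) (kd xd1 yd2 zd21) (kd xd0 yd19 zd8) (kd xd0 yd19 zd9) (kd xd1 yd2 zd28) (kd xd0 yd15 zd3) (kd xd0 yd19 zd12) (kd xd1 yd3 zd0)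 (kd xd0 yd14 zd31) (kd xd1 yd3 zd2) (kd xd0 yd15 zd8) (kd xd0 yd19 zd17) (kd xd1 yd3 zd6) (kd xd0 yd15 zd2) (kd xd1 yd3 zd8) (kd xd1 yd2 zd30) (kd xd1 yd3 zd11) (kd xd0 yd15 zd5) (kd xd1 yd3 zd14) (kd xd0 yd15 zd7) (kd xd0 yd15 zd23) (kd xd1 yd3 zd18) (kd xd1 yd3 zd21) (kd xd0 yd15 zd10) (kd xd1 yd3 zd24) (kd xd0 yd15 zd12)) (@D3.rec (fun _ => Pt) (kd xd0 yd20 zd0) (kd xd1 yd3 zd28) (kd xd0 yd15 zd14) (kd xd1 yd3 zd31) (kd xd1 yd1 zd27) (kd xd0 yd15 zd16) (kd xd1 yd4 zd3) (kd xd1 yd3 zd17) (kd xd0 yd15 zd18) (kd xd0 yd15 zd19) (kd xd1 yd4 zd6) (kd xd1 yd2 zd5) (kd xd0 yd15 zd21) (kd xd1 yd3 zd15) (kd xd1 yd4 zd11) (kd xd0 yd15 zd24) (kd xd1 yd3 zd19) (kd xd1 yd3 zd20) (kd xd0 yd20 zd18) (kd xd0 yd20 zd19) (kd xd0 yd20 zd20) (kd xd1 yd4 zd19) (kd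 xd0 yd20 zd22) (kd xd1 yd4 zd21) (kd xd0 yd16 zd0) (kd xd1 yd4 zd23) (kd xd0 yd16 zd4) (kd xd1 yd4 zd26) (kd xd0 yd16 zd6) (kd xd0 yd20 zd29) (kd xd1 yd4 zd30) (kd xd0 yd16 zd8)) (@D3.rec (fun _ => Pt) (kd xd1 yd5 zd1) (kd xd0 yd16 zd10) (kd xd0 yd21 zd2) (kd xd1 yd5 zd4) (kd xd0 yd16 zd12) (kd xd1 yd5 zd6) (kd xd0 yd16 zd30) (kd xd0 yd16 zd14) (kd xd0 yd16 zd20) (kd xd1 yd5 zd11) (kd xd0 yd16 zd17) (kd xd1 yd5 zd7) (kd xd0 yd17 zd17) (kd xd0 yd16 zd22) (kd xd1 yd5 zd13) (kd xd1 yd5 zd0) (kd xd0 yd16 zd24) (kd xd0 yd21 zd17) (kd xd1 yd5 zd19) (kd xd0 yd21 zd19) (kd xd0 yd16 zd27) (kd xd0 yd21 zd21) (kd xd1 yd5 zd5) (kd xd0 yd16 zd29) (kd xd1 yd5 zd27) (kd xd1 yd5 zd9) (kd xd0 yd21 zd26) (kd xd0 yd17 zd0) (kd xd0 yd21 zd28) (kd xd1 yd1 zd0) (kd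 xd1 yd6 zd2) (kd xd0 yd17 zd8))
def f_d_1 : D2 → D3 → Pt := @D2.rec (fun _ => D3 → Pt) (@D3.rec (fun _ => Pt) (kd xd1 yd1 zd8) (kd xd1 yd6 zd5) (kd xd0 yd17 zd7) (kd xd1 yd6 zd7) (kd xd1 yd6 zd9) (kd xd0 yd17 zd10) (kd xd1 yd6 zd12) (kd xd0 yd17 zd12) (kd xd1 yd6 zd14) (kd xd0 yd17 zd14) (kd xd1 yd6 zd17) (kd xd0 yd17 zd16) (kd xd1 yd6 zd8) (kd xd1 yd2 zd15) (kd xd1 yd0 zd14) (kd xd1 yd0 zd15) (kd xd0 yd18 zd1) (kd xd1 yd6 zd26) (kd xd0 yd17 zd24) (kd xd0 yd18 zd7) (kd xd1 yd6 zd30) (kd xd0 yd17 zd23) (kd xd1 yd7 zd0) (kd xd1 yd6 zd28) (kd xd1 yd7 zd3) (kd xd0 yd17 zd26) (kd xd1 yd7 zd6) (kd xd0 yd17 zd28) (kd xd1 yd0 zd28) (kd xd1 yd7 zd10) (kd xd1 yd0 zd30) (kd xd1 yd0 zd31)) (@D3.rec (fun _ => Pt) (kd xd0 yd21 zd29) (kd xd1 yd7 zd18) (kd xd0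 yd18 zd6) (kd xd1 yd6 zd24) (kd xd1 yd7 zd22) (kd xd0 yd18 zd2) (kd xd1 yd7 zd24) (kd xd0 yd18 zd11) (kd xd1 yd0 zd0) (kd xd1 yd7 zd28) (kd xd0 yd18 zd5) (kd xd1 yd7 zd30) (kd xd1 yd7 zd20) (kd xd1 yd8 zd1) (kd xd0 yd18 zd8) (kd xd1 yd8 zd4) (kd xd0 yd18 zd10) (kd xd0 yd18 zd27) (kd xd1 yd8 zd8) (kd xd1 yd8 zd11) (kd xd0 yd18 zd13) (kd xd1 yd8 zd14) (kd xd0 yd18 zd15) (kd xd1 yd1 zd23) (kd xd1 yd8 zd18) (kd xd0 yd18 zd17) (kd xd1 yd8 zd22) (kd xd0 yd20 zd4) (kd xd0 yd18 zd19) (kd xd0 yd19 zd0) (kd xd1 yd8 zd28) (kd xd1 yd8 zd7)) (@D3.rec (fun _ => Pt) (kd xd0 yd18 zd22) (kd xd0 yd19 zd3) (kd xd0 yd19 zd4) (kd xd0 yd18 zd23) (kd xd1 yd9 zd2) (kd xd0 yd20 zd11) (kd xd0 yd18 zd25) (kd xd1 yd8 zd5) (kd xd1 yd9 zd8) (kd xd0 yd19 zd2) (kd xd0 yd18 zd28)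 (kd xd1 yd8 zd9) (kd xd1 yd8 zd10) (kd xd0 yd18 zd30) (kd xd1 yd8 zd23) (kd xd1 yd0 zd13) (kd xd1 yd9 zd7) (kd xd1 yd8 zd29) (kd xd1 yd8 zd30) (kd xd1 yd9 zd18) (kd xd0 yd19 zd5) (kd xd0 yd19 zd7) (kd xd1 yd2 zd22) (kd xd1 yd9 zd20) (kd xd1 yd9 zd25) (kd xd1 yd2 zd25) (kd xd1 yd2 zd26) (kd xd1 yd9 zd29) (kd xd0 yd19 zd10) (kd xd1 yd9 zd31) (kd xd0 yd19 zd21) (kd xd1 yd10 zd2)) (@D3.rec (fun _ => Pt) (kd xd0 yd19 zd13) (kd xd1 yd10 zd5) (kd xd0 yd19 zd15) (kd xd1 yd3 zd3) (kd xd1 yd10 zd9) (kd xd1 yd10 zd12) (kd xd0 yd19 zd18) (kd xd1 yd10 zd15) (kd xd0 yd19 zd20) (kd xd1 yd3 zd9) (kd xd1 yd10 zd19) (kd xd0 yd19 zd22) (kd xd1 yd10 zd23) (kd xd1 yd8 zd3) (kd xd0 yd19 zd24) (kd xd0 yd20 zd13) (kd xd1 yd10 zd29) (kd xd0 yd20 zd7) (kd xd0 yd19 zd27)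 (kd xd0 yd20 zd16) (kd xd0 yd20 zd17) (kd xd0 yd19 zd28) (kd xd1 yd11 zd5) (kd xd1 yd8 zd13) (kd xd0 yd19 zd30) (kd xd1 yd3 zd25) (kd xd1 yd11 zd11) (kd xd1 yd10 zd18) (kd xd0 yd20 zd1) (kd xd1 yd3 zd29) (kd xd1 yd8 zd21) (kd xd0 yd20 zd3)) (@D3.rec (fun _ => Pt) (kd xd1 yd11 zd19) (kd xd1 yd8 zd25) (kd xd1 yd10 zd28) (kd xd0 yd20 zd6) (kd xd1 yd11 zd0) (kd xd1 yd9 zd1) (kd xd0 yd20 zd10) (kd xd1 yd10 zd24) (kd xd1 yd11 zd27) (kd xd1 yd9 zd5) (kd xd1 yd12 zd0) (kd xd0 yd20 zd14) (kd xd1 yd10 zd30) (kd xd1 yd10 zd31) (kd xd1 yd11 zd2) (kd xd1 yd11 zd3) (kd xd1 yd4 zd16) (kd xd1 yd12 zd6) (kd xd1 yd4 zd18) (kd xd0 yd20 zd21) (kd xd1 yd12 zd9) (kd xd0 yd20 zd23) (kd xd1 yd4 zd22) (kd xd0 yd20 zd25) (kd xd1 yd12 zd12) (kd xd1 yd4 zd25) (kd xd0 yd20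 zd27) (kd xd1 yd4 zd27) (kd xd1 yd4 zd28) (kd xd1 yd4 zd29) (kd xd0 yd20 zd30) (kd xd1 yd12 zd19)) (@D3.rec (fun _ => Pt) (kd xd0 yd21 zd15) (kd xd0 yd21 zd0) (kd xd1 yd5 zd2) (kd xd1 yd12 zd24) (kd xd0 yd21 zd3) (kd xd0 yd21 zd22) (kd xd0 yd21 zd5) (kd xd0 yd21 zd11) (kd xd1 yd12 zd28) (kd xd0 yd21 zd25) (kd xd1 yd5 zd10) (kd xd0 yd21 zd9) (kd xd1 yd12 zd18) (kd xd0 yd21 zd14) (kd xd1 yd5 zd14) (kd xd1 yd13 zd2) (kd xd1 yd12 zd22) (kd xd1 yd13 zd7) (kd xd1 yd5 zd18) (kd xd0 yd21 zd18) (kd xd1 yd5 zd20) (kd xd1 yd5 zd21) (kd xd1 yd13 zd13) (kd xd1 yd5 zd23) (kd xd1 yd12 zd25) (kd xd1 yd12 zd26) (kd xd1 yd5 zd26) (kd xd0 yd21 zd24) (kd xd1 yd13 zd18) (kd xd1 yd12 zd29) (kd xd1 yd5 zd30) (kd xd1 yd5 zd31)) (@D3.rec (fun _ => Pt) (kd xd1 yd7 zd16)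 (kd xd1 yd13 zd22) (kd xd0 yd21 zd30) (kd xd1 yd13 zd24) (kd xd1 yd13 zd26) (kd xd1 yd0 zd1) (kd xd1 yd13 zd29) (kd xd1 yd0 zd3) (kd xd1 yd0 zd12) (kd xd1 yd0 zd4) (kd xd1 yd14 zd3) (kd xd1 yd6 zd11) (kd xd1 yd0 zd6) (kd xd1 yd13 zd31) (kd xd1 yd0 zd8) (kd xd1 yd14 zd7) (kd xd1 yd6 zd16) (kd xd1 yd0 zd10) (kd xd1 yd13 zd30) (kd xd1 yd14 zd0) (kd xd1 yd14 zd1) (kd xd1 yd6 zd21) (kd xd1 yd14 zd16) (kd xd1 yd6 zd23) (kd xd1 yd1 zd3) (kd xd1 yd14 zd20) (kd xd1 yd0 zd17) (kd xd1 yd14 zd22) (kd xd1 yd0 zd23) (kd xd1 yd14 zd25) (kd xd1 yd0 zd20) (kd xd1 yd14 zd28)) (@D3.rec (fun _ => Pt) (kd xd1 yd0 zd22) (kd xd1 yd7 zd1) (kd xd1 yd15 zd0) (kd xd1 yd0 zd24) (kd xd1 yd15 zd4) (kd xd1 yd7 zd5) (kd xd1 yd0 zd26) (kd xd1 yd7 zd7) (kd xd1 yd15 zd10) (kd xd1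 yd14 zd31) (kd xd1 yd0 zd29) (kd xd1 yd7 zd11) (kd xd1 yd7 zd12) (kd xd1 yd7 zd13) (kd xd1 yd15 zd19) (kd xd1 yd7 zd15) (kd xd1 yd6 zd0) (kd xd1 yd15 zd23) (kd xd1 yd1 zd1) (kd xd1 yd15 zd25) (kd xd1 yd1 zd12) (kd xd1 yd15 zd28) (kd xd1 yd1 zd4) (kd xd1 yd15 zd31) (kd xd1 yd1 zd6) (kd xd1 yd7 zd25) (kd xd1 yd16 zd3) (kd xd1 yd16 zd6) (kd xd1 yd1 zd9) (kd xd1 yd16 zd9) (kd xd1 yd1 zd11) (kd xd1 yd7 zd31)) (@D3.rec (fun _ => Pt) (kd xd1 yd16 zd13) (kd xd1 yd1 zd13) (kd xd1 yd16 zd17) (kd xd1 yd3 zd13) (kd xd1 yd1 zd15) (kd xd1 yd2 zd7) (kd xd1 yd16 zd23) (kd xd1 yd1 zd31) (kd xd1 yd1 zd18) (kd xd1 yd2 zd11) (kd xd1 yd2 zd12) (kd xd1 yd1 zd19) (kd xd1 yd16 zd31) (kd xd1 yd3 zd23) (kd xd1 yd1 zd21) (kd xd1 yd8 zd15) (kd xd1 yd17 zd5) (kd xd1 yd16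 zd12) (kd xd1 yd1 zd24) (kd xd1 yd8 zd19) (kd xd1 yd8 zd20) (kd xd1 yd3 zd30) (kd xd1 yd1 zd26) (kd xd1 yd2 zd14) (kd xd1 yd17 zd14) (kd xd1 yd4 zd1) (kd xd1 yd8 zd26) (kd xd1 yd16 zd22) (kd xd1 yd1 zd30) (kd xd1 yd2 zd17) (kd xd1 yd2 zd18) (kd xd1 yd16 zd26)) (@D3.rec (fun _ => Pt) (kd xd1 yd17 zd23) (kd xd1 yd4 zd5) (kd xd1 yd2 zd4) (kd xd1 yd16 zd18) (kd xd1 yd17 zd28) (kd xd1 yd4 zd9) (kd xd1 yd18 zd2) (kd xd1 yd2 zd16) (kd xd1 yd2 zd8) (kd xd1 yd16 zd24) (kd xd1 yd16 zd25) (kd xd1 yd18 zd7) (kd xd1 yd16 zd28) (kd xd1 yd16 zd29) (kd xd1 yd17 zd27) (kd xd1 yd17 zd15) (kd xd1 yd17 zd16) (kd xd1 yd18 zd11) (kd xd1 yd2 zd19) (kd xd1 yd18 zd12) (kd xd1 yd2 zd23) (kd xd1 yd18 zd16) (kd xd1 yd9 zd22) (kd xd1 yd18 zd14) (kd xd1 yd18 zd20) (kd xd1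 yd2 zd24) (kd xd1 yd18 zd22) (kd xd1 yd9 zd27) (kd xd1 yd18 zd25) (kd xd1 yd2 zd27) (kd xd1 yd18 zd28) (kd xd1 yd2 zd29)) (@D3.rec (fun _ => Pt) (kd xd1 yd18 zd23) (kd xd1 yd19 zd0) (kd xd1 yd2 zd31) (kd xd1 yd19 zd4) (kd xd1 yd15 zd30) (kd xd1 yd3 zd1) (kd xd1 yd10 zd6) (kd xd1 yd19 zd10) (kd xd1 yd10 zd8) (kd xd1 yd3 zd4) (kd xd1 yd10 zd10) (kd xd1 yd10 zd11) (kd xd1 yd3 zd5) (kd xd1 yd19 zd18) (kd xd1 yd16 zd8) (kd xd1 yd3 zd7) (kd xd1 yd10 zd16) (kd xd1 yd19 zd24) (kd xd1 yd3 zd27) (kd xd1 yd3 zd10) (kd xd1 yd10 zd20) (kd xd1 yd10 zd21) (kd xd1 yd16 zd16) (kd xd1 yd3 zd12) (kd xd1 yd4 zd7) (kd xd1 yd19 zd31) (kd xd1 yd16 zd20) (kd xd1 yd20 zd5) (kd xd1 yd4 zd2) (kd xd1 yd3 zd16) (kd xd1 yd4 zd12) (kd xd1 yd4 zd13)) (@D3.rec (fun _ => Pt) (kd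 xd1 yd4 zd4) (kd xd1 yd11 zd1) (kd xd1 yd4 zd14) (kd xd1 yd4 zd15) (kd xd1 yd16 zd30) (kd xd1 yd3 zd22) (kd xd1 yd11 zd6) (kd xd1 yd20 zd15) (kd xd1 yd17 zd2) (kd xd1 yd20 zd20) (kd xd1 yd19 zd23) (kd xd1 yd3 zd26) (kd xd1 yd11 zd12) (kd xd1 yd19 zd1) (kd xd1 yd18 zd24) (kd xd1 yd11 zd15) (kd xd1 yd17 zd10) (kd xd1 yd17 zd11) (kd xd1 yd19 zd30) (kd xd1 yd4 zd0) (kd xd1 yd20 zd28) (kd xd1 yd17 zd18) (kd xd1 yd20 zd7) (kd xd1 yd19 zd2) (kd xd1 yd17 zd24) (kd xd1 yd17 zd25) (kd xd1 yd21 zd3) (kd xd1 yd4 zd8) (kd xd1 yd20 zd0) (kd xd1 yd20 zd1) (kd xd1 yd18 zd0) (kd xd1 yd21 zd8)) (@D3.rec (fun _ => Pt) (kd xd1 yd4 zd10) (kd xd1 yd21 zd11) (kd xd1 yd20 zd9) (kd xd1 yd20 zd10) (kd xd1 yd19 zd14) (kd xd1 yd21 zd13) (kd xd1 yd4 zd17) (kd xd1 yd21 zd16)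 (kd xd1 yd21 zd10) (kd xd1 yd4 zd20) (kd xd1 yd12 zd10) (kd xd1 yd12 zd11) (kd xd1 yd4 zd24) (kd xd1 yd12 zd13) (kd xd1 yd12 zd14) (kd xd1 yd21 zd28) (kd xd1 yd12 zd16) (kd xd1 yd12 zd17) (kd xd1 yd5 zd12) (kd xd1 yd4 zd31) (kd xd1 yd12 zd20) (kd xd2 yd0 zd0) (kd xd1 yd5 zd16) (kd xd2 yd0 zd2) (kd xd1 yd5 zd3) (kd xd1 yd5 zd24) (kd xd1 yd5 zd25) (kd xd1 yd12 zd27) (kd xd1 yd5 zd8) (kd xd1 yd5 zd29) (kd xd1 yd21 zd29) (kd xd1 yd21 zd30)) (@D3.rec (fun _ => Pt) (kd xd2 yd0 zd11) (kd xd1 yd13 zd1) (kd xd1 yd5 zd15) (kd xd1 yd13 zd3) (kd xd2 yd0 zd15) (kd xd2 yd0 zd1) (kd xd2 yd0 zd19) (kd xd1 yd5 zd17) (kd xd1 yd13 zd8) (kd xd2 yd0 zd23) (kd xd1 yd13 zd10) (kd xd1 yd13 zd11) (kd xd1 yd18 zd17) (kd xd1 yd5 zd22) (kd xd2 yd0 zd3) (kd xd2 yd0 zd26)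 (kd xd2 yd0 zd5) (kd xd1 yd13 zd17) (kd xd1 yd5 zd28) (kd xd2 yd0 zd29) (kd xd1 yd13 zd20) (kd xd2 yd0 zd31) (kd xd1 yd6 zd1) (kd xd2 yd1 zd2) (kd xd1 yd6 zd3) (kd xd1 yd13 zd25) (kd xd1 yd6 zd4) (kd xd2 yd1 zd8) (kd xd1 yd13 zd28) (kd xd1 yd6 zd6) (kd xd1 yd6 zd18) (kd xd1 yd6 zd13)) (@D3.rec (fun _ => Pt) (kd xd1 yd6 zd19) (kd xd1 yd6 zd20) (kd xd1 yd14 zd2) (kd xd1 yd6 zd10) (kd xd1 yd14 zd4) (kd xd2 yd1 zd12) (kd xd1 yd14 zd6) (kd xd1 yd6 zd15) (kd xd2 yd1 zd9) (kd xd1 yd14 zd9) (kd xd2 yd1 zd27) (kd xd2 yd1 zd13) (kd xd2 yd1 zd14) (kd xd2 yd1 zd16) (kd xd1 yd14 zd14) (kd xd2 yd1 zd31) (kd xd1 yd6 zd22) (kd xd2 yd2 zd1) (kd xd1 yd14 zd18) (kd xd2 yd2 zd4) (kd xd1 yd6 zd25) (kd xd2 yd2 zd7) (kd xd1 yd6 zd27) (kd xd2 yd2 zd2) (kd xd2 yd2 zd11)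 (kd xd1 yd6 zd29) (kd xd2 yd2 zd15) (kd xd1 yd14 zd27) (kd xd1 yd6 zd31) (kd xd1 yd14 zd29) (kd xd2 yd2 zd21) (kd xd1 yd7 zd9)) (@D3.rec (fun _ => Pt) (kd xd1 yd7 zd2) (kd xd1 yd15 zd1) (kd xd1 yd15 zd2) (kd xd1 yd15 zd3) (kd xd1 yd7 zd4) (kd xd1 yd15 zd5) (kd xd2 yd3 zd0) (kd xd1 yd15 zd7) (kd xd2 yd3 zd6) (kd xd2 yd2 zd20) (kd xd1 yd7 zd8) (kd xd1 yd15 zd11) (kd xd1 yd15 zd12) (kd xd2 yd2 zd24) (kd xd2 yd3 zd14) (kd xd1 yd15 zd15) (kd xd1 yd15 zd16) (kd xd1 yd15 zd17) (kd xd2 yd3 zd16) (kd xd1 yd7 zd14) (kd xd2 yd3 zd18) (kd xd1 yd15 zd21) (kd xd2 yd3 zd21) (kd xd1 yd7 zd17) (kd xd2 yd3 zd24) (kd xd1 yd7 zd19) (kd xd2 yd3 zd19) (kd xd2 yd3 zd28) (kd xd1 yd7 zd21) (kd xd2 yd4 zd0) (kd xd1 yd10 zd4) (kd xd1 yd7 zd23)) (@D3.rec (fun _ => Pt) (kd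 xd1 yd16 zd0) (kd xd2 yd4 zd6) (kd xd1 yd16 zd2) (kd xd1 yd7 zd26) (kd xd1 yd16 zd4) (kd xd1 yd16 zd5) (kd xd1 yd7 zd27) (kd xd2 yd4 zd14) (kd xd1 yd10 zd14) (kd xd1 yd7 zd29) (kd xd1 yd16 zd10) (kd xd2 yd4 zd20) (kd xd1 yd8 zd17) (kd xd1 yd8 zd0) (kd xd1 yd16 zd14) (kd xd1 yd16 zd15) (kd xd1 yd10 zd22) (kd xd1 yd8 zd2) (kd xd1 yd9 zd3) (kd xd2 yd4 zd31) (kd xd1 yd10 zd26) (kd xd2 yd5 zd5) (kd xd1 yd8 zd27) (kd xd1 yd8 zd6) (kd xd1 yd9 zd9) (kd xd1 yd9 zd10) (kd xd1 yd8 zd31) (kd xd2 yd5 zd13) (kd xd1 yd9 zd12) (kd xd1 yd9 zd13) (kd xd1 yd11 zd4) (kd xd1 yd8 zd12)) (@D3.rec (fun _ => Pt) (kd xd1 yd17 zd0) (kd xd2 yd5 zd20) (kd xd1 yd11 zd8) (kd xd2 yd5 zd26) (kd xd2 yd4 zd19) (kd xd1 yd8 zd16) (kd xd1 yd17 zd6) (kd xd1 yd17 zd7) (kd xd2 yd4 zd23)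 (kd xd2 yd5 zd11) (kd xd1 yd11 zd16) (kd xd1 yd11 zd17) (kd xd1 yd17 zd12) (kd xd2 yd4 zd30) (kd xd1 yd8 zd24) (kd xd1 yd9 zd15) (kd xd1 yd9 zd16) (kd xd2 yd6 zd6) (kd xd1 yd11 zd21) (kd xd1 yd17 zd19) (kd xd1 yd17 zd20) (kd xd2 yd5 zd7) (kd xd2 yd6 zd9) (kd xd1 yd9 zd0) (kd xd1 yd11 zd24) (kd xd1 yd11 zd25) (kd xd2 yd6 zd16) (kd xd1 yd9 zd14) (kd xd1 yd9 zd4) (kd xd2 yd5 zd0) (kd xd2 yd5 zd1) (kd xd1 yd17 zd31)) (@D3.rec (fun _ => Pt) (kd xd1 yd11 zd30) (kd xd2 yd6 zd23) (kd xd1 yd9 zd6) (kd xd2 yd6 zd26) (kd xd2 yd6 zd27) (kd xd2 yd5 zd9) (kd xd2 yd5 zd10) (kd xd1 yd9 zd11) (kd xd2 yd6 zd31) (kd xd2 yd5 zd15) (kd xd2 yd7 zd0) (kd xd1 yd9 zd17) (kd xd1 yd9 zd19) (kd xd2 yd7 zd2) (kd xd1 yd9 zd23) (kd xd2 yd7 zd5) (kd xd1 yd9 zd21) (kd xd1 yd13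 zd12) (kd xd1 yd18 zd18) (kd xd2 yd7 zd7) (kd xd1 yd9 zd24) (kd xd2 yd7 zd10) (kd xd1 yd9 zd26) (kd xd1 yd10 zd0) (kd xd1 yd11 zd14) (kd xd1 yd9 zd28) (kd xd2 yd7 zd14) (kd xd2 yd3 zd23) (kd xd1 yd9 zd30) (kd xd2 yd7 zd11) (kd xd2 yd7 zd20) (kd xd1 yd18 zd31)) (@D3.rec (fun _ => Pt) (kd xd1 yd10 zd1) (kd xd1 yd11 zd13) (kd xd1 yd11 zd23) (kd xd2 yd3 zd31) (kd xd1 yd10 zd3) (kd xd1 yd19 zd5) (kd xd2 yd7 zd27) (kd xd2 yd4 zd3) (kd xd2 yd8 zd1) (kd xd1 yd19 zd9) (kd xd1 yd10 zd7) (kd xd1 yd19 zd11) (kd xd1 yd19 zd12) (kd xd1 yd19 zd13) (kd xd1 yd12 zd4) (kd xd1 yd19 zd15) (kd xd1 yd19 zd16) (kd xd2 yd4 zd13) (kd xd1 yd10 zd13) (kd xd1 yd19 zd19) (kd xd2 yd8 zd11) (kd xd2 yd4 zd17) (kd xd2 yd8 zd17) (kd xd1 yd11 zd10) (kd xd1 yd10 zd17) (kd xd1 yd19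 zd25) (kd xd1 yd19 zd26) (kd xd2 yd4 zd27) (kd xd2 yd4 zd28) (kd xd2 yd8 zd24) (kd xd1 yd11 zd18) (kd xd1 yd10 zd25)) (@D3.rec (fun _ => Pt) (kd xd1 yd11 zd28) (kd xd1 yd11 zd29) (kd xd2 yd8 zd30) (kd xd2 yd5 zd3) (kd xd2 yd9 zd2) (kd xd1 yd10 zd27) (kd xd2 yd9 zd5) (kd xd1 yd11 zd22) (kd xd1 yd20 zd8) (kd xd1 yd12 zd2) (kd xd1 yd12 zd3) (kd xd2 yd5 zd16) (kd xd2 yd5 zd17) (kd xd2 yd9 zd11) (kd xd2 yd8 zd10) (kd xd1 yd11 zd7) (kd xd1 yd20 zd16) (kd xd2 yd9 zd15) (kd xd2 yd5 zd24) (kd xd2 yd9 zd19) (kd xd1 yd11 zd9) (kd xd2 yd7 zd21) (kd xd2 yd7 zd12) (kd xd1 yd20 zd23) (kd xd2 yd5 zd30) (kd xd2 yd9 zd23) (kd xd2 yd6 zd1) (kd xd2 yd8 zd26) (kd xd1 yd11 zd20) (kd xd2 yd9 zd26) (kd xd2 yd7 zd22) (kd xd2 yd6 zd11)) (@D3.rec (fun _ => Pt) (kd xd2 yd9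 zd31) (kd xd2 yd6 zd14) (kd xd2 yd10 zd2) (kd xd1 yd11 zd26) (kd xd2 yd10 zd5) (kd xd2 yd8 zd28) (kd xd2 yd8 zd29) (kd xd2 yd10 zd7) (kd xd1 yd11 zd31) (kd xd2 yd10 zd10) (kd xd1 yd12 zd8) (kd xd1 yd12 zd1) (kd xd2 yd8 zd4) (kd xd1 yd12 zd5) (kd xd2 yd10 zd16) (kd xd2 yd10 zd4) (kd xd1 yd12 zd7) (kd xd2 yd10 zd11) (kd xd2 yd10 zd12) (kd xd1 yd21 zd19) (kd xd1 yd21 zd20) (kd xd1 yd21 zd21) (kd xd1 yd21 zd22) (kd xd2 yd10 zd27) (kd xd1 yd21 zd24) (kd xd1 yd21 zd25) (kd xd2 yd10 zd28) (kd xd2 yd10 zd29) (kd xd1 yd12 zd15) (kd xd1 yd12 zd30) (kd xd1 yd12 zd31) (kd xd2 yd11 zd1))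
def f_d_2 : D2 → D3 → Pt := @D2.rec (fun _ => D3 → Pt) (@D3.rec (fun _ => Pt) (kd xd1 yd12 zd21) (kd xd1 yd13 zd5) (kd xd1 yd12 zd23) (kd xd1 yd13 zd14) (kd xd2 yd0 zd4) (kd xd1 yd13 zd16) (kd xd2 yd10 zd30) (kd xd2 yd11 zd6) (kd xd2 yd11 zd7) (kd xd2 yd11 zd0) (kd xd2 yd11 zd11) (kd xd1 yd13 zd0) (kd xd2 yd0 zd12) (kd xd2 yd11 zd15) (kd xd2 yd0 zd14) (kd xd1 yd13 zd4) (kd xd2 yd11 zd16) (kd xd2 yd0 zd17) (kd xd2 yd11 zd19) (kd xd1 yd13 zd6) (kd xd2 yd0 zd20) (kd xd2 yd0 zd21) (kd xd2 yd7 zd6) (kd xd1 yd13 zd9) (kd xd2 yd11 zd20) (kd xd2 yd11 zd2) (kd xd1 yd13 zd15) (kd xd2 yd11 zd22) (kd xd2 yd0 zd28) (kd xd1 yd13 zd19) (kd xd2 yd11 zd24) (kd xd1 yd13 zd21)) (@D3.rec (fun _ => Pt) (kd xd2 yd11 zd26) (kd xd2 yd1 zd1) (kd xd1 yd13 zd23) (kd xd2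 yd1 zd3) (kd xd2 yd1 zd4) (kd xd2 yd1 zd5) (kd xd2 yd1 zd6) (kd xd2 yd1 zd7) (kd xd1 yd13 zd27) (kd xd1 yd14 zd8) (kd xd2 yd1 zd10) (kd xd2 yd12 zd11) (kd xd1 yd14 zd5) (kd xd1 yd14 zd11) (kd xd1 yd14 zd12) (kd xd2 yd5 zd12) (kd xd1 yd14 zd13) (kd xd2 yd1 zd17) (kd xd2 yd1 zd18) (kd xd2 yd12 zd6) (kd xd2 yd12 zd18) (kd xd2 yd1 zd21) (kd xd2 yd1 zd22) (kd xd2 yd12 zd22) (kd xd2 yd12 zd7) (kd xd2 yd12 zd8) (kd xd2 yd12 zd25) (kd xd1 yd14 zd10) (kd xd2 yd12 zd28) (kd xd2 yd12 zd14) (kd xd2 yd12 zd29) (kd xd1 yd14 zd15)) (@D3.rec (fun _ => Pt) (kd xd2 yd13 zd0) (kd xd1 yd14 zd17) (kd xd1 yd14 zd23) (kd xd2 yd13 zd4) (kd xd1 yd14 zd19) (kd xd2 yd13 zd8) (kd xd2 yd2 zd6) (kd xd1 yd14 zd21) (kd xd2 yd13 zd1) (kd xd2 yd13 zd14) (kd xd2 yd2 zd10) (kd xd1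 yd14 zd24) (kd xd2 yd13 zd5) (kd xd2 yd13 zd6) (kd xd2 yd2 zd14) (kd xd1 yd14 zd26) (kd xd2 yd2 zd16) (kd xd2 yd13 zd25) (kd xd2 yd2 zd18) (kd xd2 yd13 zd31) (kd xd1 yd15 zd9) (kd xd1 yd14 zd30) (kd xd2 yd2 zd22) (kd xd2 yd2 zd23) (kd xd1 yd15 zd13) (kd xd2 yd14 zd7) (kd xd2 yd2 zd26) (kd xd2 yd2 zd27) (kd xd2 yd2 zd28) (kd xd2 yd2 zd29) (kd xd2 yd14 zd15) (kd xd2 yd13 zd24)) (@D3.rec (fun _ => Pt) (kd xd1 yd15 zd6) (kd xd2 yd3 zd1) (kd xd2 yd3 zd2) (kd xd2 yd14 zd21) (kd xd2 yd3 zd4) (kd xd2 yd14 zd25) (kd xd1 yd15 zd8) (kd xd2 yd14 zd27) (kd xd2 yd14 zd1) (kd xd2 yd14 zd30) (kd xd2 yd3 zd10) (kd xd2 yd3 zd11) (kd xd2 yd14 zd5) (kd xd2 yd14 zd31) (kd xd1 yd15 zd14) (kd xd2 yd15 zd1) (kd xd1 yd15 zd18) (kd xd2 yd15 zd4) (kd xd1 yd15 zd20) (kd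 xd1 yd15 zd26) (kd xd2 yd15 zd8) (kd xd1 yd15 zd22) (kd xd2 yd15 zd12) (kd xd1 yd18 zd27) (kd xd1 yd15 zd24) (kd xd2 yd15 zd5) (kd xd2 yd15 zd18) (kd xd2 yd3 zd27) (kd xd1 yd15 zd27) (kd xd2 yd15 zd9) (kd xd2 yd15 zd10) (kd xd1 yd19 zd3)) (@D3.rec (fun _ => Pt) (kd xd1 yd15 zd29) (kd xd2 yd4 zd1) (kd xd2 yd15 zd29) (kd xd1 yd19 zd7) (kd xd2 yd16 zd3) (kd xd2 yd4 zd5) (kd xd1 yd16 zd1) (kd xd2 yd4 zd7) (kd xd2 yd4 zd8) (kd xd2 yd4 zd9) (kd xd2 yd16 zd11) (kd xd2 yd4 zd11) (kd xd2 yd4 zd12) (kd xd1 yd19 zd17) (kd xd1 yd16 zd7) (kd xd2 yd4 zd15) (kd xd2 yd16 zd18) (kd xd1 yd19 zd21) (kd xd2 yd16 zd24) (kd xd1 yd17 zd4) (kd xd1 yd16 zd11) (kd xd2 yd4 zd21) (kd xd2 yd4 zd22) (kd xd1 yd17 zd8) (kd xd2 yd16 zd31) (kd xd2 yd4 zd25) (kd xd2 yd4 zd26) (kd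 xd1 yd19 zd27) (kd xd1 yd19 zd28) (kd xd2 yd17 zd7) (kd xd1 yd17 zd13) (kd xd1 yd16 zd19)) (@D3.rec (fun _ => Pt) (kd xd1 yd17 zd29) (kd xd1 yd17 zd30) (kd xd2 yd17 zd13) (kd xd1 yd20 zd3) (kd xd2 yd17 zd17) (kd xd1 yd16 zd21) (kd xd2 yd17 zd20) (kd xd1 yd17 zd21) (kd xd2 yd17 zd23) (kd xd1 yd18 zd5) (kd xd1 yd18 zd6) (kd xd1 yd17 zd9) (kd xd2 yd1 zd15) (kd xd1 yd16 zd27) (kd xd2 yd17 zd28) (kd xd1 yd18 zd9) (kd xd1 yd20 zd11) (kd xd1 yd20 zd12) (kd xd2 yd18 zd2) (kd xd2 yd16 zd17) (kd xd1 yd17 zd1) (kd xd2 yd5 zd21) (kd xd2 yd5 zd22) (kd xd2 yd18 zd6) (kd xd1 yd20 zd18) (kd xd2 yd18 zd9) (kd xd1 yd17 zd3) (kd xd2 yd18 zd10) (kd xd2 yd16 zd26) (kd xd2 yd17 zd21) (kd xd1 yd20 zd24) (kd xd2 yd5 zd31)) (@D3.rec (fun _ => Pt) (kd xd2 yd18 zd15) (kd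 xd1 yd20 zd26) (kd xd2 yd6 zd2) (kd xd2 yd6 zd3) (kd xd2 yd17 zd9) (kd xd2 yd18 zd18) (kd xd1 yd17 zd17) (kd xd2 yd18 zd19) (kd xd2 yd18 zd21) (kd xd1 yd17 zd22) (kd xd2 yd6 zd10) (kd xd1 yd20 zd31) (kd xd2 yd18 zd27) (kd xd2 yd6 zd13) (kd xd1 yd21 zd1) (kd xd2 yd18 zd31) (kd xd1 yd17 zd26) (kd xd2 yd19 zd2) (kd xd2 yd19 zd3) (kd xd2 yd17 zd11) (kd xd2 yd17 zd12) (kd xd2 yd19 zd6) (kd xd2 yd19 zd8) (kd xd1 yd18 zd1) (kd xd2 yd19 zd11) (kd xd2 yd6 zd25) (kd xd1 yd18 zd3) (kd xd1 yd18 zd4) (kd xd2 yd19 zd16) (kd xd2 yd17 zd25) (kd xd2 yd6 zd30) (kd xd1 yd18 zd8)) (@D3.rec (fun _ => Pt) (kd xd1 yd18 zd10) (kd xd2 yd7 zd1) (kd xd1 yd18 zd13) (kd xd2 yd19 zd21) (kd xd2 yd19 zd22) (kd xd1 yd18 zd15) (kd xd2 yd0 zd22) (kd xd1 yd18 zd19) (kd xd2 yd19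 zd26) (kd xd2 yd15 zd3) (kd xd1 yd18 zd21) (kd xd1 yd18 zd29) (kd xd1 yd20 zd22) (kd xd2 yd15 zd11) (kd xd1 yd18 zd26) (kd xd2 yd19 zd27) (kd xd2 yd20 zd3) (kd xd2 yd15 zd15) (kd xd2 yd20 zd9) (kd xd2 yd7 zd19) (kd xd1 yd18 zd30) (kd xd1 yd20 zd21) (kd xd1 yd20 zd30) (kd xd2 yd15 zd25) (kd xd2 yd15 zd26) (kd xd2 yd20 zd16) (kd xd2 yd7 zd26) (kd xd1 yd19 zd6) (kd xd2 yd7 zd28) (kd xd2 yd7 zd29) (kd xd2 yd20 zd22) (kd xd2 yd16 zd1)) (@D3.rec (fun _ => Pt) (kd xd2 yd20 zd26) (kd xd1 yd19 zd8) (kd xd2 yd20 zd29) (kd xd2 yd8 zd3) (kd xd1 yd21 zd12) (kd xd2 yd8 zd5) (kd xd2 yd8 zd6) (kd xd2 yd16 zd14) (kd xd2 yd16 zd15) (kd xd2 yd21 zd3) (kd xd1 yd20 zd14) (kd xd1 yd19 zd20) (kd xd2 yd8 zd12) (kd xd2 yd8 zd13) (kd xd2 yd21 zd5) (kd xd2 yd16 zd22) (kd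 xd2 yd21 zd6) (kd xd1 yd19 zd22) (kd xd2 yd21 zd8) (kd xd2 yd17 zd2) (kd xd2 yd21 zd12) (kd xd2 yd21 zd14) (kd xd2 yd17 zd5) (kd xd2 yd21 zd18) (kd xd1 yd19 zd29) (kd xd2 yd21 zd21) (kd xd1 yd20 zd27) (kd xd2 yd8 zd27) (kd xd1 yd21 zd5) (kd xd1 yd21 zd6) (kd xd1 yd20 zd2) (kd xd2 yd21 zd22)) (@D3.rec (fun _ => Pt) (kd xd2 yd21 zd24) (kd xd2 yd21 zd25) (kd xd1 yd20 zd4) (kd xd2 yd21 zd27) (kd xd2 yd9 zd4) (kd xd1 yd20 zd6) (kd xd2 yd17 zd29) (kd xd3 yd0 zd2) (kd xd3 yd0 zd3) (kd xd2 yd18 zd0) (kd xd3 yd0 zd7) (kd xd1 yd20 zd13) (kd xd2 yd20 zd4) (kd xd2 yd19 zd28) (kd xd2 yd9 zd14) (kd xd1 yd20 zd17) (kd xd3 yd0 zd9) (kd xd3 yd0 zd11) (kd xd3 yd0 zd12) (kd xd1 yd20 zd19) (kd xd2 yd9 zd20) (kd xd3 yd0 zd15) (kd xd2 yd18 zd12) (kd xd1 yd20 zd25)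 (kd xd3 yd0 zd17) (kd xd2 yd20 zd5) (kd xd1 yd20 zd29) (kd xd2 yd9 zd27) (kd xd3 yd0 zd20) (kd xd2 yd18 zd25) (kd xd3 yd0 zd24) (kd xd1 yd21 zd0)) (@D3.rec (fun _ => Pt) (kd xd3 yd0 zd28) (kd xd3 yd0 zd29) (kd xd1 yd21 zd2) (kd xd3 yd1 zd0) (kd xd1 yd21 zd15) (kd xd1 yd21 zd4) (kd xd2 yd20 zd19) (kd xd1 yd21 zd7) (kd xd3 yd1 zd5) (kd xd2 yd10 zd9) (kd xd1 yd21 zd9) (kd xd1 yd21 zd17) (kd xd1 yd21 zd18) (kd xd2 yd10 zd13) (kd xd2 yd10 zd14) (kd xd3 yd0 zd27) (kd xd1 yd21 zd14) (kd xd3 yd1 zd1) (kd xd3 yd1 zd2) (kd xd2 yd10 zd19) (kd xd3 yd1 zd9) (kd xd3 yd1 zd10) (kd xd3 yd1 zd22) (kd xd2 yd10 zd23) (kd xd3 yd1 zd25) (kd xd3 yd1 zd26) (kd xd3 yd1 zd27) (kd xd1 yd21 zd23) (kd xd1 yd21 zd26) (kd xd1 yd21 zd27) (kd xd2 yd0 zd6) (kd xd3 yd1 zd29))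 (@D3.rec (fun _ => Pt) (kd xd2 yd0 zd9) (kd xd1 yd21 zd31) (kd xd2 yd0 zd25) (kd xd3 yd1 zd30) (kd xd3 yd1 zd28) (kd xd3 yd2 zd2) (kd xd2 yd0 zd7) (kd xd2 yd0 zd8) (kd xd3 yd2 zd5) (kd xd2 yd11 zd9) (kd xd3 yd2 zd8) (kd xd2 yd0 zd10) (kd xd2 yd11 zd12) (kd xd2 yd11 zd13) (kd xd2 yd19 zd23) (kd xd2 yd0 zd13) (kd xd2 yd0 zd16) (kd xd3 yd2 zd9) (kd xd2 yd11 zd18) (kd xd2 yd0 zd18) (kd xd2 yd0 zd24) (kd xd3 yd2 zd11) (kd xd2 yd0 zd27) (kd xd3 yd2 zd13) (kd xd2 yd0 zd30) (kd xd2 yd11 zd25) (kd xd2 yd1 zd0) (kd xd2 yd11 zd27) (kd xd2 yd11 zd28) (kd xd3 yd2 zd23) (kd xd2 yd11 zd30) (kd xd2 yd11 zd31)) (@D3.rec (fun _ => Pt) (kd xd2 yd12 zd0) (kd xd3 yd2 zd27) (kd xd2 yd12 zd2) (kd xd2 yd12 zd3) (kd xd2 yd12 zd4) (kd xd3 yd3 zd1) (kd xd2 yd1 zd19) (kd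 xd2 yd1 zd24) (kd xd2 yd1 zd25) (kd xd3 yd3 zd5) (kd xd3 yd3 zd7) (kd xd2 yd1 zd11) (kd xd3 yd3 zd10) (kd xd2 yd17 zd22) (kd xd2 yd1 zd29) (kd xd2 yd17 zd26) (kd xd2 yd12 zd16) (kd xd3 yd3 zd13) (kd xd2 yd1 zd20) (kd xd2 yd12 zd19) (kd xd3 yd3 zd16) (kd xd3 yd3 zd18) (kd xd2 yd1 zd23) (kd xd3 yd3 zd21) (kd xd3 yd3 zd4) (kd xd2 yd1 zd26) (kd xd3 yd3 zd23) (kd xd2 yd12 zd27) (kd xd2 yd1 zd28) (kd xd2 yd1 zd30) (kd xd3 yd3 zd28) (kd xd2 yd12 zd31)) (@D3.rec (fun _ => Pt) (kd xd2 yd2 zd0) (kd xd2 yd2 zd8) (kd xd3 yd4 zd2) (kd xd2 yd13 zd3) (kd xd2 yd2 zd3) (kd xd2 yd2 zd12) (kd xd2 yd2 zd13) (kd xd2 yd13 zd7) (kd xd2 yd2 zd5) (kd xd3 yd3 zd29) (kd xd3 yd4 zd13) (kd xd2 yd13 zd11) (kd xd3 yd4 zd19) (kd xd2 yd13 zd13) (kd xd2 yd2 zd9) (kd xd3 yd4 zd3)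 (kd xd3 yd4 zd4) (kd xd2 yd13 zd17) (kd xd3 yd4 zd27) (kd xd3 yd4 zd7) (kd xd3 yd4 zd8) (kd xd2 yd13 zd21) (kd xd2 yd13 zd22) (kd xd3 yd5 zd3) (kd xd2 yd2 zd31) (kd xd2 yd2 zd17) (kd xd2 yd13 zd26) (kd xd2 yd13 zd27) (kd xd3 yd5 zd9) (kd xd2 yd13 zd29) (kd xd3 yd5 zd13) (kd xd2 yd2 zd19)) (@D3.rec (fun _ => Pt) (kd xd3 yd5 zd16) (kd xd2 yd3 zd8) (kd xd3 yd5 zd19) (kd xd2 yd14 zd3) (kd xd2 yd14 zd4) (kd xd2 yd3 zd12) (kd xd3 yd5 zd23) (kd xd2 yd2 zd25) (kd xd3 yd5 zd26) (kd xd2 yd14 zd9) (kd xd2 yd14 zd10) (kd xd3 yd5 zd30) (kd xd3 yd6 zd0) (kd xd2 yd14 zd13) (kd xd3 yd6 zd4) (kd xd2 yd2 zd30) (kd xd3 yd6 zd6) (kd xd3 yd5 zd5) (kd xd3 yd6 zd9) (kd xd2 yd14 zd19) (kd xd2 yd14 zd20) (kd xd2 yd3 zd3) (kd xd3 yd6 zd10) (kd xd3 yd6 zd14) (kd xd3 yd6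 zd15) (kd xd2 yd3 zd5) (kd xd3 yd6 zd17) (kd xd2 yd3 zd7) (kd xd3 yd5 zd17) (kd xd3 yd6 zd18) (kd xd2 yd3 zd9) (kd xd2 yd3 zd13)) (@D3.rec (fun _ => Pt) (kd xd2 yd15 zd0) (kd xd2 yd3 zd15) (kd xd3 yd6 zd23) (kd xd2 yd7 zd9) (kd xd2 yd3 zd17) (kd xd2 yd3 zd25) (kd xd3 yd6 zd29) (kd xd2 yd15 zd7) (kd xd2 yd3 zd20) (kd xd2 yd3 zd29) (kd xd2 yd3 zd30) (kd xd2 yd7 zd13) (kd xd2 yd3 zd22) (kd xd3 yd6 zd24) (kd xd3 yd7 zd8) (kd xd2 yd7 zd17) (kd xd3 yd7 zd14) (kd xd2 yd15 zd17) (kd xd2 yd3 zd26) (kd xd3 yd6 zd30) (kd xd3 yd6 zd31) (kd xd2 yd15 zd21) (kd xd3 yd7 zd21) (kd xd3 yd7 zd2) (kd xd3 yd7 zd3) (kd xd2 yd7 zd23) (kd xd2 yd7 zd24) (kd xd3 yd7 zd29) (kd xd2 yd15 zd28) (kd xd2 yd4 zd2) (kd xd2 yd15 zd30) (kd xd2 yd15 zd31)) (@D3.rec (fun _ => Pt)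 (kd xd3 yd8 zd3) (kd xd2 yd7 zd31) (kd xd3 yd8 zd7) (kd xd2 yd4 zd4) (kd xd3 yd8 zd10) (kd xd2 yd16 zd5) (kd xd3 yd8 zd13) (kd xd2 yd16 zd7) (kd xd2 yd16 zd8) (kd xd2 yd16 zd9) (kd xd3 yd8 zd17) (kd xd2 yd4 zd10) (kd xd3 yd8 zd20) (kd xd2 yd16 zd13) (kd xd2 yd8 zd7) (kd xd2 yd8 zd8) (kd xd3 yd8 zd26) (kd xd2 yd5 zd19) (kd xd2 yd4 zd16) (kd xd2 yd16 zd19) (kd xd2 yd16 zd20) (kd xd3 yd9 zd0) (kd xd2 yd8 zd15) (kd xd3 yd9 zd4) (kd xd2 yd4 zd18) (kd xd3 yd9 zd7) (kd xd2 yd5 zd28) (kd xd3 yd9 zd9) (kd xd2 yd16 zd28) (kd xd2 yd16 zd29) (kd xd3 yd5 zd22) (kd xd2 yd4 zd24)) (@D3.rec (fun _ => Pt) (kd xd3 yd9 zd13) (kd xd2 yd17 zd1) (kd xd2 yd8 zd19) (kd xd3 yd9 zd17) (kd xd3 yd9 zd19) (kd xd2 yd8 zd22) (kd xd3 yd9 zd23) (kd xd2 yd4 zd29) (kd xd3 yd9 zd26)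 (kd xd2 yd6 zd4) (kd xd3 yd9 zd29) (kd xd2 yd6 zd19) (kd xd2 yd6 zd20) (kd xd2 yd5 zd2) (kd xd3 yd10 zd0) (kd xd3 yd10 zd4) (kd xd3 yd10 zd6) (kd xd2 yd5 zd4) (kd xd3 yd10 zd9) (kd xd3 yd5 zd15) (kd xd2 yd5 zd6) (kd xd2 yd5 zd29) (kd xd2 yd12 zd13) (kd xd2 yd5 zd8) (kd xd3 yd10 zd15) (kd xd2 yd6 zd29) (kd xd2 yd12 zd15) (kd xd3 yd8 zd19) (kd xd2 yd5 zd14) (kd xd2 yd9 zd6) (kd xd3 yd10 zd21) (kd xd3 yd10 zd23)) (@D3.rec (fun _ => Pt) (kd xd2 yd9 zd9) (kd xd3 yd10 zd26) (kd xd2 yd5 zd18) (kd xd3 yd10 zd27) (kd xd3 yd8 zd28) (kd xd3 yd9 zd27) (kd xd2 yd5 zd23) (kd xd3 yd10 zd28) (kd xd3 yd10 zd30) (kd xd2 yd5 zd25) (kd xd2 yd5 zd27) (kd xd3 yd11 zd0) (kd xd2 yd9 zd22) (kd xd2 yd18 zd13) (kd xd2 yd18 zd14) (kd xd2 yd6 zd0) (kd xd3 yd11 zd3) (kd xd3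 yd11 zd5) (kd xd2 yd6 zd5) (kd xd2 yd6 zd7) (kd xd3 yd11 zd8) (kd xd2 yd6 zd8) (kd xd3 yd11 zd10) (kd xd2 yd18 zd23) (kd xd2 yd18 zd24) (kd xd2 yd9 zd29) (kd xd3 yd11 zd15) (kd xd2 yd6 zd12) (kd xd3 yd11 zd19) (kd xd3 yd11 zd20) (kd xd3 yd11 zd22) (kd xd2 yd6 zd15)) (@D3.rec (fun _ => Pt) (kd xd3 yd11 zd25) (kd xd2 yd19 zd1) (kd xd2 yd6 zd17) (kd xd2 yd6 zd18) (kd xd3 yd11 zd30) (kd xd3 yd9 zd31) (kd xd2 yd6 zd21) (kd xd3 yd12 zd1) (kd xd2 yd6 zd22) (kd xd3 yd12 zd3) (kd xd3 yd12 zd0) (kd xd2 yd6 zd24) (kd xd2 yd19 zd12) (kd xd2 yd19 zd13) (kd xd2 yd19 zd14) (kd xd3 yd11 zd31) (kd xd2 yd6 zd28) (kd xd2 yd19 zd17) (kd xd2 yd19 zd18) (kd xd2 yd19 zd19) (kd xd2 yd19 zd20) (kd xd2 yd7 zd3) (kd xd2 yd7 zd4) (kd xd2 yd11 zd14) (kd xd2 yd19 zd24) (kd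 xd3 yd6 zd22) (kd xd2 yd7 zd8) (kd xd2 yd7 zd15) (kd xd2 yd9 zd13) (kd xd3 yd6 zd26) (kd xd3 yd12 zd20) (kd xd3 yd7 zd4)) (@D3.rec (fun _ => Pt) (kd xd3 yd7 zd5) (kd xd3 yd12 zd26) (kd xd2 yd20 zd2) (kd xd2 yd7 zd16) (kd xd2 yd9 zd12) (kd xd2 yd9 zd25) (kd xd3 yd12 zd28) (kd xd3 yd7 zd12) (kd xd3 yd12 zd29) (kd xd2 yd7 zd18) (kd xd3 yd12 zd31) (kd xd3 yd7 zd24) (kd xd3 yd13 zd3) (kd xd3 yd13 zd5) (kd xd3 yd7 zd27) (kd xd3 yd13 zd9) (kd xd2 yd7 zd25) (kd xd3 yd13 zd12) (kd xd2 yd20 zd18) (kd xd2 yd10 zd6) (kd xd2 yd20 zd20) (kd xd2 yd20 zd21) (kd xd2 yd7 zd30) (kd xd3 yd13 zd13) (kd xd3 yd13 zd15) (kd xd3 yd13 zd16) (kd xd2 yd8 zd0) (kd xd3 yd13 zd18) (kd xd2 yd20 zd28) (kd xd2 yd8 zd2) (kd xd3 yd8 zd21) (kd xd3 yd13 zd25)) (@D3.rec (fun _ => Pt)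 (kd xd3 yd13 zd27) (kd xd3 yd8 zd24) (kd xd3 yd13 zd28) (kd xd2 yd8 zd9) (kd xd3 yd13 zd30) (kd xd2 yd8 zd14) (kd xd2 yd8 zd16) (kd xd2 yd21 zd7) (kd xd2 yd8 zd18) (kd xd3 yd14 zd4) (kd xd3 yd9 zd15) (kd xd3 yd14 zd8) (kd xd2 yd8 zd20) (kd xd3 yd14 zd12) (kd xd2 yd8 zd21) (kd xd3 yd14 zd13) (kd xd3 yd14 zd15) (kd xd3 yd14 zd16) (kd xd2 yd8 zd23) (kd xd3 yd14 zd18) (kd xd2 yd21 zd20) (kd xd2 yd8 zd25) (kd xd2 yd8 zd31) (kd xd3 yd14 zd23) (kd xd2 yd9 zd0) (kd xd2 yd9 zd1) (kd xd3 yd14 zd25) (kd xd2 yd9 zd3) (kd xd2 yd21 zd28) (kd xd2 yd21 zd29) (kd xd3 yd14 zd3) (kd xd3 yd15 zd1))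
def f_d_3 : D2 → D3 → Pt := @D2.rec (fun _ => D3 → Pt) (@D3.rec (fun _ => Pt) (kd xd3 yd10 zd19) (kd xd3 yd15 zd5) (kd xd2 yd9 zd7) (kd xd2 yd9 zd8) (kd xd3 yd15 zd8) (kd xd3 yd15 zd10) (kd xd3 yd15 zd11) (kd xd2 yd9 zd10) (kd xd3 yd0 zd8) (kd xd2 yd9 zd16) (kd xd3 yd15 zd15) (kd xd2 yd9 zd17) (kd xd2 yd9 zd18) (kd xd3 yd15 zd17) (kd xd3 yd0 zd14) (kd xd2 yd9 zd21) (kd xd3 yd15 zd21) (kd xd2 yd9 zd24) (kd xd3 yd0 zd18) (kd xd3 yd15 zd24) (kd xd2 yd9 zd28) (kd xd3 yd0 zd21) (kd xd3 yd0 zd22) (kd xd3 yd15 zd30) (kd xd2 yd9 zd30) (kd xd3 yd16 zd2) (kd xd3 yd0 zd26) (kd xd2 yd10 zd15) (kd xd2 yd10 zd0) (kd xd2 yd10 zd1) (kd xd3 yd16 zd9) (kd xd3 yd0 zd31)) (@D3.rec (fun _ => Pt) (kd xd2 yd10 zd3) (kd xd2 yd10 zd17) (kd xd2 yd10 zd18) (kd xd3 yd1 zd3)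 (kd xd3 yd1 zd4) (kd xd2 yd10 zd8) (kd xd3 yd1 zd6) (kd xd3 yd1 zd7) (kd xd3 yd1 zd8) (kd xd2 yd10 zd20) (kd xd2 yd10 zd21) (kd xd3 yd16 zd24) (kd xd3 yd16 zd25) (kd xd3 yd1 zd13) (kd xd3 yd16 zd5) (kd xd3 yd16 zd6) (kd xd3 yd1 zd16) (kd xd3 yd16 zd13) (kd xd3 yd16 zd14) (kd xd3 yd17 zd2) (kd xd3 yd16 zd22) (kd xd3 yd17 zd4) (kd xd2 yd10 zd22) (kd xd3 yd17 zd6) (kd xd3 yd17 zd7) (kd xd2 yd10 zd24) (kd xd2 yd10 zd25) (kd xd2 yd10 zd26) (kd xd2 yd11 zd4) (kd xd2 yd10 zd31) (kd xd2 yd11 zd3) (kd xd3 yd17 zd11)) (@D3.rec (fun _ => Pt) (kd xd3 yd2 zd0) (kd xd3 yd17 zd14) (kd xd2 yd11 zd5) (kd xd3 yd2 zd3) (kd xd3 yd2 zd4) (kd xd2 yd11 zd8) (kd xd3 yd17 zd17) (kd xd3 yd2 zd7) (kd xd2 yd11 zd10) (kd xd2 yd11 zd17) (kd xd3 yd2 zd10) (kd xd2 yd11 zd21)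 (kd xd3 yd17 zd20) (kd xd2 yd11 zd23) (kd xd3 yd15 zd27) (kd xd3 yd2 zd15) (kd xd3 yd2 zd16) (kd xd3 yd17 zd26) (kd xd3 yd2 zd18) (kd xd3 yd2 zd19) (kd xd3 yd2 zd20) (kd xd3 yd17 zd30) (kd xd3 yd18 zd0) (kd xd2 yd11 zd29) (kd xd3 yd18 zd3) (kd xd3 yd18 zd4) (kd xd3 yd2 zd26) (kd xd2 yd12 zd1) (kd xd3 yd18 zd6) (kd xd3 yd2 zd29) (kd xd3 yd18 zd9) (kd xd3 yd18 zd11)) (@D3.rec (fun _ => Pt) (kd xd3 yd18 zd13) (kd xd2 yd12 zd5) (kd xd3 yd18 zd16) (kd xd3 yd9 zd28) (kd xd2 yd12 zd24) (kd xd2 yd12 zd9) (kd xd3 yd18 zd19) (kd xd2 yd12 zd10) (kd xd3 yd18 zd22) (kd xd3 yd9 zd6) (kd xd2 yd12 zd12) (kd xd3 yd10 zd13) (kd xd3 yd18 zd26) (kd xd2 yd12 zd17) (kd xd3 yd11 zd7) (kd xd3 yd18 zd29) (kd xd2 yd12 zd20) (kd xd3 yd19 zd1) (kd xd2 yd12 zd21) (kd xd3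 yd19 zd3) (kd xd3 yd3 zd20) (kd xd2 yd12 zd23) (kd xd3 yd12 zd2) (kd xd2 yd12 zd26) (kd xd3 yd3 zd24) (kd xd3 yd3 zd25) (kd xd3 yd3 zd26) (kd xd3 yd3 zd27) (kd xd2 yd12 zd30) (kd xd2 yd13 zd9) (kd xd3 yd19 zd17) (kd xd3 yd3 zd31)) (@D3.rec (fun _ => Pt) (kd xd3 yd19 zd23) (kd xd3 yd4 zd1) (kd xd2 yd13 zd2) (kd xd2 yd13 zd15) (kd xd2 yd13 zd16) (kd xd3 yd4 zd5) (kd xd3 yd19 zd31) (kd xd2 yd13 zd19) (kd xd2 yd13 zd20) (kd xd3 yd4 zd9) (kd xd3 yd4 zd10) (kd xd3 yd20 zd7) (kd xd3 yd4 zd12) (kd xd2 yd13 zd10) (kd xd3 yd19 zd18) (kd xd3 yd19 zd19) (kd xd3 yd20 zd13) (kd xd3 yd4 zd17) (kd xd3 yd20 zd17) (kd xd2 yd13 zd12) (kd xd3 yd20 zd20) (kd xd3 yd4 zd21) (kd xd3 yd20 zd23) (kd xd3 yd19 zd27) (kd xd3 yd19 zd28) (kd xd3 yd4 zd25) (kd xd3 yd20 zd27)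 (kd xd2 yd13 zd18) (kd xd3 yd20 zd30) (kd xd3 yd20 zd1) (kd xd3 yd4 zd30) (kd xd3 yd21 zd2)) (@D3.rec (fun _ => Pt) (kd xd3 yd21 zd4) (kd xd3 yd5 zd1) (kd xd3 yd21 zd8) (kd xd2 yd13 zd23) (kd xd3 yd21 zd11) (kd xd2 yd14 zd17) (kd xd3 yd21 zd14) (kd xd3 yd5 zd7) (kd xd3 yd5 zd8) (kd xd2 yd13 zd28) (kd xd3 yd21 zd17) (kd xd3 yd21 zd21) (kd xd3 yd21 zd23) (kd xd2 yd13 zd30) (kd xd3 yd21 zd26) (kd xd2 yd17 zd19) (kd xd2 yd14 zd0) (kd xd2 yd14 zd28) (kd xd3 yd21 zd31) (kd xd2 yd14 zd2) (kd xd4 yd0 zd2) (kd xd3 yd5 zd21) (kd xd2 yd16 zd30) (kd xd2 yd14 zd6) (kd xd4 yd0 zd5) (kd xd3 yd20 zd29) (kd xd2 yd14 zd8) (kd xd4 yd0 zd8) (kd xd3 yd5 zd28) (kd xd4 yd0 zd12) (kd xd2 yd14 zd11) (kd xd4 yd0 zd15)) (@D3.rec (fun _ => Pt) (kd xd2 yd14 zd12) (kd xd4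 yd0 zd16) (kd xd4 yd0 zd20) (kd xd4 yd0 zd21) (kd xd2 yd14 zd14) (kd xd4 yd0 zd23) (kd xd2 yd14 zd16) (kd xd3 yd21 zd12) (kd xd4 yd0 zd24) (kd xd2 yd14 zd18) (kd xd2 yd14 zd22) (kd xd4 yd0 zd28) (kd xd4 yd0 zd26) (kd xd4 yd0 zd30) (kd xd2 yd14 zd23) (kd xd2 yd14 zd24) (kd xd4 yd1 zd0) (kd xd2 yd14 zd26) (kd xd2 yd14 zd29) (kd xd4 yd0 zd31) (kd xd3 yd6 zd20) (kd xd3 yd6 zd21) (kd xd2 yd19 zd25) (kd xd2 yd15 zd2) (kd xd2 yd15 zd13) (kd xd4 yd1 zd11) (kd xd2 yd19 zd29) (kd xd4 yd1 zd16) (kd xd3 yd6 zd28) (kd xd2 yd15 zd6) (kd xd2 yd15 zd19) (kd xd2 yd15 zd20)) (@D3.rec (fun _ => Pt) (kd xd3 yd7 zd0) (kd xd4 yd1 zd24) (kd xd2 yd15 zd23) (kd xd2 yd15 zd24) (kd xd2 yd19 zd31) (kd xd2 yd20 zd0) (kd xd4 yd2 zd0) (kd xd3 yd7 zd7) (kd xd2 yd15 zd14) (kd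 xd4 yd1 zd12) (kd xd4 yd1 zd13) (kd xd4 yd2 zd6) (kd xd2 yd20 zd7) (kd xd4 yd2 zd10) (kd xd2 yd15 zd16) (kd xd4 yd2 zd13) (kd xd3 yd7 zd16) (kd xd4 yd2 zd15) (kd xd4 yd1 zd20) (kd xd4 yd1 zd21) (kd xd4 yd2 zd18) (kd xd2 yd15 zd22) (kd xd4 yd2 zd21) (kd xd4 yd1 zd26) (kd xd2 yd20 zd11) (kd xd4 yd2 zd25) (kd xd4 yd2 zd27) (kd xd2 yd20 zd14) (kd xd4 yd2 zd31) (kd xd2 yd15 zd27) (kd xd4 yd3 zd2) (kd xd3 yd7 zd31)) (@D3.rec (fun _ => Pt) (kd xd4 yd3 zd5) (kd xd3 yd8 zd1) (kd xd3 yd8 zd2) (kd xd2 yd16 zd0) (kd xd4 yd3 zd8) (kd xd4 yd3 zd12) (kd xd4 yd3 zd14) (kd xd2 yd16 zd2) (kd xd4 yd3 zd17) (kd xd3 yd20 zd19) (kd xd2 yd16 zd4) (kd xd3 yd8 zd11) (kd xd4 yd3 zd22) (kd xd2 yd16 zd6) (kd xd4 yd3 zd25) (kd xd3 yd8 zd15) (kd xd4 yd2 zd20) (kd xd2 yd16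 zd10) (kd xd4 yd3 zd27) (kd xd2 yd17 zd27) (kd xd2 yd16 zd12) (kd xd2 yd20 zd30) (kd xd4 yd4 zd2) (kd xd4 yd4 zd4) (kd xd2 yd21 zd1) (kd xd4 yd4 zd8) (kd xd2 yd16 zd16) (kd xd4 yd4 zd11) (kd xd2 yd18 zd4) (kd xd4 yd4 zd13) (kd xd3 yd8 zd30) (kd xd3 yd8 zd31)) (@D3.rec (fun _ => Pt) (kd xd2 yd16 zd21) (kd xd4 yd4 zd16) (kd xd4 yd4 zd19) (kd xd4 yd4 zd21) (kd xd2 yd16 zd23) (kd xd4 yd4 zd24) (kd xd3 yd3 zd9) (kd xd2 yd16 zd25) (kd xd3 yd21 zd30) (kd xd2 yd16 zd27) (kd xd4 yd4 zd30) (kd xd3 yd9 zd11) (kd xd4 yd0 zd3) (kd xd2 yd17 zd0) (kd xd4 yd4 zd31) (kd xd2 yd21 zd10) (kd xd4 yd5 zd3) (kd xd2 yd17 zd3) (kd xd4 yd5 zd7) (kd xd2 yd17 zd4) (kd xd4 yd5 zd8) (kd xd4 yd5 zd12) (kd xd4 yd5 zd14) (kd xd2 yd17 zd6) (kd xd4 yd5 zd17) (kd xd3 yd21 zd10)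 (kd xd2 yd17 zd8) (kd xd2 yd18 zd5) (kd xd3 yd3 zd3) (kd xd2 yd17 zd10) (kd xd4 yd5 zd23) (kd xd2 yd19 zd5)) (@D3.rec (fun _ => Pt) (kd xd2 yd17 zd14) (kd xd4 yd5 zd26) (kd xd4 yd5 zd24) (kd xd4 yd5 zd28) (kd xd2 yd17 zd15) (kd xd4 yd6 zd0) (kd xd2 yd17 zd16) (kd xd4 yd6 zd2) (kd xd4 yd5 zd31) (kd xd2 yd17 zd18) (kd xd3 yd21 zd27) (kd xd3 yd21 zd28) (kd xd4 yd4 zd27) (kd xd3 yd3 zd11) (kd xd4 yd5 zd30) (kd xd2 yd17 zd24) (kd xd4 yd3 zd28) (kd xd4 yd3 zd29) (kd xd4 yd6 zd13) (kd xd3 yd0 zd0) (kd xd4 yd6 zd16) (kd xd2 yd17 zd30) (kd xd4 yd6 zd18) (kd xd2 yd17 zd31) (kd xd4 yd6 zd19) (kd xd4 yd6 zd21) (kd xd2 yd18 zd1) (kd xd2 yd18 zd3) (kd xd2 yd18 zd7) (kd xd4 yd6 zd24) (kd xd2 yd18 zd8) (kd xd4 yd6 zd26)) (@D3.rec (fun _ => Pt) (kd xd2 yd18 zd11)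 (kd xd4 yd6 zd28) (kd xd4 yd6 zd30) (kd xd2 yd18 zd16) (kd xd4 yd7 zd0) (kd xd2 yd18 zd17) (kd xd4 yd7 zd2) (kd xd3 yd3 zd14) (kd xd2 yd18 zd20) (kd xd4 yd7 zd6) (kd xd2 yd18 zd22) (kd xd4 yd7 zd7) (kd xd3 yd11 zd12) (kd xd4 yd7 zd9) (kd xd4 yd7 zd11) (kd xd2 yd18 zd26) (kd xd4 yd7 zd15) (kd xd3 yd18 zd31) (kd xd3 yd11 zd18) (kd xd2 yd18 zd28) (kd xd2 yd18 zd29) (kd xd4 yd7 zd23) (kd xd2 yd18 zd30) (kd xd4 yd7 zd25) (kd xd4 yd7 zd22) (kd xd2 yd19 zd0) (kd xd3 yd11 zd26) (kd xd3 yd11 zd27) (kd xd3 yd11 zd28) (kd xd4 yd7 zd21) (kd xd2 yd19 zd4) (kd xd2 yd19 zd15)) (@D3.rec (fun _ => Pt) (kd xd2 yd19 zd10) (kd xd2 yd19 zd7) (kd xd3 yd3 zd22) (kd xd2 yd19 zd9) (kd xd4 yd8 zd5) (kd xd4 yd8 zd6) (kd xd3 yd12 zd6) (kd xd3 yd12 zd7) (kd xd3 yd12 zd8)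 (kd xd4 yd8 zd16) (kd xd4 yd8 zd2) (kd xd4 yd8 zd4) (kd xd3 yd12 zd12) (kd xd3 yd12 zd13) (kd xd3 yd12 zd14) (kd xd3 yd12 zd15) (kd xd3 yd12 zd16) (kd xd4 yd1 zd7) (kd xd4 yd1 zd8) (kd xd4 yd8 zd24) (kd xd2 yd19 zd30) (kd xd4 yd1 zd27) (kd xd4 yd8 zd29) (kd xd4 yd8 zd31) (kd xd4 yd1 zd30) (kd xd4 yd9 zd0) (kd xd2 yd20 zd1) (kd xd4 yd9 zd2) (kd xd2 yd20 zd6) (kd xd2 yd20 zd8) (kd xd3 yd12 zd30) (kd xd2 yd20 zd10)) (@D3.rec (fun _ => Pt) (kd xd4 yd9 zd6) (kd xd4 yd2 zd23) (kd xd4 yd9 zd10) (kd xd2 yd20 zd12) (kd xd4 yd9 zd14) (kd xd2 yd20 zd13) (kd xd4 yd9 zd15) (kd xd4 yd9 zd17) (kd xd4 yd9 zd18) (kd xd2 yd20 zd15) (kd xd4 yd9 zd20) (kd xd3 yd13 zd11) (kd xd2 yd20 zd17) (kd xd2 yd20 zd23) (kd xd4 yd9 zd25) (kd xd2 yd20 zd24) (kd xd2 yd20 zd25)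 (kd xd4 yd9 zd27) (kd xd2 yd20 zd27) (kd xd3 yd13 zd19) (kd xd3 yd13 zd20) (kd xd4 yd9 zd5) (kd xd4 yd10 zd3) (kd xd4 yd4 zd0) (kd xd4 yd10 zd4) (kd xd2 yd20 zd31) (kd xd4 yd10 zd7) (kd xd2 yd21 zd0) (kd xd2 yd21 zd2) (kd xd3 yd13 zd29) (kd xd2 yd21 zd4) (kd xd4 yd2 zd9)) (@D3.rec (fun _ => Pt) (kd xd4 yd2 zd7) (kd xd3 yd14 zd1) (kd xd3 yd14 zd2) (kd xd2 yd21 zd30) (kd xd2 yd21 zd9) (kd xd4 yd10 zd19) (kd xd4 yd10 zd21) (kd xd4 yd10 zd22) (kd xd2 yd21 zd11) (kd xd4 yd10 zd25) (kd xd3 yd14 zd10) (kd xd3 yd14 zd11) (kd xd2 yd21 zd13) (kd xd2 yd21 zd15) (kd xd4 yd11 zd0) (kd xd2 yd21 zd16) (kd xd2 yd21 zd17) (kd xd4 yd11 zd2) (kd xd2 yd21 zd19) (kd xd3 yd14 zd19) (kd xd3 yd14 zd20) (kd xd4 yd10 zd12) (kd xd4 yd9 zd31) (kd xd2 yd21 zd23) (kd xd4 yd11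 zd12) (kd xd2 yd21 zd26) (kd xd4 yd9 zd30) (kd xd4 yd11 zd13) (kd xd4 yd9 zd28) (kd xd4 yd9 zd24) (kd xd3 yd14 zd30) (kd xd3 yd14 zd31)) (@D3.rec (fun _ => Pt) (kd xd4 yd11 zd20) (kd xd2 yd21 zd31) (kd xd4 yd11 zd22) (kd xd4 yd11 zd24) (kd xd4 yd11 zd25) (kd xd3 yd0 zd1) (kd xd3 yd15 zd6) (kd xd3 yd15 zd7) (kd xd3 yd0 zd4) (kd xd4 yd11 zd31) (kd xd3 yd0 zd5) (kd xd3 yd0 zd6) (kd xd4 yd12 zd1) (kd xd3 yd15 zd13) (kd xd4 yd1 zd15) (kd xd3 yd0 zd10) (kd xd4 yd12 zd6) (kd xd3 yd0 zd13) (kd xd4 yd1 zd14) (kd xd4 yd12 zd7) (kd xd3 yd15 zd20) (kd xd3 yd0 zd16) (kd xd3 yd15 zd22) (kd xd4 yd12 zd10) (kd xd3 yd0 zd19) (kd xd3 yd15 zd25) (kd xd3 yd15 zd26) (kd xd3 yd2 zd14) (kd xd3 yd15 zd28) (kd xd3 yd15 zd29) (kd xd3 yd0 zd23) (kd xd4 yd12 zd20)) (@D3.rec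 (fun _ => Pt) (kd xd3 yd16 zd0) (kd xd3 yd16 zd1) (kd xd3 yd0 zd25) (kd xd4 yd12 zd26) (kd xd3 yd16 zd4) (kd xd3 yd1 zd14) (kd xd3 yd1 zd15) (kd xd3 yd16 zd7) (kd xd3 yd16 zd8) (kd xd3 yd0 zd30) (kd xd3 yd16 zd10) (kd xd3 yd16 zd11) (kd xd3 yd16 zd12) (kd xd3 yd1 zd17) (kd xd3 yd1 zd18) (kd xd4 yd13 zd9) (kd xd3 yd16 zd16) (kd xd3 yd16 zd17) (kd xd3 yd16 zd18) (kd xd3 yd16 zd19) (kd xd3 yd16 zd20) (kd xd4 yd13 zd15) (kd xd3 yd1 zd20) (kd xd4 yd13 zd17) (kd xd3 yd1 zd11) (kd xd3 yd1 zd12) (kd xd4 yd13 zd19) (kd xd4 yd13 zd21) (kd xd4 yd13 zd25) (kd xd4 yd12 zd30) (kd xd4 yd12 zd31) (kd xd4 yd13 zd28)) (@D3.rec (fun _ => Pt) (kd xd4 yd13 zd7) (kd xd4 yd13 zd30) (kd xd3 yd1 zd19) (kd xd3 yd19 zd20) (kd xd3 yd1 zd21) (kd xd3 yd17 zd5) (kd xd3 yd1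 zd23) (kd xd3 yd1 zd24) (kd xd3 yd17 zd9) (kd xd3 yd17 zd8) (kd xd3 yd17 zd10) (kd xd3 yd1 zd31) (kd xd4 yd14 zd3) (kd xd3 yd17 zd13) (kd xd3 yd2 zd1) (kd xd3 yd17 zd15) (kd xd4 yd14 zd5) (kd xd3 yd2 zd6) (kd xd4 yd8 zd25) (kd xd3 yd17 zd19) (kd xd3 yd2 zd12) (kd xd4 yd12 zd13) (kd xd3 yd17 zd22) (kd xd4 yd14 zd11) (kd xd4 yd14 zd13) (kd xd4 yd14 zd15) (kd xd3 yd2 zd17) (kd xd4 yd14 zd18) (kd xd4 yd14 zd19) (kd xd3 yd17 zd29) (kd xd3 yd2 zd21) (kd xd4 yd14 zd22)) (@D3.rec (fun _ => Pt) (kd xd3 yd2 zd22) (kd xd4 yd14 zd25) (kd xd4 yd2 zd12) (kd xd3 yd2 zd24) (kd xd3 yd2 zd25) (kd xd4 yd14 zd30) (kd xd3 yd2 zd28) (kd xd4 yd15 zd0) (kd xd4 yd15 zd2) (kd xd3 yd2 zd30) (kd xd4 yd15 zd6) (kd xd3 yd2 zd31) (kd xd4 yd15 zd8) (kd xd3 yd3 zd0) (kd xd4 yd15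 zd11) (kd xd4 yd4 zd10) (kd xd3 yd3 zd2) (kd xd4 yd5 zd21) (kd xd4 yd15 zd15) (kd xd3 yd3 zd6) (kd xd4 yd15 zd18) (kd xd4 yd15 zd17) (kd xd3 yd3 zd8) (kd xd4 yd4 zd25) (kd xd4 yd4 zd26) (kd xd3 yd21 zd29) (kd xd3 yd3 zd12) (kd xd4 yd6 zd31) (kd xd4 yd7 zd4) (kd xd3 yd3 zd15) (kd xd4 yd15 zd30) (kd xd3 yd11 zd17)) (@D3.rec (fun _ => Pt) (kd xd3 yd19 zd0) (kd xd3 yd3 zd17) (kd xd4 yd7 zd24) (kd xd3 yd3 zd19) (kd xd3 yd19 zd4) (kd xd3 yd19 zd5) (kd xd3 yd19 zd6) (kd xd4 yd8 zd8) (kd xd4 yd8 zd9) (kd xd3 yd19 zd9) (kd xd3 yd19 zd10) (kd xd3 yd19 zd11) (kd xd4 yd16 zd15) (kd xd3 yd19 zd13) (kd xd3 yd19 zd14) (kd xd4 yd16 zd21) (kd xd3 yd19 zd16) (kd xd3 yd3 zd30) (kd xd3 yd4 zd14) (kd xd3 yd4 zd15) (kd xd3 yd17 zd3) (kd xd3 yd19 zd21) (kd xd4 yd16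 zd29) (kd xd3 yd4 zd0) (kd xd4 yd17 zd0) (kd xd3 yd19 zd25) (kd xd4 yd17 zd2) (kd xd3 yd4 zd23) (kd xd3 yd4 zd24) (kd xd3 yd19 zd29) (kd xd4 yd17 zd6) (kd xd3 yd4 zd6)) (@D3.rec (fun _ => Pt) (kd xd4 yd17 zd9) (kd xd3 yd4 zd29) (kd xd3 yd20 zd2) (kd xd4 yd17 zd13) (kd xd4 yd17 zd15) (kd xd3 yd20 zd5) (kd xd4 yd17 zd19) (kd xd3 yd4 zd11) (kd xd4 yd17 zd22) (kd xd3 yd20 zd9) (kd xd4 yd17 zd25) (kd xd4 yd16 zd25) (kd xd4 yd16 zd26) (kd xd3 yd4 zd16) (kd xd4 yd17 zd28) (kd xd4 yd18 zd0) (kd xd4 yd18 zd2) (kd xd3 yd4 zd18) (kd xd4 yd18 zd5) (kd xd3 yd8 zd9) (kd xd3 yd4 zd20) (kd xd3 yd20 zd21) (kd xd4 yd18 zd10) (kd xd3 yd4 zd22) (kd xd4 yd18 zd13) (kd xd4 yd17 zd4) (kd xd4 yd18 zd14) (kd xd3 yd4 zd26) (kd xd4 yd18 zd17) (kd xd3 yd5 zd25) (kd xd3 yd4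 zd28) (kd xd4 yd18 zd21)) (@D3.rec (fun _ => Pt) (kd xd3 yd21 zd0) (kd xd4 yd18 zd25) (kd xd3 yd4 zd31) (kd xd4 yd18 zd29) (kd xd3 yd5 zd0) (kd xd4 yd18 zd30) (kd xd4 yd19 zd2) (kd xd4 yd19 zd4) (kd xd3 yd5 zd2) (kd xd4 yd19 zd7) (kd xd3 yd9 zd25) (kd xd3 yd5 zd4) (kd xd3 yd6 zd7) (kd xd4 yd19 zd12) (kd xd3 yd5 zd6) (kd xd4 yd19 zd15) (kd xd3 yd21 zd16) (kd xd3 yd5 zd10) (kd xd4 yd19 zd18) (kd xd4 yd19 zd16) (kd xd4 yd19 zd21) (kd xd3 yd5 zd11) (kd xd4 yd19 zd25) (kd xd3 yd5 zd12) (kd xd4 yd19 zd27) (kd xd4 yd19 zd24) (kd xd3 yd5 zd14) (kd xd3 yd10 zd10) (kd xd3 yd10 zd11) (kd xd3 yd18 zd25) (kd xd3 yd9 zd8) (kd xd3 yd5 zd18))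
def f_d_4 : D2 → D3 → Pt := @D2.rec (fun _ => D3 → Pt) (@D3.rec (fun _ => Pt) (kd xd4 yd20 zd4) (kd xd4 yd19 zd23) (kd xd3 yd5 zd20) (kd xd3 yd9 zd12) (kd xd4 yd18 zd16) (kd xd3 yd5 zd24) (kd xd4 yd18 zd18) (kd xd4 yd18 zd19) (kd xd3 yd5 zd27) (kd xd4 yd20 zd12) (kd xd4 yd20 zd16) (kd xd4 yd20 zd17) (kd xd3 yd5 zd29) (kd xd4 yd20 zd20) (kd xd4 yd6 zd17) (kd xd3 yd5 zd31) (kd xd3 yd6 zd1) (kd xd4 yd20 zd24) (kd xd4 yd20 zd22) (kd xd4 yd20 zd26) (kd xd3 yd6 zd2) (kd xd3 yd6 zd3) (kd xd4 yd20 zd28) (kd xd3 yd6 zd5) (kd xd3 yd6 zd8) (kd xd4 yd20 zd27) (kd xd3 yd6 zd12) (kd xd4 yd21 zd3) (kd xd3 yd6 zd11) (kd xd4 yd21 zd7) (kd xd3 yd6 zd13) (kd xd3 yd6 zd19)) (@D3.rec (fun _ => Pt) (kd xd3 yd6 zd16) (kd xd4 yd21 zd9) (kd xd4 yd21 zd1) (kd xd4 yd21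 zd8) (kd xd4 yd21 zd10) (kd xd4 yd1 zd5) (kd xd4 yd1 zd6) (kd xd3 yd12 zd17) (kd xd3 yd12 zd18) (kd xd4 yd21 zd19) (kd xd4 yd1 zd10) (kd xd3 yd6 zd25) (kd xd3 yd7 zd9) (kd xd3 yd7 zd10) (kd xd3 yd15 zd18) (kd xd3 yd15 zd14) (kd xd3 yd6 zd27) (kd xd4 yd21 zd28) (kd xd4 yd1 zd18) (kd xd4 yd21 zd31) (kd xd3 yd7 zd18) (kd xd3 yd7 zd19) (kd xd4 yd1 zd22) (kd xd5 yd0 zd3) (kd xd3 yd7 zd1) (kd xd5 yd0 zd6) (kd xd3 yd7 zd23) (kd xd3 yd12 zd21) (kd xd5 yd0 zd10) (kd xd5 yd0 zd12) (kd xd3 yd12 zd24) (kd xd5 yd0 zd16)) (@D3.rec (fun _ => Pt) (kd xd3 yd7 zd6) (kd xd5 yd0 zd19) (kd xd4 yd2 zd2) (kd xd5 yd0 zd21) (kd xd4 yd21 zd23) (kd xd4 yd21 zd24) (kd xd3 yd7 zd11) (kd xd3 yd14 zd0) (kd xd5 yd0 zd26) (kd xd3 yd13 zd31) (kd xd3 yd7 zd13) (kd xd5 yd0 zd30)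 (kd xd3 yd18 zd2) (kd xd3 yd7 zd15) (kd xd5 yd1 zd2) (kd xd3 yd7 zd17) (kd xd5 yd1 zd5) (kd xd5 yd0 zd1) (kd xd3 yd7 zd20) (kd xd5 yd1 zd6) (kd xd3 yd8 zd16) (kd xd3 yd7 zd22) (kd xd5 yd1 zd10) (kd xd3 yd13 zd1) (kd xd5 yd1 zd14) (kd xd3 yd7 zd25) (kd xd5 yd1 zd18) (kd xd3 yd7 zd26) (kd xd5 yd1 zd19) (kd xd5 yd1 zd23) (kd xd5 yd1 zd25) (kd xd3 yd7 zd28)) (@D3.rec (fun _ => Pt) (kd xd5 yd1 zd28) (kd xd4 yd17 zd21) (kd xd3 yd7 zd30) (kd xd4 yd3 zd3) (kd xd5 yd2 zd1) (kd xd3 yd8 zd0) (kd xd5 yd2 zd4) (kd xd4 yd3 zd7) (kd xd3 yd8 zd4) (kd xd5 yd2 zd7) (kd xd5 yd2 zd5) (kd xd5 yd2 zd10) (kd xd3 yd8 zd5) (kd xd5 yd2 zd14) (kd xd3 yd8 zd6) (kd xd5 yd2 zd16) (kd xd5 yd2 zd13) (kd xd3 yd8 zd8) (kd xd4 yd18 zd6) (kd xd4 yd18 zd7) (kd xd5 yd1 zd1) (kd xd5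 yd1 zd7) (kd xd3 yd8 zd12) (kd xd5 yd2 zd25) (kd xd5 yd2 zd12) (kd xd3 yd8 zd14) (kd xd5 yd1 zd8) (kd xd3 yd8 zd18) (kd xd3 yd10 zd16) (kd xd3 yd10 zd17) (kd xd5 yd1 zd9) (kd xd5 yd3 zd1)) (@D3.rec (fun _ => Pt) (kd xd3 yd13 zd23) (kd xd5 yd3 zd5) (kd xd3 yd8 zd22) (kd xd5 yd3 zd9) (kd xd3 yd8 zd23) (kd xd5 yd3 zd10) (kd xd5 yd3 zd13) (kd xd5 yd3 zd15) (kd xd3 yd8 zd25) (kd xd5 yd3 zd18) (kd xd3 yd18 zd15) (kd xd3 yd8 zd27) (kd xd4 yd19 zd11) (kd xd3 yd8 zd29) (kd xd5 yd3 zd24) (kd xd4 yd4 zd15) (kd xd3 yd9 zd1) (kd xd5 yd3 zd25) (kd xd5 yd3 zd27) (kd xd3 yd9 zd2) (kd xd5 yd3 zd31) (kd xd3 yd9 zd3) (kd xd5 yd4 zd0) (kd xd5 yd3 zd30) (kd xd3 yd9 zd5) (kd xd3 yd18 zd23) (kd xd3 yd18 zd24) (kd xd3 yd10 zd12) (kd xd4 yd20 zd2) (kd xd5 yd3 zd29) (kd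 xd3 yd9 zd10) (kd xd3 yd9 zd14)) (@D3.rec (fun _ => Pt) (kd xd5 yd4 zd9) (kd xd5 yd4 zd13) (kd xd5 yd4 zd15) (kd xd3 yd9 zd16) (kd xd5 yd4 zd19) (kd xd4 yd15 zd4) (kd xd4 yd18 zd28) (kd xd3 yd9 zd18) (kd xd3 yd9 zd20) (kd xd5 yd4 zd27) (kd xd5 yd4 zd25) (kd xd5 yd4 zd29) (kd xd3 yd9 zd21) (kd xd5 yd5 zd1) (kd xd3 yd9 zd22) (kd xd5 yd5 zd3) (kd xd5 yd5 zd0) (kd xd3 yd9 zd24) (kd xd4 yd19 zd8) (kd xd4 yd19 zd9) (kd xd5 yd3 zd21) (kd xd3 yd18 zd17) (kd xd5 yd4 zd31) (kd xd3 yd9 zd30) (kd xd3 yd10 zd2) (kd xd5 yd5 zd14) (kd xd3 yd10 zd1) (kd xd5 yd5 zd18) (kd xd3 yd10 zd3) (kd xd5 yd5 zd20) (kd xd3 yd10 zd14) (kd xd3 yd10 zd8)) (@D3.rec (fun _ => Pt) (kd xd3 yd10 zd5) (kd xd5 yd5 zd19) (kd xd3 yd10 zd7) (kd xd5 yd5 zd24) (kd xd5 yd5 zd25) (kd xd5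 yd4 zd3) (kd xd4 yd19 zd31) (kd xd4 yd20 zd0) (kd xd5 yd6 zd3) (kd xd5 yd5 zd21) (kd xd5 yd5 zd23) (kd xd5 yd2 zd30) (kd xd5 yd2 zd31) (kd xd3 yd10 zd18) (kd xd5 yd6 zd8) (kd xd5 yd6 zd10) (kd xd3 yd10 zd20) (kd xd4 yd0 zd14) (kd xd3 yd10 zd22) (kd xd3 yd10 zd24) (kd xd5 yd6 zd15) (kd xd3 yd10 zd25) (kd xd5 yd6 zd17) (kd xd4 yd21 zd2) (kd xd3 yd10 zd29) (kd xd5 yd6 zd20) (kd xd3 yd10 zd31) (kd xd4 yd15 zd25) (kd xd3 yd11 zd1) (kd xd5 yd6 zd24) (kd xd3 yd11 zd2) (kd xd3 yd18 zd27)) (@D3.rec (fun _ => Pt) (kd xd3 yd11 zd4) (kd xd5 yd6 zd29) (kd xd3 yd11 zd6) (kd xd5 yd6 zd30) (kd xd3 yd18 zd28) (kd xd5 yd5 zd16) (kd xd3 yd11 zd9) (kd xd3 yd11 zd11) (kd xd5 yd7 zd2) (kd xd3 yd11 zd13) (kd xd5 yd7 zd5) (kd xd3 yd11 zd14) (kd xd5 yd7 zd8) (kd xd4 yd15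 zd28) (kd xd5 yd7 zd4) (kd xd3 yd11 zd16) (kd xd5 yd7 zd14) (kd xd4 yd16 zd0) (kd xd4 yd7 zd18) (kd xd4 yd7 zd19) (kd xd4 yd7 zd20) (kd xd3 yd11 zd29) (kd xd3 yd11 zd24) (kd xd3 yd11 zd21) (kd xd3 yd19 zd2) (kd xd3 yd11 zd23) (kd xd5 yd7 zd24) (kd xd5 yd7 zd25) (kd xd4 yd7 zd28) (kd xd4 yd7 zd29) (kd xd4 yd7 zd30) (kd xd5 yd8 zd3)) (@D3.rec (fun _ => Pt) (kd xd5 yd7 zd21) (kd xd5 yd7 zd23) (kd xd3 yd12 zd10) (kd xd5 yd5 zd22) (kd xd3 yd12 zd11) (kd xd3 yd12 zd4) (kd xd3 yd12 zd5) (kd xd4 yd8 zd7) (kd xd3 yd19 zd7) (kd xd3 yd19 zd8) (kd xd4 yd8 zd10) (kd xd5 yd8 zd12) (kd xd5 yd8 zd13) (kd xd5 yd8 zd20) (kd xd4 yd8 zd14) (kd xd5 yd8 zd22) (kd xd3 yd12 zd9) (kd xd5 yd8 zd6) (kd xd5 yd8 zd8) (kd xd4 yd8 zd19) (kd xd4 yd8 zd20) (kd xd4 yd8 zd21) (kd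 xd4 yd21 zd15) (kd xd5 yd8 zd25) (kd xd3 yd12 zd19) (kd xd3 yd17 zd18) (kd xd5 yd8 zd27) (kd xd5 yd0 zd8) (kd xd5 yd8 zd28) (kd xd3 yd12 zd22) (kd xd5 yd8 zd31) (kd xd3 yd12 zd23)) (@D3.rec (fun _ => Pt) (kd xd3 yd12 zd25) (kd xd4 yd9 zd1) (kd xd3 yd12 zd27) (kd xd4 yd9 zd3) (kd xd4 yd9 zd4) (kd xd3 yd13 zd21) (kd xd3 yd13 zd0) (kd xd5 yd9 zd5) (kd xd5 yd9 zd7) (kd xd5 yd9 zd8) (kd xd3 yd13 zd2) (kd xd5 yd9 zd11) (kd xd4 yd9 zd12) (kd xd4 yd9 zd13) (kd xd3 yd13 zd4) (kd xd3 yd13 zd6) (kd xd5 yd9 zd18) (kd xd3 yd13 zd7) (kd xd3 yd13 zd8) (kd xd5 yd9 zd20) (kd xd3 yd13 zd10) (kd xd4 yd9 zd21) (kd xd4 yd9 zd22) (kd xd5 yd9 zd2) (kd xd3 yd14 zd29) (kd xd3 yd13 zd14) (kd xd5 yd5 zd29) (kd xd3 yd13 zd17) (kd xd3 yd14 zd28) (kd xd5 yd9 zd29) (kd xd3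 yd14 zd26) (kd xd3 yd14 zd22)) (@D3.rec (fun _ => Pt) (kd xd4 yd10 zd0) (kd xd4 yd10 zd1) (kd xd5 yd10 zd4) (kd xd3 yd13 zd22) (kd xd3 yd13 zd24) (kd xd4 yd10 zd5) (kd xd4 yd10 zd6) (kd xd3 yd13 zd26) (kd xd5 yd0 zd15) (kd xd5 yd0 zd13) (kd xd4 yd10 zd10) (kd xd4 yd10 zd11) (kd xd3 yd14 zd21) (kd xd5 yd0 zd28) (kd xd4 yd21 zd12) (kd xd4 yd10 zd15) (kd xd4 yd10 zd16) (kd xd5 yd10 zd21) (kd xd4 yd10 zd18) (kd xd3 yd14 zd5) (kd xd5 yd10 zd25) (kd xd3 yd14 zd6) (kd xd3 yd14 zd7) (kd xd4 yd10 zd23) (kd xd5 yd10 zd28) (kd xd3 yd14 zd9) (kd xd5 yd11 zd4) (kd xd4 yd10 zd27) (kd xd4 yd10 zd28) (kd xd4 yd10 zd29) (kd xd5 yd10 zd13) (kd xd5 yd9 zd24)) (@D3.rec (fun _ => Pt) (kd xd3 yd14 zd14) (kd xd5 yd11 zd13) (kd xd3 yd14 zd17) (kd xd5 yd9 zd23) (kd xd5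 yd11 zd14) (kd xd5 yd9 zd21) (kd xd5 yd9 zd17) (kd xd4 yd11 zd7) (kd xd4 yd11 zd8) (kd xd5 yd11 zd21) (kd xd5 yd2 zd19) (kd xd5 yd5 zd17) (kd xd3 yd14 zd24) (kd xd3 yd14 zd27) (kd xd5 yd10 zd0) (kd xd5 yd11 zd24) (kd xd5 yd9 zd30) (kd xd5 yd11 zd28) (kd xd4 yd11 zd18) (kd xd5 yd11 zd30) (kd xd3 yd15 zd0) (kd xd4 yd11 zd21) (kd xd3 yd15 zd2) (kd xd5 yd12 zd3) (kd xd3 yd15 zd3) (kd xd3 yd15 zd4) (kd xd4 yd11 zd26) (kd xd5 yd12 zd6) (kd xd5 yd12 zd11) (kd xd4 yd11 zd29) (kd xd4 yd21 zd18) (kd xd3 yd15 zd9)) (@D3.rec (fun _ => Pt) (kd xd5 yd12 zd15) (kd xd3 yd15 zd12) (kd xd4 yd21 zd17) (kd xd5 yd12 zd16) (kd xd4 yd21 zd26) (kd xd5 yd6 zd19) (kd xd3 yd15 zd16) (kd xd3 yd15 zd19) (kd xd4 yd12 zd8) (kd xd5 yd12 zd21) (kd xd3 yd15 zd23) (kd xd4 yd12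 zd11) (kd xd4 yd12 zd12) (kd xd3 yd17 zd21) (kd xd4 yd12 zd14) (kd xd4 yd12 zd15) (kd xd5 yd12 zd17) (kd xd4 yd12 zd17) (kd xd4 yd12 zd18) (kd xd4 yd12 zd19) (kd xd3 yd15 zd31) (kd xd5 yd13 zd2) (kd xd4 yd12 zd22) (kd xd4 yd12 zd23) (kd xd4 yd12 zd24) (kd xd4 yd12 zd25) (kd xd3 yd16 zd3) (kd xd5 yd13 zd9) (kd xd5 yd13 zd11) (kd xd5 yd13 zd15) (kd xd3 yd16 zd29) (kd xd3 yd16 zd30)) (@D3.rec (fun _ => Pt) (kd xd5 yd13 zd18) (kd xd4 yd13 zd1) (kd xd4 yd13 zd2) (kd xd4 yd13 zd3) (kd xd4 yd13 zd4) (kd xd4 yd13 zd5) (kd xd5 yd13 zd24) (kd xd3 yd17 zd0) (kd xd5 yd13 zd26) (kd xd3 yd16 zd15) (kd xd4 yd13 zd10) (kd xd4 yd13 zd11) (kd xd5 yd13 zd30) (kd xd4 yd13 zd13) (kd xd5 yd14 zd0) (kd xd3 yd16 zd21) (kd xd4 yd16 zd27) (kd xd3 yd16 zd23) (kd xd5 yd11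 zd31) (kd xd3 yd16 zd26) (kd xd4 yd13 zd20) (kd xd3 yd16 zd27) (kd xd5 yd14 zd3) (kd xd5 yd14 zd5) (kd xd5 yd14 zd10) (kd xd3 yd16 zd28) (kd xd5 yd13 zd16) (kd xd5 yd14 zd13) (kd xd3 yd16 zd31) (kd xd4 yd16 zd18) (kd xd3 yd17 zd1) (kd xd4 yd13 zd31)) (@D3.rec (fun _ => Pt) (kd xd4 yd14 zd1) (kd xd4 yd14 zd0) (kd xd4 yd14 zd2) (kd xd3 yd17 zd12) (kd xd4 yd14 zd4) (kd xd3 yd17 zd16) (kd xd5 yd8 zd26) (kd xd4 yd14 zd7) (kd xd5 yd12 zd23) (kd xd5 yd14 zd19) (kd xd5 yd14 zd21) (kd xd3 yd17 zd23) (kd xd5 yd14 zd25) (kd xd3 yd17 zd24) (kd xd5 yd14 zd27) (kd xd3 yd17 zd25) (kd xd5 yd14 zd30) (kd xd5 yd0 zd18) (kd xd3 yd17 zd27) (kd xd3 yd17 zd28) (kd xd5 yd15 zd3) (kd xd5 yd15 zd4) (kd xd3 yd17 zd31) (kd xd5 yd15 zd8) (kd xd5 yd15 zd7) (kd xd3 yd18 zd1)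 (kd xd5 yd0 zd31) (kd xd5 yd1 zd0) (kd xd4 yd18 zd8) (kd xd5 yd15 zd6) (kd xd3 yd18 zd5) (kd xd4 yd18 zd20)) (@D3.rec (fun _ => Pt) (kd xd3 yd18 zd7) (kd xd5 yd15 zd19) (kd xd3 yd18 zd8) (kd xd5 yd15 zd23) (kd xd4 yd5 zd5) (kd xd5 yd3 zd8) (kd xd3 yd18 zd10) (kd xd5 yd15 zd29) (kd xd3 yd18 zd12) (kd xd5 yd16 zd0) (kd xd5 yd15 zd31) (kd xd3 yd18 zd14) (kd xd5 yd3 zd19) (kd xd5 yd3 zd20) (kd xd4 yd19 zd10) (kd xd3 yd18 zd18) (kd xd5 yd16 zd8) (kd xd3 yd18 zd21) (kd xd3 yd18 zd20) (kd xd5 yd16 zd9) (kd xd5 yd16 zd10) (kd xd4 yd19 zd30) (kd xd5 yd4 zd4) (kd xd5 yd4 zd5) (kd xd5 yd16 zd17) (kd xd4 yd6 zd27) (kd xd5 yd6 zd23) (kd xd5 yd6 zd27) (kd xd4 yd7 zd13) (kd xd5 yd7 zd7) (kd xd3 yd18 zd30) (kd xd5 yd16 zd25)) (@D3.rec (fun _ => Pt) (kd xd4 yd7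 zd17) (kd xd4 yd16 zd1) (kd xd4 yd16 zd2) (kd xd4 yd16 zd3) (kd xd5 yd7 zd27) (kd xd5 yd7 zd28) (kd xd4 yd16 zd6) (kd xd4 yd16 zd7) (kd xd4 yd16 zd8) (kd xd5 yd17 zd5) (kd xd5 yd8 zd15) (kd xd5 yd8 zd16) (kd xd5 yd17 zd8) (kd xd4 yd16 zd13) (kd xd5 yd17 zd10) (kd xd3 yd19 zd12) (kd xd4 yd16 zd16) (kd xd5 yd17 zd14) (kd xd4 yd13 zd29) (kd xd4 yd16 zd19) (kd xd5 yd17 zd18) (kd xd3 yd19 zd15) (kd xd5 yd17 zd21) (kd xd4 yd16 zd23) (kd xd5 yd17 zd23) (kd xd3 yd20 zd11) (kd xd3 yd20 zd12) (kd xd4 yd13 zd16) (kd xd5 yd17 zd27) (kd xd3 yd19 zd22) (kd xd5 yd17 zd30) (kd xd4 yd16 zd31)) (@D3.rec (fun _ => Pt) (kd xd3 yd19 zd24) (kd xd5 yd18 zd2) (kd xd3 yd19 zd26) (kd xd5 yd18 zd5) (kd xd3 yd20 zd25) (kd xd5 yd18 zd6) (kd xd3 yd19 zd30) (kd xd5 yd18 zd9)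 (kd xd4 yd17 zd8) (kd xd3 yd20 zd0) (kd xd5 yd18 zd13) (kd xd4 yd17 zd11) (kd xd5 yd18 zd17) (kd xd3 yd20 zd3) (kd xd5 yd18 zd21) (kd xd3 yd20 zd4) (kd xd5 yd18 zd22) (kd xd5 yd18 zd26) (kd xd5 yd18 zd28) (kd xd3 yd20 zd6) (kd xd5 yd18 zd31) (kd xd4 yd3 zd1) (kd xd3 yd20 zd8) (kd xd4 yd17 zd23) (kd xd5 yd19 zd4) (kd xd3 yd20 zd10) (kd xd5 yd19 zd7) (kd xd5 yd17 zd25) (kd xd3 yd20 zd14) (kd xd5 yd19 zd10) (kd xd5 yd19 zd8) (kd xd5 yd19 zd13)) (@D3.rec (fun _ => Pt) (kd xd3 yd20 zd15) (kd xd5 yd19 zd17) (kd xd3 yd20 zd16) (kd xd5 yd19 zd19) (kd xd5 yd19 zd16) (kd xd3 yd20 zd18) (kd xd4 yd3 zd18) (kd xd4 yd3 zd19) (kd xd4 yd14 zd28) (kd xd5 yd19 zd26) (kd xd3 yd20 zd22) (kd xd5 yd19 zd29) (kd xd5 yd19 zd15) (kd xd3 yd20 zd24) (kd xd3 yd20 zd26) (kd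 xd5 yd20 zd2) (kd xd4 yd0 zd4) (kd xd3 yd20 zd28) (kd xd4 yd0 zd6) (kd xd4 yd0 zd7) (kd xd4 yd14 zd31) (kd xd3 yd20 zd31) (kd xd5 yd20 zd10) (kd xd5 yd20 zd14) (kd xd5 yd20 zd16) (kd xd3 yd21 zd1) (kd xd5 yd20 zd20) (kd xd5 yd3 zd7) (kd xd4 yd5 zd6) (kd xd3 yd21 zd3) (kd xd3 yd21 zd5) (kd xd5 yd20 zd28)) (@D3.rec (fun _ => Pt) (kd xd5 yd20 zd26) (kd xd5 yd20 zd31) (kd xd3 yd21 zd6) (kd xd5 yd21 zd3) (kd xd3 yd21 zd7) (kd xd5 yd21 zd5) (kd xd5 yd21 zd2) (kd xd3 yd21 zd9) (kd xd4 yd5 zd18) (kd xd4 yd5 zd19) (kd xd4 yd15 zd14) (kd xd4 yd4 zd12) (kd xd3 yd21 zd13) (kd xd5 yd21 zd14) (kd xd5 yd21 zd1) (kd xd3 yd21 zd15) (kd xd3 yd21 zd19) (kd xd5 yd21 zd19) (kd xd3 yd21 zd18) (kd xd5 yd21 zd23) (kd xd5 yd21 zd24) (kd xd3 yd21 zd20) (kd xd5 yd21 zd28)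 (kd xd4 yd0 zd1) (kd xd3 yd21 zd25) (kd xd3 yd21 zd22) (kd xd5 yd21 zd27) (kd xd3 yd21 zd24) (kd xd6 yd0 zd0) (kd xd6 yd0 zd1) (kd xd4 yd15 zd21) (kd xd4 yd6 zd6)) (@D3.rec (fun _ => Pt) (kd xd4 yd6 zd7) (kd xd6 yd0 zd11) (kd xd4 yd4 zd28) (kd xd5 yd21 zd26) (kd xd4 yd0 zd0) (kd xd5 yd21 zd29) (kd xd5 yd21 zd31) (kd xd5 yd20 zd3) (kd xd5 yd20 zd4) (kd xd5 yd20 zd6) (kd xd5 yd20 zd7) (kd xd5 yd6 zd7) (kd xd4 yd0 zd9) (kd xd6 yd0 zd23) (kd xd6 yd0 zd21) (kd xd6 yd0 zd25) (kd xd4 yd0 zd10) (kd xd4 yd0 zd11) (kd xd5 yd6 zd11) (kd xd6 yd0 zd27) (kd xd4 yd0 zd13) (kd xd5 yd6 zd13) (kd xd4 yd0 zd18) (kd xd6 yd1 zd3) (kd xd4 yd0 zd17) (kd xd6 yd1 zd7) (kd xd4 yd0 zd19) (kd xd4 yd0 zd25) (kd xd4 yd0 zd22) (kd xd6 yd1 zd9) (kd xd6 yd1 zd1) (kd xd6 yd1 zd8))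 (@D3.rec (fun _ => Pt) (kd xd6 yd1 zd10) (kd xd4 yd1 zd2) (kd xd4 yd6 zd23) (kd xd4 yd0 zd27) (kd xd6 yd1 zd18) (kd xd5 yd21 zd21) (kd xd4 yd21 zd6) (kd xd4 yd0 zd29) (kd xd4 yd1 zd3) (kd xd4 yd1 zd1) (kd xd4 yd1 zd4) (kd xd4 yd21 zd11) (kd xd4 yd10 zd14) (kd xd6 yd1 zd23) (kd xd4 yd21 zd14) (kd xd4 yd8 zd22) (kd xd6 yd1 zd27) (kd xd4 yd12 zd2) (kd xd4 yd11 zd30) (kd xd4 yd1 zd9) (kd xd6 yd2 zd0) (kd xd4 yd21 zd21) (kd xd6 yd2 zd2) (kd xd4 yd2 zd4) (kd xd4 yd2 zd5) (kd xd6 yd1 zd14) (kd xd4 yd12 zd4) (kd xd4 yd21 zd27) (kd xd4 yd1 zd17) (kd xd4 yd21 zd29) (kd xd6 yd2 zd8) (kd xd4 yd1 zd19))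
def f_d_5 : D2 → D3 → Pt := @D2.rec (fun _ => D3 → Pt) (@D3.rec (fun _ => Pt) (kd xd6 yd2 zd11) (kd xd4 yd2 zd17) (kd xd6 yd2 zd12) (kd xd4 yd1 zd23) (kd xd6 yd2 zd14) (kd xd5 yd0 zd5) (kd xd4 yd1 zd25) (kd xd6 yd2 zd18) (kd xd4 yd8 zd27) (kd xd6 yd2 zd22) (kd xd4 yd1 zd28) (kd xd6 yd2 zd26) (kd xd4 yd1 zd29) (kd xd4 yd10 zd9) (kd xd6 yd2 zd29) (kd xd4 yd10 zd8) (kd xd4 yd1 zd31) (kd xd6 yd3 zd1) (kd xd4 yd14 zd17) (kd xd4 yd2 zd1) (kd xd6 yd3 zd5) (kd xd4 yd2 zd3) (kd xd6 yd3 zd8) (kd xd6 yd2 zd4) (kd xd6 yd3 zd9) (kd xd6 yd3 zd11) (kd xd4 yd2 zd8) (kd xd6 yd3 zd15) (kd xd4 yd10 zd13) (kd xd6 yd3 zd14) (kd xd4 yd2 zd11) (kd xd4 yd14 zd26)) (@D3.rec (fun _ => Pt) (kd xd4 yd14 zd27) (kd xd4 yd3 zd20) (kd xd4 yd2 zd14) (kd xd6 yd3 zd20) (kd xd6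 yd3 zd13) (kd xd4 yd2 zd16) (kd xd4 yd2 zd19) (kd xd4 yd3 zd21) (kd xd4 yd3 zd26) (kd xd4 yd3 zd30) (kd xd4 yd2 zd22) (kd xd6 yd3 zd29) (kd xd6 yd4 zd1) (kd xd6 yd4 zd3) (kd xd4 yd2 zd24) (kd xd6 yd4 zd7) (kd xd5 yd14 zd23) (kd xd5 yd18 zd20) (kd xd4 yd2 zd26) (kd xd4 yd2 zd28) (kd xd6 yd4 zd15) (kd xd6 yd4 zd13) (kd xd6 yd4 zd18) (kd xd4 yd2 zd29) (kd xd6 yd4 zd22) (kd xd4 yd2 zd30) (kd xd6 yd4 zd24) (kd xd6 yd4 zd21) (kd xd4 yd3 zd0) (kd xd5 yd19 zd0) (kd xd5 yd19 zd1) (kd xd6 yd3 zd4)) (@D3.rec (fun _ => Pt) (kd xd6 yd3 zd25) (kd xd4 yd3 zd4) (kd xd6 yd5 zd1) (kd xd6 yd4 zd20) (kd xd4 yd3 zd6) (kd xd4 yd3 zd10) (kd xd6 yd5 zd6) (kd xd4 yd3 zd9) (kd xd6 yd5 zd10) (kd xd6 yd5 zd11) (kd xd4 yd3 zd11) (kd xd6 yd5 zd15) (kd xd4 yd3 zd24) (kd xd4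 yd3 zd16) (kd xd4 yd3 zd13) (kd xd6 yd5 zd14) (kd xd4 yd3 zd15) (kd xd6 yd5 zd19) (kd xd6 yd5 zd20) (kd xd4 yd11 zd10) (kd xd5 yd19 zd23) (kd xd5 yd19 zd24) (kd xd6 yd5 zd29) (kd xd6 yd3 zd26) (kd xd6 yd5 zd13) (kd xd4 yd3 zd23) (kd xd6 yd5 zd16) (kd xd6 yd5 zd18) (kd xd6 yd3 zd23) (kd xd6 yd3 zd24) (kd xd4 yd6 zd11) (kd xd4 yd6 zd12)) (@D3.rec (fun _ => Pt) (kd xd5 yd20 zd5) (kd xd4 yd3 zd31) (kd xd6 yd6 zd6) (kd xd6 yd6 zd9) (kd xd6 yd6 zd11) (kd xd4 yd4 zd1) (kd xd6 yd6 zd15) (kd xd4 yd18 zd27) (kd xd4 yd15 zd5) (kd xd4 yd4 zd3) (kd xd4 yd4 zd5) (kd xd6 yd6 zd21) (kd xd6 yd6 zd23) (kd xd4 yd4 zd6) (kd xd6 yd6 zd27) (kd xd4 yd4 zd7) (kd xd6 yd6 zd28) (kd xd6 yd6 zd26) (kd xd4 yd4 zd9) (kd xd4 yd15 zd12) (kd xd4 yd15 zd13) (kd xd4 yd5 zd20) (kd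 xd5 yd21 zd12) (kd xd6 yd6 zd25) (kd xd4 yd4 zd14) (kd xd4 yd4 zd17) (kd xd6 yd7 zd6) (kd xd4 yd4 zd18) (kd xd6 yd7 zd7) (kd xd4 yd4 zd29) (kd xd4 yd4 zd23) (kd xd4 yd4 zd20)) (@D3.rec (fun _ => Pt) (kd xd4 yd4 zd22) (kd xd6 yd7 zd10) (kd xd6 yd7 zd11) (kd xd4 yd6 zd5) (kd xd4 yd15 zd22) (kd xd4 yd15 zd23) (kd xd6 yd7 zd16) (kd xd6 yd7 zd9) (kd xd5 yd15 zd17) (kd xd4 yd5 zd0) (kd xd6 yd7 zd21) (kd xd6 yd7 zd19) (kd xd6 yd7 zd23) (kd xd4 yd5 zd1) (kd xd6 yd7 zd27) (kd xd4 yd5 zd2) (kd xd6 yd7 zd30) (kd xd5 yd15 zd21) (kd xd6 yd7 zd26) (kd xd4 yd5 zd4) (kd xd6 yd8 zd4) (kd xd5 yd15 zd25) (kd xd5 yd20 zd23) (kd xd5 yd20 zd24) (kd xd6 yd6 zd20) (kd xd4 yd5 zd10) (kd xd6 yd8 zd13) (kd xd4 yd5 zd9) (kd xd6 yd8 zd17) (kd xd4 yd5 zd11) (kd xd6 yd8 zd19)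 (kd xd4 yd5 zd22)) (@D3.rec (fun _ => Pt) (kd xd4 yd5 zd16) (kd xd4 yd5 zd13) (kd xd6 yd8 zd18) (kd xd4 yd5 zd15) (kd xd6 yd8 zd23) (kd xd6 yd8 zd24) (kd xd6 yd6 zd31) (kd xd5 yd21 zd9) (kd xd5 yd21 zd10) (kd xd6 yd9 zd2) (kd xd6 yd8 zd20) (kd xd6 yd8 zd22) (kd xd5 yd5 zd12) (kd xd6 yd7 zd5) (kd xd4 yd5 zd25) (kd xd6 yd9 zd8) (kd xd4 yd7 zd5) (kd xd4 yd11 zd11) (kd xd4 yd5 zd27) (kd xd4 yd6 zd1) (kd xd4 yd5 zd29) (kd xd4 yd6 zd9) (kd xd4 yd8 zd3) (kd xd4 yd6 zd10) (kd xd4 yd6 zd3) (kd xd4 yd6 zd4) (kd xd6 yd7 zd12) (kd xd6 yd9 zd15) (kd xd6 yd9 zd16) (kd xd4 yd9 zd26) (kd xd6 yd9 zd24) (kd xd6 yd9 zd25)) (@D3.rec (fun _ => Pt) (kd xd6 yd10 zd0) (kd xd6 yd0 zd9) (kd xd6 yd10 zd2) (kd xd4 yd6 zd8) (kd xd6 yd9 zd18) (kd xd6 yd9 zd20) (kd xd6 yd6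 zd3) (kd xd4 yd20 zd11) (kd xd4 yd6 zd14) (kd xd6 yd10 zd8) (kd xd4 yd6 zd15) (kd xd4 yd20 zd18) (kd xd6 yd10 zd11) (kd xd4 yd20 zd21) (kd xd6 yd1 zd2) (kd xd4 yd6 zd20) (kd xd6 yd10 zd15) (kd xd4 yd6 zd22) (kd xd6 yd1 zd15) (kd xd4 yd12 zd5) (kd xd4 yd6 zd25) (kd xd5 yd6 zd26) (kd xd6 yd10 zd18) (kd xd4 yd15 zd26) (kd xd4 yd6 zd29) (kd xd6 yd10 zd22) (kd xd5 yd6 zd21) (kd xd4 yd15 zd27) (kd xd6 yd8 zd15) (kd xd4 yd7 zd1) (kd xd4 yd7 zd3) (kd xd6 yd10 zd26)) (@D3.rec (fun _ => Pt) (kd xd6 yd9 zd9) (kd xd6 yd9 zd11) (kd xd4 yd7 zd8) (kd xd5 yd7 zd6) (kd xd4 yd7 zd14) (kd xd4 yd7 zd10) (kd xd5 yd7 zd3) (kd xd4 yd15 zd29) (kd xd4 yd7 zd12) (kd xd6 yd11 zd8) (kd xd5 yd16 zd21) (kd xd6 yd11 zd0) (kd xd6 yd11 zd1) (kd xd5 yd7 zd13) (kd xd4 yd7 zd16)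 (kd xd6 yd11 zd15) (kd xd6 yd11 zd17) (kd xd6 yd11 zd21) (kd xd5 yd7 zd18) (kd xd5 yd7 zd19) (kd xd6 yd11 zd24) (kd xd4 yd8 zd0) (kd xd6 yd8 zd21) (kd xd4 yd8 zd1) (kd xd4 yd7 zd26) (kd xd4 yd7 zd27) (kd xd5 yd7 zd26) (kd xd4 yd16 zd4) (kd xd4 yd16 zd5) (kd xd5 yd7 zd29) (kd xd6 yd11 zd31) (kd xd6 yd12 zd0)) (@D3.rec (fun _ => Pt) (kd xd6 yd12 zd7) (kd xd5 yd8 zd1) (kd xd6 yd12 zd9) (kd xd4 yd7 zd31) (kd xd6 yd11 zd25) (kd xd6 yd11 zd27) (kd xd4 yd8 zd17) (kd xd6 yd9 zd19) (kd xd4 yd8 zd18) (kd xd6 yd9 zd21) (kd xd6 yd9 zd22) (kd xd6 yd0 zd5) (kd xd4 yd8 zd11) (kd xd4 yd8 zd12) (kd xd6 yd12 zd22) (kd xd4 yd16 zd10) (kd xd4 yd16 zd11) (kd xd6 yd12 zd25) (kd xd6 yd12 zd20) (kd xd6 yd12 zd27) (kd xd4 yd8 zd13) (kd xd5 yd17 zd26) (kd xd4 yd8 zd15)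 (kd xd6 yd10 zd3) (kd xd6 yd12 zd13) (kd xd4 yd8 zd23) (kd xd4 yd14 zd6) (kd xd4 yd8 zd26) (kd xd4 yd8 zd28) (kd xd5 yd8 zd29) (kd xd5 yd8 zd30) (kd xd4 yd8 zd30)) (@D3.rec (fun _ => Pt) (kd xd5 yd9 zd0) (kd xd5 yd9 zd1) (kd xd4 yd9 zd23) (kd xd6 yd13 zd7) (kd xd5 yd9 zd4) (kd xd4 yd9 zd7) (kd xd6 yd13 zd11) (kd xd4 yd9 zd8) (kd xd4 yd9 zd9) (kd xd5 yd9 zd9) (kd xd6 yd13 zd14) (kd xd4 yd9 zd11) (kd xd6 yd13 zd22) (kd xd5 yd9 zd13) (kd xd5 yd9 zd14) (kd xd5 yd9 zd15) (kd xd6 yd13 zd5) (kd xd4 yd11 zd6) (kd xd4 yd9 zd16) (kd xd6 yd8 zd28) (kd xd4 yd9 zd19) (kd xd4 yd11 zd5) (kd xd6 yd13 zd30) (kd xd4 yd11 zd3) (kd xd4 yd10 zd31) (kd xd5 yd9 zd25) (kd xd5 yd9 zd26) (kd xd6 yd14 zd5) (kd xd6 yd5 zd9) (kd xd4 yd9 zd29) (kd xd4 yd11 zd16) (kd xd6 yd14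 zd7)) (@D3.rec (fun _ => Pt) (kd xd4 yd11 zd14) (kd xd6 yd9 zd7) (kd xd5 yd10 zd2) (kd xd6 yd14 zd12) (kd xd4 yd10 zd2) (kd xd5 yd10 zd5) (kd xd6 yd2 zd21) (kd xd5 yd10 zd7) (kd xd6 yd2 zd19) (kd xd6 yd14 zd18) (kd xd5 yd10 zd10) (kd xd5 yd10 zd11) (kd xd5 yd10 zd12) (kd xd4 yd10 zd30) (kd xd6 yd2 zd31) (kd xd6 yd1 zd24) (kd xd5 yd10 zd16) (kd xd5 yd10 zd17) (kd xd6 yd14 zd27) (kd xd5 yd10 zd19) (kd xd6 yd14 zd29) (kd xd4 yd10 zd17) (kd xd5 yd10 zd22) (kd xd6 yd15 zd0) (kd xd6 yd13 zd21) (kd xd4 yd10 zd20) (kd xd6 yd15 zd5) (kd xd5 yd10 zd27) (kd xd4 yd10 zd24) (kd xd5 yd10 zd29) (kd xd6 yd13 zd20) (kd xd6 yd15 zd10)) (@D3.rec (fun _ => Pt) (kd xd5 yd11 zd0) (kd xd6 yd15 zd7) (kd xd6 yd13 zd16) (kd xd6 yd13 zd10) (kd xd4 yd10 zd26) (kd xd6 yd15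 zd17) (kd xd6 yd15 zd19) (kd xd6 yd15 zd23) (kd xd5 yd11 zd8) (kd xd5 yd11 zd9) (kd xd6 yd15 zd26) (kd xd6 yd4 zd27) (kd xd6 yd8 zd16) (kd xd4 yd11 zd1) (kd xd4 yd11 zd4) (kd xd6 yd14 zd1) (kd xd6 yd15 zd29) (kd xd6 yd13 zd31) (kd xd6 yd16 zd1) (kd xd5 yd11 zd19) (kd xd6 yd16 zd3) (kd xd4 yd11 zd9) (kd xd6 yd9 zd12) (kd xd6 yd9 zd13) (kd xd4 yd11 zd15) (kd xd6 yd14 zd9) (kd xd6 yd14 zd8) (kd xd6 yd16 zd8) (kd xd4 yd11 zd17) (kd xd5 yd18 zd4) (kd xd4 yd11 zd19) (kd xd4 yd13 zd18)) (@D3.rec (fun _ => Pt) (kd xd5 yd12 zd0) (kd xd6 yd16 zd11) (kd xd6 yd1 zd26) (kd xd4 yd11 zd23) (kd xd6 yd16 zd16) (kd xd5 yd12 zd5) (kd xd4 yd11 zd27) (kd xd5 yd12 zd7) (kd xd6 yd1 zd25) (kd xd5 yd14 zd9) (kd xd5 yd14 zd14) (kd xd4 yd11 zd28) (kd xd5 yd14 zd11) (kd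 xd6 yd1 zd30) (kd xd6 yd10 zd14) (kd xd4 yd12 zd0) (kd xd4 yd12 zd3) (kd xd4 yd12 zd16) (kd xd6 yd10 zd16) (kd xd5 yd12 zd19) (kd xd6 yd16 zd23) (kd xd4 yd12 zd9) (kd xd6 yd16 zd26) (kd xd4 yd14 zd8) (kd xd5 yd12 zd24) (kd xd5 yd12 zd25) (kd xd6 yd16 zd18) (kd xd5 yd12 zd27) (kd xd6 yd16 zd20) (kd xd6 yd16 zd30) (kd xd5 yd12 zd30) (kd xd5 yd12 zd31)) (@D3.rec (fun _ => Pt) (kd xd5 yd13 zd0) (kd xd5 yd13 zd1) (kd xd4 yd12 zd21) (kd xd6 yd17 zd5) (kd xd6 yd17 zd7) (kd xd6 yd17 zd11) (kd xd5 yd13 zd6) (kd xd5 yd13 zd7) (kd xd6 yd17 zd14) (kd xd4 yd12 zd27) (kd xd6 yd11 zd16) (kd xd4 yd12 zd28) (kd xd6 yd17 zd16) (kd xd6 yd17 zd18) (kd xd6 yd17 zd23) (kd xd4 yd12 zd29) (kd xd4 yd13 zd26) (kd xd6 yd17 zd26) (kd xd4 yd13 zd0) (kd xd5 yd13 zd19) (kd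 xd5 yd13 zd20) (kd xd6 yd17 zd30) (kd xd5 yd13 zd22) (kd xd6 yd18 zd0) (kd xd4 yd13 zd6) (kd xd5 yd17 zd16) (kd xd4 yd13 zd8) (kd xd6 yd16 zd4) (kd xd5 yd13 zd28) (kd xd6 yd18 zd4) (kd xd4 yd13 zd12) (kd xd5 yd17 zd29)) (@D3.rec (fun _ => Pt) (kd xd4 yd13 zd14) (kd xd6 yd16 zd9) (kd xd5 yd14 zd2) (kd xd4 yd13 zd22) (kd xd5 yd14 zd4) (kd xd4 yd13 zd23) (kd xd5 yd14 zd6) (kd xd5 yd14 zd18) (kd xd6 yd18 zd7) (kd xd5 yd12 zd9) (kd xd4 yd13 zd24) (kd xd5 yd12 zd12) (kd xd5 yd17 zd12) (kd xd4 yd13 zd27) (kd xd5 yd12 zd10) (kd xd5 yd14 zd15) (kd xd5 yd14 zd16) (kd xd6 yd12 zd30) (kd xd5 yd14 zd7) (kd xd4 yd14 zd9) (kd xd6 yd18 zd15) (kd xd4 yd14 zd10) (kd xd6 yd18 zd19) (kd xd5 yd1 zd16) (kd xd6 yd2 zd25) (kd xd4 yd14 zd12) (kd xd6 yd18 zd25) (kd xd4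 yd14 zd14) (kd xd6 yd18 zd29) (kd xd6 yd18 zd28) (kd xd4 yd14 zd16) (kd xd6 yd3 zd2)) (@D3.rec (fun _ => Pt) (kd xd6 yd3 zd3) (kd xd5 yd19 zd2) (kd xd6 yd18 zd27) (kd xd4 yd14 zd20) (kd xd4 yd14 zd21) (kd xd6 yd19 zd9) (kd xd4 yd14 zd29) (kd xd4 yd14 zd24) (kd xd4 yd14 zd23) (kd xd6 yd19 zd12) (kd xd6 yd19 zd13) (kd xd5 yd19 zd22) (kd xd6 yd1 zd20) (kd xd6 yd3 zd17) (kd xd6 yd19 zd20) (kd xd6 yd19 zd11) (kd xd5 yd20 zd0) (kd xd5 yd4 zd8) (kd xd6 yd19 zd23) (kd xd4 yd15 zd1) (kd xd6 yd19 zd27) (kd xd5 yd4 zd17) (kd xd6 yd19 zd26) (kd xd4 yd15 zd3) (kd xd6 yd20 zd1) (kd xd5 yd4 zd21) (kd xd6 yd6 zd18) (kd xd6 yd6 zd19) (kd xd5 yd20 zd25) (kd xd4 yd15 zd7) (kd xd6 yd20 zd9) (kd xd4 yd15 zd10)) (@D3.rec (fun _ => Pt) (kd xd4 yd15 zd9) (kd xd6 yd20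 zd10) (kd xd6 yd20 zd11) (kd xd5 yd21 zd8) (kd xd6 yd7 zd0) (kd xd6 yd7 zd1) (kd xd6 yd20 zd18) (kd xd5 yd16 zd7) (kd xd4 yd15 zd16) (kd xd4 yd15 zd19) (kd xd4 yd15 zd20) (kd xd6 yd0 zd2) (kd xd6 yd20 zd22) (kd xd6 yd20 zd23) (kd xd6 yd20 zd27) (kd xd6 yd7 zd14) (kd xd6 yd20 zd29) (kd xd4 yd15 zd24) (kd xd6 yd20 zd31) (kd xd6 yd10 zd20) (kd xd6 yd21 zd1) (kd xd5 yd7 zd10) (kd xd6 yd11 zd5) (kd xd6 yd11 zd6) (kd xd5 yd16 zd24) (kd xd4 yd15 zd31) (kd xd6 yd21 zd8) (kd xd6 yd21 zd10) (kd xd6 yd21 zd14) (kd xd5 yd16 zd29) (kd xd5 yd16 zd30) (kd xd6 yd21 zd17)) (@D3.rec (fun _ => Pt) (kd xd6 yd12 zd2) (kd xd6 yd12 zd3) (kd xd6 yd21 zd20) (kd xd5 yd17 zd3) (kd xd6 yd21 zd22) (kd xd4 yd16 zd9) (kd xd6 yd12 zd23) (kd xd6 yd21 zd25) (kd xd4 yd16 zd12)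 (kd xd6 yd21 zd27) (kd xd4 yd16 zd14) (kd xd6 yd20 zd30) (kd xd5 yd14 zd12) (kd xd7 yd0 zd0) (kd xd4 yd16 zd17) (kd xd7 yd0 zd4) (kd xd5 yd13 zd25) (kd xd7 yd0 zd6) (kd xd4 yd16 zd20) (kd xd7 yd0 zd9) (kd xd5 yd17 zd20) (kd xd4 yd16 zd22) (kd xd7 yd0 zd13) (kd xd4 yd16 zd24) (kd xd7 yd0 zd16) (kd xd4 yd17 zd27) (kd xd5 yd8 zd21) (kd xd4 yd16 zd28) (kd xd7 yd0 zd17) (kd xd5 yd13 zd31) (kd xd4 yd16 zd30) (kd xd5 yd17 zd31)) (@D3.rec (fun _ => Pt) (kd xd5 yd18 zd0) (kd xd5 yd18 zd1) (kd xd4 yd17 zd1) (kd xd7 yd0 zd24) (kd xd5 yd11 zd29) (kd xd4 yd17 zd3) (kd xd4 yd17 zd5) (kd xd7 yd0 zd30) (kd xd5 yd18 zd8) (kd xd4 yd17 zd7) (kd xd5 yd18 zd10) (kd xd5 yd18 zd11) (kd xd5 yd18 zd12) (kd xd4 yd17 zd10) (kd xd7 yd1 zd6) (kd xd7 yd1 zd10) (kd xd7 yd1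 zd12) (kd xd4 yd17 zd12) (kd xd7 yd1 zd16) (kd xd6 yd2 zd24) (kd xd5 yd1 zd17) (kd xd4 yd17 zd14) (kd xd4 yd17 zd16) (kd xd7 yd1 zd24) (kd xd7 yd1 zd22) (kd xd7 yd1 zd27) (kd xd4 yd17 zd17) (kd xd7 yd1 zd31) (kd xd4 yd17 zd18) (kd xd7 yd2 zd1) (kd xd7 yd1 zd30) (kd xd4 yd17 zd20)) (@D3.rec (fun _ => Pt) (kd xd5 yd1 zd29) (kd xd5 yd1 zd30) (kd xd5 yd15 zd1) (kd xd7 yd2 zd8) (kd xd4 yd17 zd24) (kd xd7 yd2 zd11) (kd xd7 yd1 zd29) (kd xd4 yd17 zd26) (kd xd4 yd17 zd30) (kd xd7 yd2 zd16) (kd xd4 yd17 zd29) (kd xd7 yd2 zd20) (kd xd7 yd2 zd21) (kd xd4 yd17 zd31) (kd xd7 yd2 zd25) (kd xd4 yd18 zd12) (kd xd4 yd18 zd4) (kd xd4 yd18 zd1) (kd xd7 yd2 zd24) (kd xd4 yd18 zd3) (kd xd7 yd2 zd29) (kd xd7 yd2 zd30) (kd xd5 yd15 zd11) (kd xd5 yd2 zd20) (kd xd5 yd2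 zd21) (kd xd7 yd3 zd7) (kd xd4 yd18 zd9) (kd xd7 yd3 zd10) (kd xd7 yd2 zd23) (kd xd4 yd18 zd11) (kd xd7 yd2 zd26) (kd xd7 yd2 zd28)) (@D3.rec (fun _ => Pt) (kd xd5 yd15 zd16) (kd xd5 yd20 zd1) (kd xd4 yd18 zd15) (kd xd4 yd20 zd7) (kd xd4 yd20 zd8) (kd xd5 yd3 zd0) (kd xd4 yd20 zd9) (kd xd4 yd20 zd10) (kd xd7 yd3 zd18) (kd xd6 yd6 zd5) (kd xd4 yd18 zd22) (kd xd7 yd3 zd28) (kd xd7 yd3 zd26) (kd xd7 yd3 zd31) (kd xd4 yd18 zd23) (kd xd7 yd4 zd3) (kd xd4 yd18 zd24) (kd xd7 yd4 zd6) (kd xd6 yd6 zd13) (kd xd7 yd4 zd2) (kd xd4 yd18 zd26) (kd xd7 yd4 zd12) (kd xd6 yd6 zd17) (kd xd5 yd4 zd22) (kd xd5 yd4 zd23) (kd xd5 yd15 zd28) (kd xd4 yd19 zd0) (kd xd7 yd4 zd21) (kd xd4 yd18 zd31) (kd xd7 yd4 zd25) (kd xd7 yd4 zd26) (kd xd4 yd19 zd1)) (@D3.rec (fun _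 => Pt) (kd xd7 yd4 zd30) (kd xd4 yd19 zd14) (kd xd4 yd19 zd6) (kd xd4 yd19 zd3) (kd xd7 yd4 zd29) (kd xd4 yd19 zd5) (kd xd7 yd5 zd2) (kd xd7 yd5 zd3) (kd xd5 yd16 zd3) (kd xd5 yd5 zd7) (kd xd5 yd5 zd8) (kd xd7 yd5 zd13) (kd xd5 yd3 zd22) (kd xd7 yd4 zd28) (kd xd4 yd19 zd13) (kd xd7 yd4 zd31) (kd xd7 yd5 zd1) (kd xd5 yd21 zd17) (kd xd7 yd5 zd19) (kd xd4 yd19 zd17) (kd xd7 yd5 zd23) (kd xd4 yd21 zd5) (kd xd5 yd21 zd22) (kd xd4 yd19 zd19) (kd xd4 yd19 zd20) (kd xd7 yd5 zd31) (kd xd4 yd20 zd3) (kd xd4 yd19 zd26) (kd xd4 yd19 zd22) (kd xd4 yd20 zd5) (kd xd5 yd21 zd30) (kd xd4 yd20 zd6))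
def f_d_6 : D2 → D3 → Pt := @D2.rec (fun _ => D3 → Pt) (@D3.rec (fun _ => Pt) (kd xd4 yd19 zd28) (kd xd4 yd19 zd29) (kd xd5 yd16 zd11) (kd xd7 yd6 zd3) (kd xd7 yd6 zd4) (kd xd5 yd8 zd11) (kd xd7 yd6 zd12) (kd xd7 yd6 zd13) (kd xd7 yd6 zd20) (kd xd5 yd6 zd1) (kd xd7 yd6 zd22) (kd xd4 yd20 zd1) (kd xd7 yd6 zd0) (kd xd7 yd6 zd2) (kd xd7 yd6 zd6) (kd xd7 yd6 zd8) (kd xd7 yd3 zd19) (kd xd7 yd3 zd20) (kd xd7 yd3 zd22) (kd xd6 yd10 zd5) (kd xd7 yd6 zd30) (kd xd4 yd20 zd14) (kd xd7 yd7 zd2) (kd xd4 yd20 zd13) (kd xd7 yd7 zd6) (kd xd4 yd20 zd15) (kd xd6 yd10 zd10) (kd xd4 yd20 zd19) (kd xd6 yd0 zd31) (kd xd7 yd7 zd8) (kd xd7 yd7 zd12) (kd xd6 yd0 zd28)) (@D3.rec (fun _ => Pt) (kd xd7 yd7 zd0) (kd xd4 yd20 zd30) (kd xd5 yd6 zd14) (kd xd4 yd20 zd23) (kd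 xd7 yd7 zd18) (kd xd7 yd4 zd23) (kd xd6 yd1 zd6) (kd xd4 yd20 zd25) (kd xd4 yd20 zd31) (kd xd4 yd20 zd29) (kd xd4 yd21 zd0) (kd xd6 yd1 zd11) (kd xd7 yd7 zd23) (kd xd7 yd7 zd24) (kd xd4 yd21 zd25) (kd xd5 yd6 zd18) (kd xd7 yd5 zd21) (kd xd6 yd1 zd17) (kd xd4 yd21 zd4) (kd xd7 yd5 zd24) (kd xd5 yd15 zd12) (kd xd7 yd5 zd26) (kd xd6 yd1 zd22) (kd xd4 yd21 zd13) (kd xd5 yd10 zd15) (kd xd5 yd12 zd8) (kd xd5 yd12 zd2) (kd xd4 yd21 zd16) (kd xd7 yd8 zd5) (kd xd7 yd7 zd14) (kd xd5 yd12 zd13) (kd xd6 yd1 zd31)) (@D3.rec (fun _ => Pt) (kd xd4 yd21 zd20) (kd xd7 yd8 zd8) (kd xd4 yd21 zd22) (kd xd7 yd8 zd11) (kd xd5 yd0 zd23) (kd xd7 yd7 zd27) (kd xd6 yd2 zd6) (kd xd7 yd8 zd12) (kd xd4 yd21 zd30) (kd xd7 yd8 zd15) (kd xd7 yd5 zd18) (kd xd5 yd0 zd0) (kd xd5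 yd0 zd2) (kd xd7 yd8 zd19) (kd xd5 yd0 zd4) (kd xd6 yd2 zd15) (kd xd6 yd2 zd16) (kd xd6 yd2 zd17) (kd xd5 yd0 zd7) (kd xd5 yd10 zd8) (kd xd7 yd8 zd27) (kd xd5 yd10 zd6) (kd xd5 yd0 zd9) (kd xd7 yd9 zd0) (kd xd5 yd18 zd19) (kd xd5 yd14 zd24) (kd xd5 yd0 zd11) (kd xd7 yd9 zd6) (kd xd7 yd9 zd8) (kd xd5 yd0 zd14) (kd xd7 yd9 zd12) (kd xd5 yd10 zd14)) (@D3.rec (fun _ => Pt) (kd xd7 yd9 zd11) (kd xd5 yd0 zd17) (kd xd5 yd14 zd31) (kd xd5 yd15 zd0) (kd xd5 yd1 zd31) (kd xd5 yd0 zd20) (kd xd7 yd9 zd17) (kd xd7 yd9 zd10) (kd xd5 yd0 zd22) (kd xd5 yd0 zd24) (kd xd7 yd9 zd21) (kd xd5 yd0 zd25) (kd xd7 yd9 zd23) (kd xd5 yd1 zd4) (kd xd5 yd0 zd29) (kd xd5 yd0 zd27) (kd xd7 yd9 zd26) (kd xd5 yd15 zd13) (kd xd7 yd9 zd29) (kd xd7 yd9 zd22) (kd xd5 yd1 zd3) (kd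 xd7 yd9 zd24) (kd xd7 yd9 zd25) (kd xd5 yd2 zd28) (kd xd5 yd2 zd29) (kd xd5 yd2 zd0) (kd xd5 yd2 zd23) (kd xd7 yd3 zd21) (kd xd6 yd18 zd13) (kd xd5 yd1 zd11) (kd xd7 yd10 zd9) (kd xd7 yd10 zd7)) (@D3.rec (fun _ => Pt) (kd xd7 yd10 zd12) (kd xd5 yd1 zd12) (kd xd7 yd10 zd16) (kd xd5 yd1 zd13) (kd xd7 yd10 zd19) (kd xd6 yd18 zd17) (kd xd7 yd10 zd15) (kd xd5 yd1 zd15) (kd xd7 yd10 zd25) (kd xd6 yd18 zd21) (kd xd7 yd1 zd19) (kd xd7 yd1 zd20) (kd xd7 yd9 zd5) (kd xd5 yd1 zd21) (kd xd7 yd11 zd1) (kd xd5 yd1 zd20) (kd xd7 yd11 zd5) (kd xd7 yd11 zd6) (kd xd5 yd1 zd22) (kd xd7 yd11 zd10) (kd xd5 yd2 zd3) (kd xd5 yd1 zd27) (kd xd5 yd1 zd24) (kd xd7 yd11 zd9) (kd xd5 yd1 zd26) (kd xd7 yd11 zd14) (kd xd7 yd11 zd15) (kd xd5 yd11 zd11) (kd xd7 yd2 zd5) (kd xd7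 yd2 zd6) (kd xd7 yd11 zd24) (kd xd7 yd10 zd3)) (@D3.rec (fun _ => Pt) (kd xd7 yd11 zd8) (kd xd5 yd2 zd2) (kd xd7 yd11 zd11) (kd xd7 yd11 zd13) (kd xd7 yd9 zd20) (kd xd7 yd11 zd31) (kd xd5 yd2 zd6) (kd xd7 yd12 zd2) (kd xd6 yd5 zd8) (kd xd5 yd9 zd28) (kd xd5 yd2 zd8) (kd xd5 yd2 zd9) (kd xd7 yd12 zd10) (kd xd5 yd2 zd24) (kd xd5 yd2 zd15) (kd xd5 yd2 zd11) (kd xd5 yd2 zd26) (kd xd6 yd5 zd17) (kd xd5 yd2 zd27) (kd xd5 yd2 zd17) (kd xd5 yd2 zd18) (kd xd7 yd9 zd27) (kd xd7 yd12 zd13) (kd xd7 yd12 zd14) (kd xd7 yd12 zd22) (kd xd7 yd12 zd23) (kd xd7 yd12 zd29) (kd xd7 yd3 zd5) (kd xd7 yd12 zd31) (kd xd5 yd2 zd22) (kd xd7 yd12 zd12) (kd xd7 yd9 zd31)) (@D3.rec (fun _ => Pt) (kd xd7 yd12 zd16) (kd xd7 yd12 zd18) (kd xd7 yd13 zd4) (kd xd5 yd6 zd6) (kd xd7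 yd3 zd13) (kd xd5 yd20 zd9) (kd xd5 yd3 zd2) (kd xd7 yd13 zd8) (kd xd7 yd13 zd10) (kd xd5 yd3 zd3) (kd xd7 yd13 zd14) (kd xd5 yd3 zd4) (kd xd7 yd13 zd16) (kd xd5 yd20 zd18) (kd xd7 yd13 zd13) (kd xd5 yd3 zd6) (kd xd7 yd13 zd22) (kd xd5 yd20 zd22) (kd xd5 yd15 zd26) (kd xd5 yd15 zd27) (kd xd5 yd4 zd24) (kd xd5 yd3 zd11) (kd xd7 yd13 zd30) (kd xd5 yd3 zd12) (kd xd7 yd13 zd31) (kd xd5 yd3 zd23) (kd xd5 yd3 zd17) (kd xd5 yd3 zd14) (kd xd5 yd3 zd16) (kd xd7 yd14 zd3) (kd xd7 yd14 zd4) (kd xd5 yd5 zd6)) (@D3.rec (fun _ => Pt) (kd xd5 yd16 zd4) (kd xd5 yd16 zd5) (kd xd7 yd14 zd9) (kd xd7 yd14 zd0) (kd xd7 yd14 zd2) (kd xd5 yd5 zd13) (kd xd5 yd3 zd26) (kd xd5 yd3 zd28) (kd xd6 yd7 zd8) (kd xd5 yd4 zd7) (kd xd5 yd4 zd1) (kd xd5 yd4 zd2) (kd xd5 yd5 zd26)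 (kd xd7 yd14 zd17) (kd xd5 yd16 zd15) (kd xd7 yd14 zd20) (kd xd5 yd4 zd6) (kd xd6 yd10 zd23) (kd xd7 yd14 zd24) (kd xd5 yd4 zd11) (kd xd7 yd14 zd28) (kd xd5 yd4 zd10) (kd xd7 yd15 zd0) (kd xd5 yd4 zd12) (kd xd7 yd15 zd3) (kd xd6 yd19 zd25) (kd xd5 yd4 zd18) (kd xd5 yd4 zd14) (kd xd6 yd10 zd29) (kd xd7 yd15 zd2) (kd xd5 yd4 zd16) (kd xd7 yd15 zd15)) (@D3.rec (fun _ => Pt) (kd xd6 yd19 zd29) (kd xd7 yd15 zd7) (kd xd7 yd15 zd8) (kd xd7 yd13 zd21) (kd xd5 yd4 zd20) (kd xd7 yd15 zd22) (kd xd7 yd15 zd24) (kd xd7 yd15 zd28) (kd xd7 yd4 zd16) (kd xd7 yd4 zd17) (kd xd7 yd15 zd31) (kd xd6 yd8 zd11) (kd xd7 yd13 zd29) (kd xd5 yd4 zd26) (kd xd7 yd16 zd3) (kd xd5 yd6 zd28) (kd xd5 yd11 zd12) (kd xd5 yd4 zd28) (kd xd5 yd5 zd2) (kd xd5 yd4 zd30) (kd xd5 yd5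 zd10) (kd xd5 yd7 zd22) (kd xd5 yd5 zd11) (kd xd5 yd5 zd4) (kd xd5 yd5 zd5) (kd xd7 yd14 zd5) (kd xd7 yd16 zd10) (kd xd7 yd16 zd11) (kd xd5 yd9 zd19) (kd xd7 yd16 zd19) (kd xd7 yd16 zd20) (kd xd7 yd16 zd27)) (@D3.rec (fun _ => Pt) (kd xd7 yd5 zd11) (kd xd7 yd16 zd29) (kd xd5 yd5 zd9) (kd xd7 yd16 zd13) (kd xd7 yd16 zd15) (kd xd7 yd8 zd14) (kd xd7 yd14 zd11) (kd xd5 yd10 zd1) (kd xd5 yd5 zd15) (kd xd5 yd7 zd0) (kd xd6 yd9 zd10) (kd xd5 yd7 zd1) (kd xd5 yd11 zd22) (kd xd5 yd11 zd23) (kd xd7 yd14 zd12) (kd xd5 yd5 zd27) (kd xd5 yd5 zd28) (kd xd7 yd14 zd13) (kd xd5 yd6 zd4) (kd xd5 yd8 zd7) (kd xd5 yd6 zd5) (kd xd5 yd8 zd9) (kd xd5 yd8 zd10) (kd xd7 yd6 zd5) (kd xd5 yd5 zd30) (kd xd5 yd5 zd31) (kd xd7 yd17 zd24) (kd xd7 yd17 zd11) (kd xd7 yd17 zd12)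 (kd xd7 yd12 zd7) (kd xd7 yd17 zd22) (kd xd7 yd17 zd28)) (@D3.rec (fun _ => Pt) (kd xd5 yd6 zd0) (kd xd7 yd0 zd26) (kd xd5 yd6 zd2) (kd xd5 yd8 zd23) (kd xd7 yd17 zd15) (kd xd6 yd0 zd19) (kd xd7 yd17 zd31) (kd xd7 yd7 zd1) (kd xd5 yd6 zd9) (kd xd7 yd18 zd4) (kd xd6 yd0 zd26) (kd xd5 yd6 zd12) (kd xd6 yd18 zd9) (kd xd7 yd7 zd15) (kd xd5 yd12 zd14) (kd xd5 yd6 zd16) (kd xd5 yd12 zd18) (kd xd7 yd18 zd7) (kd xd5 yd6 zd22) (kd xd7 yd18 zd11) (kd xd5 yd16 zd19) (kd xd7 yd18 zd9) (kd xd5 yd6 zd25) (kd xd6 yd7 zd17) (kd xd7 yd16 zd4) (kd xd7 yd16 zd6) (kd xd5 yd6 zd31) (kd xd7 yd17 zd2) (kd xd7 yd17 zd4) (kd xd6 yd7 zd28) (kd xd7 yd18 zd21) (kd xd6 yd11 zd4)) (@D3.rec (fun _ => Pt) (kd xd5 yd7 zd11) (kd xd5 yd7 zd12) (kd xd6 yd11 zd2) (kd xd7 yd18 zd28)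 (kd xd6 yd10 zd31) (kd xd5 yd16 zd22) (kd xd5 yd16 zd23) (kd xd6 yd11 zd7) (kd xd5 yd7 zd9) (kd xd7 yd19 zd3) (kd xd7 yd19 zd5) (kd xd7 yd19 zd9) (kd xd7 yd18 zd25) (kd xd7 yd18 zd26) (kd xd7 yd19 zd12) (kd xd5 yd7 zd15) (kd xd5 yd13 zd10) (kd xd5 yd7 zd16) (kd xd7 yd19 zd14) (kd xd7 yd19 zd16) (kd xd7 yd19 zd21) (kd xd5 yd7 zd17) (kd xd6 yd11 zd22) (kd xd7 yd19 zd24) (kd xd5 yd7 zd20) (kd xd5 yd8 zd4) (kd xd7 yd16 zd14) (kd xd5 yd8 zd5) (kd xd7 yd16 zd16) (kd xd7 yd16 zd17) (kd xd7 yd5 zd7) (kd xd5 yd7 zd30)) (@D3.rec (fun _ => Pt) (kd xd5 yd7 zd31) (kd xd7 yd20 zd4) (kd xd5 yd17 zd0) (kd xd5 yd17 zd1) (kd xd7 yd20 zd7) (kd xd7 yd20 zd2) (kd xd7 yd20 zd9) (kd xd5 yd8 zd0) (kd xd7 yd0 zd5) (kd xd5 yd8 zd2) (kd xd7 yd16 zd30) (kd xd7 yd19 zd27)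 (kd xd7 yd17 zd14) (kd xd5 yd8 zd24) (kd xd7 yd17 zd16) (kd xd7 yd17 zd17) (kd xd7 yd3 zd1) (kd xd7 yd17 zd19) (kd xd7 yd17 zd20) (kd xd7 yd20 zd20) (kd xd5 yd8 zd18) (kd xd7 yd20 zd22) (kd xd5 yd8 zd14) (kd xd5 yd17 zd6) (kd xd7 yd20 zd25) (kd xd5 yd8 zd17) (kd xd7 yd0 zd19) (kd xd5 yd8 zd19) (kd xd7 yd17 zd29) (kd xd6 yd12 zd29) (kd xd5 yd14 zd17) (kd xd6 yd12 zd31)) (@D3.rec (fun _ => Pt) (kd xd6 yd13 zd0) (kd xd7 yd20 zd28) (kd xd6 yd13 zd2) (kd xd6 yd13 zd3) (kd xd6 yd13 zd4) (kd xd5 yd9 zd16) (kd xd7 yd21 zd1) (kd xd5 yd9 zd3) (kd xd6 yd13 zd8) (kd xd7 yd21 zd3) (kd xd5 yd11 zd3) (kd xd5 yd9 zd6) (kd xd7 yd15 zd14) (kd xd6 yd13 zd13) (kd xd5 yd9 zd10) (kd xd6 yd13 zd15) (kd xd5 yd11 zd2) (kd xd7 yd21 zd11) (kd xd6 yd13 zd18) (kd xd7 yd21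 zd8) (kd xd5 yd10 zd30) (kd xd5 yd10 zd24) (kd xd5 yd9 zd12) (kd xd7 yd21 zd18) (kd xd7 yd21 zd20) (kd xd7 yd21 zd24) (kd xd6 yd13 zd26) (kd xd6 yd13 zd27) (kd xd7 yd21 zd27) (kd xd7 yd11 zd4) (kd xd5 yd9 zd22) (kd xd5 yd11 zd17)) (@D3.rec (fun _ => Pt) (kd xd7 yd21 zd29) (kd xd5 yd11 zd15) (kd xd7 yd16 zd2) (kd xd6 yd14 zd3) (kd xd8 yd0 zd2) (kd xd5 yd9 zd27) (kd xd7 yd12 zd6) (kd xd5 yd9 zd31) (kd xd5 yd11 zd26) (kd xd5 yd11 zd25) (kd xd7 yd17 zd0) (kd xd7 yd0 zd25) (kd xd5 yd10 zd3) (kd xd6 yd14 zd13) (kd xd8 yd0 zd6) (kd xd7 yd8 zd29) (kd xd8 yd0 zd8) (kd xd7 yd7 zd26) (kd xd5 yd10 zd9) (kd xd8 yd0 zd10) (kd xd8 yd0 zd12) (kd xd8 yd0 zd16) (kd xd6 yd14 zd22) (kd xd6 yd14 zd23) (kd xd8 yd0 zd19) (kd xd6 yd14 zd25) (kd xd8 yd0 zd21) (kd xd5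 yd10 zd18) (kd xd7 yd8 zd16) (kd xd5 yd10 zd20) (kd xd6 yd14 zd30) (kd xd8 yd0 zd23)) (@D3.rec (fun _ => Pt) (kd xd5 yd10 zd23) (kd xd8 yd0 zd27) (kd xd7 yd10 zd24) (kd xd8 yd0 zd25) (kd xd7 yd14 zd31) (kd xd5 yd10 zd26) (kd xd8 yd1 zd0) (kd xd5 yd11 zd1) (kd xd8 yd1 zd3) (kd xd7 yd21 zd16) (kd xd5 yd10 zd31) (kd xd8 yd1 zd6) (kd xd8 yd1 zd8) (kd xd8 yd1 zd12) (kd xd8 yd1 zd2) (kd xd7 yd21 zd10) (kd xd8 yd1 zd15) (kd xd5 yd11 zd5) (kd xd7 yd15 zd23) (kd xd5 yd11 zd6) (kd xd8 yd1 zd17) (kd xd8 yd1 zd19) (kd xd8 yd1 zd24) (kd xd5 yd11 zd7) (kd xd6 yd15 zd24) (kd xd8 yd1 zd27) (kd xd5 yd11 zd10) (kd xd7 yd16 zd7) (kd xd7 yd16 zd8) (kd xd5 yd11 zd16) (kd xd7 yd21 zd31) (kd xd7 yd21 zd30)) (@D3.rec (fun _ => Pt) (kd xd8 yd2 zd0) (kd xd5 yd11 zd18)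 (kd xd7 yd0 zd15) (kd xd5 yd11 zd20) (kd xd5 yd13 zd27) (kd xd7 yd17 zd8) (kd xd7 yd17 zd9) (kd xd7 yd2 zd27) (kd xd5 yd11 zd27) (kd xd5 yd14 zd1) (kd xd8 yd2 zd4) (kd xd5 yd12 zd1) (kd xd8 yd2 zd8) (kd xd7 yd8 zd2) (kd xd8 yd2 zd6) (kd xd7 yd18 zd3) (kd xd5 yd12 zd4) (kd xd6 yd18 zd11) (kd xd5 yd12 zd26) (kd xd7 yd18 zd6) (kd xd5 yd12 zd28) (kd xd6 yd17 zd20) (kd xd6 yd17 zd24) (kd xd5 yd12 zd20) (kd xd8 yd2 zd14) (kd xd7 yd18 zd10) (kd xd5 yd12 zd22) (kd xd6 yd17 zd27) (kd xd6 yd16 zd28) (kd xd8 yd2 zd11) (kd xd5 yd12 zd29) (kd xd8 yd2 zd19)) (@D3.rec (fun _ => Pt) (kd xd8 yd2 zd21) (kd xd8 yd2 zd25) (kd xd6 yd17 zd2) (kd xd6 yd17 zd3) (kd xd8 yd2 zd28) (kd xd5 yd13 zd3) (kd xd7 yd19 zd4) (kd xd5 yd13 zd4) (kd xd8 yd2 zd30) (kd xd8 yd3 zd0)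 (kd xd8 yd3 zd5) (kd xd5 yd13 zd5) (kd xd6 yd17 zd12) (kd xd8 yd3 zd8) (kd xd5 yd13 zd8) (kd xd8 yd2 zd29) (kd xd5 yd13 zd12) (kd xd7 yd19 zd15) (kd xd5 yd13 zd13) (kd xd7 yd19 zd17) (kd xd6 yd16 zd21) (kd xd8 yd3 zd11) (kd xd8 yd3 zd16) (kd xd5 yd13 zd14) (kd xd6 yd16 zd22) (kd xd6 yd21 zd31) (kd xd5 yd13 zd17) (kd xd6 yd16 zd27) (kd xd6 yd17 zd28) (kd xd8 yd3 zd18) (kd xd5 yd13 zd21) (kd xd7 yd0 zd8)) (@D3.rec (fun _ => Pt) (kd xd5 yd13 zd23) (kd xd8 yd2 zd1) (kd xd8 yd2 zd2) (kd xd7 yd0 zd18) (kd xd5 yd13 zd29) (kd xd7 yd12 zd4) (kd xd6 yd18 zd6) (kd xd5 yd14 zd8) (kd xd6 yd18 zd8) (kd xd6 yd10 zd12) (kd xd6 yd18 zd12) (kd xd6 yd16 zd17) (kd xd6 yd18 zd10) (kd xd6 yd3 zd28) (kd xd8 yd3 zd24) (kd xd5 yd14 zd20) (kd xd8 yd3 zd28) (kd xd6 yd4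 zd5) (kd xd8 yd3 zd27) (kd xd5 yd14 zd22) (kd xd8 yd4 zd2) (kd xd6 yd4 zd9) (kd xd7 yd9 zd3) (kd xd7 yd9 zd4) (kd xd7 yd1 zd21) (kd xd5 yd14 zd26) (kd xd8 yd4 zd11) (kd xd5 yd15 zd2) (kd xd5 yd14 zd29) (kd xd5 yd14 zd28) (kd xd8 yd4 zd15) (kd xd8 yd4 zd16)) (@D3.rec (fun _ => Pt) (kd xd7 yd2 zd4) (kd xd7 yd7 zd20) (kd xd7 yd9 zd14) (kd xd8 yd4 zd23) (kd xd8 yd4 zd12) (kd xd8 yd4 zd14) (kd xd7 yd2 zd14) (kd xd6 yd19 zd7) (kd xd6 yd19 zd8) (kd xd5 yd15 zd5) (kd xd6 yd19 zd10) (kd xd5 yd15 zd15) (kd xd5 yd15 zd9) (kd xd5 yd15 zd10) (kd xd7 yd2 zd31) (kd xd7 yd5 zd25) (kd xd8 yd4 zd31) (kd xd8 yd5 zd3) (kd xd7 yd8 zd0) (kd xd8 yd5 zd5) (kd xd5 yd15 zd14) (kd xd8 yd5 zd7) (kd xd8 yd5 zd8) (kd xd5 yd15 zd18) (kd xd8 yd5 zd12) (kd xd6 yd7 zd25) (kd xd5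 yd15 zd22) (kd xd5 yd15 zd20) (kd xd8 yd5 zd18) (kd xd6 yd8 zd0) (kd xd8 yd5 zd15) (kd xd8 yd5 zd16)) (@D3.rec (fun _ => Pt) (kd xd7 yd4 zd11) (kd xd5 yd15 zd24) (kd xd8 yd5 zd25) (kd xd8 yd5 zd27) (kd xd8 yd5 zd31) (kd xd7 yd13 zd26) (kd xd7 yd13 zd27) (kd xd8 yd6 zd2) (kd xd6 yd20 zd8) (kd xd5 yd15 zd30) (kd xd5 yd16 zd1) (kd xd5 yd16 zd2) (kd xd7 yd5 zd4) (kd xd8 yd6 zd6) (kd xd8 yd6 zd7) (kd xd8 yd6 zd11) (kd xd7 yd14 zd7) (kd xd8 yd6 zd13) (kd xd5 yd16 zd6) (kd xd6 yd20 zd19) (kd xd6 yd20 zd20) (kd xd7 yd5 zd29) (kd xd5 yd16 zd12) (kd xd5 yd16 zd13) (kd xd8 yd6 zd19) (kd xd8 yd6 zd17) (kd xd8 yd6 zd21) (kd xd5 yd16 zd14) (kd xd8 yd6 zd23) (kd xd5 yd16 zd16) (kd xd5 yd17 zd11) (kd xd5 yd16 zd18)) (@D3.rec (fun _ => Pt) (kd xd8 yd6 zd28) (kd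 xd5 yd16 zd20) (kd xd8 yd6 zd29) (kd xd8 yd6 zd31) (kd xd8 yd7 zd3) (kd xd7 yd19 zd0) (kd xd7 yd19 zd1) (kd xd8 yd7 zd6) (kd xd5 yd16 zd26) (kd xd6 yd21 zd9) (kd xd5 yd16 zd27) (kd xd8 yd7 zd8) (kd xd8 yd7 zd10) (kd xd8 yd7 zd15) (kd xd5 yd16 zd28) (kd xd6 yd21 zd15) (kd xd8 yd7 zd18) (kd xd5 yd16 zd31) (kd xd7 yd20 zd5) (kd xd8 yd7 zd21) (kd xd5 yd17 zd2) (kd xd8 yd7 zd23) (kd xd5 yd17 zd4) (kd xd8 yd6 zd14) (kd xd8 yd7 zd27) (kd xd5 yd17 zd7) (kd xd8 yd6 zd22) (kd xd5 yd17 zd9) (kd xd8 yd6 zd24) (kd xd8 yd7 zd29) (kd xd8 yd6 zd26) (kd xd6 yd17 zd25))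
def f_d_7 : D2 → D3 → Pt := @D2.rec (fun _ => D3 → Pt) (@D3.rec (fun _ => Pt) (kd xd5 yd17 zd13) (kd xd8 yd8 zd6) (kd xd7 yd8 zd3) (kd xd7 yd0 zd3) (kd xd5 yd17 zd15) (kd xd6 yd12 zd8) (kd xd5 yd17 zd17) (kd xd8 yd8 zd12) (kd xd6 yd17 zd31) (kd xd5 yd17 zd19) (kd xd7 yd0 zd10) (kd xd7 yd0 zd11) (kd xd7 yd0 zd12) (kd xd5 yd17 zd22) (kd xd8 yd8 zd19) (kd xd6 yd16 zd2) (kd xd5 yd17 zd24) (kd xd5 yd17 zd28) (kd xd6 yd18 zd3) (kd xd6 yd12 zd26) (kd xd7 yd0 zd20) (kd xd7 yd0 zd21) (kd xd7 yd0 zd22) (kd xd8 yd8 zd28) (kd xd5 yd18 zd3) (kd xd6 yd14 zd11) (kd xd6 yd10 zd1) (kd xd7 yd0 zd27) (kd xd7 yd0 zd28) (kd xd7 yd0 zd29) (kd xd5 yd18 zd7) (kd xd7 yd0 zd31)) (@D3.rec (fun _ => Pt) (kd xd7 yd1 zd0) (kd xd7 yd1 zd1) (kd xd7 yd1 zd2) (kd xd7 yd1 zd3)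 (kd xd8 yd9 zd9) (kd xd7 yd8 zd24) (kd xd5 yd18 zd14) (kd xd8 yd9 zd13) (kd xd8 yd9 zd11) (kd xd8 yd9 zd16) (kd xd5 yd18 zd15) (kd xd8 yd9 zd20) (kd xd5 yd18 zd16) (kd xd8 yd9 zd22) (kd xd7 yd8 zd30) (kd xd8 yd9 zd19) (kd xd5 yd18 zd18) (kd xd8 yd9 zd28) (kd xd7 yd9 zd2) (kd xd6 yd4 zd10) (kd xd6 yd4 zd11) (kd xd6 yd18 zd24) (kd xd5 yd18 zd24) (kd xd8 yd10 zd4) (kd xd5 yd18 zd23) (kd xd8 yd10 zd8) (kd xd8 yd10 zd9) (kd xd5 yd18 zd25) (kd xd8 yd10 zd13) (kd xd5 yd19 zd6) (kd xd5 yd18 zd30) (kd xd5 yd18 zd27)) (@D3.rec (fun _ => Pt) (kd xd8 yd10 zd12) (kd xd5 yd18 zd29) (kd xd8 yd10 zd17) (kd xd8 yd10 zd18) (kd xd6 yd19 zd0) (kd xd6 yd4 zd28) (kd xd6 yd4 zd29) (kd xd8 yd10 zd27) (kd xd5 yd19 zd3) (kd xd8 yd10 zd30) (kd xd8 yd10 zd11) (kd xd5 yd19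 zd5) (kd xd8 yd10 zd14) (kd xd8 yd10 zd16) (kd xd6 yd19 zd6) (kd xd8 yd11 zd5) (kd xd5 yd19 zd9) (kd xd8 yd11 zd9) (kd xd7 yd2 zd18) (kd xd7 yd2 zd19) (kd xd5 yd19 zd11) (kd xd5 yd19 zd12) (kd xd8 yd11 zd18) (kd xd5 yd19 zd28) (kd xd5 yd19 zd18) (kd xd5 yd19 zd14) (kd xd5 yd19 zd30) (kd xd6 yd16 zd7) (kd xd5 yd19 zd31) (kd xd5 yd19 zd20) (kd xd5 yd19 zd21) (kd xd6 yd19 zd14)) (@D3.rec (fun _ => Pt) (kd xd8 yd11 zd21) (kd xd6 yd12 zd16) (kd xd8 yd11 zd29) (kd xd8 yd11 zd30) (kd xd8 yd12 zd3) (kd xd6 yd5 zd27) (kd xd8 yd12 zd5) (kd xd5 yd19 zd25) (kd xd8 yd11 zd16) (kd xd7 yd3 zd9) (kd xd5 yd19 zd27) (kd xd8 yd11 zd19) (kd xd8 yd11 zd20) (kd xd6 yd6 zd4) (kd xd8 yd11 zd23) (kd xd8 yd11 zd25) (kd xd8 yd12 zd15) (kd xd7 yd3 zd17) (kd xd5 yd20 zd8)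 (kd xd6 yd0 zd16) (kd xd6 yd0 zd17) (kd xd6 yd3 zd27) (kd xd6 yd0 zd18) (kd xd8 yd12 zd9) (kd xd7 yd13 zd6) (kd xd8 yd12 zd22) (kd xd5 yd20 zd12) (kd xd8 yd12 zd26) (kd xd5 yd20 zd11) (kd xd8 yd12 zd30) (kd xd8 yd12 zd31) (kd xd5 yd20 zd13)) (@D3.rec (fun _ => Pt) (kd xd8 yd13 zd3) (kd xd7 yd13 zd12) (kd xd5 yd20 zd19) (kd xd5 yd20 zd15) (kd xd7 yd13 zd15) (kd xd8 yd13 zd2) (kd xd5 yd20 zd17) (kd xd8 yd13 zd15) (kd xd7 yd13 zd18) (kd xd8 yd13 zd7) (kd xd8 yd13 zd8) (kd xd6 yd20 zd0) (kd xd5 yd20 zd21) (kd xd8 yd13 zd22) (kd xd8 yd13 zd24) (kd xd8 yd13 zd28) (kd xd6 yd8 zd8) (kd xd6 yd8 zd9) (kd xd8 yd13 zd31) (kd xd7 yd4 zd19) (kd xd8 yd14 zd1) (kd xd5 yd20 zd27) (kd xd8 yd14 zd5) (kd xd6 yd1 zd5) (kd xd7 yd4 zd24) (kd xd5 yd20 zd29) (kd xd5 yd20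 zd30) (kd xd8 yd14 zd13) (kd xd5 yd21 zd13) (kd xd5 yd21 zd4) (kd xd5 yd21 zd0) (kd xd5 yd21 zd15)) (@D3.rec (fun _ => Pt) (kd xd7 yd5 zd0) (kd xd5 yd21 zd16) (kd xd5 yd21 zd6) (kd xd5 yd21 zd7) (kd xd6 yd20 zd12) (kd xd8 yd14 zd17) (kd xd8 yd14 zd18) (kd xd6 yd11 zd30) (kd xd8 yd14 zd26) (kd xd8 yd14 zd27) (kd xd8 yd15 zd2) (kd xd6 yd9 zd0) (kd xd8 yd15 zd4) (kd xd5 yd21 zd11) (kd xd8 yd14 zd14) (kd xd8 yd14 zd16) (kd xd8 yd14 zd20) (kd xd8 yd14 zd22) (kd xd6 yd2 zd10) (kd xd5 yd21 zd18) (kd xd8 yd15 zd10) (kd xd6 yd1 zd16) (kd xd7 yd5 zd22) (kd xd5 yd21 zd20) (kd xd6 yd1 zd19) (kd xd6 yd19 zd15) (kd xd6 yd1 zd21) (kd xd7 yd5 zd27) (kd xd7 yd5 zd28) (kd xd6 yd20 zd21) (kd xd7 yd5 zd30) (kd xd5 yd21 zd25)) (@D3.rec (fun _ => Pt) (kd xd6 yd0 zd12)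 (kd xd7 yd6 zd1) (kd xd6 yd0 zd13) (kd xd6 yd0 zd3) (kd xd6 yd0 zd4) (kd xd6 yd9 zd23) (kd xd6 yd0 zd14) (kd xd7 yd6 zd7) (kd xd6 yd0 zd15) (kd xd7 yd6 zd9) (kd xd7 yd6 zd10) (kd xd8 yd15 zd23) (kd xd6 yd0 zd6) (kd xd6 yd0 zd7) (kd xd8 yd16 zd9) (kd xd8 yd15 zd28) (kd xd8 yd15 zd29) (kd xd8 yd16 zd12) (kd xd8 yd16 zd7) (kd xd8 yd16 zd14) (kd xd6 yd0 zd8) (kd xd8 yd9 zd0) (kd xd6 yd0 zd10) (kd xd7 yd6 zd23) (kd xd8 yd15 zd24) (kd xd8 yd15 zd25) (kd xd8 yd16 zd0) (kd xd8 yd12 zd17) (kd xd7 yd7 zd7) (kd xd8 yd16 zd19) (kd xd6 yd0 zd20) (kd xd8 yd16 zd23)) (@D3.rec (fun _ => Pt) (kd xd6 yd1 zd0) (kd xd6 yd10 zd7) (kd xd6 yd0 zd22) (kd xd8 yd16 zd28) (kd xd8 yd16 zd21) (kd xd7 yd7 zd5) (kd xd6 yd0 zd24) (kd xd7 yd6 zd28) (kd xd6 yd0 zd29) (kd xd7 yd14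 zd22) (kd xd8 yd17 zd5) (kd xd8 yd3 zd22) (kd xd6 yd0 zd30) (kd xd8 yd3 zd21) (kd xd6 yd1 zd29) (kd xd6 yd10 zd13) (kd xd8 yd14 zd3) (kd xd7 yd7 zd17) (kd xd6 yd1 zd4) (kd xd8 yd14 zd6) (kd xd6 yd19 zd1) (kd xd8 yd14 zd8) (kd xd7 yd7 zd22) (kd xd6 yd1 zd12) (kd xd6 yd1 zd13) (kd xd7 yd7 zd25) (kd xd6 yd14 zd17) (kd xd6 yd2 zd5) (kd xd8 yd15 zd11) (kd xd7 yd7 zd29) (kd xd8 yd15 zd14) (kd xd8 yd15 zd15)) (@D3.rec (fun _ => Pt) (kd xd6 yd19 zd18) (kd xd8 yd16 zd24) (kd xd6 yd16 zd13) (kd xd7 yd0 zd2) (kd xd7 yd8 zd4) (kd xd6 yd1 zd28) (kd xd8 yd17 zd6) (kd xd7 yd8 zd7) (kd xd6 yd2 zd1) (kd xd8 yd17 zd20) (kd xd8 yd14 zd0) (kd xd6 yd2 zd3) (kd xd6 yd2 zd7) (kd xd8 yd17 zd24) (kd xd6 yd9 zd5) (kd xd6 yd2 zd9) (kd xd6 yd14 zd28) (kd xd8 yd15 zd9) (kd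 xd7 yd8 zd18) (kd xd6 yd2 zd13) (kd xd7 yd8 zd20) (kd xd7 yd8 zd21) (kd xd7 yd8 zd22) (kd xd8 yd18 zd1) (kd xd7 yd1 zd5) (kd xd8 yd18 zd3) (kd xd8 yd18 zd5) (kd xd6 yd2 zd20) (kd xd8 yd18 zd9) (kd xd6 yd14 zd15) (kd xd7 yd1 zd14) (kd xd8 yd18 zd8)) (@D3.rec (fun _ => Pt) (kd xd6 yd2 zd23) (kd xd8 yd18 zd13) (kd xd7 yd1 zd18) (kd xd6 yd18 zd22) (kd xd6 yd18 zd23) (kd xd6 yd4 zd12) (kd xd6 yd2 zd27) (kd xd8 yd18 zd19) (kd xd6 yd2 zd28) (kd xd8 yd18 zd21) (kd xd6 yd3 zd7) (kd xd6 yd3 zd0) (kd xd6 yd2 zd30) (kd xd8 yd18 zd24) (kd xd6 yd19 zd2) (kd xd8 yd18 zd27) (kd xd8 yd18 zd20) (kd xd6 yd3 zd6) (kd xd8 yd18 zd22) (kd xd8 yd18 zd23) (kd xd6 yd5 zd4) (kd xd6 yd3 zd10) (kd xd6 yd3 zd19) (kd xd6 yd3 zd12) (kd xd6 yd3 zd21) (kd xd6 yd3 zd22) (kd xd6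 yd3 zd16) (kd xd6 yd5 zd21) (kd xd8 yd17 zd25) (kd xd6 yd3 zd18) (kd xd8 yd19 zd3) (kd xd6 yd5 zd31)) (@D3.rec (fun _ => Pt) (kd xd8 yd19 zd5) (kd xd8 yd19 zd6) (kd xd8 yd19 zd12) (kd xd6 yd4 zd31) (kd xd8 yd12 zd18) (kd xd7 yd18 zd14) (kd xd8 yd19 zd16) (kd xd6 yd3 zd31) (kd xd8 yd19 zd19) (kd xd6 yd3 zd30) (kd xd8 yd19 zd23) (kd xd8 yd19 zd24) (kd xd6 yd4 zd0) (kd xd8 yd19 zd28) (kd xd8 yd3 zd26) (kd xd6 yd4 zd6) (kd xd6 yd4 zd2) (kd xd7 yd18 zd18) (kd xd8 yd19 zd27) (kd xd6 yd4 zd4) (kd xd8 yd20 zd7) (kd xd8 yd3 zd30) (kd xd8 yd20 zd0) (kd xd8 yd20 zd1) (kd xd6 yd15 zd2) (kd xd6 yd4 zd8) (kd xd8 yd20 zd14) (kd xd8 yd20 zd16) (kd xd8 yd20 zd20) (kd xd8 yd10 zd0) (kd xd8 yd10 zd1) (kd xd8 yd20 zd23)) (@D3.rec (fun _ => Pt) (kd xd8 yd20 zd24)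 (kd xd6 yd4 zd14) (kd xd8 yd20 zd27) (kd xd7 yd11 zd3) (kd xd6 yd13 zd29) (kd xd6 yd4 zd16) (kd xd6 yd4 zd17) (kd xd8 yd21 zd3) (kd xd6 yd5 zd0) (kd xd6 yd4 zd23) (kd xd6 yd4 zd19) (kd xd6 yd5 zd2) (kd xd7 yd11 zd12) (kd xd6 yd5 zd3) (kd xd6 yd4 zd25) (kd xd6 yd4 zd26) (kd xd8 yd18 zd25) (kd xd8 yd21 zd7) (kd xd8 yd21 zd8) (kd xd8 yd21 zd16) (kd xd8 yd21 zd17) (kd xd8 yd21 zd23) (kd xd8 yd10 zd25) (kd xd8 yd21 zd25) (kd xd6 yd4 zd30) (kd xd8 yd21 zd4) (kd xd8 yd21 zd6) (kd xd8 yd18 zd30) (kd xd8 yd21 zd10) (kd xd8 yd21 zd12) (kd xd8 yd21 zd31) (kd xd6 yd5 zd5)) (@D3.rec (fun _ => Pt) (kd xd9 yd0 zd0) (kd xd7 yd12 zd1) (kd xd6 yd5 zd7) (kd xd7 yd12 zd3) (kd xd6 yd18 zd5) (kd xd7 yd12 zd5) (kd xd6 yd14 zd6) (kd xd6 yd9 zd29) (kd xd8 yd19 zd2) (kd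 xd7 yd12 zd9) (kd xd6 yd5 zd12) (kd xd7 yd12 zd11) (kd xd6 yd5 zd30) (kd xd6 yd5 zd22) (kd xd6 yd5 zd23) (kd xd8 yd19 zd4) (kd xd6 yd6 zd0) (kd xd7 yd12 zd17) (kd xd6 yd6 zd1) (kd xd7 yd12 zd19) (kd xd7 yd12 zd20) (kd xd9 yd0 zd21) (kd xd6 yd5 zd24) (kd xd6 yd5 zd25) (kd xd9 yd0 zd24) (kd xd8 yd11 zd11) (kd xd9 yd0 zd13) (kd xd9 yd0 zd22) (kd xd9 yd0 zd27) (kd xd6 yd5 zd26) (kd xd8 yd8 zd31) (kd xd6 yd5 zd28)) (@D3.rec (fun _ => Pt) (kd xd7 yd13 zd0) (kd xd9 yd0 zd28) (kd xd9 yd0 zd16) (kd xd9 yd0 zd30) (kd xd6 yd6 zd2) (kd xd8 yd11 zd1) (kd xd7 yd3 zd24) (kd xd9 yd1 zd0) (kd xd6 yd6 zd7) (kd xd9 yd1 zd3) (kd xd6 yd6 zd8) (kd xd9 yd1 zd5) (kd xd7 yd4 zd1) (kd xd6 yd6 zd14) (kd xd6 yd6 zd10) (kd xd7 yd4 zd4) (kd xd6 yd6 zd12) (kd xd9 yd1 zd13)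 (kd xd7 yd4 zd8) (kd xd9 yd1 zd9) (kd xd9 yd1 zd10) (kd xd6 yd8 zd3) (kd xd6 yd6 zd16) (kd xd9 yd1 zd18) (kd xd9 yd1 zd20) (kd xd9 yd1 zd24) (kd xd6 yd20 zd5) (kd xd6 yd20 zd6) (kd xd9 yd1 zd27) (kd xd6 yd8 zd12) (kd xd6 yd6 zd22) (kd xd6 yd6 zd24)) (@D3.rec (fun _ => Pt) (kd xd6 yd7 zd3) (kd xd7 yd14 zd1) (kd xd6 yd7 zd4) (kd xd6 yd6 zd29) (kd xd6 yd6 zd30) (kd xd6 yd8 zd25) (kd xd9 yd2 zd5) (kd xd6 yd20 zd16) (kd xd9 yd2 zd8) (kd xd6 yd7 zd2) (kd xd9 yd2 zd1) (kd xd6 yd9 zd6) (kd xd6 yd9 zd14) (kd xd6 yd9 zd17) (kd xd7 yd14 zd14) (kd xd7 yd14 zd15) (kd xd8 yd15 zd27) (kd xd6 yd7 zd13) (kd xd9 yd0 zd2) (kd xd8 yd17 zd28) (kd xd6 yd7 zd15) (kd xd7 yd14 zd21) (kd xd7 yd7 zd9) (kd xd9 yd2 zd16) (kd xd6 yd7 zd18) (kd xd9 yd2 zd20) (kd xd7 yd14 zd26)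 (kd xd9 yd1 zd28) (kd xd6 yd7 zd20) (kd xd9 yd2 zd25) (kd xd9 yd2 zd18) (kd xd6 yd15 zd4)) (@D3.rec (fun _ => Pt) (kd xd6 yd7 zd22) (kd xd7 yd15 zd4) (kd xd6 yd7 zd29) (kd xd6 yd7 zd24) (kd xd7 yd15 zd1) (kd xd9 yd3 zd8) (kd xd8 yd5 zd14) (kd xd6 yd8 zd1) (kd xd6 yd8 zd2) (kd xd9 yd1 zd11) (kd xd9 yd3 zd15) (kd xd7 yd18 zd20) (kd xd9 yd3 zd2) (kd xd9 yd3 zd3) (kd xd6 yd13 zd12) (kd xd6 yd7 zd31) (kd xd9 yd3 zd22) (kd xd9 yd3 zd24) (kd xd9 yd3 zd28) (kd xd9 yd3 zd12) (kd xd9 yd3 zd13) (kd xd9 yd3 zd31) (kd xd6 yd8 zd5) (kd xd6 yd15 zd18) (kd xd6 yd8 zd6) (kd xd9 yd4 zd1) (kd xd9 yd4 zd3) (kd xd9 yd4 zd8) (kd xd6 yd8 zd7) (kd xd8 yd13 zd29) (kd xd9 yd4 zd11) (kd xd6 yd8 zd10)) (@D3.rec (fun _ => Pt) (kd xd8 yd17 zd19) (kd xd9 yd1 zd29) (kd xd6 yd14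 zd2) (kd xd6 yd8 zd14) (kd xd6 yd10 zd24) (kd xd7 yd16 zd5) (kd xd6 yd10 zd25) (kd xd6 yd15 zd27) (kd xd6 yd15 zd28) (kd xd9 yd1 zd30) (kd xd6 yd8 zd26) (kd xd6 yd8 zd27) (kd xd9 yd1 zd31) (kd xd6 yd9 zd3) (kd xd6 yd11 zd26) (kd xd6 yd9 zd4) (kd xd6 yd11 zd28) (kd xd6 yd11 zd29) (kd xd8 yd14 zd19) (kd xd6 yd8 zd29) (kd xd6 yd8 zd30) (kd xd9 yd5 zd5) (kd xd9 yd4 zd24) (kd xd9 yd4 zd25) (kd xd8 yd21 zd0) (kd xd9 yd5 zd3) (kd xd9 yd5 zd9) (kd xd6 yd8 zd31) (kd xd8 yd8 zd21) (kd xd6 yd9 zd1) (kd xd6 yd12 zd10) (kd xd9 yd4 zd28)) (@D3.rec (fun _ => Pt) (kd xd6 yd14 zd10) (kd xd8 yd19 zd8) (kd xd6 yd10 zd27) (kd xd7 yd17 zd3) (kd xd6 yd10 zd28) (kd xd7 yd17 zd5) (kd xd7 yd17 zd6) (kd xd8 yd15 zd13) (kd xd6 yd16 zd5) (kd xd6 yd16 zd6) (kd xd9 yd0 zd14)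 (kd xd6 yd9 zd27) (kd xd6 yd9 zd28) (kd xd9 yd0 zd8) (kd xd6 yd12 zd12) (kd xd6 yd10 zd4) (kd xd6 yd12 zd14) (kd xd6 yd12 zd15) (kd xd8 yd11 zd22) (kd xd6 yd12 zd17) (kd xd6 yd12 zd18) (kd xd9 yd5 zd29) (kd xd6 yd9 zd30) (kd xd9 yd5 zd31) (kd xd6 yd9 zd26) (kd xd9 yd5 zd20) (kd xd9 yd0 zd7) (kd xd8 yd11 zd27) (kd xd6 yd9 zd31) (kd xd6 yd12 zd28) (kd xd9 yd6 zd2) (kd xd6 yd10 zd6)) (@D3.rec (fun _ => Pt) (kd xd9 yd6 zd6) (kd xd8 yd16 zd25) (kd xd9 yd6 zd4) (kd xd6 yd16 zd15) (kd xd6 yd10 zd9) (kd xd8 yd3 zd13) (kd xd6 yd16 zd19) (kd xd6 yd10 zd17) (kd xd9 yd6 zd10) (kd xd6 yd10 zd21) (kd xd6 yd16 zd25) (kd xd6 yd10 zd19) (kd xd9 yd6 zd11) (kd xd9 yd6 zd13) (kd xd7 yd10 zd5) (kd xd9 yd4 zd15) (kd xd9 yd4 zd17) (kd xd9 yd5 zd13) (kd xd7 yd10 zd17)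 (kd xd9 yd6 zd22) (kd xd7 yd15 zd11) (kd xd6 yd10 zd30) (kd xd9 yd6 zd26) (kd xd9 yd6 zd28) (kd xd9 yd7 zd0) (kd xd6 yd11 zd12) (kd xd6 yd11 zd13) (kd xd9 yd7 zd3) (kd xd6 yd11 zd3) (kd xd9 yd7 zd4) (kd xd9 yd7 zd6) (kd xd9 yd7 zd10)) (@D3.rec (fun _ => Pt) (kd xd6 yd21 zd5) (kd xd6 yd21 zd6) (kd xd9 yd7 zd13) (kd xd6 yd11 zd9) (kd xd6 yd17 zd6) (kd xd6 yd11 zd10) (kd xd9 yd7 zd15) (kd xd9 yd7 zd17) (kd xd9 yd7 zd22) (kd xd6 yd11 zd11) (kd xd9 yd7 zd1) (kd xd9 yd7 zd25) (kd xd6 yd11 zd14) (kd xd9 yd7 zd14) (kd xd6 yd11 zd18) (kd xd6 yd17 zd17) (kd xd6 yd11 zd19) (kd xd6 yd17 zd19) (kd xd9 yd8 zd0) (kd xd9 yd7 zd28) (kd xd9 yd8 zd2) (kd xd6 yd11 zd20) (kd xd8 yd2 zd12) (kd xd8 yd8 zd4) (kd xd6 yd11 zd23) (kd xd8 yd2 zd18) (kd xd9 yd4 zd27) (kd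 xd6 yd12 zd11) (kd xd9 yd4 zd29) (kd xd9 yd4 zd30) (kd xd8 yd13 zd14) (kd xd9 yd5 zd0)) (@D3.rec (fun _ => Pt) (kd xd9 yd5 zd1) (kd xd9 yd8 zd11) (kd xd6 yd12 zd5) (kd xd9 yd8 zd13) (kd xd6 yd12 zd1) (kd xd6 yd21 zd18) (kd xd9 yd8 zd16) (kd xd6 yd12 zd4) (kd xd8 yd8 zd14) (kd xd6 yd12 zd6) (kd xd9 yd5 zd10) (kd xd9 yd5 zd11) (kd xd9 yd5 zd22) (kd xd9 yd5 zd23) (kd xd8 yd10 zd21) (kd xd8 yd15 zd16) (kd xd9 yd5 zd25) (kd xd9 yd8 zd24) (kd xd9 yd5 zd27) (kd xd9 yd8 zd26) (kd xd6 yd12 zd19) (kd xd8 yd8 zd25) (kd xd6 yd12 zd21) (kd xd9 yd8 zd27) (kd xd8 yd8 zd24) (kd xd6 yd12 zd24) (kd xd9 yd0 zd5) (kd xd8 yd3 zd14) (kd xd6 yd13 zd1) (kd xd9 yd8 zd28) (kd xd8 yd1 zd21) (kd xd8 yd1 zd25)) (@D3.rec (fun _ => Pt) (kd xd8 yd1 zd28) (kd xd6 yd13 zd6) (kd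 xd9 yd8 zd29) (kd xd6 yd13 zd9) (kd xd9 yd9 zd0) (kd xd9 yd8 zd30) (kd xd8 yd19 zd22) (kd xd9 yd9 zd3) (kd xd6 yd13 zd19) (kd xd9 yd9 zd6) (kd xd6 yd15 zd15) (kd xd6 yd13 zd17) (kd xd9 yd9 zd9) (kd xd9 yd9 zd11) (kd xd9 yd9 zd15) (kd xd9 yd9 zd5) (kd xd6 yd15 zd9) (kd xd9 yd2 zd24) (kd xd6 yd13 zd23) (kd xd8 yd20 zd15) (kd xd6 yd13 zd24) (kd xd9 yd9 zd19) (kd xd9 yd9 zd21) (kd xd8 yd0 zd15) (kd xd6 yd13 zd25) (kd xd7 yd21 zd25) (kd xd9 yd9 zd25) (kd xd6 yd13 zd28) (kd xd8 yd20 zd31) (kd xd6 yd14 zd0) (kd xd6 yd15 zd31) (kd xd6 yd15 zd30))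
def f_d_8 : D2 → D3 → Pt := @D2.rec (fun _ => D3 → Pt) (@D3.rec (fun _ => Pt) (kd xd9 yd4 zd13) (kd xd8 yd8 zd30) (kd xd6 yd14 zd4) (kd xd8 yd0 zd3) (kd xd8 yd11 zd26) (kd xd8 yd11 zd24) (kd xd6 yd14 zd14) (kd xd9 yd9 zd29) (kd xd6 yd14 zd16) (kd xd9 yd9 zd30) (kd xd6 yd14 zd19) (kd xd9 yd1 zd19) (kd xd6 yd14 zd20) (kd xd9 yd10 zd1) (kd xd9 yd10 zd3) (kd xd7 yd21 zd23) (kd xd6 yd14 zd21) (kd xd8 yd0 zd17) (kd xd9 yd10 zd7) (kd xd6 yd14 zd24) (kd xd8 yd17 zd27) (kd xd6 yd14 zd26) (kd xd8 yd0 zd22) (kd xd6 yd14 zd31) (kd xd9 yd10 zd9) (kd xd6 yd15 zd3) (kd xd9 yd2 zd19) (kd xd6 yd15 zd1) (kd xd9 yd10 zd15) (kd xd9 yd10 zd11) (kd xd9 yd2 zd29) (kd xd9 yd2 zd30)) (@D3.rec (fun _ => Pt) (kd xd6 yd15 zd6) (kd xd9 yd10 zd20) (kd xd6 yd15 zd14) (kd xd6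 yd15 zd8) (kd xd9 yd10 zd23) (kd xd9 yd9 zd16) (kd xd6 yd15 zd11) (kd xd9 yd3 zd23) (kd xd6 yd15 zd12) (kd xd9 yd10 zd27) (kd xd9 yd10 zd29) (kd xd9 yd11 zd2) (kd xd6 yd15 zd13) (kd xd9 yd9 zd8) (kd xd9 yd11 zd5) (kd xd6 yd15 zd16) (kd xd9 yd10 zd26) (kd xd6 yd15 zd20) (kd xd9 yd4 zd2) (kd xd6 yd15 zd21) (kd xd9 yd4 zd4) (kd xd7 yd20 zd30) (kd xd9 yd11 zd8) (kd xd9 yd11 zd12) (kd xd6 yd15 zd22) (kd xd7 yd20 zd31) (kd xd8 yd8 zd20) (kd xd6 yd15 zd25) (kd xd7 yd21 zd0) (kd xd9 yd4 zd21) (kd xd9 yd4 zd22) (kd xd8 yd10 zd15)) (@D3.rec (fun _ => Pt) (kd xd6 yd16 zd0) (kd xd6 yd18 zd1) (kd xd6 yd18 zd2) (kd xd9 yd5 zd18) (kd xd6 yd16 zd10) (kd xd9 yd11 zd17) (kd xd6 yd16 zd14) (kd xd9 yd6 zd5) (kd xd6 yd16 zd12) (kd xd9 yd11 zd18) (kd xd9 yd6 zd8) (kd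 xd6 yd16 zd29) (kd xd7 yd19 zd22) (kd xd9 yd6 zd9) (kd xd6 yd16 zd24) (kd xd9 yd6 zd14) (kd xd9 yd6 zd15) (kd xd9 yd11 zd20) (kd xd7 yd19 zd25) (kd xd6 yd16 zd31) (kd xd9 yd7 zd5) (kd xd6 yd17 zd0) (kd xd9 yd11 zd27) (kd xd9 yd11 zd29) (kd xd9 yd12 zd2) (kd xd6 yd17 zd1) (kd xd8 yd2 zd26) (kd xd9 yd12 zd5) (kd xd6 yd17 zd4) (kd xd6 yd17 zd15) (kd xd6 yd17 zd8) (kd xd9 yd7 zd16)) (@D3.rec (fun _ => Pt) (kd xd6 yd17 zd9) (kd xd9 yd7 zd18) (kd xd9 yd12 zd12) (kd xd9 yd12 zd8) (kd xd9 yd12 zd14) (kd xd6 yd17 zd10) (kd xd9 yd12 zd16) (kd xd8 yd8 zd5) (kd xd6 yd17 zd13) (kd xd9 yd12 zd15) (kd xd9 yd12 zd7) (kd xd6 yd17 zd21) (kd xd9 yd7 zd29) (kd xd7 yd18 zd5) (kd xd7 yd20 zd27) (kd xd9 yd12 zd20) (kd xd6 yd17 zd22) (kd xd8 yd8 zd13) (kd xd6 yd17 zd29)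 (kd xd8 yd20 zd29) (kd xd9 yd11 zd15) (kd xd7 yd7 zd13) (kd xd7 yd7 zd11) (kd xd9 yd12 zd22) (kd xd6 yd18 zd14) (kd xd9 yd12 zd26) (kd xd7 yd10 zd14) (kd xd6 yd18 zd18) (kd xd6 yd18 zd16) (kd xd9 yd13 zd1) (kd xd7 yd10 zd21) (kd xd9 yd12 zd30)) (@D3.rec (fun _ => Pt) (kd xd9 yd12 zd31) (kd xd8 yd9 zd27) (kd xd6 yd18 zd20) (kd xd9 yd13 zd8) (kd xd9 yd13 zd10) (kd xd9 yd13 zd14) (kd xd8 yd17 zd11) (kd xd8 yd18 zd17) (kd xd9 yd13 zd17) (kd xd8 yd4 zd9) (kd xd8 yd4 zd10) (kd xd6 yd18 zd26) (kd xd6 yd19 zd4) (kd xd8 yd4 zd13) (kd xd6 yd19 zd5) (kd xd6 yd18 zd30) (kd xd6 yd18 zd31) (kd xd8 yd10 zd19) (kd xd8 yd14 zd7) (kd xd9 yd13 zd26) (kd xd9 yd13 zd30) (kd xd8 yd17 zd13) (kd xd9 yd14 zd0) (kd xd6 yd19 zd3) (kd xd9 yd13 zd23) (kd xd9 yd14 zd3) (kd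 xd8 yd4 zd26) (kd xd8 yd4 zd27) (kd xd8 yd11 zd15) (kd xd8 yd4 zd29) (kd xd9 yd14 zd7) (kd xd6 yd19 zd16)) (@D3.rec (fun _ => Pt) (kd xd9 yd14 zd9) (kd xd8 yd15 zd17) (kd xd9 yd14 zd11) (kd xd6 yd19 zd17) (kd xd8 yd17 zd29) (kd xd6 yd19 zd19) (kd xd8 yd5 zd6) (kd xd6 yd19 zd21) (kd xd6 yd19 zd22) (kd xd9 yd14 zd16) (kd xd9 yd14 zd14) (kd xd8 yd5 zd11) (kd xd6 yd19 zd24) (kd xd9 yd14 zd22) (kd xd7 yd15 zd6) (kd xd6 yd19 zd30) (kd xd6 yd19 zd31) (kd xd8 yd13 zd9) (kd xd6 yd19 zd28) (kd xd9 yd14 zd29) (kd xd9 yd14 zd31) (kd xd9 yd15 zd3) (kd xd9 yd14 zd26) (kd xd9 yd14 zd27) (kd xd9 yd15 zd6) (kd xd6 yd20 zd2) (kd xd8 yd5 zd26) (kd xd6 yd20 zd3) (kd xd9 yd15 zd8) (kd xd9 yd15 zd10) (kd xd9 yd15 zd15) (kd xd6 yd20 zd4)) (@D3.rec (fun _ => Pt) (kd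 xd9 yd1 zd25) (kd xd9 yd15 zd18) (kd xd6 yd20 zd7) (kd xd8 yd6 zd3) (kd xd8 yd6 zd4) (kd xd8 yd14 zd11) (kd xd6 yd20 zd13) (kd xd6 yd20 zd14) (kd xd9 yd15 zd24) (kd xd9 yd15 zd22) (kd xd9 yd15 zd26) (kd xd6 yd20 zd15) (kd xd9 yd15 zd28) (kd xd6 yd20 zd17) (kd xd6 yd21 zd23) (kd xd8 yd6 zd15) (kd xd9 yd16 zd1) (kd xd6 yd20 zd25) (kd xd9 yd16 zd3) (kd xd6 yd20 zd24) (kd xd9 yd16 zd5) (kd xd6 yd20 zd26) (kd xd6 yd21 zd26) (kd xd6 yd20 zd28) (kd xd6 yd21 zd28) (kd xd9 yd16 zd7) (kd xd6 yd21 zd30) (kd xd8 yd6 zd27) (kd xd6 yd21 zd0) (kd xd6 yd21 zd2) (kd xd8 yd6 zd30) (kd xd6 yd21 zd3)) (@D3.rec (fun _ => Pt) (kd xd9 yd16 zd14) (kd xd9 yd16 zd16) (kd xd9 yd16 zd21) (kd xd6 yd21 zd4) (kd xd9 yd7 zd11) (kd xd9 yd16 zd24) (kd xd6 yd21 zd7) (kd xd9 yd16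 zd13) (kd xd6 yd21 zd11) (kd xd8 yd7 zd9) (kd xd6 yd21 zd12) (kd xd8 yd7 zd11) (kd xd9 yd16 zd31) (kd xd9 yd16 zd27) (kd xd9 yd17 zd1) (kd xd6 yd21 zd13) (kd xd9 yd17 zd3) (kd xd9 yd17 zd4) (kd xd6 yd21 zd16) (kd xd9 yd17 zd2) (kd xd9 yd17 zd8) (kd xd6 yd21 zd19) (kd xd9 yd15 zd27) (kd xd6 yd21 zd21) (kd xd9 yd15 zd29) (kd xd9 yd17 zd10) (kd xd9 yd15 zd31) (kd xd6 yd21 zd24) (kd xd9 yd16 zd6) (kd xd6 yd21 zd29) (kd xd9 yd16 zd8) (kd xd8 yd18 zd0)) (@D3.rec (fun _ => Pt) (kd xd8 yd8 zd27) (kd xd8 yd12 zd16) (kd xd8 yd9 zd8) (kd xd9 yd16 zd9) (kd xd7 yd19 zd23) (kd xd8 yd3 zd7) (kd xd7 yd0 zd1) (kd xd9 yd16 zd30) (kd xd8 yd17 zd17) (kd xd8 yd8 zd9) (kd xd8 yd8 zd10) (kd xd8 yd8 zd11) (kd xd7 yd0 zd7) (kd xd8 yd3 zd17) (kd xd7 yd20 zd8) (kd xd8 yd8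 zd15) (kd xd8 yd8 zd16) (kd xd8 yd8 zd17) (kd xd9 yd17 zd7) (kd xd7 yd0 zd14) (kd xd8 yd1 zd26) (kd xd7 yd16 zd28) (kd xd8 yd8 zd22) (kd xd8 yd8 zd23) (kd xd7 yd20 zd24) (kd xd7 yd20 zd21) (kd xd8 yd8 zd26) (kd xd8 yd8 zd0) (kd xd7 yd0 zd23) (kd xd8 yd8 zd29) (kd xd8 yd0 zd1) (kd xd7 yd12 zd30)) (@D3.rec (fun _ => Pt) (kd xd7 yd6 zd21) (kd xd8 yd9 zd1) (kd xd8 yd9 zd2) (kd xd8 yd9 zd3) (kd xd8 yd9 zd4) (kd xd8 yd9 zd5) (kd xd9 yd17 zd19) (kd xd8 yd9 zd7) (kd xd8 yd8 zd2) (kd xd7 yd1 zd4) (kd xd9 yd18 zd8) (kd xd7 yd1 zd8) (kd xd9 yd18 zd11) (kd xd7 yd1 zd7) (kd xd9 yd18 zd15) (kd xd9 yd18 zd16) (kd xd7 yd1 zd9) (kd xd9 yd18 zd20) (kd xd8 yd18 zd7) (kd xd7 yd1 zd15) (kd xd7 yd1 zd11) (kd xd9 yd18 zd19) (kd xd7 yd1 zd13) (kd xd9 yd18 zd29) (kd xd8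 yd18 zd11) (kd xd9 yd18 zd24) (kd xd9 yd18 zd25) (kd xd8 yd4 zd1) (kd xd7 yd1 zd17) (kd xd9 yd19 zd4) (kd xd9 yd15 zd12) (kd xd9 yd15 zd16)) (@D3.rec (fun _ => Pt) (kd xd7 yd10 zd29) (kd xd7 yd10 zd30) (kd xd9 yd15 zd19) (kd xd9 yd19 zd9) (kd xd7 yd1 zd23) (kd xd9 yd19 zd13) (kd xd8 yd10 zd6) (kd xd8 yd10 zd7) (kd xd7 yd1 zd25) (kd xd7 yd1 zd26) (kd xd9 yd19 zd22) (kd xd7 yd2 zd10) (kd xd7 yd2 zd0) (kd xd7 yd1 zd28) (kd xd7 yd2 zd12) (kd xd8 yd1 zd31) (kd xd7 yd2 zd13) (kd xd7 yd2 zd2) (kd xd7 yd2 zd3) (kd xd8 yd4 zd17) (kd xd9 yd19 zd25) (kd xd7 yd20 zd14) (kd xd9 yd20 zd1) (kd xd9 yd20 zd2) (kd xd9 yd20 zd7) (kd xd7 yd11 zd22) (kd xd9 yd20 zd9) (kd xd7 yd2 zd7) (kd xd9 yd19 zd20) (kd xd8 yd10 zd29) (kd xd7 yd2 zd9) (kd xd9 yd19 zd23)) (@D3.rec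 (fun _ => Pt) (kd xd9 yd19 zd24) (kd xd7 yd13 zd5) (kd xd9 yd19 zd27) (kd xd9 yd19 zd29) (kd xd9 yd20 zd19) (kd xd7 yd2 zd15) (kd xd9 yd20 zd20) (kd xd8 yd11 zd7) (kd xd8 yd11 zd8) (kd xd7 yd2 zd17) (kd xd8 yd11 zd10) (kd xd7 yd12 zd25) (kd xd8 yd11 zd12) (kd xd8 yd11 zd13) (kd xd8 yd11 zd14) (kd xd8 yd4 zd28) (kd xd7 yd3 zd8) (kd xd8 yd11 zd17) (kd xd7 yd2 zd22) (kd xd7 yd3 zd11) (kd xd7 yd3 zd12) (kd xd7 yd3 zd0) (kd xd7 yd17 zd18) (kd xd7 yd3 zd14) (kd xd8 yd0 zd5) (kd xd7 yd3 zd15) (kd xd8 yd0 zd4) (kd xd7 yd17 zd27) (kd xd9 yd21 zd11) (kd xd7 yd3 zd2) (kd xd7 yd3 zd3) (kd xd9 yd21 zd14)) (@D3.rec (fun _ => Pt) (kd xd9 yd21 zd15) (kd xd9 yd21 zd12) (kd xd9 yd21 zd16) (kd xd7 yd3 zd4) (kd xd9 yd18 zd4) (kd xd7 yd3 zd6) (kd xd9 yd17 zd16) (kd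 xd9 yd20 zd30) (kd xd8 yd12 zd8) (kd xd7 yd3 zd23) (kd xd9 yd21 zd1) (kd xd9 yd21 zd2) (kd xd9 yd21 zd20) (kd xd9 yd21 zd6) (kd xd9 yd21 zd22) (kd xd7 yd3 zd16) (kd xd8 yd8 zd1) (kd xd7 yd6 zd27) (kd xd7 yd10 zd4) (kd xd9 yd20 zd13) (kd xd8 yd17 zd1) (kd xd9 yd21 zd27) (kd xd7 yd3 zd25) (kd xd9 yd21 zd31) (kd xd8 yd12 zd24) (kd xd10 yd0 zd1) (kd xd7 yd3 zd27) (kd xd10 yd0 zd5) (kd xd9 yd21 zd29) (kd xd8 yd12 zd29) (kd xd7 yd3 zd29) (kd xd7 yd3 zd30)) (@D3.rec (fun _ => Pt) (kd xd10 yd0 zd14) (kd xd9 yd1 zd4) (kd xd7 yd4 zd5) (kd xd7 yd4 zd0) (kd xd9 yd1 zd6) (kd xd10 yd0 zd24) (kd xd9 yd1 zd8) (kd xd7 yd4 zd9) (kd xd7 yd4 zd10) (kd xd8 yd5 zd17) (kd xd10 yd0 zd31) (kd xd9 yd1 zd12) (kd xd10 yd0 zd18) (kd xd10 yd0 zd19) (kd xd7 yd19 zd30) (kd xd7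 yd4 zd7) (kd xd10 yd1 zd6) (kd xd10 yd1 zd8) (kd xd10 yd1 zd12) (kd xd10 yd0 zd28) (kd xd10 yd0 zd29) (kd xd10 yd1 zd15) (kd xd7 yd4 zd13) (kd xd8 yd13 zd23) (kd xd7 yd4 zd14) (kd xd10 yd1 zd17) (kd xd10 yd1 zd19) (kd xd9 yd13 zd13) (kd xd7 yd4 zd15) (kd xd7 yd15 zd29) (kd xd10 yd1 zd23) (kd xd7 yd4 zd18)) (@D3.rec (fun _ => Pt) (kd xd7 yd8 zd10) (kd xd7 yd4 zd20) (kd xd10 yd1 zd25) (kd xd7 yd7 zd16) (kd xd8 yd14 zd4) (kd xd7 yd4 zd22) (kd xd7 yd7 zd19) (kd xd8 yd4 zd18) (kd xd7 yd7 zd21) (kd xd8 yd14 zd9) (kd xd8 yd14 zd10) (kd xd8 yd6 zd5) (kd xd8 yd14 zd12) (kd xd7 yd4 zd27) (kd xd7 yd5 zd14) (kd xd8 yd14 zd15) (kd xd7 yd5 zd15) (kd xd7 yd5 zd5) (kd xd7 yd5 zd6) (kd xd7 yd16 zd18) (kd xd7 yd5 zd16) (kd xd8 yd14 zd21) (kd xd7 yd5 zd17) (kd xd8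 yd14 zd23) (kd xd8 yd14 zd24) (kd xd10 yd2 zd8) (kd xd7 yd5 zd8) (kd xd7 yd5 zd9) (kd xd10 yd2 zd27) (kd xd10 yd2 zd14) (kd xd10 yd2 zd15) (kd xd10 yd2 zd30)) (@D3.rec (fun _ => Pt) (kd xd10 yd2 zd25) (kd xd10 yd3 zd0) (kd xd7 yd5 zd10) (kd xd9 yd18 zd2) (kd xd7 yd5 zd12) (kd xd8 yd15 zd5) (kd xd10 yd2 zd9) (kd xd10 yd2 zd11) (kd xd10 yd2 zd18) (kd xd7 yd8 zd17) (kd xd7 yd5 zd20) (kd xd7 yd7 zd28) (kd xd8 yd15 zd12) (kd xd7 yd17 zd7) (kd xd7 yd7 zd30) (kd xd7 yd7 zd31) (kd xd7 yd20 zd15) (kd xd8 yd5 zd1) (kd xd10 yd3 zd3) (kd xd8 yd15 zd19) (kd xd8 yd15 zd20) (kd xd10 yd3 zd12) (kd xd8 yd15 zd22) (kd xd7 yd6 zd11) (kd xd7 yd6 zd24) (kd xd7 yd6 zd25) (kd xd8 yd15 zd26) (kd xd7 yd14 zd16) (kd xd7 yd6 zd15) (kd xd7 yd6 zd16) (kd xd10 yd3 zd19) (kd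 xd8 yd15 zd31)) (@D3.rec (fun _ => Pt) (kd xd7 yd6 zd26) (kd xd8 yd16 zd1) (kd xd8 yd16 zd2) (kd xd9 yd21 zd0) (kd xd8 yd16 zd4) (kd xd8 yd16 zd5) (kd xd10 yd3 zd27) (kd xd7 yd6 zd18) (kd xd10 yd3 zd29) (kd xd7 yd6 zd14) (kd xd10 yd3 zd17) (kd xd10 yd3 zd31) (kd xd7 yd6 zd17) (kd xd9 yd21 zd23) (kd xd7 yd6 zd19) (kd xd8 yd16 zd15) (kd xd10 yd3 zd14) (kd xd9 yd12 zd18) (kd xd10 yd4 zd3) (kd xd7 yd6 zd29) (kd xd10 yd4 zd7) (kd xd7 yd7 zd4) (kd xd8 yd16 zd22) (kd xd7 yd6 zd31) (kd xd7 yd8 zd1) (kd xd7 yd18 zd1) (kd xd10 yd4 zd5) (kd xd8 yd16 zd27) (kd xd7 yd7 zd3) (kd xd10 yd4 zd8) (kd xd10 yd4 zd22) (kd xd10 yd4 zd10)) (@D3.rec (fun _ => Pt) (kd xd8 yd17 zd0) (kd xd8 yd12 zd20) (kd xd9 yd12 zd19) (kd xd8 yd19 zd14) (kd xd10 yd4 zd24) (kd xd7 yd7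 zd10) (kd xd7 yd8 zd6) (kd xd10 yd1 zd26) (kd xd10 yd1 zd27) (kd xd8 yd17 zd9) (kd xd10 yd1 zd30) (kd xd8 yd4 zd6) (kd xd10 yd2 zd0) (kd xd8 yd4 zd21) (kd xd10 yd3 zd6) (kd xd10 yd4 zd14) (kd xd9 yd7 zd31) (kd xd8 yd8 zd8) (kd xd8 yd17 zd18) (kd xd7 yd16 zd0) (kd xd7 yd8 zd9) (kd xd10 yd0 zd0) (kd xd10 yd1 zd24) (kd xd8 yd17 zd23) (kd xd7 yd8 zd13) (kd xd7 yd9 zd28) (kd xd8 yd17 zd26) (kd xd8 yd0 zd20) (kd xd7 yd14 zd19) (kd xd8 yd5 zd4) (kd xd8 yd17 zd30) (kd xd8 yd17 zd31)) (@D3.rec (fun _ => Pt) (kd xd8 yd7 zd31) (kd xd7 yd8 zd23) (kd xd10 yd5 zd3) (kd xd7 yd8 zd25) (kd xd10 yd5 zd6) (kd xd7 yd8 zd26) (kd xd10 yd5 zd8) (kd xd8 yd9 zd18) (kd xd7 yd8 zd31) (kd xd7 yd8 zd28) (kd xd10 yd5 zd14) (kd xd8 yd9 zd24) (kd xd10 yd5 zd12) (kd xd7 yd9 zd1)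 (kd xd10 yd5 zd16) (kd xd9 yd4 zd5) (kd xd9 yd4 zd9) (kd xd8 yd4 zd7) (kd xd9 yd4 zd12) (kd xd7 yd9 zd7) (kd xd7 yd9 zd16) (kd xd7 yd9 zd9) (kd xd7 yd9 zd18) (kd xd7 yd9 zd19) (kd xd7 yd9 zd13) (kd xd7 yd11 zd16) (kd xd10 yd4 zd28) (kd xd7 yd9 zd15) (kd xd10 yd5 zd20) (kd xd10 yd5 zd21) (kd xd7 yd11 zd27) (kd xd10 yd5 zd23)) (@D3.rec (fun _ => Pt) (kd xd10 yd5 zd24) (kd xd10 yd5 zd31) (kd xd7 yd12 zd8) (kd xd7 yd9 zd30) (kd xd7 yd12 zd15) (kd xd7 yd10 zd0) (kd xd7 yd10 zd1) (kd xd10 yd6 zd3) (kd xd7 yd17 zd1) (kd xd10 yd6 zd4) (kd xd10 yd6 zd1) (kd xd10 yd6 zd6) (kd xd7 yd10 zd2) (kd xd9 yd21 zd24) (kd xd8 yd17 zd3) (kd xd10 yd6 zd9) (kd xd7 yd10 zd6) (kd xd10 yd6 zd13) (kd xd10 yd6 zd14) (kd xd7 yd10 zd8) (kd xd10 yd6 zd17) (kd xd10 yd6 zd11)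 (kd xd7 yd21 zd6) (kd xd7 yd10 zd10) (kd xd7 yd10 zd11) (kd xd10 yd6 zd26) (kd xd9 yd3 zd5) (kd xd7 yd10 zd18) (kd xd7 yd10 zd13) (kd xd9 yd12 zd27) (kd xd10 yd7 zd4) (kd xd9 yd12 zd29)) (@D3.rec (fun _ => Pt) (kd xd7 yd10 zd22) (kd xd7 yd10 zd23) (kd xd10 yd5 zd13) (kd xd10 yd7 zd11) (kd xd9 yd6 zd21) (kd xd10 yd6 zd30) (kd xd10 yd6 zd31) (kd xd7 yd10 zd20) (kd xd10 yd7 zd16) (kd xd10 yd7 zd18) (kd xd10 yd7 zd22) (kd xd10 yd7 zd8) (kd xd10 yd7 zd9) (kd xd10 yd7 zd25) (kd xd7 yd10 zd26) (kd xd7 yd21 zd19) (kd xd7 yd10 zd27) (kd xd10 yd7 zd27) (kd xd10 yd7 zd29) (kd xd9 yd1 zd23) (kd xd7 yd10 zd28) (kd xd9 yd19 zd7) (kd xd10 yd8 zd1) (kd xd7 yd10 zd31) (kd xd7 yd11 zd0) (kd xd10 yd8 zd2) (kd xd8 yd20 zd26) (kd xd7 yd11 zd2) (kd xd8 yd20 zd28) (kd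 xd8 yd3 zd19) (kd xd8 yd20 zd30) (kd xd7 yd21 zd28)) (@D3.rec (fun _ => Pt) (kd xd7 yd16 zd24) (kd xd10 yd5 zd19) (kd xd8 yd21 zd2) (kd xd7 yd11 zd7) (kd xd7 yd11 zd25) (kd xd8 yd21 zd5) (kd xd7 yd11 zd26) (kd xd7 yd11 zd17) (kd xd7 yd11 zd18) (kd xd10 yd5 zd22) (kd xd7 yd11 zd28) (kd xd8 yd21 zd11) (kd xd7 yd11 zd29) (kd xd8 yd21 zd13) (kd xd8 yd21 zd14) (kd xd10 yd8 zd28) (kd xd7 yd11 zd19) (kd xd7 yd11 zd20) (kd xd10 yd8 zd31) (kd xd9 yd19 zd15) (kd xd10 yd8 zd19) (kd xd10 yd8 zd29) (kd xd10 yd9 zd2) (kd xd7 yd11 zd21) (kd xd9 yd18 zd3) (kd xd7 yd11 zd23) (kd xd8 yd21 zd26) (kd xd10 yd8 zd16) (kd xd10 yd9 zd4) (kd xd10 yd8 zd22) (kd xd10 yd9 zd6) (kd xd7 yd11 zd30))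
def f_d_9 : D2 → D3 → Pt := @D2.rec (fun _ => D3 → Pt) (@D3.rec (fun _ => Pt) (kd xd7 yd12 zd0) (kd xd9 yd0 zd1) (kd xd7 yd14 zd18) (kd xd9 yd0 zd3) (kd xd9 yd0 zd4) (kd xd7 yd20 zd26) (kd xd10 yd9 zd13) (kd xd7 yd17 zd26) (kd xd7 yd17 zd13) (kd xd9 yd0 zd9) (kd xd10 yd3 zd15) (kd xd9 yd0 zd11) (kd xd10 yd9 zd17) (kd xd7 yd12 zd26) (kd xd7 yd17 zd10) (kd xd9 yd0 zd15) (kd xd7 yd13 zd2) (kd xd9 yd0 zd17) (kd xd10 yd9 zd22) (kd xd9 yd0 zd19) (kd xd10 yd9 zd24) (kd xd7 yd12 zd21) (kd xd7 yd12 zd27) (kd xd10 yd9 zd27) (kd xd7 yd12 zd24) (kd xd9 yd20 zd26) (kd xd9 yd21 zd7) (kd xd7 yd12 zd28) (kd xd7 yd13 zd1) (kd xd10 yd9 zd29) (kd xd7 yd13 zd3) (kd xd9 yd0 zd31)) (@D3.rec (fun _ => Pt) (kd xd7 yd13 zd7) (kd xd10 yd10 zd0) (kd xd10 yd9 zd30) (kd xd7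 yd13 zd9) (kd xd8 yd13 zd1) (kd xd7 yd13 zd11) (kd xd8 yd13 zd4) (kd xd10 yd10 zd8) (kd xd8 yd13 zd6) (kd xd7 yd13 zd19) (kd xd7 yd13 zd20) (kd xd7 yd15 zd9) (kd xd8 yd13 zd11) (kd xd7 yd13 zd17) (kd xd10 yd10 zd14) (kd xd10 yd10 zd16) (kd xd10 yd10 zd18) (kd xd10 yd10 zd12) (kd xd7 yd13 zd23) (kd xd8 yd0 zd11) (kd xd7 yd13 zd24) (kd xd10 yd10 zd20) (kd xd10 yd10 zd22) (kd xd8 yd20 zd19) (kd xd7 yd13 zd25) (kd xd8 yd6 zd0) (kd xd10 yd10 zd26) (kd xd7 yd13 zd28) (kd xd7 yd14 zd27) (kd xd7 yd16 zd1) (kd xd7 yd16 zd9) (kd xd7 yd16 zd12)) (@D3.rec (fun _ => Pt) (kd xd9 yd2 zd0) (kd xd7 yd14 zd10) (kd xd9 yd2 zd2) (kd xd9 yd2 zd3) (kd xd10 yd2 zd13) (kd xd7 yd14 zd6) (kd xd10 yd8 zd5) (kd xd10 yd5 zd1) (kd xd7 yd14 zd8) (kd xd9 yd2 zd9) (kd xd10 yd3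 zd4) (kd xd9 yd2 zd11) (kd xd10 yd11 zd4) (kd xd10 yd9 zd8) (kd xd9 yd11 zd10) (kd xd10 yd11 zd5) (kd xd7 yd14 zd23) (kd xd10 yd11 zd9) (kd xd7 yd14 zd30) (kd xd8 yd0 zd26) (kd xd7 yd14 zd25) (kd xd9 yd11 zd13) (kd xd10 yd10 zd27) (kd xd10 yd11 zd7) (kd xd7 yd21 zd17) (kd xd7 yd14 zd29) (kd xd10 yd11 zd10) (kd xd10 yd11 zd23) (kd xd10 yd11 zd12) (kd xd8 yd0 zd30) (kd xd8 yd0 zd31) (kd xd10 yd10 zd3)) (@D3.rec (fun _ => Pt) (kd xd10 yd11 zd30) (kd xd9 yd3 zd7) (kd xd7 yd15 zd12) (kd xd7 yd15 zd13) (kd xd10 yd10 zd5) (kd xd8 yd19 zd26) (kd xd10 yd12 zd7) (kd xd9 yd3 zd1) (kd xd7 yd15 zd5) (kd xd10 yd12 zd11) (kd xd10 yd12 zd13) (kd xd10 yd12 zd17) (kd xd7 yd15 zd19) (kd xd7 yd15 zd20) (kd xd10 yd12 zd20) (kd xd7 yd15 zd10) (kd xd10 yd12 zd21) (kd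 xd10 yd12 zd23) (kd xd10 yd12 zd27) (kd xd10 yd12 zd2) (kd xd10 yd12 zd3) (kd xd10 yd6 zd22) (kd xd7 yd15 zd16) (kd xd8 yd1 zd7) (kd xd7 yd15 zd17) (kd xd10 yd12 zd31) (kd xd10 yd13 zd1) (kd xd10 yd13 zd6) (kd xd7 yd15 zd18) (kd xd10 yd12 zd18) (kd xd10 yd13 zd9) (kd xd7 yd15 zd21)) (@D3.rec (fun _ => Pt) (kd xd10 yd12 zd30) (kd xd7 yd15 zd25) (kd xd8 yd1 zd18) (kd xd7 yd15 zd26) (kd xd8 yd1 zd20) (kd xd8 yd18 zd15) (kd xd10 yd13 zd12) (kd xd10 yd13 zd16) (kd xd7 yd15 zd27) (kd xd8 yd18 zd16) (kd xd9 yd18 zd1) (kd xd7 yd15 zd30) (kd xd8 yd18 zd18) (kd xd8 yd0 zd0) (kd xd10 yd5 zd26) (kd xd7 yd18 zd15) (kd xd9 yd4 zd16) (kd xd7 yd18 zd16) (kd xd9 yd4 zd18) (kd xd9 yd4 zd19) (kd xd10 yd1 zd29) (kd xd8 yd1 zd29) (kd xd8 yd1 zd30) (kd xd10 yd8 zd20)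 (kd xd7 yd16 zd22) (kd xd7 yd16 zd23) (kd xd10 yd8 zd12) (kd xd7 yd19 zd26) (kd xd7 yd16 zd31) (kd xd7 yd19 zd28) (kd xd7 yd19 zd29) (kd xd10 yd0 zd20)) (@D3.rec (fun _ => Pt) (kd xd7 yd19 zd31) (kd xd7 yd20 zd0) (kd xd10 yd14 zd5) (kd xd7 yd16 zd25) (kd xd10 yd14 zd7) (kd xd7 yd16 zd21) (kd xd10 yd13 zd27) (kd xd10 yd8 zd11) (kd xd9 yd19 zd31) (kd xd7 yd16 zd26) (kd xd7 yd20 zd10) (kd xd7 yd20 zd11) (kd xd9 yd5 zd12) (kd xd7 yd18 zd17) (kd xd9 yd5 zd14) (kd xd9 yd20 zd23) (kd xd9 yd5 zd16) (kd xd10 yd14 zd15) (kd xd8 yd2 zd3) (kd xd10 yd9 zd18) (kd xd7 yd17 zd25) (kd xd10 yd9 zd14) (kd xd7 yd20 zd12) (kd xd7 yd20 zd13) (kd xd9 yd19 zd26) (kd xd7 yd20 zd16) (kd xd10 yd14 zd21) (kd xd7 yd20 zd18) (kd xd10 yd14 zd23) (kd xd7 yd17 zd21) (kd xd9 yd21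 zd10) (kd xd7 yd17 zd23)) (@D3.rec (fun _ => Pt) (kd xd10 yd14 zd24) (kd xd9 yd21 zd9) (kd xd7 yd17 zd30) (kd xd10 yd14 zd26) (kd xd7 yd18 zd2) (kd xd8 yd2 zd7) (kd xd7 yd18 zd0) (kd xd10 yd14 zd27) (kd xd8 yd2 zd10) (kd xd8 yd2 zd13) (kd xd7 yd18 zd8) (kd xd7 yd18 zd12) (kd xd9 yd6 zd12) (kd xd7 yd18 zd13) (kd xd8 yd2 zd15) (kd xd8 yd2 zd16) (kd xd10 yd14 zd29) (kd xd10 yd15 zd0) (kd xd10 yd15 zd2) (kd xd10 yd13 zd19) (kd xd10 yd15 zd10) (kd xd8 yd20 zd4) (kd xd7 yd18 zd19) (kd xd10 yd15 zd14) (kd xd10 yd15 zd16) (kd xd10 yd15 zd20) (kd xd7 yd18 zd22) (kd xd9 yd6 zd27) (kd xd7 yd18 zd23) (kd xd10 yd15 zd22) (kd xd10 yd15 zd24) (kd xd10 yd15 zd29)) (@D3.rec (fun _ => Pt) (kd xd7 yd18 zd24) (kd xd7 yd19 zd10) (kd xd10 yd16 zd0) (kd xd7 yd18 zd27)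 (kd xd7 yd18 zd29) (kd xd8 yd2 zd20) (kd xd7 yd18 zd30) (kd xd10 yd16 zd3) (kd xd10 yd16 zd5) (kd xd10 yd16 zd10) (kd xd7 yd18 zd31) (kd xd8 yd7 zd4) (kd xd10 yd16 zd13) (kd xd7 yd19 zd2) (kd xd7 yd19 zd13) (kd xd7 yd19 zd6) (kd xd8 yd2 zd31) (kd xd7 yd19 zd7) (kd xd8 yd3 zd1) (kd xd10 yd16 zd20) (kd xd10 yd16 zd16) (kd xd10 yd16 zd22) (kd xd7 yd19 zd8) (kd xd10 yd16 zd24) (kd xd9 yd17 zd21) (kd xd7 yd19 zd11) (kd xd10 yd16 zd23) (kd xd10 yd16 zd15) (kd xd7 yd19 zd19) (kd xd8 yd3 zd12) (kd xd10 yd16 zd29) (kd xd8 yd17 zd16)) (@D3.rec (fun _ => Pt) (kd xd7 yd19 zd18) (kd xd10 yd16 zd30) (kd xd7 yd19 zd20) (kd xd10 yd13 zd29) (kd xd10 yd13 zd30) (kd xd9 yd18 zd28) (kd xd10 yd14 zd0) (kd xd10 yd14 zd1) (kd xd10 yd17 zd4) (kd xd10 yd14 zd3) (kd xd10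 yd17 zd6) (kd xd7 yd20 zd1) (kd xd9 yd17 zd28) (kd xd7 yd20 zd3) (kd xd10 yd17 zd7) (kd xd9 yd17 zd27) (kd xd7 yd20 zd6) (kd xd10 yd8 zd9) (kd xd10 yd14 zd10) (kd xd10 yd2 zd1) (kd xd10 yd14 zd18) (kd xd10 yd17 zd12) (kd xd10 yd3 zd8) (kd xd10 yd17 zd14) (kd xd7 yd20 zd17) (kd xd9 yd21 zd17) (kd xd7 yd20 zd19) (kd xd7 yd20 zd23) (kd xd7 yd20 zd29) (kd xd7 yd21 zd2) (kd xd7 yd21 zd5) (kd xd10 yd6 zd12)) (@D3.rec (fun _ => Pt) (kd xd7 yd21 zd4) (kd xd10 yd17 zd22) (kd xd10 yd6 zd21) (kd xd7 yd21 zd7) (kd xd10 yd17 zd25) (kd xd7 yd21 zd15) (kd xd7 yd21 zd9) (kd xd10 yd17 zd28) (kd xd8 yd1 zd13) (kd xd7 yd21 zd12) (kd xd10 yd7 zd17) (kd xd7 yd21 zd13) (kd xd10 yd18 zd0) (kd xd10 yd18 zd2) (kd xd10 yd18 zd7) (kd xd7 yd21 zd14) (kd xd8 yd1 zd5) (kd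 xd10 yd11 zd18) (kd xd10 yd17 zd31) (kd xd7 yd21 zd21) (kd xd10 yd7 zd28) (kd xd7 yd21 zd22) (kd xd10 yd18 zd11) (kd xd9 yd10 zd5) (kd xd9 yd18 zd0) (kd xd7 yd21 zd26) (kd xd9 yd19 zd30) (kd xd9 yd21 zd5) (kd xd10 yd9 zd31) (kd xd8 yd0 zd7) (kd xd8 yd0 zd9) (kd xd10 yd10 zd15)) (@D3.rec (fun _ => Pt) (kd xd9 yd10 zd4) (kd xd8 yd0 zd13) (kd xd10 yd10 zd21) (kd xd8 yd0 zd14) (kd xd9 yd10 zd0) (kd xd9 yd9 zd23) (kd xd10 yd4 zd30) (kd xd8 yd0 zd18) (kd xd10 yd11 zd8) (kd xd8 yd0 zd24) (kd xd10 yd18 zd20) (kd xd8 yd0 zd29) (kd xd10 yd11 zd13) (kd xd10 yd11 zd14) (kd xd10 yd18 zd14) (kd xd8 yd0 zd28) (kd xd10 yd18 zd27) (kd xd10 yd18 zd29) (kd xd10 yd11 zd27) (kd xd10 yd11 zd28) (kd xd8 yd1 zd1) (kd xd10 yd18 zd28) (kd xd10 yd19 zd2) (kd xd8 yd1 zd4)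 (kd xd10 yd12 zd22) (kd xd10 yd19 zd6) (kd xd8 yd1 zd16) (kd xd8 yd1 zd9) (kd xd10 yd13 zd0) (kd xd8 yd1 zd10) (kd xd10 yd13 zd2) (kd xd10 yd19 zd14)) (@D3.rec (fun _ => Pt) (kd xd10 yd19 zd10) (kd xd10 yd19 zd16) (kd xd8 yd1 zd11) (kd xd10 yd19 zd18) (kd xd9 yd19 zd28) (kd xd8 yd1 zd14) (kd xd10 yd19 zd17) (kd xd10 yd19 zd9) (kd xd8 yd1 zd22) (kd xd10 yd13 zd13) (kd xd9 yd2 zd14) (kd xd10 yd19 zd21) (kd xd8 yd1 zd23) (kd xd9 yd2 zd21) (kd xd10 yd13 zd25) (kd xd8 yd3 zd20) (kd xd10 yd14 zd25) (kd xd8 yd2 zd5) (kd xd8 yd2 zd9) (kd xd10 yd14 zd28) (kd xd8 yd2 zd17) (kd xd10 yd14 zd30) (kd xd10 yd19 zd24) (kd xd10 yd15 zd6) (kd xd10 yd15 zd7) (kd xd10 yd19 zd30) (kd xd9 yd11 zd26) (kd xd8 yd2 zd22) (kd xd10 yd16 zd4) (kd xd8 yd2 zd23) (kd xd10 yd16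 zd6) (kd xd10 yd20 zd4)) (@D3.rec (fun _ => Pt) (kd xd10 yd20 zd0) (kd xd10 yd20 zd6) (kd xd8 yd2 zd24) (kd xd10 yd20 zd8) (kd xd9 yd17 zd20) (kd xd8 yd2 zd27) (kd xd10 yd20 zd7) (kd xd8 yd3 zd10) (kd xd8 yd3 zd3) (kd xd10 yd16 zd17) (kd xd10 yd4 zd9) (kd xd10 yd20 zd13) (kd xd8 yd3 zd2) (kd xd10 yd20 zd14) (kd xd8 yd3 zd4) (kd xd8 yd3 zd9) (kd xd8 yd3 zd6) (kd xd10 yd20 zd15) (kd xd8 yd16 zd17) (kd xd8 yd17 zd2) (kd xd8 yd3 zd15) (kd xd10 yd8 zd7) (kd xd8 yd3 zd23) (kd xd10 yd20 zd18) (kd xd10 yd20 zd16) (kd xd9 yd12 zd25) (kd xd8 yd3 zd25) (kd xd8 yd19 zd29) (kd xd10 yd20 zd26) (kd xd8 yd19 zd31) (kd xd8 yd3 zd31) (kd xd8 yd4 zd0)) (@D3.rec (fun _ => Pt) (kd xd9 yd18 zd26) (kd xd8 yd3 zd29) (kd xd10 yd21 zd0) (kd xd10 yd21 zd2) (kd xd10 yd21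 zd6) (kd xd10 yd1 zd31) (kd xd10 yd20 zd30) (kd xd10 yd21 zd9) (kd xd8 yd4 zd3) (kd xd9 yd13 zd9) (kd xd8 yd4 zd4) (kd xd10 yd21 zd11) (kd xd10 yd21 zd13) (kd xd8 yd13 zd27) (kd xd8 yd4 zd5) (kd xd10 yd4 zd27) (kd xd10 yd21 zd17) (kd xd8 yd4 zd8) (kd xd9 yd13 zd18) (kd xd9 yd13 zd19) (kd xd9 yd13 zd20) (kd xd9 yd19 zd19) (kd xd9 yd13 zd22) (kd xd8 yd4 zd24) (kd xd9 yd13 zd24) (kd xd10 yd21 zd24) (kd xd8 yd4 zd19) (kd xd10 yd21 zd26) (kd xd10 yd2 zd2) (kd xd10 yd21 zd28) (kd xd8 yd4 zd20) (kd xd10 yd5 zd0)) (@D3.rec (fun _ => Pt) (kd xd8 yd4 zd22) (kd xd9 yd14 zd1) (kd xd10 yd21 zd30) (kd xd8 yd4 zd25) (kd xd11 yd0 zd0) (kd xd11 yd0 zd1) (kd xd11 yd0 zd2) (kd xd8 yd4 zd30) (kd xd11 yd0 zd4) (kd xd8 yd5 zd0) (kd xd10 yd6 zd7) (kd xd8 yd5 zd2) (kd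 xd9 yd14 zd12) (kd xd9 yd14 zd13) (kd xd8 yd5 zd10) (kd xd9 yd14 zd15) (kd xd8 yd5 zd9) (kd xd11 yd0 zd12) (kd xd11 yd0 zd8) (kd xd9 yd14 zd19) (kd xd9 yd14 zd20) (kd xd10 yd0 zd11) (kd xd8 yd5 zd13) (kd xd11 yd0 zd18) (kd xd11 yd0 zd20) (kd xd11 yd0 zd24) (kd xd8 yd5 zd22) (kd xd8 yd5 zd23) (kd xd11 yd0 zd27) (kd xd8 yd5 zd19) (kd xd9 yd14 zd30) (kd xd8 yd5 zd20)) (@D3.rec (fun _ => Pt) (kd xd11 yd0 zd29) (kd xd11 yd0 zd31) (kd xd11 yd1 zd4) (kd xd8 yd5 zd21) (kd xd11 yd0 zd25) (kd xd11 yd1 zd7) (kd xd8 yd5 zd24) (kd xd11 yd0 zd28) (kd xd8 yd5 zd28) (kd xd9 yd15 zd9) (kd xd8 yd5 zd29) (kd xd9 yd15 zd11) (kd xd8 yd9 zd30) (kd xd11 yd1 zd10) (kd xd11 yd1 zd14) (kd xd8 yd5 zd30) (kd xd8 yd9 zd31) (kd xd11 yd1 zd15) (kd xd8 yd6 zd1) (kd xd8 yd10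 zd2) (kd xd9 yd15 zd20) (kd xd11 yd1 zd19) (kd xd8 yd6 zd9) (kd xd11 yd1 zd21) (kd xd8 yd6 zd8) (kd xd11 yd1 zd23) (kd xd8 yd6 zd10) (kd xd8 yd7 zd22) (kd xd8 yd6 zd12) (kd xd8 yd7 zd24) (kd xd11 yd1 zd25) (kd xd8 yd7 zd26)) (@D3.rec (fun _ => Pt) (kd xd11 yd1 zd28) (kd xd8 yd6 zd16) (kd xd11 yd1 zd29) (kd xd8 yd6 zd18) (kd xd10 yd9 zd12) (kd xd8 yd6 zd20) (kd xd8 yd7 zd28) (kd xd8 yd6 zd25) (kd xd8 yd7 zd30) (kd xd8 yd8 zd3) (kd xd9 yd16 zd10) (kd xd9 yd16 zd11) (kd xd10 yd4 zd13) (kd xd8 yd7 zd7) (kd xd8 yd7 zd0) (kd xd9 yd16 zd15) (kd xd8 yd7 zd1) (kd xd9 yd16 zd17) (kd xd11 yd2 zd10) (kd xd11 yd2 zd6) (kd xd11 yd2 zd12) (kd xd8 yd7 zd2) (kd xd11 yd2 zd14) (kd xd11 yd2 zd15) (kd xd8 yd7 zd5) (kd xd11 yd2 zd13) (kd xd11 yd2 zd5) (kd xd8 yd7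 zd13) (kd xd9 yd16 zd28) (kd xd11 yd2 zd22) (kd xd8 yd8 zd7) (kd xd8 yd7 zd12)) (@D3.rec (fun _ => Pt) (kd xd11 yd2 zd23) (kd xd8 yd7 zd14) (kd xd8 yd7 zd19) (kd xd8 yd7 zd16) (kd xd8 yd7 zd17) (kd xd11 yd2 zd24) (kd xd11 yd2 zd17) (kd xd8 yd8 zd18) (kd xd8 yd7 zd20) (kd xd11 yd1 zd24) (kd xd8 yd7 zd25) (kd xd11 yd1 zd26) (kd xd10 yd5 zd2) (kd xd9 yd17 zd30) (kd xd11 yd1 zd27) (kd xd9 yd18 zd7) (kd xd8 yd12 zd6) (kd xd11 yd2 zd1) (kd xd9 yd18 zd6) (kd xd8 yd9 zd6) (kd xd9 yd12 zd4) (kd xd9 yd7 zd24) (kd xd9 yd17 zd22) (kd xd11 yd2 zd21) (kd xd9 yd17 zd24) (kd xd9 yd17 zd25) (kd xd9 yd17 zd26) (kd xd9 yd8 zd15) (kd xd9 yd8 zd12) (kd xd9 yd17 zd29) (kd xd9 yd17 zd13) (kd xd9 yd17 zd31)) (@D3.rec (fun _ => Pt) (kd xd9 yd9 zd24) (kd xd9 yd4 zd10)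 (kd xd8 yd15 zd3) (kd xd8 yd21 zd24) (kd xd8 yd12 zd4) (kd xd9 yd18 zd5) (kd xd9 yd17 zd18) (kd xd9 yd17 zd15) (kd xd8 yd9 zd10) (kd xd11 yd3 zd5) (kd xd11 yd3 zd6) (kd xd8 yd9 zd12) (kd xd11 yd3 zd10) (kd xd11 yd3 zd3) (kd xd9 yd18 zd14) (kd xd8 yd9 zd14) (kd xd8 yd9 zd15) (kd xd11 yd3 zd19) (kd xd10 yd5 zd7) (kd xd8 yd9 zd21) (kd xd8 yd9 zd17) (kd xd10 yd5 zd9) (kd xd11 yd3 zd28) (kd xd10 yd5 zd11) (kd xd8 yd9 zd25) (kd xd8 yd9 zd26) (kd xd9 yd13 zd0) (kd xd11 yd3 zd23) (kd xd9 yd8 zd5) (kd xd8 yd9 zd23) (kd xd11 yd4 zd4) (kd xd11 yd4 zd6)) (@D3.rec (fun _ => Pt) (kd xd10 yd18 zd19) (kd xd11 yd4 zd0) (kd xd11 yd4 zd1) (kd xd11 yd4 zd12) (kd xd8 yd9 zd29) (kd xd11 yd4 zd14) (kd xd11 yd1 zd12) (kd xd8 yd20 zd21) (kd xd11 yd1 zd16) (kd xd8 yd10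 zd3) (kd xd11 yd4 zd17) (kd xd9 yd19 zd11) (kd xd9 yd19 zd12) (kd xd8 yd10 zd5) (kd xd9 yd19 zd14) (kd xd8 yd21 zd19) (kd xd9 yd19 zd16) (kd xd9 yd19 zd17) (kd xd9 yd19 zd18) (kd xd9 yd13 zd21) (kd xd8 yd10 zd28) (kd xd9 yd19 zd21) (kd xd8 yd10 zd10) (kd xd8 yd10 zd31) (kd xd8 yd11 zd0) (kd xd8 yd10 zd20) (kd xd9 yd5 zd24) (kd xd8 yd11 zd2) (kd xd9 yd11 zd4) (kd xd8 yd11 zd3) (kd xd9 yd9 zd26) (kd xd9 yd5 zd8)) (@D3.rec (fun _ => Pt) (kd xd11 yd5 zd12) (kd xd8 yd10 zd22) (kd xd8 yd10 zd23) (kd xd11 yd5 zd15) (kd xd11 yd5 zd16) (kd xd11 yd5 zd13) (kd xd11 yd5 zd17) (kd xd8 yd10 zd24) (kd xd11 yd3 zd2) (kd xd8 yd10 zd26) (kd xd11 yd4 zd29) (kd xd11 yd4 zd30) (kd xd9 yd20 zd12) (kd xd8 yd12 zd19) (kd xd11 yd5 zd1) (kd xd11 yd5 zd2) (kd xd11 yd5 zd23)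 (kd xd11 yd5 zd6) (kd xd11 yd5 zd25) (kd xd8 yd11 zd4) (kd xd8 yd11 zd6) (kd xd9 yd20 zd21) (kd xd9 yd20 zd22) (kd xd9 yd5 zd15) (kd xd9 yd20 zd24) (kd xd9 yd20 zd25) (kd xd9 yd0 zd25) (kd xd11 yd6 zd1) (kd xd9 yd20 zd28) (kd xd11 yd6 zd3) (kd xd8 yd12 zd7) (kd xd9 yd20 zd31)) (@D3.rec (fun _ => Pt) (kd xd8 yd16 zd3) (kd xd8 yd12 zd10) (kd xd8 yd12 zd11) (kd xd11 yd6 zd8) (kd xd11 yd6 zd9) (kd xd9 yd9 zd27) (kd xd8 yd12 zd13) (kd xd9 yd0 zd26) (kd xd11 yd6 zd13) (kd xd9 yd6 zd1) (kd xd9 yd5 zd30) (kd xd8 yd11 zd28) (kd xd8 yd12 zd1) (kd xd11 yd6 zd17) (kd xd8 yd11 zd31) (kd xd8 yd12 zd0) (kd xd8 yd12 zd2) (kd xd9 yd8 zd25) (kd xd11 yd6 zd19) (kd xd11 yd6 zd6) (kd xd8 yd12 zd12) (kd xd11 yd6 zd21) (kd xd8 yd12 zd14) (kd xd8 yd16 zd13) (kd xd8 yd19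 zd13) (kd xd10 yd17 zd16) (kd xd11 yd6 zd22) (kd xd8 yd12 zd21) (kd xd11 yd6 zd25) (kd xd8 yd12 zd28) (kd xd9 yd21 zd30) (kd xd8 yd12 zd23))
def f_d_10 : D2 → D3 → Pt := @D2.rec (fun _ => D3 → Pt) (@D3.rec (fun _ => Pt) (kd xd8 yd17 zd21) (kd xd8 yd12 zd25) (kd xd11 yd7 zd2) (kd xd11 yd6 zd24) (kd xd10 yd0 zd4) (kd xd8 yd12 zd27) (kd xd11 yd6 zd26) (kd xd11 yd7 zd11) (kd xd11 yd6 zd28) (kd xd10 yd0 zd9) (kd xd10 yd0 zd10) (kd xd9 yd14 zd21) (kd xd10 yd0 zd15) (kd xd10 yd0 zd13) (kd xd8 yd13 zd0) (kd xd10 yd0 zd12) (kd xd11 yd7 zd25) (kd xd10 yd10 zd4) (kd xd8 yd13 zd12) (kd xd8 yd13 zd13) (kd xd9 yd4 zd31) (kd xd10 yd6 zd24) (kd xd11 yd8 zd2) (kd xd10 yd10 zd7) (kd xd8 yd13 zd5) (kd xd11 yd8 zd6) (kd xd11 yd8 zd8) (kd xd11 yd8 zd12) (kd xd8 yd13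 zd19) (kd xd8 yd13 zd20) (kd xd11 yd8 zd15) (kd xd8 yd13 zd10)) (@D3.rec (fun _ => Pt) (kd xd11 yd8 zd16) (kd xd11 yd8 zd17) (kd xd10 yd17 zd21) (kd xd11 yd7 zd29) (kd xd11 yd7 zd30) (kd xd11 yd8 zd23) (kd xd8 yd13 zd16) (kd xd10 yd1 zd7) (kd xd8 yd13 zd17) (kd xd11 yd8 zd25) (kd xd11 yd8 zd27) (kd xd11 yd9 zd0) (kd xd8 yd13 zd18) (kd xd11 yd8 zd13) (kd xd11 yd9 zd3) (kd xd8 yd13 zd21) (kd xd11 yd8 zd24) (kd xd8 yd13 zd25) (kd xd10 yd1 zd18) (kd xd8 yd13 zd26) (kd xd11 yd9 zd6) (kd xd10 yd21 zd15) (kd xd11 yd3 zd1) (kd xd8 yd13 zd30) (kd xd8 yd17 zd22) (kd xd8 yd14 zd2) (kd xd8 yd17 zd7) (kd xd8 yd17 zd8) (kd xd10 yd1 zd28) (kd xd9 yd4 zd20) (kd xd8 yd17 zd10) (kd xd9 yd13 zd5)) (@D3.rec (fun _ => Pt) (kd xd8 yd17 zd12) (kd xd9 yd8 zd19) (kd xd9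 yd13 zd28) (kd xd11 yd9 zd8) (kd xd10 yd2 zd4) (kd xd10 yd2 zd5) (kd xd11 yd9 zd20) (kd xd10 yd2 zd7) (kd xd8 yd14 zd25) (kd xd8 yd15 zd6) (kd xd10 yd2 zd10) (kd xd8 yd15 zd7) (kd xd10 yd2 zd12) (kd xd9 yd2 zd4) (kd xd8 yd14 zd29) (kd xd8 yd14 zd30) (kd xd11 yd9 zd28) (kd xd10 yd2 zd17) (kd xd8 yd15 zd8) (kd xd10 yd2 zd19) (kd xd10 yd2 zd20) (kd xd11 yd7 zd21) (kd xd10 yd2 zd22) (kd xd10 yd2 zd23) (kd xd11 yd10 zd5) (kd xd8 yd15 zd0) (kd xd11 yd10 zd7) (kd xd8 yd14 zd28) (kd xd11 yd9 zd26) (kd xd11 yd10 zd9) (kd xd8 yd14 zd31) (kd xd11 yd5 zd26)) (@D3.rec (fun _ => Pt) (kd xd8 yd15 zd1) (kd xd10 yd3 zd1) (kd xd11 yd9 zd22) (kd xd8 yd15 zd18) (kd xd9 yd2 zd10) (kd xd11 yd10 zd13) (kd xd8 yd17 zd14) (kd xd11 yd5 zd27) (kd xd9 yd8 zd22) (kd xd11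 yd10 zd16) (kd xd10 yd3 zd10) (kd xd11 yd10 zd18) (kd xd8 yd15 zd21) (kd xd11 yd10 zd20) (kd xd8 yd16 zd16) (kd xd9 yd0 zd10) (kd xd11 yd10 zd22) (kd xd8 yd16 zd10) (kd xd11 yd10 zd24) (kd xd8 yd15 zd30) (kd xd10 yd3 zd20) (kd xd10 yd3 zd21) (kd xd11 yd5 zd0) (kd xd10 yd3 zd23) (kd xd11 yd10 zd29) (kd xd10 yd3 zd25) (kd xd11 yd10 zd31) (kd xd8 yd16 zd6) (kd xd11 yd6 zd15) (kd xd8 yd16 zd8) (kd xd11 yd11 zd0) (kd xd8 yd16 zd11)) (@D3.rec (fun _ => Pt) (kd xd10 yd4 zd0) (kd xd10 yd4 zd1) (kd xd10 yd4 zd2) (kd xd8 yd16 zd18) (kd xd11 yd11 zd6) (kd xd8 yd16 zd26) (kd xd10 yd4 zd6) (kd xd8 yd16 zd20) (kd xd8 yd16 zd29) (kd xd9 yd12 zd10) (kd xd8 yd16 zd31) (kd xd10 yd4 zd11) (kd xd10 yd4 zd12) (kd xd9 yd16 zd12) (kd xd8 yd17 zd15) (kd xd11 yd11 zd7)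 (kd xd10 yd16 zd28) (kd xd11 yd11 zd9) (kd xd10 yd4 zd18) (kd xd11 yd11 zd13) (kd xd11 yd11 zd23) (kd xd11 yd11 zd15) (kd xd8 yd16 zd30) (kd xd10 yd16 zd27) (kd xd8 yd17 zd4) (kd xd11 yd9 zd9) (kd xd11 yd9 zd12) (kd xd9 yd13 zd15) (kd xd8 yd18 zd26) (kd xd10 yd4 zd29) (kd xd9 yd10 zd6) (kd xd11 yd7 zd0)) (@D3.rec (fun _ => Pt) (kd xd9 yd13 zd31) (kd xd9 yd2 zd7) (kd xd9 yd17 zd12) (kd xd8 yd18 zd2) (kd xd11 yd11 zd28) (kd xd11 yd11 zd27) (kd xd8 yd18 zd4) (kd xd9 yd18 zd18) (kd xd8 yd18 zd6) (kd xd9 yd18 zd21) (kd xd11 yd12 zd4) (kd xd9 yd18 zd23) (kd xd8 yd18 zd12) (kd xd8 yd20 zd2) (kd xd8 yd18 zd10) (kd xd11 yd12 zd8) (kd xd8 yd18 zd14) (kd xd10 yd13 zd14) (kd xd10 yd13 zd17) (kd xd8 yd21 zd1) (kd xd8 yd18 zd28) (kd xd8 yd18 zd29) (kd xd8 yd21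 zd9) (kd xd8 yd18 zd31) (kd xd8 yd19 zd0) (kd xd11 yd12 zd14) (kd xd9 yd4 zd14) (kd xd11 yd12 zd10) (kd xd11 yd12 zd16) (kd xd11 yd12 zd12) (kd xd11 yd12 zd18) (kd xd8 yd19 zd1)) (@D3.rec (fun _ => Pt) (kd xd11 yd12 zd20) (kd xd8 yd19 zd10) (kd xd11 yd12 zd22) (kd xd8 yd19 zd7) (kd xd8 yd19 zd9) (kd xd11 yd12 zd23) (kd xd8 yd19 zd11) (kd xd9 yd14 zd10) (kd xd11 yd12 zd24) (kd xd8 yd19 zd15) (kd xd11 yd12 zd28) (kd xd8 yd19 zd21) (kd xd9 yd8 zd31) (kd xd8 yd19 zd17) (kd xd8 yd19 zd18) (kd xd11 yd13 zd4) (kd xd11 yd12 zd26) (kd xd8 yd19 zd20) (kd xd11 yd12 zd29) (kd xd11 yd13 zd11) (kd xd11 yd12 zd31) (kd xd9 yd9 zd2) (kd xd9 yd3 zd21) (kd xd11 yd11 zd30) (kd xd10 yd0 zd21) (kd xd10 yd6 zd25) (kd xd8 yd19 zd25) (kd xd10 yd7 zd1) (kd xd11 yd13 zd23)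 (kd xd10 yd12 zd6) (kd xd8 yd20 zd5) (kd xd8 yd20 zd6)) (@D3.rec (fun _ => Pt) (kd xd11 yd12 zd1) (kd xd10 yd6 zd27) (kd xd11 yd13 zd31) (kd xd10 yd20 zd25) (kd xd8 yd19 zd30) (kd xd11 yd14 zd3) (kd xd11 yd14 zd5) (kd xd11 yd14 zd9) (kd xd8 yd20 zd11) (kd xd8 yd20 zd12) (kd xd11 yd14 zd12) (kd xd8 yd20 zd3) (kd xd11 yd14 zd13) (kd xd11 yd14 zd15) (kd xd11 yd4 zd23) (kd xd11 yd13 zd27) (kd xd8 yd20 zd8) (kd xd9 yd9 zd10) (kd xd8 yd20 zd9) (kd xd11 yd14 zd20) (kd xd11 yd14 zd22) (kd xd11 yd14 zd27) (kd xd8 yd20 zd10) (kd xd11 yd14 zd10) (kd xd11 yd14 zd30) (kd xd8 yd20 zd13) (kd xd11 yd14 zd19) (kd xd8 yd20 zd17) (kd xd9 yd9 zd20) (kd xd8 yd20 zd18) (kd xd11 yd15 zd1) (kd xd10 yd10 zd24)) (@D3.rec (fun _ => Pt) (kd xd11 yd3 zd0) (kd xd8 yd20 zd22)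 (kd xd8 yd20 zd25) (kd xd10 yd8 zd3) (kd xd10 yd8 zd4) (kd xd9 yd2 zd6) (kd xd10 yd8 zd6) (kd xd9 yd12 zd21) (kd xd10 yd8 zd8) (kd xd9 yd8 zd17) (kd xd11 yd15 zd10) (kd xd9 yd5 zd7) (kd xd9 yd4 zd26) (kd xd10 yd8 zd13) (kd xd11 yd10 zd21) (kd xd10 yd8 zd15) (kd xd8 yd21 zd27) (kd xd10 yd8 zd17) (kd xd11 yd15 zd16) (kd xd8 yd21 zd20) (kd xd9 yd4 zd23) (kd xd10 yd8 zd21) (kd xd8 yd21 zd29) (kd xd10 yd8 zd23) (kd xd10 yd8 zd24) (kd xd11 yd15 zd22) (kd xd10 yd8 zd26) (kd xd11 yd15 zd24) (kd xd8 yd21 zd15) (kd xd8 yd21 zd21) (kd xd11 yd15 zd27) (kd xd8 yd21 zd18)) (@D3.rec (fun _ => Pt) (kd xd11 yd4 zd25) (kd xd11 yd6 zd10) (kd xd8 yd21 zd22) (kd xd11 yd15 zd28) (kd xd8 yd21 zd28) (kd xd11 yd15 zd30) (kd xd8 yd21 zd30) (kd xd10 yd9 zd7) (kd xd9 yd2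 zd13) (kd xd11 yd16 zd1) (kd xd10 yd9 zd10) (kd xd11 yd16 zd3) (kd xd9 yd16 zd4) (kd xd9 yd0 zd6) (kd xd9 yd5 zd21) (kd xd11 yd16 zd4) (kd xd11 yd16 zd5) (kd xd9 yd0 zd12) (kd xd9 yd5 zd19) (kd xd10 yd9 zd19) (kd xd11 yd16 zd8) (kd xd11 yd16 zd9) (kd xd9 yd0 zd18) (kd xd11 yd16 zd10) (kd xd9 yd0 zd20) (kd xd11 yd10 zd19) (kd xd11 yd6 zd12) (kd xd9 yd0 zd23) (kd xd10 yd9 zd28) (kd xd9 yd0 zd29) (kd xd9 yd1 zd2) (kd xd9 yd9 zd28)) (@D3.rec (fun _ => Pt) (kd xd9 yd1 zd1) (kd xd11 yd16 zd11) (kd xd11 yd16 zd13) (kd xd9 yd2 zd31) (kd xd10 yd0 zd17) (kd xd9 yd3 zd4) (kd xd11 yd16 zd19) (kd xd10 yd0 zd23) (kd xd9 yd1 zd7) (kd xd11 yd16 zd23) (kd xd11 yd16 zd25) (kd xd11 yd16 zd28) (kd xd9 yd1 zd17) (kd xd11 yd13 zd7) (kd xd9 yd1 zd14) (kd xd9 yd9 zd31)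 (kd xd9 yd1 zd15) (kd xd11 yd17 zd0) (kd xd9 yd1 zd16) (kd xd11 yd16 zd30) (kd xd9 yd1 zd21) (kd xd9 yd10 zd2) (kd xd9 yd1 zd22) (kd xd11 yd17 zd8) (kd xd10 yd7 zd31) (kd xd11 yd11 zd25) (kd xd9 yd1 zd26) (kd xd9 yd2 zd22) (kd xd11 yd9 zd10) (kd xd10 yd10 zd29) (kd xd10 yd10 zd30) (kd xd11 yd9 zd24)) (@D3.rec (fun _ => Pt) (kd xd10 yd11 zd0) (kd xd11 yd17 zd14) (kd xd11 yd15 zd3) (kd xd11 yd17 zd15) (kd xd9 yd2 zd12) (kd xd9 yd2 zd15) (kd xd11 yd17 zd16) (kd xd9 yd2 zd23) (kd xd9 yd10 zd8) (kd xd9 yd2 zd17) (kd xd9 yd2 zd26) (kd xd11 yd17 zd24) (kd xd9 yd2 zd28) (kd xd9 yd10 zd12) (kd xd9 yd10 zd13) (kd xd11 yd16 zd15) (kd xd11 yd17 zd31) (kd xd11 yd17 zd18) (kd xd9 yd9 zd17) (kd xd11 yd12 zd7) (kd xd11 yd17 zd21) (kd xd11 yd18 zd4) (kd xd11 yd17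 zd23) (kd xd9 yd2 zd27) (kd xd11 yd18 zd8) (kd xd11 yd18 zd10) (kd xd11 yd18 zd14) (kd xd9 yd10 zd18) (kd xd9 yd10 zd19) (kd xd11 yd13 zd28) (kd xd9 yd3 zd0) (kd xd11 yd18 zd17)) (@D3.rec (fun _ => Pt) (kd xd11 yd18 zd19) (kd xd11 yd18 zd23) (kd xd9 yd3 zd19) (kd xd9 yd3 zd20) (kd xd11 yd13 zd16) (kd xd11 yd18 zd26) (kd xd10 yd6 zd29) (kd xd9 yd3 zd6) (kd xd11 yd18 zd30) (kd xd11 yd19 zd0) (kd xd11 yd19 zd4) (kd xd9 yd3 zd9) (kd xd11 yd18 zd9) (kd xd9 yd3 zd10) (kd xd11 yd19 zd6) (kd xd11 yd19 zd8) (kd xd11 yd19 zd13) (kd xd9 yd3 zd11) (kd xd9 yd3 zd29) (kd xd11 yd19 zd16) (kd xd9 yd3 zd14) (kd xd9 yd3 zd16) (kd xd9 yd10 zd24) (kd xd9 yd3 zd17) (kd xd11 yd19 zd19) (kd xd11 yd19 zd21) (kd xd11 yd19 zd26) (kd xd9 yd3 zd18) (kd xd11 yd18 zd24) (kd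 xd11 yd13 zd15) (kd xd9 yd4 zd0) (kd xd9 yd3 zd25)) (@D3.rec (fun _ => Pt) (kd xd9 yd10 zd28) (kd xd9 yd3 zd26) (kd xd9 yd10 zd30) (kd xd11 yd20 zd2) (kd xd11 yd19 zd30) (kd xd11 yd20 zd4) (kd xd9 yd3 zd27) (kd xd11 yd20 zd6) (kd xd11 yd5 zd8) (kd xd9 yd3 zd30) (kd xd11 yd20 zd5) (kd xd11 yd19 zd29) (kd xd9 yd4 zd6) (kd xd9 yd11 zd9) (kd xd10 yd5 zd17) (kd xd11 yd20 zd11) (kd xd9 yd4 zd7) (kd xd10 yd5 zd18) (kd xd10 yd13 zd18) (kd xd9 yd6 zd19) (kd xd10 yd13 zd20) (kd xd10 yd13 zd21) (kd xd11 yd7 zd7) (kd xd10 yd13 zd23) (kd xd11 yd20 zd17) (kd xd9 yd11 zd14) (kd xd11 yd15 zd17) (kd xd9 yd5 zd6) (kd xd11 yd15 zd11) (kd xd9 yd8 zd3) (kd xd9 yd8 zd4) (kd xd11 yd3 zd24)) (@D3.rec (fun _ => Pt) (kd xd9 yd8 zd6) (kd xd9 yd8 zd7) (kd xd11 yd20 zd24)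 (kd xd9 yd8 zd9) (kd xd11 yd20 zd26) (kd xd9 yd5 zd2) (kd xd11 yd5 zd11) (kd xd9 yd5 zd4) (kd xd11 yd20 zd27) (kd xd11 yd5 zd10) (kd xd9 yd8 zd18) (kd xd10 yd14 zd11) (kd xd11 yd4 zd21) (kd xd11 yd20 zd30) (kd xd11 yd20 zd31) (kd xd9 yd5 zd17) (kd xd11 yd6 zd0) (kd xd11 yd6 zd14) (kd xd9 yd8 zd20) (kd xd11 yd21 zd1) (kd xd11 yd21 zd2) (kd xd9 yd5 zd26) (kd xd11 yd6 zd18) (kd xd9 yd5 zd28) (kd xd9 yd6 zd0) (kd xd9 yd11 zd16) (kd xd9 yd6 zd3) (kd xd9 yd6 zd7) (kd xd9 yd11 zd19) (kd xd9 yd6 zd16) (kd xd9 yd11 zd21) (kd xd11 yd21 zd6)) (@D3.rec (fun _ => Pt) (kd xd9 yd6 zd17) (kd xd10 yd15 zd1) (kd xd9 yd6 zd18) (kd xd10 yd15 zd3) (kd xd10 yd15 zd4) (kd xd11 yd11 zd12) (kd xd9 yd11 zd23) (kd xd9 yd11 zd24) (kd xd11 yd21 zd20) (kd xd11 yd21 zd11) (kd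 xd9 yd6 zd20) (kd xd11 yd21 zd21) (kd xd11 yd21 zd23) (kd xd10 yd18 zd23) (kd xd9 yd6 zd23) (kd xd10 yd15 zd15) (kd xd9 yd6 zd24) (kd xd11 yd21 zd28) (kd xd11 yd21 zd30) (kd xd12 yd0 zd3) (kd xd9 yd6 zd25) (kd xd10 yd15 zd21) (kd xd9 yd6 zd29) (kd xd10 yd15 zd23) (kd xd9 yd6 zd30) (kd xd10 yd15 zd25) (kd xd12 yd0 zd10) (kd xd12 yd0 zd6) (kd xd12 yd0 zd12) (kd xd9 yd6 zd31) (kd xd12 yd0 zd14) (kd xd11 yd2 zd29)) (@D3.rec (fun _ => Pt) (kd xd9 yd7 zd2) (kd xd12 yd0 zd13) (kd xd10 yd16 zd2) (kd xd9 yd7 zd7) (kd xd9 yd11 zd28) (kd xd9 yd7 zd8) (kd xd9 yd11 zd30) (kd xd12 yd0 zd22) (kd xd12 yd0 zd18) (kd xd12 yd0 zd24) (kd xd9 yd7 zd9) (kd xd12 yd0 zd26) (kd xd11 yd2 zd28) (kd xd9 yd7 zd12) (kd xd12 yd0 zd25) (kd xd9 yd7 zd27) (kd xd9 yd7 zd20) (kd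 xd9 yd12 zd9) (kd xd12 yd1 zd0) (kd xd12 yd1 zd1) (kd xd9 yd7 zd19) (kd xd12 yd1 zd4) (kd xd9 yd7 zd21) (kd xd9 yd7 zd26) (kd xd9 yd7 zd23) (kd xd12 yd1 zd5) (kd xd12 yd1 zd6) (kd xd10 yd4 zd23) (kd xd10 yd4 zd16) (kd xd9 yd7 zd30) (kd xd9 yd8 zd1) (kd xd11 yd9 zd13)) (@D3.rec (fun _ => Pt) (kd xd11 yd20 zd20) (kd xd12 yd1 zd9) (kd xd11 yd20 zd22) (kd xd12 yd1 zd11) (kd xd9 yd8 zd8) (kd xd11 yd5 zd18) (kd xd9 yd8 zd10) (kd xd9 yd8 zd14) (kd xd12 yd1 zd14) (kd xd11 yd15 zd7) (kd xd11 yd9 zd16) (kd xd12 yd1 zd16) (kd xd9 yd8 zd21) (kd xd11 yd6 zd20) (kd xd9 yd8 zd23) (kd xd10 yd17 zd15) (kd xd9 yd21 zd25) (kd xd11 yd12 zd27) (kd xd12 yd1 zd17) (kd xd11 yd13 zd0) (kd xd11 yd13 zd1) (kd xd10 yd1 zd2) (kd xd9 yd9 zd1) (kd xd12 yd1 zd20) (kd xd11 yd5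 zd7) (kd xd9 yd9 zd4) (kd xd12 yd1 zd21) (kd xd12 yd1 zd24) (kd xd9 yd9 zd7) (kd xd11 yd14 zd14) (kd xd12 yd1 zd28) (kd xd9 yd9 zd18)) (@D3.rec (fun _ => Pt) (kd xd9 yd9 zd12) (kd xd11 yd14 zd21) (kd xd9 yd9 zd13) (kd xd11 yd14 zd23) (kd xd12 yd2 zd1) (kd xd11 yd17 zd5) (kd xd12 yd2 zd3) (kd xd9 yd9 zd14) (kd xd12 yd2 zd4) (kd xd11 yd5 zd5) (kd xd11 yd17 zd7) (kd xd9 yd9 zd22) (kd xd10 yd18 zd17) (kd xd11 yd16 zd14) (kd xd9 yd10 zd14) (kd xd11 yd16 zd31) (kd xd11 yd17 zd1) (kd xd10 yd18 zd12) (kd xd11 yd17 zd19) (kd xd9 yd19 zd0) (kd xd9 yd10 zd10) (kd xd12 yd2 zd8) (kd xd12 yd2 zd10) (kd xd10 yd15 zd13) (kd xd11 yd17 zd28) (kd xd11 yd17 zd29) (kd xd12 yd2 zd15) (kd xd9 yd10 zd16) (kd xd9 yd10 zd21) (kd xd9 yd10 zd17) (kd xd12 yd2 zd17) (kd xd12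 yd2 zd19)) (@D3.rec (fun _ => Pt) (kd xd11 yd18 zd15) (kd xd10 yd19 zd1) (kd xd9 yd10 zd22) (kd xd12 yd2 zd18) (kd xd12 yd2 zd20) (kd xd10 yd19 zd5) (kd xd9 yd10 zd25) (kd xd11 yd19 zd20) (kd xd11 yd19 zd22) (kd xd9 yd11 zd7) (kd xd9 yd11 zd0) (kd xd11 yd19 zd31) (kd xd11 yd11 zd14) (kd xd12 yd2 zd26) (kd xd9 yd10 zd31) (kd xd12 yd2 zd28) (kd xd9 yd11 zd1) (kd xd9 yd11 zd6) (kd xd9 yd11 zd3) (kd xd12 yd2 zd29) (kd xd12 yd2 zd30) (kd xd9 yd11 zd11) (kd xd11 yd21 zd4) (kd xd11 yd21 zd5) (kd xd9 yd11 zd22) (kd xd10 yd19 zd25) (kd xd12 yd3 zd2) (kd xd12 yd3 zd3) (kd xd11 yd21 zd18) (kd xd12 yd3 zd4) (kd xd9 yd11 zd25) (kd xd10 yd19 zd31)) (@D3.rec (fun _ => Pt) (kd xd9 yd12 zd0) (kd xd12 yd0 zd19) (kd xd12 yd3 zd9) (kd xd12 yd3 zd10) (kd xd9 yd11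 zd31) (kd xd12 yd3 zd11) (kd xd9 yd12 zd1) (kd xd9 yd12 zd6) (kd xd9 yd12 zd3) (kd xd12 yd3 zd12) (kd xd12 yd3 zd14) (kd xd11 yd11 zd8) (kd xd11 yd11 zd16) (kd xd9 yd12 zd11) (kd xd9 yd12 zd13) (kd xd9 yd12 zd17) (kd xd9 yd12 zd24) (kd xd10 yd20 zd17) (kd xd9 yd12 zd23) (kd xd12 yd3 zd15) (kd xd12 yd3 zd22) (kd xd12 yd3 zd17) (kd xd10 yd20 zd22) (kd xd11 yd3 zd16) (kd xd12 yd3 zd26) (kd xd10 yd7 zd3) (kd xd9 yd12 zd28) (kd xd12 yd3 zd29) (kd xd12 yd3 zd31) (kd xd12 yd4 zd2) (kd xd9 yd13 zd6) (kd xd12 yd4 zd4)) (@D3.rec (fun _ => Pt) (kd xd9 yd13 zd2) (kd xd10 yd21 zd1) (kd xd9 yd13 zd3) (kd xd12 yd4 zd6) (kd xd12 yd4 zd8) (kd xd12 yd4 zd13) (kd xd9 yd13 zd4) (kd xd11 yd9 zd14) (kd xd12 yd4 zd16) (kd xd9 yd13 zd7) (kd xd12 yd4 zd5) (kd xd9 yd13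 zd11) (kd xd10 yd21 zd12) (kd xd9 yd13 zd12) (kd xd12 yd4 zd19) (kd xd10 yd1 zd21) (kd xd11 yd11 zd26) (kd xd9 yd13 zd16) (kd xd10 yd21 zd18) (kd xd12 yd4 zd22) (kd xd12 yd4 zd23) (kd xd10 yd21 zd21) (kd xd12 yd4 zd25) (kd xd12 yd4 zd26) (kd xd9 yd13 zd25) (kd xd12 yd4 zd28) (kd xd9 yd13 zd27) (kd xd11 yd12 zd19) (kd xd9 yd13 zd29) (kd xd10 yd21 zd29) (kd xd9 yd14 zd2) (kd xd10 yd21 zd31))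
def f_d_11 : D2 → D3 → Pt := @D2.rec (fun _ => D3 → Pt) (@D3.rec (fun _ => Pt) (kd xd9 yd14 zd4) (kd xd9 yd14 zd5) (kd xd9 yd14 zd6) (kd xd12 yd5 zd5) (kd xd9 yd14 zd8) (kd xd12 yd5 zd4) (kd xd11 yd0 zd6) (kd xd12 yd5 zd7) (kd xd9 yd14 zd18) (kd xd11 yd0 zd9) (kd xd11 yd0 zd10) (kd xd11 yd6 zd31) (kd xd9 yd14 zd17) (kd xd12 yd5 zd14) (kd xd12 yd5 zd16) (kd xd12 yd5 zd19) (kd xd11 yd0 zd16) (kd xd12 yd5 zd21) (kd xd9 yd14 zd23) (kd xd12 yd5 zd15) (kd xd9 yd14 zd24) (kd xd12 yd5 zd23) (kd xd12 yd5 zd25) (kd xd12 yd5 zd30) (kd xd9 yd14 zd25) (kd xd9 yd15 zd4) (kd xd12 yd6 zd1) (kd xd9 yd14 zd28) (kd xd9 yd15 zd7) (kd xd9 yd15 zd0) (kd xd11 yd0 zd30) (kd xd9 yd15 zd1)) (@D3.rec (fun _ => Pt) (kd xd11 yd1 zd0) (kd xd12 yd6 zd8) (kd xd12 yd6 zd4) (kd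 xd12 yd6 zd10) (kd xd9 yd15 zd2) (kd xd12 yd6 zd12) (kd xd12 yd6 zd13) (kd xd9 yd15 zd5) (kd xd12 yd6 zd11) (kd xd12 yd6 zd3) (kd xd9 yd15 zd13) (kd xd11 yd1 zd11) (kd xd9 yd19 zd6) (kd xd12 yd6 zd19) (kd xd9 yd15 zd14) (kd xd9 yd15 zd17) (kd xd9 yd19 zd8) (kd xd12 yd6 zd15) (kd xd12 yd6 zd23) (kd xd9 yd15 zd21) (kd xd12 yd6 zd24) (kd xd9 yd15 zd23) (kd xd11 yd15 zd9) (kd xd9 yd15 zd25) (kd xd9 yd17 zd9) (kd xd9 yd15 zd30) (kd xd9 yd17 zd11) (kd xd9 yd17 zd14) (kd xd9 yd16 zd0) (kd xd9 yd16 zd2) (kd xd11 yd6 zd16) (kd xd11 yd6 zd4)) (@D3.rec (fun _ => Pt) (kd xd11 yd10 zd23) (kd xd9 yd17 zd17) (kd xd11 yd2 zd2) (kd xd11 yd2 zd3) (kd xd12 yd7 zd1) (kd xd9 yd16 zd26) (kd xd9 yd16 zd19) (kd xd11 yd2 zd7) (kd xd12 yd7 zd5) (kd xd12 yd7 zd6) (kd xd9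 yd16 zd18) (kd xd12 yd7 zd9) (kd xd9 yd16 zd20) (kd xd9 yd16 zd25) (kd xd9 yd16 zd22) (kd xd9 yd16 zd23) (kd xd12 yd7 zd10) (kd xd9 yd17 zd6) (kd xd12 yd7 zd12) (kd xd12 yd7 zd16) (kd xd12 yd7 zd17) (kd xd9 yd17 zd23) (kd xd9 yd16 zd29) (kd xd9 yd17 zd0) (kd xd9 yd17 zd5) (kd xd12 yd7 zd11) (kd xd12 yd6 zd28) (kd xd12 yd6 zd29) (kd xd10 yd16 zd12) (kd xd10 yd15 zd31) (kd xd12 yd3 zd6) (kd xd11 yd2 zd31)) (@D3.rec (fun _ => Pt) (kd xd10 yd8 zd0) (kd xd10 yd1 zd22) (kd xd9 yd20 zd8) (kd xd9 yd18 zd13) (kd xd11 yd3 zd4) (kd xd9 yd18 zd9) (kd xd9 yd18 zd10) (kd xd12 yd7 zd25) (kd xd11 yd16 zd24) (kd xd11 yd3 zd9) (kd xd9 yd18 zd12) (kd xd12 yd7 zd18) (kd xd12 yd8 zd2) (kd xd12 yd7 zd20) (kd xd11 yd3 zd14) (kd xd11 yd3 zd15) (kd xd10 yd20 zd23) (kd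 xd11 yd7 zd22) (kd xd11 yd3 zd18) (kd xd9 yd18 zd17) (kd xd11 yd11 zd31) (kd xd11 yd16 zd12) (kd xd11 yd12 zd0) (kd xd9 yd18 zd27) (kd xd10 yd13 zd31) (kd xd11 yd12 zd2) (kd xd12 yd8 zd20) (kd xd11 yd12 zd3) (kd xd9 yd18 zd22) (kd xd12 yd8 zd24) (kd xd12 yd8 zd26) (kd xd12 yd8 zd30)) (@D3.rec (fun _ => Pt) (kd xd9 yd19 zd1) (kd xd9 yd19 zd2) (kd xd12 yd9 zd1) (kd xd12 yd9 zd2) (kd xd9 yd18 zd30) (kd xd11 yd4 zd5) (kd xd9 yd18 zd31) (kd xd12 yd9 zd4) (kd xd12 yd9 zd6) (kd xd12 yd9 zd10) (kd xd12 yd8 zd31) (kd xd12 yd9 zd11) (kd xd9 yd19 zd3) (kd xd12 yd9 zd3) (kd xd9 yd19 zd5) (kd xd12 yd6 zd18) (kd xd12 yd6 zd21) (kd xd9 yd19 zd10) (kd xd11 yd4 zd18) (kd xd11 yd4 zd19) (kd xd11 yd4 zd20) (kd xd10 yd14 zd12) (kd xd11 yd4 zd22) (kd xd10 yd7 zd14)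 (kd xd11 yd4 zd24) (kd xd10 yd9 zd0) (kd xd12 yd9 zd21) (kd xd11 yd4 zd27) (kd xd12 yd9 zd23) (kd xd9 yd20 zd10) (kd xd9 yd20 zd11) (kd xd11 yd4 zd31)) (@D3.rec (fun _ => Pt) (kd xd10 yd3 zd22) (kd xd9 yd20 zd14) (kd xd9 yd20 zd15) (kd xd12 yd9 zd29) (kd xd12 yd9 zd30) (kd xd10 yd18 zd9) (kd xd9 yd20 zd17) (kd xd10 yd17 zd24) (kd xd10 yd13 zd8) (kd xd12 yd10 zd3) (kd xd10 yd14 zd9) (kd xd10 yd14 zd6) (kd xd9 yd20 zd0) (kd xd9 yd20 zd5) (kd xd12 yd10 zd7) (kd xd9 yd20 zd3) (kd xd9 yd20 zd4) (kd xd9 yd20 zd6) (kd xd10 yd17 zd5) (kd xd12 yd10 zd9) (kd xd12 yd9 zd24) (kd xd12 yd9 zd27) (kd xd12 yd10 zd11) (kd xd9 yd20 zd16) (kd xd12 yd10 zd12) (kd xd9 yd20 zd18) (kd xd10 yd2 zd31) (kd xd10 yd3 zd7) (kd xd12 yd10 zd15) (kd xd12 yd10 zd16) (kd xd11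 yd5 zd30) (kd xd12 yd10 zd18)) (@D3.rec (fun _ => Pt) (kd xd10 yd14 zd16) (kd xd9 yd20 zd27) (kd xd12 yd10 zd20) (kd xd9 yd20 zd29) (kd xd11 yd1 zd31) (kd xd12 yd10 zd22) (kd xd9 yd21 zd19) (kd xd12 yd10 zd24) (kd xd9 yd21 zd3) (kd xd9 yd21 zd4) (kd xd10 yd9 zd1) (kd xd12 yd10 zd26) (kd xd10 yd9 zd26) (kd xd9 yd21 zd8) (kd xd10 yd14 zd17) (kd xd10 yd3 zd28) (kd xd11 yd1 zd30) (kd xd9 yd21 zd13) (kd xd10 yd14 zd22) (kd xd9 yd21 zd18) (kd xd10 yd17 zd13) (kd xd9 yd21 zd21) (kd xd9 yd21 zd26) (kd xd12 yd10 zd30) (kd xd10 yd0 zd3) (kd xd9 yd21 zd28) (kd xd10 yd0 zd6) (kd xd12 yd11 zd5) (kd xd10 yd0 zd8) (kd xd11 yd6 zd29) (kd xd11 yd6 zd30) (kd xd11 yd0 zd11)) (@D3.rec (fun _ => Pt) (kd xd10 yd4 zd31) (kd xd12 yd10 zd29) (kd xd10 yd0 zd2) (kd xd12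 yd10 zd31) (kd xd12 yd11 zd15) (kd xd12 yd11 zd0) (kd xd11 yd7 zd6) (kd xd10 yd13 zd22) (kd xd12 yd11 zd2) (kd xd12 yd11 zd20) (kd xd12 yd11 zd4) (kd xd10 yd0 zd7) (kd xd12 yd11 zd24) (kd xd12 yd11 zd26) (kd xd12 yd11 zd30) (kd xd11 yd7 zd15) (kd xd11 yd7 zd16) (kd xd12 yd12 zd1) (kd xd12 yd12 zd2) (kd xd11 yd7 zd24) (kd xd11 yd7 zd20) (kd xd10 yd2 zd21) (kd xd11 yd3 zd17) (kd xd12 yd12 zd7) (kd xd11 yd7 zd19) (kd xd10 yd0 zd16) (kd xd12 yd12 zd10) (kd xd12 yd12 zd11) (kd xd12 yd12 zd15) (kd xd10 yd1 zd3) (kd xd10 yd1 zd4) (kd xd12 yd12 zd18)) (@D3.rec (fun _ => Pt) (kd xd12 yd12 zd19) (kd xd11 yd13 zd18) (kd xd10 yd0 zd22) (kd xd12 yd12 zd23) (kd xd12 yd12 zd25) (kd xd12 yd12 zd29) (kd xd10 yd0 zd25) (kd xd12 yd11 zd25) (kd xd10 yd0 zd26) (kd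 xd12 yd12 zd31) (kd xd12 yd13 zd1) (kd xd12 yd13 zd6) (kd xd10 yd0 zd27) (kd xd10 yd1 zd13) (kd xd12 yd13 zd9) (kd xd10 yd0 zd30) (kd xd10 yd1 zd0) (kd xd10 yd1 zd1) (kd xd12 yd13 zd11) (kd xd12 yd13 zd12) (kd xd12 yd13 zd16) (kd xd12 yd12 zd16) (kd xd12 yd13 zd17) (kd xd10 yd1 zd5) (kd xd10 yd1 zd16) (kd xd10 yd1 zd9) (kd xd11 yd8 zd26) (kd xd10 yd1 zd10) (kd xd11 yd8 zd28) (kd xd12 yd13 zd24) (kd xd12 yd13 zd20) (kd xd12 yd13 zd26)) (@D3.rec (fun _ => Pt) (kd xd10 yd1 zd11) (kd xd12 yd13 zd28) (kd xd12 yd10 zd14) (kd xd10 yd1 zd14) (kd xd12 yd13 zd27) (kd xd12 yd13 zd19) (kd xd10 yd1 zd20) (kd xd12 yd4 zd20) (kd xd10 yd2 zd3) (kd xd10 yd4 zd25) (kd xd10 yd10 zd28) (kd xd12 yd14 zd0) (kd xd10 yd4 zd26) (kd xd10 yd16 zd31) (kd xd10 yd21 zd7) (kd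 xd12 yd11 zd13) (kd xd10 yd17 zd10) (kd xd12 yd14 zd5) (kd xd11 yd9 zd18) (kd xd12 yd14 zd7) (kd xd10 yd2 zd6) (kd xd12 yd14 zd9) (kd xd10 yd3 zd2) (kd xd11 yd9 zd23) (kd xd10 yd10 zd31) (kd xd12 yd14 zd12) (kd xd10 yd2 zd28) (kd xd12 yd14 zd14) (kd xd10 yd2 zd16) (kd xd11 yd9 zd29) (kd xd11 yd9 zd30) (kd xd12 yd8 zd12)) (@D3.rec (fun _ => Pt) (kd xd11 yd10 zd0) (kd xd11 yd10 zd1) (kd xd12 yd14 zd20) (kd xd11 yd10 zd3) (kd xd12 yd14 zd22) (kd xd10 yd2 zd24) (kd xd12 yd10 zd5) (kd xd10 yd2 zd26) (kd xd12 yd14 zd23) (kd xd10 yd2 zd29) (kd xd11 yd10 zd10) (kd xd11 yd10 zd11) (kd xd11 yd10 zd12) (kd xd10 yd3 zd5) (kd xd12 yd9 zd13) (kd xd12 yd10 zd27) (kd xd10 yd3 zd9) (kd xd12 yd10 zd19) (kd xd10 yd3 zd11) (kd xd10 yd9 zd25) (kd xd10 yd3 zd13) (kd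 xd10 yd8 zd14) (kd xd10 yd3 zd16) (kd xd11 yd2 zd0) (kd xd10 yd3 zd18) (kd xd12 yd15 zd2) (kd xd11 yd10 zd26) (kd xd12 yd15 zd6) (kd xd12 yd10 zd21) (kd xd10 yd3 zd24) (kd xd12 yd15 zd7) (kd xd10 yd3 zd26)) (@D3.rec (fun _ => Pt) (kd xd10 yd3 zd30) (kd xd12 yd15 zd1) (kd xd12 yd15 zd0) (kd xd11 yd11 zd3) (kd xd11 yd11 zd4) (kd xd11 yd11 zd5) (kd xd10 yd4 zd4) (kd xd10 yd4 zd15) (kd xd10 yd20 zd11) (kd xd10 yd4 zd17) (kd xd11 yd11 zd10) (kd xd11 yd11 zd11) (kd xd10 yd15 zd5) (kd xd10 yd4 zd19) (kd xd10 yd19 zd12) (kd xd10 yd4 zd21) (kd xd10 yd20 zd12) (kd xd12 yd15 zd10) (kd xd11 yd11 zd18) (kd xd11 yd11 zd19) (kd xd12 yd15 zd24) (kd xd12 yd15 zd12) (kd xd12 yd15 zd18) (kd xd10 yd4 zd20) (kd xd11 yd20 zd10) (kd xd10 yd10 zd25) (kd xd10 yd21 zd16)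 (kd xd10 yd5 zd5) (kd xd10 yd5 zd4) (kd xd12 yd15 zd25) (kd xd10 yd6 zd23) (kd xd11 yd3 zd20)) (@D3.rec (fun _ => Pt) (kd xd11 yd3 zd22) (kd xd10 yd7 zd0) (kd xd11 yd3 zd25) (kd xd11 yd3 zd27) (kd xd10 yd5 zd10) (kd xd12 yd16 zd0) (kd xd12 yd16 zd2) (kd xd10 yd11 zd19) (kd xd10 yd5 zd15) (kd xd12 yd15 zd11) (kd xd10 yd5 zd27) (kd xd12 yd16 zd5) (kd xd10 yd5 zd29) (kd xd12 yd16 zd7) (kd xd10 yd5 zd25) (kd xd12 yd16 zd8) (kd xd10 yd5 zd28) (kd xd12 yd16 zd9) (kd xd10 yd5 zd30) (kd xd10 yd21 zd27) (kd xd10 yd6 zd0) (kd xd12 yd16 zd12) (kd xd10 yd6 zd2) (kd xd10 yd6 zd5) (kd xd10 yd6 zd8) (kd xd12 yd16 zd14) (kd xd10 yd6 zd16) (kd xd10 yd17 zd17) (kd xd10 yd6 zd10) (kd xd10 yd6 zd18) (kd xd12 yd16 zd23) (kd xd10 yd6 zd20)) (@D3.rec (fun _ => Pt) (kd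 xd10 yd17 zd19) (kd xd10 yd17 zd20) (kd xd12 yd15 zd26) (kd xd12 yd16 zd13) (kd xd10 yd6 zd15) (kd xd12 yd16 zd15) (kd xd12 yd16 zd17) (kd xd10 yd10 zd13) (kd xd12 yd16 zd20) (kd xd12 yd17 zd2) (kd xd12 yd16 zd22) (kd xd10 yd6 zd19) (kd xd12 yd17 zd5) (kd xd12 yd17 zd7) (kd xd12 yd17 zd10) (kd xd10 yd12 zd29) (kd xd10 yd12 zd4) (kd xd12 yd17 zd12) (kd xd11 yd8 zd1) (kd xd11 yd13 zd19) (kd xd12 yd14 zd10) (kd xd12 yd17 zd16) (kd xd11 yd13 zd30) (kd xd10 yd6 zd28) (kd xd12 yd17 zd19) (kd xd12 yd17 zd21) (kd xd12 yd17 zd24) (kd xd10 yd7 zd15) (kd xd10 yd11 zd29) (kd xd12 yd17 zd26) (kd xd11 yd13 zd22) (kd xd10 yd7 zd2)) (@D3.rec (fun _ => Pt) (kd xd12 yd17 zd29) (kd xd12 yd17 zd31) (kd xd12 yd18 zd2) (kd xd10 yd7 zd5) (kd xd12 yd17 zd6) (kd xd10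 yd7 zd6) (kd xd12 yd18 zd4) (kd xd12 yd18 zd6) (kd xd12 yd18 zd11) (kd xd10 yd7 zd7) (kd xd10 yd7 zd23) (kd xd12 yd18 zd14) (kd xd10 yd7 zd10) (kd xd10 yd7 zd12) (kd xd10 yd17 zd29) (kd xd10 yd7 zd13) (kd xd12 yd18 zd17) (kd xd12 yd18 zd19) (kd xd12 yd9 zd18) (kd xd10 yd7 zd26) (kd xd10 yd7 zd19) (kd xd10 yd18 zd1) (kd xd10 yd7 zd20) (kd xd10 yd18 zd3) (kd xd12 yd18 zd28) (kd xd12 yd18 zd24) (kd xd12 yd18 zd30) (kd xd10 yd7 zd21) (kd xd12 yd19 zd0) (kd xd12 yd9 zd31) (kd xd10 yd7 zd24) (kd xd12 yd18 zd31)) (@D3.rec (fun _ => Pt) (kd xd12 yd18 zd23) (kd xd10 yd7 zd30) (kd xd11 yd17 zd9) (kd xd10 yd11 zd2) (kd xd11 yd15 zd4) (kd xd12 yd19 zd3) (kd xd11 yd15 zd6) (kd xd10 yd17 zd9) (kd xd12 yd19 zd6) (kd xd11 yd1 zd22) (kd xd10 yd8 zd10) (kd xd10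 yd13 zd28) (kd xd12 yd19 zd7) (kd xd11 yd15 zd13) (kd xd12 yd19 zd9) (kd xd12 yd19 zd10) (kd xd10 yd8 zd18) (kd xd10 yd13 zd26) (kd xd11 yd15 zd18) (kd xd12 yd19 zd13) (kd xd11 yd15 zd20) (kd xd12 yd19 zd15) (kd xd10 yd8 zd25) (kd xd12 yd19 zd18) (kd xd10 yd8 zd27) (kd xd12 yd14 zd8) (kd xd12 yd10 zd25) (kd xd10 yd8 zd30) (kd xd10 yd9 zd3) (kd xd11 yd15 zd29) (kd xd10 yd9 zd5) (kd xd12 yd4 zd31)) (@D3.rec (fun _ => Pt) (kd xd11 yd16 zd0) (kd xd10 yd9 zd9) (kd xd12 yd19 zd23) (kd xd10 yd9 zd11) (kd xd10 yd9 zd15) (kd xd10 yd9 zd16) (kd xd12 yd14 zd31) (kd xd12 yd19 zd24) (kd xd10 yd9 zd20) (kd xd10 yd9 zd21) (kd xd10 yd9 zd23) (kd xd10 yd10 zd1) (kd xd11 yd3 zd21) (kd xd10 yd10 zd2) (kd xd10 yd18 zd13) (kd xd10 yd11 zd15) (kd xd12 yd19 zd25) (kd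 xd12 yd19 zd30) (kd xd12 yd19 zd31) (kd xd10 yd10 zd6) (kd xd12 yd20 zd0) (kd xd12 yd20 zd2) (kd xd12 yd20 zd5) (kd xd10 yd10 zd9) (kd xd11 yd3 zd8) (kd xd10 yd10 zd10) (kd xd12 yd20 zd8) (kd xd12 yd20 zd12) (kd xd10 yd10 zd11) (kd xd12 yd16 zd30) (kd xd10 yd10 zd19) (kd xd10 yd18 zd15)) (@D3.rec (fun _ => Pt) (kd xd10 yd10 zd17) (kd xd10 yd18 zd16) (kd xd12 yd16 zd19) (kd xd12 yd16 zd18) (kd xd12 yd15 zd17) (kd xd10 yd18 zd5) (kd xd12 yd20 zd15) (kd xd10 yd18 zd10) (kd xd10 yd10 zd23) (kd xd11 yd15 zd2) (kd xd12 yd13 zd31) (kd xd11 yd17 zd11) (kd xd12 yd20 zd21) (kd xd12 yd20 zd22) (kd xd10 yd11 zd1) (kd xd10 yd11 zd3) (kd xd10 yd11 zd6) (kd xd12 yd20 zd24) (kd xd10 yd11 zd17) (kd xd10 yd18 zd18) (kd xd12 yd16 zd3) (kd xd10 yd11 zd20) (kd xd12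 yd20 zd30) (kd xd10 yd11 zd22) (kd xd10 yd11 zd11) (kd xd12 yd21 zd2) (kd xd12 yd21 zd4) (kd xd12 yd21 zd8) (kd xd10 yd18 zd24) (kd xd10 yd18 zd25) (kd xd12 yd21 zd11) (kd xd10 yd11 zd16)) (@D3.rec (fun _ => Pt) (kd xd12 yd21 zd12) (kd xd12 yd21 zd14) (kd xd12 yd21 zd15) (kd xd12 yd20 zd29) (kd xd10 yd11 zd21) (kd xd12 yd21 zd18) (kd xd12 yd21 zd20) (kd xd12 yd21 zd23) (kd xd10 yd11 zd24) (kd xd10 yd12 zd12) (kd xd10 yd11 zd25) (kd xd12 yd21 zd25) (kd xd12 yd21 zd27) (kd xd13 yd0 zd0) (kd xd10 yd11 zd26) (kd xd10 yd19 zd0) (kd xd12 yd17 zd25) (kd xd10 yd11 zd31) (kd xd12 yd21 zd13) (kd xd10 yd12 zd0) (kd xd13 yd0 zd4) (kd xd13 yd0 zd6) (kd xd13 yd0 zd11) (kd xd10 yd12 zd1) (kd xd10 yd12 zd28) (kd xd12 yd17 zd11) (kd xd10 yd12 zd5) (kd xd13 yd0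 zd14) (kd xd13 yd0 zd16) (kd xd13 yd0 zd19) (kd xd10 yd12 zd8) (kd xd12 yd21 zd19)) (@D3.rec (fun _ => Pt) (kd xd10 yd12 zd9) (kd xd13 yd0 zd21) (kd xd13 yd0 zd23) (kd xd13 yd0 zd28) (kd xd10 yd12 zd10) (kd xd12 yd12 zd30) (kd xd10 yd12 zd14) (kd xd12 yd21 zd26) (kd xd10 yd12 zd15) (kd xd12 yd21 zd28) (kd xd13 yd1 zd3) (kd xd13 yd0 zd31) (kd xd13 yd1 zd5) (kd xd10 yd12 zd16) (kd xd13 yd1 zd7) (kd xd12 yd10 zd2) (kd xd10 yd12 zd19) (kd xd13 yd1 zd6) (kd xd11 yd19 zd18) (kd xd10 yd12 zd24) (kd xd10 yd19 zd7) (kd xd10 yd12 zd25) (kd xd10 yd19 zd8) (kd xd13 yd1 zd16) (kd xd13 yd1 zd12) (kd xd13 yd1 zd18) (kd xd10 yd12 zd26) (kd xd13 yd1 zd19) (kd xd12 yd10 zd1) (kd xd10 yd13 zd11) (kd xd10 yd13 zd4) (kd xd10 yd19 zd11)) (@D3.rec (fun _ => Pt) (kd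 xd13 yd1 zd23) (kd xd13 yd1 zd24) (kd xd10 yd13 zd3) (kd xd13 yd1 zd27) (kd xd10 yd13 zd5) (kd xd10 yd13 zd10) (kd xd10 yd13 zd7) (kd xd13 yd1 zd28) (kd xd13 yd1 zd29) (kd xd13 yd1 zd31) (kd xd11 yd11 zd24) (kd xd10 yd13 zd15) (kd xd11 yd20 zd12) (kd xd12 yd7 zd30) (kd xd11 yd20 zd14) (kd xd13 yd2 zd2) (kd xd13 yd2 zd3) (kd xd10 yd13 zd24) (kd xd12 yd9 zd20) (kd xd12 yd10 zd4) (kd xd10 yd17 zd0) (kd xd13 yd2 zd5) (kd xd10 yd17 zd2) (kd xd13 yd2 zd7) (kd xd10 yd14 zd2) (kd xd12 yd10 zd8) (kd xd10 yd14 zd4) (kd xd10 yd14 zd8) (kd xd13 yd2 zd10) (kd xd13 yd2 zd11) (kd xd10 yd14 zd13) (kd xd10 yd14 zd14)) (@D3.rec (fun _ => Pt) (kd xd13 yd2 zd13) (kd xd10 yd14 zd19) (kd xd10 yd14 zd20) (kd xd12 yd15 zd8) (kd xd10 yd19 zd22) (kd xd10 yd19 zd23) (kd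 xd10 yd14 zd31) (kd xd12 yd15 zd14) (kd xd13 yd2 zd16) (kd xd13 yd2 zd17) (kd xd11 yd21 zd10) (kd xd10 yd15 zd9) (kd xd11 yd21 zd12) (kd xd11 yd21 zd13) (kd xd12 yd11 zd1) (kd xd11 yd21 zd15) (kd xd11 yd21 zd16) (kd xd13 yd2 zd26) (kd xd10 yd19 zd28) (kd xd13 yd2 zd28) (kd xd10 yd15 zd8) (kd xd10 yd15 zd11) (kd xd11 yd21 zd22) (kd xd10 yd15 zd12) (kd xd13 yd2 zd31) (kd xd13 yd3 zd1) (kd xd13 yd3 zd6) (kd xd11 yd21 zd27) (kd xd10 yd15 zd17) (kd xd11 yd21 zd29) (kd xd10 yd15 zd18) (kd xd11 yd21 zd31))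
def f_d_12 : D2 → D3 → Pt := @D2.rec (fun _ => D3 → Pt) (@D3.rec (fun _ => Pt) (kd xd13 yd3 zd12) (kd xd13 yd3 zd8) (kd xd13 yd3 zd14) (kd xd10 yd15 zd19) (kd xd13 yd3 zd16) (kd xd12 yd0 zd5) (kd xd10 yd15 zd27) (kd xd12 yd0 zd7) (kd xd13 yd3 zd21) (kd xd13 yd3 zd22) (kd xd10 yd15 zd26) (kd xd13 yd3 zd25) (kd xd10 yd15 zd28) (kd xd10 yd16 zd1) (kd xd10 yd15 zd30) (kd xd13 yd3 zd28) (kd xd13 yd3 zd26) (kd xd12 yd0 zd17) (kd xd10 yd16 zd8) (kd xd10 yd20 zd1) (kd xd13 yd4 zd0) (kd xd13 yd4 zd1) (kd xd10 yd16 zd7) (kd xd13 yd4 zd4) (kd xd10 yd16 zd9) (kd xd10 yd16 zd14) (kd xd10 yd16 zd11) (kd xd13 yd4 zd5) (kd xd13 yd4 zd7) (kd xd13 yd4 zd8) (kd xd13 yd4 zd9) (kd xd12 yd15 zd21)) (@D3.rec (fun _ => Pt) (kd xd10 yd16 zd18) (kd xd10 yd16 zd19) (kd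 xd13 yd3 zd23) (kd xd12 yd7 zd8) (kd xd10 yd16 zd21) (kd xd10 yd16 zd25) (kd xd10 yd16 zd26) (kd xd12 yd14 zd2) (kd xd13 yd4 zd12) (kd xd10 yd17 zd1) (kd xd12 yd10 zd10) (kd xd10 yd17 zd3) (kd xd13 yd3 zd15) (kd xd12 yd1 zd13) (kd xd10 yd17 zd8) (kd xd12 yd10 zd28) (kd xd10 yd17 zd11) (kd xd10 yd17 zd18) (kd xd12 yd16 zd27) (kd xd13 yd4 zd18) (kd xd10 yd17 zd23) (kd xd10 yd17 zd26) (kd xd13 yd4 zd20) (kd xd12 yd1 zd23) (kd xd10 yd17 zd27) (kd xd13 yd4 zd21) (kd xd13 yd4 zd22) (kd xd12 yd1 zd27) (kd xd10 yd17 zd30) (kd xd12 yd18 zd18) (kd xd12 yd18 zd20) (kd xd12 yd18 zd25)) (@D3.rec (fun _ => Pt) (kd xd13 yd4 zd25) (kd xd10 yd18 zd4) (kd xd12 yd20 zd14) (kd xd10 yd18 zd6) (kd xd10 yd18 zd8) (kd xd13 yd4 zd26) (kd xd12 yd20 zd16) (kd xd13 yd4 zd27)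 (kd xd10 yd18 zd21) (kd xd12 yd2 zd9) (kd xd10 yd18 zd22) (kd xd13 yd4 zd30) (kd xd13 yd5 zd2) (kd xd12 yd21 zd9) (kd xd13 yd5 zd3) (kd xd10 yd18 zd26) (kd xd12 yd2 zd16) (kd xd10 yd18 zd30) (kd xd10 yd19 zd3) (kd xd10 yd18 zd31) (kd xd10 yd19 zd4) (kd xd12 yd18 zd21) (kd xd13 yd5 zd6) (kd xd13 yd5 zd7) (kd xd13 yd1 zd13) (kd xd12 yd15 zd19) (kd xd10 yd19 zd13) (kd xd12 yd17 zd20) (kd xd10 yd19 zd15) (kd xd10 yd19 zd19) (kd xd10 yd19 zd20) (kd xd12 yd16 zd16)) (@D3.rec (fun _ => Pt) (kd xd13 yd2 zd14) (kd xd13 yd5 zd11) (kd xd10 yd19 zd26) (kd xd10 yd19 zd27) (kd xd10 yd19 zd29) (kd xd12 yd3 zd5) (kd xd11 yd2 zd30) (kd xd12 yd15 zd13) (kd xd13 yd5 zd16) (kd xd10 yd20 zd2) (kd xd10 yd20 zd3) (kd xd10 yd20 zd5) (kd xd10 yd20 zd9) (kd xd12 yd3 zd13)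 (kd xd10 yd20 zd10) (kd xd10 yd20 zd19) (kd xd13 yd5 zd19) (kd xd10 yd20 zd21) (kd xd12 yd3 zd18) (kd xd12 yd3 zd19) (kd xd12 yd7 zd23) (kd xd13 yd5 zd18) (kd xd10 yd20 zd20) (kd xd13 yd5 zd27) (kd xd13 yd5 zd29) (kd xd13 yd5 zd30) (kd xd10 yd20 zd24) (kd xd13 yd6 zd0) (kd xd13 yd6 zd2) (kd xd10 yd20 zd27) (kd xd13 yd5 zd26) (kd xd10 yd20 zd28)) (@D3.rec (fun _ => Pt) (kd xd13 yd6 zd5) (kd xd13 yd6 zd9) (kd xd10 yd20 zd29) (kd xd13 yd6 zd11) (kd xd10 yd20 zd31) (kd xd10 yd21 zd10) (kd xd10 yd21 zd3) (kd xd12 yd4 zd7) (kd xd10 yd21 zd4) (kd xd12 yd4 zd9) (kd xd13 yd6 zd18) (kd xd13 yd6 zd14) (kd xd13 yd6 zd20) (kd xd10 yd21 zd5) (kd xd13 yd6 zd22) (kd xd12 yd16 zd11) (kd xd10 yd21 zd8) (kd xd13 yd6 zd21) (kd xd13 yd6 zd13) (kd xd10 yd21 zd14) (kd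 xd11 yd9 zd7) (kd xd13 yd6 zd25) (kd xd10 yd21 zd19) (kd xd10 yd21 zd20) (kd xd13 yd6 zd28) (kd xd10 yd21 zd22) (kd xd10 yd21 zd23) (kd xd13 yd7 zd0) (kd xd10 yd21 zd25) (kd xd13 yd6 zd31) (kd xd12 yd4 zd30) (kd xd11 yd15 zd31)) (@D3.rec (fun _ => Pt) (kd xd12 yd5 zd0) (kd xd12 yd5 zd1) (kd xd12 yd15 zd4) (kd xd12 yd15 zd3) (kd xd11 yd0 zd5) (kd xd11 yd0 zd3) (kd xd13 yd2 zd12) (kd xd11 yd0 zd7) (kd xd13 yd7 zd5) (kd xd13 yd7 zd7) (kd xd13 yd7 zd11) (kd xd12 yd5 zd11) (kd xd12 yd5 zd12) (kd xd13 yd7 zd14) (kd xd11 yd0 zd13) (kd xd11 yd0 zd19) (kd xd11 yd0 zd14) (kd xd13 yd7 zd17) (kd xd13 yd7 zd21) (kd xd11 yd0 zd15) (kd xd13 yd7 zd23) (kd xd11 yd0 zd17) (kd xd12 yd20 zd6) (kd xd11 yd0 zd21) (kd xd13 yd7 zd16) (kd xd11 yd0 zd22) (kd xd13 yd7 zd18)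 (kd xd13 yd7 zd30) (kd xd13 yd7 zd26) (kd xd13 yd8 zd0) (kd xd11 yd0 zd23) (kd xd13 yd8 zd2)) (@D3.rec (fun _ => Pt) (kd xd13 yd8 zd4) (kd xd11 yd0 zd26) (kd xd13 yd8 zd1) (kd xd11 yd1 zd9) (kd xd11 yd1 zd2) (kd xd12 yd6 zd5) (kd xd13 yd8 zd11) (kd xd13 yd8 zd12) (kd xd11 yd1 zd1) (kd xd13 yd8 zd15) (kd xd11 yd1 zd3) (kd xd11 yd1 zd8) (kd xd11 yd1 zd5) (kd xd11 yd1 zd6) (kd xd13 yd8 zd16) (kd xd11 yd1 zd17) (kd xd13 yd8 zd18) (kd xd13 yd8 zd24) (kd xd11 yd4 zd15) (kd xd11 yd1 zd13) (kd xd13 yd8 zd17) (kd xd11 yd4 zd16) (kd xd13 yd8 zd25) (kd xd11 yd1 zd18) (kd xd11 yd1 zd20) (kd xd12 yd10 zd6) (kd xd12 yd9 zd25) (kd xd12 yd19 zd5) (kd xd11 yd2 zd26) (kd xd11 yd2 zd27) (kd xd12 yd14 zd13) (kd xd12 yd6 zd31)) (@D3.rec (fun _ => Pt) (kd xd13 yd8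 zd29) (kd xd11 yd2 zd4) (kd xd13 yd8 zd31) (kd xd13 yd9 zd0) (kd xd13 yd9 zd1) (kd xd11 yd2 zd8) (kd xd11 yd2 zd9) (kd xd13 yd4 zd2) (kd xd12 yd1 zd3) (kd xd11 yd2 zd11) (kd xd11 yd2 zd16) (kd xd11 yd2 zd25) (kd xd11 yd2 zd18) (kd xd12 yd7 zd13) (kd xd13 yd9 zd8) (kd xd13 yd9 zd9) (kd xd11 yd2 zd19) (kd xd11 yd2 zd20) (kd xd11 yd3 zd11) (kd xd13 yd9 zd14) (kd xd11 yd3 zd13) (kd xd12 yd7 zd21) (kd xd12 yd7 zd22) (kd xd12 yd3 zd20) (kd xd12 yd20 zd7) (kd xd11 yd3 zd7) (kd xd12 yd20 zd1) (kd xd13 yd9 zd23) (kd xd12 yd20 zd9) (kd xd12 yd7 zd29) (kd xd11 yd20 zd13) (kd xd13 yd9 zd11)) (@D3.rec (fun _ => Pt) (kd xd13 yd9 zd28) (kd xd13 yd9 zd13) (kd xd11 yd3 zd12) (kd xd13 yd9 zd31) (kd xd13 yd10 zd1) (kd xd13 yd10 zd4) (kd xd12 yd8 zd6) (kd xd13 yd10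 zd6) (kd xd12 yd8 zd13) (kd xd13 yd7 zd15) (kd xd12 yd12 zd6) (kd xd12 yd8 zd11) (kd xd11 yd9 zd31) (kd xd12 yd8 zd8) (kd xd12 yd15 zd28) (kd xd12 yd19 zd26) (kd xd13 yd10 zd14) (kd xd13 yd10 zd15) (kd xd13 yd10 zd16) (kd xd12 yd15 zd30) (kd xd11 yd3 zd26) (kd xd13 yd10 zd19) (kd xd13 yd10 zd21) (kd xd13 yd10 zd24) (kd xd11 yd3 zd29) (kd xd13 yd10 zd0) (kd xd11 yd3 zd30) (kd xd13 yd10 zd26) (kd xd13 yd10 zd28) (kd xd13 yd11 zd1) (kd xd11 yd3 zd31) (kd xd11 yd4 zd10)) (@D3.rec (fun _ => Pt) (kd xd13 yd11 zd4) (kd xd11 yd4 zd2) (kd xd11 yd4 zd3) (kd xd11 yd4 zd13) (kd xd11 yd4 zd7) (kd xd12 yd9 zd5) (kd xd11 yd4 zd8) (kd xd12 yd9 zd7) (kd xd13 yd11 zd11) (kd xd13 yd11 zd7) (kd xd11 yd4 zd9) (kd xd11 yd4 zd11) (kd xd13 yd11 zd12) (kd xd11 yd10 zd14)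 (kd xd12 yd9 zd14) (kd xd13 yd11 zd16) (kd xd13 yd11 zd17) (kd xd12 yd9 zd17) (kd xd11 yd14 zd18) (kd xd13 yd11 zd20) (kd xd11 yd20 zd18) (kd xd11 yd4 zd26) (kd xd13 yd11 zd22) (kd xd11 yd4 zd28) (kd xd11 yd5 zd20) (kd xd12 yd6 zd26) (kd xd13 yd11 zd25) (kd xd11 yd5 zd21) (kd xd13 yd11 zd27) (kd xd11 yd5 zd3) (kd xd11 yd5 zd4) (kd xd11 yd14 zd29)) (@D3.rec (fun _ => Pt) (kd xd13 yd11 zd29) (kd xd11 yd19 zd28) (kd xd11 yd19 zd15) (kd xd11 yd5 zd9) (kd xd11 yd20 zd19) (kd xd11 yd10 zd6) (kd xd12 yd6 zd25) (kd xd11 yd5 zd14) (kd xd11 yd20 zd25) (kd xd11 yd5 zd19) (kd xd12 yd1 zd10) (kd xd11 yd5 zd22) (kd xd11 yd5 zd24) (kd xd12 yd16 zd10) (kd xd11 yd9 zd2) (kd xd11 yd5 zd28) (kd xd11 yd5 zd29) (kd xd13 yd12 zd7) (kd xd11 yd5 zd31) (kd xd11 yd10 zd17)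 (kd xd11 yd6 zd2) (kd xd11 yd10 zd28) (kd xd11 yd6 zd5) (kd xd13 yd12 zd1) (kd xd11 yd6 zd7) (kd xd11 yd15 zd26) (kd xd11 yd6 zd11) (kd xd11 yd10 zd15) (kd xd12 yd1 zd15) (kd xd11 yd7 zd1) (kd xd11 yd6 zd23) (kd xd11 yd7 zd3)) (@D3.rec (fun _ => Pt) (kd xd11 yd7 zd5) (kd xd11 yd21 zd14) (kd xd11 yd7 zd8) (kd xd13 yd12 zd15) (kd xd11 yd7 zd10) (kd xd11 yd6 zd27) (kd xd13 yd12 zd18) (kd xd13 yd12 zd19) (kd xd13 yd12 zd23) (kd xd12 yd11 zd9) (kd xd12 yd11 zd10) (kd xd13 yd12 zd26) (kd xd13 yd12 zd9) (kd xd11 yd9 zd15) (kd xd13 yd12 zd11) (kd xd11 yd7 zd4) (kd xd13 yd12 zd29) (kd xd13 yd12 zd31) (kd xd13 yd13 zd0) (kd xd13 yd12 zd14) (kd xd11 yd7 zd9) (kd xd13 yd13 zd2) (kd xd13 yd13 zd4) (kd xd13 yd13 zd7) (kd xd11 yd7 zd12) (kd xd11 yd8 zd7) (kd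 xd11 yd7 zd13) (kd xd13 yd13 zd9) (kd xd13 yd13 zd11) (kd xd13 yd13 zd16) (kd xd11 yd7 zd14) (kd xd12 yd11 zd31)) (@D3.rec (fun _ => Pt) (kd xd13 yd13 zd19) (kd xd11 yd7 zd17) (kd xd11 yd7 zd18) (kd xd13 yd13 zd21) (kd xd13 yd13 zd23) (kd xd13 yd13 zd24) (kd xd12 yd8 zd10) (kd xd11 yd7 zd23) (kd xd13 yd13 zd26) (kd xd13 yd13 zd28) (kd xd11 yd7 zd26) (kd xd11 yd7 zd27) (kd xd13 yd13 zd29) (kd xd13 yd13 zd30) (kd xd13 yd14 zd2) (kd xd11 yd7 zd28) (kd xd11 yd8 zd21) (kd xd13 yd14 zd5) (kd xd11 yd7 zd31) (kd xd11 yd8 zd0) (kd xd13 yd14 zd7) (kd xd13 yd14 zd9) (kd xd13 yd14 zd12) (kd xd11 yd8 zd3) (kd xd13 yd13 zd3) (kd xd11 yd8 zd4) (kd xd13 yd14 zd14) (kd xd13 yd14 zd16) (kd xd13 yd14 zd21) (kd xd11 yd8 zd5) (kd xd11 yd19 zd5) (kd xd11 yd8 zd9))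 (@D3.rec (fun _ => Pt) (kd xd13 yd13 zd10) (kd xd11 yd8 zd10) (kd xd13 yd13 zd12) (kd xd13 yd14 zd28) (kd xd13 yd14 zd24) (kd xd13 yd14 zd30) (kd xd11 yd8 zd11) (kd xd13 yd15 zd0) (kd xd13 yd12 zd0) (kd xd11 yd8 zd14) (kd xd13 yd14 zd31) (kd xd11 yd8 zd18) (kd xd11 yd8 zd19) (kd xd13 yd15 zd6) (kd xd13 yd15 zd4) (kd xd13 yd15 zd7) (kd xd11 yd8 zd20) (kd xd11 yd8 zd22) (kd xd13 yd15 zd8) (kd xd11 yd9 zd5) (kd xd11 yd8 zd30) (kd xd12 yd13 zd21) (kd xd13 yd15 zd15) (kd xd13 yd15 zd16) (kd xd11 yd8 zd29) (kd xd13 yd15 zd19) (kd xd11 yd8 zd31) (kd xd11 yd9 zd4) (kd xd11 yd9 zd1) (kd xd13 yd15 zd20) (kd xd13 yd15 zd21) (kd xd11 yd17 zd10)) (@D3.rec (fun _ => Pt) (kd xd11 yd9 zd11) (kd xd13 yd9 zd21) (kd xd12 yd1 zd7) (kd xd13 yd15 zd27) (kd xd13 yd12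 zd8) (kd xd11 yd9 zd17) (kd xd13 yd11 zd21) (kd xd11 yd9 zd19) (kd xd11 yd15 zd25) (kd xd11 yd9 zd21) (kd xd11 yd13 zd20) (kd xd13 yd15 zd30) (kd xd11 yd9 zd25) (kd xd12 yd6 zd30) (kd xd11 yd9 zd27) (kd xd13 yd15 zd31) (kd xd12 yd14 zd16) (kd xd13 yd16 zd4) (kd xd12 yd14 zd18) (kd xd13 yd16 zd6) (kd xd11 yd10 zd2) (kd xd13 yd16 zd8) (kd xd11 yd10 zd4) (kd xd11 yd10 zd8) (kd xd13 yd16 zd9) (kd xd13 yd16 zd11) (kd xd12 yd14 zd26) (kd xd12 yd14 zd27) (kd xd12 yd14 zd28) (kd xd12 yd14 zd29) (kd xd12 yd14 zd30) (kd xd11 yd16 zd6)) (@D3.rec (fun _ => Pt) (kd xd11 yd11 zd2) (kd xd11 yd11 zd1) (kd xd11 yd10 zd25) (kd xd12 yd5 zd3) (kd xd12 yd5 zd2) (kd xd13 yd11 zd23) (kd xd11 yd10 zd27) (kd xd11 yd10 zd30) (kd xd11 yd21 zd3) (kd xd13 yd15 zd28) (kd xd11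 yd11 zd17) (kd xd11 yd12 zd9) (kd xd11 yd11 zd21) (kd xd12 yd3 zd7) (kd xd11 yd21 zd7) (kd xd12 yd15 zd15) (kd xd13 yd16 zd17) (kd xd11 yd17 zd4) (kd xd11 yd11 zd22) (kd xd12 yd2 zd25) (kd xd13 yd12 zd10) (kd xd12 yd0 zd31) (kd xd12 yd15 zd22) (kd xd13 yd16 zd22) (kd xd11 yd11 zd20) (kd xd11 yd11 zd29) (kd xd11 yd13 zd2) (kd xd13 yd16 zd25) (kd xd12 yd8 zd14) (kd xd13 yd16 zd27) (kd xd12 yd8 zd19) (kd xd13 yd16 zd29)) (@D3.rec (fun _ => Pt) (kd xd11 yd12 zd5) (kd xd13 yd16 zd31) (kd xd11 yd12 zd6) (kd xd11 yd17 zd20) (kd xd13 yd17 zd1) (kd xd11 yd12 zd11) (kd xd13 yd17 zd2) (kd xd11 yd12 zd13) (kd xd11 yd12 zd15) (kd xd11 yd12 zd17) (kd xd12 yd10 zd13) (kd xd12 yd4 zd15) (kd xd11 yd12 zd21) (kd xd11 yd13 zd3) (kd xd11 yd12 zd25) (kd xd11 yd13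 zd5) (kd xd12 yd2 zd31) (kd xd11 yd13 zd6) (kd xd11 yd17 zd3) (kd xd11 yd17 zd2) (kd xd11 yd13 zd8) (kd xd13 yd7 zd8) (kd xd11 yd13 zd10) (kd xd11 yd12 zd30) (kd xd12 yd21 zd5) (kd xd13 yd17 zd19) (kd xd13 yd17 zd22) (kd xd12 yd1 zd18) (kd xd13 yd17 zd24) (kd xd13 yd17 zd7) (kd xd11 yd16 zd29) (kd xd13 yd17 zd9)) (@D3.rec (fun _ => Pt) (kd xd13 yd17 zd27) (kd xd13 yd17 zd14) (kd xd11 yd13 zd9) (kd xd13 yd17 zd29) (kd xd13 yd17 zd31) (kd xd11 yd13 zd12) (kd xd11 yd14 zd4) (kd xd11 yd13 zd13) (kd xd13 yd18 zd2) (kd xd13 yd18 zd6) (kd xd11 yd13 zd14) (kd xd11 yd18 zd25) (kd xd11 yd13 zd17) (kd xd13 yd18 zd8) (kd xd13 yd18 zd10) (kd xd13 yd18 zd11) (kd xd11 yd13 zd21) (kd xd13 yd18 zd12) (kd xd13 yd18 zd14) (kd xd11 yd13 zd24) (kd xd12 yd2 zd27) (kd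 xd11 yd13 zd25) (kd xd13 yd18 zd15) (kd xd13 yd18 zd19) (kd xd11 yd13 zd26) (kd xd11 yd18 zd16) (kd xd11 yd13 zd29) (kd xd13 yd18 zd22) (kd xd13 yd18 zd24) (kd xd11 yd14 zd0) (kd xd13 yd12 zd20) (kd xd11 yd14 zd1)) (@D3.rec (fun _ => Pt) (kd xd13 yd18 zd27) (kd xd13 yd18 zd31) (kd xd11 yd14 zd2) (kd xd13 yd10 zd25) (kd xd11 yd14 zd6) (kd xd13 yd18 zd1) (kd xd11 yd14 zd7) (kd xd13 yd18 zd3) (kd xd13 yd19 zd7) (kd xd13 yd19 zd3) (kd xd13 yd19 zd9) (kd xd11 yd14 zd8) (kd xd13 yd19 zd11) (kd xd13 yd11 zd28) (kd xd11 yd14 zd11) (kd xd13 yd19 zd10) (kd xd12 yd18 zd16) (kd xd11 yd14 zd16) (kd xd12 yd1 zd29) (kd xd11 yd14 zd17) (kd xd12 yd1 zd30) (kd xd12 yd2 zd21) (kd xd13 yd19 zd15) (kd xd11 yd15 zd0) (kd xd11 yd14 zd25) (kd xd12 yd1 zd31) (kd xd13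 yd19 zd22) (kd xd13 yd19 zd23) (kd xd11 yd14 zd24) (kd xd13 yd19 zd26) (kd xd11 yd14 zd26) (kd xd11 yd14 zd31)) (@D3.rec (fun _ => Pt) (kd xd11 yd14 zd28) (kd xd13 yd19 zd27) (kd xd13 yd19 zd29) (kd xd11 yd15 zd5) (kd xd13 yd19 zd30) (kd xd12 yd6 zd27) (kd xd11 yd15 zd8) (kd xd11 yd15 zd12) (kd xd13 yd20 zd0) (kd xd11 yd15 zd14) (kd xd11 yd15 zd15) (kd xd13 yd15 zd25) (kd xd13 yd20 zd3) (kd xd11 yd15 zd19) (kd xd13 yd20 zd5) (kd xd11 yd15 zd21) (kd xd13 yd19 zd0) (kd xd13 yd15 zd29) (kd xd11 yd15 zd23) (kd xd12 yd19 zd21) (kd xd12 yd19 zd20) (kd xd12 yd19 zd19) (kd xd13 yd20 zd9) (kd xd11 yd16 zd2) (kd xd11 yd16 zd7) (kd xd11 yd16 zd16) (kd xd12 yd8 zd15) (kd xd13 yd20 zd12) (kd xd13 yd20 zd13) (kd xd13 yd20 zd14) (kd xd11 yd16 zd17) (kd xd11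 yd16 zd18)) (@D3.rec (fun _ => Pt) (kd xd11 yd16 zd20) (kd xd12 yd7 zd26) (kd xd11 yd16 zd21) (kd xd13 yd20 zd17) (kd xd13 yd20 zd21) (kd xd11 yd16 zd22) (kd xd12 yd5 zd22) (kd xd12 yd7 zd24) (kd xd11 yd16 zd26) (kd xd12 yd7 zd28) (kd xd13 yd20 zd27) (kd xd13 yd20 zd28) (kd xd11 yd16 zd27) (kd xd13 yd20 zd29) (kd xd12 yd2 zd2) (kd xd11 yd17 zd6) (kd xd12 yd2 zd6) (kd xd13 yd17 zd8) (kd xd13 yd2 zd20) (kd xd13 yd16 zd18) (kd xd13 yd21 zd1) (kd xd11 yd17 zd12) (kd xd11 yd17 zd13) (kd xd13 yd16 zd15) (kd xd11 yd17 zd17) (kd xd13 yd19 zd28) (kd xd13 yd21 zd5) (kd xd13 yd21 zd6) (kd xd13 yd21 zd7) (kd xd11 yd18 zd3) (kd xd11 yd17 zd22) (kd xd13 yd21 zd10)) (@D3.rec (fun _ => Pt) (kd xd13 yd21 zd12) (kd xd13 yd21 zd15) (kd xd11 yd17 zd25) (kd xd13 yd7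 zd6) (kd xd11 yd17 zd26) (kd xd12 yd16 zd24) (kd xd13 yd21 zd18) (kd xd13 yd21 zd23) (kd xd11 yd17 zd27) (kd xd12 yd2 zd13) (kd xd13 yd21 zd26) (kd xd11 yd17 zd30) (kd xd11 yd18 zd0) (kd xd11 yd18 zd18) (kd xd11 yd18 zd1) (kd xd11 yd18 zd2) (kd xd13 yd21 zd31) (kd xd14 yd0 zd1) (kd xd11 yd18 zd5) (kd xd11 yd18 zd31) (kd xd11 yd18 zd6) (kd xd14 yd0 zd4) (kd xd14 yd0 zd8) (kd xd11 yd18 zd7) (kd xd13 yd13 zd8) (kd xd11 yd18 zd11) (kd xd11 yd19 zd7) (kd xd11 yd18 zd12) (kd xd11 yd19 zd9) (kd xd14 yd0 zd15) (kd xd14 yd0 zd11) (kd xd14 yd0 zd17))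
def f_d_13 : D2 → D3 → Pt := @D2.rec (fun _ => D3 → Pt) (@D3.rec (fun _ => Pt) (kd xd11 yd18 zd13) (kd xd14 yd0 zd18) (kd xd13 yd11 zd19) (kd xd13 yd14 zd8) (kd xd11 yd18 zd20) (kd xd13 yd12 zd13) (kd xd11 yd18 zd21) (kd xd13 yd21 zd28) (kd xd14 yd0 zd25) (kd xd14 yd0 zd21) (kd xd14 yd0 zd27) (kd xd11 yd18 zd22) (kd xd14 yd0 zd28) (kd xd13 yd11 zd30) (kd xd11 yd18 zd27) (kd xd13 yd21 zd30) (kd xd11 yd18 zd28) (kd xd14 yd1 zd0) (kd xd14 yd1 zd4) (kd xd11 yd18 zd29) (kd xd13 yd14 zd13) (kd xd11 yd19 zd1) (kd xd14 yd0 zd3) (kd xd11 yd19 zd2) (kd xd14 yd0 zd5) (kd xd14 yd1 zd11) (kd xd14 yd1 zd7) (kd xd14 yd1 zd13) (kd xd11 yd19 zd3) (kd xd14 yd1 zd15) (kd xd13 yd14 zd23) (kd xd11 yd19 zd11)) (@D3.rec (fun _ => Pt) (kd xd14 yd0 zd12) (kd xd14 yd1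 zd20) (kd xd14 yd1 zd21) (kd xd11 yd19 zd10) (kd xd14 yd1 zd24) (kd xd11 yd19 zd12) (kd xd11 yd19 zd17) (kd xd11 yd19 zd14) (kd xd14 yd1 zd29) (kd xd14 yd1 zd25) (kd xd14 yd1 zd27) (kd xd13 yd1 zd11) (kd xd11 yd19 zd24) (kd xd12 yd2 zd24) (kd xd14 yd2 zd2) (kd xd14 yd2 zd3) (kd xd11 yd19 zd23) (kd xd14 yd2 zd5) (kd xd11 yd19 zd25) (kd xd11 yd19 zd27) (kd xd14 yd2 zd7) (kd xd14 yd2 zd8) (kd xd13 yd16 zd20) (kd xd11 yd20 zd0) (kd xd11 yd20 zd1) (kd xd14 yd1 zd22) (kd xd13 yd8 zd14) (kd xd11 yd20 zd3) (kd xd11 yd20 zd7) (kd xd11 yd20 zd8) (kd xd13 yd17 zd10) (kd xd11 yd20 zd9)) (@D3.rec (fun _ => Pt) (kd xd14 yd2 zd15) (kd xd14 yd2 zd16) (kd xd11 yd20 zd15) (kd xd11 yd20 zd16) (kd xd14 yd2 zd19) (kd xd11 yd20 zd21) (kd xd13 yd12 zd2) (kd xd11 yd20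 zd23) (kd xd14 yd1 zd14) (kd xd13 yd16 zd10) (kd xd11 yd20 zd28) (kd xd11 yd20 zd29) (kd xd12 yd5 zd6) (kd xd11 yd21 zd0) (kd xd12 yd3 zd0) (kd xd14 yd2 zd25) (kd xd11 yd21 zd8) (kd xd11 yd21 zd9) (kd xd13 yd2 zd18) (kd xd13 yd2 zd19) (kd xd12 yd20 zd18) (kd xd13 yd2 zd21) (kd xd13 yd2 zd22) (kd xd14 yd2 zd30) (kd xd13 yd2 zd24) (kd xd13 yd9 zd5) (kd xd11 yd21 zd17) (kd xd14 yd3 zd1) (kd xd11 yd21 zd19) (kd xd14 yd3 zd0) (kd xd13 yd2 zd30) (kd xd11 yd21 zd24)) (@D3.rec (fun _ => Pt) (kd xd13 yd3 zd0) (kd xd11 yd21 zd25) (kd xd13 yd3 zd2) (kd xd14 yd3 zd10) (kd xd14 yd3 zd6) (kd xd14 yd3 zd12) (kd xd11 yd21 zd26) (kd xd13 yd3 zd7) (kd xd12 yd0 zd1) (kd xd13 yd3 zd9) (kd xd14 yd3 zd17) (kd xd14 yd3 zd18) (kd xd12 yd0 zd0) (kd xd14 yd3 zd21) (kd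 xd12 yd0 zd2) (kd xd12 yd1 zd12) (kd xd12 yd0 zd4) (kd xd14 yd3 zd25) (kd xd14 yd3 zd26) (kd xd14 yd3 zd27) (kd xd13 yd16 zd23) (kd xd12 yd0 zd8) (kd xd12 yd0 zd9) (kd xd12 yd1 zd2) (kd xd13 yd4 zd3) (kd xd12 yd0 zd11) (kd xd12 yd0 zd16) (kd xd13 yd3 zd27) (kd xd12 yd0 zd15) (kd xd14 yd4 zd0) (kd xd14 yd4 zd1) (kd xd14 yd4 zd2)) (@D3.rec (fun _ => Pt) (kd xd12 yd0 zd20) (kd xd12 yd0 zd21) (kd xd12 yd7 zd7) (kd xd13 yd3 zd24) (kd xd12 yd0 zd23) (kd xd12 yd0 zd27) (kd xd13 yd4 zd6) (kd xd12 yd0 zd28) (kd xd12 yd0 zd29) (kd xd12 yd0 zd30) (kd xd14 yd3 zd29) (kd xd13 yd12 zd3) (kd xd12 yd1 zd8) (kd xd14 yd3 zd13) (kd xd14 yd3 zd22) (kd xd13 yd4 zd15) (kd xd14 yd3 zd23) (kd xd14 yd4 zd8) (kd xd12 yd1 zd19) (kd xd13 yd4 zd19) (kd xd12 yd1 zd22) (kd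 xd12 yd1 zd25) (kd xd12 yd1 zd26) (kd xd14 yd4 zd10) (kd xd13 yd19 zd16) (kd xd12 yd2 zd0) (kd xd12 yd2 zd5) (kd xd12 yd2 zd7) (kd xd13 yd4 zd28) (kd xd13 yd4 zd29) (kd xd12 yd2 zd11) (kd xd13 yd4 zd31)) (@D3.rec (fun _ => Pt) (kd xd14 yd4 zd17) (kd xd14 yd4 zd18) (kd xd12 yd2 zd12) (kd xd12 yd2 zd14) (kd xd14 yd4 zd19) (kd xd13 yd5 zd5) (kd xd12 yd2 zd22) (kd xd12 yd2 zd23) (kd xd13 yd19 zd17) (kd xd13 yd19 zd18) (kd xd13 yd18 zd16) (kd xd12 yd3 zd1) (kd xd13 yd5 zd12) (kd xd13 yd5 zd13) (kd xd13 yd5 zd14) (kd xd13 yd5 zd15) (kd xd12 yd3 zd8) (kd xd13 yd5 zd20) (kd xd12 yd3 zd21) (kd xd12 yd3 zd16) (kd xd13 yd5 zd17) (kd xd14 yd4 zd31) (kd xd14 yd5 zd2) (kd xd13 yd5 zd23) (kd xd14 yd5 zd4) (kd xd14 yd5 zd5) (kd xd12 yd3 zd30) (kd xd12 yd3 zd23)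 (kd xd14 yd5 zd8) (kd xd12 yd3 zd24) (kd xd12 yd3 zd25) (kd xd13 yd9 zd15)) (@D3.rec (fun _ => Pt) (kd xd12 yd3 zd27) (kd xd14 yd5 zd13) (kd xd12 yd3 zd28) (kd xd13 yd10 zd20) (kd xd13 yd9 zd12) (kd xd12 yd4 zd0) (kd xd14 yd5 zd6) (kd xd14 yd5 zd20) (kd xd14 yd5 zd21) (kd xd12 yd4 zd1) (kd xd14 yd5 zd23) (kd xd12 yd4 zd3) (kd xd14 yd5 zd22) (kd xd12 yd4 zd18) (kd xd12 yd4 zd11) (kd xd13 yd6 zd15) (kd xd14 yd5 zd30) (kd xd14 yd5 zd31) (kd xd12 yd4 zd10) (kd xd14 yd6 zd2) (kd xd12 yd4 zd12) (kd xd12 yd4 zd17) (kd xd12 yd4 zd14) (kd xd14 yd6 zd3) (kd xd14 yd6 zd4) (kd xd12 yd4 zd21) (kd xd13 yd16 zd1) (kd xd13 yd16 zd0) (kd xd12 yd4 zd24) (kd xd14 yd5 zd14) (kd xd14 yd6 zd11) (kd xd12 yd4 zd29)) (@D3.rec (fun _ => Pt) (kd xd12 yd4 zd27) (kd xd14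 yd2 zd18) (kd xd14 yd6 zd14) (kd xd13 yd7 zd3) (kd xd14 yd6 zd15) (kd xd12 yd5 zd8) (kd xd12 yd21 zd3) (kd xd12 yd5 zd9) (kd xd12 yd16 zd21) (kd xd14 yd6 zd16) (kd xd14 yd6 zd21) (kd xd12 yd5 zd10) (kd xd13 yd7 zd12) (kd xd14 yd6 zd24) (kd xd12 yd5 zd13) (kd xd12 yd8 zd9) (kd xd12 yd5 zd24) (kd xd12 yd5 zd17) (kd xd12 yd5 zd26) (kd xd14 yd6 zd30) (kd xd14 yd6 zd31) (kd xd12 yd5 zd18) (kd xd14 yd7 zd1) (kd xd12 yd5 zd20) (kd xd14 yd7 zd0) (kd xd13 yd20 zd23) (kd xd12 yd5 zd28) (kd xd14 yd6 zd27) (kd xd14 yd7 zd7) (kd xd14 yd7 zd8) (kd xd12 yd5 zd27) (kd xd14 yd7 zd11)) (@D3.rec (fun _ => Pt) (kd xd12 yd5 zd29) (kd xd12 yd6 zd2) (kd xd12 yd5 zd31) (kd xd14 yd7 zd16) (kd xd12 yd6 zd0) (kd xd14 yd7 zd12) (kd xd13 yd11 zd24) (kd xd14 yd7 zd14) (kd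 xd14 yd7 zd22) (kd xd14 yd7 zd23) (kd xd14 yd7 zd24) (kd xd12 yd6 zd6) (kd xd12 yd6 zd7) (kd xd14 yd7 zd9) (kd xd13 yd1 zd26) (kd xd12 yd6 zd9) (kd xd12 yd6 zd14) (kd xd12 yd6 zd20) (kd xd12 yd6 zd16) (kd xd13 yd15 zd22) (kd xd14 yd7 zd31) (kd xd14 yd8 zd0) (kd xd14 yd8 zd4) (kd xd14 yd8 zd2) (kd xd12 yd6 zd17) (kd xd12 yd6 zd22) (kd xd13 yd11 zd3) (kd xd13 yd14 zd4) (kd xd14 yd8 zd7) (kd xd12 yd7 zd0) (kd xd14 yd2 zd26) (kd xd12 yd7 zd2)) (@D3.rec (fun _ => Pt) (kd xd12 yd7 zd3) (kd xd12 yd7 zd4) (kd xd14 yd4 zd3) (kd xd14 yd2 zd24) (kd xd13 yd16 zd21) (kd xd13 yd2 zd25) (kd xd14 yd4 zd5) (kd xd14 yd8 zd8) (kd xd12 yd7 zd14) (kd xd12 yd7 zd15) (kd xd13 yd9 zd10) (kd xd12 yd7 zd31) (kd xd13 yd6 zd4) (kd xd12 yd8 zd1) (kd xd12 yd7 zd19) (kd xd13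 yd5 zd31) (kd xd14 yd8 zd22) (kd xd14 yd8 zd25) (kd xd13 yd9 zd18) (kd xd14 yd8 zd27) (kd xd13 yd20 zd24) (kd xd12 yd14 zd1) (kd xd13 yd20 zd18) (kd xd12 yd7 zd27) (kd xd14 yd8 zd30) (kd xd14 yd9 zd0) (kd xd14 yd9 zd1) (kd xd14 yd8 zd19) (kd xd12 yd8 zd0) (kd xd14 yd9 zd3) (kd xd14 yd9 zd5) (kd xd12 yd8 zd3)) (@D3.rec (fun _ => Pt) (kd xd12 yd8 zd25) (kd xd12 yd8 zd4) (kd xd14 yd9 zd6) (kd xd14 yd9 zd10) (kd xd12 yd8 zd5) (kd xd14 yd9 zd12) (kd xd12 yd8 zd7) (kd xd13 yd10 zd11) (kd xd14 yd6 zd26) (kd xd14 yd9 zd16) (kd xd14 yd9 zd17) (kd xd13 yd10 zd7) (kd xd14 yd9 zd19) (kd xd14 yd9 zd20) (kd xd12 yd8 zd16) (kd xd12 yd8 zd17) (kd xd12 yd8 zd18) (kd xd14 yd9 zd23) (kd xd14 yd9 zd25) (kd xd12 yd8 zd21) (kd xd13 yd6 zd3) (kd xd12 yd8 zd22) (kd xd14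 yd9 zd26) (kd xd14 yd9 zd29) (kd xd12 yd8 zd23) (kd xd12 yd18 zd3) (kd xd12 yd8 zd27) (kd xd13 yd18 zd25) (kd xd12 yd8 zd28) (kd xd14 yd9 zd7) (kd xd14 yd10 zd4) (kd xd14 yd10 zd0)) (@D3.rec (fun _ => Pt) (kd xd14 yd10 zd6) (kd xd12 yd8 zd29) (kd xd14 yd10 zd8) (kd xd13 yd8 zd26) (kd xd12 yd9 zd0) (kd xd14 yd10 zd7) (kd xd14 yd4 zd11) (kd xd12 yd9 zd9) (kd xd13 yd11 zd8) (kd xd14 yd7 zd26) (kd xd14 yd10 zd14) (kd xd12 yd9 zd8) (kd xd12 yd9 zd12) (kd xd14 yd8 zd1) (kd xd14 yd10 zd16) (kd xd14 yd10 zd18) (kd xd12 yd9 zd15) (kd xd12 yd9 zd16) (kd xd14 yd10 zd19) (kd xd13 yd0 zd2) (kd xd12 yd9 zd19) (kd xd12 yd14 zd6) (kd xd12 yd9 zd22) (kd xd12 yd15 zd5) (kd xd13 yd8 zd6) (kd xd12 yd9 zd26) (kd xd14 yd8 zd6) (kd xd12 yd9 zd28) (kd xd12 yd18 zd13)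 (kd xd12 yd10 zd0) (kd xd13 yd0 zd13) (kd xd14 yd9 zd30)) (@D3.rec (fun _ => Pt) (kd xd12 yd13 zd8) (kd xd12 yd10 zd23) (kd xd13 yd2 zd6) (kd xd13 yd4 zd11) (kd xd13 yd17 zd4) (kd xd13 yd17 zd5) (kd xd14 yd10 zd27) (kd xd12 yd10 zd17) (kd xd12 yd14 zd4) (kd xd12 yd11 zd12) (kd xd12 yd15 zd20) (kd xd12 yd11 zd14) (kd xd14 yd10 zd30) (kd xd13 yd0 zd5) (kd xd12 yd11 zd19) (kd xd12 yd11 zd3) (kd xd14 yd11 zd1) (kd xd14 yd11 zd3) (kd xd12 yd11 zd6) (kd xd12 yd11 zd7) (kd xd12 yd17 zd30) (kd xd14 yd11 zd4) (kd xd14 yd11 zd8) (kd xd12 yd11 zd8) (kd xd13 yd12 zd24) (kd xd14 yd11 zd11) (kd xd12 yd11 zd11) (kd xd14 yd11 zd13) (kd xd14 yd11 zd14) (kd xd12 yd11 zd16) (kd xd14 yd11 zd16) (kd xd12 yd11 zd17)) (@D3.rec (fun _ => Pt) (kd xd12 yd11 zd18) (kd xd14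 yd11 zd19) (kd xd12 yd11 zd21) (kd xd12 yd12 zd24) (kd xd12 yd11 zd22) (kd xd14 yd11 zd20) (kd xd14 yd11 zd24) (kd xd12 yd11 zd23) (kd xd12 yd21 zd24) (kd xd12 yd11 zd27) (kd xd12 yd13 zd0) (kd xd12 yd11 zd28) (kd xd12 yd13 zd2) (kd xd14 yd11 zd31) (kd xd14 yd11 zd27) (kd xd14 yd12 zd1) (kd xd12 yd11 zd29) (kd xd14 yd12 zd3) (kd xd14 yd10 zd21) (kd xd12 yd12 zd0) (kd xd14 yd12 zd2) (kd xd12 yd12 zd3) (kd xd14 yd12 zd8) (kd xd12 yd12 zd4) (kd xd12 yd12 zd5) (kd xd14 yd12 zd11) (kd xd12 yd12 zd8) (kd xd14 yd12 zd13) (kd xd12 yd12 zd9) (kd xd12 yd12 zd12) (kd xd12 yd12 zd13) (kd xd14 yd12 zd17)) (@D3.rec (fun _ => Pt) (kd xd14 yd12 zd15) (kd xd14 yd12 zd19) (kd xd12 yd12 zd14) (kd xd14 yd12 zd21) (kd xd13 yd8 zd27) (kd xd12 yd12 zd17) (kd xd14 yd12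 zd20) (kd xd12 yd12 zd20) (kd xd13 yd0 zd3) (kd xd12 yd12 zd21) (kd xd14 yd12 zd26) (kd xd14 yd12 zd30) (kd xd12 yd12 zd22) (kd xd13 yd0 zd20) (kd xd12 yd12 zd26) (kd xd14 yd0 zd30) (kd xd12 yd12 zd27) (kd xd14 yd11 zd21) (kd xd14 yd13 zd5) (kd xd14 yd13 zd1) (kd xd14 yd13 zd7) (kd xd12 yd12 zd28) (kd xd14 yd13 zd9) (kd xd13 yd0 zd30) (kd xd12 yd13 zd4) (kd xd14 yd11 zd28) (kd xd14 yd13 zd14) (kd xd14 yd13 zd15) (kd xd12 yd13 zd3) (kd xd14 yd13 zd18) (kd xd12 yd13 zd5) (kd xd12 yd13 zd10)) (@D3.rec (fun _ => Pt) (kd xd12 yd13 zd7) (kd xd14 yd13 zd23) (kd xd14 yd13 zd19) (kd xd14 yd13 zd21) (kd xd12 yd13 zd14) (kd xd14 yd13 zd28) (kd xd12 yd13 zd13) (kd xd12 yd13 zd15) (kd xd12 yd13 zd18) (kd xd14 yd13 zd30) (kd xd13 yd15 zd10) (kd xd14 yd14 zd0)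 (kd xd14 yd5 zd27) (kd xd14 yd14 zd3) (kd xd14 yd14 zd4) (kd xd12 yd13 zd22) (kd xd12 yd13 zd23) (kd xd14 yd13 zd16) (kd xd13 yd17 zd12) (kd xd12 yd13 zd25) (kd xd12 yd13 zd29) (kd xd12 yd13 zd30) (kd xd13 yd8 zd19) (kd xd14 yd14 zd10) (kd xd14 yd14 zd11) (kd xd12 yd19 zd11) (kd xd14 yd10 zd26) (kd xd12 yd14 zd3) (kd xd12 yd15 zd9) (kd xd12 yd19 zd17) (kd xd12 yd14 zd11) (kd xd12 yd14 zd15)) (@D3.rec (fun _ => Pt) (kd xd13 yd6 zd27) (kd xd13 yd6 zd26) (kd xd14 yd14 zd18) (kd xd14 yd10 zd22) (kd xd12 yd14 zd17) (kd xd14 yd14 zd21) (kd xd12 yd14 zd19) (kd xd14 yd13 zd8) (kd xd12 yd14 zd21) (kd xd12 yd14 zd24) (kd xd13 yd2 zd9) (kd xd12 yd14 zd25) (kd xd14 yd14 zd16) (kd xd14 yd14 zd15) (kd xd13 yd16 zd14) (kd xd12 yd20 zd23) (kd xd14 yd8 zd12) (kd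 xd12 yd15 zd16) (kd xd12 yd20 zd19) (kd xd13 yd21 zd0) (kd xd13 yd1 zd22) (kd xd13 yd9 zd4) (kd xd12 yd15 zd23) (kd xd13 yd3 zd20) (kd xd14 yd14 zd28) (kd xd12 yd15 zd27) (kd xd14 yd14 zd30) (kd xd12 yd15 zd29) (kd xd14 yd15 zd0) (kd xd12 yd15 zd31) (kd xd14 yd15 zd3) (kd xd12 yd16 zd1)) (@D3.rec (fun _ => Pt) (kd xd14 yd15 zd4) (kd xd12 yd16 zd4) (kd xd12 yd16 zd6) (kd xd14 yd15 zd1) (kd xd13 yd12 zd4) (kd xd13 yd12 zd5) (kd xd14 yd15 zd8) (kd xd12 yd16 zd29) (kd xd12 yd20 zd17) (kd xd12 yd16 zd31) (kd xd13 yd1 zd30) (kd xd14 yd15 zd12) (kd xd13 yd15 zd18) (kd xd13 yd21 zd17) (kd xd12 yd17 zd1) (kd xd13 yd17 zd18) (kd xd14 yd6 zd19) (kd xd14 yd15 zd17) (kd xd13 yd17 zd15) (kd xd12 yd16 zd25) (kd xd13 yd21 zd21) (kd xd14 yd15 zd21) (kd xd12 yd16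 zd26) (kd xd14 yd15 zd23) (kd xd12 yd16 zd28) (kd xd14 yd15 zd25) (kd xd14 yd15 zd26) (kd xd12 yd17 zd0) (kd xd14 yd15 zd28) (kd xd12 yd17 zd3) (kd xd14 yd15 zd30) (kd xd12 yd17 zd4)) (@D3.rec (fun _ => Pt) (kd xd13 yd18 zd26) (kd xd12 yd18 zd5) (kd xd12 yd17 zd8) (kd xd12 yd18 zd7) (kd xd14 yd16 zd5) (kd xd14 yd16 zd6) (kd xd12 yd17 zd9) (kd xd14 yd16 zd7) (kd xd12 yd17 zd13) (kd xd14 yd16 zd10) (kd xd12 yd17 zd14) (kd xd12 yd17 zd15) (kd xd12 yd17 zd17) (kd xd14 yd16 zd14) (kd xd12 yd17 zd18) (kd xd12 yd17 zd22) (kd xd13 yd5 zd10) (kd xd14 yd16 zd19) (kd xd14 yd16 zd20) (kd xd12 yd17 zd23) (kd xd14 yd16 zd21) (kd xd13 yd21 zd16) (kd xd12 yd17 zd27) (kd xd14 yd16 zd25) (kd xd12 yd17 zd28) (kd xd13 yd10 zd27) (kd xd13 yd18 zd0) (kd xd12 yd18 zd0)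 (kd xd14 yd11 zd6) (kd xd14 yd17 zd0) (kd xd14 yd17 zd1) (kd xd12 yd18 zd1)) (@D3.rec (fun _ => Pt) (kd xd12 yd19 zd16) (kd xd14 yd17 zd3) (kd xd14 yd8 zd5) (kd xd12 yd18 zd9) (kd xd14 yd16 zd2) (kd xd14 yd17 zd9) (kd xd14 yd17 zd10) (kd xd12 yd18 zd8) (kd xd14 yd17 zd13) (kd xd12 yd18 zd10) (kd xd12 yd18 zd15) (kd xd12 yd18 zd12) (kd xd14 yd17 zd17) (kd xd14 yd17 zd14) (kd xd13 yd19 zd14) (kd xd12 yd18 zd22) (kd xd13 yd4 zd24) (kd xd13 yd5 zd8) (kd xd13 yd5 zd9) (kd xd13 yd20 zd31) (kd xd14 yd17 zd22) (kd xd14 yd14 zd25) (kd xd12 yd18 zd26) (kd xd12 yd18 zd27) (kd xd14 yd17 zd11) (kd xd14 yd6 zd1) (kd xd12 yd18 zd29) (kd xd12 yd19 zd1) (kd xd12 yd20 zd25) (kd xd12 yd19 zd2) (kd xd12 yd19 zd4) (kd xd14 yd15 zd31)) (@D3.rec (fun _ => Pt) (kd xd12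 yd19 zd8) (kd xd14 yd16 zd15) (kd xd14 yd14 zd13) (kd xd12 yd19 zd12) (kd xd14 yd16 zd26) (kd xd12 yd19 zd14) (kd xd14 yd17 zd2) (kd xd14 yd18 zd1) (kd xd14 yd18 zd2) (kd xd12 yd19 zd22) (kd xd14 yd18 zd4) (kd xd14 yd18 zd5) (kd xd12 yd19 zd27) (kd xd12 yd19 zd28) (kd xd12 yd19 zd29) (kd xd14 yd14 zd31) (kd xd14 yd14 zd29) (kd xd12 yd20 zd3) (kd xd13 yd9 zd22) (kd xd14 yd18 zd13) (kd xd14 yd18 zd14) (kd xd12 yd20 zd4) (kd xd14 yd18 zd16) (kd xd13 yd7 zd25) (kd xd13 yd9 zd20) (kd xd14 yd18 zd20) (kd xd14 yd18 zd21) (kd xd12 yd20 zd10) (kd xd12 yd20 zd11) (kd xd12 yd20 zd13) (kd xd14 yd18 zd24) (kd xd13 yd19 zd19)) (@D3.rec (fun _ => Pt) (kd xd13 yd16 zd19) (kd xd12 yd20 zd20) (kd xd14 yd18 zd15) (kd xd13 yd21 zd11) (kd xd14 yd18 zd28) (kd xd12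 yd20 zd26) (kd xd12 yd20 zd27) (kd xd12 yd20 zd28) (kd xd14 yd18 zd31) (kd xd14 yd19 zd1) (kd xd12 yd20 zd31) (kd xd13 yd21 zd3) (kd xd12 yd21 zd0) (kd xd14 yd19 zd2) (kd xd14 yd19 zd6) (kd xd12 yd21 zd1) (kd xd13 yd18 zd21) (kd xd13 yd17 zd13) (kd xd12 yd21 zd6) (kd xd14 yd6 zd17) (kd xd14 yd19 zd12) (kd xd13 yd17 zd20) (kd xd14 yd19 zd14) (kd xd12 yd21 zd7) (kd xd14 yd19 zd16) (kd xd14 yd19 zd18) (kd xd12 yd21 zd10) (kd xd14 yd19 zd15) (kd xd13 yd0 zd7) (kd xd14 yd17 zd16) (kd xd13 yd0 zd15) (kd xd12 yd21 zd16))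
def f_d_14 : D2 → D3 → Pt := @D2.rec (fun _ => D3 → Pt) (@D3.rec (fun _ => Pt) (kd xd14 yd19 zd25) (kd xd12 yd21 zd17) (kd xd14 yd0 zd31) (kd xd13 yd0 zd22) (kd xd12 yd21 zd21) (kd xd13 yd0 zd24) (kd xd14 yd19 zd31) (kd xd14 yd20 zd0) (kd xd12 yd21 zd22) (kd xd14 yd20 zd2) (kd xd14 yd11 zd26) (kd xd12 yd21 zd30) (kd xd13 yd1 zd0) (kd xd14 yd20 zd7) (kd xd14 yd20 zd8) (kd xd12 yd21 zd29) (kd xd14 yd20 zd10) (kd xd12 yd21 zd31) (kd xd13 yd0 zd1) (kd xd14 yd20 zd12) (kd xd14 yd12 zd27) (kd xd13 yd0 zd9) (kd xd14 yd10 zd31) (kd xd14 yd20 zd17) (kd xd14 yd20 zd18) (kd xd13 yd0 zd8) (kd xd14 yd20 zd20) (kd xd13 yd0 zd10) (kd xd13 yd0 zd12) (kd xd14 yd20 zd22) (kd xd13 yd14 zd15) (kd xd14 yd0 zd2)) (@D3.rec (fun _ => Pt) (kd xd13 yd0 zd17) (kd xd14 yd19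 zd23) (kd xd14 yd20 zd28) (kd xd14 yd20 zd29) (kd xd13 yd0 zd18) (kd xd14 yd20 zd31) (kd xd14 yd13 zd0) (kd xd13 yd0 zd26) (kd xd14 yd19 zd28) (kd xd14 yd21 zd4) (kd xd14 yd21 zd5) (kd xd13 yd0 zd25) (kd xd14 yd21 zd8) (kd xd13 yd0 zd27) (kd xd13 yd2 zd8) (kd xd13 yd0 zd29) (kd xd14 yd21 zd13) (kd xd14 yd21 zd15) (kd xd14 yd21 zd16) (kd xd14 yd21 zd17) (kd xd13 yd1 zd1) (kd xd13 yd1 zd2) (kd xd13 yd1 zd25) (kd xd14 yd7 zd10) (kd xd13 yd1 zd4) (kd xd13 yd1 zd9) (kd xd14 yd13 zd20) (kd xd13 yd1 zd10) (kd xd14 yd15 zd27) (kd xd13 yd1 zd8) (kd xd14 yd21 zd30) (kd xd14 yd21 zd31)) (@D3.rec (fun _ => Pt) (kd xd15 yd0 zd0) (kd xd15 yd0 zd1) (kd xd13 yd1 zd14) (kd xd13 yd1 zd15) (kd xd14 yd3 zd20) (kd xd13 yd1 zd17) (kd xd14 yd2 zd6) (kd xd13 yd1 zd20)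 (kd xd13 yd1 zd21) (kd xd14 yd21 zd18) (kd xd14 yd21 zd20) (kd xd14 yd7 zd28) (kd xd14 yd21 zd22) (kd xd15 yd0 zd5) (kd xd14 yd5 zd16) (kd xd13 yd2 zd0) (kd xd13 yd2 zd1) (kd xd14 yd20 zd1) (kd xd13 yd7 zd1) (kd xd13 yd2 zd4) (kd xd14 yd20 zd30) (kd xd14 yd21 zd9) (kd xd14 yd14 zd23) (kd xd14 yd21 zd11) (kd xd13 yd9 zd3) (kd xd13 yd2 zd15) (kd xd13 yd8 zd30) (kd xd14 yd2 zd27) (kd xd14 yd14 zd7) (kd xd14 yd2 zd29) (kd xd13 yd2 zd23) (kd xd14 yd3 zd28)) (@D3.rec (fun _ => Pt) (kd xd13 yd2 zd29) (kd xd13 yd2 zd27) (kd xd14 yd8 zd15) (kd xd14 yd14 zd26) (kd xd15 yd0 zd13) (kd xd14 yd3 zd5) (kd xd13 yd3 zd4) (kd xd14 yd3 zd7) (kd xd15 yd0 zd19) (kd xd15 yd0 zd20) (kd xd13 yd3 zd3) (kd xd15 yd0 zd22) (kd xd13 yd3 zd5) (kd xd13 yd4 zd13) (kd xd15 yd0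 zd25) (kd xd15 yd0 zd26) (kd xd14 yd14 zd27) (kd xd13 yd3 zd10) (kd xd13 yd3 zd11) (kd xd14 yd21 zd6) (kd xd14 yd2 zd4) (kd xd13 yd3 zd13) (kd xd13 yd4 zd14) (kd xd13 yd4 zd16) (kd xd14 yd4 zd9) (kd xd13 yd3 zd17) (kd xd13 yd3 zd18) (kd xd13 yd3 zd19) (kd xd14 yd2 zd31) (kd xd13 yd4 zd10) (kd xd14 yd8 zd9) (kd xd14 yd3 zd31)) (@D3.rec (fun _ => Pt) (kd xd13 yd3 zd29) (kd xd13 yd3 zd30) (kd xd13 yd3 zd31) (kd xd13 yd9 zd2) (kd xd14 yd8 zd11) (kd xd13 yd9 zd6) (kd xd15 yd0 zd23) (kd xd15 yd0 zd24) (kd xd13 yd4 zd17) (kd xd14 yd3 zd24) (kd xd13 yd4 zd23) (kd xd13 yd11 zd6) (kd xd14 yd6 zd5) (kd xd14 yd4 zd13) (kd xd14 yd4 zd14) (kd xd15 yd1 zd9) (kd xd15 yd1 zd10) (kd xd13 yd5 zd0) (kd xd13 yd5 zd1) (kd xd13 yd5 zd4) (kd xd15 yd1 zd12) (kd xd14 yd4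 zd21) (kd xd15 yd1 zd14) (kd xd15 yd1 zd18) (kd xd14 yd17 zd20) (kd xd14 yd17 zd21) (kd xd14 yd4 zd26) (kd xd14 yd4 zd27) (kd xd14 yd4 zd28) (kd xd14 yd5 zd0) (kd xd15 yd1 zd21) (kd xd13 yd5 zd21)) (@D3.rec (fun _ => Pt) (kd xd14 yd4 zd29) (kd xd15 yd1 zd24) (kd xd13 yd5 zd22) (kd xd15 yd1 zd26) (kd xd13 yd5 zd24) (kd xd13 yd5 zd25) (kd xd13 yd6 zd6) (kd xd15 yd1 zd31) (kd xd13 yd5 zd28) (kd xd15 yd2 zd1) (kd xd15 yd2 zd0) (kd xd14 yd8 zd23) (kd xd15 yd2 zd5) (kd xd13 yd6 zd1) (kd xd13 yd6 zd29) (kd xd15 yd2 zd7) (kd xd14 yd2 zd14) (kd xd14 yd8 zd20) (kd xd15 yd2 zd12) (kd xd15 yd2 zd13) (kd xd13 yd6 zd7) (kd xd13 yd6 zd8) (kd xd13 yd6 zd12) (kd xd13 yd6 zd10) (kd xd15 yd2 zd20) (kd xd15 yd2 zd16) (kd xd15 yd2 zd18) (kd xd13 yd15 zd12) (kd xd15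 yd2 zd23) (kd xd15 yd2 zd24) (kd xd13 yd6 zd16) (kd xd13 yd6 zd17)) (@D3.rec (fun _ => Pt) (kd xd15 yd2 zd14) (kd xd13 yd19 zd25) (kd xd13 yd6 zd19) (kd xd13 yd6 zd23) (kd xd13 yd6 zd24) (kd xd14 yd4 zd12) (kd xd15 yd2 zd30) (kd xd15 yd1 zd28) (kd xd14 yd12 zd24) (kd xd14 yd14 zd19) (kd xd15 yd2 zd6) (kd xd13 yd6 zd30) (kd xd15 yd3 zd3) (kd xd15 yd0 zd8) (kd xd13 yd7 zd2) (kd xd13 yd7 zd4) (kd xd13 yd7 zd9) (kd xd13 yd21 zd19) (kd xd15 yd3 zd7) (kd xd13 yd17 zd16) (kd xd15 yd3 zd9) (kd xd13 yd7 zd10) (kd xd15 yd3 zd11) (kd xd15 yd3 zd13) (kd xd13 yd7 zd13) (kd xd15 yd3 zd10) (kd xd13 yd10 zd8) (kd xd13 yd7 zd27) (kd xd15 yd3 zd19) (kd xd15 yd3 zd20) (kd xd13 yd7 zd19) (kd xd13 yd7 zd20)) (@D3.rec (fun _ => Pt) (kd xd13 yd7 zd24) (kd xd13 yd7 zd22)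 (kd xd15 yd3 zd26) (kd xd15 yd3 zd23) (kd xd15 yd3 zd28) (kd xd15 yd3 zd29) (kd xd15 yd3 zd30) (kd xd13 yd7 zd28) (kd xd13 yd7 zd29) (kd xd13 yd8 zd13) (kd xd14 yd1 zd23) (kd xd13 yd7 zd31) (kd xd13 yd8 zd5) (kd xd14 yd18 zd23) (kd xd13 yd8 zd7) (kd xd14 yd13 zd22) (kd xd13 yd8 zd3) (kd xd15 yd4 zd14) (kd xd15 yd4 zd6) (kd xd15 yd4 zd8) (kd xd15 yd4 zd15) (kd xd15 yd4 zd11) (kd xd13 yd8 zd8) (kd xd13 yd8 zd9) (kd xd13 yd8 zd10) (kd xd15 yd3 zd31) (kd xd13 yd11 zd9) (kd xd15 yd4 zd1) (kd xd14 yd2 zd11) (kd xd15 yd4 zd3) (kd xd15 yd4 zd26) (kd xd13 yd8 zd20)) (@D3.rec (fun _ => Pt) (kd xd13 yd8 zd21) (kd xd13 yd11 zd13) (kd xd13 yd8 zd23) (kd xd14 yd14 zd12) (kd xd13 yd8 zd22) (kd xd13 yd19 zd2) (kd xd13 yd11 zd26) (kd xd13 yd8 zd28) (kd xd13 yd9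 zd7) (kd xd14 yd3 zd30) (kd xd15 yd0 zd11) (kd xd14 yd4 zd4) (kd xd13 yd16 zd16) (kd xd14 yd10 zd12) (kd xd14 yd11 zd10) (kd xd14 yd3 zd2) (kd xd14 yd13 zd27) (kd xd15 yd4 zd29) (kd xd14 yd8 zd18) (kd xd13 yd9 zd27) (kd xd14 yd5 zd17) (kd xd15 yd5 zd5) (kd xd13 yd9 zd16) (kd xd14 yd5 zd11) (kd xd15 yd5 zd8) (kd xd13 yd9 zd17) (kd xd15 yd5 zd10) (kd xd13 yd9 zd19) (kd xd15 yd5 zd12) (kd xd15 yd5 zd13) (kd xd13 yd9 zd24) (kd xd15 yd5 zd15)) (@D3.rec (fun _ => Pt) (kd xd13 yd9 zd25) (kd xd13 yd9 zd26) (kd xd15 yd5 zd18) (kd xd13 yd9 zd29) (kd xd15 yd5 zd20) (kd xd13 yd9 zd30) (kd xd13 yd10 zd2) (kd xd13 yd10 zd29) (kd xd15 yd5 zd25) (kd xd15 yd5 zd26) (kd xd13 yd10 zd3) (kd xd15 yd5 zd28) (kd xd13 yd10 zd5) (kd xd15 yd5 zd27) (kd xd15 yd6 zd0) (kd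 xd15 yd6 zd1) (kd xd13 yd10 zd9) (kd xd13 yd10 zd10) (kd xd15 yd6 zd4) (kd xd13 yd10 zd12) (kd xd13 yd10 zd13) (kd xd15 yd6 zd8) (kd xd15 yd6 zd7) (kd xd13 yd10 zd17) (kd xd15 yd6 zd11) (kd xd13 yd10 zd18) (kd xd13 yd10 zd22) (kd xd15 yd6 zd15) (kd xd15 yd6 zd16) (kd xd13 yd10 zd23) (kd xd13 yd11 zd31) (kd xd15 yd6 zd17)) (@D3.rec (fun _ => Pt) (kd xd13 yd10 zd31) (kd xd14 yd16 zd28) (kd xd15 yd6 zd22) (kd xd15 yd6 zd23) (kd xd13 yd10 zd30) (kd xd15 yd6 zd26) (kd xd13 yd11 zd0) (kd xd13 yd11 zd5) (kd xd13 yd11 zd2) (kd xd15 yd6 zd31) (kd xd15 yd6 zd27) (kd xd15 yd6 zd29) (kd xd14 yd8 zd13) (kd xd15 yd4 zd19) (kd xd13 yd11 zd10) (kd xd15 yd6 zd24) (kd xd13 yd11 zd14) (kd xd15 yd7 zd4) (kd xd13 yd11 zd15) (kd xd13 yd11 zd18) (kd xd15 yd5 zd21) (kd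 xd13 yd13 zd18) (kd xd13 yd16 zd3) (kd xd15 yd6 zd5) (kd xd15 yd6 zd12) (kd xd15 yd7 zd8) (kd xd13 yd15 zd26) (kd xd13 yd12 zd6) (kd xd15 yd7 zd10) (kd xd15 yd7 zd11) (kd xd13 yd12 zd12) (kd xd14 yd0 zd22)) (@D3.rec (fun _ => Pt) (kd xd15 yd7 zd14) (kd xd13 yd12 zd16) (kd xd15 yd7 zd16) (kd xd13 yd12 zd17) (kd xd13 yd12 zd21) (kd xd15 yd7 zd19) (kd xd13 yd18 zd28) (kd xd15 yd7 zd21) (kd xd13 yd12 zd22) (kd xd15 yd7 zd23) (kd xd14 yd8 zd14) (kd xd13 yd12 zd25) (kd xd15 yd7 zd22) (kd xd13 yd12 zd27) (kd xd13 yd12 zd28) (kd xd15 yd7 zd30) (kd xd13 yd12 zd30) (kd xd15 yd8 zd0) (kd xd15 yd7 zd31) (kd xd13 yd13 zd1) (kd xd13 yd13 zd5) (kd xd13 yd14 zd17) (kd xd15 yd8 zd6) (kd xd15 yd8 zd7) (kd xd13 yd13 zd6) (kd xd15 yd8 zd9) (kd xd14 yd0 zd10) (kd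 xd13 yd13 zd14) (kd xd13 yd14 zd25) (kd xd15 yd8 zd14) (kd xd15 yd8 zd15) (kd xd13 yd13 zd13)) (@D3.rec (fun _ => Pt) (kd xd15 yd8 zd18) (kd xd13 yd13 zd15) (kd xd13 yd13 zd20) (kd xd13 yd13 zd17) (kd xd15 yd8 zd23) (kd xd15 yd8 zd19) (kd xd15 yd8 zd21) (kd xd15 yd8 zd27) (kd xd13 yd13 zd22) (kd xd15 yd8 zd29) (kd xd15 yd8 zd28) (kd xd13 yd13 zd25) (kd xd15 yd9 zd0) (kd xd13 yd13 zd27) (kd xd15 yd9 zd2) (kd xd13 yd14 zd0) (kd xd15 yd9 zd5) (kd xd13 yd13 zd31) (kd xd15 yd9 zd8) (kd xd13 yd14 zd1) (kd xd13 yd14 zd6) (kd xd13 yd14 zd3) (kd xd15 yd9 zd13) (kd xd15 yd9 zd9) (kd xd14 yd6 zd8) (kd xd15 yd9 zd11) (kd xd13 yd14 zd10) (kd xd14 yd0 zd20) (kd xd15 yd9 zd19) (kd xd15 yd9 zd20) (kd xd13 yd14 zd11) (kd xd15 yd9 zd22)) (@D3.rec (fun _ => Pt)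 (kd xd14 yd1 zd6) (kd xd13 yd14 zd19) (kd xd14 yd20 zd24) (kd xd15 yd9 zd27) (kd xd15 yd9 zd28) (kd xd13 yd14 zd18) (kd xd15 yd9 zd31) (kd xd13 yd14 zd20) (kd xd13 yd16 zd7) (kd xd13 yd14 zd22) (kd xd15 yd10 zd4) (kd xd15 yd10 zd6) (kd xd15 yd10 zd7) (kd xd15 yd10 zd8) (kd xd13 yd14 zd26) (kd xd13 yd14 zd27) (kd xd13 yd15 zd17) (kd xd14 yd18 zd22) (kd xd13 yd14 zd29) (kd xd13 yd15 zd2) (kd xd14 yd1 zd26) (kd xd13 yd15 zd3) (kd xd14 yd7 zd15) (kd xd13 yd15 zd1) (kd xd15 yd10 zd23) (kd xd15 yd10 zd17) (kd xd15 yd10 zd20) (kd xd14 yd8 zd16) (kd xd13 yd15 zd5) (kd xd15 yd9 zd6) (kd xd13 yd15 zd9) (kd xd14 yd13 zd31)) (@D3.rec (fun _ => Pt) (kd xd13 yd15 zd11) (kd xd15 yd10 zd27) (kd xd15 yd10 zd29) (kd xd13 yd15 zd13) (kd xd13 yd15 zd14) (kd xd15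 yd10 zd9) (kd xd15 yd10 zd11) (kd xd14 yd2 zd28) (kd xd15 yd10 zd13) (kd xd15 yd11 zd4) (kd xd13 yd15 zd23) (kd xd13 yd15 zd24) (kd xd14 yd8 zd3) (kd xd13 yd20 zd2) (kd xd15 yd8 zd8) (kd xd13 yd16 zd13) (kd xd13 yd16 zd12) (kd xd15 yd9 zd1) (kd xd13 yd16 zd2) (kd xd14 yd6 zd9) (kd xd15 yd9 zd21) (kd xd13 yd16 zd5) (kd xd15 yd10 zd0) (kd xd14 yd2 zd22) (kd xd15 yd10 zd2) (kd xd13 yd19 zd21) (kd xd14 yd3 zd3) (kd xd14 yd3 zd16) (kd xd13 yd16 zd24) (kd xd13 yd20 zd16) (kd xd13 yd16 zd26) (kd xd13 yd20 zd15)) (@D3.rec (fun _ => Pt) (kd xd13 yd16 zd28) (kd xd13 yd17 zd3) (kd xd15 yd7 zd28) (kd xd13 yd16 zd30) (kd xd13 yd17 zd0) (kd xd15 yd11 zd20) (kd xd15 yd11 zd12) (kd xd15 yd11 zd15) (kd xd13 yd17 zd6) (kd xd15 yd11 zd23) (kd xd15 yd11 zd24) (kd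 xd15 yd11 zd25) (kd xd13 yd17 zd11) (kd xd14 yd19 zd9) (kd xd15 yd11 zd28) (kd xd14 yd15 zd18) (kd xd15 yd11 zd30) (kd xd13 yd17 zd17) (kd xd14 yd15 zd15) (kd xd15 yd12 zd2) (kd xd15 yd12 zd3) (kd xd13 yd17 zd21) (kd xd15 yd12 zd5) (kd xd13 yd17 zd23) (kd xd15 yd12 zd4) (kd xd13 yd17 zd25) (kd xd13 yd17 zd26) (kd xd14 yd1 zd28) (kd xd13 yd17 zd28) (kd xd15 yd12 zd16) (kd xd13 yd17 zd30) (kd xd13 yd19 zd31)) (@D3.rec (fun _ => Pt) (kd xd15 yd12 zd17) (kd xd14 yd16 zd29) (kd xd13 yd19 zd4) (kd xd15 yd12 zd22) (kd xd15 yd12 zd23) (kd xd13 yd18 zd4) (kd xd13 yd18 zd5) (kd xd13 yd18 zd7) (kd xd15 yd12 zd26) (kd xd15 yd12 zd28) (kd xd13 yd18 zd9) (kd xd15 yd12 zd30) (kd xd15 yd12 zd29) (kd xd15 yd13 zd0) (kd xd13 yd18 zd13) (kd xd13 yd20 zd1) (kd xd15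 yd13 zd2) (kd xd15 yd13 zd5) (kd xd15 yd13 zd6) (kd xd13 yd18 zd17) (kd xd13 yd18 zd18) (kd xd13 yd18 zd20) (kd xd15 yd13 zd9) (kd xd14 yd19 zd8) (kd xd15 yd13 zd12) (kd xd13 yd18 zd23) (kd xd13 yd20 zd4) (kd xd15 yd13 zd14) (kd xd14 yd10 zd1) (kd xd14 yd16 zd1) (kd xd15 yd13 zd19) (kd xd15 yd13 zd20)) (@D3.rec (fun _ => Pt) (kd xd13 yd18 zd29) (kd xd13 yd18 zd30) (kd xd13 yd20 zd6) (kd xd13 yd19 zd1) (kd xd15 yd13 zd27) (kd xd15 yd13 zd26) (kd xd15 yd13 zd30) (kd xd15 yd13 zd31) (kd xd15 yd14 zd0) (kd xd13 yd19 zd5) (kd xd13 yd19 zd6) (kd xd13 yd19 zd24) (kd xd15 yd2 zd15) (kd xd13 yd19 zd8) (kd xd13 yd19 zd13) (kd xd15 yd6 zd28) (kd xd13 yd21 zd29) (kd xd13 yd19 zd12) (kd xd15 yd14 zd11) (kd xd15 yd14 zd12) (kd xd14 yd4 zd24) (kd xd14 yd4 zd25)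 (kd xd13 yd19 zd20) (kd xd15 yd14 zd1) (kd xd15 yd14 zd3) (kd xd15 yd2 zd27) (kd xd15 yd14 zd14) (kd xd15 yd12 zd11) (kd xd15 yd12 zd14) (kd xd15 yd13 zd1) (kd xd15 yd14 zd15) (kd xd15 yd13 zd13)) (@D3.rec (fun _ => Pt) (kd xd15 yd13 zd23) (kd xd13 yd20 zd7) (kd xd13 yd20 zd8) (kd xd15 yd14 zd16) (kd xd13 yd20 zd10) (kd xd13 yd20 zd11) (kd xd15 yd14 zd21) (kd xd15 yd14 zd20) (kd xd15 yd11 zd13) (kd xd15 yd11 zd14) (kd xd15 yd11 zd11) (kd xd15 yd14 zd26) (kd xd15 yd14 zd27) (kd xd13 yd20 zd19) (kd xd13 yd20 zd20) (kd xd13 yd21 zd2) (kd xd13 yd20 zd22) (kd xd15 yd15 zd1) (kd xd15 yd15 zd3) (kd xd15 yd15 zd4) (kd xd13 yd20 zd25) (kd xd13 yd20 zd26) (kd xd14 yd13 zd17) (kd xd14 yd7 zd13) (kd xd13 yd20 zd30) (kd xd15 yd15 zd9) (kd xd15 yd14 zd30) (kd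 xd14 yd19 zd3) (kd xd13 yd21 zd4) (kd xd15 yd15 zd11) (kd xd15 yd15 zd10) (kd xd13 yd21 zd8)) (@D3.rec (fun _ => Pt) (kd xd15 yd15 zd15) (kd xd13 yd21 zd9) (kd xd13 yd21 zd13) (kd xd14 yd18 zd27) (kd xd15 yd15 zd19) (kd xd15 yd15 zd20) (kd xd13 yd21 zd14) (kd xd15 yd15 zd22) (kd xd14 yd16 zd23) (kd xd14 yd15 zd13) (kd xd15 yd15 zd26) (kd xd15 yd15 zd27) (kd xd13 yd21 zd20) (kd xd15 yd15 zd30) (kd xd13 yd21 zd22) (kd xd13 yd21 zd27) (kd xd13 yd21 zd24) (kd xd15 yd16 zd3) (kd xd13 yd21 zd25) (kd xd15 yd15 zd31) (kd xd15 yd7 zd26) (kd xd15 yd16 zd1) (kd xd15 yd14 zd10) (kd xd14 yd1 zd1) (kd xd15 yd16 zd11) (kd xd14 yd0 zd0) (kd xd15 yd16 zd13) (kd xd14 yd20 zd25) (kd xd14 yd1 zd8) (kd xd15 yd16 zd17) (kd xd15 yd16 zd18) (kd xd14 yd0 zd6)) (@D3.rec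 (fun _ => Pt) (kd xd14 yd0 zd7) (kd xd14 yd2 zd17) (kd xd14 yd0 zd9) (kd xd15 yd16 zd24) (kd xd15 yd16 zd26) (kd xd15 yd16 zd27) (kd xd15 yd16 zd28) (kd xd14 yd0 zd13) (kd xd14 yd0 zd14) (kd xd15 yd15 zd29) (kd xd14 yd0 zd16) (kd xd15 yd8 zd20) (kd xd14 yd0 zd19) (kd xd15 yd17 zd2) (kd xd15 yd17 zd3) (kd xd15 yd17 zd4) (kd xd15 yd17 zd5) (kd xd14 yd0 zd23) (kd xd14 yd0 zd24) (kd xd14 yd21 zd7) (kd xd14 yd0 zd26) (kd xd15 yd14 zd31) (kd xd14 yd0 zd29) (kd xd15 yd17 zd11) (kd xd14 yd13 zd2) (kd xd14 yd19 zd27) (kd xd15 yd17 zd14) (kd xd15 yd17 zd15) (kd xd14 yd1 zd2) (kd xd14 yd1 zd3) (kd xd14 yd2 zd20) (kd xd14 yd1 zd5)) (@D3.rec (fun _ => Pt) (kd xd15 yd17 zd22) (kd xd15 yd17 zd24) (kd xd15 yd17 zd25) (kd xd15 yd17 zd26) (kd xd14 yd1 zd9) (kd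 xd14 yd1 zd10) (kd xd14 yd3 zd19) (kd xd14 yd20 zd19) (kd xd14 yd1 zd12) (kd xd14 yd2 zd21) (kd xd15 yd10 zd1) (kd xd14 yd2 zd23) (kd xd15 yd9 zd12) (kd xd14 yd1 zd16) (kd xd15 yd18 zd7) (kd xd14 yd1 zd17) (kd xd14 yd1 zd18) (kd xd14 yd1 zd19) (kd xd14 yd2 zd9) (kd xd15 yd18 zd9) (kd xd14 yd2 zd10) (kd xd15 yd4 zd2) (kd xd14 yd2 zd12) (kd xd15 yd18 zd17) (kd xd15 yd4 zd5) (kd xd15 yd10 zd16) (kd xd15 yd6 zd6) (kd xd15 yd10 zd19) (kd xd15 yd12 zd12) (kd xd15 yd12 zd13) (kd xd14 yd1 zd30) (kd xd14 yd1 zd31))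
def f_d_15 : D2 → D3 → Pt := @D2.rec (fun _ => D3 → Pt) (@D3.rec (fun _ => Pt) (kd xd14 yd2 zd0) (kd xd14 yd2 zd1) (kd xd15 yd4 zd31) (kd xd15 yd0 zd29) (kd xd15 yd18 zd8) (kd xd14 yd2 zd13) (kd xd15 yd16 zd12) (kd xd15 yd16 zd21) (kd xd14 yd6 zd13) (kd xd15 yd17 zd18) (kd xd15 yd17 zd20) (kd xd14 yd8 zd10) (kd xd15 yd15 zd21) (kd xd14 yd3 zd4) (kd xd15 yd5 zd1) (kd xd15 yd18 zd29) (kd xd15 yd18 zd31) (kd xd15 yd19 zd0) (kd xd15 yd11 zd9) (kd xd14 yd3 zd8) (kd xd14 yd3 zd9) (kd xd15 yd17 zd16) (kd xd14 yd3 zd11) (kd xd14 yd4 zd6) (kd xd14 yd4 zd7) (kd xd14 yd3 zd14) (kd xd14 yd3 zd15) (kd xd15 yd17 zd27) (kd xd15 yd17 zd29) (kd xd15 yd0 zd3) (kd xd15 yd17 zd31) (kd xd15 yd19 zd7)) (@D3.rec (fun _ => Pt) (kd xd15 yd1 zd5) (kd xd15 yd1 zd3) (kd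 xd15 yd3 zd15) (kd xd15 yd1 zd1) (kd xd15 yd1 zd4) (kd xd15 yd1 zd0) (kd xd15 yd2 zd31) (kd xd15 yd5 zd0) (kd xd15 yd19 zd12) (kd xd14 yd4 zd15) (kd xd14 yd4 zd16) (kd xd15 yd15 zd28) (kd xd14 yd4 zd20) (kd xd15 yd1 zd13) (kd xd14 yd4 zd22) (kd xd15 yd19 zd16) (kd xd15 yd19 zd8) (kd xd15 yd19 zd18) (kd xd14 yd4 zd23) (kd xd15 yd1 zd19) (kd xd15 yd19 zd20) (kd xd14 yd4 zd30) (kd xd15 yd19 zd23) (kd xd15 yd19 zd24) (kd xd14 yd5 zd1) (kd xd15 yd19 zd26) (kd xd14 yd5 zd3) (kd xd15 yd19 zd25) (kd xd14 yd6 zd7) (kd xd15 yd9 zd10) (kd xd15 yd20 zd1) (kd xd14 yd5 zd7)) (@D3.rec (fun _ => Pt) (kd xd14 yd5 zd10) (kd xd14 yd5 zd9) (kd xd15 yd20 zd6) (kd xd15 yd20 zd4) (kd xd15 yd20 zd8) (kd xd14 yd5 zd12) (kd xd14 yd6 zd10) (kd xd14 yd5 zd15) (kd xd15 yd20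 zd14) (kd xd15 yd20 zd13) (kd xd15 yd20 zd17) (kd xd15 yd20 zd18) (kd xd14 yd5 zd18) (kd xd14 yd5 zd19) (kd xd14 yd6 zd0) (kd xd14 yd17 zd12) (kd xd14 yd5 zd25) (kd xd15 yd7 zd29) (kd xd14 yd5 zd26) (kd xd15 yd6 zd30) (kd xd14 yd5 zd24) (kd xd15 yd20 zd31) (kd xd15 yd20 zd28) (kd xd14 yd5 zd28) (kd xd14 yd5 zd29) (kd xd15 yd20 zd19) (kd xd15 yd20 zd21) (kd xd14 yd17 zd25) (kd xd15 yd20 zd23) (kd xd15 yd21 zd5) (kd xd14 yd6 zd6) (kd xd15 yd1 zd6)) (@D3.rec (fun _ => Pt) (kd xd15 yd21 zd7) (kd xd15 yd20 zd11) (kd xd15 yd21 zd8) (kd xd14 yd6 zd12) (kd xd15 yd21 zd9) (kd xd15 yd21 zd11) (kd xd15 yd21 zd12) (kd xd14 yd6 zd18) (kd xd15 yd21 zd15) (kd xd14 yd6 zd20) (kd xd14 yd6 zd25) (kd xd14 yd6 zd22) (kd xd15 yd21 zd20) (kd xd14 yd6 zd23) (kd xd15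 yd21 zd16) (kd xd15 yd1 zd2) (kd xd15 yd21 zd18) (kd xd15 yd21 zd26) (kd xd15 yd21 zd27) (kd xd14 yd6 zd28) (kd xd14 yd6 zd29) (kd xd15 yd3 zd21) (kd xd15 yd21 zd14) (kd xd14 yd7 zd3) (kd xd15 yd8 zd31) (kd xd15 yd8 zd22) (kd xd14 yd7 zd2) (kd xd16 yd0 zd5) (kd xd14 yd7 zd4) (kd xd14 yd7 zd5) (kd xd14 yd7 zd6) (kd xd14 yd7 zd25)) (@D3.rec (fun _ => Pt) (kd xd16 yd0 zd7) (kd xd14 yd7 zd27) (kd xd14 yd21 zd21) (kd xd14 yd7 zd29) (kd xd16 yd0 zd20) (kd xd14 yd21 zd24) (kd xd14 yd7 zd18) (kd xd15 yd8 zd3) (kd xd14 yd7 zd19) (kd xd16 yd0 zd26) (kd xd15 yd15 zd8) (kd xd14 yd7 zd21) (kd xd15 yd10 zd21) (kd xd15 yd10 zd22) (kd xd14 yd7 zd17) (kd xd14 yd7 zd20) (kd xd16 yd0 zd6) (kd xd16 yd0 zd8) (kd xd16 yd0 zd10) (kd xd14 yd10 zd13) (kd xd16 yd0 zd12)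 (kd xd16 yd1 zd3) (kd xd16 yd0 zd15) (kd xd16 yd1 zd6) (kd xd16 yd0 zd18) (kd xd16 yd1 zd8) (kd xd14 yd7 zd30) (kd xd15 yd11 zd5) (kd xd16 yd1 zd0) (kd xd14 yd8 zd17) (kd xd15 yd18 zd27) (kd xd15 yd0 zd2)) (@D3.rec (fun _ => Pt) (kd xd15 yd1 zd7) (kd xd15 yd0 zd14) (kd xd16 yd1 zd9) (kd xd16 yd1 zd11) (kd xd16 yd1 zd12) (kd xd14 yd8 zd21) (kd xd16 yd1 zd15) (kd xd16 yd1 zd16) (kd xd14 yd8 zd24) (kd xd16 yd1 zd18) (kd xd14 yd8 zd26) (kd xd16 yd1 zd17) (kd xd14 yd8 zd28) (kd xd14 yd8 zd29) (kd xd16 yd1 zd26) (kd xd14 yd8 zd31) (kd xd16 yd1 zd28) (kd xd16 yd1 zd27) (kd xd14 yd9 zd2) (kd xd16 yd2 zd0) (kd xd14 yd9 zd4) (kd xd14 yd10 zd20) (kd xd16 yd2 zd1) (kd xd16 yd2 zd4) (kd xd16 yd2 zd5) (kd xd14 yd9 zd8) (kd xd14 yd9 zd9) (kd xd14 yd9 zd13) (kd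 xd14 yd9 zd11) (kd xd16 yd2 zd12) (kd xd16 yd2 zd8) (kd xd16 yd2 zd10)) (@D3.rec (fun _ => Pt) (kd xd14 yd9 zd14) (kd xd14 yd9 zd15) (kd xd16 yd2 zd16) (kd xd16 yd2 zd15) (kd xd14 yd9 zd18) (kd xd14 yd10 zd23) (kd xd14 yd21 zd26) (kd xd14 yd9 zd22) (kd xd14 yd9 zd21) (kd xd16 yd2 zd22) (kd xd16 yd2 zd24) (kd xd14 yd9 zd24) (kd xd14 yd10 zd24) (kd xd16 yd2 zd25) (kd xd16 yd2 zd28) (kd xd14 yd9 zd27) (kd xd14 yd9 zd28) (kd xd14 yd9 zd31) (kd xd16 yd3 zd0) (kd xd16 yd2 zd31) (kd xd16 yd3 zd3) (kd xd16 yd3 zd4) (kd xd14 yd10 zd2) (kd xd14 yd10 zd3) (kd xd14 yd10 zd15) (kd xd15 yd11 zd19) (kd xd14 yd10 zd5) (kd xd14 yd10 zd10) (kd xd14 yd17 zd15) (kd xd14 yd10 zd11) (kd xd15 yd2 zd19) (kd xd14 yd10 zd9)) (@D3.rec (fun _ => Pt) (kd xd16 yd3 zd17) (kd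 xd16 yd3 zd14) (kd xd16 yd3 zd6) (kd xd16 yd3 zd8) (kd xd14 yd10 zd17) (kd xd16 yd1 zd24) (kd xd16 yd1 zd30) (kd xd16 yd3 zd19) (kd xd14 yd10 zd25) (kd xd16 yd3 zd20) (kd xd14 yd10 zd28) (kd xd14 yd10 zd29) (kd xd16 yd3 zd7) (kd xd16 yd3 zd24) (kd xd14 yd11 zd0) (kd xd16 yd3 zd26) (kd xd14 yd11 zd2) (kd xd16 yd3 zd27) (kd xd16 yd3 zd29) (kd xd14 yd11 zd5) (kd xd16 yd4 zd0) (kd xd14 yd11 zd7) (kd xd14 yd11 zd12) (kd xd14 yd11 zd9) (kd xd16 yd4 zd5) (kd xd16 yd4 zd1) (kd xd14 yd19 zd20) (kd xd16 yd4 zd3) (kd xd14 yd15 zd2) (kd xd15 yd2 zd17) (kd xd14 yd11 zd15) (kd xd14 yd11 zd18)) (@D3.rec (fun _ => Pt) (kd xd14 yd11 zd17) (kd xd16 yd4 zd15) (kd xd16 yd4 zd13) (kd xd15 yd4 zd7) (kd xd16 yd4 zd18) (kd xd16 yd4 zd19) (kd xd14 yd11 zd22) (kd xd14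 yd11 zd23) (kd xd14 yd14 zd14) (kd xd14 yd11 zd25) (kd xd16 yd4 zd24) (kd xd16 yd4 zd26) (kd xd16 yd4 zd27) (kd xd16 yd4 zd28) (kd xd14 yd11 zd29) (kd xd14 yd11 zd30) (kd xd15 yd8 zd16) (kd xd16 yd3 zd31) (kd xd14 yd12 zd0) (kd xd14 yd12 zd5) (kd xd14 yd20 zd11) (kd xd14 yd12 zd6) (kd xd15 yd3 zd25) (kd xd14 yd12 zd4) (kd xd16 yd5 zd11) (kd xd16 yd5 zd5) (kd xd16 yd5 zd8) (kd xd14 yd12 zd7) (kd xd14 yd12 zd10) (kd xd14 yd12 zd9) (kd xd16 yd5 zd15) (kd xd15 yd3 zd24)) (@D3.rec (fun _ => Pt) (kd xd14 yd12 zd12) (kd xd14 yd14 zd17) (kd xd14 yd12 zd14) (kd xd16 yd5 zd22) (kd xd16 yd5 zd24) (kd xd14 yd12 zd16) (kd xd14 yd13 zd29) (kd xd15 yd11 zd10) (kd xd14 yd12 zd18) (kd xd14 yd12 zd23) (kd xd15 yd1 zd29) (kd xd14 yd12 zd25) (kd xd14 yd21 zd12) (kd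 xd14 yd12 zd22) (kd xd16 yd6 zd5) (kd xd16 yd5 zd31) (kd xd16 yd6 zd2) (kd xd16 yd6 zd6) (kd xd16 yd6 zd7) (kd xd14 yd12 zd28) (kd xd14 yd12 zd29) (kd xd14 yd14 zd20) (kd xd14 yd12 zd31) (kd xd16 yd6 zd12) (kd xd16 yd6 zd14) (kd xd16 yd6 zd15) (kd xd16 yd6 zd16) (kd xd14 yd13 zd3) (kd xd14 yd13 zd4) (kd xd15 yd9 zd29) (kd xd15 yd14 zd29) (kd xd14 yd13 zd6)) (@D3.rec (fun _ => Pt) (kd xd14 yd14 zd22) (kd xd14 yd21 zd10) (kd xd14 yd14 zd24) (kd xd16 yd5 zd14) (kd xd14 yd13 zd10) (kd xd16 yd6 zd30) (kd xd14 yd13 zd11) (kd xd14 yd13 zd12) (kd xd14 yd13 zd13) (kd xd14 yd14 zd5) (kd xd16 yd6 zd31) (kd xd14 yd14 zd6) (kd xd15 yd15 zd6) (kd xd14 yd14 zd8) (kd xd16 yd7 zd11) (kd xd15 yd15 zd7) (kd xd14 yd21 zd25) (kd xd14 yd13 zd25) (kd xd16 yd2 zd19)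 (kd xd14 yd21 zd27) (kd xd14 yd13 zd26) (kd xd15 yd4 zd12) (kd xd15 yd4 zd13) (kd xd14 yd13 zd24) (kd xd16 yd5 zd25) (kd xd15 yd19 zd29) (kd xd16 yd5 zd27) (kd xd14 yd14 zd1) (kd xd15 yd19 zd10) (kd xd14 yd14 zd2) (kd xd16 yd7 zd1) (kd xd16 yd7 zd3)) (@D3.rec (fun _ => Pt) (kd xd16 yd7 zd6) (kd xd16 yd7 zd27) (kd xd16 yd7 zd9) (kd xd16 yd7 zd29) (kd xd14 yd14 zd9) (kd xd15 yd4 zd27) (kd xd16 yd5 zd20) (kd xd16 yd6 zd24) (kd xd16 yd7 zd30) (kd xd15 yd0 zd18) (kd xd15 yd9 zd7) (kd xd14 yd18 zd10) (kd xd14 yd15 zd6) (kd xd14 yd18 zd8) (kd xd14 yd18 zd9) (kd xd14 yd15 zd7) (kd xd16 yd1 zd23) (kd xd16 yd4 zd23) (kd xd16 yd4 zd9) (kd xd15 yd6 zd25) (kd xd14 yd15 zd5) (kd xd16 yd8 zd9) (kd xd16 yd4 zd20) (kd xd14 yd15 zd9) (kd xd14 yd15 zd10) (kd xd14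 yd15 zd11) (kd xd16 yd8 zd14) (kd xd16 yd8 zd16) (kd xd14 yd15 zd14) (kd xd16 yd8 zd19) (kd xd14 yd15 zd16) (kd xd15 yd11 zd31)) (@D3.rec (fun _ => Pt) (kd xd16 yd8 zd21) (kd xd16 yd8 zd24) (kd xd14 yd15 zd19) (kd xd14 yd15 zd20) (kd xd14 yd15 zd24) (kd xd14 yd15 zd22) (kd xd16 yd8 zd30) (kd xd16 yd8 zd26) (kd xd16 yd1 zd21) (kd xd16 yd8 zd28) (kd xd16 yd2 zd14) (kd xd14 yd17 zd27) (kd xd14 yd21 zd28) (kd xd14 yd21 zd29) (kd xd14 yd17 zd28) (kd xd16 yd5 zd30) (kd xd14 yd15 zd29) (kd xd14 yd16 zd0) (kd xd16 yd6 zd28) (kd xd16 yd9 zd10) (kd xd16 yd9 zd13) (kd xd16 yd9 zd14) (kd xd14 yd16 zd3) (kd xd14 yd16 zd4) (kd xd16 yd8 zd25) (kd xd16 yd2 zd9) (kd xd14 yd16 zd8) (kd xd16 yd9 zd19) (kd xd14 yd16 zd9) (kd xd14 yd16 zd12) (kd xd14 yd16 zd11) (kd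 xd16 yd9 zd23)) (@D3.rec (fun _ => Pt) (kd xd14 yd16 zd13) (kd xd14 yd17 zd29) (kd xd14 yd16 zd16) (kd xd16 yd9 zd29) (kd xd16 yd9 zd28) (kd xd14 yd16 zd17) (kd xd14 yd16 zd18) (kd xd15 yd17 zd17) (kd xd16 yd1 zd25) (kd xd14 yd16 zd22) (kd xd16 yd10 zd4) (kd xd16 yd10 zd5) (kd xd14 yd16 zd24) (kd xd14 yd17 zd31) (kd xd14 yd16 zd27) (kd xd16 yd7 zd15) (kd xd16 yd10 zd9) (kd xd16 yd10 zd12) (kd xd16 yd10 zd13) (kd xd14 yd16 zd30) (kd xd14 yd16 zd31) (kd xd15 yd13 zd21) (kd xd15 yd20 zd10) (kd xd14 yd18 zd0) (kd xd16 yd2 zd30) (kd xd16 yd5 zd9) (kd xd14 yd17 zd5) (kd xd14 yd17 zd4) (kd xd16 yd10 zd24) (kd xd16 yd10 zd23) (kd xd14 yd17 zd6) (kd xd14 yd17 zd7)) (@D3.rec (fun _ => Pt) (kd xd14 yd17 zd8) (kd xd14 yd17 zd23) (kd xd16 yd10 zd27) (kd xd14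 yd17 zd24) (kd xd15 yd20 zd22) (kd xd16 yd11 zd2) (kd xd15 yd20 zd25) (kd xd16 yd3 zd11) (kd xd16 yd2 zd18) (kd xd16 yd3 zd13) (kd xd14 yd19 zd22) (kd xd14 yd17 zd18) (kd xd14 yd17 zd19) (kd xd16 yd11 zd9) (kd xd14 yd17 zd26) (kd xd14 yd17 zd30) (kd xd14 yd18 zd3) (kd xd16 yd11 zd10) (kd xd16 yd11 zd11) (kd xd15 yd18 zd12) (kd xd14 yd18 zd7) (kd xd14 yd18 zd6) (kd xd16 yd11 zd15) (kd xd16 yd8 zd2) (kd xd16 yd8 zd3) (kd xd16 yd8 zd0) (kd xd14 yd18 zd11) (kd xd14 yd18 zd12) (kd xd15 yd14 zd28) (kd xd15 yd9 zd30) (kd xd14 yd18 zd26) (kd xd14 yd20 zd21)) (@D3.rec (fun _ => Pt) (kd xd16 yd5 zd21) (kd xd14 yd18 zd17) (kd xd16 yd11 zd27) (kd xd14 yd18 zd18) (kd xd14 yd18 zd19) (kd xd16 yd11 zd28) (kd xd15 yd10 zd12) (kd xd15 yd10 zd15) (kd xd15 yd4 zd10)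 (kd xd14 yd18 zd25) (kd xd14 yd18 zd30) (kd xd14 yd18 zd29) (kd xd16 yd12 zd4) (kd xd16 yd12 zd2) (kd xd16 yd12 zd7) (kd xd14 yd19 zd0) (kd xd16 yd12 zd8) (kd xd16 yd12 zd10) (kd xd16 yd12 zd11) (kd xd14 yd19 zd4) (kd xd14 yd19 zd5) (kd xd15 yd0 zd12) (kd xd14 yd19 zd7) (kd xd16 yd12 zd17) (kd xd16 yd12 zd19) (kd xd16 yd12 zd20) (kd xd14 yd19 zd10) (kd xd14 yd19 zd11) (kd xd15 yd1 zd11) (kd xd14 yd20 zd9) (kd xd14 yd19 zd13) (kd xd14 yd19 zd19)) (@D3.rec (fun _ => Pt) (kd xd16 yd4 zd2) (kd xd14 yd19 zd21) (kd xd16 yd11 zd14) (kd xd14 yd19 zd17) (kd xd16 yd13 zd4) (kd xd16 yd12 zd28) (kd xd16 yd12 zd30) (kd xd16 yd13 zd6) (kd xd16 yd13 zd1) (kd xd16 yd11 zd8) (kd xd16 yd13 zd7) (kd xd14 yd19 zd24) (kd xd15 yd0 zd6) (kd xd14 yd19 zd26) (kd xd16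 yd13 zd12) (kd xd16 yd13 zd14) (kd xd16 yd13 zd15) (kd xd14 yd19 zd29) (kd xd14 yd19 zd30) (kd xd15 yd16 zd19) (kd xd16 yd12 zd13) (kd xd15 yd0 zd7) (kd xd16 yd4 zd22) (kd xd16 yd4 zd14) (kd xd14 yd20 zd3) (kd xd16 yd13 zd25) (kd xd14 yd20 zd4) (kd xd14 yd20 zd5) (kd xd14 yd20 zd6) (kd xd16 yd13 zd27) (kd xd16 yd12 zd24) (kd xd16 yd12 zd27)) (@D3.rec (fun _ => Pt) (kd xd16 yd5 zd4) (kd xd16 yd5 zd7) (kd xd14 yd20 zd13) (kd xd14 yd20 zd14) (kd xd14 yd20 zd15) (kd xd14 yd20 zd16) (kd xd16 yd14 zd4) (kd xd15 yd17 zd30) (kd xd15 yd18 zd1) (kd xd16 yd1 zd31) (kd xd16 yd11 zd25) (kd xd14 yd20 zd23) (kd xd16 yd14 zd12) (kd xd16 yd14 zd13) (kd xd14 yd20 zd26) (kd xd14 yd20 zd27) (kd xd15 yd0 zd21) (kd xd15 yd13 zd7) (kd xd15 yd0 zd9) (kd xd16 yd6 zd10)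 (kd xd15 yd0 zd10) (kd xd16 yd2 zd21) (kd xd14 yd21 zd0) (kd xd16 yd14 zd25) (kd xd14 yd21 zd1) (kd xd14 yd21 zd2) (kd xd14 yd21 zd3) (kd xd15 yd0 zd27) (kd xd16 yd14 zd27) (kd xd15 yd0 zd28) (kd xd15 yd17 zd7) (kd xd15 yd0 zd30)) (@D3.rec (fun _ => Pt) (kd xd16 yd15 zd3) (kd xd15 yd17 zd8) (kd xd16 yd6 zd25) (kd xd16 yd14 zd23) (kd xd16 yd6 zd27) (kd xd16 yd6 zd3) (kd xd16 yd6 zd4) (kd xd14 yd21 zd14) (kd xd15 yd0 zd4) (kd xd14 yd21 zd19) (kd xd15 yd18 zd11) (kd xd15 yd18 zd10) (kd xd15 yd14 zd19) (kd xd16 yd15 zd12) (kd xd16 yd12 zd14) (kd xd16 yd0 zd17) (kd xd15 yd21 zd17) (kd xd14 yd21 zd23) (kd xd16 yd15 zd20) (kd xd16 yd0 zd22) (kd xd16 yd7 zd14) (kd xd16 yd2 zd20) (kd xd16 yd7 zd17) (kd xd16 yd9 zd5) (kd xd16 yd9 zd6) (kd xd16 yd14 zd3)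 (kd xd16 yd13 zd10) (kd xd15 yd4 zd30) (kd xd16 yd12 zd15) (kd xd15 yd0 zd15) (kd xd16 yd1 zd10) (kd xd15 yd0 zd16)) (@D3.rec (fun _ => Pt) (kd xd15 yd0 zd17) (kd xd16 yd14 zd14) (kd xd16 yd14 zd16) (kd xd16 yd14 zd18) (kd xd16 yd14 zd26) (kd xd16 yd15 zd28) (kd xd16 yd15 zd29) (kd xd15 yd0 zd31) (kd xd15 yd1 zd16) (kd xd16 yd15 zd30) (kd xd15 yd10 zd28) (kd xd15 yd21 zd6) (kd xd15 yd1 zd8) (kd xd16 yd12 zd21) (kd xd16 yd12 zd23) (kd xd16 yd12 zd25) (kd xd15 yd1 zd15) (kd xd16 yd15 zd31) (kd xd15 yd1 zd17) (kd xd16 yd13 zd26) (kd xd15 yd1 zd20) (kd xd15 yd19 zd21) (kd xd16 yd16 zd5) (kd xd15 yd1 zd22) (kd xd15 yd1 zd23) (kd xd15 yd1 zd27) (kd xd15 yd1 zd25) (kd xd16 yd16 zd14) (kd xd16 yd16 zd10) (kd xd15 yd10 zd25) (kd xd16 yd16 zd12) (kd xd16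 yd16 zd19)) (@D3.rec (fun _ => Pt) (kd xd16 yd6 zd1) (kd xd15 yd1 zd30) (kd xd15 yd20 zd2) (kd xd16 yd16 zd9) (kd xd15 yd2 zd3) (kd xd16 yd2 zd11) (kd xd15 yd2 zd2) (kd xd16 yd16 zd29) (kd xd15 yd2 zd4) (kd xd15 yd20 zd9) (kd xd15 yd13 zd22) (kd xd15 yd3 zd1) (kd xd16 yd17 zd4) (kd xd15 yd2 zd9) (kd xd15 yd2 zd8) (kd xd16 yd17 zd7) (kd xd16 yd17 zd6) (kd xd15 yd2 zd10) (kd xd15 yd2 zd11) (kd xd15 yd2 zd25) (kd xd16 yd17 zd10) (kd xd15 yd2 zd26) (kd xd15 yd14 zd4) (kd xd15 yd2 zd28) (kd xd16 yd17 zd20) (kd xd15 yd14 zd6) (kd xd16 yd8 zd1) (kd xd16 yd4 zd10) (kd xd15 yd2 zd22) (kd xd16 yd3 zd15) (kd xd16 yd3 zd16) (kd xd15 yd2 zd21)) (@D3.rec (fun _ => Pt) (kd xd16 yd17 zd11) (kd xd16 yd17 zd15) (kd xd16 yd17 zd30) (kd xd16 yd17 zd18) (kd xd16 yd18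 zd0) (kd xd15 yd2 zd29) (kd xd15 yd19 zd11) (kd xd15 yd3 zd0) (kd xd15 yd3 zd2) (kd xd15 yd3 zd4) (kd xd16 yd18 zd3) (kd xd15 yd3 zd5) (kd xd15 yd3 zd6) (kd xd15 yd21 zd13) (kd xd15 yd3 zd22) (kd xd15 yd3 zd8) (kd xd15 yd3 zd14) (kd xd15 yd18 zd16) (kd xd15 yd3 zd16) (kd xd16 yd4 zd4) (kd xd15 yd3 zd12) (kd xd16 yd18 zd19) (kd xd16 yd18 zd11) (kd xd16 yd18 zd13) (kd xd16 yd18 zd21) (kd xd16 yd18 zd16) (kd xd15 yd3 zd17) (kd xd15 yd3 zd18) (kd xd15 yd21 zd28) (kd xd16 yd18 zd23) (kd xd15 yd21 zd30) (kd xd16 yd18 zd7))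
def f_d_16 : D2 → D3 → Pt := @D2.rec (fun _ => D3 → Pt) (@D3.rec (fun _ => Pt) (kd xd16 yd18 zd30) (kd xd16 yd18 zd10) (kd xd16 yd9 zd22) (kd xd16 yd5 zd17) (kd xd16 yd5 zd10) (kd xd15 yd3 zd27) (kd xd15 yd4 zd16) (kd xd15 yd4 zd0) (kd xd15 yd4 zd17) (kd xd16 yd14 zd6) (kd xd15 yd4 zd18) (kd xd16 yd14 zd5) (kd xd15 yd4 zd20) (kd xd16 yd19 zd12) (kd xd16 yd19 zd5) (kd xd15 yd4 zd22) (kd xd16 yd19 zd17) (kd xd15 yd18 zd15) (kd xd15 yd4 zd24) (kd xd16 yd19 zd21) (kd xd15 yd4 zd4) (kd xd16 yd19 zd23) (kd xd15 yd18 zd19) (kd xd16 yd8 zd4) (kd xd16 yd4 zd17) (kd xd16 yd2 zd26) (kd xd15 yd4 zd9) (kd xd16 yd19 zd28) (kd xd16 yd12 zd1) (kd xd16 yd7 zd18) (kd xd16 yd7 zd19) (kd xd16 yd7 zd20)) (@D3.rec (fun _ => Pt) (kd xd15 yd4 zd28) (kd xd16 yd19 zd8)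 (kd xd16 yd20 zd1) (kd xd15 yd4 zd21) (kd xd16 yd19 zd15) (kd xd16 yd20 zd3) (kd xd15 yd4 zd23) (kd xd16 yd20 zd5) (kd xd15 yd4 zd25) (kd xd15 yd5 zd2) (kd xd15 yd18 zd30) (kd xd15 yd5 zd3) (kd xd15 yd5 zd4) (kd xd16 yd1 zd13) (kd xd16 yd20 zd9) (kd xd15 yd5 zd6) (kd xd15 yd5 zd7) (kd xd15 yd5 zd11) (kd xd15 yd5 zd9) (kd xd16 yd20 zd18) (kd xd16 yd20 zd14) (kd xd15 yd12 zd8) (kd xd16 yd20 zd16) (kd xd15 yd11 zd16) (kd xd15 yd7 zd5) (kd xd15 yd13 zd8) (kd xd15 yd5 zd14) (kd xd15 yd5 zd17) (kd xd15 yd5 zd16) (kd xd16 yd20 zd29) (kd xd15 yd7 zd6) (kd xd15 yd17 zd9)) (@D3.rec (fun _ => Pt) (kd xd15 yd5 zd19) (kd xd15 yd5 zd22) (kd xd16 yd21 zd3) (kd xd16 yd21 zd2) (kd xd15 yd5 zd23) (kd xd15 yd5 zd24) (kd xd16 yd2 zd6) (kd xd16 yd20 zd13) (kd xd15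 yd5 zd30) (kd xd15 yd12 zd25) (kd xd15 yd5 zd31) (kd xd15 yd20 zd5) (kd xd15 yd5 zd29) (kd xd16 yd21 zd17) (kd xd15 yd12 zd10) (kd xd15 yd6 zd3) (kd xd15 yd6 zd2) (kd xd16 yd21 zd20) (kd xd15 yd14 zd8) (kd xd15 yd10 zd18) (kd xd15 yd18 zd21) (kd xd15 yd17 zd21) (kd xd15 yd6 zd9) (kd xd16 yd21 zd26) (kd xd15 yd6 zd10) (kd xd15 yd6 zd13) (kd xd16 yd0 zd25) (kd xd16 yd21 zd28) (kd xd15 yd6 zd14) (kd xd16 yd3 zd21) (kd xd15 yd13 zd24) (kd xd15 yd6 zd19)) (@D3.rec (fun _ => Pt) (kd xd15 yd6 zd18) (kd xd17 yd0 zd3) (kd xd17 yd0 zd2) (kd xd15 yd6 zd20) (kd xd15 yd6 zd21) (kd xd16 yd19 zd4) (kd xd15 yd7 zd2) (kd xd15 yd7 zd12) (kd xd15 yd7 zd3) (kd xd16 yd12 zd3) (kd xd16 yd8 zd8) (kd xd15 yd14 zd7) (kd xd16 yd19 zd29) (kd xd15 yd14 zd9) (kd xd15 yd7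 zd1) (kd xd15 yd20 zd29) (kd xd15 yd20 zd30) (kd xd15 yd7 zd0) (kd xd17 yd0 zd11) (kd xd15 yd7 zd7) (kd xd15 yd7 zd9) (kd xd16 yd2 zd29) (kd xd16 yd15 zd11) (kd xd17 yd0 zd10) (kd xd15 yd7 zd13) (kd xd17 yd0 zd25) (kd xd15 yd7 zd15) (kd xd15 yd7 zd17) (kd xd17 yd0 zd28) (kd xd15 yd7 zd18) (kd xd16 yd3 zd30) (kd xd15 yd8 zd17)) (@D3.rec (fun _ => Pt) (kd xd15 yd7 zd20) (kd xd15 yd7 zd25) (kd xd15 yd16 zd0) (kd xd15 yd7 zd27) (kd xd15 yd21 zd19) (kd xd15 yd7 zd24) (kd xd17 yd1 zd9) (kd xd17 yd1 zd10) (kd xd17 yd1 zd6) (kd xd15 yd11 zd18) (kd xd15 yd20 zd27) (kd xd16 yd4 zd11) (kd xd16 yd21 zd9) (kd xd15 yd8 zd2) (kd xd15 yd16 zd23) (kd xd15 yd8 zd1) (kd xd17 yd1 zd18) (kd xd16 yd0 zd24) (kd xd15 yd8 zd4) (kd xd15 yd8 zd5) (kd xd15 yd11 zd22) (kd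 xd17 yd0 zd27) (kd xd15 yd16 zd22) (kd xd15 yd11 zd17) (kd xd15 yd8 zd10) (kd xd17 yd1 zd27) (kd xd15 yd8 zd11) (kd xd15 yd8 zd12) (kd xd15 yd8 zd13) (kd xd16 yd4 zd29) (kd xd17 yd1 zd29) (kd xd16 yd4 zd31)) (@D3.rec (fun _ => Pt) (kd xd16 yd20 zd27) (kd xd16 yd5 zd1) (kd xd17 yd2 zd9) (kd xd17 yd1 zd2) (kd xd15 yd17 zd0) (kd xd15 yd8 zd25) (kd xd16 yd20 zd24) (kd xd15 yd17 zd1) (kd xd15 yd8 zd26) (kd xd15 yd13 zd25) (kd xd16 yd0 zd4) (kd xd15 yd8 zd24) (kd xd16 yd5 zd12) (kd xd16 yd5 zd19) (kd xd15 yd10 zd3) (kd xd15 yd8 zd30) (kd xd17 yd2 zd22) (kd xd16 yd0 zd3) (kd xd16 yd5 zd18) (kd xd16 yd5 zd13) (kd xd15 yd11 zd6) (kd xd15 yd15 zd0) (kd xd15 yd9 zd3) (kd xd17 yd2 zd29) (kd xd15 yd9 zd4) (kd xd15 yd10 zd24) (kd xd16 yd16 zd11) (kd xd15 yd10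 zd26) (kd xd16 yd8 zd29) (kd xd16 yd7 zd31) (kd xd15 yd12 zd15) (kd xd15 yd9 zd15)) (@D3.rec (fun _ => Pt) (kd xd17 yd3 zd8) (kd xd15 yd20 zd0) (kd xd15 yd9 zd16) (kd xd15 yd18 zd5) (kd xd15 yd18 zd6) (kd xd15 yd9 zd14) (kd xd15 yd9 zd17) (kd xd15 yd9 zd18) (kd xd16 yd6 zd8) (kd xd16 yd9 zd21) (kd xd15 yd17 zd19) (kd xd16 yd21 zd19) (kd xd15 yd9 zd23) (kd xd17 yd3 zd20) (kd xd15 yd9 zd24) (kd xd15 yd9 zd25) (kd xd15 yd9 zd26) (kd xd16 yd6 zd17) (kd xd17 yd3 zd22) (kd xd16 yd6 zd19) (kd xd16 yd11 zd21) (kd xd16 yd6 zd21) (kd xd17 yd4 zd1) (kd xd16 yd11 zd23) (kd xd15 yd11 zd7) (kd xd15 yd18 zd2) (kd xd17 yd4 zd6) (kd xd15 yd18 zd4) (kd xd15 yd12 zd18) (kd xd17 yd2 zd21) (kd xd15 yd10 zd5) (kd xd15 yd10 zd10)) (@D3.rec (fun _ => Pt) (kd xd16 yd13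 zd29) (kd xd15 yd10 zd30) (kd xd16 yd13 zd28) (kd xd15 yd10 zd31) (kd xd16 yd17 zd13) (kd xd17 yd4 zd11) (kd xd15 yd11 zd0) (kd xd17 yd4 zd21) (kd xd16 yd11 zd31) (kd xd15 yd11 zd2) (kd xd17 yd4 zd25) (kd xd15 yd10 zd14) (kd xd17 yd4 zd27) (kd xd16 yd12 zd0) (kd xd15 yd18 zd20) (kd xd15 yd13 zd15) (kd xd16 yd21 zd23) (kd xd15 yd18 zd22) (kd xd16 yd0 zd29) (kd xd16 yd0 zd30) (kd xd16 yd0 zd31) (kd xd17 yd2 zd31) (kd xd17 yd5 zd2) (kd xd17 yd3 zd2) (kd xd17 yd4 zd13) (kd xd17 yd4 zd19) (kd xd17 yd5 zd4) (kd xd15 yd11 zd1) (kd xd17 yd5 zd6) (kd xd15 yd11 zd3) (kd xd15 yd11 zd8) (kd xd16 yd5 zd29)) (@D3.rec (fun _ => Pt) (kd xd15 yd14 zd25) (kd xd15 yd20 zd26) (kd xd15 yd14 zd23) (kd xd15 yd14 zd24) (kd xd16 yd0 zd23) (kd xd16 yd20 zd23) (kd xd17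 yd1 zd26) (kd xd17 yd1 zd11) (kd xd16 yd3 zd10) (kd xd15 yd11 zd21) (kd xd17 yd1 zd21) (kd xd16 yd10 zd30) (kd xd16 yd8 zd12) (kd xd16 yd18 zd5) (kd xd15 yd11 zd26) (kd xd17 yd5 zd19) (kd xd15 yd11 zd27) (kd xd16 yd8 zd17) (kd xd17 yd5 zd22) (kd xd15 yd11 zd29) (kd xd16 yd8 zd20) (kd xd15 yd12 zd0) (kd xd17 yd5 zd30) (kd xd17 yd5 zd29) (kd xd15 yd12 zd1) (kd xd15 yd12 zd24) (kd xd15 yd12 zd7) (kd xd16 yd20 zd15) (kd xd15 yd12 zd9) (kd xd16 yd5 zd28) (kd xd15 yd12 zd6) (kd xd17 yd6 zd9)) (@D3.rec (fun _ => Pt) (kd xd17 yd6 zd3) (kd xd17 yd6 zd12) (kd xd17 yd6 zd6) (kd xd16 yd21 zd18) (kd xd17 yd2 zd27) (kd xd15 yd18 zd23) (kd xd15 yd18 zd24) (kd xd17 yd2 zd13) (kd xd17 yd3 zd6) (kd xd16 yd18 zd12) (kd xd15 yd12 zd19) (kd xd17 yd4 zd9) (kd xd17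 yd6 zd19) (kd xd15 yd12 zd20) (kd xd15 yd12 zd21) (kd xd17 yd6 zd21) (kd xd17 yd6 zd1) (kd xd17 yd6 zd2) (kd xd16 yd21 zd14) (kd xd15 yd12 zd27) (kd xd16 yd9 zd20) (kd xd16 yd6 zd9) (kd xd16 yd0 zd2) (kd xd15 yd12 zd31) (kd xd17 yd6 zd30) (kd xd16 yd9 zd25) (kd xd16 yd10 zd7) (kd xd17 yd1 zd16) (kd xd15 yd13 zd4) (kd xd15 yd13 zd3) (kd xd17 yd7 zd3) (kd xd17 yd7 zd2)) (@D3.rec (fun _ => Pt) (kd xd17 yd1 zd22) (kd xd16 yd14 zd17) (kd xd16 yd14 zd20) (kd xd16 yd20 zd25) (kd xd15 yd13 zd10) (kd xd15 yd13 zd11) (kd xd16 yd10 zd6) (kd xd16 yd9 zd26) (kd xd17 yd2 zd16) (kd xd15 yd13 zd16) (kd xd17 yd4 zd30) (kd xd17 yd7 zd15) (kd xd15 yd13 zd17) (kd xd15 yd13 zd18) (kd xd16 yd10 zd14) (kd xd17 yd7 zd18) (kd xd16 yd10 zd16) (kd xd16 yd16 zd31) (kd xd17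 yd7 zd25) (kd xd16 yd17 zd2) (kd xd16 yd20 zd31) (kd xd17 yd0 zd1) (kd xd17 yd2 zd17) (kd xd15 yd13 zd29) (kd xd15 yd13 zd28) (kd xd16 yd17 zd8) (kd xd17 yd7 zd31) (kd xd15 yd14 zd2) (kd xd16 yd10 zd29) (kd xd16 yd10 zd28) (kd xd16 yd8 zd11) (kd xd17 yd8 zd2)) (@D3.rec (fun _ => Pt) (kd xd17 yd8 zd7) (kd xd16 yd17 zd17) (kd xd15 yd14 zd5) (kd xd17 yd8 zd10) (kd xd16 yd17 zd22) (kd xd17 yd0 zd15) (kd xd16 yd21 zd22) (kd xd17 yd0 zd17) (kd xd15 yd16 zd9) (kd xd15 yd14 zd13) (kd xd15 yd14 zd17) (kd xd15 yd14 zd18) (kd xd17 yd8 zd14) (kd xd16 yd15 zd15) (kd xd15 yd16 zd2) (kd xd15 yd14 zd22) (kd xd17 yd8 zd17) (kd xd17 yd5 zd11) (kd xd16 yd11 zd18) (kd xd17 yd3 zd15) (kd xd16 yd11 zd20) (kd xd16 yd6 zd20) (kd xd17 yd8 zd22) (kd xd16 yd6 zd23) (kd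 xd16 yd21 zd13) (kd xd15 yd17 zd10) (kd xd17 yd2 zd28) (kd xd15 yd15 zd2) (kd xd15 yd15 zd5) (kd xd16 yd21 zd27) (kd xd17 yd8 zd28) (kd xd16 yd7 zd8)) (@D3.rec (fun _ => Pt) (kd xd16 yd7 zd13) (kd xd16 yd0 zd28) (kd xd15 yd15 zd13) (kd xd16 yd3 zd9) (kd xd15 yd15 zd12) (kd xd17 yd9 zd3) (kd xd17 yd9 zd0) (kd xd15 yd15 zd14) (kd xd15 yd15 zd16) (kd xd17 yd9 zd5) (kd xd15 yd15 zd17) (kd xd15 yd15 zd18) (kd xd16 yd12 zd12) (kd xd15 yd16 zd20) (kd xd15 yd18 zd14) (kd xd15 yd18 zd28) (kd xd17 yd0 zd9) (kd xd15 yd15 zd23) (kd xd17 yd9 zd17) (kd xd15 yd15 zd24) (kd xd15 yd15 zd25) (kd xd15 yd19 zd13) (kd xd17 yd9 zd18) (kd xd15 yd19 zd14) (kd xd15 yd16 zd30) (kd xd15 yd19 zd15) (kd xd16 yd14 zd19) (kd xd15 yd16 zd31) (kd xd15 yd16 zd5) (kd xd17 yd1 zd3)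 (kd xd15 yd16 zd6) (kd xd17 yd10 zd3)) (@D3.rec (fun _ => Pt) (kd xd17 yd1 zd5) (kd xd15 yd16 zd8) (kd xd16 yd14 zd30) (kd xd17 yd8 zd16) (kd xd15 yd16 zd4) (kd xd17 yd10 zd1) (kd xd15 yd16 zd7) (kd xd15 yd16 zd10) (kd xd16 yd13 zd8) (kd xd17 yd9 zd4) (kd xd15 yd18 zd26) (kd xd16 yd20 zd28) (kd xd15 yd16 zd14) (kd xd17 yd10 zd16) (kd xd15 yd16 zd15) (kd xd15 yd16 zd16) (kd xd16 yd13 zd16) (kd xd17 yd10 zd18) (kd xd16 yd13 zd18) (kd xd17 yd9 zd9) (kd xd17 yd10 zd24) (kd xd17 yd9 zd12) (kd xd17 yd10 zd14) (kd xd17 yd1 zd25) (kd xd17 yd1 zd17) (kd xd15 yd16 zd25) (kd xd15 yd19 zd19) (kd xd15 yd16 zd29) (kd xd16 yd7 zd2) (kd xd16 yd7 zd0) (kd xd17 yd10 zd31) (kd xd17 yd9 zd26)) (@D3.rec (fun _ => Pt) (kd xd17 yd9 zd30) (kd xd17 yd2 zd12) (kd xd17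 yd2 zd15) (kd xd15 yd18 zd25) (kd xd15 yd17 zd6) (kd xd16 yd0 zd11) (kd xd16 yd0 zd9) (kd xd17 yd11 zd6) (kd xd16 yd15 zd1) (kd xd16 yd15 zd5) (kd xd16 yd21 zd0) (kd xd17 yd8 zd26) (kd xd15 yd17 zd12) (kd xd15 yd17 zd13) (kd xd15 yd19 zd1) (kd xd17 yd11 zd13) (kd xd15 yd19 zd2) (kd xd16 yd10 zd1) (kd xd15 yd19 zd3) (kd xd16 yd12 zd26) (kd xd16 yd10 zd2) (kd xd17 yd3 zd7) (kd xd17 yd3 zd18) (kd xd15 yd18 zd3) (kd xd16 yd21 zd25) (kd xd15 yd17 zd23) (kd xd15 yd19 zd4) (kd xd15 yd17 zd28) (kd xd16 yd14 zd29) (kd xd16 yd14 zd28) (kd xd16 yd13 zd2) (kd xd17 yd11 zd28)) (@D3.rec (fun _ => Pt) (kd xd17 yd12 zd1) (kd xd16 yd14 zd8) (kd xd17 yd12 zd4) (kd xd15 yd18 zd0) (kd xd17 yd12 zd6) (kd xd16 yd14 zd9) (kd xd17 yd4 zd5) (kd xd17 yd11 zd25) (kd xd17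 yd4 zd8) (kd xd17 yd3 zd11) (kd xd17 yd3 zd12) (kd xd16 yd3 zd22) (kd xd15 yd18 zd13) (kd xd16 yd15 zd14) (kd xd16 yd15 zd13) (kd xd16 yd11 zd13) (kd xd17 yd12 zd12) (kd xd17 yd9 zd13) (kd xd16 yd19 zd19) (kd xd16 yd18 zd15) (kd xd15 yd18 zd18) (kd xd17 yd12 zd18) (kd xd17 yd4 zd29) (kd xd16 yd21 zd24) (kd xd17 yd6 zd15) (kd xd17 yd9 zd14) (kd xd17 yd11 zd12) (kd xd17 yd11 zd17) (kd xd15 yd19 zd5) (kd xd15 yd19 zd6) (kd xd15 yd19 zd9) (kd xd15 yd19 zd17)) (@D3.rec (fun _ => Pt) (kd xd17 yd9 zd19) (kd xd17 yd9 zd21) (kd xd17 yd9 zd24) (kd xd17 yd9 zd27) (kd xd16 yd16 zd4) (kd xd15 yd19 zd22) (kd xd17 yd12 zd24) (kd xd17 yd12 zd23) (kd xd16 yd16 zd8) (kd xd15 yd20 zd3) (kd xd15 yd19 zd28) (kd xd16 yd5 zd26) (kd xd15 yd19 zd30) (kd xd16 yd20 zd17)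 (kd xd15 yd19 zd27) (kd xd17 yd13 zd4) (kd xd17 yd12 zd30) (kd xd17 yd13 zd7) (kd xd17 yd13 zd1) (kd xd15 yd19 zd31) (kd xd17 yd13 zd8) (kd xd17 yd3 zd10) (kd xd16 yd16 zd22) (kd xd17 yd5 zd26) (kd xd16 yd16 zd24) (kd xd17 yd13 zd15) (kd xd17 yd12 zd29) (kd xd16 yd21 zd15) (kd xd16 yd21 zd16) (kd xd15 yd20 zd7) (kd xd16 yd16 zd30) (kd xd16 yd10 zd17)) (@D3.rec (fun _ => Pt) (kd xd16 yd17 zd0) (kd xd17 yd13 zd24) (kd xd16 yd10 zd19) (kd xd17 yd4 zd4) (kd xd15 yd20 zd12) (kd xd17 yd13 zd28) (kd xd15 yd20 zd16) (kd xd15 yd20 zd15) (kd xd16 yd10 zd25) (kd xd17 yd14 zd0) (kd xd15 yd20 zd20) (kd xd15 yd21 zd0) (kd xd16 yd21 zd1) (kd xd16 yd7 zd4) (kd xd17 yd14 zd3) (kd xd15 yd21 zd1) (kd xd17 yd14 zd10) (kd xd16 yd11 zd1) (kd xd15 yd21 zd3) (kd xd17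 yd14 zd14) (kd xd15 yd20 zd24) (kd xd17 yd14 zd16) (kd xd16 yd11 zd4) (kd xd17 yd5 zd10) (kd xd17 yd1 zd12) (kd xd17 yd0 zd18) (kd xd17 yd0 zd19) (kd xd17 yd0 zd20) (kd xd17 yd14 zd8) (kd xd17 yd14 zd21) (kd xd15 yd21 zd2) (kd xd17 yd14 zd22)) (@D3.rec (fun _ => Pt) (kd xd15 yd21 zd4) (kd xd16 yd18 zd1) (kd xd16 yd18 zd2) (kd xd15 yd21 zd10) (kd xd16 yd18 zd4) (kd xd16 yd8 zd13) (kd xd16 yd18 zd6) (kd xd15 yd21 zd31) (kd xd16 yd18 zd8) (kd xd17 yd15 zd0) (kd xd16 yd0 zd1) (kd xd15 yd21 zd22) (kd xd16 yd9 zd9) (kd xd15 yd21 zd23) (kd xd17 yd15 zd7) (kd xd16 yd15 zd19) (kd xd15 yd21 zd25) (kd xd17 yd1 zd7) (kd xd17 yd1 zd8) (kd xd15 yd21 zd21) (kd xd17 yd15 zd5) (kd xd15 yd21 zd24) (kd xd16 yd18 zd22) (kd xd15 yd21 zd29) (kd xd16 yd18 zd24) (kd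 xd16 yd20 zd7) (kd xd17 yd15 zd17) (kd xd17 yd15 zd14) (kd xd17 yd15 zd20) (kd xd17 yd14 zd29) (kd xd16 yd0 zd0) (kd xd17 yd15 zd23)) (@D3.rec (fun _ => Pt) (kd xd17 yd15 zd2) (kd xd17 yd6 zd29) (kd xd17 yd2 zd23) (kd xd17 yd2 zd18) (kd xd16 yd3 zd5) (kd xd16 yd0 zd14) (kd xd16 yd19 zd11) (kd xd17 yd11 zd8) (kd xd16 yd1 zd1) (kd xd17 yd15 zd31) (kd xd17 yd11 zd7) (kd xd16 yd19 zd6) (kd xd16 yd0 zd13) (kd xd17 yd16 zd3) (kd xd17 yd15 zd27) (kd xd16 yd1 zd4) (kd xd17 yd16 zd6) (kd xd16 yd0 zd16) (kd xd17 yd16 zd8) (kd xd16 yd15 zd18) (kd xd17 yd16 zd11) (kd xd16 yd0 zd19) (kd xd17 yd16 zd13) (kd xd16 yd0 zd21) (kd xd17 yd16 zd15) (kd xd17 yd5 zd12) (kd xd17 yd1 zd19) (kd xd16 yd21 zd29) (kd xd16 yd0 zd27) (kd xd16 yd3 zd12) (kd xd17 yd16 zd18) (kd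 xd17 yd5 zd0)) (@D3.rec (fun _ => Pt) (kd xd17 yd5 zd1) (kd xd16 yd1 zd2) (kd xd17 yd16 zd21) (kd xd16 yd1 zd5) (kd xd16 yd20 zd4) (kd xd16 yd1 zd7) (kd xd16 yd20 zd6) (kd xd16 yd18 zd25) (kd xd16 yd20 zd8) (kd xd16 yd1 zd14) (kd xd17 yd16 zd28) (kd xd17 yd16 zd27) (kd xd16 yd20 zd12) (kd xd16 yd2 zd7) (kd xd16 yd1 zd20) (kd xd16 yd8 zd27) (kd xd16 yd1 zd22) (kd xd16 yd16 zd13) (kd xd16 yd1 zd19) (kd xd17 yd17 zd8) (kd xd17 yd17 zd2) (kd xd17 yd17 zd9) (kd xd17 yd17 zd5) (kd xd16 yd8 zd5) (kd xd16 yd5 zd6) (kd xd16 yd10 zd3) (kd xd16 yd20 zd26) (kd xd16 yd5 zd0) (kd xd16 yd13 zd11) (kd xd16 yd1 zd29) (kd xd17 yd17 zd16) (kd xd16 yd10 zd20)) (@D3.rec (fun _ => Pt) (kd xd16 yd14 zd10) (kd xd16 yd17 zd12) (kd xd16 yd2 zd3) (kd xd16 yd2 zd2) (kd xd17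 yd17 zd21) (kd xd17 yd17 zd20) (kd xd16 yd21 zd6) (kd xd17 yd7 zd20) (kd xd16 yd21 zd8) (kd xd16 yd4 zd12) (kd xd16 yd21 zd10) (kd xd17 yd17 zd29) (kd xd17 yd17 zd1) (kd xd16 yd11 zd24) (kd xd16 yd9 zd18) (kd xd16 yd16 zd27) (kd xd16 yd16 zd28) (kd xd16 yd2 zd13) (kd xd16 yd9 zd3) (kd xd16 yd6 zd11) (kd xd16 yd2 zd17) (kd xd17 yd18 zd6) (kd xd16 yd11 zd6) (kd xd16 yd7 zd16) (kd xd16 yd15 zd23) (kd xd16 yd14 zd24) (kd xd16 yd2 zd23) (kd xd16 yd11 zd29) (kd xd16 yd2 zd27) (kd xd16 yd19 zd27) (kd xd17 yd18 zd11) (kd xd17 yd0 zd7))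
def f_d_17 : D2 → D3 → Pt := @D2.rec (fun _ => D3 → Pt) (@D3.rec (fun _ => Pt) (kd xd17 yd0 zd22) (kd xd16 yd10 zd21) (kd xd16 yd3 zd2) (kd xd16 yd3 zd1) (kd xd17 yd1 zd23) (kd xd17 yd18 zd16) (kd xd17 yd6 zd22) (kd xd16 yd21 zd31) (kd xd17 yd15 zd26) (kd xd16 yd12 zd16) (kd xd16 yd3 zd23) (kd xd16 yd3 zd18) (kd xd17 yd9 zd1) (kd xd17 yd9 zd2) (kd xd17 yd5 zd15) (kd xd16 yd11 zd5) (kd xd17 yd16 zd19) (kd xd16 yd11 zd7) (kd xd16 yd17 zd25) (kd xd16 yd17 zd26) (kd xd16 yd17 zd27) (kd xd17 yd0 zd21) (kd xd17 yd0 zd0) (kd xd17 yd12 zd11) (kd xd17 yd18 zd22) (kd xd16 yd3 zd25) (kd xd17 yd19 zd0) (kd xd16 yd4 zd21) (kd xd16 yd3 zd28) (kd xd17 yd19 zd3) (kd xd17 yd0 zd30) (kd xd17 yd7 zd11)) (@D3.rec (fun _ => Pt) (kd xd17 yd1 zd0) (kd xd17 yd19 zd7)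 (kd xd16 yd5 zd3) (kd xd16 yd12 zd29) (kd xd17 yd19 zd11) (kd xd16 yd13 zd0) (kd xd16 yd4 zd8) (kd xd16 yd18 zd17) (kd xd16 yd18 zd18) (kd xd16 yd4 zd6) (kd xd16 yd4 zd7) (kd xd16 yd8 zd7) (kd xd16 yd17 zd24) (kd xd17 yd1 zd13) (kd xd17 yd19 zd19) (kd xd17 yd17 zd27) (kd xd16 yd9 zd27) (kd xd16 yd13 zd24) (kd xd16 yd4 zd16) (kd xd16 yd19 zd26) (kd xd17 yd11 zd14) (kd xd16 yd8 zd10) (kd xd16 yd10 zd0) (kd xd17 yd0 zd4) (kd xd17 yd19 zd2) (kd xd16 yd13 zd23) (kd xd16 yd8 zd6) (kd xd16 yd4 zd25) (kd xd17 yd1 zd28) (kd xd16 yd4 zd30) (kd xd17 yd2 zd0) (kd xd17 yd1 zd31)) (@D3.rec (fun _ => Pt) (kd xd17 yd1 zd30) (kd xd17 yd2 zd1) (kd xd17 yd20 zd6) (kd xd17 yd20 zd0) (kd xd17 yd2 zd4) (kd xd17 yd20 zd11) (kd xd17 yd17 zd14) (kd xd17 yd2 zd7) (kd xd17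 yd20 zd15) (kd xd16 yd5 zd2) (kd xd17 yd20 zd17) (kd xd17 yd19 zd9) (kd xd16 yd14 zd1) (kd xd16 yd9 zd7) (kd xd17 yd17 zd11) (kd xd16 yd14 zd2) (kd xd16 yd10 zd8) (kd xd16 yd10 zd22) (kd xd16 yd19 zd3) (kd xd17 yd20 zd24) (kd xd17 yd2 zd26) (kd xd16 yd6 zd29) (kd xd16 yd5 zd16) (kd xd16 yd19 zd2) (kd xd17 yd2 zd24) (kd xd17 yd20 zd29) (kd xd17 yd2 zd20) (kd xd16 yd9 zd4) (kd xd16 yd11 zd26) (kd xd16 yd5 zd23) (kd xd17 yd9 zd20) (kd xd16 yd7 zd21)) (@D3.rec (fun _ => Pt) (kd xd17 yd21 zd4) (kd xd17 yd13 zd0) (kd xd16 yd7 zd23) (kd xd17 yd6 zd7) (kd xd17 yd6 zd8) (kd xd17 yd5 zd9) (kd xd16 yd9 zd8) (kd xd16 yd14 zd21) (kd xd16 yd6 zd0) (kd xd17 yd21 zd12) (kd xd16 yd16 zd21) (kd xd16 yd15 zd9) (kd xd16 yd15 zd10) (kd xd17 yd3 zd26) (kd xd17 yd3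 zd14) (kd xd16 yd11 zd19) (kd xd17 yd21 zd18) (kd xd17 yd6 zd28) (kd xd16 yd14 zd22) (kd xd17 yd18 zd5) (kd xd16 yd6 zd13) (kd xd17 yd3 zd21) (kd xd16 yd6 zd18) (kd xd17 yd3 zd23) (kd xd17 yd10 zd19) (kd xd17 yd3 zd25) (kd xd17 yd3 zd13) (kd xd17 yd21 zd29) (kd xd17 yd21 zd24) (kd xd17 yd3 zd29) (kd xd18 yd0 zd1) (kd xd17 yd8 zd21)) (@D3.rec (fun _ => Pt) (kd xd18 yd0 zd4) (kd xd16 yd6 zd22) (kd xd18 yd0 zd6) (kd xd17 yd8 zd24) (kd xd16 yd17 zd3) (kd xd16 yd15 zd6) (kd xd16 yd6 zd26) (kd xd18 yd0 zd10) (kd xd16 yd15 zd8) (kd xd16 yd9 zd11) (kd xd17 yd20 zd27) (kd xd16 yd7 zd5) (kd xd17 yd11 zd1) (kd xd16 yd7 zd24) (kd xd17 yd14 zd4) (kd xd17 yd11 zd0) (kd xd17 yd7 zd4) (kd xd17 yd14 zd6) (kd xd18 yd0 zd14) (kd xd16 yd7 zd25) (kd xd18 yd0 zd22)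 (kd xd16 yd7 zd7) (kd xd18 yd0 zd24) (kd xd17 yd8 zd31) (kd xd18 yd0 zd27) (kd xd16 yd7 zd10) (kd xd18 yd0 zd30) (kd xd16 yd7 zd12) (kd xd18 yd1 zd0) (kd xd16 yd15 zd22) (kd xd16 yd10 zd10) (kd xd17 yd18 zd8)) (@D3.rec (fun _ => Pt) (kd xd16 yd19 zd31) (kd xd16 yd20 zd0) (kd xd16 yd7 zd22) (kd xd18 yd1 zd3) (kd xd16 yd7 zd26) (kd xd17 yd5 zd5) (kd xd16 yd7 zd28) (kd xd17 yd5 zd7) (kd xd17 yd5 zd8) (kd xd17 yd3 zd5) (kd xd16 yd17 zd23) (kd xd16 yd11 zd17) (kd xd16 yd19 zd25) (kd xd17 yd17 zd10) (kd xd17 yd19 zd30) (kd xd17 yd0 zd14) (kd xd17 yd8 zd5) (kd xd18 yd1 zd11) (kd xd17 yd14 zd26) (kd xd16 yd8 zd15) (kd xd18 yd1 zd14) (kd xd17 yd5 zd21) (kd xd16 yd8 zd18) (kd xd18 yd1 zd17) (kd xd18 yd1 zd16) (kd xd17 yd5 zd25) (kd xd16 yd16 zd23) (kd xd17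 yd5 zd27) (kd xd18 yd1 zd24) (kd xd16 yd8 zd23) (kd xd16 yd8 zd22) (kd xd18 yd1 zd27)) (@D3.rec (fun _ => Pt) (kd xd18 yd1 zd26) (kd xd16 yd9 zd16) (kd xd16 yd9 zd17) (kd xd16 yd9 zd0) (kd xd18 yd2 zd1) (kd xd17 yd17 zd4) (kd xd16 yd9 zd2) (kd xd17 yd3 zd3) (kd xd17 yd3 zd4) (kd xd16 yd8 zd31) (kd xd18 yd1 zd31) (kd xd18 yd2 zd7) (kd xd16 yd9 zd1) (kd xd17 yd18 zd4) (kd xd17 yd21 zd0) (kd xd16 yd15 zd24) (kd xd17 yd20 zd20) (kd xd17 yd21 zd10) (kd xd17 yd15 zd4) (kd xd16 yd9 zd12) (kd xd18 yd0 zd13) (kd xd16 yd9 zd15) (kd xd17 yd0 zd6) (kd xd18 yd2 zd11) (kd xd18 yd1 zd29) (kd xd18 yd1 zd30) (kd xd17 yd18 zd1) (kd xd18 yd2 zd15) (kd xd17 yd3 zd17) (kd xd16 yd19 zd1) (kd xd16 yd9 zd24) (kd xd18 yd2 zd19)) (@D3.rec (fun _ => Pt) (kd xd17 yd7 zd13)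 (kd xd17 yd19 zd22) (kd xd16 yd9 zd31) (kd xd16 yd9 zd30) (kd xd17 yd4 zd16) (kd xd18 yd2 zd23) (kd xd17 yd19 zd26) (kd xd17 yd11 zd19) (kd xd17 yd11 zd22) (kd xd17 yd17 zd12) (kd xd17 yd7 zd10) (kd xd17 yd0 zd31) (kd xd18 yd2 zd30) (kd xd17 yd7 zd0) (kd xd17 yd20 zd22) (kd xd16 yd10 zd11) (kd xd18 yd1 zd1) (kd xd17 yd7 zd17) (kd xd16 yd10 zd15) (kd xd17 yd7 zd19) (kd xd16 yd21 zd7) (kd xd18 yd3 zd6) (kd xd18 yd3 zd3) (kd xd18 yd3 zd9) (kd xd17 yd13 zd22) (kd xd16 yd10 zd18) (kd xd18 yd3 zd12) (kd xd17 yd13 zd26) (kd xd17 yd17 zd17) (kd xd17 yd18 zd15) (kd xd17 yd20 zd23) (kd xd16 yd10 zd26)) (@D3.rec (fun _ => Pt) (kd xd17 yd14 zd1) (kd xd17 yd14 zd2) (kd xd16 yd10 zd31) (kd xd17 yd8 zd4) (kd xd17 yd8 zd3) (kd xd17 yd5 zd16) (kd xd18 yd3 zd17)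 (kd xd16 yd11 zd0) (kd xd18 yd3 zd21) (kd xd17 yd14 zd12) (kd xd16 yd11 zd3) (kd xd18 yd3 zd23) (kd xd17 yd18 zd26) (kd xd17 yd18 zd7) (kd xd16 yd11 zd12) (kd xd17 yd12 zd15) (kd xd16 yd13 zd3) (kd xd16 yd11 zd16) (kd xd18 yd3 zd25) (kd xd17 yd21 zd17) (kd xd18 yd3 zd28) (kd xd17 yd3 zd31) (kd xd16 yd11 zd22) (kd xd18 yd3 zd31) (kd xd17 yd4 zd3) (kd xd17 yd18 zd0) (kd xd16 yd14 zd11) (kd xd17 yd21 zd1) (kd xd16 yd11 zd30) (kd xd17 yd18 zd10) (kd xd18 yd4 zd2) (kd xd17 yd4 zd23)) (@D3.rec (fun _ => Pt) (kd xd16 yd12 zd6) (kd xd17 yd0 zd12) (kd xd17 yd0 zd13) (kd xd16 yd12 zd5) (kd xd16 yd13 zd9) (kd xd16 yd12 zd9) (kd xd18 yd4 zd8) (kd xd17 yd10 zd10) (kd xd17 yd9 zd8) (kd xd16 yd13 zd19) (kd xd17 yd9 zd10) (kd xd18 yd4 zd15) (kd xd16 yd13 zd21)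 (kd xd16 yd15 zd17) (kd xd16 yd15 zd25) (kd xd17 yd11 zd27) (kd xd17 yd18 zd21) (kd xd16 yd12 zd18) (kd xd16 yd12 zd22) (kd xd16 yd16 zd0) (kd xd17 yd2 zd30) (kd xd16 yd16 zd1) (kd xd18 yd4 zd27) (kd xd18 yd4 zd22) (kd xd16 yd16 zd2) (kd xd17 yd11 zd18) (kd xd16 yd13 zd31) (kd xd16 yd16 zd3) (kd xd17 yd11 zd20) (kd xd17 yd11 zd21) (kd xd16 yd14 zd0) (kd xd17 yd10 zd2)) (@D3.rec (fun _ => Pt) (kd xd17 yd19 zd10) (kd xd16 yd13 zd5) (kd xd17 yd9 zd31) (kd xd16 yd12 zd31) (kd xd18 yd5 zd8) (kd xd17 yd19 zd13) (kd xd17 yd11 zd15) (kd xd17 yd11 zd31) (kd xd18 yd3 zd24) (kd xd17 yd10 zd9) (kd xd17 yd9 zd7) (kd xd17 yd10 zd11) (kd xd18 yd5 zd16) (kd xd18 yd4 zd7) (kd xd16 yd13 zd22) (kd xd17 yd17 zd15) (kd xd16 yd13 zd13) (kd xd17 yd10 zd17) (kd xd16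 yd13 zd17) (kd xd17 yd3 zd24) (kd xd18 yd5 zd24) (kd xd18 yd5 zd22) (kd xd18 yd5 zd27) (kd xd18 yd4 zd12) (kd xd16 yd13 zd20) (kd xd18 yd5 zd30) (kd xd18 yd4 zd17) (kd xd18 yd5 zd19) (kd xd17 yd19 zd29) (kd xd17 yd19 zd23) (kd xd17 yd19 zd25) (kd xd16 yd13 zd30)) (@D3.rec (fun _ => Pt) (kd xd17 yd4 zd15) (kd xd17 yd4 zd12) (kd xd18 yd6 zd2) (kd xd18 yd5 zd1) (kd xd17 yd20 zd19) (kd xd17 yd15 zd30) (kd xd16 yd14 zd7) (kd xd16 yd19 zd10) (kd xd16 yd19 zd7) (kd xd18 yd6 zd6) (kd xd17 yd12 zd3) (kd xd17 yd17 zd18) (kd xd16 yd15 zd26) (kd xd16 yd14 zd15) (kd xd17 yd1 zd20) (kd xd17 yd10 zd6) (kd xd18 yd6 zd10) (kd xd16 yd15 zd27) (kd xd17 yd9 zd25) (kd xd17 yd7 zd7) (kd xd17 yd9 zd28) (kd xd17 yd9 zd29) (kd xd17 yd7 zd8) (kd xd17 yd21 zd11) (kd xd17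 yd21 zd21) (kd xd16 yd15 zd7) (kd xd17 yd18 zd9) (kd xd17 yd9 zd15) (kd xd16 yd14 zd31) (kd xd17 yd11 zd30) (kd xd17 yd11 zd29) (kd xd17 yd10 zd7)) (@D3.rec (fun _ => Pt) (kd xd18 yd6 zd22) (kd xd16 yd15 zd0) (kd xd18 yd6 zd26) (kd xd17 yd11 zd10) (kd xd16 yd15 zd2) (kd xd18 yd6 zd28) (kd xd16 yd15 zd4) (kd xd18 yd6 zd30) (kd xd18 yd0 zd9) (kd xd18 yd6 zd20) (kd xd17 yd21 zd14) (kd xd17 yd0 zd23) (kd xd16 yd15 zd16) (kd xd17 yd12 zd14) (kd xd17 yd12 zd13) (kd xd17 yd8 zd15) (kd xd18 yd4 zd18) (kd xd17 yd15 zd9) (kd xd16 yd15 zd21) (kd xd18 yd4 zd23) (kd xd18 yd4 zd30) (kd xd17 yd12 zd21) (kd xd18 yd7 zd2) (kd xd16 yd16 zd7) (kd xd16 yd16 zd6) (kd xd18 yd7 zd5) (kd xd18 yd7 zd4) (kd xd17 yd12 zd27) (kd xd18 yd7 zd10) (kd xd16 yd16 zd26) (kd xd16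 yd16 zd16) (kd xd18 yd7 zd15)) (@D3.rec (fun _ => Pt) (kd xd17 yd3 zd1) (kd xd16 yd16 zd18) (kd xd17 yd17 zd6) (kd xd17 yd17 zd7) (kd xd16 yd16 zd15) (kd xd18 yd7 zd13) (kd xd18 yd7 zd21) (kd xd16 yd16 zd17) (kd xd16 yd16 zd20) (kd xd18 yd7 zd6) (kd xd18 yd7 zd22) (kd xd17 yd13 zd11) (kd xd18 yd7 zd26) (kd xd18 yd1 zd21) (kd xd18 yd7 zd29) (kd xd16 yd16 zd25) (kd xd18 yd7 zd31) (kd xd18 yd7 zd12) (kd xd17 yd18 zd2) (kd xd17 yd18 zd3) (kd xd17 yd13 zd20) (kd xd18 yd8 zd3) (kd xd17 yd7 zd24) (kd xd18 yd8 zd6) (kd xd16 yd17 zd1) (kd xd18 yd8 zd8) (kd xd17 yd7 zd27) (kd xd18 yd0 zd8) (kd xd16 yd17 zd5) (kd xd18 yd8 zd9) (kd xd18 yd8 zd12) (kd xd17 yd18 zd28)) (@D3.rec (fun _ => Pt) (kd xd16 yd17 zd9) (kd xd17 yd8 zd0) (kd xd17 yd8 zd1) (kd xd16 yd17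 zd14) (kd xd17 yd4 zd14) (kd xd17 yd17 zd19) (kd xd17 yd4 zd17) (kd xd18 yd8 zd19) (kd xd16 yd17 zd28) (kd xd18 yd8 zd24) (kd xd16 yd17 zd16) (kd xd18 yd8 zd26) (kd xd17 yd8 zd9) (kd xd18 yd8 zd28) (kd xd16 yd17 zd19) (kd xd18 yd8 zd29) (kd xd16 yd17 zd21) (kd xd18 yd8 zd31) (kd xd18 yd1 zd8) (kd xd17 yd18 zd29) (kd xd18 yd9 zd0) (kd xd16 yd17 zd29) (kd xd16 yd17 zd31) (kd xd17 yd14 zd23) (kd xd17 yd14 zd24) (kd xd18 yd9 zd1) (kd xd17 yd5 zd18) (kd xd17 yd14 zd27) (kd xd18 yd9 zd6) (kd xd16 yd18 zd29) (kd xd17 yd14 zd30) (kd xd18 yd9 zd10)) (@D3.rec (fun _ => Pt) (kd xd16 yd18 zd9) (kd xd18 yd9 zd12) (kd xd16 yd19 zd0) (kd xd17 yd15 zd6) (kd xd17 yd6 zd18) (kd xd16 yd18 zd20) (kd xd17 yd15 zd3) (kd xd16 yd18 zd14) (kd xd18 yd9 zd18) (kd xd17 yd12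 zd17) (kd xd17 yd19 zd14) (kd xd17 yd19 zd15) (kd xd17 yd19 zd16) (kd xd18 yd9 zd22) (kd xd16 yd18 zd27) (kd xd18 yd9 zd25) (kd xd17 yd16 zd24) (kd xd16 yd18 zd26) (kd xd18 yd9 zd28) (kd xd18 yd9 zd24) (kd xd16 yd18 zd28) (kd xd18 yd9 zd30) (kd xd18 yd9 zd8) (kd xd16 yd18 zd31) (kd xd18 yd10 zd2) (kd xd18 yd2 zd18) (kd xd17 yd0 zd8) (kd xd16 yd19 zd14) (kd xd17 yd16 zd2) (kd xd18 yd6 zd8) (kd xd17 yd11 zd5) (kd xd16 yd19 zd9)) (@D3.rec (fun _ => Pt) (kd xd18 yd10 zd6) (kd xd18 yd6 zd7) (kd xd17 yd15 zd28) (kd xd16 yd19 zd13) (kd xd18 yd10 zd9) (kd xd18 yd10 zd10) (kd xd16 yd19 zd16) (kd xd18 yd10 zd12) (kd xd16 yd19 zd18) (kd xd18 yd9 zd31) (kd xd18 yd10 zd15) (kd xd16 yd19 zd20) (kd xd18 yd10 zd17) (kd xd16 yd19 zd22) (kd xd18 yd10 zd19) (kd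 xd16 yd19 zd24) (kd xd18 yd1 zd9) (kd xd17 yd18 zd12) (kd xd16 yd19 zd30) (kd xd17 yd0 zd16) (kd xd18 yd1 zd2) (kd xd16 yd20 zd2) (kd xd17 yd16 zd22) (kd xd18 yd10 zd22) (kd xd17 yd15 zd16) (kd xd17 yd16 zd25) (kd xd18 yd10 zd26) (kd xd16 yd20 zd11) (kd xd16 yd20 zd10) (kd xd18 yd10 zd29) (kd xd18 yd10 zd28) (kd xd17 yd16 zd31)) (@D3.rec (fun _ => Pt) (kd xd18 yd11 zd1) (kd xd16 yd21 zd12) (kd xd16 yd20 zd20) (kd xd18 yd11 zd5) (kd xd17 yd6 zd5) (kd xd16 yd20 zd22) (kd xd17 yd13 zd2) (kd xd17 yd13 zd3) (kd xd16 yd20 zd19) (kd xd16 yd20 zd21) (kd xd17 yd5 zd13) (kd xd17 yd2 zd14) (kd xd17 yd7 zd9) (kd xd18 yd11 zd13) (kd xd17 yd2 zd6) (kd xd17 yd10 zd15) (kd xd16 yd20 zd30) (kd xd17 yd7 zd28) (kd xd17 yd11 zd11) (kd xd17 yd14 zd5) (kd xd16 yd21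 zd5) (kd xd16 yd21 zd4) (kd xd18 yd10 zd30) (kd xd18 yd11 zd19) (kd xd18 yd11 zd21) (kd xd18 yd3 zd5) (kd xd18 yd11 zd24) (kd xd17 yd1 zd15) (kd xd18 yd11 zd27) (kd xd16 yd21 zd11) (kd xd18 yd11 zd29) (kd xd18 yd11 zd3)) (@D3.rec (fun _ => Pt) (kd xd17 yd8 zd25) (kd xd17 yd6 zd26) (kd xd17 yd13 zd18) (kd xd17 yd13 zd19) (kd xd17 yd6 zd13) (kd xd17 yd3 zd19) (kd xd16 yd21 zd21) (kd xd17 yd8 zd13) (kd xd17 yd4 zd31) (kd xd17 yd11 zd26) (kd xd17 yd8 zd29) (kd xd16 yd21 zd30) (kd xd17 yd16 zd17) (kd xd17 yd18 zd19) (kd xd17 yd18 zd30) (kd xd17 yd7 zd29) (kd xd17 yd0 zd5) (kd xd17 yd19 zd27) (kd xd18 yd2 zd12) (kd xd17 yd18 zd13) (kd xd18 yd10 zd3) (kd xd17 yd9 zd16) (kd xd17 yd0 zd24) (kd xd18 yd4 zd4) (kd xd18 yd4 zd5) (kd xd18 yd4 zd6) (kd xd17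 yd8 zd12) (kd xd18 yd10 zd20) (kd xd17 yd13 zd31) (kd xd17 yd14 zd19) (kd xd17 yd18 zd14) (kd xd18 yd6 zd31)) (@D3.rec (fun _ => Pt) (kd xd17 yd0 zd26) (kd xd18 yd12 zd11) (kd xd17 yd1 zd24) (kd xd17 yd0 zd29) (kd xd18 yd12 zd13) (kd xd18 yd2 zd29) (kd xd18 yd12 zd16) (kd xd17 yd1 zd1) (kd xd18 yd12 zd18) (kd xd17 yd2 zd11) (kd xd17 yd10 zd0) (kd xd17 yd1 zd4) (kd xd18 yd12 zd21) (kd xd17 yd10 zd5) (kd xd17 yd15 zd10) (kd xd17 yd15 zd11) (kd xd17 yd15 zd12) (kd xd17 yd19 zd17) (kd xd18 yd12 zd26) (kd xd17 yd1 zd14) (kd xd18 yd12 zd28) (kd xd18 yd11 zd26) (kd xd17 yd7 zd1) (kd xd17 yd10 zd29) (kd xd18 yd6 zd11) (kd xd17 yd10 zd30) (kd xd17 yd7 zd6) (kd xd17 yd18 zd17) (kd xd18 yd12 zd12) (kd xd17 yd10 zd28) (kd xd17 yd5 zd14) (kd xd18 yd13 zd3))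 (@D3.rec (fun _ => Pt) (kd xd17 yd2 zd3) (kd xd17 yd20 zd4) (kd xd17 yd20 zd2) (kd xd18 yd13 zd8) (kd xd17 yd20 zd1) (kd xd18 yd13 zd11) (kd xd17 yd2 zd2) (kd xd18 yd13 zd13) (kd xd18 yd13 zd5) (kd xd17 yd20 zd9) (kd xd18 yd13 zd16) (kd xd17 yd2 zd5) (kd xd18 yd13 zd18) (kd xd18 yd11 zd15) (kd xd18 yd13 zd21) (kd xd17 yd2 zd8) (kd xd18 yd13 zd23) (kd xd17 yd2 zd10) (kd xd18 yd13 zd26) (kd xd17 yd11 zd4) (kd xd17 yd6 zd16) (kd xd18 yd11 zd12) (kd xd17 yd7 zd14) (kd xd17 yd7 zd30) (kd xd17 yd2 zd19) (kd xd18 yd13 zd29) (kd xd17 yd20 zd31) (kd xd17 yd4 zd10) (kd xd18 yd13 zd31) (kd xd17 yd2 zd25) (kd xd18 yd14 zd1) (kd xd17 yd20 zd26)) (@D3.rec (fun _ => Pt) (kd xd17 yd6 zd14) (kd xd17 yd8 zd27) (kd xd18 yd4 zd25) (kd xd18 yd5 zd2) (kd xd17 yd3 zd0)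 (kd xd18 yd14 zd6) (kd xd18 yd7 zd17) (kd xd18 yd2 zd4) (kd xd18 yd2 zd5) (kd xd18 yd2 zd6) (kd xd17 yd6 zd17) (kd xd17 yd11 zd23) (kd xd17 yd3 zd9) (kd xd18 yd14 zd11) (kd xd17 yd12 zd10) (kd xd17 yd21 zd28) (kd xd18 yd14 zd13) (kd xd17 yd8 zd19) (kd xd17 yd3 zd16) (kd xd18 yd14 zd16) (kd xd18 yd2 zd17) (kd xd17 yd11 zd24) (kd xd18 yd12 zd1) (kd xd18 yd14 zd18) (kd xd17 yd3 zd28) (kd xd18 yd14 zd21) (kd xd18 yd5 zd23) (kd xd18 yd14 zd24) (kd xd17 yd21 zd15) (kd xd17 yd3 zd27) (kd xd18 yd14 zd27) (kd xd18 yd14 zd20))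
def f_d_18 : D2 → D3 → Pt := @D2.rec (fun _ => D3 → Pt) (@D3.rec (fun _ => Pt) (kd xd18 yd14 zd30) (kd xd17 yd3 zd30) (kd xd18 yd15 zd0) (kd xd18 yd3 zd30) (kd xd17 yd4 zd0) (kd xd18 yd15 zd3) (kd xd17 yd4 zd2) (kd xd18 yd15 zd6) (kd xd17 yd13 zd27) (kd xd17 yd12 zd8) (kd xd17 yd4 zd7) (kd xd18 yd14 zd28) (kd xd18 yd15 zd8) (kd xd17 yd6 zd20) (kd xd17 yd4 zd18) (kd xd18 yd6 zd4) (kd xd18 yd2 zd25) (kd xd18 yd8 zd20) (kd xd18 yd6 zd3) (kd xd18 yd2 zd24) (kd xd18 yd8 zd22) (kd xd18 yd15 zd14) (kd xd17 yd4 zd20) (kd xd18 yd15 zd17) (kd xd17 yd4 zd22) (kd xd18 yd13 zd19) (kd xd18 yd15 zd20) (kd xd17 yd4 zd24) (kd xd18 yd15 zd23) (kd xd18 yd15 zd2) (kd xd17 yd4 zd26) (kd xd18 yd15 zd26)) (@D3.rec (fun _ => Pt) (kd xd17 yd4 zd28) (kd xd17 yd7 zd16)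 (kd xd17 yd16 zd20) (kd xd17 yd5 zd3) (kd xd18 yd1 zd4) (kd xd18 yd1 zd5) (kd xd18 yd1 zd6) (kd xd18 yd1 zd7) (kd xd17 yd14 zd18) (kd xd17 yd16 zd16) (kd xd18 yd3 zd20) (kd xd17 yd5 zd17) (kd xd18 yd15 zd29) (kd xd18 yd9 zd3) (kd xd17 yd5 zd20) (kd xd18 yd15 zd31) (kd xd17 yd5 zd24) (kd xd17 yd5 zd23) (kd xd18 yd16 zd2) (kd xd18 yd16 zd1) (kd xd18 yd16 zd4) (kd xd17 yd13 zd13) (kd xd18 yd1 zd22) (kd xd18 yd16 zd8) (kd xd17 yd5 zd28) (kd xd18 yd16 zd10) (kd xd17 yd6 zd0) (kd xd17 yd5 zd31) (kd xd18 yd16 zd13) (kd xd17 yd6 zd24) (kd xd17 yd6 zd25) (kd xd17 yd6 zd10)) (@D3.rec (fun _ => Pt) (kd xd18 yd16 zd16) (kd xd17 yd6 zd4) (kd xd18 yd16 zd18) (kd xd18 yd11 zd7) (kd xd17 yd21 zd7) (kd xd17 yd21 zd8) (kd xd17 yd21 zd9) (kd xd17 yd6 zd11) (kd xd18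 yd14 zd3) (kd xd18 yd13 zd27) (kd xd18 yd9 zd15) (kd xd17 yd6 zd23) (kd xd17 yd18 zd18) (kd xd18 yd16 zd22) (kd xd18 yd16 zd14) (kd xd17 yd6 zd27) (kd xd18 yd16 zd24) (kd xd17 yd21 zd20) (kd xd17 yd15 zd25) (kd xd17 yd6 zd31) (kd xd18 yd16 zd26) (kd xd18 yd3 zd0) (kd xd18 yd12 zd30) (kd xd17 yd7 zd5) (kd xd18 yd0 zd19) (kd xd18 yd0 zd16) (kd xd18 yd13 zd1) (kd xd18 yd6 zd16) (kd xd18 yd16 zd30) (kd xd17 yd19 zd5) (kd xd17 yd7 zd12) (kd xd18 yd17 zd1)) (@D3.rec (fun _ => Pt) (kd xd18 yd2 zd21) (kd xd18 yd13 zd28) (kd xd18 yd17 zd3) (kd xd17 yd7 zd22) (kd xd18 yd17 zd6) (kd xd17 yd17 zd25) (kd xd17 yd7 zd21) (kd xd18 yd17 zd9) (kd xd18 yd17 zd5) (kd xd17 yd7 zd23) (kd xd18 yd17 zd11) (kd xd18 yd8 zd5) (kd xd17 yd7 zd26) (kd xd18 yd17 zd15) (kd xd18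 yd11 zd17) (kd xd18 yd8 zd17) (kd xd18 yd8 zd18) (kd xd17 yd8 zd6) (kd xd18 yd3 zd19) (kd xd18 yd3 zd18) (kd xd18 yd1 zd10) (kd xd17 yd8 zd8) (kd xd18 yd17 zd17) (kd xd17 yd8 zd11) (kd xd17 yd10 zd8) (kd xd17 yd8 zd18) (kd xd18 yd17 zd18) (kd xd18 yd14 zd15) (kd xd17 yd8 zd20) (kd xd18 yd17 zd20) (kd xd18 yd0 zd3) (kd xd17 yd8 zd23)) (@D3.rec (fun _ => Pt) (kd xd18 yd17 zd23) (kd xd18 yd11 zd31) (kd xd17 yd8 zd30) (kd xd18 yd12 zd2) (kd xd17 yd18 zd23) (kd xd17 yd18 zd24) (kd xd17 yd18 zd25) (kd xd17 yd10 zd13) (kd xd17 yd9 zd6) (kd xd18 yd5 zd14) (kd xd18 yd4 zd10) (kd xd18 yd17 zd30) (kd xd17 yd10 zd23) (kd xd18 yd4 zd13) (kd xd18 yd18 zd2) (kd xd17 yd9 zd11) (kd xd18 yd18 zd4) (kd xd17 yd10 zd26) (kd xd17 yd12 zd16) (kd xd18 yd6 zd9) (kd xd18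 yd6 zd21) (kd xd18 yd12 zd7) (kd xd17 yd9 zd23) (kd xd17 yd12 zd19) (kd xd18 yd9 zd16) (kd xd17 yd21 zd2) (kd xd18 yd16 zd15) (kd xd17 yd9 zd22) (kd xd18 yd18 zd13) (kd xd18 yd18 zd8) (kd xd17 yd12 zd20) (kd xd18 yd6 zd14)) (@D3.rec (fun _ => Pt) (kd xd18 yd6 zd15) (kd xd17 yd11 zd3) (kd xd17 yd21 zd3) (kd xd18 yd6 zd17) (kd xd18 yd6 zd18) (kd xd18 yd5 zd7) (kd xd18 yd12 zd20) (kd xd18 yd5 zd5) (kd xd17 yd10 zd4) (kd xd18 yd18 zd22) (kd xd18 yd6 zd12) (kd xd18 yd6 zd25) (kd xd18 yd5 zd12) (kd xd18 yd18 zd25) (kd xd18 yd4 zd9) (kd xd18 yd18 zd28) (kd xd17 yd10 zd12) (kd xd18 yd18 zd30) (kd xd18 yd17 zd26) (kd xd17 yd10 zd27) (kd xd18 yd11 zd16) (kd xd18 yd19 zd1) (kd xd17 yd10 zd21) (kd xd17 yd21 zd26) (kd xd17 yd10 zd20) (kd xd18 yd19 zd5) (kd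 xd18 yd19 zd3) (kd xd17 yd10 zd22) (kd xd18 yd19 zd7) (kd xd18 yd18 zd0) (kd xd17 yd10 zd25) (kd xd18 yd19 zd10)) (@D3.rec (fun _ => Pt) (kd xd18 yd19 zd0) (kd xd18 yd13 zd0) (kd xd17 yd11 zd2) (kd xd18 yd0 zd18) (kd xd18 yd0 zd15) (kd xd18 yd10 zd5) (kd xd17 yd11 zd9) (kd xd17 yd16 zd1) (kd xd17 yd15 zd29) (kd xd18 yd4 zd19) (kd xd17 yd11 zd16) (kd xd17 yd19 zd24) (kd xd18 yd5 zd10) (kd xd18 yd19 zd14) (kd xd18 yd4 zd31) (kd xd18 yd5 zd0) (kd xd18 yd2 zd27) (kd xd18 yd5 zd3) (kd xd18 yd5 zd4) (kd xd18 yd14 zd10) (kd xd17 yd12 zd9) (kd xd18 yd4 zd20) (kd xd17 yd12 zd0) (kd xd18 yd6 zd24) (kd xd18 yd6 zd23) (kd xd18 yd5 zd11) (kd xd17 yd12 zd2) (kd xd18 yd19 zd21) (kd xd17 yd12 zd5) (kd xd18 yd19 zd22) (kd xd17 yd12 zd7) (kd xd17 yd18 zd31)) (@D3.rec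 (fun _ => Pt) (kd xd18 yd7 zd0) (kd xd18 yd19 zd24) (kd xd17 yd12 zd22) (kd xd18 yd19 zd26) (kd xd17 yd12 zd26) (kd xd17 yd12 zd25) (kd xd17 yd13 zd9) (kd xd18 yd19 zd30) (kd xd18 yd7 zd8) (kd xd18 yd20 zd2) (kd xd17 yd12 zd28) (kd xd18 yd20 zd4) (kd xd17 yd13 zd17) (kd xd17 yd13 zd5) (kd xd18 yd20 zd7) (kd xd17 yd12 zd31) (kd xd18 yd20 zd9) (kd xd17 yd21 zd6) (kd xd18 yd11 zd8) (kd xd18 yd11 zd9) (kd xd18 yd11 zd10) (kd xd17 yd13 zd6) (kd xd17 yd13 zd10) (kd xd18 yd19 zd31) (kd xd18 yd20 zd0) (kd xd18 yd20 zd15) (kd xd17 yd13 zd12) (kd xd18 yd20 zd17) (kd xd18 yd16 zd6) (kd xd17 yd13 zd14) (kd xd18 yd20 zd20) (kd xd17 yd13 zd16)) (@D3.rec (fun _ => Pt) (kd xd18 yd20 zd23) (kd xd18 yd12 zd0) (kd xd18 yd20 zd24) (kd xd17 yd13 zd21) (kd xd18 yd20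 zd26) (kd xd18 yd3 zd11) (kd xd17 yd13 zd23) (kd xd18 yd20 zd29) (kd xd17 yd13 zd25) (kd xd17 yd13 zd29) (kd xd18 yd21 zd0) (kd xd18 yd15 zd7) (kd xd17 yd13 zd30) (kd xd18 yd21 zd1) (kd xd18 yd21 zd2) (kd xd18 yd12 zd10) (kd xd18 yd21 zd6) (kd xd18 yd3 zd15) (kd xd18 yd3 zd16) (kd xd17 yd14 zd7) (kd xd18 yd0 zd17) (kd xd18 yd11 zd18) (kd xd18 yd0 zd20) (kd xd18 yd21 zd10) (kd xd17 yd14 zd9) (kd xd18 yd21 zd11) (kd xd17 yd14 zd11) (kd xd18 yd21 zd13) (kd xd17 yd14 zd13) (kd xd17 yd14 zd15) (kd xd18 yd21 zd14) (kd xd17 yd14 zd17)) (@D3.rec (fun _ => Pt) (kd xd17 yd14 zd20) (kd xd17 yd14 zd25) (kd xd18 yd21 zd15) (kd xd18 yd1 zd13) (kd xd18 yd9 zd4) (kd xd18 yd21 zd18) (kd xd17 yd14 zd28) (kd xd18 yd21 zd20) (kd xd17 yd15 zd22) (kd xd18 yd21 zd22)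 (kd xd17 yd14 zd31) (kd xd18 yd21 zd24) (kd xd17 yd15 zd1) (kd xd18 yd21 zd27) (kd xd18 yd9 zd17) (kd xd18 yd2 zd10) (kd xd18 yd4 zd24) (kd xd18 yd9 zd14) (kd xd17 yd15 zd8) (kd xd18 yd21 zd31) (kd xd18 yd12 zd24) (kd xd18 yd12 zd25) (kd xd17 yd15 zd13) (kd xd19 yd0 zd1) (kd xd17 yd15 zd19) (kd xd17 yd15 zd15) (kd xd19 yd0 zd3) (kd xd18 yd10 zd24) (kd xd17 yd15 zd18) (kd xd19 yd0 zd6) (kd xd17 yd15 zd21) (kd xd17 yd16 zd9)) (@D3.rec (fun _ => Pt) (kd xd19 yd0 zd8) (kd xd19 yd0 zd5) (kd xd17 yd15 zd24) (kd xd17 yd18 zd20) (kd xd18 yd10 zd8) (kd xd18 yd6 zd5) (kd xd17 yd16 zd0) (kd xd19 yd0 zd12) (kd xd18 yd10 zd4) (kd xd17 yd16 zd4) (kd xd17 yd16 zd5) (kd xd19 yd0 zd13) (kd xd17 yd16 zd7) (kd xd18 yd17 zd12) (kd xd19 yd0 zd16) (kd xd17 yd16 zd10)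 (kd xd19 yd0 zd9) (kd xd17 yd16 zd12) (kd xd19 yd0 zd19) (kd xd17 yd16 zd14) (kd xd17 yd18 zd27) (kd xd18 yd10 zd21) (kd xd17 yd16 zd23) (kd xd19 yd0 zd20) (kd xd18 yd9 zd27) (kd xd19 yd0 zd22) (kd xd17 yd16 zd26) (kd xd19 yd0 zd24) (kd xd17 yd16 zd30) (kd xd17 yd16 zd29) (kd xd17 yd17 zd22) (kd xd19 yd0 zd27)) (@D3.rec (fun _ => Pt) (kd xd19 yd0 zd29) (kd xd17 yd17 zd0) (kd xd19 yd0 zd31) (kd xd17 yd17 zd31) (kd xd18 yd18 zd15) (kd xd17 yd17 zd3) (kd xd19 yd1 zd2) (kd xd18 yd2 zd3) (kd xd18 yd7 zd18) (kd xd18 yd7 zd19) (kd xd18 yd7 zd20) (kd xd18 yd11 zd11) (kd xd17 yd20 zd21) (kd xd17 yd17 zd13) (kd xd19 yd1 zd7) (kd xd17 yd20 zd13) (kd xd18 yd5 zd20) (kd xd18 yd3 zd14) (kd xd18 yd8 zd21) (kd xd17 yd17 zd23) (kd xd19 yd0 zd28) (kd xd17 yd17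 zd24) (kd xd19 yd1 zd10) (kd xd18 yd17 zd8) (kd xd17 yd17 zd26) (kd xd19 yd1 zd12) (kd xd17 yd19 zd21) (kd xd17 yd17 zd28) (kd xd19 yd1 zd14) (kd xd17 yd17 zd30) (kd xd19 yd1 zd17) (kd xd18 yd4 zd1)) (@D3.rec (fun _ => Pt) (kd xd18 yd8 zd1) (kd xd17 yd21 zd22) (kd xd18 yd4 zd3) (kd xd18 yd12 zd6) (kd xd18 yd13 zd2) (kd xd18 yd16 zd23) (kd xd18 yd12 zd3) (kd xd18 yd4 zd21) (kd xd18 yd17 zd24) (kd xd18 yd17 zd25) (kd xd18 yd8 zd15) (kd xd17 yd19 zd1) (kd xd17 yd19 zd28) (kd xd17 yd19 zd4) (kd xd19 yd1 zd19) (kd xd18 yd17 zd0) (kd xd17 yd19 zd6) (kd xd19 yd1 zd22) (kd xd17 yd19 zd8) (kd xd19 yd1 zd25) (kd xd18 yd5 zd6) (kd xd17 yd19 zd12) (kd xd19 yd1 zd20) (kd xd19 yd1 zd26) (kd xd18 yd9 zd20) (kd xd18 yd9 zd21) (kd xd17 yd19 zd18) (kd xd19 yd1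 zd29) (kd xd17 yd19 zd20) (kd xd19 yd2 zd0) (kd xd18 yd2 zd22) (kd xd18 yd19 zd15)) (@D3.rec (fun _ => Pt) (kd xd18 yd6 zd1) (kd xd18 yd2 zd26) (kd xd18 yd12 zd4) (kd xd17 yd19 zd31) (kd xd19 yd2 zd2) (kd xd17 yd20 zd8) (kd xd18 yd13 zd10) (kd xd19 yd2 zd4) (kd xd17 yd20 zd3) (kd xd19 yd2 zd6) (kd xd18 yd13 zd6) (kd xd17 yd20 zd5) (kd xd19 yd2 zd9) (kd xd17 yd20 zd7) (kd xd19 yd2 zd12) (kd xd19 yd2 zd13) (kd xd17 yd20 zd10) (kd xd19 yd2 zd15) (kd xd17 yd20 zd12) (kd xd18 yd0 zd25) (kd xd19 yd2 zd19) (kd xd17 yd20 zd14) (kd xd19 yd2 zd21) (kd xd17 yd20 zd16) (kd xd19 yd2 zd24) (kd xd19 yd2 zd11) (kd xd17 yd20 zd18) (kd xd18 yd2 zd9) (kd xd18 yd3 zd1) (kd xd17 yd20 zd25) (kd xd19 yd2 zd27) (kd xd17 yd20 zd28)) (@D3.rec (fun _ => Pt) (kd xd19 yd2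 zd28) (kd xd17 yd20 zd30) (kd xd19 yd2 zd31) (kd xd18 yd2 zd8) (kd xd18 yd18 zd11) (kd xd18 yd18 zd18) (kd xd17 yd21 zd5) (kd xd19 yd3 zd1) (kd xd18 yd16 zd20) (kd xd18 yd16 zd21) (kd xd18 yd6 zd19) (kd xd17 yd21 zd13) (kd xd18 yd14 zd26) (kd xd17 yd21 zd16) (kd xd19 yd3 zd3) (kd xd18 yd3 zd27) (kd xd17 yd21 zd19) (kd xd19 yd3 zd6) (kd xd17 yd21 zd23) (kd xd19 yd3 zd7) (kd xd17 yd21 zd31) (kd xd17 yd21 zd25) (kd xd19 yd3 zd9) (kd xd18 yd19 zd4) (kd xd17 yd21 zd27) (kd xd19 yd3 zd11) (kd xd18 yd14 zd12) (kd xd17 yd21 zd30) (kd xd18 yd0 zd11) (kd xd19 yd3 zd14) (kd xd18 yd0 zd0) (kd xd19 yd3 zd18)) (@D3.rec (fun _ => Pt) (kd xd18 yd0 zd2) (kd xd19 yd3 zd21) (kd xd18 yd0 zd29) (kd xd18 yd0 zd5) (kd xd19 yd3 zd24) (kd xd19 yd3 zd13) (kd xd18 yd0 zd7)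 (kd xd18 yd8 zd11) (kd xd18 yd0 zd12) (kd xd19 yd3 zd15) (kd xd19 yd3 zd16) (kd xd18 yd16 zd29) (kd xd18 yd21 zd9) (kd xd18 yd16 zd28) (kd xd18 yd0 zd21) (kd xd19 yd3 zd30) (kd xd19 yd3 zd17) (kd xd18 yd0 zd23) (kd xd19 yd2 zd16) (kd xd19 yd4 zd2) (kd xd18 yd0 zd26) (kd xd19 yd2 zd20) (kd xd19 yd2 zd8) (kd xd18 yd0 zd28) (kd xd19 yd4 zd6) (kd xd19 yd3 zd22) (kd xd18 yd0 zd31) (kd xd18 yd15 zd27) (kd xd18 yd15 zd28) (kd xd18 yd1 zd12) (kd xd19 yd4 zd9) (kd xd18 yd1 zd15)) (@D3.rec (fun _ => Pt) (kd xd19 yd4 zd10) (kd xd18 yd1 zd19) (kd xd18 yd1 zd18) (kd xd19 yd4 zd13) (kd xd18 yd1 zd20) (kd xd19 yd4 zd14) (kd xd18 yd7 zd28) (kd xd18 yd19 zd27) (kd xd18 yd1 zd23) (kd xd19 yd4 zd17) (kd xd18 yd1 zd25) (kd xd19 yd4 zd20) (kd xd19 yd0 zd26) (kd xd18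 yd1 zd28) (kd xd18 yd2 zd14) (kd xd18 yd4 zd26) (kd xd18 yd2 zd0) (kd xd19 yd4 zd23) (kd xd18 yd2 zd2) (kd xd19 yd4 zd25) (kd xd18 yd14 zd8) (kd xd18 yd14 zd9) (kd xd18 yd2 zd13) (kd xd18 yd12 zd5) (kd xd18 yd2 zd16) (kd xd19 yd4 zd28) (kd xd18 yd2 zd20) (kd xd19 yd4 zd30) (kd xd18 yd15 zd13) (kd xd18 yd15 zd11) (kd xd18 yd2 zd28) (kd xd19 yd5 zd0)) (@D3.rec (fun _ => Pt) (kd xd18 yd12 zd15) (kd xd18 yd2 zd31) (kd xd19 yd5 zd4) (kd xd18 yd3 zd2) (kd xd19 yd5 zd5) (kd xd18 yd3 zd8) (kd xd18 yd3 zd4) (kd xd19 yd5 zd7) (kd xd18 yd11 zd23) (kd xd18 yd3 zd7) (kd xd19 yd5 zd10) (kd xd18 yd3 zd10) (kd xd18 yd10 zd13) (kd xd19 yd5 zd12) (kd xd19 yd5 zd9) (kd xd18 yd3 zd13) (kd xd18 yd21 zd8) (kd xd18 yd3 zd22) (kd xd18 yd3 zd26) (kd xd19 yd5 zd16) (kd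 xd18 yd3 zd29) (kd xd19 yd5 zd18) (kd xd19 yd5 zd15) (kd xd18 yd4 zd0) (kd xd18 yd12 zd8) (kd xd18 yd12 zd9) (kd xd18 yd5 zd18) (kd xd18 yd18 zd27) (kd xd18 yd17 zd28) (kd xd19 yd5 zd22) (kd xd18 yd4 zd11) (kd xd19 yd5 zd24)) (@D3.rec (fun _ => Pt) (kd xd18 yd5 zd29) (kd xd18 yd20 zd19) (kd xd18 yd4 zd14) (kd xd19 yd5 zd27) (kd xd18 yd4 zd16) (kd xd19 yd5 zd30) (kd xd18 yd19 zd13) (kd xd18 yd19 zd20) (kd xd18 yd4 zd29) (kd xd18 yd20 zd6) (kd xd18 yd21 zd29) (kd xd18 yd14 zd4) (kd xd19 yd4 zd22) (kd xd18 yd4 zd28) (kd xd19 yd6 zd3) (kd xd18 yd11 zd4) (kd xd18 yd19 zd17) (kd xd18 yd19 zd18) (kd xd18 yd14 zd5) (kd xd18 yd19 zd19) (kd xd18 yd18 zd21) (kd xd18 yd18 zd20) (kd xd18 yd5 zd9) (kd xd18 yd19 zd16) (kd xd19 yd6 zd7) (kd xd18 yd5 zd13) (kd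 xd19 yd6 zd9) (kd xd18 yd17 zd27) (kd xd18 yd5 zd15) (kd xd19 yd6 zd11) (kd xd18 yd5 zd17) (kd xd19 yd6 zd14)) (@D3.rec (fun _ => Pt) (kd xd18 yd6 zd0) (kd xd18 yd5 zd21) (kd xd19 yd6 zd15) (kd xd18 yd5 zd26) (kd xd18 yd14 zd23) (kd xd18 yd5 zd25) (kd xd19 yd6 zd18) (kd xd18 yd5 zd28) (kd xd19 yd6 zd20) (kd xd19 yd6 zd17) (kd xd18 yd5 zd31) (kd xd19 yd2 zd1) (kd xd19 yd0 zd11) (kd xd18 yd18 zd6) (kd xd18 yd6 zd13) (kd xd18 yd12 zd31) (kd xd18 yd18 zd23) (kd xd18 yd18 zd16) (kd xd18 yd18 zd17) (kd xd18 yd18 zd19) (kd xd18 yd18 zd7) (kd xd18 yd6 zd27) (kd xd18 yd6 zd29) (kd xd19 yd6 zd24) (kd xd18 yd7 zd1) (kd xd19 yd6 zd26) (kd xd18 yd7 zd3) (kd xd18 yd16 zd7) (kd xd19 yd6 zd30) (kd xd19 yd2 zd26) (kd xd18 yd7 zd7) (kd xd18 yd7 zd23)) (@D3.rec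 (fun _ => Pt) (kd xd18 yd7 zd24) (kd xd19 yd7 zd4) (kd xd18 yd7 zd9) (kd xd19 yd7 zd7) (kd xd18 yd7 zd11) (kd xd19 yd7 zd10) (kd xd18 yd18 zd9) (kd xd18 yd7 zd14) (kd xd19 yd7 zd12) (kd xd18 yd7 zd16) (kd xd19 yd7 zd14) (kd xd19 yd1 zd5) (kd xd19 yd1 zd6) (kd xd19 yd7 zd2) (kd xd19 yd7 zd3) (kd xd18 yd7 zd25) (kd xd19 yd7 zd18) (kd xd18 yd7 zd27) (kd xd19 yd7 zd21) (kd xd18 yd18 zd1) (kd xd18 yd7 zd30) (kd xd19 yd7 zd24) (kd xd19 yd2 zd30) (kd xd18 yd8 zd0) (kd xd18 yd8 zd2) (kd xd19 yd7 zd26) (kd xd18 yd8 zd4) (kd xd19 yd1 zd3) (kd xd19 yd7 zd30) (kd xd18 yd8 zd7) (kd xd19 yd8 zd1) (kd xd19 yd1 zd31)) (@D3.rec (fun _ => Pt) (kd xd18 yd8 zd10) (kd xd18 yd8 zd13) (kd xd18 yd8 zd14) (kd xd19 yd8 zd4) (kd xd19 yd8 zd5) (kd xd19 yd8 zd7) (kd xd18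 yd8 zd16) (kd xd19 yd8 zd9) (kd xd18 yd17 zd16) (kd xd18 yd15 zd12) (kd xd18 yd8 zd23) (kd xd18 yd8 zd25) (kd xd19 yd8 zd10) (kd xd18 yd8 zd27) (kd xd18 yd8 zd30) (kd xd18 yd9 zd2) (kd xd19 yd8 zd12) (kd xd19 yd7 zd27) (kd xd18 yd9 zd5) (kd xd19 yd8 zd14) (kd xd18 yd9 zd7) (kd xd19 yd8 zd17) (kd xd18 yd9 zd9) (kd xd19 yd8 zd18) (kd xd18 yd9 zd11) (kd xd19 yd8 zd21) (kd xd19 yd8 zd11) (kd xd18 yd9 zd13) (kd xd18 yd21 zd30) (kd xd18 yd18 zd10) (kd xd18 yd21 zd28) (kd xd18 yd9 zd19))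
def f_d_19 : D2 → D3 → Pt := @D2.rec (fun _ => D3 → Pt) (@D3.rec (fun _ => Pt) (kd xd19 yd1 zd28) (kd xd18 yd9 zd23) (kd xd19 yd8 zd25) (kd xd18 yd9 zd26) (kd xd19 yd8 zd27) (kd xd18 yd10 zd1) (kd xd18 yd9 zd29) (kd xd19 yd8 zd26) (kd xd18 yd10 zd0) (kd xd18 yd10 zd16) (kd xd19 yd8 zd28) (kd xd18 yd19 zd12) (kd xd18 yd10 zd7) (kd xd18 yd10 zd11) (kd xd19 yd5 zd1) (kd xd19 yd9 zd1) (kd xd18 yd10 zd14) (kd xd19 yd5 zd13) (kd xd19 yd8 zd31) (kd xd18 yd10 zd18) (kd xd18 yd10 zd23) (kd xd19 yd9 zd5) (kd xd18 yd10 zd25) (kd xd19 yd9 zd6) (kd xd18 yd10 zd27) (kd xd19 yd9 zd9) (kd xd18 yd16 zd12) (kd xd18 yd10 zd31) (kd xd18 yd11 zd20) (kd xd18 yd11 zd0) (kd xd19 yd9 zd13) (kd xd18 yd11 zd2)) (@D3.rec (fun _ => Pt) (kd xd19 yd9 zd16) (kd xd19 yd6 zd4)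 (kd xd18 yd11 zd6) (kd xd18 yd20 zd27) (kd xd19 yd9 zd18) (kd xd18 yd20 zd11) (kd xd18 yd20 zd12) (kd xd18 yd11 zd14) (kd xd19 yd9 zd22) (kd xd19 yd9 zd12) (kd xd18 yd11 zd22) (kd xd19 yd9 zd24) (kd xd18 yd11 zd25) (kd xd19 yd9 zd26) (kd xd18 yd11 zd28) (kd xd19 yd9 zd28) (kd xd19 yd9 zd23) (kd xd18 yd11 zd30) (kd xd19 yd5 zd20) (kd xd18 yd12 zd14) (kd xd18 yd12 zd22) (kd xd19 yd9 zd31) (kd xd18 yd12 zd17) (kd xd19 yd10 zd2) (kd xd19 yd9 zd30) (kd xd18 yd12 zd19) (kd xd18 yd12 zd23) (kd xd19 yd10 zd0) (kd xd19 yd0 zd0) (kd xd18 yd12 zd27) (kd xd19 yd10 zd6) (kd xd18 yd20 zd31)) (@D3.rec (fun _ => Pt) (kd xd18 yd12 zd29) (kd xd18 yd19 zd11) (kd xd18 yd13 zd4) (kd xd19 yd10 zd9) (kd xd18 yd13 zd7) (kd xd19 yd10 zd10) (kd xd18 yd13 zd9) (kd xd19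 yd10 zd13) (kd xd18 yd15 zd22) (kd xd18 yd13 zd12) (kd xd19 yd10 zd16) (kd xd18 yd13 zd25) (kd xd18 yd13 zd14) (kd xd18 yd13 zd15) (kd xd19 yd10 zd18) (kd xd18 yd13 zd17) (kd xd18 yd15 zd18) (kd xd19 yd10 zd21) (kd xd19 yd10 zd12) (kd xd18 yd13 zd20) (kd xd18 yd15 zd21) (kd xd18 yd13 zd22) (kd xd19 yd10 zd27) (kd xd19 yd10 zd15) (kd xd18 yd13 zd24) (kd xd19 yd10 zd17) (kd xd18 yd19 zd29) (kd xd18 yd13 zd30) (kd xd18 yd14 zd0) (kd xd19 yd11 zd0) (kd xd18 yd20 zd22) (kd xd18 yd14 zd2)) (@D3.rec (fun _ => Pt) (kd xd19 yd6 zd6) (kd xd18 yd14 zd7) (kd xd19 yd4 zd26) (kd xd18 yd14 zd14) (kd xd19 yd11 zd3) (kd xd19 yd9 zd27) (kd xd18 yd14 zd17) (kd xd18 yd14 zd19) (kd xd19 yd11 zd6) (kd xd18 yd14 zd22) (kd xd19 yd11 zd8) (kd xd18 yd14 zd25) (kd xd19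 yd11 zd10) (kd xd18 yd15 zd5) (kd xd18 yd14 zd29) (kd xd18 yd15 zd9) (kd xd18 yd15 zd10) (kd xd18 yd15 zd16) (kd xd18 yd14 zd31) (kd xd19 yd11 zd17) (kd xd19 yd11 zd9) (kd xd18 yd15 zd1) (kd xd18 yd15 zd25) (kd xd19 yd10 zd26) (kd xd18 yd15 zd4) (kd xd19 yd11 zd11) (kd xd19 yd11 zd13) (kd xd19 yd11 zd14) (kd xd19 yd4 zd31) (kd xd19 yd6 zd27) (kd xd18 yd15 zd15) (kd xd19 yd7 zd6)) (@D3.rec (fun _ => Pt) (kd xd19 yd11 zd25) (kd xd19 yd11 zd15) (kd xd18 yd15 zd19) (kd xd19 yd10 zd22) (kd xd19 yd10 zd25) (kd xd19 yd10 zd14) (kd xd18 yd15 zd24) (kd xd19 yd11 zd20) (kd xd19 yd8 zd24) (kd xd18 yd15 zd30) (kd xd18 yd16 zd0) (kd xd19 yd12 zd0) (kd xd19 yd9 zd4) (kd xd18 yd16 zd3) (kd xd18 yd16 zd5) (kd xd19 yd12 zd3) (kd xd19 yd6 zd31) (kd xd18 yd16 zd9)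 (kd xd19 yd12 zd6) (kd xd19 yd12 zd2) (kd xd18 yd16 zd11) (kd xd19 yd9 zd10) (kd xd18 yd18 zd12) (kd xd18 yd16 zd17) (kd xd19 yd12 zd10) (kd xd18 yd16 zd19) (kd xd19 yd3 zd2) (kd xd19 yd5 zd17) (kd xd18 yd16 zd25) (kd xd19 yd9 zd21) (kd xd18 yd16 zd27) (kd xd19 yd3 zd28)) (@D3.rec (fun _ => Pt) (kd xd18 yd16 zd31) (kd xd19 yd0 zd14) (kd xd19 yd12 zd14) (kd xd19 yd9 zd11) (kd xd18 yd17 zd2) (kd xd18 yd17 zd4) (kd xd19 yd12 zd18) (kd xd18 yd17 zd7) (kd xd19 yd12 zd20) (kd xd18 yd17 zd14) (kd xd18 yd17 zd10) (kd xd19 yd12 zd19) (kd xd18 yd17 zd13) (kd xd19 yd0 zd17) (kd xd19 yd12 zd21) (kd xd18 yd17 zd22) (kd xd18 yd17 zd19) (kd xd19 yd4 zd27) (kd xd18 yd17 zd21) (kd xd19 yd12 zd26) (kd xd19 yd1 zd18) (kd xd19 yd7 zd17) (kd xd18 yd17 zd29) (kd xd19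 yd12 zd30) (kd xd18 yd17 zd31) (kd xd19 yd13 zd1) (kd xd19 yd7 zd22) (kd xd18 yd18 zd3) (kd xd19 yd13 zd4) (kd xd19 yd8 zd30) (kd xd18 yd18 zd5) (kd xd19 yd6 zd22)) (@D3.rec (fun _ => Pt) (kd xd19 yd7 zd11) (kd xd19 yd8 zd23) (kd xd19 yd12 zd9) (kd xd18 yd18 zd14) (kd xd19 yd1 zd1) (kd xd19 yd6 zd23) (kd xd19 yd3 zd0) (kd xd18 yd18 zd24) (kd xd19 yd13 zd8) (kd xd18 yd18 zd26) (kd xd19 yd13 zd11) (kd xd18 yd18 zd29) (kd xd19 yd13 zd13) (kd xd19 yd11 zd7) (kd xd18 yd18 zd31) (kd xd18 yd19 zd2) (kd xd19 yd13 zd16) (kd xd18 yd19 zd9) (kd xd18 yd19 zd6) (kd xd19 yd10 zd1) (kd xd18 yd19 zd8) (kd xd19 yd13 zd17) (kd xd19 yd5 zd31) (kd xd19 yd6 zd5) (kd xd18 yd19 zd23) (kd xd19 yd13 zd20) (kd xd18 yd19 zd25) (kd xd19 yd3 zd29) (kd xd19 yd13 zd23) (kd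 xd19 yd7 zd9) (kd xd18 yd19 zd28) (kd xd19 yd4 zd16)) (@D3.rec (fun _ => Pt) (kd xd19 yd10 zd30) (kd xd19 yd11 zd12) (kd xd18 yd20 zd13) (kd xd18 yd20 zd14) (kd xd18 yd20 zd1) (kd xd19 yd14 zd0) (kd xd19 yd3 zd31) (kd xd18 yd20 zd3) (kd xd19 yd14 zd4) (kd xd19 yd6 zd29) (kd xd18 yd20 zd5) (kd xd19 yd6 zd0) (kd xd18 yd20 zd8) (kd xd19 yd14 zd7) (kd xd18 yd20 zd10) (kd xd19 yd9 zd20) (kd xd19 yd13 zd31) (kd xd19 yd5 zd21) (kd xd18 yd20 zd16) (kd xd19 yd14 zd10) (kd xd19 yd9 zd8) (kd xd18 yd20 zd18) (kd xd19 yd5 zd26) (kd xd19 yd10 zd31) (kd xd18 yd20 zd21) (kd xd19 yd11 zd1) (kd xd18 yd20 zd25) (kd xd18 yd21 zd17) (kd xd19 yd14 zd17) (kd xd19 yd9 zd15) (kd xd18 yd20 zd28) (kd xd19 yd9 zd19)) (@D3.rec (fun _ => Pt) (kd xd19 yd10 zd5) (kd xd18 yd20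 zd30) (kd xd19 yd10 zd7) (kd xd19 yd13 zd12) (kd xd18 yd21 zd3) (kd xd18 yd21 zd4) (kd xd19 yd14 zd26) (kd xd18 yd21 zd5) (kd xd19 yd14 zd27) (kd xd18 yd21 zd7) (kd xd18 yd21 zd12) (kd xd18 yd21 zd26) (kd xd18 yd21 zd16) (kd xd19 yd14 zd18) (kd xd18 yd21 zd19) (kd xd19 yd14 zd31) (kd xd19 yd11 zd31) (kd xd18 yd21 zd21) (kd xd18 yd21 zd23) (kd xd19 yd15 zd2) (kd xd19 yd11 zd19) (kd xd18 yd21 zd25) (kd xd19 yd14 zd28) (kd xd19 yd6 zd1) (kd xd19 yd4 zd8) (kd xd19 yd0 zd2) (kd xd19 yd0 zd7) (kd xd19 yd0 zd4) (kd xd19 yd0 zd10) (kd xd19 yd15 zd6) (kd xd19 yd5 zd29) (kd xd19 yd0 zd18)) (@D3.rec (fun _ => Pt) (kd xd19 yd15 zd7) (kd xd19 yd0 zd15) (kd xd19 yd12 zd15) (kd xd19 yd12 zd24) (kd xd19 yd4 zd12) (kd xd19 yd0 zd21) (kd xd19 yd0 zd23) (kd xd19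 yd15 zd13) (kd xd19 yd7 zd20) (kd xd19 yd0 zd25) (kd xd19 yd4 zd21) (kd xd19 yd5 zd3) (kd xd19 yd1 zd9) (kd xd19 yd0 zd30) (kd xd19 yd15 zd18) (kd xd19 yd7 zd29) (kd xd19 yd1 zd0) (kd xd19 yd13 zd7) (kd xd19 yd1 zd4) (kd xd19 yd7 zd31) (kd xd19 yd7 zd15) (kd xd19 yd4 zd29) (kd xd19 yd1 zd8) (kd xd19 yd1 zd16) (kd xd19 yd1 zd11) (kd xd19 yd12 zd17) (kd xd19 yd1 zd13) (kd xd19 yd3 zd5) (kd xd19 yd1 zd15) (kd xd19 yd15 zd22) (kd xd19 yd1 zd24) (kd xd19 yd1 zd21)) (@D3.rec (fun _ => Pt) (kd xd19 yd1 zd27) (kd xd19 yd6 zd19) (kd xd19 yd1 zd23) (kd xd19 yd15 zd26) (kd xd19 yd15 zd28) (kd xd19 yd8 zd0) (kd xd19 yd1 zd30) (kd xd19 yd8 zd2) (kd xd19 yd12 zd13) (kd xd19 yd2 zd3) (kd xd19 yd2 zd5) (kd xd19 yd16 zd3) (kd xd19 yd2 zd18) (kd xd19 yd2 zd7) (kd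 xd19 yd4 zd5) (kd xd19 yd2 zd23) (kd xd19 yd2 zd10) (kd xd19 yd2 zd25) (kd xd19 yd2 zd14) (kd xd19 yd16 zd10) (kd xd19 yd16 zd2) (kd xd19 yd2 zd17) (kd xd19 yd4 zd3) (kd xd19 yd16 zd4) (kd xd19 yd13 zd0) (kd xd19 yd4 zd4) (kd xd19 yd3 zd23) (kd xd19 yd2 zd22) (kd xd19 yd16 zd7) (kd xd19 yd16 zd8) (kd xd19 yd7 zd0) (kd xd19 yd7 zd23)) (@D3.rec (fun _ => Pt) (kd xd19 yd2 zd29) (kd xd19 yd7 zd25) (kd xd19 yd11 zd5) (kd xd19 yd3 zd4) (kd xd19 yd15 zd24) (kd xd19 yd11 zd2) (kd xd19 yd3 zd8) (kd xd19 yd6 zd13) (kd xd19 yd3 zd10) (kd xd19 yd3 zd20) (kd xd19 yd3 zd12) (kd xd19 yd3 zd25) (kd xd19 yd7 zd1) (kd xd19 yd3 zd26) (kd xd19 yd3 zd27) (kd xd19 yd4 zd1) (kd xd19 yd16 zd9) (kd xd19 yd3 zd19) (kd xd19 yd16 zd25) (kd xd19 yd8 zd20) (kd xd19 yd4 zd7)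 (kd xd19 yd16 zd16) (kd xd19 yd16 zd26) (kd xd19 yd16 zd29) (kd xd19 yd13 zd24) (kd xd19 yd4 zd0) (kd xd19 yd14 zd2) (kd xd19 yd16 zd31) (kd xd19 yd16 zd13) (kd xd19 yd16 zd6) (kd xd19 yd15 zd5) (kd xd19 yd8 zd16)) (@D3.rec (fun _ => Pt) (kd xd19 yd4 zd11) (kd xd19 yd15 zd11) (kd xd19 yd4 zd19) (kd xd19 yd4 zd15) (kd xd19 yd13 zd27) (kd xd19 yd15 zd27) (kd xd19 yd4 zd18) (kd xd19 yd17 zd9) (kd xd19 yd15 zd15) (kd xd19 yd6 zd2) (kd xd19 yd4 zd24) (kd xd19 yd12 zd27) (kd xd19 yd15 zd21) (kd xd19 yd10 zd8) (kd xd19 yd5 zd2) (kd xd19 yd9 zd2) (kd xd19 yd15 zd16) (kd xd19 yd9 zd25) (kd xd19 yd5 zd6) (kd xd19 yd5 zd11) (kd xd19 yd5 zd8) (kd xd19 yd5 zd14) (kd xd19 yd17 zd19) (kd xd19 yd13 zd3) (kd xd19 yd9 zd3) (kd xd19 yd17 zd20) (kd xd19 yd5 zd19)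 (kd xd19 yd12 zd11) (kd xd19 yd17 zd23) (kd xd19 yd14 zd8) (kd xd19 yd5 zd23) (kd xd19 yd17 zd27)) (@D3.rec (fun _ => Pt) (kd xd19 yd10 zd24) (kd xd19 yd5 zd25) (kd xd19 yd14 zd13) (kd xd19 yd12 zd23) (kd xd19 yd5 zd28) (kd xd19 yd15 zd9) (kd xd19 yd14 zd6) (kd xd19 yd9 zd17) (kd xd19 yd6 zd8) (kd xd19 yd18 zd0) (kd xd19 yd13 zd15) (kd xd19 yd6 zd10) (kd xd19 yd8 zd3) (kd xd19 yd6 zd12) (kd xd19 yd16 zd24) (kd xd19 yd13 zd10) (kd xd19 yd6 zd16) (kd xd19 yd6 zd21) (kd xd19 yd15 zd29) (kd xd19 yd18 zd5) (kd xd19 yd6 zd25) (kd xd19 yd18 zd8) (kd xd19 yd14 zd3) (kd xd19 yd6 zd28) (kd xd19 yd11 zd24) (kd xd19 yd14 zd5) (kd xd19 yd14 zd20) (kd xd19 yd12 zd4) (kd xd19 yd16 zd18) (kd xd19 yd16 zd27) (kd xd19 yd16 zd28) (kd xd19 yd7 zd16)) (@D3.rec (fun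 _ => Pt) (kd xd19 yd7 zd5) (kd xd19 yd18 zd17) (kd xd19 yd11 zd26) (kd xd19 yd13 zd22) (kd xd19 yd7 zd8) (kd xd19 yd13 zd25) (kd xd19 yd13 zd6) (kd xd19 yd7 zd13) (kd xd19 yd12 zd29) (kd xd19 yd15 zd12) (kd xd19 yd7 zd19) (kd xd19 yd15 zd14) (kd xd19 yd17 zd15) (kd xd19 yd13 zd2) (kd xd19 yd16 zd19) (kd xd19 yd16 zd20) (kd xd19 yd15 zd17) (kd xd19 yd7 zd28) (kd xd19 yd8 zd13) (kd xd19 yd15 zd19) (kd xd19 yd13 zd26) (kd xd19 yd15 zd20) (kd xd19 yd15 zd31) (kd xd19 yd16 zd0) (kd xd19 yd18 zd2) (kd xd19 yd17 zd31) (kd xd19 yd8 zd6) (kd xd19 yd8 zd8) (kd xd19 yd8 zd22) (kd xd19 yd18 zd30) (kd xd19 yd16 zd30) (kd xd19 yd8 zd15)) (@D3.rec (fun _ => Pt) (kd xd19 yd17 zd7) (kd xd19 yd16 zd5) (kd xd19 yd8 zd19) (kd xd19 yd17 zd2) (kd xd19 yd19 zd4) (kd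 xd19 yd11 zd30) (kd xd19 yd8 zd29) (kd xd19 yd9 zd0) (kd xd19 yd19 zd10) (kd xd19 yd13 zd5) (kd xd19 yd17 zd16) (kd xd19 yd12 zd1) (kd xd19 yd14 zd9) (kd xd19 yd9 zd7) (kd xd19 yd14 zd11) (kd xd19 yd12 zd8) (kd xd19 yd12 zd16) (kd xd19 yd14 zd16) (kd xd19 yd9 zd14) (kd xd19 yd14 zd19) (kd xd19 yd14 zd21) (kd xd19 yd12 zd12) (kd xd19 yd9 zd29) (kd xd19 yd17 zd18) (kd xd19 yd11 zd4) (kd xd19 yd19 zd19) (kd xd19 yd10 zd3) (kd xd19 yd12 zd5) (kd xd19 yd10 zd4) (kd xd19 yd13 zd18) (kd xd19 yd19 zd22) (kd xd19 yd14 zd22)) (@D3.rec (fun _ => Pt) (kd xd19 yd14 zd23) (kd xd19 yd17 zd14) (kd xd19 yd10 zd20) (kd xd19 yd10 zd11) (kd xd19 yd10 zd23) (kd xd19 yd15 zd1) (kd xd19 yd11 zd29) (kd xd19 yd10 zd28) (kd xd19 yd10 zd29) (kd xd19 yd11 zd16) (kd xd19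 yd10 zd19) (kd xd19 yd19 zd27) (kd xd19 yd17 zd26) (kd xd19 yd11 zd28) (kd xd19 yd19 zd28) (kd xd19 yd17 zd28) (kd xd19 yd11 zd21) (kd xd19 yd19 zd30) (kd xd19 yd13 zd28) (kd xd19 yd14 zd14) (kd xd19 yd14 zd15) (kd xd19 yd16 zd23) (kd xd19 yd19 zd21) (kd xd19 yd16 zd21) (kd xd19 yd13 zd14) (kd xd19 yd11 zd18) (kd xd19 yd11 zd22) (kd xd19 yd13 zd29) (kd xd19 yd13 zd30) (kd xd19 yd11 zd23) (kd xd19 yd14 zd30) (kd xd19 yd11 zd27)) (@D3.rec (fun _ => Pt) (kd xd19 yd19 zd31) (kd xd19 yd20 zd8) (kd xd19 yd15 zd3) (kd xd19 yd20 zd3) (kd xd19 yd18 zd11) (kd xd19 yd18 zd19) (kd xd19 yd19 zd9) (kd xd19 yd15 zd0) (kd xd19 yd19 zd12) (kd xd19 yd12 zd7) (kd xd19 yd19 zd23) (kd xd19 yd20 zd15) (kd xd19 yd17 zd24) (kd xd19 yd19 zd18) (kd xd19 yd16 zd1) (kd xd19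 yd14 zd12) (kd xd19 yd15 zd10) (kd xd19 yd19 zd15) (kd xd19 yd15 zd23) (kd xd19 yd12 zd22) (kd xd19 yd12 zd25) (kd xd19 yd20 zd20) (kd xd19 yd17 zd29) (kd xd19 yd12 zd28) (kd xd19 yd17 zd12) (kd xd19 yd18 zd23) (kd xd19 yd16 zd12) (kd xd19 yd12 zd31) (kd xd19 yd16 zd15) (kd xd19 yd17 zd22) (kd xd19 yd19 zd11) (kd xd19 yd14 zd25)) (@D3.rec (fun _ => Pt) (kd xd19 yd13 zd9) (kd xd19 yd18 zd4) (kd xd19 yd14 zd24) (kd xd19 yd20 zd7) (kd xd19 yd18 zd1) (kd xd19 yd13 zd19) (kd xd19 yd19 zd24) (kd xd19 yd18 zd16) (kd xd19 yd13 zd21) (kd xd19 yd18 zd20) (kd xd19 yd18 zd29) (kd xd19 yd17 zd4) (kd xd19 yd18 zd21) (kd xd19 yd19 zd0) (kd xd19 yd20 zd9) (kd xd19 yd20 zd10) (kd xd19 yd18 zd7) (kd xd19 yd14 zd1) (kd xd19 yd18 zd22) (kd xd19 yd17 zd5) (kd xd19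 yd18 zd9) (kd xd19 yd18 zd12) (kd xd19 yd18 zd18) (kd xd19 yd17 zd25) (kd xd19 yd19 zd13) (kd xd19 yd19 zd14) (kd xd19 yd20 zd18) (kd xd19 yd20 zd4) (kd xd19 yd19 zd16) (kd xd19 yd18 zd10) (kd xd19 yd14 zd29) (kd xd19 yd19 zd17)) (@D3.rec (fun _ => Pt) (kd xd19 yd18 zd13) (kd xd19 yd19 zd25) (kd xd19 yd20 zd27) (kd xd19 yd20 zd25) (kd xd19 yd15 zd4) (kd xd19 yd20 zd11) (kd xd19 yd20 zd14) (kd xd19 yd19 zd29) (kd xd19 yd20 zd13) (kd xd19 yd17 zd6) (kd xd19 yd15 zd8) (kd xd19 yd17 zd30) (kd xd19 yd17 zd8) (kd xd19 yd18 zd24) (kd xd19 yd18 zd25) (kd xd19 yd17 zd17) (kd xd19 yd18 zd28) (kd xd19 yd18 zd31) (kd xd19 yd17 zd13) (kd xd19 yd15 zd25) (kd xd19 yd20 zd19) (kd xd19 yd16 zd22) (kd xd19 yd15 zd30) (kd xd19 yd17 zd10) (kd xd19 yd18 zd6) (kd xd19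 yd19 zd1) (kd xd19 yd20 zd17) (kd xd19 yd16 zd11) (kd xd19 yd16 zd14) (kd xd19 yd19 zd7) (kd xd19 yd16 zd17) (kd xd19 yd17 zd0)) (@D3.rec (fun _ => Pt) (kd xd19 yd21 zd17) (kd xd19 yd20 zd22) (kd xd19 yd20 zd23) (kd xd19 yd17 zd3) (kd xd19 yd18 zd27) (kd xd19 yd20 zd6) (kd xd19 yd20 zd5) (kd xd19 yd18 zd3) (kd xd19 yd17 zd1) (kd xd19 yd18 zd14) (kd xd19 yd18 zd15) (kd xd19 yd19 zd5) (kd xd19 yd21 zd19) (kd xd19 yd19 zd8) (kd xd19 yd19 zd6) (kd xd19 yd17 zd11) (kd xd19 yd21 zd16) (kd xd19 yd19 zd26) (kd xd19 yd18 zd26) (kd xd19 yd19 zd20) (kd xd19 yd17 zd21) (kd xd19 yd20 zd24) (kd xd19 yd20 zd1) (kd xd19 yd20 zd2) (kd xd19 yd20 zd21) (kd xd19 yd19 zd3) (kd xd19 yd20 zd28) (kd xd19 yd19 zd2) (kd xd19 yd20 zd26) (kd xd19 yd21 zd2) (kd xd19 yd21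 zd4) (kd xd19 yd21 zd9)) (@D3.rec (fun _ => Pt) (kd xd19 yd21 zd10) (kd xd19 yd21 zd21) (kd xd19 yd20 zd29) (kd xd19 yd21 zd5) (kd xd19 yd20 zd30) (kd xd19 yd21 zd3) (kd xd19 yd21 zd14) (kd xd19 yd21 zd23) (kd xd19 yd21 zd15) (kd xd19 yd20 zd31) (kd xd19 yd21 zd0) (kd xd19 yd21 zd25) (kd xd19 yd21 zd22) (kd xd19 yd21 zd18) (kd xd19 yd21 zd6) (kd xd19 yd21 zd8) (kd xd19 yd20 zd16) (kd xd19 yd20 zd0) (kd xd19 yd21 zd13) (kd xd19 yd20 zd12) (kd xd19 yd21 zd24) (kd xd19 yd21 zd1) (kd xd19 yd21 zd12) (kd xd19 yd21 zd7) (kd xd19 yd21 zd20) (kd xd19 yd21 zd11) (kd xd19 yd21 zd28) (kd xd19 yd21 zd31) (kd xd19 yd21 zd26) (kd xd19 yd21 zd30) (kd xd19 yd21 zd29) (kd xd19 yd21 zd27))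
def f_d : Pt → Pt := @Pt.rec (fun _ => Pt) (@D1.rec (fun _ => D2 → D3 → Pt) f_d_0 f_d_1 f_d_2 f_d_3 f_d_4 f_d_5 f_d_6 f_d_7 f_d_8 f_d_9 f_d_10 f_d_11 f_d_12 f_d_13 f_d_14 f_d_15 f_d_16 f_d_17 f_d_18 f_d_19)
def fi_d : Pt → Pt := f_d

theorem inv_chk_d : chkInv allPts beqPt f_d fi_d = true := by decide +kernel

end

end Cfsg.Agent.Helper28.S1685
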