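import Cfsg.Agent.Lib.Helper28.S1685.Defs

set_option autoImplicit false
set_option maxRecDepth 100000
set_option linter.all false

namespace Cfsg.Agent.Helper28.S1685

open Cfsg.Agent.Helper28
open Cfsg.Spor.Fi22 (Gen)

noncomputable section

abbrev kh := Pt.mk
abbrev xh0 := D1.c0
abbrev xh1 := D1.c1
abbrev xh2 := D1.c2
abbrev xh3 := D1.c3
abbrev xh4 := D1.c4
abbrev xh5 := D1.c5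
abbrev xh6 := D1.c6
abbrev xh7 := D1.c7
abbrev xh8 := D1.c8
abbrev xh9 := D1.c9
abbrev xh10 := D1.c10
abbrev xh11 := D1.c11
abbrev xh12 := D1.c12
abbrev xh13 := D1.c13
abbrev xh14 := D1.c14
abbrev xh15 := D1.c15
abbrev xh16 := D1.c16
abbrev xh17 := D1.c17
abbrev xh18 := D1.c18
abbrev xh19 := D1.c19
abbrev yh0 := D2.c0
abbrev yh1 := D2.c1
abbrev yh2 := D2.c2
abbrev yh3 := D2.c3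
abbrev yh4 := D2.c4
abbrev yh5 := D2.c5
abbrev yh6 := D2.c6
abbrev yh7 := D2.c7
abbrev yh8 := D2.c8
abbrev yh9 := D2.c9
abbrev yh10 := D2.c10
abbrev yh11 := D2.c11
abbrev yh12 := D2.c12
abbrev yh13 := D2.c13
abbrev yh14 := D2.c14
abbrev yh15 := D2.c15
abbrev yh16 := D2.c16
abbrev yh17 := D2.c17
abbrev yh18 := D2.c18
abbrev yh19 := D2.c19
abbrev yh20 := D2.c20
abbrev yh21 := D2.c21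
abbrev zh0 := D3.c0
abbrev zh1 := D3.c1
abbrev zh2 := D3.c2
abbrev zh3 := D3.c3
abbrev zh4 := D3.c4
abbrev zh5 := D3.c5
abbrev zh6 := D3.c6
abbrev zh7 := D3.c7
abbrev zh8 := D3.c8
abbrev zh9 := D3.c9
abbrev zh10 := D3.c10
abbrev zh11 := D3.c11
abbrev zh12 := D3.c12
abbrev zh13 := D3.c13
abbrev zh14 := D3.c14
abbrev zh15 := D3.c15
abbrev zh16 := D3.c16
abbrev zh17 := D3.c17
abbrev zh18 := D3.c18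
abbrev zh19 := D3.c19
abbrev zh20 := D3.c20
abbrev zh21 := D3.c21
abbrev zh22 := D3.c22
abbrev zh23 := D3.c23
abbrev zh24 := D3.c24
abbrev zh25 := D3.c25
abbrev zh26 := D3.c26
abbrev zh27 := D3.c27
abbrev zh28 := D3.c28
abbrev zh29 := D3.c29
abbrev zh30 := D3.c30
abbrev zh31 := D3.c31
def f_h_0 : D2 → D3 → Pt := @D2.rec (fun _ => D3 → Pt) (@D3.rec (fun _ => Pt) (kh xh0 yh0 zh0) (kh xh0 yh0 zh1) (kh xh0 yh0 zh2) (kh xh0 yh0 zh3) (kh xh0 yh0 zh6) (kh xh0 yh0 zh8) (kh xh0 yh0 zh4) (kh xh0 yh0 zh11) (kh xh0 yh0 zh5) (kh xh0 yh0 zh9) (kh xh0 yh0 zh14) (kh xh0 yh0 zh7) (kh xh0 yh0 zh12) (kh xh0 yh0 zh13) (kh xh0 yh0 zh10) (kh xh0 yh0 zh15) (kh xh0 yh0 zh16) (kh xh0 yh0 zh17) (kh xh0 yh0 zh26) (kh xh0 yh0 zh19) (kh xh0 yh0 zh20) (kh xh0 yh0 zh21) (kh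 xh0 yh0 zh22) (kh xh0 yh1 zh2) (kh xh0 yh0 zh24) (kh xh0 yh1 zh5) (kh xh0 yh0 zh18) (kh xh0 yh0 zh27) (kh xh0 yh0 zh28) (kh xh0 yh1 zh11) (kh xh0 yh0 zh30) (kh xh0 yh0 zh31)) (@D3.rec (fun _ => Pt) (kh xh0 yh1 zh17) (kh xh0 yh1 zh18) (kh xh0 yh0 zh23) (kh xh0 yh1 zh3) (kh xh0 yh1 zh20) (kh xh0 yh0 zh25) (kh xh0 yh1 zh6) (kh xh0 yh1 zh7) (kh xh0 yh1 zh28) (kh xh0 yh1 zh9) (kh xh0 yh1 zh30) (kh xh0 yh0 zh29) (kh xh0 yh1 zh12) (kh xh0 yh1 zh13) (kh xh0 yh2 zh3) (kh xh0 yh2 zh4) (kh xh0 yh2 zh6) (kh xh0 yh1 zh0) (kh xh0 yh1 zh1) (kh xh0 yh2 zh9) (kh xh0 yh1 zh4) (kh xh0 yh1 zh21) (kh xh0 yh1 zh22) (kh xh0 yh1 zh23) (kh xh0 yh2 zh17) (kh xh0 yh2 zh19) (kh xh0 yh1 zh26) (kh xh0 yh2 zh22) (kh xh0 yh1 zh8) (kh xh0 yh2 zh24) (kh xh0 yh1 zh10) (kh xh0 yh1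 zh31)) (@D3.rec (fun _ => Pt) (kh xh0 yh2 zh28) (kh xh0 yh2 zh30) (kh xh0 yh3 zh0) (kh xh0 yh1 zh14) (kh xh0 yh1 zh15) (kh xh0 yh3 zh3) (kh xh0 yh1 zh16) (kh xh0 yh2 zh7) (kh xh0 yh2 zh8) (kh xh0 yh1 zh19) (kh xh0 yh2 zh10) (kh xh0 yh2 zh11) (kh xh0 yh2 zh12) (kh xh0 yh3 zh14) (kh xh0 yh3 zh17) (kh xh0 yh2 zh15) (kh xh0 yh3 zh20) (kh xh0 yh1 zh24) (kh xh0 yh3 zh23) (kh xh0 yh1 zh25) (kh xh0 yh3 zh26) (kh xh0 yh3 zh27) (kh xh0 yh1 zh27) (kh xh0 yh2 zh23) (kh xh0 yh1 zh29) (kh xh0 yh2 zh25) (kh xh0 yh2 zh29) (kh xh0 yh4 zh1) (kh xh0 yh2 zh0) (kh xh0 yh2 zh26) (kh xh0 yh2 zh1) (kh xh0 yh4 zh5)) (@D3.rec (fun _ => Pt) (kh xh0 yh2 zh2) (kh xh0 yh3 zh1) (kh xh0 yh4 zh9) (kh xh0 yh2 zh5) (kh xh0 yh4 zh10) (kh xh0 yh3 zh5) (kh xh0 yh3 zh6) (kh xh0 yh3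 zh7) (kh xh0 yh3 zh8) (kh xh0 yh3 zh9) (kh xh0 yh3 zh10) (kh xh0 yh3 zh15) (kh xh0 yh3 zh12) (kh xh0 yh4 zh20) (kh xh0 yh2 zh13) (kh xh0 yh3 zh11) (kh xh0 yh4 zh25) (kh xh0 yh2 zh14) (kh xh0 yh4 zh28) (kh xh0 yh4 zh29) (kh xh0 yh2 zh16) (kh xh0 yh3 zh21) (kh xh0 yh5 zh1) (kh xh0 yh2 zh18) (kh xh0 yh5 zh4) (kh xh0 yh5 zh5) (kh xh0 yh2 zh20) (kh xh0 yh2 zh21) (kh xh0 yh5 zh6) (kh xh0 yh3 zh29) (kh xh0 yh3 zh30) (kh xh0 yh3 zh31)) (@D3.rec (fun _ => Pt) (kh xh0 yh5 zh14) (kh xh0 yh2 zh27) (kh xh0 yh4 zh2) (kh xh0 yh5 zh17) (kh xh0 yh5 zh18) (kh xh0 yh2 zh31) (kh xh0 yh5 zh19) (kh xh0 yh4 zh7) (kh xh0 yh4 zh8) (kh xh0 yh3 zh2) (kh xh0 yh3 zh4) (kh xh0 yh5 zh25) (kh xh0 yh5 zh26) (kh xh0 yh4 zh13) (kh xh0 yh4 zh14) (kh xh0 yh4 zh15) (kh xh0 yh4 zh16)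 (kh xh0 yh4 zh22) (kh xh0 yh6 zh3) (kh xh0 yh6 zh4) (kh xh0 yh3 zh13) (kh xh0 yh4 zh21) (kh xh0 yh4 zh17) (kh xh0 yh6 zh9) (kh xh0 yh6 zh10) (kh xh0 yh3 zh16) (kh xh0 yh6 zh13) (kh xh0 yh6 zh14) (kh xh0 yh3 zh18) (kh xh0 yh3 zh19) (kh xh0 yh6 zh15) (kh xh0 yh4 zh31)) (@D3.rec (fun _ => Pt) (kh xh0 yh5 zh0) (kh xh0 yh3 zh22) (kh xh0 yh6 zh23) (kh xh0 yh6 zh24) (kh xh0 yh3 zh24) (kh xh0 yh3 zh25) (kh xh0 yh3 zh28) (kh xh0 yh6 zh25) (kh xh0 yh6 zh27) (kh xh0 yh6 zh28) (kh xh0 yh5 zh10) (kh xh0 yh5 zh11) (kh xh0 yh5 zh12) (kh xh0 yh5 zh13) (kh xh0 yh4 zh0) (kh xh0 yh7 zh6) (kh xh0 yh5 zh16) (kh xh0 yh4 zh3) (kh xh0 yh4 zh4) (kh xh0 yh4 zh6) (kh xh0 yh7 zh11) (kh xh0 yh7 zh12) (kh xh0 yh5 zh22) (kh xh0 yh5 zh23) (kh xh0 yh5 zh24) (kh xh0 yh4 zh11)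 (kh xh0 yh4 zh12) (kh xh0 yh7 zh20) (kh xh0 yh7 zh21) (kh xh0 yh7 zh22) (kh xh0 yh5 zh30) (kh xh0 yh5 zh31)) (@D3.rec (fun _ => Pt) (kh xh0 yh6 zh0) (kh xh0 yh6 zh7) (kh xh0 yh7 zh28) (kh xh0 yh4 zh18) (kh xh0 yh4 zh19) (kh xh0 yh7 zh29) (kh xh0 yh6 zh6) (kh xh0 yh6 zh1) (kh xh0 yh8 zh4) (kh xh0 yh4 zh23) (kh xh0 yh4 zh24) (kh xh0 yh8 zh8) (kh xh0 yh8 zh9) (kh xh0 yh4 zh26) (kh xh0 yh4 zh27) (kh xh0 yh4 zh30) (kh xh0 yh8 zh10) (kh xh0 yh8 zh12) (kh xh0 yh8 zh13) (kh xh0 yh6 zh19) (kh xh0 yh6 zh20) (kh xh0 yh6 zh21) (kh xh0 yh8 zh24) (kh xh0 yh5 zh2) (kh xh0 yh5 zh3) (kh xh0 yh5 zh7) (kh xh0 yh6 zh26) (kh xh0 yh5 zh8) (kh xh0 yh5 zh9) (kh xh0 yh8 zh27) (kh xh0 yh8 zh28) (kh xh0 yh8 zh31)) (@D3.rec (fun _ => Pt) (kh xh0 yh9 zh0) (kh xh0 yh9 zh1)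 (kh xh0 yh7 zh2) (kh xh0 yh7 zh3) (kh xh0 yh7 zh4) (kh xh0 yh7 zh5) (kh xh0 yh5 zh15) (kh xh0 yh9 zh12) (kh xh0 yh9 zh13) (kh xh0 yh7 zh9) (kh xh0 yh7 zh10) (kh xh0 yh5 zh20) (kh xh0 yh5 zh21) (kh xh0 yh9 zh20) (kh xh0 yh9 zh21) (kh xh0 yh9 zh22) (kh xh0 yh9 zh28) (kh xh0 yh7 zh17) (kh xh0 yh7 zh18) (kh xh0 yh7 zh19) (kh xh0 yh5 zh27) (kh xh0 yh5 zh28) (kh xh0 yh5 zh29) (kh xh0 yh10 zh0) (kh xh0 yh10 zh1) (kh xh0 yh10 zh3) (kh xh0 yh10 zh4) (kh xh0 yh10 zh8) (kh xh0 yh6 zh2) (kh xh0 yh6 zh5) (kh xh0 yh10 zh9) (kh xh0 yh10 zh10)) (@D3.rec (fun _ => Pt) (kh xh0 yh10 zh11) (kh xh0 yh8 zh1) (kh xh0 yh8 zh2) (kh xh0 yh10 zh18) (kh xh0 yh6 zh8) (kh xh0 yh8 zh5) (kh xh0 yh8 zh6) (kh xh0 yh10 zh23) (kh xh0 yh6 zh11) (kh xh0 yh6 zh12) (kh xh0 yh6 zh16)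 (kh xh0 yh8 zh11) (kh xh0 yh6 zh17) (kh xh0 yh6 zh18) (kh xh0 yh10 zh26) (kh xh0 yh10 zh27) (kh xh0 yh10 zh30) (kh xh0 yh10 zh31) (kh xh0 yh11 zh0) (kh xh0 yh11 zh10) (kh xh0 yh8 zh20) (kh xh0 yh8 zh21) (kh xh0 yh8 zh22) (kh xh0 yh11 zh12) (kh xh0 yh6 zh22) (kh xh0 yh8 zh25) (kh xh0 yh8 zh26) (kh xh0 yh6 zh29) (kh xh0 yh6 zh30) (kh xh0 yh8 zh29) (kh xh0 yh8 zh30) (kh xh0 yh6 zh31)) (@D3.rec (fun _ => Pt) (kh xh0 yh7 zh0) (kh xh0 yh7 zh1) (kh xh0 yh11 zh18) (kh xh0 yh11 zh19) (kh xh0 yh11 zh20) (kh xh0 yh11 zh24) (kh xh0 yh11 zh25) (kh xh0 yh11 zh27) (kh xh0 yh11 zh28) (kh xh0 yh9 zh9) (kh xh0 yh9 zh10) (kh xh0 yh12 zh7) (kh xh0 yh7 zh7) (kh xh0 yh7 zh8) (kh xh0 yh12 zh8) (kh xh0 yh12 zh9) (kh xh0 yh9 zh16) (kh xh0 yh9 zh17) (kh xh0 yh9 zh18) (kh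 xh0 yh9 zh19) (kh xh0 yh7 zh13) (kh xh0 yh7 zh14) (kh xh0 yh7 zh15) (kh xh0 yh12 zh18) (kh xh0 yh12 zh19) (kh xh0 yh12 zh26) (kh xh0 yh12 zh21) (kh xh0 yh12 zh22) (kh xh0 yh7 zh16) (kh xh0 yh9 zh29) (kh xh0 yh9 zh30) (kh xh0 yh9 zh31)) (@D3.rec (fun _ => Pt) (kh xh0 yh7 zh23) (kh xh0 yh7 zh24) (kh xh0 yh10 zh2) (kh xh0 yh7 zh25) (kh xh0 yh7 zh26) (kh xh0 yh13 zh1) (kh xh0 yh13 zh3) (kh xh0 yh13 zh5) (kh xh0 yh7 zh27) (kh xh0 yh7 zh30) (kh xh0 yh7 zh31) (kh xh0 yh8 zh0) (kh xh0 yh13 zh9) (kh xh0 yh13 zh10) (kh xh0 yh13 zh11) (kh xh0 yh13 zh12) (kh xh0 yh13 zh13) (kh xh0 yh13 zh20) (kh xh0 yh8 zh3) (kh xh0 yh10 zh19) (kh xh0 yh10 zh20) (kh xh0 yh10 zh21) (kh xh0 yh13 zh27) (kh xh0 yh8 zh7) (kh xh0 yh10 zh24) (kh xh0 yh10 zh25) (kh xh0 yh8 zh14)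 (kh xh0 yh8 zh15) (kh xh0 yh10 zh28) (kh xh0 yh10 zh29) (kh xh0 yh8 zh16) (kh xh0 yh8 zh17)) (@D3.rec (fun _ => Pt) (kh xh0 yh8 zh18) (kh xh0 yh14 zh1) (kh xh0 yh14 zh2) (kh xh0 yh14 zh3) (kh xh0 yh14 zh7) (kh xh0 yh14 zh8) (kh xh0 yh14 zh21) (kh xh0 yh14 zh10) (kh xh0 yh14 zh11) (kh xh0 yh14 zh24) (kh xh0 yh8 zh19) (kh xh0 yh14 zh26) (kh xh0 yh8 zh23) (kh xh0 yh14 zh27) (kh xh0 yh11 zh14) (kh xh0 yh11 zh15) (kh xh0 yh11 zh16) (kh xh0 yh11 zh17) (kh xh0 yh9 zh2) (kh xh0 yh9 zh3) (kh xh0 yh9 zh4) (kh xh0 yh11 zh21) (kh xh0 yh11 zh22) (kh xh0 yh11 zh23) (kh xh0 yh9 zh5) (kh xh0 yh9 zh6) (kh xh0 yh11 zh26) (kh xh0 yh9 zh7) (kh xh0 yh9 zh8) (kh xh0 yh15 zh4) (kh xh0 yh15 zh5) (kh xh0 yh15 zh23)) (@D3.rec (fun _ => Pt) (kh xh0 yh15 zh7) (kh xh0 yh15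 zh8) (kh xh0 yh15 zh14) (kh xh0 yh15 zh16) (kh xh0 yh15 zh18) (kh xh0 yh12 zh5) (kh xh0 yh15 zh29) (kh xh0 yh9 zh11) (kh xh0 yh9 zh14) (kh xh0 yh9 zh15) (kh xh0 yh15 zh31) (kh xh0 yh16 zh0) (kh xh0 yh12 zh12) (kh xh0 yh12 zh13) (kh xh0 yh12 zh14) (kh xh0 yh12 zh15) (kh xh0 yh12 zh16) (kh xh0 yh12 zh17) (kh xh0 yh9 zh23) (kh xh0 yh9 zh24) (kh xh0 yh16 zh16) (kh xh0 yh9 zh26) (kh xh0 yh9 zh27) (kh xh0 yh16 zh12) (kh xh0 yh16 zh20) (kh xh0 yh16 zh14) (kh xh0 yh9 zh25) (kh xh0 yh16 zh17) (kh xh0 yh12 zh28) (kh xh0 yh12 zh29) (kh xh0 yh16 zh26) (kh xh0 yh12 zh31)) (@D3.rec (fun _ => Pt) (kh xh0 yh13 zh0) (kh xh0 yh10 zh5) (kh xh0 yh13 zh2) (kh xh0 yh10 zh6) (kh xh0 yh13 zh4) (kh xh0 yh10 zh7) (kh xh0 yh16 zh29) (kh xh0 yh17 zh0) (kh xh0 yh13 zh8) (kh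 xh0 yh10 zh12) (kh xh0 yh10 zh13) (kh xh0 yh10 zh14) (kh xh0 yh10 zh15) (kh xh0 yh10 zh16) (kh xh0 yh17 zh6) (kh xh0 yh17 zh7) (kh xh0 yh17 zh8) (kh xh0 yh17 zh9) (kh xh0 yh17 zh10) (kh xh0 yh17 zh12) (kh xh0 yh10 zh17) (kh xh0 yh17 zh19) (kh xh0 yh13 zh22) (kh xh0 yh13 zh23) (kh xh0 yh13 zh24) (kh xh0 yh13 zh25) (kh xh0 yh13 zh26) (kh xh0 yh10 zh22) (kh xh0 yh17 zh30) (kh xh0 yh13 zh29) (kh xh0 yh13 zh30) (kh xh0 yh13 zh31)) (@D3.rec (fun _ => Pt) (kh xh0 yh14 zh0) (kh xh0 yh11 zh1) (kh xh0 yh11 zh2) (kh xh0 yh11 zh3) (kh xh0 yh14 zh4) (kh xh0 yh14 zh5) (kh xh0 yh14 zh6) (kh xh0 yh11 zh4) (kh xh0 yh11 zh5) (kh xh0 yh18 zh21) (kh xh0 yh11 zh7) (kh xh0 yh11 zh8) (kh xh0 yh18 zh7) (kh xh0 yh18 zh8) (kh xh0 yh18 zh27) (kh xh0 yh18 zh10) (kh xh0 yh18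 zh11) (kh xh0 yh18 zh17) (kh xh0 yh19 zh0) (kh xh0 yh18 zh19) (kh xh0 yh19 zh3) (kh xh0 yh11 zh6) (kh xh0 yh18 zh22) (kh xh0 yh19 zh5) (kh xh0 yh11 zh9) (kh xh0 yh14 zh25) (kh xh0 yh11 zh11) (kh xh0 yh11 zh13) (kh xh0 yh19 zh7) (kh xh0 yh19 zh8) (kh xh0 yh14 zh30) (kh xh0 yh14 zh31)) (@D3.rec (fun _ => Pt) (kh xh0 yh15 zh0) (kh xh0 yh15 zh1) (kh xh0 yh15 zh2) (kh xh0 yh15 zh3) (kh xh0 yh11 zh29) (kh xh0 yh11 zh30) (kh xh0 yh19 zh26) (kh xh0 yh12 zh0) (kh xh0 yh12 zh1) (kh xh0 yh15 zh9) (kh xh0 yh15 zh10) (kh xh0 yh20 zh0) (kh xh0 yh15 zh12) (kh xh0 yh15 zh13) (kh xh0 yh12 zh2) (kh xh0 yh15 zh15) (kh xh0 yh12 zh3) (kh xh0 yh15 zh17) (kh xh0 yh12 zh4) (kh xh0 yh19 zh22) (kh xh0 yh20 zh13) (kh xh0 yh19 zh24) (kh xh0 yh20 zh16) (kh xh0 yh11 zh31)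 (kh xh0 yh19 zh27) (kh xh0 yh20 zh3) (kh xh0 yh20 zh6) (kh xh0 yh20 zh20) (kh xh0 yh20 zh21) (kh xh0 yh12 zh6) (kh xh0 yh15 zh30) (kh xh0 yh12 zh10)) (@D3.rec (fun _ => Pt) (kh xh0 yh12 zh11) (kh xh0 yh16 zh15) (kh xh0 yh20 zh23) (kh xh0 yh16 zh3) (kh xh0 yh16 zh4) (kh xh0 yh20 zh29) (kh xh0 yh16 zh6) (kh xh0 yh16 zh7) (kh xh0 yh16 zh8) (kh xh0 yh21 zh2) (kh xh0 yh16 zh10) (kh xh0 yh16 zh11) (kh xh0 yh12 zh23) (kh xh0 yh21 zh8) (kh xh0 yh12 zh25) (kh xh0 yh16 zh1) (kh xh0 yh12 zh20) (kh xh0 yh12 zh27) (kh xh0 yh21 zh11) (kh xh0 yh21 zh5) (kh xh0 yh12 zh24) (kh xh0 yh21 zh9) (kh xh0 yh16 zh22) (kh xh0 yh21 zh17) (kh xh0 yh16 zh24) (kh xh0 yh21 zh21) (kh xh0 yh12 zh30) (kh xh0 yh16 zh27) (kh xh0 yh16 zh28) (kh xh0 yh13 zh6) (kh xh0 yh16 zh30) (kh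 xh0 yh16 zh31)) (@D3.rec (fun _ => Pt) (kh xh0 yh13 zh7) (kh xh0 yh17 zh1) (kh xh0 yh17 zh2) (kh xh0 yh21 zh24) (kh xh0 yh17 zh4) (kh xh0 yh17 zh5) (kh xh0 yh13 zh14) (kh xh0 yh13 zh15) (kh xh0 yh13 zh16) (kh xh0 yh13 zh17) (kh xh0 yh13 zh18) (kh xh0 yh21 zh10) (kh xh0 yh13 zh19) (kh xh1 yh0 zh0) (kh xh1 yh0 zh1) (kh xh1 yh0 zh12) (kh xh1 yh0 zh3) (kh xh1 yh0 zh4) (kh xh1 yh0 zh6) (kh xh0 yh13 zh21) (kh xh1 yh0 zh14) (kh xh1 yh0 zh15) (kh xh0 yh17 zh22) (kh xh0 yh17 zh23) (kh xh0 yh17 zh24) (kh xh0 yh17 zh25) (kh xh0 yh17 zh26) (kh xh1 yh0 zh28) (kh xh0 yh17 zh28) (kh xh0 yh17 zh29) (kh xh0 yh13 zh28) (kh xh1 yh0 zh30)) (@D3.rec (fun _ => Pt) (kh xh1 yh0 zh31) (kh xh0 yh18 zh1) (kh xh0 yh18 zh2) (kh xh0 yh18 zh3) (kh xh0 yh18 zh4) (kh xh0 yh18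 zh5) (kh xh0 yh18 zh6) (kh xh0 yh14 zh12) (kh xh0 yh14 zh13) (kh xh1 yh1 zh17) (kh xh0 yh14 zh15) (kh xh0 yh14 zh16) (kh xh0 yh18 zh12) (kh xh0 yh18 zh13) (kh xh1 yh1 zh23) (kh xh0 yh18 zh15) (kh xh0 yh18 zh16) (kh xh0 yh14 zh17) (kh xh1 yh1 zh29) (kh xh0 yh14 zh19) (kh xh1 yh2 zh1) (kh xh0 yh14 zh9) (kh xh0 yh14 zh22) (kh xh1 yh1 zh13) (kh xh1 yh2 zh7) (kh xh1 yh1 zh15) (kh xh1 yh2 zh11) (kh xh0 yh14 zh14) (kh xh1 yh1 zh18) (kh xh1 yh2 zh14) (kh xh1 yh1 zh26) (kh xh1 yh2 zh17)) (@D3.rec (fun _ => Pt) (kh xh0 yh14 zh18) (kh xh1 yh1 zh30) (kh xh1 yh2 zh19) (kh xh0 yh14 zh20) (kh xh0 yh19 zh4) (kh xh0 yh14 zh23) (kh xh0 yh19 zh6) (kh xh0 yh14 zh28) (kh xh0 yh14 zh29) (kh xh1 yh2 zh23) (kh xh1 yh2 zh24) (kh xh1 yh2 zh25) (kh xh0 yh19 zh12) (kh xh0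 yh19 zh13) (kh xh1 yh3 zh3) (kh xh0 yh19 zh15) (kh xh0 yh19 zh16) (kh xh0 yh19 zh17) (kh xh0 yh19 zh18) (kh xh1 yh3 zh9) (kh xh0 yh19 zh20) (kh xh0 yh19 zh21) (kh xh0 yh15 zh19) (kh xh1 yh3 zh15) (kh xh0 yh15 zh21) (kh xh1 yh3 zh19) (kh xh0 yh15 zh6) (kh xh0 yh15 zh24) (kh xh0 yh19 zh28) (kh xh1 yh3 zh25) (kh xh0 yh19 zh30) (kh xh1 yh3 zh29)) (@D3.rec (fun _ => Pt) (kh xh0 yh15 zh11) (kh xh0 yh20 zh1) (kh xh0 yh20 zh2) (kh xh0 yh15 zh25) (kh xh0 yh20 zh4) (kh xh0 yh20 zh5) (kh xh0 yh15 zh26) (kh xh0 yh20 zh7) (kh xh0 yh20 zh8) (kh xh1 yh4 zh7) (kh xh1 yh3 zh12) (kh xh1 yh4 zh10) (kh xh1 yh4 zh12) (kh xh0 yh15 zh20) (kh xh1 yh3 zh16) (kh xh1 yh4 zh14) (kh xh0 yh15 zh22) (kh xh0 yh20 zh17) (kh xh1 yh4 zh0) (kh xh1 yh4 zh17) (kh xh0 yh15 zh27) (kh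 xh0 yh15 zh28) (kh xh0 yh20 zh22) (kh xh0 yh16 zh2) (kh xh0 yh21 zh7) (kh xh0 yh20 zh25) (kh xh1 yh4 zh27) (kh xh0 yh20 zh27) (kh xh1 yh4 zh29) (kh xh0 yh16 zh5) (kh xh0 yh20 zh30) (kh xh1 yh5 zh2)) (@D3.rec (fun _ => Pt) (kh xh0 yh21 zh0) (kh xh1 yh4 zh28) (kh xh0 yh16 zh9) (kh xh0 yh21 zh3) (kh xh1 yh5 zh7) (kh xh0 yh16 zh19) (kh xh1 yh5 zh10) (kh xh0 yh20 zh24) (kh xh0 yh16 zh13) (kh xh0 yh16 zh21) (kh xh0 yh17 zh11) (kh xh0 yh16 zh18) (kh xh1 yh5 zh8) (kh xh1 yh5 zh14) (kh xh0 yh21 zh14) (kh xh1 yh5 zh17) (kh xh1 yh5 zh20) (kh xh0 yh16 zh23) (kh xh0 yh21 zh18) (kh xh1 yh5 zh22) (kh xh1 yh5 zh23) (kh xh0 yh16 zh25) (kh xh0 yh21 zh22) (kh xh0 yh21 zh23) (kh xh0 yh17 zh3) (kh xh0 yh21 zh25) (kh xh0 yh21 zh26) (kh xh0 yh21 zh27) (kh xh0 yh21 zh28)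 (kh xh0 yh21 zh29) (kh xh0 yh21 zh30) (kh xh0 yh21 zh31))
def f_h_1 : D2 → D3 → Pt := @D2.rec (fun _ => D3 → Pt) (@D3.rec (fun _ => Pt) (kh xh0 yh17 zh13) (kh xh0 yh17 zh14) (kh xh1 yh6 zh8) (kh xh0 yh17 zh16) (kh xh0 yh17 zh17) (kh xh1 yh5 zh11) (kh xh0 yh17 zh18) (kh xh1 yh2 zh0) (kh xh1 yh6 zh4) (kh xh1 yh6 zh18) (kh xh1 yh6 zh6) (kh xh1 yh6 zh19) (kh xh0 yh17 zh15) (kh xh1 yh6 zh10) (kh xh0 yh17 zh20) (kh xh0 yh17 zh21) (kh xh1 yh6 zh21) (kh xh1 yh6 zh22) (kh xh1 yh6 zh23) (kh xh1 yh0 zh19) (kh xh1 yh0 zh20) (kh xh1 yh7 zh1) (kh xh1 yh0 zh22) (kh xh1 yh0 zh23) (kh xh1 yh0 zh24) (kh xh1 yh7 zh7) (kh xh1 yh0 zh26) (kh xh1 yh7 zh11) (kh xh0 yh17 zh27) (kh xh1 yh0 zh29) (kh xh0 yh17 zh31) (kh xh0 yh18 zh0)) (@D3.rec (fun _ => Pt) (kh xh1 yh7 zh13)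 (kh xh1 yh7 zh14) (kh xh1 yh7 zh15) (kh xh1 yh1 zh3) (kh xh1 yh1 zh4) (kh xh1 yh7 zh25) (kh xh1 yh1 zh6) (kh xh1 yh1 zh7) (kh xh1 yh1 zh8) (kh xh1 yh1 zh9) (kh xh1 yh7 zh31) (kh xh1 yh1 zh11) (kh xh1 yh1 zh12) (kh xh0 yh18 zh23) (kh xh1 yh8 zh5) (kh xh0 yh18 zh25) (kh xh1 yh8 zh9) (kh xh0 yh18 zh9) (kh xh0 yh18 zh28) (kh xh1 yh1 zh19) (kh xh1 yh8 zh15) (kh xh1 yh1 zh21) (kh xh1 yh8 zh19) (kh xh0 yh18 zh14) (kh xh1 yh1 zh24) (kh xh1 yh8 zh23) (kh xh0 yh18 zh30) (kh xh1 yh8 zh26) (kh xh1 yh8 zh29) (kh xh0 yh18 zh18) (kh xh0 yh19 zh1) (kh xh1 yh9 zh0)) (@D3.rec (fun _ => Pt) (kh xh1 yh0 zh7) (kh xh0 yh18 zh20) (kh xh1 yh8 zh20) (kh xh1 yh9 zh3) (kh xh1 yh8 zh2) (kh xh1 yh9 zh6) (kh xh1 yh9 zh9) (kh xh0 yh18 zh24) (kh xh1 yh8 zh6) (kh xh1 yh9 zh11)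 (kh xh1 yh9 zh12) (kh xh0 yh18 zh26) (kh xh1 yh2 zh12) (kh xh1 yh9 zh15) (kh xh0 yh18 zh29) (kh xh1 yh8 zh24) (kh xh1 yh9 zh17) (kh xh0 yh18 zh31) (kh xh1 yh2 zh18) (kh xh0 yh19 zh2) (kh xh1 yh2 zh20) (kh xh1 yh2 zh21) (kh xh1 yh2 zh22) (kh xh0 yh19 zh9) (kh xh0 yh19 zh10) (kh xh0 yh19 zh11) (kh xh1 yh9 zh23) (kh xh1 yh9 zh24) (kh xh1 yh10 zh0) (kh xh1 yh9 zh26) (kh xh1 yh9 zh27) (kh xh1 yh2 zh31)) (@D3.rec (fun _ => Pt) (kh xh1 yh10 zh6) (kh xh1 yh3 zh1) (kh xh1 yh10 zh10) (kh xh0 yh19 zh14) (kh xh1 yh3 zh4) (kh xh1 yh3 zh5) (kh xh1 yh10 zh16) (kh xh1 yh3 zh7) (kh xh1 yh10 zh20) (kh xh0 yh19 zh19) (kh xh1 yh3 zh10) (kh xh1 yh10 zh24) (kh xh0 yh20 zh10) (kh xh1 yh10 zh27) (kh xh1 yh10 zh30) (kh xh0 yh19 zh23) (kh xh0 yh20 zh14) (kh xh1 yh11 zh1)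 (kh xh1 yh11 zh2) (kh xh0 yh19 zh25) (kh xh1 yh10 zh21) (kh xh1 yh11 zh6) (kh xh1 yh3 zh22) (kh xh1 yh11 zh9) (kh xh1 yh11 zh12) (kh xh0 yh19 zh29) (kh xh1 yh3 zh26) (kh xh1 yh11 zh14) (kh xh1 yh11 zh15) (kh xh0 yh19 zh31) (kh xh1 yh3 zh30) (kh xh1 yh3 zh31)) (@D3.rec (fun _ => Pt) (kh xh0 yh20 zh18) (kh xh1 yh4 zh1) (kh xh1 yh4 zh2) (kh xh1 yh4 zh3) (kh xh1 yh4 zh4) (kh xh1 yh11 zh26) (kh xh1 yh11 zh28) (kh xh0 yh20 zh9) (kh xh1 yh10 zh25) (kh xh1 yh11 zh31) (kh xh0 yh20 zh11) (kh xh1 yh12 zh2) (kh xh0 yh20 zh12) (kh xh1 yh4 zh13) (kh xh0 yh20 zh15) (kh xh1 yh4 zh15) (kh xh1 yh12 zh5) (kh xh0 yh20 zh19) (kh xh1 yh4 zh18) (kh xh1 yh4 zh19) (kh xh1 yh4 zh20) (kh xh1 yh5 zh6) (kh xh1 yh5 zh9) (kh xh1 yh12 zh13) (kh xh1 yh4 zh24) (kh xh1 yh12 zh15)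 (kh xh1 yh12 zh17) (kh xh0 yh20 zh26) (kh xh0 yh21 zh1) (kh xh0 yh20 zh28) (kh xh1 yh12 zh20) (kh xh1 yh4 zh31)) (@D3.rec (fun _ => Pt) (kh xh1 yh12 zh23) (kh xh1 yh12 zh16) (kh xh0 yh20 zh31) (kh xh1 yh5 zh3) (kh xh1 yh7 zh12) (kh xh1 yh12 zh27) (kh xh1 yh4 zh21) (kh xh0 yh21 zh4) (kh xh0 yh21 zh12) (kh xh1 yh4 zh22) (kh xh0 yh21 zh6) (kh xh1 yh0 zh5) (kh xh1 yh13 zh0) (kh xh1 yh13 zh3) (kh xh0 yh21 zh13) (kh xh1 yh5 zh15) (kh xh1 yh13 zh6) (kh xh0 yh21 zh15) (kh xh1 yh13 zh9) (kh xh1 yh13 zh10) (kh xh0 yh21 zh16) (kh xh1 yh13 zh12) (kh xh0 yh21 zh19) (kh xh0 yh21 zh20) (kh xh1 yh5 zh24) (kh xh1 yh5 zh25) (kh xh1 yh5 zh26) (kh xh1 yh5 zh27) (kh xh1 yh5 zh28) (kh xh1 yh5 zh29) (kh xh1 yh5 zh30) (kh xh1 yh5 zh31)) (@D3.rec (fun _ => Pt) (kh xh1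 yh6 zh0) (kh xh1 yh6 zh1) (kh xh1 yh13 zh25) (kh xh1 yh6 zh3) (kh xh1 yh0 zh8) (kh xh1 yh13 zh30) (kh xh1 yh0 zh10) (kh xh1 yh14 zh0) (kh xh1 yh0 zh2) (kh xh1 yh12 zh28) (kh xh1 yh0 zh13) (kh xh1 yh12 zh29) (kh xh1 yh8 zh28) (kh xh1 yh8 zh31) (kh xh1 yh14 zh8) (kh xh1 yh13 zh27) (kh xh1 yh14 zh10) (kh xh1 yh14 zh11) (kh xh1 yh0 zh9) (kh xh1 yh0 zh11) (kh xh1 yh6 zh20) (kh xh1 yh0 zh16) (kh xh1 yh0 zh17) (kh xh1 yh0 zh18) (kh xh1 yh14 zh14) (kh xh1 yh14 zh15) (kh xh1 yh14 zh23) (kh xh1 yh14 zh17) (kh xh1 yh14 zh18) (kh xh1 yh6 zh29) (kh xh1 yh14 zh29) (kh xh1 yh6 zh31)) (@D3.rec (fun _ => Pt) (kh xh1 yh15 zh1) (kh xh1 yh0 zh21) (kh xh1 yh7 zh2) (kh xh1 yh15 zh5) (kh xh1 yh7 zh4) (kh xh1 yh15 zh8) (kh xh1 yh15 zh11) (kh xh1 yh0 zh25) (kh xh1 yh7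 zh8) (kh xh1 yh15 zh14) (kh xh1 yh15 zh15) (kh xh1 yh0 zh27) (kh xh1 yh5 zh4) (kh xh1 yh1 zh0) (kh xh1 yh1 zh1) (kh xh1 yh1 zh2) (kh xh1 yh15 zh17) (kh xh1 yh15 zh18) (kh xh1 yh15 zh26) (kh xh1 yh15 zh20) (kh xh1 yh15 zh21) (kh xh1 yh7 zh21) (kh xh1 yh16 zh0) (kh xh1 yh7 zh23) (kh xh1 yh16 zh4) (kh xh1 yh1 zh5) (kh xh1 yh7 zh26) (kh xh1 yh7 zh27) (kh xh1 yh16 zh10) (kh xh1 yh7 zh29) (kh xh1 yh16 zh14) (kh xh1 yh1 zh10)) (@D3.rec (fun _ => Pt) (kh xh1 yh8 zh0) (kh xh1 yh16 zh18) (kh xh1 yh2 zh4) (kh xh1 yh16 zh21) (kh xh1 yh16 zh24) (kh xh1 yh1 zh14) (kh xh1 yh2 zh8) (kh xh1 yh16 zh27) (kh xh1 yh16 zh28) (kh xh1 yh1 zh16) (kh xh1 yh16 zh15) (kh xh1 yh17 zh0) (kh xh1 yh8 zh12) (kh xh1 yh17 zh3) (kh xh1 yh17 zh6) (kh xh1 yh1 zh20) (kh xh1 yh8 zh16)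 (kh xh1 yh17 zh9) (kh xh1 yh15 zh16) (kh xh1 yh1 zh22) (kh xh1 yh2 zh2) (kh xh1 yh17 zh12) (kh xh1 yh17 zh15) (kh xh1 yh1 zh25) (kh xh1 yh2 zh15) (kh xh1 yh17 zh19) (kh xh1 yh1 zh27) (kh xh1 yh17 zh22) (kh xh1 yh6 zh12) (kh xh1 yh1 zh28) (kh xh1 yh17 zh7) (kh xh1 yh6 zh13)) (@D3.rec (fun _ => Pt) (kh xh1 yh1 zh31) (kh xh1 yh17 zh26) (kh xh1 yh17 zh29) (kh xh1 yh2 zh3) (kh xh1 yh16 zh19) (kh xh1 yh18 zh1) (kh xh1 yh2 zh5) (kh xh1 yh18 zh4) (kh xh1 yh18 zh5) (kh xh1 yh2 zh6) (kh xh1 yh9 zh10) (kh xh1 yh2 zh9) (kh xh1 yh2 zh10) (kh xh1 yh9 zh13) (kh xh1 yh18 zh10) (kh xh1 yh2 zh13) (kh xh1 yh9 zh16) (kh xh1 yh2 zh16) (kh xh1 yh18 zh7) (kh xh1 yh9 zh19) (kh xh1 yh9 zh20) (kh xh1 yh9 zh21) (kh xh1 yh9 zh22) (kh xh1 yh2 zh26) (kh xh1 yh2 zh27) (kh xh1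 yh18 zh23) (kh xh1 yh2 zh29) (kh xh1 yh2 zh30) (kh xh1 yh18 zh19) (kh xh1 yh18 zh29) (kh xh1 yh18 zh21) (kh xh1 yh19 zh1)) (@D3.rec (fun _ => Pt) (kh xh1 yh2 zh28) (kh xh1 yh18 zh24) (kh xh1 yh19 zh5) (kh xh1 yh10 zh3) (kh xh1 yh19 zh8) (kh xh1 yh19 zh11) (kh xh1 yh3 zh0) (kh xh1 yh10 zh7) (kh xh1 yh19 zh14) (kh xh1 yh19 zh15) (kh xh1 yh3 zh2) (kh xh1 yh19 zh2) (kh xh1 yh19 zh19) (kh xh1 yh10 zh13) (kh xh1 yh19 zh22) (kh xh1 yh19 zh25) (kh xh1 yh3 zh6) (kh xh1 yh10 zh17) (kh xh1 yh19 zh0) (kh xh1 yh18 zh31) (kh xh1 yh3 zh8) (kh xh1 yh3 zh20) (kh xh1 yh19 zh29) (kh xh1 yh20 zh0) (kh xh1 yh3 zh11) (kh xh1 yh4 zh8) (kh xh1 yh20 zh4) (kh xh1 yh3 zh13) (kh xh1 yh20 zh8) (kh xh1 yh20 zh9) (kh xh1 yh3 zh14) (kh xh1 yh19 zh26)) (@D3.rec (fun _ => Pt)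 (kh xh1 yh19 zh16) (kh xh1 yh3 zh17) (kh xh1 yh3 zh18) (kh xh1 yh19 zh13) (kh xh1 yh20 zh13) (kh xh1 yh20 zh16) (kh xh1 yh3 zh21) (kh xh1 yh11 zh7) (kh xh1 yh20 zh19) (kh xh1 yh3 zh23) (kh xh1 yh20 zh22) (kh xh1 yh20 zh23) (kh xh1 yh3 zh24) (kh xh1 yh18 zh22) (kh xh1 yh3 zh27) (kh xh1 yh3 zh28) (kh xh1 yh11 zh16) (kh xh1 yh11 zh17) (kh xh1 yh11 zh18) (kh xh1 yh11 zh19) (kh xh1 yh11 zh20) (kh xh1 yh11 zh21) (kh xh1 yh11 zh22) (kh xh1 yh11 zh23) (kh xh1 yh21 zh0) (kh xh1 yh21 zh2) (kh xh1 yh4 zh5) (kh xh1 yh21 zh5) (kh xh1 yh4 zh6) (kh xh1 yh11 zh29) (kh xh1 yh21 zh7) (kh xh1 yh4 zh9)) (@D3.rec (fun _ => Pt) (kh xh1 yh18 zh2) (kh xh1 yh12 zh1) (kh xh1 yh4 zh11) (kh xh1 yh12 zh3) (kh xh1 yh12 zh4) (kh xh1 yh4 zh16) (kh xh1 yh12 zh6) (kh xh1 yh12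 zh7) (kh xh1 yh12 zh8) (kh xh1 yh21 zh19) (kh xh1 yh12 zh26) (kh xh1 yh21 zh23) (kh xh1 yh21 zh25) (kh xh1 yh4 zh23) (kh xh1 yh21 zh27) (kh xh1 yh4 zh25) (kh xh1 yh5 zh1) (kh xh1 yh4 zh26) (kh xh1 yh21 zh31) (kh xh1 yh21 zh24) (kh xh1 yh4 zh30) (kh xh1 yh12 zh21) (kh xh1 yh21 zh26) (kh xh1 yh5 zh0) (kh xh1 yh15 zh12) (kh xh2 yh0 zh4) (kh xh1 yh12 zh10) (kh xh1 yh5 zh5) (kh xh1 yh6 zh9) (kh xh1 yh6 zh11) (kh xh2 yh0 zh7) (kh xh2 yh0 zh10)) (@D3.rec (fun _ => Pt) (kh xh1 yh5 zh12) (kh xh2 yh0 zh13) (kh xh2 yh0 zh14) (kh xh1 yh5 zh13) (kh xh2 yh0 zh17) (kh xh2 yh0 zh18) (kh xh1 yh5 zh16) (kh xh2 yh0 zh2) (kh xh2 yh0 zh22) (kh xh1 yh5 zh18) (kh xh1 yh5 zh19) (kh xh1 yh18 zh16) (kh xh1 yh5 zh21) (kh xh1 yh13 zh13) (kh xh1 yh13 zh14) (kh xh1 yh13 zh15)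 (kh xh1 yh13 zh16) (kh xh1 yh13 zh17) (kh xh2 yh0 zh20) (kh xh1 yh13 zh19) (kh xh1 yh13 zh20) (kh xh1 yh13 zh21) (kh xh2 yh1 zh3) (kh xh1 yh13 zh23) (kh xh2 yh1 zh5) (kh xh1 yh6 zh2) (kh xh2 yh1 zh9) (kh xh1 yh6 zh15) (kh xh2 yh1 zh11) (kh xh2 yh1 zh13) (kh xh1 yh6 zh5) (kh xh2 yh1 zh15)) (@D3.rec (fun _ => Pt) (kh xh1 yh6 zh7) (kh xh1 yh15 zh2) (kh xh2 yh0 zh5) (kh xh1 yh17 zh14) (kh xh1 yh17 zh18) (kh xh1 yh17 zh21) (kh xh2 yh1 zh23) (kh xh2 yh1 zh24) (kh xh1 yh6 zh14) (kh xh2 yh1 zh26) (kh xh1 yh6 zh16) (kh xh1 yh6 zh17) (kh xh1 yh14 zh12) (kh xh1 yh14 zh13) (kh xh1 yh6 zh24) (kh xh1 yh6 zh25) (kh xh2 yh2 zh2) (kh xh1 yh6 zh27) (kh xh1 yh6 zh28) (kh xh2 yh1 zh30) (kh xh2 yh2 zh8) (kh xh2 yh2 zh0) (kh xh2 yh2 zh12) (kh xh1 yh6 zh26) (kh xh2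 yh2 zh3) (kh xh2 yh2 zh16) (kh xh1 yh14 zh26) (kh xh2 yh2 zh19) (kh xh2 yh2 zh22) (kh xh1 yh6 zh30) (kh xh1 yh14 zh30) (kh xh2 yh2 zh25)) (@D3.rec (fun _ => Pt) (kh xh2 yh2 zh26) (kh xh1 yh7 zh0) (kh xh1 yh14 zh1) (kh xh2 yh2 zh30) (kh xh2 yh3 zh1) (kh xh1 yh7 zh3) (kh xh1 yh15 zh6) (kh xh2 yh3 zh5) (kh xh1 yh7 zh5) (kh xh2 yh3 zh9) (kh xh2 yh3 zh10) (kh xh1 yh7 zh6) (kh xh1 yh12 zh24) (kh xh2 yh3 zh13) (kh xh1 yh7 zh9) (kh xh1 yh7 zh10) (kh xh1 yh8 zh18) (kh xh1 yh7 zh16) (kh xh1 yh7 zh17) (kh xh2 yh3 zh19) (kh xh1 yh7 zh19) (kh xh1 yh7 zh20) (kh xh2 yh3 zh15) (kh xh2 yh3 zh25) (kh xh2 yh3 zh17) (kh xh2 yh3 zh29) (kh xh1 yh7 zh18) (kh xh2 yh3 zh20) (kh xh2 yh4 zh1) (kh xh1 yh15 zh29) (kh xh2 yh4 zh4) (kh xh2 yh4 zh7)) (@D3.rec (fun _ => Pt) (kh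 xh1 yh7 zh22) (kh xh1 yh16 zh1) (kh xh2 yh4 zh10) (kh xh2 yh4 zh11) (kh xh1 yh7 zh24) (kh xh2 yh3 zh30) (kh xh2 yh4 zh15) (kh xh1 yh16 zh7) (kh xh2 yh4 zh18) (kh xh2 yh4 zh21) (kh xh1 yh7 zh28) (kh xh1 yh16 zh11) (kh xh2 yh4 zh24) (kh xh2 yh4 zh25) (kh xh1 yh7 zh30) (kh xh1 yh8 zh10) (kh xh2 yh4 zh29) (kh xh2 yh5 zh0) (kh xh1 yh8 zh1) (kh xh1 yh9 zh4) (kh xh2 yh5 zh4) (kh xh1 yh8 zh3) (kh xh2 yh5 zh8) (kh xh2 yh5 zh9) (kh xh1 yh8 zh4) (kh xh2 yh4 zh22) (kh xh2 yh5 zh12) (kh xh1 yh8 zh7) (kh xh1 yh8 zh8) (kh xh2 yh4 zh26) (kh xh2 yh5 zh18) (kh xh2 yh5 zh21)) (@D3.rec (fun _ => Pt) (kh xh1 yh8 zh11) (kh xh1 yh17 zh1) (kh xh2 yh5 zh25) (kh xh1 yh8 zh13) (kh xh2 yh5 zh29) (kh xh2 yh3 zh11) (kh xh1 yh8 zh14) (kh xh1 yh8 zh30) (kh xh2 yh3 zh12) (kh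 xh1 yh8 zh17) (kh xh2 yh5 zh31) (kh xh2 yh6 zh2) (kh xh1 yh8 zh21) (kh xh2 yh6 zh5) (kh xh1 yh14 zh3) (kh xh1 yh8 zh22) (kh xh2 yh5 zh22) (kh xh2 yh6 zh8) (kh xh1 yh14 zh4) (kh xh1 yh8 zh25) (kh xh2 yh5 zh27) (kh xh1 yh14 zh5) (kh xh1 yh8 zh27) (kh xh2 yh5 zh13) (kh xh2 yh6 zh12) (kh xh2 yh6 zh15) (kh xh1 yh9 zh1) (kh xh2 yh6 zh18) (kh xh2 yh6 zh19) (kh xh1 yh9 zh2) (kh xh1 yh17 zh30) (kh xh2 yh6 zh21)) (@D3.rec (fun _ => Pt) (kh xh2 yh6 zh22) (kh xh1 yh9 zh5) (kh xh1 yh12 zh0) (kh xh1 yh18 zh3) (kh xh1 yh9 zh7) (kh xh1 yh9 zh8) (kh xh1 yh18 zh6) (kh xh1 yh9 zh18) (kh xh1 yh18 zh8) (kh xh1 yh18 zh9) (kh xh1 yh9 zh14) (kh xh2 yh6 zh27) (kh xh2 yh6 zh30) (kh xh1 yh18 zh13) (kh xh1 yh18 zh14) (kh xh1 yh18 zh15) (kh xh1 yh13 zh11) (kh xh1 yh18 zh17)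 (kh xh1 yh18 zh18) (kh xh1 yh9 zh28) (kh xh2 yh7 zh11) (kh xh1 yh9 zh30) (kh xh1 yh11 zh13) (kh xh1 yh9 zh25) (kh xh1 yh10 zh1) (kh xh2 yh7 zh15) (kh xh2 yh7 zh8) (kh xh2 yh7 zh18) (kh xh2 yh7 zh21) (kh xh1 yh9 zh29) (kh xh2 yh7 zh12) (kh xh1 yh10 zh19)) (@D3.rec (fun _ => Pt) (kh xh1 yh10 zh18) (kh xh1 yh9 zh31) (kh xh1 yh10 zh11) (kh xh2 yh7 zh25) (kh xh2 yh7 zh28) (kh xh1 yh10 zh2) (kh xh1 yh19 zh6) (kh xh2 yh8 zh0) (kh xh1 yh10 zh4) (kh xh2 yh8 zh4) (kh xh2 yh8 zh5) (kh xh1 yh10 zh5) (kh xh2 yh7 zh22) (kh xh1 yh11 zh3) (kh xh1 yh10 zh8) (kh xh1 yh10 zh9) (kh xh1 yh11 zh0) (kh xh2 yh8 zh9) (kh xh2 yh8 zh12) (kh xh1 yh10 zh12) (kh xh1 yh19 zh20) (kh xh2 yh8 zh16) (kh xh1 yh10 zh14) (kh xh2 yh7 zh20) (kh xh2 yh7 zh19) (kh xh1 yh10 zh15) (kh xh1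 yh10 zh31) (kh xh2 yh8 zh20) (kh xh2 yh8 zh23) (kh xh1 yh10 zh22) (kh xh2 yh8 zh27) (kh xh2 yh8 zh28)) (@D3.rec (fun _ => Pt) (kh xh1 yh10 zh23) (kh xh2 yh8 zh13) (kh xh2 yh9 zh0) (kh xh2 yh9 zh1) (kh xh1 yh10 zh26) (kh xh2 yh5 zh5) (kh xh2 yh8 zh18) (kh xh2 yh8 zh6) (kh xh1 yh10 zh28) (kh xh1 yh10 zh29) (kh xh2 yh8 zh3) (kh xh2 yh9 zh7) (kh xh2 yh9 zh10) (kh xh1 yh11 zh4) (kh xh2 yh9 zh13) (kh xh2 yh9 zh14) (kh xh1 yh11 zh5) (kh xh2 yh9 zh17) (kh xh2 yh9 zh18) (kh xh1 yh11 zh8) (kh xh2 yh5 zh26) (kh xh2 yh7 zh10) (kh xh1 yh11 zh10) (kh xh1 yh11 zh11) (kh xh1 yh20 zh24) (kh xh1 yh20 zh25) (kh xh1 yh20 zh26) (kh xh1 yh20 zh27) (kh xh2 yh9 zh27) (kh xh1 yh20 zh29) (kh xh1 yh20 zh30) (kh xh2 yh9 zh30)) (@D3.rec (fun _ => Pt) (kh xh1 yh11 zh24) (kh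 xh2 yh10 zh1) (kh xh1 yh11 zh25) (kh xh2 yh6 zh16) (kh xh1 yh21 zh4) (kh xh1 yh11 zh27) (kh xh1 yh21 zh6) (kh xh1 yh11 zh30) (kh xh2 yh6 zh23) (kh xh1 yh21 zh9) (kh xh2 yh6 zh25) (kh xh2 yh10 zh13) (kh xh1 yh21 zh12) (kh xh1 yh21 zh13) (kh xh1 yh21 zh14) (kh xh1 yh21 zh15) (kh xh2 yh10 zh19) (kh xh1 yh21 zh17) (kh xh2 yh10 zh22) (kh xh1 yh12 zh9) (kh xh2 yh0 zh3) (kh xh2 yh10 zh24) (kh xh2 yh10 zh26) (kh xh1 yh12 zh11) (kh xh1 yh12 zh19) (kh xh1 yh12 zh12) (kh xh1 yh12 zh22) (kh xh1 yh12 zh14) (kh xh1 yh21 zh28) (kh xh2 yh10 zh31) (kh xh2 yh10 zh25) (kh xh1 yh12 zh18))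
def f_h_2 : D2 → D3 → Pt := @D2.rec (fun _ => D3 → Pt) (@D3.rec (fun _ => Pt) (kh xh2 yh3 zh2) (kh xh2 yh3 zh7) (kh xh1 yh13 zh7) (kh xh1 yh21 zh20) (kh xh1 yh12 zh25) (kh xh1 yh14 zh2) (kh xh2 yh11 zh5) (kh xh1 yh12 zh30) (kh xh2 yh11 zh9) (kh xh2 yh11 zh10) (kh xh1 yh12 zh31) (kh xh2 yh11 zh1) (kh xh2 yh11 zh14) (kh xh1 yh13 zh1) (kh xh1 yh13 zh2) (kh xh2 yh0 zh15) (kh xh2 yh11 zh18) (kh xh1 yh13 zh4) (kh xh1 yh13 zh5) (kh xh2 yh10 zh28) (kh xh1 yh13 zh18) (kh xh2 yh7 zh5) (kh xh1 yh13 zh8) (kh xh2 yh0 zh23) (kh xh2 yh0 zh24) (kh xh2 yh0 zh25) (kh xh2 yh11 zh12) (kh xh2 yh0 zh27) (kh xh2 yh0 zh28) (kh xh2 yh9 zh20) (kh xh2 yh0 zh30) (kh xh2 yh11 zh27)) (@D3.rec (fun _ => Pt) (kh xh2 yh1 zh0) (kh xh2 yh11 zh29) (kh xh2 yh11 zh31) (kh xh1 yh13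 zh22) (kh xh2 yh12 zh1) (kh xh1 yh13 zh24) (kh xh2 yh2 zh13) (kh xh2 yh12 zh5) (kh xh2 yh12 zh7) (kh xh1 yh13 zh26) (kh xh2 yh12 zh10) (kh xh1 yh13 zh28) (kh xh2 yh12 zh13) (kh xh1 yh13 zh29) (kh xh2 yh2 zh23) (kh xh1 yh13 zh31) (kh xh2 yh2 zh27) (kh xh2 yh11 zh2) (kh xh2 yh6 zh1) (kh xh2 yh6 zh4) (kh xh2 yh6 zh7) (kh xh2 yh12 zh20) (kh xh2 yh12 zh21) (kh xh1 yh14 zh6) (kh xh1 yh14 zh7) (kh xh2 yh1 zh25) (kh xh1 yh14 zh9) (kh xh2 yh1 zh27) (kh xh2 yh1 zh28) (kh xh2 yh1 zh29) (kh xh1 yh14 zh19) (kh xh2 yh13 zh1)) (@D3.rec (fun _ => Pt) (kh xh1 yh14 zh21) (kh xh2 yh13 zh5) (kh xh1 yh14 zh16) (kh xh1 yh14 zh24) (kh xh2 yh13 zh9) (kh xh2 yh12 zh30) (kh xh2 yh13 zh12) (kh xh2 yh13 zh15) (kh xh1 yh14 zh20) (kh xh2 yh13 zh2) (kh xh2 yh13 zh18) (kh xh2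 yh13 zh19) (kh xh1 yh14 zh22) (kh xh2 yh1 zh6) (kh xh2 yh13 zh23) (kh xh2 yh13 zh26) (kh xh1 yh14 zh25) (kh xh2 yh2 zh17) (kh xh2 yh13 zh30) (kh xh1 yh14 zh27) (kh xh2 yh14 zh2) (kh xh2 yh14 zh3) (kh xh1 yh14 zh28) (kh xh2 yh1 zh14) (kh xh2 yh14 zh6) (kh xh1 yh14 zh31) (kh xh1 yh15 zh0) (kh xh2 yh1 zh16) (kh xh2 yh14 zh11) (kh xh2 yh14 zh14) (kh xh1 yh15 zh3) (kh xh2 yh14 zh18)) (@D3.rec (fun _ => Pt) (kh xh2 yh14 zh19) (kh xh1 yh15 zh4) (kh xh2 yh0 zh0) (kh xh2 yh14 zh23) (kh xh2 yh14 zh24) (kh xh1 yh15 zh7) (kh xh2 yh3 zh6) (kh xh2 yh0 zh1) (kh xh2 yh14 zh29) (kh xh1 yh15 zh9) (kh xh1 yh15 zh10) (kh xh1 yh17 zh5) (kh xh1 yh17 zh8) (kh xh1 yh15 zh13) (kh xh2 yh14 zh7) (kh xh1 yh15 zh22) (kh xh2 yh15 zh5) (kh xh1 yh15 zh24) (kh xh2 yh15 zh9) (kh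 xh1 yh15 zh19) (kh xh1 yh15 zh27) (kh xh2 yh15 zh13) (kh xh2 yh15 zh2) (kh xh2 yh15 zh16) (kh xh2 yh15 zh19) (kh xh1 yh15 zh23) (kh xh2 yh15 zh6) (kh xh2 yh15 zh22) (kh xh2 yh15 zh23) (kh xh1 yh15 zh25) (kh xh1 yh16 zh5) (kh xh2 yh15 zh27)) (@D3.rec (fun _ => Pt) (kh xh2 yh15 zh30) (kh xh1 yh15 zh28) (kh xh2 yh4 zh2) (kh xh2 yh16 zh2) (kh xh1 yh15 zh30) (kh xh2 yh16 zh6) (kh xh2 yh16 zh7) (kh xh1 yh15 zh31) (kh xh2 yh15 zh20) (kh xh2 yh16 zh10) (kh xh1 yh16 zh2) (kh xh1 yh16 zh3) (kh xh2 yh15 zh24) (kh xh2 yh16 zh16) (kh xh2 yh16 zh19) (kh xh1 yh16 zh6) (kh xh2 yh4 zh16) (kh xh2 yh16 zh23) (kh xh1 yh16 zh8) (kh xh2 yh16 zh27) (kh xh2 yh16 zh28) (kh xh1 yh16 zh9) (kh xh1 yh16 zh25) (kh xh2 yh16 zh30) (kh xh1 yh16 zh12) (kh xh1 yh16 zh13) (kh xh1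 yh16 zh29) (kh xh2 yh17 zh3) (kh xh2 yh17 zh6) (kh xh1 yh16 zh16) (kh xh2 yh17 zh10) (kh xh2 yh17 zh11)) (@D3.rec (fun _ => Pt) (kh xh1 yh16 zh17) (kh xh2 yh16 zh20) (kh xh2 yh17 zh15) (kh xh2 yh17 zh16) (kh xh1 yh16 zh20) (kh xh1 yh20 zh5) (kh xh2 yh16 zh25) (kh xh2 yh17 zh22) (kh xh1 yh16 zh22) (kh xh1 yh16 zh23) (kh xh2 yh16 zh29) (kh xh2 yh16 zh31) (kh xh1 yh16 zh26) (kh xh1 yh17 zh23) (kh xh2 yh17 zh0) (kh xh2 yh17 zh1) (kh xh2 yh17 zh30) (kh xh2 yh18 zh1) (kh xh1 yh16 zh30) (kh xh2 yh18 zh5) (kh xh2 yh14 zh20) (kh xh1 yh16 zh31) (kh xh1 yh17 zh16) (kh xh2 yh18 zh8) (kh xh2 yh14 zh26) (kh xh1 yh17 zh2) (kh xh1 yh20 zh20) (kh xh1 yh17 zh20) (kh xh2 yh14 zh28) (kh xh1 yh17 zh4) (kh xh2 yh18 zh13) (kh xh1 yh17 zh10)) (@D3.rec (fun _ => Pt) (kh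 xh2 yh18 zh17) (kh xh2 yh1 zh18) (kh xh1 yh17 zh11) (kh xh2 yh18 zh3) (kh xh2 yh1 zh19) (kh xh1 yh17 zh13) (kh xh2 yh18 zh20) (kh xh2 yh1 zh20) (kh xh1 yh17 zh17) (kh xh2 yh17 zh23) (kh xh2 yh17 zh27) (kh xh2 yh18 zh26) (kh xh1 yh17 zh24) (kh xh2 yh18 zh29) (kh xh2 yh18 zh30) (kh xh1 yh17 zh25) (kh xh1 yh21 zh3) (kh xh2 yh6 zh17) (kh xh1 yh17 zh27) (kh xh1 yh17 zh28) (kh xh2 yh6 zh20) (kh xh1 yh17 zh31) (kh xh1 yh18 zh0) (kh xh1 yh21 zh8) (kh xh2 yh6 zh24) (kh xh1 yh21 zh10) (kh xh2 yh19 zh14) (kh xh1 yh18 zh11) (kh xh2 yh6 zh28) (kh xh2 yh6 zh29) (kh xh1 yh18 zh12) (kh xh2 yh14 zh9)) (@D3.rec (fun _ => Pt) (kh xh2 yh19 zh3) (kh xh2 yh19 zh15) (kh xh2 yh19 zh17) (kh xh2 yh7 zh3) (kh xh2 yh7 zh4) (kh xh2 yh0 zh21) (kh xh2 yh7 zh6) (kh xh2 yh19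 zh27) (kh xh1 yh18 zh26) (kh xh2 yh19 zh30) (kh xh1 yh20 zh21) (kh xh1 yh18 zh20) (kh xh1 yh18 zh30) (kh xh2 yh20 zh1) (kh xh2 yh20 zh4) (kh xh1 yh18 zh25) (kh xh2 yh19 zh28) (kh xh2 yh20 zh8) (kh xh1 yh18 zh27) (kh xh1 yh19 zh24) (kh xh1 yh19 zh23) (kh xh1 yh18 zh28) (kh xh1 yh19 zh12) (kh xh2 yh20 zh12) (kh xh2 yh20 zh15) (kh xh1 yh19 zh3) (kh xh2 yh20 zh19) (kh xh2 yh20 zh20) (kh xh1 yh19 zh4) (kh xh2 yh20 zh5) (kh xh2 yh20 zh24) (kh xh2 yh20 zh25)) (@D3.rec (fun _ => Pt) (kh xh1 yh19 zh7) (kh xh2 yh16 zh3) (kh xh2 yh20 zh10) (kh xh1 yh20 zh10) (kh xh1 yh19 zh9) (kh xh1 yh19 zh10) (kh xh1 yh20 zh7) (kh xh2 yh20 zh31) (kh xh2 yh21 zh2) (kh xh1 yh19 zh17) (kh xh2 yh20 zh3) (kh xh2 yh20 zh2) (kh xh1 yh19 zh18) (kh xh1 yh20 zh1) (kh xh2 yh20 zh7)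 (kh xh2 yh20 zh6) (kh xh1 yh19 zh21) (kh xh2 yh16 zh24) (kh xh1 yh20 zh6) (kh xh2 yh21 zh11) (kh xh1 yh19 zh27) (kh xh2 yh21 zh16) (kh xh2 yh21 zh17) (kh xh1 yh19 zh28) (kh xh2 yh17 zh7) (kh xh2 yh21 zh4) (kh xh2 yh20 zh21) (kh xh1 yh19 zh30) (kh xh1 yh19 zh31) (kh xh2 yh20 zh18) (kh xh2 yh21 zh23) (kh xh2 yh20 zh27)) (@D3.rec (fun _ => Pt) (kh xh1 yh20 zh2) (kh xh1 yh20 zh3) (kh xh2 yh17 zh17) (kh xh2 yh20 zh23) (kh xh2 yh17 zh19) (kh xh2 yh21 zh30) (kh xh3 yh0 zh1) (kh xh1 yh20 zh11) (kh xh3 yh0 zh5) (kh xh3 yh0 zh6) (kh xh1 yh20 zh12) (kh xh2 yh18 zh2) (kh xh2 yh19 zh26) (kh xh1 yh20 zh14) (kh xh1 yh20 zh15) (kh xh3 yh0 zh10) (kh xh2 yh19 zh29) (kh xh1 yh20 zh17) (kh xh1 yh20 zh18) (kh xh2 yh18 zh9) (kh xh2 yh0 zh29) (kh xh2 yh9 zh21) (kh xh2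 yh9 zh22) (kh xh3 yh0 zh18) (kh xh2 yh9 zh24) (kh xh2 yh9 zh25) (kh xh3 yh0 zh21) (kh xh1 yh20 zh28) (kh xh2 yh9 zh28) (kh xh3 yh0 zh23) (kh xh1 yh20 zh31) (kh xh2 yh18 zh27)) (@D3.rec (fun _ => Pt) (kh xh2 yh10 zh0) (kh xh1 yh21 zh1) (kh xh2 yh18 zh31) (kh xh2 yh10 zh3) (kh xh2 yh19 zh1) (kh xh3 yh1 zh3) (kh xh2 yh10 zh6) (kh xh2 yh19 zh8) (kh xh2 yh10 zh8) (kh xh2 yh19 zh10) (kh xh3 yh1 zh8) (kh xh2 yh19 zh12) (kh xh3 yh1 zh11) (kh xh1 yh21 zh11) (kh xh2 yh10 zh14) (kh xh2 yh10 zh15) (kh xh3 yh1 zh16) (kh xh2 yh10 zh17) (kh xh3 yh1 zh19) (kh xh1 yh21 zh16) (kh xh2 yh10 zh20) (kh xh3 yh1 zh21) (kh xh1 yh21 zh18) (kh xh3 yh1 zh24) (kh xh1 yh21 zh21) (kh xh1 yh21 zh30) (kh xh1 yh21 zh22) (kh xh2 yh10 zh27) (kh xh2 yh0 zh19) (kh xh2 yh10 zh29) (kh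 xh3 yh1 zh23) (kh xh1 yh21 zh29)) (@D3.rec (fun _ => Pt) (kh xh2 yh14 zh16) (kh xh2 yh0 zh11) (kh xh2 yh1 zh17) (kh xh3 yh2 zh0) (kh xh3 yh2 zh1) (kh xh2 yh0 zh6) (kh xh3 yh1 zh29) (kh xh2 yh11 zh7) (kh xh3 yh2 zh7) (kh xh2 yh0 zh8) (kh xh2 yh0 zh9) (kh xh3 yh1 zh26) (kh xh2 yh0 zh26) (kh xh2 yh19 zh22) (kh xh2 yh0 zh12) (kh xh2 yh11 zh15) (kh xh2 yh11 zh16) (kh xh2 yh19 zh24) (kh xh2 yh0 zh16) (kh xh2 yh14 zh27) (kh xh3 yh2 zh4) (kh xh2 yh11 zh21) (kh xh3 yh0 zh8) (kh xh2 yh11 zh23) (kh xh3 yh0 zh14) (kh xh3 yh2 zh17) (kh xh3 yh2 zh19) (kh xh2 yh0 zh31) (kh xh3 yh2 zh22) (kh xh2 yh1 zh1) (kh xh3 yh2 zh25) (kh xh2 yh1 zh2)) (@D3.rec (fun _ => Pt) (kh xh2 yh13 zh16) (kh xh2 yh1 zh4) (kh xh2 yh13 zh20) (kh xh3 yh2 zh30) (kh xh3 yh3 zh0) (kh xh2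 yh1 zh7) (kh xh3 yh3 zh3) (kh xh2 yh1 zh8) (kh xh2 yh13 zh27) (kh xh3 yh3 zh6) (kh xh2 yh1 zh10) (kh xh2 yh12 zh11) (kh xh2 yh14 zh0) (kh xh2 yh1 zh12) (kh xh2 yh14 zh4) (kh xh2 yh14 zh8) (kh xh2 yh18 zh12) (kh xh2 yh18 zh16) (kh xh3 yh3 zh14) (kh xh3 yh3 zh15) (kh xh2 yh1 zh21) (kh xh2 yh1 zh22) (kh xh2 yh12 zh22) (kh xh2 yh12 zh23) (kh xh2 yh12 zh24) (kh xh2 yh12 zh25) (kh xh2 yh12 zh26) (kh xh2 yh12 zh27) (kh xh3 yh3 zh26) (kh xh3 yh3 zh29) (kh xh2 yh2 zh5) (kh xh3 yh4 zh0)) (@D3.rec (fun _ => Pt) (kh xh3 yh4 zh3) (kh xh2 yh1 zh31) (kh xh2 yh2 zh9) (kh xh3 yh4 zh6) (kh xh3 yh4 zh7) (kh xh2 yh2 zh1) (kh xh2 yh13 zh6) (kh xh3 yh4 zh11) (kh xh3 yh4 zh14) (kh xh2 yh2 zh4) (kh xh3 yh3 zh30) (kh xh3 yh4 zh18) (kh xh2 yh2 zh6) (kh xh3 yh4 zh22) (kh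 xh3 yh4 zh23) (kh xh2 yh2 zh7) (kh xh2 yh12 zh0) (kh xh3 yh4 zh26) (kh xh2 yh2 zh10) (kh xh2 yh2 zh11) (kh xh2 yh12 zh2) (kh xh3 yh4 zh31) (kh xh3 yh5 zh2) (kh xh2 yh2 zh14) (kh xh3 yh5 zh6) (kh xh3 yh5 zh7) (kh xh2 yh2 zh15) (kh xh2 yh12 zh8) (kh xh3 yh5 zh11) (kh xh3 yh5 zh12) (kh xh2 yh2 zh18) (kh xh2 yh13 zh31)) (@D3.rec (fun _ => Pt) (kh xh2 yh12 zh12) (kh xh3 yh5 zh18) (kh xh2 yh2 zh20) (kh xh2 yh2 zh21) (kh xh2 yh12 zh14) (kh xh3 yh5 zh22) (kh xh2 yh2 zh24) (kh xh2 yh3 zh14) (kh xh2 yh12 zh15) (kh xh2 yh6 zh31) (kh xh3 yh5 zh29) (kh xh2 yh2 zh28) (kh xh3 yh6 zh2) (kh xh3 yh6 zh3) (kh xh2 yh2 zh29) (kh xh2 yh14 zh15) (kh xh2 yh11 zh0) (kh xh3 yh6 zh8) (kh xh2 yh2 zh31) (kh xh2 yh3 zh0) (kh xh2 yh5 zh20) (kh xh3 yh6 zh11) (kh xh3 yh6 zh13)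 (kh xh2 yh3 zh3) (kh xh2 yh3 zh4) (kh xh2 yh14 zh25) (kh xh2 yh5 zh24) (kh xh2 yh11 zh19) (kh xh2 yh5 zh28) (kh xh2 yh3 zh8) (kh xh3 yh5 zh19) (kh xh3 yh5 zh23)) (@D3.rec (fun _ => Pt) (kh xh3 yh5 zh25) (kh xh3 yh6 zh24) (kh xh2 yh3 zh22) (kh xh3 yh6 zh27) (kh xh3 yh6 zh30) (kh xh2 yh3 zh16) (kh xh2 yh3 zh26) (kh xh3 yh7 zh1) (kh xh3 yh7 zh2) (kh xh2 yh3 zh18) (kh xh2 yh15 zh10) (kh xh3 yh7 zh6) (kh xh3 yh7 zh9) (kh xh2 yh3 zh21) (kh xh3 yh6 zh25) (kh xh3 yh7 zh13) (kh xh2 yh3 zh23) (kh xh3 yh7 zh17) (kh xh3 yh7 zh18) (kh xh2 yh3 zh24) (kh xh2 yh4 zh8) (kh xh3 yh7 zh20) (kh xh2 yh3 zh27) (kh xh2 yh3 zh28) (kh xh2 yh4 zh12) (kh xh3 yh7 zh25) (kh xh3 yh7 zh28) (kh xh2 yh3 zh31) (kh xh3 yh8 zh0) (kh xh3 yh8 zh1) (kh xh2 yh4 zh0) (kh xh3 yh7 zh10))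 (@D3.rec (fun _ => Pt) (kh xh3 yh8 zh5) (kh xh3 yh8 zh6) (kh xh2 yh4 zh3) (kh xh2 yh8 zh1) (kh xh3 yh7 zh15) (kh xh3 yh8 zh12) (kh xh2 yh4 zh5) (kh xh2 yh4 zh6) (kh xh3 yh7 zh19) (kh xh3 yh8 zh16) (kh xh2 yh4 zh9) (kh xh2 yh16 zh11) (kh xh3 yh7 zh22) (kh xh3 yh7 zh23) (kh xh3 yh8 zh22) (kh xh3 yh8 zh25) (kh xh2 yh4 zh13) (kh xh3 yh8 zh29) (kh xh3 yh8 zh30) (kh xh2 yh4 zh14) (kh xh2 yh5 zh1) (kh xh3 yh9 zh2) (kh xh3 yh9 zh3) (kh xh2 yh4 zh17) (kh xh2 yh8 zh17) (kh xh2 yh5 zh6) (kh xh3 yh9 zh8) (kh xh2 yh4 zh19) (kh xh2 yh4 zh20) (kh xh2 yh5 zh10) (kh xh2 yh4 zh23) (kh xh2 yh5 zh11)) (@D3.rec (fun _ => Pt) (kh xh2 yh5 zh14) (kh xh2 yh5 zh15) (kh xh3 yh9 zh16) (kh xh2 yh4 zh27) (kh xh3 yh9 zh21) (kh xh3 yh9 zh22) (kh xh2 yh4 zh28) (kh xh2 yh8 zh24)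 (kh xh3 yh8 zh27) (kh xh3 yh9 zh28) (kh xh2 yh4 zh30) (kh xh2 yh4 zh31) (kh xh3 yh8 zh31) (kh xh3 yh10 zh1) (kh xh3 yh10 zh3) (kh xh2 yh5 zh2) (kh xh2 yh5 zh3) (kh xh2 yh9 zh2) (kh xh3 yh9 zh5) (kh xh2 yh9 zh4) (kh xh3 yh10 zh12) (kh xh3 yh9 zh9) (kh xh2 yh5 zh7) (kh xh2 yh6 zh9) (kh xh3 yh9 zh10) (kh xh3 yh9 zh11) (kh xh3 yh9 zh12) (kh xh2 yh6 zh10) (kh xh3 yh5 zh24) (kh xh3 yh10 zh20) (kh xh2 yh5 zh16) (kh xh3 yh10 zh25)) (@D3.rec (fun _ => Pt) (kh xh3 yh6 zh5) (kh xh2 yh5 zh17) (kh xh2 yh9 zh11) (kh xh2 yh6 zh3) (kh xh3 yh6 zh7) (kh xh2 yh5 zh19) (kh xh3 yh10 zh29) (kh xh3 yh6 zh12) (kh xh2 yh5 zh23) (kh xh2 yh9 zh19) (kh xh2 yh18 zh10) (kh xh3 yh11 zh2) (kh xh2 yh12 zh16) (kh xh2 yh5 zh30) (kh xh3 yh10 zh22) (kh xh3 yh11 zh4) (kh xh2 yh12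 zh17) (kh xh2 yh6 zh0) (kh xh3 yh9 zh29) (kh xh3 yh11 zh7) (kh xh2 yh6 zh6) (kh xh3 yh11 zh8) (kh xh3 yh10 zh14) (kh xh3 yh10 zh16) (kh xh3 yh11 zh13) (kh xh3 yh11 zh14) (kh xh2 yh6 zh11) (kh xh2 yh9 zh31) (kh xh2 yh18 zh28) (kh xh2 yh6 zh13) (kh xh2 yh6 zh14) (kh xh2 yh10 zh2)) (@D3.rec (fun _ => Pt) (kh xh2 yh19 zh0) (kh xh2 yh10 zh4) (kh xh3 yh11 zh28) (kh xh2 yh7 zh0) (kh xh2 yh19 zh4) (kh xh2 yh19 zh5) (kh xh2 yh19 zh6) (kh xh2 yh19 zh7) (kh xh2 yh10 zh7) (kh xh2 yh19 zh9) (kh xh2 yh10 zh9) (kh xh3 yh12 zh6) (kh xh2 yh10 zh11) (kh xh3 yh12 zh9) (kh xh2 yh6 zh26) (kh xh2 yh7 zh1) (kh xh3 yh5 zh21) (kh xh2 yh7 zh2) (kh xh3 yh4 zh29) (kh xh3 yh11 zh29) (kh xh3 yh12 zh10) (kh xh3 yh12 zh12) (kh xh2 yh11 zh13) (kh xh2 yh19 zh23) (kh xh2 yh11 zh17)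 (kh xh3 yh12 zh19) (kh xh2 yh9 zh12) (kh xh2 yh7 zh7) (kh xh2 yh7 zh16) (kh xh2 yh9 zh16) (kh xh2 yh7 zh9) (kh xh3 yh12 zh22)) (@D3.rec (fun _ => Pt) (kh xh3 yh12 zh25) (kh xh2 yh7 zh13) (kh xh2 yh8 zh11) (kh xh2 yh8 zh10) (kh xh2 yh7 zh14) (kh xh2 yh7 zh29) (kh xh2 yh8 zh15) (kh xh2 yh8 zh14) (kh xh2 yh7 zh17) (kh xh3 yh7 zh14) (kh xh2 yh8 zh2) (kh xh3 yh13 zh2) (kh xh2 yh7 zh23) (kh xh3 yh13 zh7) (kh xh3 yh13 zh8) (kh xh2 yh7 zh24) (kh xh3 yh7 zh29) (kh xh3 yh12 zh27) (kh xh2 yh8 zh29) (kh xh2 yh7 zh26) (kh xh2 yh7 zh27) (kh xh2 yh8 zh26) (kh xh3 yh13 zh14) (kh xh2 yh9 zh3) (kh xh2 yh7 zh30) (kh xh2 yh7 zh31) (kh xh3 yh8 zh7) (kh xh2 yh8 zh31) (kh xh3 yh8 zh9) (kh xh3 yh13 zh21) (kh xh3 yh13 zh24) (kh xh2 yh8 zh7)) (@D3.rec (fun _ => Pt) (kh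 xh3 yh12 zh24) (kh xh3 yh12 zh23) (kh xh2 yh8 zh8) (kh xh3 yh8 zh26) (kh xh2 yh8 zh25) (kh xh3 yh13 zh31) (kh xh3 yh9 zh4) (kh xh3 yh9 zh6) (kh xh3 yh14 zh3) (kh xh3 yh14 zh6) (kh xh3 yh14 zh7) (kh xh2 yh8 zh19) (kh xh3 yh9 zh17) (kh xh3 yh13 zh26) (kh xh3 yh14 zh14) (kh xh3 yh13 zh10) (kh xh2 yh8 zh21) (kh xh2 yh8 zh22) (kh xh3 yh9 zh23) (kh xh3 yh13 zh6) (kh xh3 yh9 zh25) (kh xh3 yh14 zh21) (kh xh3 yh14 zh22) (kh xh2 yh8 zh30) (kh xh3 yh14 zh23) (kh xh3 yh10 zh6) (kh xh3 yh10 zh8) (kh xh3 yh14 zh29) (kh xh3 yh10 zh10) (kh xh3 yh15 zh0) (kh xh2 yh9 zh5) (kh xh3 yh15 zh3))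
def f_h_3 : D2 → D3 → Pt := @D2.rec (fun _ => D3 → Pt) (@D3.rec (fun _ => Pt) (kh xh3 yh15 zh4) (kh xh2 yh9 zh6) (kh xh3 yh10 zh21) (kh xh3 yh15 zh9) (kh xh3 yh12 zh18) (kh xh2 yh9 zh8) (kh xh2 yh9 zh9) (kh xh3 yh10 zh26) (kh xh2 yh11 zh22) (kh xh3 yh15 zh14) (kh xh2 yh9 zh15) (kh xh3 yh15 zh15) (kh xh3 yh6 zh17) (kh xh3 yh10 zh31) (kh xh2 yh11 zh24) (kh xh3 yh15 zh22) (kh xh3 yh0 zh16) (kh xh3 yh15 zh25) (kh xh2 yh9 zh23) (kh xh3 yh0 zh19) (kh xh3 yh15 zh28) (kh xh2 yh9 zh26) (kh xh3 yh15 zh16) (kh xh2 yh9 zh29) (kh xh3 yh11 zh15) (kh xh3 yh0 zh25) (kh xh3 yh11 zh17) (kh xh3 yh11 zh18) (kh xh3 yh16 zh7) (kh xh3 yh11 zh22) (kh xh3 yh0 zh30) (kh xh3 yh11 zh24)) (@D3.rec (fun _ => Pt) (kh xh3 yh16 zh12) (kh xh3 yh11 zh26) (kh xh3 yh16 zh15) (kh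 xh2 yh10 zh5) (kh xh3 yh12 zh2) (kh xh3 yh16 zh18) (kh xh3 yh12 zh4) (kh xh3 yh16 zh21) (kh xh2 yh10 zh10) (kh xh3 yh12 zh7) (kh xh3 yh16 zh23) (kh xh2 yh10 zh12) (kh xh3 yh1 zh12) (kh xh3 yh16 zh28) (kh xh3 yh1 zh14) (kh xh3 yh16 zh31) (kh xh2 yh10 zh16) (kh xh3 yh1 zh17) (kh xh3 yh17 zh1) (kh xh2 yh10 zh18) (kh xh3 yh17 zh3) (kh xh2 yh10 zh21) (kh xh3 yh16 zh24) (kh xh2 yh10 zh30) (kh xh2 yh10 zh23) (kh xh3 yh1 zh25) (kh xh2 yh11 zh11) (kh xh3 yh1 zh27) (kh xh3 yh5 zh31) (kh xh2 yh11 zh6) (kh xh3 yh1 zh30) (kh xh3 yh17 zh13)) (@D3.rec (fun _ => Pt) (kh xh2 yh11 zh3) (kh xh2 yh11 zh4) (kh xh3 yh17 zh6) (kh xh3 yh17 zh9) (kh xh2 yh11 zh20) (kh xh3 yh2 zh5) (kh xh3 yh12 zh16) (kh xh2 yh11 zh8) (kh xh3 yh6 zh6) (kh xh3 yh2 zh9) (kh xh3 yh17 zh16)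 (kh xh3 yh15 zh7) (kh xh3 yh2 zh12) (kh xh3 yh15 zh13) (kh xh3 yh15 zh19) (kh xh3 yh17 zh23) (kh xh3 yh17 zh25) (kh xh2 yh11 zh25) (kh xh3 yh17 zh28) (kh xh2 yh11 zh26) (kh xh3 yh4 zh15) (kh xh3 yh17 zh31) (kh xh2 yh11 zh28) (kh xh3 yh2 zh23) (kh xh3 yh4 zh20) (kh xh2 yh11 zh30) (kh xh3 yh4 zh24) (kh xh3 yh2 zh27) (kh xh3 yh4 zh28) (kh xh3 yh18 zh8) (kh xh2 yh12 zh3) (kh xh3 yh18 zh12)) (@D3.rec (fun _ => Pt) (kh xh2 yh12 zh4) (kh xh3 yh3 zh1) (kh xh3 yh5 zh4) (kh xh2 yh12 zh6) (kh xh3 yh5 zh8) (kh xh3 yh18 zh18) (kh xh2 yh12 zh9) (kh xh3 yh3 zh7) (kh xh3 yh5 zh14) (kh xh3 yh3 zh9) (kh xh3 yh18 zh25) (kh xh3 yh5 zh20) (kh xh3 yh11 zh1) (kh xh3 yh18 zh27) (kh xh2 yh12 zh18) (kh xh2 yh12 zh19) (kh xh3 yh3 zh16) (kh xh3 yh3 zh17) (kh xh3 yh3 zh18)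 (kh xh3 yh3 zh19) (kh xh3 yh3 zh20) (kh xh3 yh19 zh6) (kh xh3 yh3 zh22) (kh xh3 yh19 zh9) (kh xh3 yh3 zh24) (kh xh3 yh19 zh12) (kh xh2 yh12 zh28) (kh xh3 yh19 zh15) (kh xh3 yh19 zh18) (kh xh2 yh12 zh29) (kh xh2 yh13 zh10) (kh xh3 yh19 zh22)) (@D3.rec (fun _ => Pt) (kh xh2 yh12 zh31) (kh xh3 yh19 zh26) (kh xh3 yh19 zh27) (kh xh2 yh13 zh0) (kh xh3 yh4 zh4) (kh xh3 yh19 zh30) (kh xh2 yh13 zh3) (kh xh2 yh13 zh4) (kh xh3 yh4 zh8) (kh xh3 yh20 zh3) (kh xh3 yh20 zh6) (kh xh2 yh13 zh7) (kh xh3 yh20 zh10) (kh xh3 yh20 zh11) (kh xh2 yh13 zh8) (kh xh3 yh2 zh20) (kh xh3 yh20 zh15) (kh xh3 yh20 zh16) (kh xh2 yh13 zh11) (kh xh3 yh4 zh19) (kh xh3 yh2 zh24) (kh xh3 yh20 zh22) (kh xh2 yh13 zh13) (kh xh2 yh13 zh14) (kh xh3 yh2 zh26) (kh xh3 yh20 zh26) (kh xh2 yh13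 zh17) (kh xh3 yh4 zh27) (kh xh3 yh2 zh28) (kh xh2 yh19 zh18) (kh xh3 yh21 zh1) (kh xh2 yh13 zh21)) (@D3.rec (fun _ => Pt) (kh xh3 yh21 zh6) (kh xh3 yh21 zh7) (kh xh2 yh13 zh22) (kh xh3 yh5 zh3) (kh xh3 yh3 zh2) (kh xh3 yh21 zh13) (kh xh2 yh13 zh24) (kh xh2 yh13 zh25) (kh xh3 yh3 zh4) (kh xh3 yh21 zh18) (kh xh3 yh21 zh20) (kh xh2 yh13 zh28) (kh xh2 yh13 zh29) (kh xh3 yh5 zh13) (kh xh3 yh3 zh8) (kh xh3 yh5 zh15) (kh xh3 yh21 zh29) (kh xh3 yh21 zh30) (kh xh2 yh14 zh1) (kh xh2 yh14 zh30) (kh xh3 yh3 zh11) (kh xh2 yh19 zh16) (kh xh2 yh14 zh5) (kh xh2 yh14 zh31) (kh xh2 yh17 zh28) (kh xh2 yh15 zh0) (kh xh4 yh0 zh3) (kh xh4 yh0 zh10) (kh xh4 yh0 zh11) (kh xh2 yh14 zh10) (kh xh3 yh5 zh30) (kh xh3 yh1 zh28)) (@D3.rec (fun _ => Pt) (kh xh4 yh0 zh17) (kh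 xh4 yh0 zh19) (kh xh2 yh14 zh12) (kh xh2 yh14 zh13) (kh xh3 yh6 zh4) (kh xh2 yh18 zh0) (kh xh3 yh2 zh8) (kh xh2 yh18 zh4) (kh xh2 yh14 zh17) (kh xh3 yh21 zh14) (kh xh4 yh0 zh27) (kh xh2 yh14 zh21) (kh xh2 yh18 zh7) (kh xh2 yh14 zh22) (kh xh4 yh0 zh28) (kh xh3 yh6 zh15) (kh xh3 yh6 zh16) (kh xh3 yh0 zh12) (kh xh3 yh21 zh31) (kh xh4 yh0 zh1) (kh xh4 yh0 zh4) (kh xh4 yh0 zh6) (kh xh4 yh1 zh9) (kh xh4 yh1 zh12) (kh xh2 yh15 zh1) (kh xh2 yh15 zh14) (kh xh4 yh1 zh15) (kh xh2 yh15 zh3) (kh xh4 yh1 zh19) (kh xh4 yh1 zh20) (kh xh2 yh15 zh4) (kh xh3 yh6 zh31)) (@D3.rec (fun _ => Pt) (kh xh4 yh1 zh23) (kh xh2 yh15 zh7) (kh xh2 yh15 zh8) (kh xh3 yh7 zh3) (kh xh4 yh1 zh28) (kh xh4 yh1 zh31) (kh xh2 yh15 zh11) (kh xh4 yh2 zh3) (kh xh4 yh2 zh4) (kh xh2 yh15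 zh12) (kh xh2 yh15 zh31) (kh xh4 yh2 zh8) (kh xh4 yh2 zh9) (kh xh2 yh15 zh15) (kh xh2 yh20 zh9) (kh xh2 yh16 zh4) (kh xh4 yh2 zh14) (kh xh2 yh15 zh17) (kh xh2 yh15 zh18) (kh xh2 yh16 zh8) (kh xh2 yh15 zh21) (kh xh3 yh7 zh21) (kh xh2 yh16 zh12) (kh xh2 yh16 zh13) (kh xh4 yh2 zh24) (kh xh2 yh15 zh25) (kh xh4 yh2 zh29) (kh xh4 yh2 zh30) (kh xh2 yh15 zh26) (kh xh2 yh20 zh16) (kh xh4 yh2 zh1) (kh xh4 yh3 zh4)) (@D3.rec (fun _ => Pt) (kh xh2 yh15 zh28) (kh xh2 yh15 zh29) (kh xh4 yh2 zh5) (kh xh4 yh3 zh9) (kh xh4 yh3 zh11) (kh xh2 yh16 zh0) (kh xh2 yh16 zh1) (kh xh2 yh20 zh26) (kh xh4 yh2 zh11) (kh xh2 yh20 zh28) (kh xh4 yh3 zh20) (kh xh4 yh3 zh21) (kh xh2 yh16 zh5) (kh xh3 yh8 zh13) (kh xh4 yh2 zh16) (kh xh4 yh2 zh17) (kh xh2 yh16 zh9) (kh xh3 yh8 zh17)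 (kh xh4 yh2 zh19) (kh xh3 yh8 zh19) (kh xh4 yh3 zh30) (kh xh4 yh4 zh1) (kh xh2 yh16 zh14) (kh xh4 yh4 zh6) (kh xh4 yh4 zh7) (kh xh2 yh16 zh15) (kh xh2 yh21 zh3) (kh xh2 yh17 zh8) (kh xh4 yh4 zh12) (kh xh2 yh16 zh17) (kh xh2 yh16 zh18) (kh xh2 yh17 zh12)) (@D3.rec (fun _ => Pt) (kh xh4 yh4 zh17) (kh xh4 yh4 zh18) (kh xh2 yh16 zh21) (kh xh2 yh16 zh22) (kh xh2 yh21 zh6) (kh xh2 yh17 zh18) (kh xh2 yh21 zh7) (kh xh4 yh4 zh27) (kh xh2 yh16 zh26) (kh xh2 yh17 zh21) (kh xh2 yh17 zh24) (kh xh2 yh17 zh25) (kh xh2 yh17 zh26) (kh xh4 yh0 zh5) (kh xh4 yh5 zh1) (kh xh4 yh5 zh2) (kh xh2 yh17 zh2) (kh xh2 yh21 zh12) (kh xh4 yh4 zh3) (kh xh4 yh5 zh9) (kh xh4 yh5 zh11) (kh xh2 yh17 zh4) (kh xh2 yh17 zh5) (kh xh2 yh21 zh18) (kh xh4 yh4 zh9) (kh xh2 yh21 zh20) (kh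 xh4 yh5 zh20) (kh xh4 yh4 zh13) (kh xh2 yh17 zh9) (kh xh2 yh18 zh18) (kh xh4 yh4 zh14) (kh xh4 yh4 zh15)) (@D3.rec (fun _ => Pt) (kh xh4 yh5 zh25) (kh xh2 yh17 zh13) (kh xh4 yh4 zh29) (kh xh2 yh17 zh14) (kh xh4 yh5 zh26) (kh xh4 yh4 zh20) (kh xh2 yh21 zh25) (kh xh4 yh4 zh22) (kh xh2 yh21 zh26) (kh xh4 yh6 zh5) (kh xh2 yh21 zh28) (kh xh4 yh6 zh8) (kh xh2 yh17 zh20) (kh xh4 yh4 zh28) (kh xh2 yh18 zh22) (kh xh4 yh0 zh0) (kh xh2 yh18 zh23) (kh xh3 yh20 zh28) (kh xh4 yh6 zh15) (kh xh4 yh0 zh13) (kh xh2 yh17 zh29) (kh xh3 yh0 zh2) (kh xh2 yh18 zh14) (kh xh4 yh6 zh20) (kh xh4 yh0 zh18) (kh xh2 yh17 zh31) (kh xh3 yh0 zh7) (kh xh3 yh10 zh27) (kh xh4 yh6 zh23) (kh xh2 yh18 zh6) (kh xh4 yh6 zh24) (kh xh3 yh0 zh13)) (@D3.rec (fun _ => Pt) (kh xh4 yh6 zh29)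 (kh xh3 yh3 zh12) (kh xh2 yh18 zh11) (kh xh4 yh6 zh31) (kh xh2 yh18 zh15) (kh xh4 yh7 zh0) (kh xh4 yh5 zh22) (kh xh2 yh18 zh19) (kh xh2 yh18 zh21) (kh xh4 yh6 zh25) (kh xh4 yh7 zh5) (kh xh4 yh6 zh9) (kh xh4 yh6 zh11) (kh xh2 yh18 zh24) (kh xh2 yh18 zh25) (kh xh3 yh0 zh24) (kh xh3 yh11 zh16) (kh xh3 yh0 zh26) (kh xh3 yh0 zh27) (kh xh4 yh7 zh20) (kh xh3 yh11 zh20) (kh xh3 yh11 zh21) (kh xh3 yh0 zh29) (kh xh3 yh11 zh23) (kh xh3 yh0 zh31) (kh xh4 yh7 zh28) (kh xh3 yh1 zh1) (kh xh4 yh7 zh31) (kh xh2 yh19 zh2) (kh xh2 yh19 zh19) (kh xh3 yh21 zh16) (kh xh3 yh11 zh31)) (@D3.rec (fun _ => Pt) (kh xh3 yh12 zh0) (kh xh4 yh8 zh7) (kh xh3 yh1 zh4) (kh xh4 yh8 zh10) (kh xh3 yh1 zh6) (kh xh4 yh8 zh13) (kh xh2 yh19 zh11) (kh xh3 yh1 zh9) (kh xh4 yh8 zh15) (kh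 xh2 yh19 zh13) (kh xh2 yh19 zh20) (kh xh3 yh21 zh24) (kh xh2 yh19 zh21) (kh xh3 yh20 zh25) (kh xh4 yh8 zh0) (kh xh4 yh8 zh17) (kh xh3 yh2 zh6) (kh xh4 yh8 zh23) (kh xh3 yh0 zh4) (kh xh2 yh19 zh25) (kh xh4 yh1 zh16) (kh xh4 yh8 zh28) (kh xh2 yh19 zh31) (kh xh2 yh21 zh1) (kh xh2 yh21 zh0) (kh xh2 yh20 zh0) (kh xh4 yh2 zh0) (kh xh2 yh20 zh17) (kh xh4 yh4 zh21) (kh xh4 yh2 zh10) (kh xh4 yh2 zh12) (kh xh4 yh9 zh5)) (@D3.rec (fun _ => Pt) (kh xh4 yh9 zh8) (kh xh4 yh9 zh9) (kh xh2 yh20 zh11) (kh xh4 yh2 zh25) (kh xh4 yh8 zh30) (kh xh4 yh9 zh16) (kh xh2 yh21 zh19) (kh xh2 yh20 zh13) (kh xh2 yh20 zh14) (kh xh4 yh2 zh31) (kh xh2 yh21 zh15) (kh xh4 yh3 zh1) (kh xh4 yh9 zh23) (kh xh4 yh9 zh24) (kh xh2 yh20 zh22) (kh xh4 yh9 zh25) (kh xh4 yh3 zh14) (kh xh4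 yh3 zh16) (kh xh4 yh9 zh31) (kh xh4 yh3 zh18) (kh xh4 yh10 zh2) (kh xh2 yh20 zh29) (kh xh4 yh8 zh27) (kh xh4 yh8 zh26) (kh xh2 yh20 zh30) (kh xh4 yh4 zh2) (kh xh2 yh21 zh13) (kh xh4 yh10 zh8) (kh xh4 yh4 zh8) (kh xh4 yh4 zh10) (kh xh4 yh10 zh12) (kh xh2 yh21 zh5)) (@D3.rec (fun _ => Pt) (kh xh4 yh4 zh23) (kh xh4 yh4 zh25) (kh xh4 yh10 zh17) (kh xh2 yh21 zh8) (kh xh4 yh10 zh20) (kh xh4 yh9 zh11) (kh xh2 yh21 zh9) (kh xh2 yh21 zh10) (kh xh4 yh5 zh3) (kh xh4 yh9 zh7) (kh xh4 yh5 zh5) (kh xh4 yh5 zh6) (kh xh4 yh10 zh30) (kh xh4 yh10 zh31) (kh xh2 yh21 zh14) (kh xh4 yh11 zh0) (kh xh4 yh5 zh14) (kh xh4 yh5 zh16) (kh xh4 yh11 zh6) (kh xh4 yh5 zh18) (kh xh4 yh11 zh9) (kh xh2 yh21 zh21) (kh xh2 yh21 zh22) (kh xh2 yh21 zh24) (kh xh4 yh10 zh13) (kh xh4 yh11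 zh11) (kh xh4 yh6 zh1) (kh xh4 yh6 zh3) (kh xh4 yh11 zh17) (kh xh2 yh21 zh27) (kh xh4 yh6 zh6) (kh xh4 yh11 zh19)) (@D3.rec (fun _ => Pt) (kh xh2 yh21 zh29) (kh xh4 yh11 zh23) (kh xh4 yh8 zh22) (kh xh2 yh21 zh31) (kh xh3 yh0 zh0) (kh xh4 yh6 zh16) (kh xh4 yh6 zh17) (kh xh3 yh2 zh11) (kh xh4 yh11 zh30) (kh xh3 yh0 zh3) (kh xh4 yh11 zh31) (kh xh4 yh0 zh23) (kh xh4 yh6 zh22) (kh xh3 yh2 zh13) (kh xh3 yh0 zh9) (kh xh3 yh0 zh11) (kh xh3 yh0 zh22) (kh xh4 yh12 zh5) (kh xh4 yh1 zh2) (kh xh3 yh2 zh14) (kh xh4 yh12 zh9) (kh xh4 yh12 zh11) (kh xh3 yh0 zh15) (kh xh3 yh15 zh23) (kh xh4 yh12 zh14) (kh xh3 yh0 zh17) (kh xh4 yh12 zh0) (kh xh4 yh12 zh16) (kh xh3 yh0 zh20) (kh xh4 yh12 zh4) (kh xh4 yh7 zh11) (kh xh3 yh15 zh31)) (@D3.rec (fun _ => Pt) (kh xh4 yh7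 zh13) (kh xh4 yh7 zh14) (kh xh4 yh12 zh25) (kh xh4 yh7 zh16) (kh xh4 yh12 zh29) (kh xh4 yh7 zh18) (kh xh4 yh13 zh0) (kh xh3 yh0 zh28) (kh xh4 yh7 zh24) (kh xh4 yh13 zh3) (kh xh4 yh7 zh26) (kh xh4 yh13 zh6) (kh xh3 yh1 zh0) (kh xh4 yh7 zh29) (kh xh4 yh13 zh8) (kh xh3 yh1 zh2) (kh xh4 yh8 zh8) (kh xh4 yh13 zh12) (kh xh3 yh1 zh5) (kh xh4 yh8 zh11) (kh xh4 yh13 zh14) (kh xh3 yh1 zh7) (kh xh4 yh13 zh16) (kh xh3 yh1 zh10) (kh xh3 yh1 zh22) (kh xh4 yh13 zh20) (kh xh3 yh16 zh26) (kh xh4 yh13 zh24) (kh xh3 yh1 zh13) (kh xh3 yh16 zh29) (kh xh4 yh13 zh27) (kh xh3 yh1 zh15)) (@D3.rec (fun _ => Pt) (kh xh4 yh13 zh29) (kh xh3 yh1 zh18) (kh xh4 yh13 zh9) (kh xh3 yh1 zh20) (kh xh4 yh13 zh17) (kh xh4 yh13 zh18) (kh xh3 yh2 zh2) (kh xh3 yh17 zh7) (kh xh3 yh17 zh8)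 (kh xh3 yh2 zh3) (kh xh3 yh17 zh10) (kh xh3 yh17 zh11) (kh xh4 yh8 zh21) (kh xh3 yh1 zh31) (kh xh4 yh0 zh15) (kh xh4 yh14 zh0) (kh xh3 yh2 zh10) (kh xh3 yh17 zh17) (kh xh3 yh17 zh18) (kh xh4 yh11 zh28) (kh xh4 yh11 zh29) (kh xh4 yh12 zh3) (kh xh4 yh14 zh10) (kh xh3 yh2 zh15) (kh xh4 yh14 zh14) (kh xh3 yh2 zh16) (kh xh3 yh17 zh26) (kh xh3 yh20 zh8) (kh xh3 yh2 zh18) (kh xh3 yh20 zh12) (kh xh4 yh14 zh21) (kh xh3 yh2 zh21)) (@D3.rec (fun _ => Pt) (kh xh3 yh18 zh0) (kh xh3 yh20 zh18) (kh xh3 yh18 zh2) (kh xh4 yh14 zh28) (kh xh3 yh18 zh4) (kh xh3 yh20 zh24) (kh xh4 yh14 zh31) (kh xh4 yh15 zh1) (kh xh3 yh2 zh29) (kh xh3 yh18 zh9) (kh xh3 yh21 zh3) (kh xh4 yh15 zh7) (kh xh3 yh2 zh31) (kh xh3 yh18 zh13) (kh xh3 yh21 zh9) (kh xh3 yh18 zh15) (kh xh4 yh15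 zh14) (kh xh3 yh21 zh15) (kh xh3 yh3 zh5) (kh xh4 yh15 zh15) (kh xh3 yh21 zh22) (kh xh3 yh18 zh21) (kh xh4 yh15 zh21) (kh xh3 yh18 zh23) (kh xh4 yh15 zh24) (kh xh3 yh3 zh10) (kh xh4 yh15 zh26) (kh xh3 yh3 zh13) (kh xh4 yh0 zh29) (kh xh3 yh18 zh29) (kh xh3 yh18 zh30) (kh xh3 yh18 zh31)) (@D3.rec (fun _ => Pt) (kh xh3 yh19 zh0) (kh xh4 yh16 zh3) (kh xh3 yh19 zh2) (kh xh4 yh16 zh6) (kh xh3 yh19 zh4) (kh xh4 yh16 zh9) (kh xh3 yh3 zh21) (kh xh3 yh19 zh7) (kh xh4 yh16 zh12) (kh xh3 yh3 zh23) (kh xh3 yh19 zh10) (kh xh4 yh16 zh14) (kh xh3 yh3 zh25) (kh xh4 yh16 zh17) (kh xh4 yh16 zh20) (kh xh3 yh3 zh27) (kh xh4 yh16 zh24) (kh xh4 yh16 zh25) (kh xh3 yh3 zh28) (kh xh3 yh19 zh19) (kh xh4 yh16 zh27) (kh xh4 yh16 zh28) (kh xh3 yh3 zh31) (kh xh3 yh19 zh23)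 (kh xh3 yh19 zh24) (kh xh4 yh17 zh1) (kh xh3 yh4 zh1) (kh xh3 yh4 zh2) (kh xh3 yh19 zh28) (kh xh4 yh17 zh5) (kh xh3 yh4 zh5) (kh xh3 yh19 zh31)) (@D3.rec (fun _ => Pt) (kh xh3 yh20 zh0) (kh xh3 yh20 zh1) (kh xh4 yh17 zh12) (kh xh3 yh4 zh9) (kh xh4 yh17 zh17) (kh xh4 yh17 zh18) (kh xh3 yh4 zh10) (kh xh3 yh20 zh7) (kh xh3 yh17 zh27) (kh xh4 yh17 zh24) (kh xh3 yh4 zh12) (kh xh3 yh4 zh13) (kh xh3 yh17 zh29) (kh xh4 yh17 zh29) (kh xh4 yh17 zh31) (kh xh3 yh4 zh16) (kh xh3 yh4 zh17) (kh xh3 yh20 zh17) (kh xh3 yh18 zh1) (kh xh3 yh20 zh19) (kh xh4 yh18 zh8) (kh xh4 yh18 zh9) (kh xh3 yh4 zh21) (kh xh3 yh20 zh23) (kh xh3 yh18 zh5) (kh xh3 yh12 zh13) (kh xh3 yh4 zh25) (kh xh3 yh20 zh27) (kh xh3 yh10 zh17) (kh xh3 yh20 zh29) (kh xh4 yh18 zh20) (kh xh4 yh18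 zh23)) (@D3.rec (fun _ => Pt) (kh xh4 yh18 zh24) (kh xh3 yh4 zh30) (kh xh3 yh21 zh2) (kh xh3 yh18 zh10) (kh xh4 yh18 zh31) (kh xh4 yh19 zh1) (kh xh3 yh5 zh0) (kh xh3 yh5 zh1) (kh xh3 yh21 zh8) (kh xh3 yh18 zh14) (kh xh3 yh21 zh10) (kh xh4 yh19 zh10) (kh xh4 yh19 zh11) (kh xh3 yh5 zh5) (kh xh3 yh6 zh9) (kh xh3 yh18 zh17) (kh xh3 yh11 zh30) (kh xh4 yh19 zh17) (kh xh3 yh5 zh9) (kh xh4 yh19 zh20) (kh xh3 yh5 zh10) (kh xh4 yh19 zh18) (kh xh3 yh18 zh20) (kh xh3 yh21 zh23) (kh xh3 yh12 zh11) (kh xh3 yh21 zh25) (kh xh4 yh19 zh30) (kh xh3 yh21 zh27) (kh xh4 yh20 zh1) (kh xh3 yh5 zh16) (kh xh3 yh5 zh17) (kh xh3 yh6 zh18))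
def f_h_4 : D2 → D3 → Pt := @D2.rec (fun _ => D3 → Pt) (@D3.rec (fun _ => Pt) (kh xh3 yh10 zh15) (kh xh3 yh6 zh19) (kh xh4 yh20 zh2) (kh xh3 yh5 zh26) (kh xh3 yh6 zh20) (kh xh3 yh9 zh13) (kh xh3 yh6 zh21) (kh xh4 yh18 zh15) (kh xh4 yh20 zh13) (kh xh4 yh20 zh15) (kh xh3 yh5 zh27) (kh xh3 yh5 zh28) (kh xh4 yh0 zh12) (kh xh3 yh10 zh19) (kh xh4 yh0 zh14) (kh xh3 yh17 zh14) (kh xh4 yh20 zh23) (kh xh3 yh6 zh0) (kh xh3 yh10 zh24) (kh xh3 yh6 zh1) (kh xh4 yh20 zh24) (kh xh4 yh0 zh21) (kh xh4 yh0 zh22) (kh xh3 yh15 zh11) (kh xh4 yh19 zh12) (kh xh4 yh19 zh14) (kh xh4 yh21 zh2) (kh xh3 yh6 zh10) (kh xh3 yh6 zh14) (kh xh3 yh18 zh28) (kh xh4 yh21 zh3) (kh xh4 yh21 zh5)) (@D3.rec (fun _ => Pt) (kh xh4 yh21 zh6) (kh xh4 yh1 zh1) (kh xh3 yh15 zh18) (kh xh4 yh20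 zh3) (kh xh4 yh20 zh5) (kh xh4 yh20 zh7) (kh xh4 yh20 zh9) (kh xh4 yh21 zh16) (kh xh4 yh21 zh18) (kh xh3 yh6 zh22) (kh xh4 yh21 zh22) (kh xh4 yh21 zh23) (kh xh3 yh6 zh23) (kh xh4 yh1 zh13) (kh xh4 yh21 zh25) (kh xh3 yh6 zh26) (kh xh3 yh12 zh20) (kh xh4 yh1 zh17) (kh xh4 yh21 zh30) (kh xh3 yh6 zh28) (kh xh3 yh6 zh29) (kh xh4 yh1 zh21) (kh xh5 yh0 zh2) (kh xh3 yh7 zh0) (kh xh4 yh1 zh24) (kh xh4 yh1 zh25) (kh xh4 yh1 zh26) (kh xh5 yh0 zh9) (kh xh3 yh7 zh4) (kh xh5 yh0 zh14) (kh xh5 yh0 zh15) (kh xh3 yh7 zh5)) (@D3.rec (fun _ => Pt) (kh xh3 yh12 zh26) (kh xh3 yh7 zh30) (kh xh5 yh0 zh20) (kh xh3 yh7 zh7) (kh xh3 yh7 zh8) (kh xh3 yh8 zh2) (kh xh5 yh0 zh24) (kh xh5 yh0 zh25) (kh xh3 yh7 zh11) (kh xh3 yh7 zh12) (kh xh3 yh12 zh29) (kh xh3 yh8 zh8) (kh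 xh3 yh12 zh30) (kh xh5 yh1 zh1) (kh xh3 yh7 zh16) (kh xh4 yh2 zh15) (kh xh3 yh8 zh14) (kh xh3 yh8 zh15) (kh xh4 yh2 zh18) (kh xh3 yh8 zh18) (kh xh4 yh2 zh20) (kh xh5 yh1 zh9) (kh xh5 yh1 zh12) (kh xh5 yh1 zh13) (kh xh3 yh7 zh24) (kh xh3 yh13 zh3) (kh xh5 yh0 zh11) (kh xh5 yh1 zh20) (kh xh5 yh1 zh22) (kh xh3 yh7 zh26) (kh xh3 yh7 zh27) (kh xh3 yh13 zh9)) (@D3.rec (fun _ => Pt) (kh xh5 yh0 zh17) (kh xh3 yh13 zh11) (kh xh5 yh1 zh31) (kh xh5 yh2 zh0) (kh xh3 yh7 zh31) (kh xh4 yh3 zh5) (kh xh5 yh0 zh22) (kh xh5 yh0 zh23) (kh xh5 yh2 zh6) (kh xh3 yh8 zh3) (kh xh5 yh2 zh9) (kh xh3 yh8 zh4) (kh xh5 yh2 zh7) (kh xh5 yh0 zh27) (kh xh3 yh13 zh16) (kh xh5 yh0 zh28) (kh xh3 yh13 zh17) (kh xh5 yh2 zh19) (kh xh3 yh13 zh19) (kh xh5 yh2 zh22) (kh xh3 yh8 zh10)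 (kh xh3 yh8 zh11) (kh xh4 yh3 zh22) (kh xh5 yh1 zh3) (kh xh4 yh3 zh24) (kh xh5 yh2 zh28) (kh xh4 yh20 zh8) (kh xh5 yh2 zh29) (kh xh4 yh3 zh28) (kh xh5 yh3 zh0) (kh xh3 yh8 zh20) (kh xh5 yh3 zh3)) (@D3.rec (fun _ => Pt) (kh xh5 yh3 zh4) (kh xh3 yh8 zh21) (kh xh3 yh13 zh25) (kh xh3 yh9 zh18) (kh xh5 yh3 zh11) (kh xh5 yh3 zh12) (kh xh3 yh8 zh23) (kh xh3 yh8 zh24) (kh xh3 yh13 zh28) (kh xh3 yh9 zh24) (kh xh3 yh13 zh29) (kh xh5 yh3 zh21) (kh xh3 yh8 zh28) (kh xh3 yh9 zh27) (kh xh3 yh9 zh30) (kh xh3 yh9 zh31) (kh xh5 yh0 zh29) (kh xh3 yh9 zh0) (kh xh3 yh9 zh1) (kh xh5 yh3 zh25) (kh xh3 yh10 zh5) (kh xh3 yh12 zh28) (kh xh3 yh10 zh7) (kh xh3 yh14 zh0) (kh xh5 yh4 zh3) (kh xh3 yh14 zh1) (kh xh5 yh4 zh6) (kh xh3 yh9 zh7) (kh xh3 yh10 zh13) (kh xh3 yh10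 zh2) (kh xh4 yh20 zh4) (kh xh5 yh4 zh10)) (@D3.rec (fun _ => Pt) (kh xh5 yh4 zh12) (kh xh3 yh9 zh14) (kh xh3 yh9 zh15) (kh xh3 yh14 zh8) (kh xh5 yh3 zh6) (kh xh3 yh14 zh10) (kh xh3 yh14 zh11) (kh xh5 yh4 zh24) (kh xh5 yh4 zh26) (kh xh3 yh9 zh19) (kh xh5 yh3 zh23) (kh xh3 yh9 zh20) (kh xh5 yh4 zh27) (kh xh5 yh3 zh14) (kh xh3 yh14 zh16) (kh xh5 yh3 zh16) (kh xh3 yh14 zh17) (kh xh5 yh5 zh6) (kh xh3 yh14 zh19) (kh xh5 yh5 zh9) (kh xh3 yh9 zh26) (kh xh5 yh3 zh22) (kh xh3 yh11 zh6) (kh xh4 yh19 zh13) (kh xh5 yh5 zh13) (kh xh3 yh10 zh0) (kh xh3 yh10 zh4) (kh xh5 yh3 zh26) (kh xh5 yh5 zh14) (kh xh5 yh3 zh28) (kh xh5 yh5 zh16) (kh xh5 yh5 zh17)) (@D3.rec (fun _ => Pt) (kh xh5 yh5 zh26) (kh xh3 yh14 zh26) (kh xh5 yh5 zh29) (kh xh3 yh14 zh27) (kh xh5 yh6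 zh0) (kh xh3 yh10 zh9) (kh xh3 yh14 zh30) (kh xh5 yh6 zh2) (kh xh3 yh10 zh11) (kh xh3 yh11 zh11) (kh xh4 yh19 zh22) (kh xh3 yh11 zh12) (kh xh4 yh18 zh11) (kh xh5 yh6 zh9) (kh xh4 yh20 zh14) (kh xh3 yh10 zh18) (kh xh3 yh15 zh5) (kh xh3 yh15 zh6) (kh xh4 yh6 zh18) (kh xh5 yh6 zh14) (kh xh3 yh10 zh23) (kh xh5 yh6 zh15) (kh xh3 yh15 zh12) (kh xh3 yh10 zh28) (kh xh3 yh10 zh30) (kh xh3 yh11 zh9) (kh xh5 yh6 zh19) (kh xh5 yh6 zh22) (kh xh5 yh6 zh23) (kh xh3 yh11 zh0) (kh xh5 yh6 zh24) (kh xh3 yh11 zh3)) (@D3.rec (fun _ => Pt) (kh xh3 yh11 zh5) (kh xh5 yh6 zh16) (kh xh5 yh6 zh28) (kh xh5 yh5 zh10) (kh xh5 yh6 zh18) (kh xh3 yh11 zh10) (kh xh4 yh21 zh4) (kh xh5 yh7 zh0) (kh xh5 yh6 zh4) (kh xh4 yh7 zh9) (kh xh4 yh7 zh10) (kh xh3 yh15 zh30) (kh xh4 yh7 zh12)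 (kh xh3 yh16 zh0) (kh xh3 yh16 zh1) (kh xh5 yh7 zh13) (kh xh3 yh16 zh3) (kh xh5 yh7 zh17) (kh xh3 yh16 zh5) (kh xh5 yh7 zh20) (kh xh3 yh11 zh19) (kh xh4 yh7 zh21) (kh xh4 yh7 zh22) (kh xh5 yh7 zh26) (kh xh3 yh16 zh8) (kh xh5 yh7 zh29) (kh xh3 yh16 zh10) (kh xh5 yh8 zh0) (kh xh3 yh11 zh25) (kh xh3 yh16 zh13) (kh xh5 yh8 zh2) (kh xh3 yh11 zh27)) (@D3.rec (fun _ => Pt) (kh xh3 yh12 zh14) (kh xh4 yh19 zh5) (kh xh4 yh8 zh2) (kh xh4 yh8 zh3) (kh xh5 yh8 zh11) (kh xh4 yh8 zh5) (kh xh5 yh8 zh14) (kh xh3 yh12 zh1) (kh xh3 yh16 zh16) (kh xh5 yh8 zh17) (kh xh3 yh12 zh3) (kh xh3 yh16 zh19) (kh xh5 yh8 zh19) (kh xh3 yh12 zh5) (kh xh5 yh8 zh21) (kh xh3 yh12 zh8) (kh xh4 yh8 zh16) (kh xh3 yh12 zh15) (kh xh4 yh18 zh3) (kh xh4 yh17 zh27) (kh xh5 yh8 zh4) (kh xh3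 yh17 zh12) (kh xh3 yh15 zh2) (kh xh3 yh12 zh17) (kh xh4 yh21 zh19) (kh xh4 yh21 zh27) (kh xh3 yh13 zh23) (kh xh3 yh13 zh22) (kh xh3 yh12 zh21) (kh xh5 yh0 zh10) (kh xh3 yh13 zh4) (kh xh5 yh3 zh15)) (@D3.rec (fun _ => Pt) (kh xh5 yh0 zh16) (kh xh5 yh0 zh18) (kh xh5 yh9 zh2) (kh xh5 yh0 zh31) (kh xh5 yh9 zh3) (kh xh3 yh12 zh31) (kh xh5 yh9 zh6) (kh xh3 yh14 zh9) (kh xh3 yh13 zh0) (kh xh3 yh13 zh1) (kh xh5 yh1 zh14) (kh xh3 yh14 zh5) (kh xh5 yh1 zh16) (kh xh5 yh1 zh17) (kh xh5 yh9 zh16) (kh xh5 yh9 zh17) (kh xh3 yh13 zh5) (kh xh5 yh9 zh18) (kh xh5 yh1 zh25) (kh xh5 yh1 zh27) (kh xh5 yh9 zh24) (kh xh5 yh1 zh29) (kh xh5 yh9 zh27) (kh xh3 yh13 zh12) (kh xh3 yh13 zh13) (kh xh3 yh13 zh15) (kh xh5 yh4 zh0) (kh xh5 yh9 zh28) (kh xh5 yh2 zh15) (kh xh5 yh2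 zh17) (kh xh5 yh10 zh1) (kh xh3 yh13 zh18)) (@D3.rec (fun _ => Pt) (kh xh5 yh2 zh20) (kh xh5 yh10 zh3) (kh xh3 yh13 zh20) (kh xh5 yh10 zh6) (kh xh5 yh3 zh5) (kh xh5 yh3 zh7) (kh xh5 yh3 zh8) (kh xh5 yh10 zh13) (kh xh3 yh13 zh27) (kh xh5 yh3 zh17) (kh xh5 yh3 zh19) (kh xh5 yh10 zh18) (kh xh3 yh13 zh30) (kh xh3 yh14 zh24) (kh xh5 yh4 zh1) (kh xh5 yh4 zh4) (kh xh5 yh10 zh20) (kh xh3 yh14 zh2) (kh xh5 yh10 zh23) (kh xh5 yh10 zh24) (kh xh3 yh14 zh4) (kh xh5 yh10 zh25) (kh xh5 yh4 zh15) (kh xh5 yh4 zh17) (kh xh5 yh4 zh18) (kh xh5 yh11 zh3) (kh xh5 yh4 zh20) (kh xh5 yh11 zh7) (kh xh5 yh4 zh22) (kh xh5 yh11 zh10) (kh xh3 yh14 zh12) (kh xh3 yh14 zh13)) (@D3.rec (fun _ => Pt) (kh xh3 yh14 zh15) (kh xh5 yh10 zh14) (kh xh5 yh11 zh12) (kh xh5 yh5 zh2) (kh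 xh5 yh5 zh4) (kh xh5 yh11 zh18) (kh xh3 yh14 zh18) (kh xh5 yh5 zh7) (kh xh5 yh11 zh20) (kh xh3 yh14 zh20) (kh xh5 yh0 zh30) (kh xh3 yh14 zh25) (kh xh5 yh2 zh16) (kh xh5 yh11 zh22) (kh xh5 yh5 zh27) (kh xh5 yh5 zh30) (kh xh5 yh11 zh27) (kh xh3 yh14 zh28) (kh xh5 yh11 zh29) (kh xh3 yh14 zh31) (kh xh4 yh11 zh20) (kh xh5 yh12 zh1) (kh xh5 yh12 zh2) (kh xh3 yh15 zh1) (kh xh5 yh12 zh3) (kh xh4 yh20 zh20) (kh xh5 yh6 zh11) (kh xh5 yh6 zh12) (kh xh3 yh17 zh19) (kh xh3 yh17 zh20) (kh xh3 yh15 zh8) (kh xh3 yh15 zh10)) (@D3.rec (fun _ => Pt) (kh xh3 yh15 zh26) (kh xh5 yh12 zh14) (kh xh4 yh20 zh30) (kh xh3 yh17 zh21) (kh xh3 yh15 zh29) (kh xh3 yh15 zh17) (kh xh4 yh12 zh6) (kh xh5 yh12 zh17) (kh xh5 yh12 zh20) (kh xh3 yh15 zh20) (kh xh5 yh12 zh24) (kh xh3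 yh15 zh21) (kh xh5 yh12 zh4) (kh xh5 yh12 zh26) (kh xh3 yh15 zh24) (kh xh5 yh12 zh13) (kh xh3 yh15 zh27) (kh xh4 yh21 zh28) (kh xh5 yh7 zh6) (kh xh5 yh7 zh7) (kh xh5 yh13 zh1) (kh xh5 yh7 zh9) (kh xh5 yh13 zh5) (kh xh5 yh7 zh11) (kh xh5 yh13 zh8) (kh xh3 yh16 zh2) (kh xh5 yh13 zh10) (kh xh5 yh7 zh15) (kh xh5 yh13 zh14) (kh xh3 yh16 zh4) (kh xh5 yh7 zh18) (kh xh5 yh13 zh17)) (@D3.rec (fun _ => Pt) (kh xh3 yh16 zh6) (kh xh5 yh7 zh27) (kh xh5 yh13 zh21) (kh xh3 yh16 zh9) (kh xh5 yh7 zh30) (kh xh5 yh13 zh23) (kh xh3 yh16 zh11) (kh xh5 yh13 zh25) (kh xh3 yh16 zh14) (kh xh3 yh17 zh2) (kh xh5 yh8 zh15) (kh xh5 yh13 zh29) (kh xh3 yh16 zh17) (kh xh5 yh13 zh31) (kh xh3 yh16 zh20) (kh xh4 yh13 zh15) (kh xh3 yh16 zh22) (kh xh3 yh17 zh4) (kh xh3 yh17 zh5)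 (kh xh5 yh14 zh4) (kh xh3 yh16 zh25) (kh xh5 yh14 zh7) (kh xh4 yh13 zh22) (kh xh5 yh14 zh9) (kh xh3 yh16 zh27) (kh xh4 yh13 zh25) (kh xh5 yh14 zh12) (kh xh3 yh16 zh30) (kh xh5 yh13 zh18) (kh xh3 yh17 zh0) (kh xh5 yh13 zh26) (kh xh5 yh13 zh27)) (@D3.rec (fun _ => Pt) (kh xh3 yh17 zh15) (kh xh4 yh14 zh1) (kh xh4 yh14 zh2) (kh xh4 yh14 zh3) (kh xh4 yh20 zh21) (kh xh4 yh14 zh5) (kh xh4 yh14 zh6) (kh xh5 yh12 zh12) (kh xh5 yh12 zh10) (kh xh5 yh14 zh20) (kh xh3 yh17 zh22) (kh xh4 yh14 zh11) (kh xh4 yh17 zh14) (kh xh5 yh14 zh26) (kh xh3 yh17 zh24) (kh xh4 yh14 zh15) (kh xh4 yh17 zh20) (kh xh4 yh14 zh17) (kh xh5 yh15 zh1) (kh xh4 yh14 zh19) (kh xh4 yh17 zh26) (kh xh3 yh17 zh30) (kh xh5 yh15 zh4) (kh xh4 yh18 zh1) (kh xh4 yh14 zh24) (kh xh5 yh15 zh11)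 (kh xh4 yh14 zh26) (kh xh5 yh15 zh14) (kh xh3 yh18 zh3) (kh xh4 yh14 zh29) (kh xh5 yh15 zh16) (kh xh3 yh18 zh6)) (@D3.rec (fun _ => Pt) (kh xh5 yh15 zh18) (kh xh3 yh18 zh7) (kh xh4 yh15 zh2) (kh xh4 yh18 zh26) (kh xh4 yh15 zh4) (kh xh4 yh15 zh5) (kh xh5 yh15 zh28) (kh xh3 yh18 zh11) (kh xh5 yh15 zh29) (kh xh4 yh19 zh3) (kh xh4 yh15 zh10) (kh xh5 yh16 zh3) (kh xh4 yh15 zh12) (kh xh5 yh16 zh6) (kh xh3 yh18 zh16) (kh xh3 yh18 zh19) (kh xh4 yh19 zh19) (kh xh5 yh16 zh7) (kh xh5 yh16 zh11) (kh xh4 yh15 zh19) (kh xh5 yh16 zh14) (kh xh3 yh18 zh22) (kh xh4 yh15 zh22) (kh xh5 yh16 zh16) (kh xh3 yh18 zh24) (kh xh5 yh16 zh18) (kh xh3 yh18 zh26) (kh xh4 yh20 zh25) (kh xh4 yh15 zh28) (kh xh4 yh15 zh29) (kh xh5 yh16 zh24) (kh xh4 yh15 zh31)) (@D3.rec (fun _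 => Pt) (kh xh5 yh16 zh28) (kh xh4 yh16 zh1) (kh xh5 yh16 zh31) (kh xh3 yh19 zh1) (kh xh4 yh16 zh4) (kh xh5 yh17 zh2) (kh xh3 yh19 zh3) (kh xh4 yh16 zh7) (kh xh5 yh17 zh4) (kh xh3 yh19 zh5) (kh xh4 yh16 zh10) (kh xh5 yh17 zh7) (kh xh3 yh19 zh8) (kh xh5 yh17 zh9) (kh xh3 yh19 zh11) (kh xh4 yh16 zh15) (kh xh5 yh17 zh13) (kh xh3 yh19 zh13) (kh xh5 yh17 zh16) (kh xh5 yh17 zh17) (kh xh3 yh19 zh14) (kh xh4 yh16 zh21) (kh xh4 yh16 zh22) (kh xh5 yh17 zh22) (kh xh3 yh19 zh16) (kh xh3 yh19 zh17) (kh xh4 yh16 zh26) (kh xh3 yh19 zh20) (kh xh3 yh19 zh21) (kh xh4 yh16 zh29) (kh xh4 yh16 zh30) (kh xh4 yh16 zh31)) (@D3.rec (fun _ => Pt) (kh xh5 yh18 zh1) (kh xh3 yh19 zh25) (kh xh4 yh17 zh2) (kh xh4 yh17 zh3) (kh xh4 yh17 zh4) (kh xh3 yh19 zh29) (kh xh4 yh17 zh6)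 (kh xh4 yh17 zh7) (kh xh4 yh17 zh8) (kh xh5 yh18 zh12) (kh xh5 yh18 zh15) (kh xh5 yh18 zh16) (kh xh3 yh20 zh2) (kh xh4 yh17 zh13) (kh xh4 yh14 zh12) (kh xh5 yh18 zh23) (kh xh5 yh18 zh25) (kh xh3 yh20 zh4) (kh xh3 yh20 zh5) (kh xh4 yh17 zh19) (kh xh4 yh14 zh16) (kh xh4 yh17 zh21) (kh xh5 yh19 zh2) (kh xh5 yh19 zh3) (kh xh3 yh20 zh9) (kh xh4 yh17 zh25) (kh xh4 yh14 zh20) (kh xh4 yh8 zh19) (kh xh5 yh19 zh9) (kh xh3 yh20 zh13) (kh xh5 yh19 zh12) (kh xh3 yh20 zh14)) (@D3.rec (fun _ => Pt) (kh xh5 yh19 zh10) (kh xh4 yh14 zh23) (kh xh4 yh18 zh2) (kh xh4 yh8 zh18) (kh xh4 yh18 zh4) (kh xh5 yh19 zh22) (kh xh4 yh18 zh6) (kh xh5 yh19 zh25) (kh xh3 yh20 zh20) (kh xh3 yh20 zh21) (kh xh4 yh18 zh10) (kh xh4 yh6 zh12) (kh xh4 yh18 zh12) (kh xh5 yh20 zh0) (kh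 xh4 yh18 zh14) (kh xh4 yh0 zh7) (kh xh4 yh18 zh16) (kh xh5 yh20 zh5) (kh xh4 yh18 zh18) (kh xh5 yh20 zh8) (kh xh3 yh20 zh30) (kh xh5 yh20 zh11) (kh xh5 yh20 zh13) (kh xh3 yh20 zh31) (kh xh3 yh21 zh0) (kh xh4 yh18 zh25) (kh xh4 yh15 zh3) (kh xh4 yh18 zh27) (kh xh4 yh18 zh28) (kh xh5 yh20 zh25) (kh xh5 yh20 zh27) (kh xh3 yh21 zh4)) (@D3.rec (fun _ => Pt) (kh xh5 yh20 zh30) (kh xh3 yh21 zh5) (kh xh5 yh20 zh28) (kh xh4 yh15 zh9) (kh xh4 yh19 zh4) (kh xh4 yh8 zh1) (kh xh4 yh19 zh6) (kh xh5 yh21 zh8) (kh xh4 yh19 zh8) (kh xh5 yh21 zh11) (kh xh3 yh21 zh11) (kh xh3 yh21 zh12) (kh xh4 yh0 zh24) (kh xh4 yh5 zh23) (kh xh4 yh0 zh25) (kh xh5 yh21 zh12) (kh xh5 yh21 zh18) (kh xh3 yh21 zh17) (kh xh3 yh21 zh21) (kh xh4 yh15 zh16) (kh xh3 yh21 zh19) (kh xh5 yh21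 zh19) (kh xh4 yh6 zh10) (kh xh5 yh21 zh21) (kh xh5 yh21 zh22) (kh xh6 yh0 zh2) (kh xh4 yh19 zh26) (kh xh6 yh0 zh5) (kh xh4 yh19 zh28) (kh xh6 yh0 zh8) (kh xh3 yh21 zh26) (kh xh4 yh19 zh31)) (@D3.rec (fun _ => Pt) (kh xh6 yh0 zh10) (kh xh3 yh21 zh28) (kh xh4 yh0 zh2) (kh xh4 yh1 zh3) (kh xh4 yh4 zh30) (kh xh4 yh1 zh4) (kh xh5 yh21 zh25) (kh xh4 yh1 zh5) (kh xh4 yh3 zh26) (kh xh4 yh1 zh6) (kh xh5 yh19 zh27) (kh xh6 yh0 zh20) (kh xh6 yh0 zh22) (kh xh4 yh0 zh8) (kh xh4 yh6 zh14) (kh xh4 yh0 zh9) (kh xh6 yh0 zh23) (kh xh4 yh20 zh17) (kh xh4 yh20 zh18) (kh xh4 yh20 zh19) (kh xh4 yh11 zh25) (kh xh4 yh14 zh4) (kh xh6 yh1 zh2) (kh xh4 yh0 zh16) (kh xh4 yh0 zh20) (kh xh4 yh15 zh27) (kh xh6 yh1 zh3) (kh xh6 yh1 zh5) (kh xh6 yh1 zh6) (kh xh4 yh20 zh29) (kh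 xh4 yh12 zh2) (kh xh5 yh21 zh13)) (@D3.rec (fun _ => Pt) (kh xh5 yh21 zh15) (kh xh6 yh1 zh14) (kh xh4 yh0 zh26) (kh xh4 yh0 zh30) (kh xh4 yh7 zh6) (kh xh4 yh0 zh31) (kh xh4 yh1 zh0) (kh xh6 yh1 zh15) (kh xh6 yh1 zh16) (kh xh6 yh1 zh17) (kh xh6 yh1 zh19) (kh xh6 yh1 zh20) (kh xh6 yh0 zh12) (kh xh6 yh0 zh14) (kh xh6 yh0 zh16) (kh xh6 yh1 zh26) (kh xh4 yh1 zh7) (kh xh6 yh1 zh29) (kh xh4 yh1 zh8) (kh xh4 yh8 zh24) (kh xh4 yh21 zh20) (kh xh6 yh2 zh1) (kh xh4 yh1 zh10) (kh xh4 yh1 zh11) (kh xh4 yh21 zh24) (kh xh4 yh1 zh14) (kh xh4 yh21 zh26) (kh xh4 yh8 zh25) (kh xh4 yh12 zh17) (kh xh6 yh2 zh7) (kh xh4 yh1 zh18) (kh xh4 yh21 zh31))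
def f_h_5 : D2 → D3 → Pt := @D2.rec (fun _ => D3 → Pt) (@D3.rec (fun _ => Pt) (kh xh5 yh0 zh0) (kh xh5 yh0 zh1) (kh xh4 yh1 zh22) (kh xh5 yh0 zh3) (kh xh5 yh0 zh4) (kh xh5 yh0 zh5) (kh xh6 yh2 zh17) (kh xh6 yh2 zh20) (kh xh6 yh2 zh21) (kh xh4 yh1 zh27) (kh xh4 yh8 zh29) (kh xh4 yh2 zh26) (kh xh6 yh2 zh27) (kh xh6 yh2 zh28) (kh xh4 yh1 zh29) (kh xh4 yh1 zh30) (kh xh4 yh9 zh0) (kh xh4 yh3 zh0) (kh xh4 yh9 zh1) (kh xh6 yh3 zh4) (kh xh4 yh2 zh2) (kh xh5 yh0 zh21) (kh xh4 yh3 zh6) (kh xh4 yh3 zh7) (kh xh4 yh2 zh6) (kh xh4 yh2 zh7) (kh xh6 yh3 zh9) (kh xh4 yh3 zh13) (kh xh4 yh3 zh15) (kh xh4 yh4 zh16) (kh xh4 yh11 zh10) (kh xh4 yh9 zh3)) (@D3.rec (fun _ => Pt) (kh xh6 yh3 zh18) (kh xh4 yh2 zh13) (kh xh5 yh1 zh2) (kh xh4 yh3 zh23) (kh xh5 yh1 zh4) (kh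 xh6 yh3 zh23) (kh xh6 yh3 zh24) (kh xh5 yh1 zh7) (kh xh6 yh3 zh27) (kh xh4 yh2 zh21) (kh xh6 yh3 zh30) (kh xh6 yh4 zh0) (kh xh4 yh2 zh22) (kh xh4 yh2 zh23) (kh xh4 yh9 zh10) (kh xh6 yh2 zh23) (kh xh4 yh9 zh12) (kh xh4 yh9 zh13) (kh xh6 yh4 zh12) (kh xh6 yh4 zh14) (kh xh4 yh2 zh27) (kh xh6 yh4 zh17) (kh xh4 yh2 zh28) (kh xh6 yh4 zh15) (kh xh6 yh2 zh30) (kh xh4 yh9 zh18) (kh xh6 yh2 zh31) (kh xh4 yh9 zh19) (kh xh6 yh4 zh27) (kh xh4 yh9 zh21) (kh xh6 yh4 zh30) (kh xh4 yh3 zh2)) (@D3.rec (fun _ => Pt) (kh xh4 yh3 zh3) (kh xh5 yh2 zh1) (kh xh6 yh3 zh6) (kh xh5 yh2 zh3) (kh xh6 yh5 zh4) (kh xh6 yh5 zh5) (kh xh4 yh3 zh8) (kh xh4 yh3 zh12) (kh xh6 yh3 zh10) (kh xh4 yh3 zh10) (kh xh6 yh5 zh6) (kh xh6 yh3 zh12) (kh xh6 yh5 zh8) (kh xh6 yh5 zh9) (kh xh6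 yh5 zh21) (kh xh4 yh9 zh28) (kh xh4 yh11 zh12) (kh xh4 yh9 zh29) (kh xh6 yh5 zh26) (kh xh4 yh3 zh17) (kh xh4 yh10 zh0) (kh xh6 yh5 zh28) (kh xh4 yh3 zh19) (kh xh6 yh0 zh17) (kh xh5 yh2 zh24) (kh xh6 yh5 zh31) (kh xh5 yh2 zh26) (kh xh6 yh6 zh2) (kh xh4 yh3 zh25) (kh xh4 yh3 zh27) (kh xh5 yh2 zh30) (kh xh6 yh6 zh4)) (@D3.rec (fun _ => Pt) (kh xh4 yh3 zh29) (kh xh6 yh6 zh7) (kh xh6 yh6 zh8) (kh xh4 yh3 zh31) (kh xh4 yh4 zh0) (kh xh4 yh10 zh4) (kh xh4 yh5 zh4) (kh xh4 yh10 zh5) (kh xh4 yh10 zh6) (kh xh6 yh6 zh20) (kh xh6 yh3 zh0) (kh xh4 yh4 zh4) (kh xh4 yh4 zh5) (kh xh6 yh6 zh21) (kh xh4 yh5 zh13) (kh xh4 yh8 zh31) (kh xh4 yh5 zh15) (kh xh4 yh10 zh9) (kh xh6 yh6 zh31) (kh xh4 yh10 zh10) (kh xh6 yh7 zh2) (kh xh4 yh4 zh11) (kh xh4 yh5 zh21) (kh xh4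 yh5 zh10) (kh xh5 yh21 zh14) (kh xh4 yh4 zh19) (kh xh4 yh5 zh27) (kh xh6 yh3 zh14) (kh xh4 yh5 zh29) (kh xh6 yh7 zh5) (kh xh6 yh3 zh11) (kh xh6 yh7 zh12)) (@D3.rec (fun _ => Pt) (kh xh4 yh9 zh26) (kh xh4 yh10 zh14) (kh xh6 yh5 zh7) (kh xh4 yh4 zh24) (kh xh4 yh10 zh15) (kh xh6 yh7 zh15) (kh xh4 yh4 zh26) (kh xh6 yh0 zh13) (kh xh6 yh7 zh18) (kh xh6 yh7 zh20) (kh xh4 yh4 zh31) (kh xh6 yh7 zh3) (kh xh4 yh5 zh0) (kh xh6 yh7 zh21) (kh xh6 yh6 zh10) (kh xh4 yh10 zh22) (kh xh6 yh6 zh12) (kh xh4 yh10 zh23) (kh xh4 yh10 zh24) (kh xh6 yh8 zh3) (kh xh4 yh10 zh26) (kh xh6 yh8 zh7) (kh xh4 yh10 zh28) (kh xh6 yh8 zh10) (kh xh4 yh5 zh7) (kh xh6 yh8 zh12) (kh xh4 yh5 zh8) (kh xh4 yh5 zh12) (kh xh6 yh6 zh22) (kh xh6 yh8 zh13) (kh xh6 yh6 zh24) (kh xh6 yh8 zh15))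 (@D3.rec (fun _ => Pt) (kh xh6 yh8 zh16) (kh xh6 yh8 zh25) (kh xh4 yh11 zh3) (kh xh6 yh8 zh28) (kh xh4 yh11 zh4) (kh xh6 yh8 zh31) (kh xh4 yh5 zh17) (kh xh4 yh11 zh7) (kh xh6 yh9 zh1) (kh xh4 yh5 zh19) (kh xh4 yh7 zh3) (kh xh5 yh21 zh0) (kh xh6 yh9 zh5) (kh xh4 yh5 zh24) (kh xh4 yh5 zh28) (kh xh6 yh3 zh16) (kh xh4 yh5 zh30) (kh xh4 yh5 zh31) (kh xh6 yh9 zh14) (kh xh6 yh9 zh7) (kh xh6 yh9 zh17) (kh xh6 yh9 zh9) (kh xh6 yh9 zh10) (kh xh6 yh9 zh23) (kh xh6 yh9 zh12) (kh xh6 yh9 zh26) (kh xh4 yh6 zh0) (kh xh4 yh11 zh14) (kh xh6 yh9 zh29) (kh xh4 yh6 zh2) (kh xh4 yh11 zh15) (kh xh6 yh9 zh31)) (@D3.rec (fun _ => Pt) (kh xh4 yh6 zh4) (kh xh6 yh10 zh1) (kh xh4 yh6 zh7) (kh xh6 yh0 zh11) (kh xh4 yh7 zh8) (kh xh5 yh19 zh14) (kh xh5 yh19 zh5) (kh xh6 yh10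 zh6) (kh xh6 yh10 zh7) (kh xh4 yh6 zh13) (kh xh6 yh10 zh8) (kh xh4 yh11 zh26) (kh xh4 yh11 zh27) (kh xh5 yh6 zh13) (kh xh4 yh6 zh19) (kh xh4 yh6 zh21) (kh xh4 yh7 zh1) (kh xh6 yh10 zh14) (kh xh4 yh7 zh4) (kh xh4 yh6 zh26) (kh xh6 yh1 zh18) (kh xh6 yh10 zh17) (kh xh4 yh6 zh27) (kh xh4 yh6 zh28) (kh xh4 yh6 zh30) (kh xh6 yh10 zh9) (kh xh6 yh10 zh21) (kh xh6 yh10 zh13) (kh xh4 yh7 zh2) (kh xh6 yh1 zh4) (kh xh6 yh10 zh24) (kh xh6 yh9 zh3)) (@D3.rec (fun _ => Pt) (kh xh4 yh7 zh7) (kh xh5 yh21 zh20) (kh xh6 yh10 zh27) (kh xh5 yh7 zh3) (kh xh5 yh7 zh4) (kh xh6 yh11 zh2) (kh xh4 yh12 zh18) (kh xh4 yh12 zh19) (kh xh6 yh11 zh7) (kh xh4 yh12 zh21) (kh xh6 yh11 zh11) (kh xh4 yh12 zh23) (kh xh6 yh11 zh14) (kh xh4 yh7 zh15) (kh xh6 yh11 zh16) (kh xh4 yh12 zh27)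 (kh xh6 yh11 zh20) (kh xh4 yh7 zh17) (kh xh4 yh12 zh30) (kh xh6 yh11 zh23) (kh xh4 yh7 zh19) (kh xh5 yh7 zh21) (kh xh5 yh7 zh22) (kh xh6 yh11 zh30) (kh xh5 yh7 zh24) (kh xh6 yh12 zh1) (kh xh4 yh7 zh23) (kh xh4 yh13 zh1) (kh xh6 yh12 zh4) (kh xh4 yh7 zh25) (kh xh4 yh13 zh4) (kh xh6 yh12 zh6)) (@D3.rec (fun _ => Pt) (kh xh4 yh7 zh27) (kh xh6 yh12 zh8) (kh xh4 yh7 zh30) (kh xh5 yh8 zh3) (kh xh4 yh8 zh20) (kh xh5 yh20 zh17) (kh xh5 yh8 zh6) (kh xh5 yh8 zh7) (kh xh6 yh12 zh16) (kh xh5 yh8 zh9) (kh xh6 yh12 zh19) (kh xh4 yh8 zh4) (kh xh5 yh8 zh12) (kh xh6 yh12 zh21) (kh xh4 yh8 zh6) (kh xh4 yh13 zh10) (kh xh6 yh12 zh24) (kh xh4 yh8 zh9) (kh xh6 yh12 zh26) (kh xh4 yh8 zh12) (kh xh6 yh12 zh22) (kh xh4 yh8 zh14) (kh xh5 yh8 zh22) (kh xh5 yh8 zh23) (kh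 xh5 yh18 zh29) (kh xh6 yh1 zh27) (kh xh6 yh1 zh31) (kh xh6 yh6 zh11) (kh xh6 yh2 zh22) (kh xh6 yh2 zh24) (kh xh6 yh2 zh25) (kh xh6 yh13 zh5)) (@D3.rec (fun _ => Pt) (kh xh6 yh3 zh2) (kh xh6 yh13 zh6) (kh xh4 yh9 zh2) (kh xh4 yh9 zh4) (kh xh6 yh13 zh9) (kh xh6 yh13 zh10) (kh xh4 yh9 zh6) (kh xh6 yh13 zh11) (kh xh6 yh4 zh3) (kh xh6 yh4 zh5) (kh xh6 yh4 zh6) (kh xh6 yh13 zh21) (kh xh6 yh4 zh8) (kh xh6 yh13 zh25) (kh xh6 yh4 zh10) (kh xh6 yh13 zh28) (kh xh4 yh9 zh14) (kh xh4 yh9 zh15) (kh xh4 yh9 zh17) (kh xh6 yh6 zh28) (kh xh6 yh13 zh29) (kh xh6 yh4 zh23) (kh xh6 yh4 zh25) (kh xh6 yh14 zh2) (kh xh4 yh9 zh20) (kh xh6 yh4 zh28) (kh xh6 yh14 zh4) (kh xh4 yh9 zh22) (kh xh4 yh9 zh27) (kh xh6 yh14 zh6) (kh xh6 yh5 zh22) (kh xh6 yh5 zh24)) (@D3.rec (fun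 _ => Pt) (kh xh6 yh14 zh10) (kh xh4 yh9 zh30) (kh xh6 yh14 zh11) (kh xh4 yh10 zh1) (kh xh5 yh10 zh4) (kh xh6 yh14 zh14) (kh xh4 yh10 zh3) (kh xh6 yh6 zh13) (kh xh6 yh6 zh14) (kh xh6 yh6 zh16) (kh xh6 yh14 zh21) (kh xh6 yh6 zh18) (kh xh6 yh14 zh24) (kh xh4 yh10 zh7) (kh xh4 yh11 zh1) (kh xh6 yh6 zh29) (kh xh6 yh7 zh0) (kh xh6 yh14 zh26) (kh xh4 yh10 zh11) (kh xh6 yh14 zh28) (kh xh4 yh10 zh16) (kh xh5 yh10 zh21) (kh xh6 yh14 zh31) (kh xh4 yh10 zh18) (kh xh4 yh10 zh19) (kh xh4 yh10 zh21) (kh xh6 yh14 zh15) (kh xh6 yh15 zh3) (kh xh6 yh15 zh4) (kh xh6 yh7 zh28) (kh xh6 yh7 zh29) (kh xh6 yh7 zh31)) (@D3.rec (fun _ => Pt) (kh xh6 yh15 zh13) (kh xh6 yh8 zh1) (kh xh6 yh15 zh16) (kh xh4 yh10 zh25) (kh xh6 yh15 zh18) (kh xh6 yh8 zh5) (kh xh6 yh15 zh22) (kh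 xh4 yh10 zh27) (kh xh6 yh8 zh8) (kh xh6 yh15 zh25) (kh xh4 yh10 zh29) (kh xh6 yh3 zh1) (kh xh4 yh11 zh2) (kh xh6 yh4 zh24) (kh xh6 yh15 zh27) (kh xh6 yh8 zh26) (kh xh6 yh8 zh29) (kh xh6 yh16 zh0) (kh xh4 yh11 zh5) (kh xh6 yh16 zh2) (kh xh4 yh11 zh8) (kh xh5 yh11 zh21) (kh xh4 yh11 zh13) (kh xh6 yh5 zh23) (kh xh6 yh16 zh5) (kh xh6 yh9 zh27) (kh xh6 yh16 zh7) (kh xh4 yh11 zh16) (kh xh6 yh5 zh14) (kh xh4 yh11 zh18) (kh xh5 yh11 zh30) (kh xh5 yh11 zh31)) (@D3.rec (fun _ => Pt) (kh xh6 yh16 zh10) (kh xh4 yh11 zh21) (kh xh4 yh11 zh22) (kh xh4 yh11 zh24) (kh xh4 yh12 zh12) (kh xh6 yh16 zh14) (kh xh6 yh16 zh15) (kh xh6 yh0 zh31) (kh xh6 yh1 zh0) (kh xh6 yh10 zh12) (kh xh4 yh14 zh8) (kh xh5 yh12 zh11) (kh xh4 yh14 zh7) (kh xh4 yh12 zh15) (kh xh4 yh12 zh1)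 (kh xh5 yh12 zh15) (kh xh6 yh16 zh18) (kh xh4 yh12 zh7) (kh xh5 yh12 zh18) (kh xh6 yh16 zh22) (kh xh4 yh12 zh8) (kh xh5 yh12 zh21) (kh xh6 yh16 zh12) (kh xh6 yh16 zh27) (kh xh4 yh12 zh10) (kh xh6 yh16 zh13) (kh xh4 yh12 zh13) (kh xh6 yh2 zh0) (kh xh6 yh2 zh6) (kh xh6 yh11 zh3) (kh xh6 yh17 zh1) (kh xh6 yh11 zh5)) (@D3.rec (fun _ => Pt) (kh xh6 yh17 zh4) (kh xh4 yh12 zh20) (kh xh6 yh17 zh6) (kh xh6 yh11 zh9) (kh xh6 yh17 zh10) (kh xh4 yh12 zh22) (kh xh6 yh11 zh12) (kh xh6 yh17 zh13) (kh xh4 yh12 zh24) (kh xh6 yh17 zh17) (kh xh4 yh12 zh26) (kh xh6 yh17 zh20) (kh xh6 yh11 zh18) (kh xh6 yh17 zh22) (kh xh4 yh12 zh28) (kh xh5 yh13 zh15) (kh xh6 yh17 zh25) (kh xh4 yh12 zh31) (kh xh4 yh13 zh28) (kh xh6 yh12 zh2) (kh xh6 yh17 zh29) (kh xh4 yh13 zh2) (kh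 xh6 yh17 zh31) (kh xh4 yh13 zh5) (kh xh5 yh13 zh24) (kh xh4 yh13 zh7) (kh xh4 yh13 zh30) (kh xh4 yh13 zh31) (kh xh6 yh18 zh3) (kh xh4 yh13 zh11) (kh xh5 yh13 zh30) (kh xh4 yh13 zh13)) (@D3.rec (fun _ => Pt) (kh xh5 yh14 zh0) (kh xh5 yh14 zh1) (kh xh5 yh14 zh3) (kh xh5 yh14 zh2) (kh xh4 yh13 zh19) (kh xh6 yh18 zh9) (kh xh6 yh18 zh10) (kh xh4 yh13 zh21) (kh xh6 yh18 zh11) (kh xh4 yh13 zh23) (kh xh5 yh14 zh18) (kh xh5 yh14 zh11) (kh xh4 yh13 zh26) (kh xh6 yh17 zh26) (kh xh6 yh17 zh27) (kh xh6 yh18 zh2) (kh xh5 yh14 zh16) (kh xh5 yh14 zh17) (kh xh5 yh14 zh10) (kh xh6 yh18 zh14) (kh xh4 yh14 zh9) (kh xh5 yh14 zh21) (kh xh5 yh18 zh18) (kh xh5 yh14 zh23) (kh xh5 yh14 zh24) (kh xh6 yh18 zh24) (kh xh4 yh14 zh13) (kh xh6 yh18 zh25) (kh xh5 yh18 zh27) (kh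 xh5 yh14 zh29) (kh xh6 yh19 zh0) (kh xh5 yh14 zh31)) (@D3.rec (fun _ => Pt) (kh xh6 yh19 zh3) (kh xh4 yh14 zh18) (kh xh5 yh15 zh2) (kh xh6 yh19 zh6) (kh xh4 yh14 zh22) (kh xh5 yh19 zh11) (kh xh6 yh19 zh7) (kh xh6 yh19 zh8) (kh xh6 yh19 zh14) (kh xh5 yh15 zh9) (kh xh6 yh19 zh17) (kh xh4 yh14 zh25) (kh xh5 yh15 zh12) (kh xh6 yh19 zh19) (kh xh4 yh14 zh27) (kh xh6 yh19 zh21) (kh xh4 yh14 zh30) (kh xh6 yh19 zh22) (kh xh4 yh15 zh0) (kh xh6 yh19 zh23) (kh xh5 yh20 zh15) (kh xh5 yh15 zh21) (kh xh5 yh15 zh22) (kh xh6 yh20 zh0) (kh xh5 yh15 zh24) (kh xh6 yh20 zh4) (kh xh5 yh15 zh26) (kh xh6 yh20 zh7) (kh xh4 yh15 zh6) (kh xh4 yh15 zh8) (kh xh5 yh20 zh29) (kh xh6 yh20 zh8)) (@D3.rec (fun _ => Pt) (kh xh6 yh20 zh12) (kh xh5 yh16 zh1) (kh xh6 yh20 zh15) (kh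 xh4 yh15 zh11) (kh xh5 yh16 zh4) (kh xh6 yh20 zh17) (kh xh4 yh15 zh13) (kh xh4 yh15 zh17) (kh xh6 yh20 zh21) (kh xh6 yh20 zh19) (kh xh6 yh20 zh24) (kh xh4 yh15 zh18) (kh xh5 yh16 zh12) (kh xh6 yh20 zh26) (kh xh4 yh15 zh20) (kh xh6 yh20 zh28) (kh xh4 yh15 zh23) (kh xh6 yh7 zh16) (kh xh4 yh15 zh25) (kh xh6 yh0 zh24) (kh xh5 yh16 zh20) (kh xh6 yh21 zh4) (kh xh5 yh16 zh22) (kh xh6 yh21 zh7) (kh xh4 yh15 zh30) (kh xh6 yh21 zh9) (kh xh5 yh16 zh26) (kh xh6 yh21 zh13) (kh xh4 yh16 zh0) (kh xh5 yh16 zh29) (kh xh6 yh21 zh16) (kh xh4 yh16 zh2)) (@D3.rec (fun _ => Pt) (kh xh5 yh17 zh0) (kh xh6 yh21 zh19) (kh xh4 yh16 zh5) (kh xh6 yh21 zh21) (kh xh4 yh16 zh8) (kh xh5 yh17 zh5) (kh xh6 yh21 zh24) (kh xh4 yh16 zh11) (kh xh6 yh12 zh25) (kh xh4 yh16 zh13) (kh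 xh5 yh17 zh10) (kh xh5 yh17 zh11) (kh xh6 yh21 zh31) (kh xh4 yh16 zh16) (kh xh5 yh17 zh14) (kh xh5 yh17 zh15) (kh xh4 yh16 zh18) (kh xh4 yh16 zh19) (kh xh5 yh17 zh18) (kh xh5 yh17 zh19) (kh xh5 yh17 zh20) (kh xh7 yh0 zh12) (kh xh4 yh16 zh23) (kh xh5 yh17 zh23) (kh xh5 yh17 zh24) (kh xh5 yh17 zh25) (kh xh5 yh17 zh26) (kh xh5 yh17 zh27) (kh xh5 yh17 zh28) (kh xh5 yh17 zh29) (kh xh7 yh0 zh20) (kh xh5 yh17 zh31)) (@D3.rec (fun _ => Pt) (kh xh7 yh0 zh23) (kh xh4 yh17 zh0) (kh xh5 yh18 zh2) (kh xh5 yh18 zh3) (kh xh5 yh18 zh4) (kh xh7 yh0 zh27) (kh xh5 yh18 zh6) (kh xh5 yh18 zh7) (kh xh5 yh18 zh8) (kh xh7 yh1 zh1) (kh xh5 yh18 zh10) (kh xh7 yh1 zh4) (kh xh4 yh17 zh9) (kh xh7 yh1 zh7) (kh xh7 yh1 zh9) (kh xh4 yh17 zh10) (kh xh4 yh17 zh11) (kh xh5 yh18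 zh17) (kh xh5 yh14 zh22) (kh xh5 yh18 zh19) (kh xh5 yh18 zh20) (kh xh7 yh1 zh21) (kh xh7 yh1 zh23) (kh xh4 yh17 zh15) (kh xh7 yh1 zh26) (kh xh4 yh17 zh16) (kh xh7 yh1 zh24) (kh xh5 yh14 zh28) (kh xh5 yh18 zh28) (kh xh5 yh8 zh24) (kh xh5 yh18 zh30) (kh xh7 yh2 zh4)) (@D3.rec (fun _ => Pt) (kh xh5 yh19 zh0) (kh xh7 yh2 zh7) (kh xh4 yh17 zh22) (kh xh4 yh17 zh23) (kh xh5 yh19 zh4) (kh xh5 yh6 zh6) (kh xh5 yh19 zh6) (kh xh7 yh2 zh14) (kh xh7 yh2 zh15) (kh xh4 yh17 zh28) (kh xh4 yh18 zh0) (kh xh5 yh15 zh5) (kh xh4 yh17 zh30) (kh xh7 yh2 zh16) (kh xh5 yh6 zh5) (kh xh7 yh2 zh18) (kh xh7 yh2 zh19) (kh xh7 yh2 zh31) (kh xh5 yh19 zh18) (kh xh7 yh3 zh1) (kh xh5 yh19 zh20) (kh xh7 yh3 zh4) (kh xh4 yh18 zh5) (kh xh5 yh19 zh23) (kh xh7 yh3 zh6) (kh xh4 yh18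 zh7) (kh xh5 yh19 zh26) (kh xh4 yh20 zh10) (kh xh5 yh19 zh28) (kh xh7 yh3 zh13) (kh xh5 yh19 zh30) (kh xh7 yh3 zh16)) (@D3.rec (fun _ => Pt) (kh xh4 yh18 zh13) (kh xh5 yh20 zh1) (kh xh7 yh3 zh18) (kh xh5 yh20 zh3) (kh xh7 yh3 zh21) (kh xh4 yh18 zh17) (kh xh5 yh20 zh6) (kh xh7 yh3 zh23) (kh xh4 yh18 zh19) (kh xh7 yh3 zh25) (kh xh7 yh3 zh27) (kh xh4 yh18 zh21) (kh xh7 yh3 zh30) (kh xh4 yh18 zh22) (kh xh7 yh3 zh28) (kh xh5 yh15 zh20) (kh xh5 yh20 zh16) (kh xh5 yh8 zh5) (kh xh5 yh20 zh18) (kh xh5 yh20 zh19) (kh xh7 yh4 zh11) (kh xh5 yh20 zh21) (kh xh7 yh4 zh15) (kh xh5 yh20 zh23) (kh xh7 yh4 zh18) (kh xh4 yh18 zh29) (kh xh7 yh4 zh20) (kh xh4 yh18 zh30) (kh xh4 yh19 zh2) (kh xh5 yh15 zh30) (kh xh4 yh19 zh0) (kh xh7 yh4 zh21)) (@D3.rec (fun _ => Pt)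 (kh xh5 yh5 zh11) (kh xh7 yh4 zh23) (kh xh7 yh4 zh24) (kh xh7 yh5 zh4) (kh xh5 yh21 zh4) (kh xh7 yh5 zh7) (kh xh5 yh21 zh6) (kh xh7 yh5 zh10) (kh xh4 yh19 zh7) (kh xh5 yh21 zh9) (kh xh7 yh5 zh12) (kh xh4 yh19 zh9) (kh xh4 yh19 zh15) (kh xh4 yh20 zh31) (kh xh5 yh3 zh24) (kh xh4 yh21 zh0) (kh xh7 yh4 zh27) (kh xh7 yh5 zh18) (kh xh4 yh19 zh16) (kh xh4 yh19 zh21) (kh xh5 yh7 zh1) (kh xh4 yh19 zh23) (kh xh4 yh19 zh24) (kh xh7 yh5 zh29) (kh xh7 yh5 zh19) (kh xh4 yh20 zh6) (kh xh7 yh5 zh21) (kh xh7 yh5 zh22) (kh xh7 yh6 zh5) (kh xh7 yh5 zh24) (kh xh7 yh5 zh25) (kh xh7 yh6 zh11))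
def f_h_6 : D2 → D3 → Pt := @D2.rec (fun _ => D3 → Pt) (@D3.rec (fun _ => Pt) (kh xh7 yh5 zh27) (kh xh7 yh6 zh14) (kh xh4 yh19 zh25) (kh xh6 yh0 zh3) (kh xh7 yh6 zh17) (kh xh4 yh19 zh27) (kh xh6 yh0 zh6) (kh xh7 yh6 zh19) (kh xh4 yh19 zh29) (kh xh7 yh6 zh21) (kh xh4 yh20 zh0) (kh xh5 yh6 zh3) (kh xh4 yh21 zh12) (kh xh5 yh4 zh7) (kh xh4 yh21 zh13) (kh xh7 yh2 zh22) (kh xh4 yh21 zh14) (kh xh5 yh2 zh23) (kh xh7 yh2 zh9) (kh xh7 yh6 zh29) (kh xh4 yh20 zh11) (kh xh7 yh7 zh1) (kh xh4 yh20 zh12) (kh xh4 yh20 zh16) (kh xh5 yh16 zh19) (kh xh7 yh7 zh2) (kh xh7 yh7 zh4) (kh xh7 yh7 zh5) (kh xh6 yh0 zh28) (kh xh6 yh0 zh29) (kh xh6 yh0 zh30) (kh xh5 yh12 zh7)) (@D3.rec (fun _ => Pt) (kh xh5 yh12 zh8) (kh xh7 yh7 zh14) (kh xh4 yh20 zh22) (kh xh4 yh20 zh26)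 (kh xh5 yh6 zh29) (kh xh4 yh20 zh27) (kh xh4 yh20 zh28) (kh xh7 yh7 zh15) (kh xh7 yh7 zh16) (kh xh7 yh7 zh17) (kh xh7 yh7 zh19) (kh xh7 yh7 zh20) (kh xh7 yh5 zh14) (kh xh7 yh5 zh16) (kh xh4 yh21 zh1) (kh xh4 yh21 zh7) (kh xh4 yh21 zh8) (kh xh4 yh21 zh9) (kh xh5 yh6 zh20) (kh xh4 yh21 zh10) (kh xh4 yh21 zh11) (kh xh7 yh5 zh20) (kh xh7 yh7 zh27) (kh xh7 yh7 zh30) (kh xh7 yh6 zh24) (kh xh7 yh8 zh1) (kh xh4 yh21 zh15) (kh xh5 yh8 zh25) (kh xh6 yh1 zh28) (kh xh4 yh21 zh17) (kh xh6 yh1 zh30) (kh xh5 yh8 zh26)) (@D3.rec (fun _ => Pt) (kh xh5 yh12 zh27) (kh xh4 yh21 zh21) (kh xh6 yh2 zh2) (kh xh6 yh2 zh3) (kh xh6 yh2 zh4) (kh xh6 yh2 zh5) (kh xh5 yh12 zh28) (kh xh4 yh21 zh29) (kh xh6 yh2 zh8) (kh xh6 yh2 zh9) (kh xh6 yh2 zh10) (kh xh7 yh8 zh18) (kh xh6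 yh2 zh12) (kh xh6 yh2 zh13) (kh xh7 yh8 zh20) (kh xh6 yh2 zh15) (kh xh7 yh8 zh23) (kh xh5 yh0 zh6) (kh xh7 yh8 zh25) (kh xh7 yh8 zh26) (kh xh5 yh0 zh7) (kh xh5 yh0 zh8) (kh xh5 yh8 zh28) (kh xh5 yh1 zh15) (kh xh5 yh8 zh29) (kh xh5 yh8 zh30) (kh xh7 yh9 zh5) (kh xh5 yh0 zh12) (kh xh5 yh0 zh13) (kh xh7 yh9 zh6) (kh xh5 yh1 zh24) (kh xh5 yh1 zh26)) (@D3.rec (fun _ => Pt) (kh xh5 yh3 zh10) (kh xh5 yh11 zh11) (kh xh5 yh9 zh0) (kh xh7 yh9 zh15) (kh xh5 yh0 zh19) (kh xh6 yh3 zh5) (kh xh5 yh2 zh2) (kh xh6 yh3 zh7) (kh xh7 yh9 zh20) (kh xh5 yh0 zh26) (kh xh5 yh2 zh8) (kh xh5 yh3 zh30) (kh xh5 yh2 zh11) (kh xh7 yh5 zh30) (kh xh5 yh3 zh27) (kh xh7 yh9 zh27) (kh xh5 yh5 zh15) (kh xh7 yh9 zh28) (kh xh5 yh1 zh0) (kh xh6 yh3 zh19) (kh xh7 yh9 zh31) (kh xh6 yh3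 zh21) (kh xh7 yh10 zh2) (kh xh5 yh1 zh5) (kh xh5 yh1 zh6) (kh xh6 yh3 zh25) (kh xh7 yh10 zh4) (kh xh5 yh1 zh8) (kh xh7 yh10 zh6) (kh xh7 yh10 zh8) (kh xh5 yh1 zh10) (kh xh7 yh10 zh11)) (@D3.rec (fun _ => Pt) (kh xh5 yh1 zh11) (kh xh7 yh10 zh9) (kh xh7 yh8 zh28) (kh xh5 yh9 zh8) (kh xh7 yh8 zh29) (kh xh5 yh9 zh9) (kh xh5 yh9 zh10) (kh xh7 yh10 zh24) (kh xh5 yh9 zh12) (kh xh7 yh10 zh28) (kh xh5 yh9 zh14) (kh xh7 yh10 zh31) (kh xh5 yh1 zh18) (kh xh7 yh11 zh0) (kh xh5 yh1 zh19) (kh xh5 yh1 zh23) (kh xh7 yh9 zh7) (kh xh5 yh1 zh21) (kh xh7 yh11 zh1) (kh xh7 yh9 zh9) (kh xh7 yh11 zh3) (kh xh7 yh11 zh4) (kh xh7 yh11 zh16) (kh xh5 yh9 zh21) (kh xh5 yh11 zh13) (kh xh5 yh9 zh22) (kh xh7 yh11 zh21) (kh xh5 yh1 zh28) (kh xh5 yh9 zh25) (kh xh7 yh11 zh23) (kh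 xh5 yh1 zh30) (kh xh7 yh6 zh27)) (@D3.rec (fun _ => Pt) (kh xh6 yh5 zh0) (kh xh7 yh11 zh27) (kh xh6 yh5 zh2) (kh xh7 yh11 zh30) (kh xh5 yh2 zh4) (kh xh5 yh2 zh5) (kh xh5 yh2 zh10) (kh xh5 yh4 zh2) (kh xh5 yh2 zh12) (kh xh5 yh2 zh13) (kh xh7 yh12 zh8) (kh xh7 yh11 zh31) (kh xh7 yh6 zh25) (kh xh7 yh12 zh1) (kh xh5 yh11 zh28) (kh xh7 yh12 zh15) (kh xh7 yh12 zh3) (kh xh7 yh12 zh4) (kh xh7 yh12 zh21) (kh xh7 yh12 zh6) (kh xh7 yh12 zh24) (kh xh5 yh2 zh14) (kh xh5 yh9 zh30) (kh xh5 yh11 zh23) (kh xh5 yh9 zh31) (kh xh7 yh12 zh28) (kh xh5 yh2 zh18) (kh xh7 yh12 zh30) (kh xh5 yh2 zh21) (kh xh7 yh3 zh7) (kh xh7 yh13 zh1) (kh xh5 yh2 zh25)) (@D3.rec (fun _ => Pt) (kh xh6 yh6 zh0) (kh xh7 yh13 zh3) (kh xh5 yh2 zh27) (kh xh7 yh13 zh5) (kh xh5 yh2 zh31) (kh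 xh7 yh13 zh7) (kh xh7 yh8 zh31) (kh xh5 yh3 zh1) (kh xh5 yh3 zh2) (kh xh7 yh13 zh8) (kh xh5 yh4 zh14) (kh xh5 yh8 zh27) (kh xh5 yh4 zh16) (kh xh5 yh10 zh7) (kh xh5 yh10 zh8) (kh xh7 yh13 zh21) (kh xh5 yh10 zh9) (kh xh7 yh13 zh25) (kh xh5 yh10 zh11) (kh xh7 yh13 zh28) (kh xh5 yh3 zh9) (kh xh5 yh3 zh13) (kh xh5 yh4 zh28) (kh xh7 yh9 zh11) (kh xh5 yh4 zh30) (kh xh7 yh13 zh29) (kh xh7 yh9 zh8) (kh xh7 yh14 zh5) (kh xh5 yh9 zh19) (kh xh5 yh10 zh15) (kh xh7 yh11 zh2) (kh xh5 yh3 zh18)) (@D3.rec (fun _ => Pt) (kh xh5 yh10 zh16) (kh xh7 yh14 zh8) (kh xh5 yh3 zh20) (kh xh5 yh4 zh11) (kh xh7 yh5 zh15) (kh xh5 yh3 zh29) (kh xh7 yh14 zh12) (kh xh7 yh14 zh13) (kh xh7 yh9 zh22) (kh xh7 yh14 zh16) (kh xh7 yh6 zh0) (kh xh7 yh14 zh18) (kh xh5 yh3 zh31) (kh xh7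 yh12 zh0) (kh xh7 yh14 zh19) (kh xh5 yh4 zh5) (kh xh5 yh16 zh17) (kh xh7 yh14 zh23) (kh xh5 yh4 zh8) (kh xh7 yh14 zh27) (kh xh5 yh4 zh9) (kh xh5 yh4 zh13) (kh xh7 yh13 zh9) (kh xh7 yh14 zh28) (kh xh7 yh13 zh11) (kh xh7 yh14 zh30) (kh xh7 yh14 zh31) (kh xh7 yh15 zh9) (kh xh5 yh10 zh29) (kh xh5 yh10 zh30) (kh xh7 yh15 zh14) (kh xh5 yh10 zh31)) (@D3.rec (fun _ => Pt) (kh xh7 yh15 zh18) (kh xh5 yh11 zh1) (kh xh7 yh15 zh21) (kh xh5 yh4 zh19) (kh xh7 yh15 zh23) (kh xh5 yh11 zh5) (kh xh7 yh15 zh27) (kh xh5 yh4 zh21) (kh xh5 yh11 zh8) (kh xh7 yh15 zh30) (kh xh5 yh4 zh23) (kh xh7 yh16 zh0) (kh xh5 yh4 zh25) (kh xh5 yh4 zh29) (kh xh7 yh9 zh13) (kh xh5 yh4 zh31) (kh xh5 yh5 zh0) (kh xh7 yh16 zh9) (kh xh7 yh16 zh2) (kh xh7 yh16 zh12) (kh xh7 yh16 zh4) (kh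 xh7 yh16 zh5) (kh xh7 yh16 zh18) (kh xh7 yh16 zh7) (kh xh7 yh16 zh21) (kh xh5 yh5 zh1) (kh xh5 yh11 zh15) (kh xh7 yh16 zh24) (kh xh5 yh5 zh3) (kh xh5 yh11 zh16) (kh xh7 yh16 zh26) (kh xh5 yh5 zh5)) (@D3.rec (fun _ => Pt) (kh xh7 yh16 zh28) (kh xh5 yh5 zh8) (kh xh7 yh5 zh13) (kh xh5 yh6 zh31) (kh xh7 yh4 zh0) (kh xh5 yh5 zh12) (kh xh7 yh7 zh28) (kh xh5 yh5 zh19) (kh xh7 yh17 zh1) (kh xh5 yh5 zh21) (kh xh5 yh5 zh22) (kh xh7 yh17 zh7) (kh xh5 yh5 zh24) (kh xh7 yh17 zh10) (kh xh5 yh5 zh18) (kh xh7 yh17 zh0) (kh xh7 yh17 zh13) (kh xh5 yh5 zh20) (kh xh7 yh17 zh2) (kh xh7 yh17 zh3) (kh xh7 yh17 zh18) (kh xh7 yh17 zh5) (kh xh7 yh17 zh21) (kh xh5 yh5 zh23) (kh xh7 yh17 zh8) (kh xh7 yh17 zh23) (kh xh5 yh5 zh25) (kh xh5 yh11 zh25) (kh xh7 yh17 zh26) (kh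 xh5 yh5 zh28) (kh xh7 yh17 zh27) (kh xh5 yh5 zh31)) (@D3.rec (fun _ => Pt) (kh xh7 yh17 zh24) (kh xh5 yh6 zh1) (kh xh7 yh6 zh22) (kh xh7 yh6 zh23) (kh xh7 yh1 zh28) (kh xh7 yh17 zh30) (kh xh5 yh6 zh7) (kh xh5 yh6 zh8) (kh xh5 yh6 zh10) (kh xh5 yh6 zh25) (kh xh7 yh18 zh2) (kh xh7 yh18 zh3) (kh xh5 yh12 zh9) (kh xh5 yh6 zh27) (kh xh5 yh6 zh17) (kh xh7 yh7 zh18) (kh xh7 yh7 zh29) (kh xh5 yh6 zh21) (kh xh6 yh20 zh31) (kh xh7 yh18 zh0) (kh xh7 yh18 zh1) (kh xh5 yh6 zh26) (kh xh7 yh7 zh3) (kh xh7 yh18 zh12) (kh xh5 yh6 zh30) (kh xh7 yh4 zh22) (kh xh7 yh18 zh15) (kh xh5 yh7 zh2) (kh xh7 yh2 zh17) (kh xh6 yh10 zh29) (kh xh6 yh10 zh30) (kh xh7 yh18 zh24)) (@D3.rec (fun _ => Pt) (kh xh6 yh11 zh0) (kh xh7 yh18 zh27) (kh xh5 yh7 zh5) (kh xh5 yh12 zh29) (kh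 xh7 yh18 zh31) (kh xh5 yh12 zh31) (kh xh7 yh19 zh2) (kh xh5 yh7 zh8) (kh xh7 yh19 zh4) (kh xh5 yh13 zh3) (kh xh7 yh19 zh8) (kh xh5 yh7 zh10) (kh xh5 yh13 zh6) (kh xh7 yh19 zh11) (kh xh5 yh7 zh12) (kh xh7 yh19 zh15) (kh xh5 yh7 zh14) (kh xh7 yh19 zh18) (kh xh5 yh13 zh12) (kh xh7 yh19 zh20) (kh xh5 yh7 zh16) (kh xh6 yh21 zh14) (kh xh7 yh19 zh23) (kh xh5 yh7 zh19) (kh xh6 yh11 zh24) (kh xh6 yh11 zh25) (kh xh6 yh11 zh26) (kh xh7 yh19 zh30) (kh xh6 yh11 zh28) (kh xh7 yh20 zh1) (kh xh5 yh7 zh23) (kh xh6 yh11 zh31)) (@D3.rec (fun _ => Pt) (kh xh7 yh20 zh3) (kh xh5 yh7 zh25) (kh xh5 yh13 zh19) (kh xh7 yh20 zh6) (kh xh5 yh7 zh28) (kh xh7 yh20 zh8) (kh xh5 yh7 zh31) (kh xh7 yh20 zh4) (kh xh5 yh8 zh1) (kh xh6 yh12 zh9) (kh xh6 yh12 zh10) (kh xh7 yh1 zh13)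 (kh xh6 yh12 zh12) (kh xh7 yh20 zh14) (kh xh6 yh12 zh14) (kh xh7 yh20 zh17) (kh xh5 yh8 zh8) (kh xh6 yh12 zh17) (kh xh7 yh20 zh19) (kh xh5 yh8 zh10) (kh xh7 yh20 zh21) (kh xh5 yh8 zh13) (kh xh5 yh8 zh20) (kh xh7 yh20 zh24) (kh xh5 yh8 zh16) (kh xh5 yh17 zh8) (kh xh5 yh8 zh18) (kh xh7 yh20 zh22) (kh xh7 yh20 zh23) (kh xh7 yh8 zh3) (kh xh7 yh8 zh4) (kh xh7 yh13 zh15)) (@D3.rec (fun _ => Pt) (kh xh7 yh8 zh30) (kh xh7 yh9 zh1) (kh xh7 yh20 zh31) (kh xh7 yh9 zh3) (kh xh7 yh21 zh0) (kh xh5 yh8 zh31) (kh xh5 yh9 zh1) (kh xh6 yh13 zh7) (kh xh7 yh21 zh2) (kh xh5 yh9 zh4) (kh xh5 yh9 zh5) (kh xh5 yh9 zh7) (kh xh7 yh13 zh16) (kh xh7 yh21 zh5) (kh xh7 yh21 zh6) (kh xh7 yh10 zh17) (kh xh7 yh10 zh18) (kh xh7 yh10 zh20) (kh xh7 yh21 zh14) (kh xh7 yh10 zh22)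 (kh xh7 yh21 zh17) (kh xh5 yh9 zh11) (kh xh7 yh21 zh19) (kh xh7 yh10 zh26) (kh xh7 yh21 zh23) (kh xh5 yh9 zh13) (kh xh7 yh10 zh29) (kh xh7 yh21 zh26) (kh xh5 yh9 zh15) (kh xh5 yh9 zh20) (kh xh7 yh21 zh28) (kh xh7 yh11 zh17)) (@D3.rec (fun _ => Pt) (kh xh7 yh11 zh19) (kh xh8 yh0 zh0) (kh xh5 yh9 zh23) (kh xh8 yh0 zh1) (kh xh5 yh9 zh26) (kh xh6 yh14 zh5) (kh xh5 yh9 zh29) (kh xh8 yh0 zh4) (kh xh7 yh12 zh25) (kh xh8 yh0 zh5) (kh xh5 yh10 zh0) (kh xh5 yh10 zh2) (kh xh6 yh14 zh12) (kh xh6 yh14 zh13) (kh xh5 yh10 zh5) (kh xh5 yh10 zh26) (kh xh7 yh13 zh17) (kh xh7 yh13 zh19) (kh xh8 yh0 zh11) (kh xh7 yh13 zh23) (kh xh8 yh0 zh15) (kh xh5 yh10 zh10) (kh xh7 yh13 zh26) (kh xh8 yh0 zh18) (kh xh5 yh10 zh12) (kh xh8 yh0 zh20) (kh xh5 yh10 zh17) (kh xh6 yh14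 zh27) (kh xh5 yh10 zh19) (kh xh6 yh14 zh29) (kh xh6 yh14 zh30) (kh xh5 yh10 zh22)) (@D3.rec (fun _ => Pt) (kh xh6 yh15 zh0) (kh xh8 yh0 zh7) (kh xh7 yh9 zh0) (kh xh5 yh10 zh27) (kh xh5 yh10 zh28) (kh xh7 yh10 zh19) (kh xh8 yh0 zh28) (kh xh8 yh0 zh30) (kh xh7 yh15 zh10) (kh xh7 yh15 zh12) (kh xh8 yh1 zh7) (kh xh7 yh15 zh16) (kh xh8 yh1 zh11) (kh xh5 yh11 zh0) (kh xh7 yh15 zh19) (kh xh8 yh1 zh14) (kh xh5 yh11 zh2) (kh xh8 yh1 zh18) (kh xh5 yh11 zh4) (kh xh8 yh1 zh21) (kh xh7 yh15 zh25) (kh xh8 yh1 zh23) (kh xh5 yh11 zh6) (kh xh6 yh15 zh23) (kh xh8 yh1 zh26) (kh xh5 yh11 zh9) (kh xh6 yh15 zh26) (kh xh5 yh11 zh14) (kh xh7 yh11 zh18) (kh xh8 yh1 zh29) (kh xh7 yh16 zh22) (kh xh8 yh1 zh31)) (@D3.rec (fun _ => Pt) (kh xh5 yh11 zh17) (kh xh7 yh11 zh9)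 (kh xh5 yh11 zh19) (kh xh6 yh16 zh3) (kh xh6 yh16 zh4) (kh xh5 yh11 zh24) (kh xh7 yh12 zh26) (kh xh5 yh11 zh26) (kh xh7 yh12 zh13) (kh xh7 yh12 zh11) (kh xh5 yh12 zh0) (kh xh6 yh16 zh11) (kh xh5 yh12 zh22) (kh xh5 yh12 zh25) (kh xh5 yh12 zh5) (kh xh5 yh12 zh6) (kh xh6 yh16 zh16) (kh xh7 yh7 zh13) (kh xh5 yh12 zh16) (kh xh6 yh16 zh19) (kh xh6 yh16 zh20) (kh xh6 yh17 zh23) (kh xh5 yh12 zh19) (kh xh6 yh16 zh23) (kh xh8 yh2 zh5) (kh xh6 yh16 zh25) (kh xh8 yh2 zh17) (kh xh5 yh12 zh23) (kh xh7 yh8 zh5) (kh xh7 yh8 zh7) (kh xh8 yh2 zh20) (kh xh7 yh18 zh29)) (@D3.rec (fun _ => Pt) (kh xh8 yh2 zh24) (kh xh5 yh12 zh30) (kh xh7 yh19 zh0) (kh xh8 yh2 zh27) (kh xh5 yh13 zh0) (kh xh8 yh2 zh31) (kh xh5 yh13 zh2) (kh xh8 yh3 zh2) (kh xh7 yh19 zh6) (kh xh8 yh3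 zh4) (kh xh5 yh13 zh4) (kh xh6 yh17 zh11) (kh xh8 yh3 zh7) (kh xh5 yh13 zh7) (kh xh6 yh17 zh14) (kh xh6 yh17 zh16) (kh xh6 yh17 zh15) (kh xh5 yh13 zh9) (kh xh8 yh3 zh13) (kh xh8 yh3 zh14) (kh xh5 yh13 zh11) (kh xh8 yh3 zh15) (kh xh5 yh13 zh13) (kh xh6 yh16 zh21) (kh xh6 yh17 zh24) (kh xh5 yh13 zh16) (kh xh5 yh14 zh13) (kh xh5 yh14 zh14) (kh xh8 yh3 zh17) (kh xh5 yh13 zh20) (kh xh6 yh17 zh30) (kh xh5 yh13 zh22)) (@D3.rec (fun _ => Pt) (kh xh6 yh18 zh0) (kh xh6 yh18 zh1) (kh xh5 yh14 zh15) (kh xh5 yh13 zh28) (kh xh6 yh18 zh4) (kh xh6 yh18 zh5) (kh xh7 yh7 zh12) (kh xh8 yh3 zh21) (kh xh8 yh3 zh22) (kh xh5 yh14 zh5) (kh xh5 yh14 zh6) (kh xh5 yh14 zh8) (kh xh6 yh18 zh12) (kh xh8 yh3 zh23) (kh xh5 yh14 zh19) (kh xh8 yh3 zh24) (kh xh7 yh1 zh11) (kh xh6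 yh18 zh17) (kh xh6 yh18 zh18) (kh xh8 yh4 zh1) (kh xh6 yh18 zh20) (kh xh8 yh4 zh5) (kh xh6 yh18 zh22) (kh xh8 yh4 zh8) (kh xh5 yh14 zh25) (kh xh5 yh14 zh27) (kh xh7 yh1 zh25) (kh xh8 yh4 zh9) (kh xh8 yh4 zh10) (kh xh8 yh4 zh17) (kh xh6 yh18 zh30) (kh xh8 yh4 zh20)) (@D3.rec (fun _ => Pt) (kh xh5 yh14 zh30) (kh xh6 yh19 zh1) (kh xh8 yh4 zh22) (kh xh5 yh15 zh0) (kh xh6 yh19 zh4) (kh xh8 yh4 zh25) (kh xh5 yh15 zh3) (kh xh5 yh15 zh6) (kh xh5 yh15 zh7) (kh xh8 yh4 zh28) (kh xh7 yh6 zh3) (kh xh8 yh4 zh30) (kh xh7 yh6 zh1) (kh xh8 yh5 zh0) (kh xh5 yh15 zh8) (kh xh6 yh19 zh15) (kh xh8 yh5 zh2) (kh xh5 yh15 zh10) (kh xh8 yh5 zh4) (kh xh5 yh15 zh13) (kh xh7 yh9 zh29) (kh xh5 yh15 zh15) (kh xh5 yh15 zh17) (kh xh5 yh15 zh19) (kh xh7 yh3 zh29) (kh xh8 yh5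 zh10) (kh xh8 yh5 zh11) (kh xh8 yh5 zh17) (kh xh6 yh19 zh28) (kh xh8 yh5 zh21) (kh xh6 yh19 zh30) (kh xh8 yh5 zh24)) (@D3.rec (fun _ => Pt) (kh xh5 yh15 zh23) (kh xh8 yh5 zh26) (kh xh6 yh20 zh2) (kh xh8 yh5 zh30) (kh xh5 yh15 zh25) (kh xh6 yh20 zh5) (kh xh8 yh6 zh1) (kh xh5 yh15 zh27) (kh xh5 yh15 zh31) (kh xh8 yh6 zh5) (kh xh8 yh6 zh3) (kh xh8 yh6 zh8) (kh xh5 yh16 zh0) (kh xh6 yh20 zh13) (kh xh8 yh6 zh10) (kh xh5 yh16 zh2) (kh xh8 yh6 zh12) (kh xh5 yh16 zh5) (kh xh7 yh14 zh9) (kh xh5 yh16 zh9) (kh xh8 yh6 zh16) (kh xh5 yh16 zh8) (kh xh7 yh6 zh7) (kh xh8 yh6 zh18) (kh xh5 yh16 zh10) (kh xh8 yh6 zh20) (kh xh5 yh16 zh13) (kh xh8 yh6 zh19) (kh xh5 yh16 zh15) (kh xh7 yh14 zh20) (kh xh7 yh14 zh21) (kh xh6 yh10 zh18)) (@D3.rec (fun _ => Pt) (kh xh7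 yh6 zh31) (kh xh8 yh6 zh30) (kh xh6 yh21 zh2) (kh xh8 yh7 zh2) (kh xh5 yh16 zh21) (kh xh6 yh21 zh5) (kh xh8 yh7 zh5) (kh xh5 yh16 zh23) (kh xh8 yh7 zh9) (kh xh5 yh16 zh25) (kh xh8 yh7 zh12) (kh xh6 yh21 zh11) (kh xh8 yh7 zh14) (kh xh5 yh16 zh27) (kh xh6 yh11 zh21) (kh xh8 yh7 zh17) (kh xh5 yh16 zh30) (kh xh6 yh21 zh17) (kh xh8 yh7 zh20) (kh xh5 yh17 zh1) (kh xh7 yh20 zh7) (kh xh5 yh17 zh3) (kh xh6 yh21 zh22) (kh xh6 yh21 zh23) (kh xh5 yh17 zh6) (kh xh7 yh20 zh25) (kh xh7 yh20 zh26) (kh xh6 yh21 zh27) (kh xh6 yh21 zh28) (kh xh6 yh21 zh29) (kh xh6 yh21 zh30) (kh xh5 yh17 zh12))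
def f_h_7 : D2 → D3 → Pt := @D2.rec (fun _ => D3 → Pt) (@D3.rec (fun _ => Pt) (kh xh7 yh0 zh0) (kh xh7 yh0 zh1) (kh xh7 yh0 zh2) (kh xh7 yh0 zh3) (kh xh8 yh8 zh11) (kh xh7 yh0 zh5) (kh xh7 yh0 zh6) (kh xh7 yh0 zh7) (kh xh7 yh0 zh8) (kh xh8 yh8 zh15) (kh xh7 yh0 zh10) (kh xh8 yh8 zh18) (kh xh5 yh17 zh21) (kh xh7 yh0 zh13) (kh xh7 yh0 zh14) (kh xh7 yh0 zh15) (kh xh8 yh8 zh22) (kh xh8 yh8 zh23) (kh xh7 yh0 zh18) (kh xh8 yh8 zh25) (kh xh5 yh17 zh30) (kh xh7 yh0 zh21) (kh xh8 yh8 zh27) (kh xh5 yh18 zh0) (kh xh8 yh8 zh29) (kh xh7 yh0 zh25) (kh xh8 yh9 zh0) (kh xh5 yh18 zh5) (kh xh7 yh0 zh28) (kh xh7 yh0 zh29) (kh xh8 yh9 zh3) (kh xh7 yh0 zh31)) (@D3.rec (fun _ => Pt) (kh xh8 yh9 zh6) (kh xh5 yh18 zh9) (kh xh7 yh1 zh2) (kh xh8 yh9 zh8) (kh xh5 yh18 zh11)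 (kh xh8 yh9 zh10) (kh xh8 yh9 zh12) (kh xh5 yh18 zh13) (kh xh8 yh9 zh15) (kh xh5 yh18 zh14) (kh xh8 yh9 zh13) (kh xh6 yh18 zh16) (kh xh7 yh1 zh12) (kh xh6 yh12 zh11) (kh xh7 yh1 zh14) (kh xh7 yh1 zh15) (kh xh8 yh9 zh27) (kh xh7 yh1 zh17) (kh xh8 yh9 zh31) (kh xh7 yh1 zh19) (kh xh8 yh10 zh2) (kh xh5 yh18 zh21) (kh xh8 yh10 zh3) (kh xh5 yh18 zh22) (kh xh5 yh18 zh26) (kh xh6 yh18 zh26) (kh xh5 yh18 zh24) (kh xh8 yh10 zh4) (kh xh6 yh10 zh4) (kh xh8 yh10 zh6) (kh xh8 yh10 zh7) (kh xh8 yh10 zh19)) (@D3.rec (fun _ => Pt) (kh xh7 yh2 zh0) (kh xh8 yh10 zh21) (kh xh7 yh2 zh2) (kh xh8 yh10 zh24) (kh xh5 yh18 zh31) (kh xh7 yh2 zh5) (kh xh8 yh10 zh26) (kh xh5 yh19 zh1) (kh xh7 yh2 zh8) (kh xh6 yh0 zh18) (kh xh7 yh2 zh10) (kh xh8 yh11 zh1) (kh xh7 yh2 zh12)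 (kh xh8 yh11 zh4) (kh xh5 yh19 zh7) (kh xh5 yh19 zh8) (kh xh5 yh19 zh13) (kh xh6 yh10 zh28) (kh xh5 yh19 zh15) (kh xh5 yh19 zh16) (kh xh8 yh11 zh15) (kh xh8 yh11 zh5) (kh xh6 yh0 zh15) (kh xh8 yh11 zh7) (kh xh8 yh11 zh8) (kh xh8 yh11 zh22) (kh xh8 yh11 zh10) (kh xh8 yh11 zh11) (kh xh8 yh11 zh28) (kh xh8 yh11 zh13) (kh xh8 yh11 zh31) (kh xh5 yh19 zh17)) (@D3.rec (fun _ => Pt) (kh xh8 yh12 zh0) (kh xh5 yh19 zh19) (kh xh7 yh3 zh2) (kh xh8 yh12 zh2) (kh xh5 yh19 zh21) (kh xh8 yh12 zh4) (kh xh5 yh19 zh24) (kh xh6 yh5 zh29) (kh xh7 yh3 zh8) (kh xh7 yh3 zh9) (kh xh8 yh12 zh9) (kh xh7 yh3 zh11) (kh xh8 yh12 zh12) (kh xh5 yh19 zh29) (kh xh7 yh3 zh14) (kh xh8 yh12 zh14) (kh xh5 yh19 zh31) (kh xh8 yh12 zh16) (kh xh5 yh20 zh2) (kh xh7 yh3 zh19) (kh xh8 yh12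 zh18) (kh xh5 yh20 zh4) (kh xh8 yh12 zh19) (kh xh5 yh20 zh7) (kh xh8 yh12 zh21) (kh xh5 yh20 zh9) (kh xh8 yh12 zh25) (kh xh5 yh20 zh10) (kh xh5 yh20 zh14) (kh xh6 yh19 zh24) (kh xh5 yh20 zh12) (kh xh8 yh12 zh26)) (@D3.rec (fun _ => Pt) (kh xh6 yh9 zh4) (kh xh8 yh12 zh28) (kh xh8 yh12 zh29) (kh xh8 yh13 zh9) (kh xh7 yh4 zh4) (kh xh7 yh4 zh5) (kh xh8 yh13 zh14) (kh xh7 yh4 zh7) (kh xh8 yh13 zh18) (kh xh7 yh4 zh9) (kh xh8 yh13 zh21) (kh xh5 yh20 zh20) (kh xh8 yh13 zh23) (kh xh7 yh4 zh13) (kh xh8 yh13 zh27) (kh xh5 yh20 zh22) (kh xh7 yh4 zh16) (kh xh8 yh13 zh30) (kh xh5 yh20 zh24) (kh xh8 yh14 zh0) (kh xh5 yh20 zh26) (kh xh5 yh20 zh31) (kh xh6 yh10 zh25) (kh xh5 yh21 zh1) (kh xh5 yh21 zh2) (kh xh8 yh14 zh11) (kh xh8 yh14 zh1) (kh xh5 yh21 zh16) (kh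 xh8 yh14 zh3) (kh xh8 yh14 zh4) (kh xh8 yh14 zh19) (kh xh8 yh14 zh6)) (@D3.rec (fun _ => Pt) (kh xh8 yh14 zh7) (kh xh8 yh14 zh25) (kh xh8 yh14 zh9) (kh xh8 yh14 zh28) (kh xh5 yh21 zh3) (kh xh7 yh5 zh5) (kh xh8 yh14 zh31) (kh xh5 yh21 zh5) (kh xh7 yh5 zh8) (kh xh8 yh15 zh1) (kh xh5 yh21 zh7) (kh xh8 yh15 zh3) (kh xh5 yh21 zh10) (kh xh6 yh9 zh2) (kh xh6 yh1 zh12) (kh xh6 yh7 zh4) (kh xh6 yh1 zh13) (kh xh8 yh13 zh0) (kh xh5 yh21 zh17) (kh xh5 yh21 zh24) (kh xh6 yh1 zh21) (kh xh5 yh21 zh26) (kh xh5 yh21 zh27) (kh xh8 yh15 zh13) (kh xh5 yh21 zh29) (kh xh5 yh21 zh30) (kh xh8 yh15 zh18) (kh xh6 yh0 zh0) (kh xh8 yh15 zh21) (kh xh5 yh21 zh23) (kh xh6 yh3 zh13) (kh xh8 yh15 zh23)) (@D3.rec (fun _ => Pt) (kh xh6 yh7 zh10) (kh xh6 yh19 zh12) (kh xh8 yh15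 zh27) (kh xh6 yh19 zh10) (kh xh8 yh15 zh30) (kh xh5 yh21 zh28) (kh xh8 yh15 zh14) (kh xh6 yh20 zh22) (kh xh8 yh16 zh3) (kh xh8 yh15 zh16) (kh xh8 yh16 zh6) (kh xh5 yh21 zh31) (kh xh8 yh15 zh19) (kh xh8 yh16 zh8) (kh xh6 yh0 zh1) (kh xh7 yh6 zh15) (kh xh8 yh16 zh11) (kh xh6 yh0 zh4) (kh xh8 yh16 zh13) (kh xh6 yh0 zh7) (kh xh8 yh16 zh9) (kh xh6 yh0 zh9) (kh xh6 yh10 zh2) (kh xh6 yh10 zh3) (kh xh6 yh1 zh24) (kh xh6 yh5 zh12) (kh xh8 yh10 zh10) (kh xh6 yh4 zh31) (kh xh8 yh16 zh18) (kh xh6 yh0 zh19) (kh xh7 yh17 zh31) (kh xh6 yh21 zh0)) (@D3.rec (fun _ => Pt) (kh xh8 yh16 zh24) (kh xh6 yh0 zh21) (kh xh6 yh0 zh25) (kh xh6 yh10 zh22) (kh xh6 yh0 zh26) (kh xh6 yh0 zh27) (kh xh8 yh16 zh25) (kh xh8 yh16 zh26) (kh xh8 yh16 zh27) (kh xh8 yh16 zh29) (kh xh8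 yh16 zh30) (kh xh7 yh7 zh11) (kh xh6 yh18 zh6) (kh xh6 yh16 zh17) (kh xh6 yh1 zh1) (kh xh6 yh1 zh7) (kh xh6 yh1 zh8) (kh xh6 yh1 zh9) (kh xh6 yh10 zh15) (kh xh6 yh1 zh10) (kh xh6 yh1 zh11) (kh xh8 yh14 zh2) (kh xh8 yh17 zh6) (kh xh8 yh17 zh7) (kh xh8 yh17 zh10) (kh xh8 yh17 zh11) (kh xh8 yh15 zh6) (kh xh6 yh1 zh22) (kh xh6 yh9 zh6) (kh xh6 yh10 zh16) (kh xh6 yh1 zh23) (kh xh8 yh11 zh6)) (@D3.rec (fun _ => Pt) (kh xh8 yh15 zh9) (kh xh6 yh1 zh25) (kh xh7 yh8 zh2) (kh xh6 yh12 zh29) (kh xh6 yh12 zh30) (kh xh6 yh16 zh28) (kh xh7 yh8 zh6) (kh xh6 yh16 zh29) (kh xh7 yh8 zh8) (kh xh7 yh8 zh9) (kh xh7 yh8 zh10) (kh xh8 yh17 zh23) (kh xh7 yh8 zh12) (kh xh7 yh8 zh13) (kh xh7 yh8 zh14) (kh xh8 yh17 zh26) (kh xh7 yh8 zh16) (kh xh8 yh17 zh29) (kh xh6 yh2 zh11)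 (kh xh8 yh17 zh30) (kh xh6 yh2 zh14) (kh xh7 yh8 zh21) (kh xh8 yh18 zh0) (kh xh6 yh2 zh16) (kh xh8 yh18 zh2) (kh xh6 yh2 zh18) (kh xh6 yh2 zh19) (kh xh8 yh18 zh3) (kh xh6 yh4 zh2) (kh xh6 yh4 zh4) (kh xh6 yh13 zh0) (kh xh6 yh6 zh6)) (@D3.rec (fun _ => Pt) (kh xh6 yh15 zh2) (kh xh6 yh13 zh1) (kh xh8 yh18 zh16) (kh xh6 yh13 zh3) (kh xh8 yh18 zh18) (kh xh6 yh2 zh26) (kh xh6 yh2 zh29) (kh xh6 yh4 zh16) (kh xh6 yh6 zh26) (kh xh6 yh4 zh19) (kh xh8 yh14 zh12) (kh xh6 yh6 zh23) (kh xh8 yh18 zh25) (kh xh6 yh8 zh14) (kh xh8 yh18 zh26) (kh xh6 yh3 zh3) (kh xh7 yh9 zh16) (kh xh8 yh18 zh30) (kh xh7 yh9 zh18) (kh xh8 yh19 zh1) (kh xh6 yh3 zh8) (kh xh8 yh19 zh2) (kh xh6 yh7 zh8) (kh xh8 yh19 zh4) (kh xh8 yh11 zh17) (kh xh8 yh19 zh7) (kh xh8 yh19 zh8) (kh xh6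 yh3 zh15) (kh xh6 yh3 zh17) (kh xh6 yh19 zh20) (kh xh8 yh19 zh9) (kh xh6 yh3 zh20)) (@D3.rec (fun _ => Pt) (kh xh7 yh10 zh0) (kh xh8 yh19 zh11) (kh xh6 yh3 zh22) (kh xh8 yh19 zh13) (kh xh6 yh3 zh26) (kh xh8 yh19 zh15) (kh xh6 yh3 zh28) (kh xh8 yh19 zh18) (kh xh6 yh3 zh29) (kh xh6 yh4 zh1) (kh xh8 yh18 zh4) (kh xh6 yh3 zh31) (kh xh8 yh19 zh19) (kh xh8 yh18 zh6) (kh xh8 yh19 zh21) (kh xh8 yh19 zh22) (kh xh8 yh20 zh2) (kh xh6 yh13 zh15) (kh xh6 yh13 zh16) (kh xh6 yh15 zh5) (kh xh6 yh13 zh17) (kh xh8 yh20 zh10) (kh xh6 yh13 zh19) (kh xh8 yh20 zh13) (kh xh6 yh4 zh7) (kh xh8 yh20 zh15) (kh xh6 yh13 zh23) (kh xh8 yh20 zh19) (kh xh6 yh4 zh9) (kh xh6 yh13 zh26) (kh xh8 yh20 zh22) (kh xh6 yh4 zh11)) (@D3.rec (fun _ => Pt) (kh xh6 yh4 zh13) (kh xh6 yh4 zh18)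 (kh xh6 yh6 zh30) (kh xh6 yh4 zh20) (kh xh6 yh4 zh21) (kh xh8 yh21 zh1) (kh xh8 yh20 zh24) (kh xh8 yh16 zh16) (kh xh8 yh20 zh26) (kh xh6 yh16 zh1) (kh xh8 yh21 zh9) (kh xh8 yh20 zh28) (kh xh8 yh20 zh29) (kh xh8 yh21 zh15) (kh xh8 yh20 zh31) (kh xh8 yh21 zh18) (kh xh6 yh4 zh22) (kh xh6 yh13 zh31) (kh xh6 yh15 zh28) (kh xh6 yh14 zh0) (kh xh8 yh21 zh22) (kh xh6 yh4 zh26) (kh xh8 yh21 zh24) (kh xh6 yh4 zh29) (kh xh8 yh10 zh27) (kh xh7 yh11 zh25) (kh xh8 yh21 zh28) (kh xh6 yh5 zh1) (kh xh7 yh11 zh28) (kh xh8 yh21 zh30) (kh xh6 yh5 zh3) (kh xh6 yh5 zh11)) (@D3.rec (fun _ => Pt) (kh xh6 yh7 zh13) (kh xh6 yh5 zh13) (kh xh9 yh0 zh2) (kh xh6 yh5 zh16) (kh xh6 yh5 zh17) (kh xh9 yh0 zh6) (kh xh6 yh5 zh19) (kh xh9 yh0 zh8) (kh xh6 yh5 zh10) (kh xh8 yh11 zh16)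 (kh xh9 yh0 zh10) (kh xh6 yh16 zh9) (kh xh9 yh0 zh12) (kh xh6 yh16 zh8) (kh xh9 yh0 zh14) (kh xh6 yh5 zh15) (kh xh9 yh0 zh3) (kh xh8 yh15 zh28) (kh xh9 yh0 zh18) (kh xh8 yh11 zh29) (kh xh9 yh0 zh20) (kh xh6 yh5 zh18) (kh xh8 yh11 zh26) (kh xh9 yh0 zh23) (kh xh6 yh5 zh20) (kh xh6 yh14 zh8) (kh xh6 yh16 zh6) (kh xh9 yh0 zh26) (kh xh6 yh5 zh25) (kh xh9 yh0 zh24) (kh xh6 yh5 zh27) (kh xh8 yh12 zh5)) (@D3.rec (fun _ => Pt) (kh xh8 yh12 zh6) (kh xh6 yh5 zh30) (kh xh9 yh0 zh29) (kh xh6 yh6 zh1) (kh xh9 yh0 zh21) (kh xh6 yh6 zh3) (kh xh8 yh18 zh10) (kh xh6 yh6 zh5) (kh xh6 yh6 zh9) (kh xh6 yh7 zh22) (kh xh8 yh18 zh8) (kh xh6 yh7 zh24) (kh xh9 yh1 zh2) (kh xh8 yh18 zh5) (kh xh9 yh1 zh11) (kh xh6 yh12 zh31) (kh xh6 yh13 zh12) (kh xh6 yh14 zh16) (kh xh9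 yh1 zh16) (kh xh6 yh14 zh17) (kh xh8 yh19 zh20) (kh xh6 yh6 zh15) (kh xh9 yh1 zh19) (kh xh6 yh14 zh19) (kh xh9 yh1 zh23) (kh xh6 yh6 zh17) (kh xh6 yh14 zh22) (kh xh9 yh1 zh26) (kh xh6 yh6 zh19) (kh xh6 yh6 zh25) (kh xh9 yh1 zh30) (kh xh9 yh1 zh31)) (@D3.rec (fun _ => Pt) (kh xh9 yh1 zh28) (kh xh8 yh18 zh20) (kh xh9 yh2 zh4) (kh xh8 yh15 zh24) (kh xh9 yh2 zh6) (kh xh6 yh6 zh27) (kh xh8 yh20 zh25) (kh xh9 yh2 zh7) (kh xh6 yh7 zh1) (kh xh6 yh20 zh18) (kh xh8 yh15 zh7) (kh xh9 yh2 zh10) (kh xh6 yh7 zh6) (kh xh6 yh7 zh7) (kh xh8 yh11 zh19) (kh xh9 yh2 zh12) (kh xh6 yh7 zh9) (kh xh9 yh2 zh13) (kh xh6 yh7 zh11) (kh xh6 yh7 zh14) (kh xh6 yh20 zh29) (kh xh6 yh20 zh30) (kh xh9 yh2 zh15) (kh xh6 yh7 zh17) (kh xh8 yh5 zh8) (kh xh9 yh1 zh1) (kh xh9 yh2 zh21)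 (kh xh6 yh7 zh19) (kh xh6 yh7 zh23) (kh xh8 yh18 zh12) (kh xh6 yh7 zh25) (kh xh6 yh7 zh26)) (@D3.rec (fun _ => Pt) (kh xh9 yh2 zh31) (kh xh9 yh2 zh23) (kh xh9 yh2 zh24) (kh xh9 yh3 zh4) (kh xh9 yh2 zh26) (kh xh9 yh2 zh27) (kh xh9 yh3 zh11) (kh xh9 yh2 zh29) (kh xh9 yh3 zh14) (kh xh6 yh7 zh27) (kh xh6 yh15 zh8) (kh xh9 yh3 zh18) (kh xh6 yh15 zh9) (kh xh9 yh3 zh21) (kh xh6 yh7 zh30) (kh xh9 yh3 zh23) (kh xh6 yh15 zh11) (kh xh9 yh3 zh27) (kh xh6 yh8 zh0) (kh xh6 yh15 zh14) (kh xh9 yh3 zh30) (kh xh6 yh8 zh2) (kh xh9 yh4 zh2) (kh xh6 yh8 zh4) (kh xh9 yh4 zh5) (kh xh6 yh15 zh20) (kh xh9 yh4 zh7) (kh xh6 yh8 zh6) (kh xh8 yh5 zh31) (kh xh9 yh4 zh10) (kh xh6 yh8 zh9) (kh xh8 yh13 zh31)) (@D3.rec (fun _ => Pt) (kh xh6 yh8 zh11) (kh xh8 yh17 zh8) (kh xh6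 yh8 zh18) (kh xh9 yh4 zh14) (kh xh6 yh8 zh20) (kh xh6 yh8 zh21) (kh xh9 yh4 zh20) (kh xh6 yh8 zh23) (kh xh9 yh4 zh23) (kh xh6 yh8 zh17) (kh xh9 yh4 zh13) (kh xh9 yh4 zh26) (kh xh6 yh8 zh19) (kh xh9 yh4 zh15) (kh xh9 yh4 zh16) (kh xh9 yh4 zh31) (kh xh9 yh4 zh18) (kh xh9 yh5 zh2) (kh xh6 yh8 zh22) (kh xh9 yh4 zh21) (kh xh9 yh5 zh4) (kh xh6 yh8 zh24) (kh xh6 yh15 zh30) (kh xh9 yh5 zh7) (kh xh6 yh8 zh27) (kh xh9 yh5 zh8) (kh xh6 yh8 zh30) (kh xh9 yh5 zh5) (kh xh6 yh9 zh0) (kh xh8 yh15 zh4) (kh xh8 yh15 zh5) (kh xh8 yh9 zh17)) (@D3.rec (fun _ => Pt) (kh xh6 yh9 zh15) (kh xh6 yh9 zh8) (kh xh6 yh9 zh18) (kh xh6 yh9 zh19) (kh xh9 yh5 zh15) (kh xh6 yh9 zh21) (kh xh9 yh5 zh17) (kh xh6 yh9 zh11) (kh xh6 yh9 zh24) (kh xh9 yh5 zh19) (kh xh6 yh9 zh13) (kh xh8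 yh11 zh24) (kh xh9 yh5 zh21) (kh xh6 yh9 zh16) (kh xh9 yh5 zh12) (kh xh9 yh5 zh24) (kh xh8 yh16 zh4) (kh xh9 yh5 zh26) (kh xh6 yh9 zh20) (kh xh8 yh16 zh1) (kh xh9 yh5 zh28) (kh xh6 yh9 zh22) (kh xh9 yh5 zh30) (kh xh6 yh9 zh25) (kh xh6 yh10 zh0) (kh xh9 yh6 zh1) (kh xh6 yh9 zh28) (kh xh6 yh9 zh30) (kh xh9 yh5 zh31) (kh xh9 yh6 zh0) (kh xh6 yh10 zh5) (kh xh7 yh6 zh30)) (@D3.rec (fun _ => Pt) (kh xh6 yh10 zh19) (kh xh6 yh10 zh20) (kh xh6 yh10 zh10) (kh xh6 yh10 zh11) (kh xh8 yh16 zh28) (kh xh8 yh3 zh16) (kh xh8 yh17 zh9) (kh xh7 yh18 zh9) (kh xh9 yh6 zh3) (kh xh7 yh18 zh7) (kh xh8 yh6 zh27) (kh xh9 yh6 zh16) (kh xh6 yh10 zh23) (kh xh8 yh16 zh20) (kh xh9 yh6 zh17) (kh xh6 yh10 zh26) (kh xh8 yh12 zh27) (kh xh8 yh10 zh5) (kh xh7 yh18 zh18) (kh xh7 yh18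 zh19) (kh xh9 yh6 zh25) (kh xh9 yh6 zh27) (kh xh7 yh18 zh22) (kh xh9 yh6 zh31) (kh xh6 yh10 zh31) (kh xh7 yh18 zh25) (kh xh9 yh7 zh2) (kh xh6 yh11 zh1) (kh xh9 yh7 zh5) (kh xh6 yh16 zh31) (kh xh9 yh7 zh9) (kh xh6 yh11 zh4)) (@D3.rec (fun _ => Pt) (kh xh6 yh17 zh2) (kh xh9 yh7 zh12) (kh xh6 yh11 zh6) (kh xh9 yh7 zh16) (kh xh6 yh11 zh8) (kh xh9 yh7 zh19) (kh xh6 yh17 zh8) (kh xh9 yh7 zh21) (kh xh6 yh11 zh10) (kh xh8 yh7 zh3) (kh xh9 yh7 zh24) (kh xh6 yh11 zh13) (kh xh9 yh7 zh3) (kh xh8 yh2 zh30) (kh xh8 yh2 zh29) (kh xh6 yh11 zh15) (kh xh9 yh7 zh30) (kh xh9 yh7 zh31) (kh xh6 yh11 zh17) (kh xh9 yh8 zh1) (kh xh6 yh11 zh19) (kh xh9 yh8 zh0) (kh xh8 yh7 zh16) (kh xh6 yh11 zh22) (kh xh7 yh19 zh24) (kh xh7 yh19 zh25) (kh xh7 yh19 zh26) (kh xh9 yh8 zh5)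 (kh xh7 yh19 zh28) (kh xh9 yh8 zh8) (kh xh6 yh11 zh27) (kh xh7 yh19 zh31)) (@D3.rec (fun _ => Pt) (kh xh9 yh8 zh10) (kh xh6 yh11 zh29) (kh xh9 yh8 zh12) (kh xh6 yh12 zh0) (kh xh6 yh12 zh7) (kh xh9 yh8 zh15) (kh xh6 yh12 zh3) (kh xh6 yh21 zh20) (kh xh6 yh12 zh5) (kh xh9 yh8 zh13) (kh xh9 yh8 zh14) (kh xh7 yh20 zh11) (kh xh7 yh20 zh12) (kh xh9 yh8 zh21) (kh xh6 yh12 zh13) (kh xh7 yh20 zh15) (kh xh9 yh8 zh23) (kh xh6 yh12 zh15) (kh xh9 yh8 zh25) (kh xh6 yh12 zh18) (kh xh9 yh5 zh29) (kh xh6 yh12 zh20) (kh xh6 yh12 zh27) (kh xh6 yh12 zh28) (kh xh6 yh12 zh23) (kh xh6 yh21 zh25) (kh xh6 yh21 zh26) (kh xh8 yh17 zh16) (kh xh8 yh1 zh20) (kh xh8 yh18 zh14) (kh xh8 yh1 zh24) (kh xh6 yh13 zh2)) (@D3.rec (fun _ => Pt) (kh xh6 yh13 zh4) (kh xh7 yh21 zh1) (kh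 xh6 yh13 zh8) (kh xh7 yh21 zh3) (kh xh9 yh1 zh12) (kh xh6 yh13 zh13) (kh xh6 yh13 zh14) (kh xh9 yh9 zh1) (kh xh9 yh9 zh2) (kh xh8 yh20 zh3) (kh xh8 yh20 zh5) (kh xh9 yh9 zh10) (kh xh8 yh20 zh8) (kh xh9 yh9 zh14) (kh xh6 yh13 zh18) (kh xh8 yh20 zh11) (kh xh9 yh9 zh17) (kh xh6 yh13 zh20) (kh xh9 yh9 zh20) (kh xh6 yh13 zh22) (kh xh8 yh0 zh12) (kh xh8 yh20 zh17) (kh xh9 yh9 zh23) (kh xh6 yh13 zh24) (kh xh7 yh21 zh24) (kh xh9 yh9 zh24) (kh xh6 yh13 zh27) (kh xh7 yh21 zh27) (kh xh6 yh13 zh30) (kh xh9 yh9 zh26) (kh xh8 yh21 zh19) (kh xh9 yh9 zh27))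
def f_h_8 : D2 → D3 → Pt := @D2.rec (fun _ => D3 → Pt) (@D3.rec (fun _ => Pt) (kh xh6 yh14 zh1) (kh xh6 yh14 zh3) (kh xh8 yh0 zh2) (kh xh8 yh0 zh3) (kh xh6 yh14 zh7) (kh xh6 yh14 zh9) (kh xh8 yh0 zh6) (kh xh6 yh15 zh1) (kh xh9 yh9 zh31) (kh xh9 yh1 zh14) (kh xh9 yh10 zh2) (kh xh6 yh14 zh18) (kh xh7 yh21 zh20) (kh xh9 yh1 zh21) (kh xh9 yh10 zh5) (kh xh6 yh14 zh20) (kh xh8 yh0 zh16) (kh xh9 yh10 zh6) (kh xh6 yh14 zh23) (kh xh8 yh0 zh19) (kh xh6 yh14 zh25) (kh xh8 yh0 zh21) (kh xh8 yh0 zh22) (kh xh8 yh0 zh23) (kh xh8 yh18 zh11) (kh xh8 yh0 zh25) (kh xh8 yh0 zh26) (kh xh9 yh10 zh14) (kh xh6 yh15 zh6) (kh xh8 yh20 zh4) (kh xh6 yh15 zh7) (kh xh8 yh20 zh6)) (@D3.rec (fun _ => Pt) (kh xh9 yh10 zh21) (kh xh9 yh10 zh16) (kh xh9 yh10 zh18) (kh xh9 yh10 zh24)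 (kh xh9 yh3 zh16) (kh xh9 yh3 zh19) (kh xh9 yh10 zh28) (kh xh6 yh15 zh10) (kh xh9 yh10 zh31) (kh xh9 yh3 zh25) (kh xh9 yh11 zh1) (kh xh6 yh15 zh12) (kh xh8 yh1 zh12) (kh xh9 yh11 zh4) (kh xh6 yh15 zh15) (kh xh8 yh19 zh27) (kh xh8 yh1 zh17) (kh xh8 yh1 zh16) (kh xh6 yh15 zh17) (kh xh9 yh11 zh10) (kh xh7 yh20 zh28) (kh xh6 yh15 zh19) (kh xh9 yh11 zh11) (kh xh6 yh15 zh21) (kh xh7 yh20 zh30) (kh xh8 yh1 zh25) (kh xh6 yh15 zh24) (kh xh8 yh1 zh27) (kh xh8 yh1 zh28) (kh xh6 yh15 zh29) (kh xh8 yh21 zh20) (kh xh6 yh15 zh31)) (@D3.rec (fun _ => Pt) (kh xh8 yh21 zh7) (kh xh8 yh21 zh5) (kh xh8 yh2 zh2) (kh xh9 yh0 zh25) (kh xh8 yh2 zh4) (kh xh6 yh16 zh24) (kh xh8 yh2 zh6) (kh xh8 yh2 zh7) (kh xh9 yh11 zh20) (kh xh8 yh2 zh9) (kh xh8 yh2 zh10) (kh xh8 yh2 zh11)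 (kh xh8 yh17 zh17) (kh xh8 yh2 zh13) (kh xh9 yh11 zh22) (kh xh8 yh2 zh15) (kh xh9 yh11 zh25) (kh xh6 yh16 zh26) (kh xh8 yh17 zh18) (kh xh9 yh11 zh28) (kh xh6 yh16 zh30) (kh xh9 yh11 zh31) (kh xh9 yh7 zh7) (kh xh9 yh12 zh1) (kh xh6 yh17 zh0) (kh xh8 yh2 zh25) (kh xh9 yh12 zh4) (kh xh6 yh17 zh3) (kh xh8 yh2 zh28) (kh xh7 yh19 zh14) (kh xh7 yh19 zh13) (kh xh6 yh17 zh5)) (@D3.rec (fun _ => Pt) (kh xh9 yh12 zh10) (kh xh9 yh12 zh11) (kh xh6 yh17 zh7) (kh xh9 yh12 zh13) (kh xh6 yh17 zh9) (kh xh9 yh12 zh12) (kh xh8 yh3 zh6) (kh xh6 yh17 zh12) (kh xh8 yh3 zh8) (kh xh8 yh3 zh9) (kh xh8 yh17 zh5) (kh xh9 yh12 zh18) (kh xh9 yh12 zh19) (kh xh6 yh17 zh18) (kh xh6 yh17 zh19) (kh xh6 yh17 zh21) (kh xh7 yh18 zh5) (kh xh6 yh17 zh28) (kh xh8 yh3 zh18) (kh xh8 yh3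 zh19) (kh xh8 yh3 zh20) (kh xh6 yh18 zh7) (kh xh6 yh18 zh8) (kh xh6 yh18 zh13) (kh xh6 yh18 zh15) (kh xh8 yh9 zh14) (kh xh9 yh12 zh24) (kh xh9 yh12 zh25) (kh xh9 yh13 zh0) (kh xh8 yh3 zh29) (kh xh9 yh13 zh4) (kh xh8 yh3 zh31)) (@D3.rec (fun _ => Pt) (kh xh9 yh13 zh7) (kh xh6 yh18 zh19) (kh xh9 yh13 zh9) (kh xh8 yh4 zh3) (kh xh9 yh13 zh13) (kh xh6 yh18 zh21) (kh xh8 yh4 zh6) (kh xh9 yh13 zh16) (kh xh6 yh18 zh23) (kh xh6 yh18 zh27) (kh xh6 yh18 zh28) (kh xh9 yh13 zh21) (kh xh9 yh13 zh18) (kh xh8 yh14 zh17) (kh xh9 yh13 zh25) (kh xh8 yh14 zh15) (kh xh9 yh13 zh27) (kh xh6 yh18 zh29) (kh xh8 yh4 zh18) (kh xh9 yh13 zh29) (kh xh6 yh18 zh31) (kh xh9 yh13 zh31) (kh xh6 yh19 zh2) (kh xh8 yh18 zh27) (kh xh9 yh14 zh2) (kh xh6 yh19 zh5) (kh xh9 yh14 zh4) (kh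 xh9 yh14 zh5) (kh xh6 yh19 zh9) (kh xh9 yh14 zh6) (kh xh6 yh19 zh11) (kh xh9 yh14 zh8)) (@D3.rec (fun _ => Pt) (kh xh6 yh19 zh13) (kh xh9 yh14 zh10) (kh xh6 yh19 zh16) (kh xh9 yh14 zh9) (kh xh6 yh19 zh18) (kh xh8 yh17 zh25) (kh xh8 yh17 zh24) (kh xh9 yh14 zh7) (kh xh7 yh14 zh24) (kh xh8 yh12 zh23) (kh xh6 yh19 zh25) (kh xh6 yh19 zh26) (kh xh9 yh14 zh21) (kh xh9 yh14 zh17) (kh xh9 yh14 zh25) (kh xh9 yh14 zh19) (kh xh9 yh14 zh28) (kh xh6 yh19 zh27) (kh xh9 yh14 zh30) (kh xh8 yh5 zh19) (kh xh9 yh15 zh2) (kh xh6 yh19 zh29) (kh xh8 yh5 zh22) (kh xh9 yh15 zh5) (kh xh6 yh19 zh31) (kh xh9 yh15 zh9) (kh xh6 yh20 zh1) (kh xh9 yh15 zh12) (kh xh8 yh5 zh28) (kh xh9 yh15 zh14) (kh xh6 yh20 zh3) (kh xh7 yh15 zh28)) (@D3.rec (fun _ => Pt) (kh xh9 yh15 zh17) (kh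 xh6 yh20 zh6) (kh xh9 yh1 zh27) (kh xh6 yh20 zh10) (kh xh9 yh15 zh21) (kh xh6 yh20 zh9) (kh xh8 yh15 zh31) (kh xh9 yh15 zh23) (kh xh6 yh20 zh11) (kh xh9 yh15 zh25) (kh xh6 yh20 zh14) (kh xh9 yh15 zh24) (kh xh6 yh20 zh16) (kh xh9 yh2 zh8) (kh xh9 yh2 zh9) (kh xh9 yh16 zh0) (kh xh6 yh20 zh20) (kh xh9 yh16 zh2) (kh xh6 yh20 zh23) (kh xh6 yh20 zh27) (kh xh6 yh20 zh25) (kh xh9 yh16 zh3) (kh xh9 yh16 zh4) (kh xh8 yh17 zh28) (kh xh8 yh12 zh8) (kh xh8 yh12 zh7) (kh xh8 yh9 zh2) (kh xh7 yh18 zh10) (kh xh9 yh16 zh12) (kh xh9 yh16 zh15) (kh xh6 yh21 zh1) (kh xh9 yh16 zh18)) (@D3.rec (fun _ => Pt) (kh xh8 yh7 zh0) (kh xh9 yh16 zh20) (kh xh6 yh21 zh3) (kh xh7 yh19 zh9) (kh xh9 yh16 zh23) (kh xh6 yh21 zh6) (kh xh9 yh7 zh13) (kh xh9 yh11 zh27) (kh xh9 yh11 zh26)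 (kh xh6 yh21 zh8) (kh xh9 yh16 zh29) (kh xh9 yh16 zh30) (kh xh6 yh21 zh10) (kh xh9 yh17 zh0) (kh xh6 yh21 zh12) (kh xh9 yh16 zh31) (kh xh7 yh19 zh22) (kh xh6 yh21 zh15) (kh xh8 yh7 zh18) (kh xh8 yh7 zh19) (kh xh6 yh21 zh18) (kh xh9 yh8 zh16) (kh xh9 yh8 zh17) (kh xh8 yh7 zh23) (kh xh8 yh7 zh24) (kh xh8 yh7 zh25) (kh xh8 yh7 zh26) (kh xh8 yh8 zh24) (kh xh8 yh12 zh1) (kh xh8 yh8 zh26) (kh xh8 yh16 zh10) (kh xh8 yh7 zh31)) (@D3.rec (fun _ => Pt) (kh xh8 yh8 zh0) (kh xh8 yh8 zh1) (kh xh8 yh8 zh2) (kh xh8 yh8 zh3) (kh xh8 yh8 zh4) (kh xh8 yh8 zh5) (kh xh9 yh17 zh22) (kh xh8 yh8 zh7) (kh xh9 yh17 zh3) (kh xh8 yh8 zh9) (kh xh9 yh17 zh2) (kh xh7 yh0 zh4) (kh xh9 yh17 zh26) (kh xh8 yh8 zh13) (kh xh9 yh17 zh28) (kh xh7 yh0 zh9) (kh xh8 yh8 zh16) (kh xh9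 yh17 zh30) (kh xh7 yh0 zh11) (kh xh9 yh17 zh31) (kh xh8 yh8 zh20) (kh xh9 yh18 zh2) (kh xh7 yh0 zh16) (kh xh7 yh0 zh17) (kh xh8 yh7 zh27) (kh xh7 yh0 zh19) (kh xh8 yh7 zh29) (kh xh7 yh0 zh22) (kh xh8 yh8 zh28) (kh xh7 yh0 zh24) (kh xh8 yh8 zh30) (kh xh9 yh18 zh4)) (@D3.rec (fun _ => Pt) (kh xh7 yh0 zh26) (kh xh9 yh16 zh9) (kh xh8 yh6 zh26) (kh xh7 yh0 zh30) (kh xh8 yh9 zh4) (kh xh9 yh18 zh6) (kh xh7 yh1 zh0) (kh xh9 yh18 zh7) (kh xh7 yh1 zh3) (kh xh8 yh9 zh9) (kh xh7 yh1 zh5) (kh xh9 yh18 zh10) (kh xh7 yh1 zh6) (kh xh7 yh1 zh10) (kh xh8 yh3 zh25) (kh xh7 yh1 zh8) (kh xh9 yh18 zh11) (kh xh7 yh16 zh31) (kh xh9 yh18 zh13) (kh xh9 yh18 zh14) (kh xh9 yh18 zh26) (kh xh8 yh9 zh21) (kh xh9 yh18 zh28) (kh xh8 yh9 zh23) (kh xh9 yh19 zh0) (kh xh8 yh9 zh25)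 (kh xh9 yh19 zh3) (kh xh7 yh1 zh16) (kh xh9 yh15 zh11) (kh xh8 yh9 zh29) (kh xh9 yh15 zh15) (kh xh7 yh1 zh18)) (@D3.rec (fun _ => Pt) (kh xh8 yh10 zh0) (kh xh9 yh19 zh8) (kh xh7 yh1 zh20) (kh xh7 yh1 zh22) (kh xh7 yh1 zh27) (kh xh7 yh18 zh17) (kh xh7 yh1 zh29) (kh xh7 yh1 zh30) (kh xh9 yh19 zh19) (kh xh9 yh19 zh9) (kh xh7 yh6 zh26) (kh xh9 yh19 zh11) (kh xh9 yh19 zh12) (kh xh9 yh19 zh26) (kh xh9 yh19 zh14) (kh xh9 yh19 zh15) (kh xh9 yh20 zh0) (kh xh9 yh19 zh17) (kh xh9 yh20 zh3) (kh xh7 yh1 zh31) (kh xh9 yh20 zh4) (kh xh7 yh2 zh1) (kh xh8 yh10 zh22) (kh xh9 yh20 zh6) (kh xh7 yh2 zh3) (kh xh9 yh20 zh8) (kh xh7 yh2 zh6) (kh xh7 yh11 zh24) (kh xh8 yh10 zh28) (kh xh8 yh10 zh29) (kh xh9 yh20 zh13) (kh xh8 yh10 zh31)) (@D3.rec (fun _ => Pt) (kh xh9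 yh20 zh16) (kh xh7 yh2 zh11) (kh xh8 yh11 zh2) (kh xh9 yh20 zh18) (kh xh7 yh2 zh13) (kh xh7 yh2 zh21) (kh xh7 yh7 zh31) (kh xh7 yh2 zh23) (kh xh7 yh2 zh24) (kh xh9 yh20 zh23) (kh xh7 yh2 zh26) (kh xh7 yh2 zh27) (kh xh9 yh20 zh27) (kh xh7 yh2 zh29) (kh xh9 yh20 zh29) (kh xh7 yh2 zh20) (kh xh7 yh12 zh9) (kh xh7 yh9 zh24) (kh xh9 yh21 zh0) (kh xh7 yh14 zh14) (kh xh9 yh21 zh3) (kh xh9 yh21 zh4) (kh xh7 yh2 zh25) (kh xh9 yh20 zh24) (kh xh7 yh17 zh11) (kh xh9 yh21 zh8) (kh xh7 yh12 zh22) (kh xh9 yh21 zh10) (kh xh7 yh2 zh28) (kh xh7 yh12 zh19) (kh xh9 yh21 zh13) (kh xh7 yh2 zh30)) (@D3.rec (fun _ => Pt) (kh xh7 yh3 zh0) (kh xh8 yh7 zh28) (kh xh7 yh3 zh3) (kh xh9 yh21 zh14) (kh xh7 yh3 zh5) (kh xh7 yh12 zh31) (kh xh7 yh13 zh0) (kh xh8 yh6 zh25) (kh xh8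 yh6 zh24) (kh xh7 yh3 zh10) (kh xh8 yh12 zh10) (kh xh9 yh21 zh18) (kh xh7 yh3 zh12) (kh xh9 yh21 zh21) (kh xh7 yh3 zh15) (kh xh9 yh21 zh11) (kh xh7 yh3 zh17) (kh xh9 yh21 zh24) (kh xh7 yh3 zh20) (kh xh7 yh3 zh22) (kh xh9 yh21 zh26) (kh xh7 yh3 zh24) (kh xh9 yh1 zh0) (kh xh8 yh5 zh9) (kh xh10 yh0 zh0) (kh xh7 yh3 zh26) (kh xh7 yh3 zh31) (kh xh7 yh18 zh16) (kh xh7 yh4 zh1) (kh xh7 yh4 zh2) (kh xh10 yh0 zh11) (kh xh10 yh0 zh1)) (@D3.rec (fun _ => Pt) (kh xh7 yh5 zh17) (kh xh10 yh0 zh3) (kh xh10 yh0 zh4) (kh xh10 yh0 zh20) (kh xh10 yh0 zh6) (kh xh10 yh0 zh7) (kh xh10 yh0 zh27) (kh xh10 yh0 zh9) (kh xh10 yh0 zh30) (kh xh7 yh4 zh3) (kh xh8 yh13 zh10) (kh xh10 yh1 zh2) (kh xh8 yh13 zh12) (kh xh10 yh1 zh5) (kh xh7 yh4 zh6) (kh xh10 yh1 zh7) (kh xh8 yh13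 zh16) (kh xh10 yh1 zh11) (kh xh7 yh4 zh8) (kh xh8 yh13 zh19) (kh xh10 yh1 zh14) (kh xh7 yh4 zh10) (kh xh10 yh1 zh18) (kh xh7 yh4 zh12) (kh xh9 yh13 zh10) (kh xh8 yh13 zh25) (kh xh10 yh1 zh21) (kh xh7 yh4 zh14) (kh xh9 yh1 zh24) (kh xh10 yh1 zh22) (kh xh7 yh4 zh17) (kh xh7 yh15 zh31)) (@D3.rec (fun _ => Pt) (kh xh7 yh4 zh19) (kh xh7 yh4 zh26) (kh xh7 yh7 zh21) (kh xh7 yh4 zh28) (kh xh7 yh4 zh29) (kh xh10 yh1 zh29) (kh xh7 yh4 zh31) (kh xh7 yh5 zh0) (kh xh10 yh2 zh3) (kh xh7 yh5 zh2) (kh xh10 yh2 zh6) (kh xh7 yh4 zh25) (kh xh7 yh9 zh10) (kh xh10 yh2 zh8) (kh xh10 yh1 zh26) (kh xh8 yh4 zh15) (kh xh10 yh2 zh13) (kh xh8 yh4 zh13) (kh xh10 yh2 zh16) (kh xh7 yh4 zh30) (kh xh10 yh1 zh30) (kh xh10 yh1 zh31) (kh xh10 yh2 zh21) (kh xh10 yh2 zh1) (kh xh10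 yh2 zh24) (kh xh7 yh5 zh1) (kh xh10 yh2 zh4) (kh xh10 yh2 zh26) (kh xh7 yh5 zh3) (kh xh8 yh14 zh29) (kh xh10 yh2 zh29) (kh xh7 yh5 zh6)) (@D3.rec (fun _ => Pt) (kh xh10 yh2 zh31) (kh xh7 yh5 zh9) (kh xh10 yh2 zh27) (kh xh7 yh5 zh11) (kh xh7 yh16 zh29) (kh xh7 yh16 zh30) (kh xh7 yh7 zh26) (kh xh7 yh14 zh10) (kh xh9 yh18 zh17) (kh xh7 yh8 zh0) (kh xh10 yh3 zh3) (kh xh10 yh3 zh4) (kh xh10 yh3 zh5) (kh xh7 yh5 zh23) (kh xh7 yh6 zh6) (kh xh10 yh3 zh7) (kh xh7 yh6 zh9) (kh xh10 yh3 zh9) (kh xh7 yh5 zh26) (kh xh7 yh6 zh12) (kh xh10 yh3 zh11) (kh xh7 yh5 zh28) (kh xh10 yh3 zh13) (kh xh7 yh5 zh31) (kh xh7 yh14 zh3) (kh xh10 yh3 zh15) (kh xh10 yh3 zh16) (kh xh7 yh6 zh2) (kh xh7 yh12 zh17) (kh xh10 yh3 zh18) (kh xh7 yh6 zh4) (kh xh8 yh6 zh6)) (@D3.rec (fun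 _ => Pt) (kh xh10 yh3 zh22) (kh xh7 yh17 zh19) (kh xh10 yh3 zh24) (kh xh7 yh6 zh8) (kh xh7 yh17 zh16) (kh xh10 yh3 zh26) (kh xh7 yh6 zh10) (kh xh10 yh3 zh28) (kh xh7 yh6 zh13) (kh xh7 yh6 zh20) (kh xh8 yh7 zh30) (kh xh7 yh6 zh16) (kh xh10 yh3 zh19) (kh xh7 yh6 zh18) (kh xh10 yh3 zh29) (kh xh10 yh3 zh30) (kh xh7 yh11 zh7) (kh xh9 yh12 zh20) (kh xh7 yh6 zh28) (kh xh9 yh6 zh2) (kh xh7 yh18 zh13) (kh xh9 yh6 zh4) (kh xh9 yh6 zh5) (kh xh10 yh4 zh13) (kh xh7 yh7 zh0) (kh xh7 yh7 zh6) (kh xh7 yh7 zh7) (kh xh7 yh7 zh8) (kh xh7 yh18 zh4) (kh xh7 yh7 zh9) (kh xh7 yh7 zh10) (kh xh10 yh4 zh4)) (@D3.rec (fun _ => Pt) (kh xh10 yh4 zh14) (kh xh10 yh4 zh15) (kh xh10 yh4 zh16) (kh xh10 yh4 zh19) (kh xh10 yh4 zh20) (kh xh8 yh3 zh10) (kh xh7 yh7 zh22) (kh xh7 yh7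 zh23) (kh xh7 yh16 zh1) (kh xh7 yh18 zh6) (kh xh7 yh7 zh24) (kh xh7 yh7 zh25) (kh xh10 yh0 zh2) (kh xh10 yh1 zh24) (kh xh9 yh19 zh10) (kh xh8 yh17 zh15) (kh xh7 yh20 zh27) (kh xh8 yh2 zh12) (kh xh8 yh2 zh18) (kh xh8 yh17 zh19) (kh xh10 yh4 zh29) (kh xh8 yh17 zh21) (kh xh10 yh5 zh0) (kh xh7 yh8 zh11) (kh xh8 yh5 zh6) (kh xh8 yh5 zh5) (kh xh7 yh8 zh15) (kh xh8 yh17 zh27) (kh xh8 yh6 zh23) (kh xh7 yh8 zh17) (kh xh7 yh8 zh19) (kh xh10 yh5 zh2)) (@D3.rec (fun _ => Pt) (kh xh7 yh8 zh22) (kh xh8 yh18 zh1) (kh xh7 yh8 zh24) (kh xh7 yh8 zh27) (kh xh7 yh10 zh10) (kh xh7 yh13 zh13) (kh xh7 yh10 zh13) (kh xh10 yh5 zh5) (kh xh7 yh13 zh10) (kh xh10 yh5 zh13) (kh xh7 yh13 zh6) (kh xh8 yh0 zh24) (kh xh7 yh14 zh29) (kh xh9 yh4 zh4) (kh xh7 yh20 zh29) (kh xh9 yh4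 zh8) (kh xh7 yh9 zh2) (kh xh10 yh5 zh18) (kh xh7 yh9 zh4) (kh xh10 yh5 zh19) (kh xh7 yh14 zh1) (kh xh10 yh5 zh22) (kh xh10 yh0 zh13) (kh xh10 yh5 zh25) (kh xh10 yh5 zh26) (kh xh7 yh9 zh12) (kh xh7 yh9 zh14) (kh xh8 yh4 zh23) (kh xh8 yh18 zh28) (kh xh10 yh5 zh28) (kh xh7 yh9 zh17) (kh xh8 yh18 zh31)) (@D3.rec (fun _ => Pt) (kh xh10 yh5 zh30) (kh xh7 yh9 zh19) (kh xh7 yh9 zh21) (kh xh10 yh6 zh0) (kh xh7 yh9 zh23) (kh xh9 yh19 zh21) (kh xh10 yh6 zh2) (kh xh7 yh9 zh25) (kh xh7 yh9 zh26) (kh xh7 yh9 zh30) (kh xh10 yh6 zh5) (kh xh7 yh10 zh1) (kh xh10 yh6 zh3) (kh xh7 yh10 zh3) (kh xh10 yh6 zh8) (kh xh7 yh10 zh5) (kh xh9 yh12 zh22) (kh xh10 yh5 zh4) (kh xh7 yh10 zh7) (kh xh7 yh10 zh12) (kh xh7 yh13 zh20) (kh xh7 yh10 zh14) (kh xh7 yh10 zh15) (kh xh10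 yh6 zh23) (kh xh10 yh6 zh14) (kh xh10 yh3 zh2) (kh xh10 yh6 zh16) (kh xh8 yh1 zh15) (kh xh10 yh7 zh0) (kh xh10 yh6 zh18) (kh xh10 yh6 zh19) (kh xh10 yh7 zh7)) (@D3.rec (fun _ => Pt) (kh xh10 yh6 zh21) (kh xh10 yh7 zh10) (kh xh7 yh10 zh16) (kh xh7 yh21 zh9) (kh xh8 yh0 zh29) (kh xh7 yh21 zh10) (kh xh8 yh0 zh31) (kh xh10 yh7 zh17) (kh xh7 yh21 zh12) (kh xh10 yh7 zh21) (kh xh7 yh10 zh21) (kh xh7 yh21 zh15) (kh xh10 yh7 zh24) (kh xh7 yh10 zh23) (kh xh10 yh7 zh28) (kh xh7 yh10 zh25) (kh xh9 yh1 zh20) (kh xh7 yh21 zh21) (kh xh10 yh7 zh31) (kh xh7 yh10 zh27) (kh xh9 yh13 zh14) (kh xh10 yh8 zh0) (kh xh7 yh10 zh30) (kh xh9 yh15 zh19) (kh xh7 yh11 zh6) (kh xh7 yh14 zh6) (kh xh7 yh11 zh8) (kh xh10 yh8 zh5) (kh xh7 yh11 zh11) (kh xh7 yh11 zh12) (kh xh10 yh8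 zh10) (kh xh7 yh11 zh14)) (@D3.rec (fun _ => Pt) (kh xh10 yh8 zh12) (kh xh7 yh11 zh5) (kh xh9 yh19 zh20) (kh xh10 yh8 zh14) (kh xh10 yh8 zh3) (kh xh8 yh2 zh1) (kh xh10 yh8 zh18) (kh xh8 yh2 zh0) (kh xh10 yh8 zh20) (kh xh7 yh11 zh10) (kh xh10 yh8 zh6) (kh xh10 yh8 zh7) (kh xh10 yh8 zh25) (kh xh9 yh20 zh1) (kh xh10 yh8 zh27) (kh xh7 yh11 zh13) (kh xh9 yh19 zh30) (kh xh10 yh8 zh30) (kh xh7 yh11 zh15) (kh xh7 yh21 zh30) (kh xh8 yh1 zh30) (kh xh10 yh9 zh1) (kh xh7 yh11 zh20) (kh xh10 yh8 zh31) (kh xh7 yh11 zh22) (kh xh9 yh20 zh9) (kh xh9 yh15 zh31) (kh xh10 yh9 zh3) (kh xh7 yh11 zh26) (kh xh10 yh9 zh5) (kh xh7 yh11 zh29) (kh xh10 yh8 zh28))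
def f_h_9 : D2 → D3 → Pt := @D2.rec (fun _ => D3 → Pt) (@D3.rec (fun _ => Pt) (kh xh10 yh9 zh8) (kh xh10 yh9 zh9) (kh xh7 yh12 zh2) (kh xh7 yh12 zh16) (kh xh10 yh9 zh11) (kh xh10 yh9 zh12) (kh xh7 yh12 zh5) (kh xh10 yh9 zh14) (kh xh7 yh12 zh7) (kh xh10 yh9 zh15) (kh xh7 yh12 zh10) (kh xh10 yh9 zh16) (kh xh7 yh12 zh12) (kh xh10 yh9 zh18) (kh xh7 yh12 zh14) (kh xh10 yh2 zh14) (kh xh10 yh9 zh20) (kh xh10 yh9 zh21) (kh xh7 yh12 zh18) (kh xh10 yh9 zh23) (kh xh7 yh12 zh20) (kh xh7 yh13 zh4) (kh xh10 yh9 zh26) (kh xh7 yh12 zh23) (kh xh7 yh12 zh29) (kh xh8 yh2 zh3) (kh xh7 yh12 zh27) (kh xh10 yh9 zh27) (kh xh10 yh9 zh17) (kh xh7 yh13 zh2) (kh xh10 yh9 zh22) (kh xh10 yh9 zh25)) (@D3.rec (fun _ => Pt) (kh xh8 yh12 zh22) (kh xh7 yh14 zh25) (kh xh7 yh13 zh12)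 (kh xh10 yh10 zh3) (kh xh10 yh5 zh10) (kh xh10 yh10 zh5) (kh xh10 yh10 zh1) (kh xh10 yh5 zh7) (kh xh10 yh10 zh11) (kh xh10 yh2 zh9) (kh xh10 yh10 zh13) (kh xh7 yh13 zh14) (kh xh7 yh21 zh4) (kh xh10 yh10 zh15) (kh xh8 yh0 zh9) (kh xh10 yh6 zh10) (kh xh7 yh13 zh18) (kh xh10 yh6 zh15) (kh xh10 yh10 zh21) (kh xh7 yh13 zh22) (kh xh8 yh20 zh16) (kh xh8 yh0 zh13) (kh xh10 yh10 zh24) (kh xh7 yh13 zh24) (kh xh8 yh13 zh28) (kh xh10 yh10 zh25) (kh xh7 yh13 zh27) (kh xh8 yh6 zh2) (kh xh7 yh14 zh0) (kh xh10 yh10 zh28) (kh xh7 yh13 zh30) (kh xh7 yh13 zh31)) (@D3.rec (fun _ => Pt) (kh xh10 yh5 zh20) (kh xh10 yh10 zh31) (kh xh9 yh21 zh1) (kh xh10 yh11 zh1) (kh xh7 yh14 zh2) (kh xh10 yh11 zh2) (kh xh7 yh14 zh4) (kh xh7 yh14 zh7) (kh xh8 yh6 zh13) (kh xh8 yh6 zh14)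 (kh xh7 yh14 zh11) (kh xh10 yh11 zh3) (kh xh7 yh14 zh15) (kh xh7 yh14 zh17) (kh xh9 yh11 zh12) (kh xh7 yh14 zh22) (kh xh9 yh6 zh11) (kh xh10 yh5 zh15) (kh xh9 yh14 zh14) (kh xh9 yh14 zh15) (kh xh10 yh11 zh15) (kh xh7 yh14 zh26) (kh xh10 yh4 zh25) (kh xh7 yh15 zh1) (kh xh7 yh15 zh2) (kh xh10 yh11 zh19) (kh xh7 yh15 zh4) (kh xh7 yh15 zh5) (kh xh10 yh11 zh26) (kh xh7 yh15 zh7) (kh xh10 yh11 zh29) (kh xh7 yh15 zh0)) (@D3.rec (fun _ => Pt) (kh xh10 yh11 zh16) (kh xh10 yh12 zh1) (kh xh10 yh11 zh18) (kh xh10 yh12 zh4) (kh xh7 yh15 zh3) (kh xh10 yh11 zh20) (kh xh10 yh11 zh21) (kh xh10 yh12 zh10) (kh xh10 yh12 zh12) (kh xh10 yh11 zh24) (kh xh10 yh12 zh16) (kh xh7 yh15 zh6) (kh xh10 yh11 zh27) (kh xh10 yh12 zh19) (kh xh7 yh15 zh8) (kh xh10 yh12 zh22) (kh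 xh8 yh1 zh4) (kh xh10 yh12 zh26) (kh xh7 yh15 zh11) (kh xh8 yh1 zh5) (kh xh10 yh12 zh29) (kh xh7 yh15 zh13) (kh xh10 yh13 zh0) (kh xh7 yh15 zh15) (kh xh10 yh13 zh3) (kh xh8 yh1 zh9) (kh xh10 yh13 zh5) (kh xh7 yh15 zh17) (kh xh9 yh15 zh3) (kh xh10 yh13 zh8) (kh xh7 yh15 zh20) (kh xh10 yh12 zh20)) (@D3.rec (fun _ => Pt) (kh xh9 yh10 zh27) (kh xh9 yh10 zh26) (kh xh7 yh15 zh22) (kh xh10 yh13 zh14) (kh xh8 yh18 zh13) (kh xh7 yh15 zh24) (kh xh10 yh13 zh15) (kh xh7 yh15 zh26) (kh xh8 yh18 zh15) (kh xh9 yh15 zh16) (kh xh7 yh15 zh29) (kh xh10 yh1 zh23) (kh xh9 yh13 zh17) (kh xh7 yh16 zh10) (kh xh7 yh16 zh3) (kh xh7 yh16 zh13) (kh xh7 yh16 zh14) (kh xh10 yh13 zh22) (kh xh7 yh16 zh16) (kh xh10 yh13 zh24) (kh xh7 yh16 zh6) (kh xh7 yh16 zh19) (kh xh10 yh13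 zh26) (kh xh7 yh16 zh8) (kh xh9 yh21 zh5) (kh xh10 yh13 zh28) (kh xh7 yh16 zh11) (kh xh10 yh13 zh18) (kh xh10 yh13 zh31) (kh xh10 yh13 zh20) (kh xh10 yh14 zh2) (kh xh7 yh16 zh15)) (@D3.rec (fun _ => Pt) (kh xh10 yh3 zh20) (kh xh10 yh14 zh4) (kh xh7 yh16 zh17) (kh xh10 yh14 zh6) (kh xh7 yh16 zh20) (kh xh7 yh16 zh27) (kh xh10 yh14 zh9) (kh xh7 yh16 zh23) (kh xh7 yh16 zh25) (kh xh10 yh14 zh7) (kh xh10 yh14 zh8) (kh xh9 yh14 zh1) (kh xh7 yh17 zh14) (kh xh10 yh14 zh12) (kh xh10 yh14 zh13) (kh xh7 yh17 zh4) (kh xh10 yh14 zh14) (kh xh7 yh17 zh6) (kh xh10 yh14 zh16) (kh xh7 yh17 zh9) (kh xh10 yh14 zh17) (kh xh7 yh17 zh12) (kh xh10 yh2 zh22) (kh xh10 yh14 zh19) (kh xh7 yh17 zh15) (kh xh10 yh14 zh20) (kh xh7 yh17 zh17) (kh xh10 yh14 zh22) (kh xh7 yh17 zh20)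 (kh xh7 yh20 zh20) (kh xh7 yh17 zh22) (kh xh7 yh17 zh28)) (@D3.rec (fun _ => Pt) (kh xh7 yh17 zh29) (kh xh7 yh17 zh25) (kh xh8 yh16 zh19) (kh xh7 yh18 zh8) (kh xh8 yh16 zh21) (kh xh8 yh16 zh22) (kh xh10 yh14 zh29) (kh xh10 yh4 zh17) (kh xh10 yh4 zh18) (kh xh9 yh6 zh12) (kh xh10 yh14 zh31) (kh xh9 yh2 zh16) (kh xh9 yh6 zh9) (kh xh10 yh15 zh5) (kh xh9 yh16 zh10) (kh xh10 yh15 zh8) (kh xh7 yh18 zh11) (kh xh7 yh18 zh14) (kh xh9 yh21 zh28) (kh xh9 yh18 zh12) (kh xh9 yh6 zh20) (kh xh10 yh15 zh13) (kh xh10 yh15 zh15) (kh xh9 yh6 zh23) (kh xh10 yh15 zh19) (kh xh7 yh18 zh20) (kh xh10 yh15 zh23) (kh xh7 yh18 zh21) (kh xh10 yh15 zh26) (kh xh9 yh6 zh29) (kh xh10 yh15 zh28) (kh xh7 yh18 zh23)) (@D3.rec (fun _ => Pt) (kh xh9 yh7 zh10) (kh xh10 yh15 zh31) (kh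 xh7 yh18 zh26) (kh xh7 yh19 zh12) (kh xh10 yh16 zh4) (kh xh7 yh18 zh28) (kh xh10 yh16 zh7) (kh xh8 yh2 zh22) (kh xh10 yh16 zh9) (kh xh7 yh18 zh30) (kh xh9 yh7 zh0) (kh xh10 yh16 zh12) (kh xh7 yh19 zh1) (kh xh8 yh7 zh6) (kh xh9 yh7 zh15) (kh xh9 yh7 zh14) (kh xh7 yh19 zh3) (kh xh10 yh16 zh18) (kh xh10 yh16 zh19) (kh xh7 yh19 zh5) (kh xh10 yh16 zh21) (kh xh7 yh19 zh7) (kh xh10 yh16 zh20) (kh xh9 yh16 zh22) (kh xh7 yh19 zh10) (kh xh10 yh16 zh0) (kh xh10 yh16 zh1) (kh xh10 yh16 zh26) (kh xh10 yh16 zh27) (kh xh10 yh16 zh28) (kh xh7 yh19 zh16) (kh xh7 yh19 zh17)) (@D3.rec (fun _ => Pt) (kh xh7 yh19 zh21) (kh xh7 yh19 zh19) (kh xh10 yh16 zh29) (kh xh9 yh8 zh3) (kh xh10 yh17 zh1) (kh xh7 yh19 zh27) (kh xh9 yh8 zh6) (kh xh10 yh17 zh3) (kh xh7 yh19 zh29)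 (kh xh10 yh17 zh5) (kh xh7 yh20 zh0) (kh xh10 yh14 zh5) (kh xh7 yh20 zh2) (kh xh7 yh20 zh9) (kh xh7 yh20 zh10) (kh xh7 yh20 zh5) (kh xh8 yh7 zh21) (kh xh8 yh7 zh22) (kh xh10 yh17 zh8) (kh xh9 yh8 zh19) (kh xh10 yh17 zh11) (kh xh7 yh20 zh13) (kh xh10 yh17 zh13) (kh xh7 yh20 zh16) (kh xh10 yh14 zh21) (kh xh7 yh20 zh18) (kh xh10 yh14 zh23) (kh xh10 yh14 zh24) (kh xh9 yh11 zh9) (kh xh9 yh8 zh29) (kh xh9 yh8 zh30) (kh xh9 yh8 zh31)) (@D3.rec (fun _ => Pt) (kh xh10 yh17 zh21) (kh xh7 yh21 zh7) (kh xh7 yh21 zh8) (kh xh10 yh17 zh26) (kh xh10 yh17 zh23) (kh xh10 yh17 zh24) (kh xh10 yh17 zh29) (kh xh10 yh7 zh12) (kh xh10 yh7 zh14) (kh xh10 yh18 zh1) (kh xh7 yh21 zh11) (kh xh10 yh18 zh4) (kh xh10 yh7 zh19) (kh xh10 yh18 zh6) (kh xh7 yh21 zh13) (kh xh9 yh9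 zh15) (kh xh10 yh18 zh9) (kh xh7 yh21 zh16) (kh xh9 yh9 zh19) (kh xh9 yh9 zh18) (kh xh7 yh21 zh18) (kh xh9 yh10 zh3) (kh xh10 yh18 zh12) (kh xh7 yh21 zh22) (kh xh7 yh21 zh25) (kh xh9 yh9 zh25) (kh xh7 yh21 zh29) (kh xh7 yh21 zh31) (kh xh9 yh9 zh28) (kh xh10 yh18 zh14) (kh xh10 yh18 zh15) (kh xh8 yh0 zh8)) (@D3.rec (fun _ => Pt) (kh xh10 yh18 zh11) (kh xh10 yh18 zh10) (kh xh8 yh0 zh10) (kh xh9 yh9 zh21) (kh xh10 yh18 zh17) (kh xh8 yh0 zh14) (kh xh8 yh0 zh17) (kh xh9 yh10 zh7) (kh xh9 yh10 zh8) (kh xh10 yh18 zh19) (kh xh9 yh10 zh10) (kh xh10 yh18 zh23) (kh xh9 yh10 zh12) (kh xh10 yh18 zh26) (kh xh8 yh0 zh27) (kh xh10 yh18 zh28) (kh xh8 yh1 zh1) (kh xh10 yh7 zh13) (kh xh8 yh1 zh2) (kh xh10 yh7 zh15) (kh xh10 yh19 zh3) (kh xh8 yh1 zh0) (kh xh10 yh18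 zh30) (kh xh10 yh19 zh7) (kh xh8 yh1 zh3) (kh xh10 yh12 zh24) (kh xh9 yh4 zh1) (kh xh9 yh4 zh0) (kh xh8 yh1 zh6) (kh xh10 yh19 zh12) (kh xh10 yh19 zh13) (kh xh8 yh1 zh8)) (@D3.rec (fun _ => Pt) (kh xh10 yh19 zh15) (kh xh8 yh1 zh10) (kh xh10 yh19 zh14) (kh xh9 yh11 zh3) (kh xh8 yh1 zh13) (kh xh10 yh6 zh30) (kh xh10 yh6 zh28) (kh xh10 yh4 zh24) (kh xh10 yh17 zh16) (kh xh9 yh8 zh28) (kh xh8 yh1 zh19) (kh xh8 yh1 zh22) (kh xh9 yh2 zh14) (kh xh9 yh11 zh13) (kh xh10 yh9 zh0) (kh xh10 yh8 zh15) (kh xh9 yh11 zh16) (kh xh10 yh19 zh24) (kh xh10 yh19 zh25) (kh xh10 yh19 zh26) (kh xh8 yh2 zh8) (kh xh10 yh19 zh27) (kh xh8 yh2 zh14) (kh xh9 yh11 zh23) (kh xh10 yh19 zh29) (kh xh8 yh2 zh16) (kh xh8 yh7 zh8) (kh xh8 yh7 zh7) (kh xh8 yh2 zh19) (kh xh10 yh20 zh2)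 (kh xh10 yh20 zh3) (kh xh8 yh2 zh21)) (@D3.rec (fun _ => Pt) (kh xh10 yh20 zh5) (kh xh8 yh2 zh23) (kh xh10 yh20 zh4) (kh xh9 yh12 zh3) (kh xh8 yh2 zh26) (kh xh9 yh12 zh5) (kh xh9 yh12 zh6) (kh xh10 yh4 zh22) (kh xh10 yh20 zh11) (kh xh10 yh20 zh12) (kh xh8 yh3 zh0) (kh xh8 yh3 zh1) (kh xh8 yh3 zh5) (kh xh8 yh3 zh3) (kh xh10 yh4 zh9) (kh xh10 yh4 zh11) (kh xh10 yh15 zh3) (kh xh9 yh12 zh17) (kh xh8 yh3 zh11) (kh xh8 yh3 zh12) (kh xh8 yh16 zh17) (kh xh9 yh12 zh21) (kh xh8 yh19 zh16) (kh xh9 yh18 zh9) (kh xh8 yh3 zh26) (kh xh8 yh3 zh27) (kh xh10 yh20 zh23) (kh xh10 yh20 zh19) (kh xh10 yh20 zh20) (kh xh10 yh20 zh29) (kh xh10 yh2 zh10) (kh xh10 yh20 zh31)) (@D3.rec (fun _ => Pt) (kh xh8 yh3 zh28) (kh xh10 yh21 zh1) (kh xh9 yh13 zh2) (kh xh10 yh21 zh5)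 (kh xh8 yh3 zh30) (kh xh9 yh13 zh5) (kh xh10 yh21 zh8) (kh xh8 yh4 zh0) (kh xh10 yh21 zh12) (kh xh8 yh4 zh2) (kh xh8 yh13 zh24) (kh xh9 yh13 zh11) (kh xh10 yh21 zh15) (kh xh8 yh4 zh4) (kh xh8 yh20 zh20) (kh xh10 yh21 zh16) (kh xh8 yh4 zh7) (kh xh9 yh4 zh12) (kh xh8 yh4 zh12) (kh xh10 yh21 zh19) (kh xh10 yh21 zh20) (kh xh8 yh4 zh11) (kh xh10 yh0 zh18) (kh xh10 yh21 zh22) (kh xh10 yh21 zh23) (kh xh8 yh4 zh14) (kh xh10 yh21 zh25) (kh xh8 yh4 zh16) (kh xh10 yh21 zh27) (kh xh8 yh4 zh19) (kh xh10 yh21 zh26) (kh xh8 yh4 zh21)) (@D3.rec (fun _ => Pt) (kh xh10 yh4 zh28) (kh xh9 yh5 zh11) (kh xh8 yh4 zh24) (kh xh10 yh21 zh24) (kh xh8 yh4 zh26) (kh xh8 yh4 zh27) (kh xh8 yh4 zh29) (kh xh8 yh5 zh7) (kh xh8 yh4 zh31) (kh xh8 yh5 zh3) (kh xh8 yh5 zh1) (kh xh11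 yh0 zh4) (kh xh11 yh0 zh5) (kh xh11 yh0 zh3) (kh xh9 yh2 zh18) (kh xh9 yh2 zh19) (kh xh11 yh0 zh11) (kh xh8 yh5 zh13) (kh xh11 yh0 zh15) (kh xh8 yh5 zh15) (kh xh11 yh0 zh17) (kh xh8 yh5 zh12) (kh xh11 yh0 zh19) (kh xh11 yh0 zh13) (kh xh11 yh0 zh23) (kh xh8 yh5 zh14) (kh xh10 yh2 zh17) (kh xh11 yh0 zh26) (kh xh8 yh5 zh16) (kh xh11 yh0 zh30) (kh xh8 yh5 zh18) (kh xh11 yh1 zh1)) (@D3.rec (fun _ => Pt) (kh xh9 yh15 zh0) (kh xh11 yh1 zh3) (kh xh8 yh5 zh20) (kh xh9 yh3 zh28) (kh xh11 yh1 zh6) (kh xh8 yh5 zh23) (kh xh11 yh0 zh27) (kh xh10 yh19 zh6) (kh xh10 yh19 zh5) (kh xh8 yh5 zh25) (kh xh11 yh1 zh12) (kh xh8 yh9 zh28) (kh xh8 yh5 zh27) (kh xh11 yh1 zh13) (kh xh8 yh5 zh29) (kh xh8 yh9 zh30) (kh xh9 yh4 zh9) (kh xh8 yh6 zh0) (kh xh10 yh10 zh26) (kh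 xh8 yh20 zh23) (kh xh11 yh1 zh18) (kh xh8 yh6 zh4) (kh xh11 yh1 zh20) (kh xh8 yh6 zh7) (kh xh8 yh6 zh11) (kh xh8 yh6 zh9) (kh xh11 yh1 zh21) (kh xh11 yh1 zh22) (kh xh10 yh5 zh1) (kh xh9 yh20 zh12) (kh xh9 yh20 zh11) (kh xh8 yh21 zh26)) (@D3.rec (fun _ => Pt) (kh xh8 yh6 zh15) (kh xh9 yh16 zh1) (kh xh8 yh6 zh17) (kh xh8 yh6 zh21) (kh xh8 yh6 zh22) (kh xh11 yh1 zh29) (kh xh11 yh1 zh30) (kh xh11 yh1 zh31) (kh xh11 yh2 zh0) (kh xh8 yh9 zh1) (kh xh9 yh6 zh14) (kh xh11 yh2 zh4) (kh xh8 yh6 zh28) (kh xh10 yh16 zh3) (kh xh10 yh16 zh2) (kh xh8 yh6 zh29) (kh xh11 yh2 zh8) (kh xh11 yh2 zh9) (kh xh8 yh6 zh31) (kh xh11 yh2 zh11) (kh xh8 yh7 zh1) (kh xh11 yh2 zh10) (kh xh9 yh7 zh23) (kh xh8 yh7 zh4) (kh xh10 yh16 zh13) (kh xh10 yh16 zh14) (kh xh11 yh2 zh19)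 (kh xh11 yh2 zh20) (kh xh11 yh2 zh21) (kh xh8 yh7 zh10) (kh xh8 yh7 zh11) (kh xh8 yh7 zh15)) (@D3.rec (fun _ => Pt) (kh xh8 yh7 zh13) (kh xh11 yh2 zh22) (kh xh8 yh8 zh10) (kh xh8 yh8 zh8) (kh xh9 yh17 zh4) (kh xh9 yh17 zh5) (kh xh9 yh17 zh6) (kh xh9 yh17 zh7) (kh xh9 yh17 zh27) (kh xh9 yh20 zh5) (kh xh9 yh17 zh29) (kh xh10 yh17 zh9) (kh xh9 yh17 zh12) (kh xh9 yh17 zh13) (kh xh9 yh17 zh14) (kh xh9 yh17 zh15) (kh xh9 yh17 zh16) (kh xh10 yh2 zh28) (kh xh9 yh17 zh18) (kh xh9 yh17 zh19) (kh xh9 yh17 zh20) (kh xh11 yh2 zh29) (kh xh8 yh8 zh6) (kh xh9 yh17 zh23) (kh xh9 yh17 zh24) (kh xh11 yh2 zh24) (kh xh8 yh8 zh12) (kh xh9 yh17 zh8) (kh xh8 yh8 zh14) (kh xh9 yh17 zh10) (kh xh8 yh8 zh17) (kh xh8 yh8 zh19)) (@D3.rec (fun _ => Pt) (kh xh9 yh18 zh0) (kh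 xh11 yh3 zh1) (kh xh8 yh8 zh21) (kh xh11 yh3 zh2) (kh xh8 yh8 zh31) (kh xh11 yh1 zh27) (kh xh8 yh9 zh5) (kh xh8 yh9 zh7) (kh xh10 yh5 zh3) (kh xh9 yh12 zh23) (kh xh8 yh9 zh11) (kh xh8 yh9 zh16) (kh xh9 yh6 zh19) (kh xh8 yh9 zh18) (kh xh8 yh9 zh19) (kh xh11 yh3 zh16) (kh xh11 yh3 zh6) (kh xh8 yh15 zh8) (kh xh11 yh3 zh8) (kh xh11 yh3 zh9) (kh xh11 yh3 zh24) (kh xh11 yh3 zh11) (kh xh11 yh3 zh12) (kh xh11 yh3 zh31) (kh xh11 yh3 zh14) (kh xh11 yh4 zh2) (kh xh8 yh9 zh20) (kh xh11 yh4 zh3) (kh xh8 yh9 zh22) (kh xh11 yh4 zh5) (kh xh9 yh18 zh30) (kh xh11 yh4 zh9)) (@D3.rec (fun _ => Pt) (kh xh8 yh9 zh24) (kh xh9 yh19 zh1) (kh xh11 yh4 zh11) (kh xh8 yh9 zh26) (kh xh11 yh1 zh11) (kh xh9 yh19 zh5) (kh xh11 yh1 zh14) (kh xh11 yh4 zh16) (kh xh8 yh10 zh1) (kh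 xh8 yh10 zh9) (kh xh8 yh17 zh14) (kh xh8 yh10 zh11) (kh xh8 yh10 zh12) (kh xh11 yh4 zh21) (kh xh8 yh10 zh14) (kh xh8 yh10 zh15) (kh xh11 yh4 zh26) (kh xh8 yh10 zh17) (kh xh11 yh4 zh28) (kh xh8 yh10 zh8) (kh xh8 yh21 zh2) (kh xh8 yh19 zh5) (kh xh11 yh5 zh0) (kh xh11 yh4 zh18) (kh xh11 yh5 zh3) (kh xh11 yh5 zh4) (kh xh8 yh10 zh13) (kh xh11 yh4 zh22) (kh xh11 yh4 zh23) (kh xh11 yh5 zh9) (kh xh8 yh21 zh16) (kh xh11 yh5 zh11)) (@D3.rec (fun _ => Pt) (kh xh8 yh10 zh16) (kh xh8 yh21 zh13) (kh xh11 yh5 zh14) (kh xh8 yh10 zh18) (kh xh8 yh10 zh20) (kh xh9 yh17 zh9) (kh xh8 yh10 zh23) (kh xh11 yh5 zh15) (kh xh8 yh10 zh25) (kh xh8 yh21 zh25) (kh xh9 yh20 zh10) (kh xh9 yh15 zh30) (kh xh9 yh15 zh29) (kh xh8 yh10 zh30) (kh xh9 yh20 zh14) (kh xh11 yh5 zh22) (kh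 xh8 yh11 zh0) (kh xh11 yh5 zh24) (kh xh8 yh11 zh3) (kh xh11 yh5 zh12) (kh xh11 yh5 zh27) (kh xh11 yh5 zh28) (kh xh11 yh5 zh29) (kh xh8 yh11 zh9) (kh xh8 yh11 zh23) (kh xh11 yh5 zh31) (kh xh11 yh6 zh0) (kh xh8 yh11 zh12) (kh xh11 yh6 zh2) (kh xh8 yh11 zh14) (kh xh11 yh6 zh4) (kh xh11 yh6 zh5)) (@D3.rec (fun _ => Pt) (kh xh8 yh11 zh18) (kh xh9 yh2 zh2) (kh xh11 yh6 zh7) (kh xh8 yh11 zh20) (kh xh8 yh11 zh21) (kh xh9 yh4 zh24) (kh xh11 yh6 zh11) (kh xh11 yh6 zh12) (kh xh8 yh11 zh25) (kh xh11 yh6 zh14) (kh xh8 yh11 zh27) (kh xh8 yh12 zh15) (kh xh11 yh6 zh16) (kh xh8 yh11 zh30) (kh xh8 yh12 zh3) (kh xh11 yh6 zh9) (kh xh11 yh6 zh17) (kh xh11 yh6 zh18) (kh xh8 yh12 zh11) (kh xh11 yh5 zh19) (kh xh11 yh6 zh8) (kh xh8 yh12 zh13) (kh xh11 yh6 zh13) (kh xh11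 yh6 zh15) (kh xh8 yh12 zh17) (kh xh10 yh19 zh21) (kh xh8 yh12 zh20) (kh xh10 yh5 zh14) (kh xh9 yh6 zh18) (kh xh10 yh9 zh30) (kh xh10 yh9 zh31) (kh xh11 yh6 zh31))
def f_h_10 : D2 → D3 → Pt := @D2.rec (fun _ => D3 → Pt) (@D3.rec (fun _ => Pt) (kh xh8 yh12 zh24) (kh xh8 yh12 zh31) (kh xh8 yh17 zh12) (kh xh8 yh13 zh1) (kh xh8 yh13 zh2) (kh xh11 yh7 zh7) (kh xh8 yh13 zh4) (kh xh8 yh13 zh5) (kh xh11 yh7 zh14) (kh xh8 yh13 zh7) (kh xh11 yh7 zh17) (kh xh8 yh12 zh30) (kh xh11 yh7 zh1) (kh xh8 yh18 zh22) (kh xh11 yh7 zh21) (kh xh11 yh7 zh3) (kh xh11 yh7 zh4) (kh xh11 yh7 zh28) (kh xh9 yh13 zh22) (kh xh11 yh7 zh31) (kh xh8 yh13 zh3) (kh xh11 yh7 zh8) (kh xh11 yh7 zh9) (kh xh11 yh8 zh5) (kh xh11 yh8 zh7) (kh xh11 yh7 zh12) (kh xh11 yh8 zh11) (kh xh8 yh13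 zh6) (kh xh11 yh7 zh15) (kh xh11 yh8 zh14) (kh xh8 yh13 zh8) (kh xh11 yh3 zh4)) (@D3.rec (fun _ => Pt) (kh xh10 yh1 zh0) (kh xh11 yh8 zh20) (kh xh8 yh13 zh11) (kh xh10 yh1 zh3) (kh xh11 yh8 zh22) (kh xh8 yh13 zh13) (kh xh11 yh8 zh26) (kh xh8 yh13 zh15) (kh xh11 yh8 zh29) (kh xh10 yh1 zh9) (kh xh11 yh8 zh31) (kh xh8 yh13 zh17) (kh xh10 yh10 zh18) (kh xh11 yh9 zh2) (kh xh8 yh13 zh20) (kh xh11 yh8 zh15) (kh xh10 yh19 zh2) (kh xh10 yh19 zh1) (kh xh8 yh13 zh22) (kh xh10 yh21 zh13) (kh xh11 yh9 zh7) (kh xh8 yh13 zh26) (kh xh8 yh13 zh29) (kh xh9 yh4 zh11) (kh xh8 yh17 zh13) (kh xh11 yh9 zh8) (kh xh8 yh14 zh14) (kh xh11 yh9 zh10) (kh xh11 yh9 zh11) (kh xh8 yh14 zh5) (kh xh8 yh14 zh20) (kh xh8 yh14 zh21)) (@D3.rec (fun _ => Pt) (kh xh11 yh9 zh15) (kh xh8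 yh14 zh23) (kh xh11 yh9 zh17) (kh xh8 yh14 zh8) (kh xh8 yh14 zh26) (kh xh11 yh9 zh19) (kh xh8 yh14 zh10) (kh xh11 yh9 zh21) (kh xh8 yh14 zh13) (kh xh9 yh1 zh9) (kh xh9 yh12 zh30) (kh xh11 yh9 zh24) (kh xh11 yh9 zh25) (kh xh8 yh14 zh16) (kh xh9 yh0 zh15) (kh xh11 yh9 zh27) (kh xh8 yh14 zh18) (kh xh9 yh14 zh26) (kh xh11 yh9 zh31) (kh xh11 yh9 zh13) (kh xh11 yh10 zh2) (kh xh8 yh14 zh22) (kh xh9 yh5 zh22) (kh xh11 yh10 zh4) (kh xh8 yh14 zh24) (kh xh11 yh10 zh6) (kh xh8 yh14 zh27) (kh xh8 yh15 zh2) (kh xh9 yh17 zh17) (kh xh8 yh14 zh30) (kh xh11 yh9 zh28) (kh xh8 yh15 zh0)) (@D3.rec (fun _ => Pt) (kh xh11 yh10 zh7) (kh xh11 yh10 zh8) (kh xh8 yh19 zh25) (kh xh8 yh15 zh10) (kh xh8 yh15 zh11) (kh xh8 yh15 zh12) (kh xh11 yh10 zh14) (kh xh8 yh15 zh15) (kh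 xh11 yh10 zh15) (kh xh8 yh15 zh17) (kh xh11 yh10 zh17) (kh xh8 yh15 zh20) (kh xh10 yh3 zh12) (kh xh8 yh15 zh22) (kh xh11 yh10 zh21) (kh xh8 yh15 zh25) (kh xh8 yh15 zh26) (kh xh11 yh10 zh23) (kh xh8 yh15 zh29) (kh xh8 yh16 zh12) (kh xh9 yh5 zh0) (kh xh11 yh10 zh27) (kh xh8 yh16 zh0) (kh xh11 yh10 zh28) (kh xh8 yh16 zh2) (kh xh11 yh10 zh30) (kh xh8 yh16 zh5) (kh xh10 yh3 zh27) (kh xh8 yh16 zh7) (kh xh8 yh16 zh14) (kh xh8 yh16 zh15) (kh xh11 yh10 zh24)) (@D3.rec (fun _ => Pt) (kh xh11 yh10 zh25) (kh xh11 yh11 zh1) (kh xh11 yh11 zh2) (kh xh10 yh4 zh5) (kh xh8 yh16 zh31) (kh xh10 yh4 zh3) (kh xh10 yh14 zh25) (kh xh11 yh11 zh12) (kh xh10 yh11 zh5) (kh xh9 yh12 zh14) (kh xh11 yh11 zh17) (kh xh9 yh12 zh15) (kh xh11 yh11 zh20) (kh xh8 yh16 zh23) (kh xh8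 yh17 zh0) (kh xh8 yh17 zh1) (kh xh8 yh17 zh2) (kh xh9 yh6 zh7) (kh xh9 yh6 zh8) (kh xh8 yh17 zh3) (kh xh8 yh17 zh4) (kh xh11 yh6 zh23) (kh xh9 yh12 zh7) (kh xh10 yh16 zh30) (kh xh9 yh11 zh7) (kh xh9 yh2 zh22) (kh xh11 yh3 zh7) (kh xh11 yh7 zh0) (kh xh9 yh14 zh0) (kh xh8 yh17 zh20) (kh xh10 yh4 zh30) (kh xh11 yh11 zh26)) (@D3.rec (fun _ => Pt) (kh xh8 yh17 zh22) (kh xh9 yh15 zh28) (kh xh8 yh17 zh31) (kh xh9 yh18 zh8) (kh xh8 yh19 zh17) (kh xh8 yh18 zh7) (kh xh11 yh11 zh30) (kh xh9 yh1 zh7) (kh xh11 yh12 zh1) (kh xh11 yh7 zh18) (kh xh9 yh1 zh4) (kh xh11 yh12 zh6) (kh xh11 yh12 zh7) (kh xh8 yh18 zh9) (kh xh9 yh21 zh27) (kh xh9 yh2 zh17) (kh xh10 yh13 zh13) (kh xh10 yh13 zh16) (kh xh8 yh18 zh17) (kh xh8 yh18 zh19) (kh xh9 yh2 zh0) (kh xh11 yh12 zh11)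 (kh xh8 yh18 zh21) (kh xh11 yh3 zh18) (kh xh11 yh12 zh13) (kh xh8 yh18 zh23) (kh xh8 yh18 zh24) (kh xh11 yh12 zh15) (kh xh8 yh18 zh29) (kh xh11 yh12 zh17) (kh xh8 yh19 zh0) (kh xh11 yh12 zh14)) (@D3.rec (fun _ => Pt) (kh xh8 yh19 zh3) (kh xh11 yh12 zh21) (kh xh8 yh19 zh6) (kh xh8 yh19 zh12) (kh xh11 yh12 zh20) (kh xh8 yh19 zh10) (kh xh11 yh12 zh22) (kh xh11 yh10 zh16) (kh xh8 yh19 zh14) (kh xh10 yh15 zh0) (kh xh9 yh1 zh15) (kh xh10 yh20 zh16) (kh xh10 yh20 zh17) (kh xh11 yh13 zh2) (kh xh8 yh19 zh24) (kh xh9 yh1 zh17) (kh xh8 yh19 zh26) (kh xh11 yh13 zh7) (kh xh8 yh19 zh29) (kh xh8 yh19 zh30) (kh xh11 yh13 zh14) (kh xh8 yh20 zh0) (kh xh11 yh13 zh16) (kh xh8 yh19 zh23) (kh xh11 yh13 zh3) (kh xh11 yh4 zh29) (kh xh11 yh13 zh20) (kh xh11 yh13 zh5)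 (kh xh9 yh11 zh6) (kh xh11 yh13 zh26) (kh xh9 yh11 zh5) (kh xh11 yh13 zh28)) (@D3.rec (fun _ => Pt) (kh xh8 yh19 zh28) (kh xh11 yh13 zh8) (kh xh11 yh13 zh9) (kh xh11 yh14 zh2) (kh xh11 yh14 zh4) (kh xh11 yh13 zh12) (kh xh11 yh14 zh8) (kh xh8 yh19 zh31) (kh xh11 yh5 zh7) (kh xh11 yh14 zh11) (kh xh8 yh20 zh1) (kh xh11 yh14 zh14) (kh xh9 yh9 zh7) (kh xh9 yh10 zh17) (kh xh9 yh9 zh8) (kh xh9 yh10 zh19) (kh xh11 yh14 zh21) (kh xh8 yh20 zh7) (kh xh11 yh14 zh24) (kh xh9 yh9 zh12) (kh xh11 yh14 zh26) (kh xh8 yh20 zh9) (kh xh10 yh21 zh6) (kh xh11 yh14 zh29) (kh xh8 yh20 zh12) (kh xh11 yh14 zh12) (kh xh10 yh18 zh0) (kh xh10 yh17 zh31) (kh xh8 yh20 zh14) (kh xh10 yh10 zh22) (kh xh11 yh15 zh2) (kh xh8 yh20 zh18)) (@D3.rec (fun _ => Pt) (kh xh8 yh20 zh21) (kh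 xh11 yh1 zh16) (kh xh11 yh15 zh3) (kh xh8 yh21 zh4) (kh xh11 yh15 zh5) (kh xh8 yh20 zh27) (kh xh8 yh21 zh10) (kh xh8 yh21 zh11) (kh xh11 yh15 zh8) (kh xh11 yh15 zh9) (kh xh8 yh20 zh30) (kh xh11 yh15 zh11) (kh xh8 yh21 zh0) (kh xh11 yh15 zh12) (kh xh8 yh21 zh3) (kh xh9 yh11 zh15) (kh xh11 yh15 zh14) (kh xh11 yh15 zh15) (kh xh8 yh21 zh6) (kh xh11 yh15 zh17) (kh xh8 yh21 zh8) (kh xh11 yh7 zh29) (kh xh11 yh15 zh19) (kh xh11 yh4 zh0) (kh xh11 yh15 zh21) (kh xh8 yh21 zh12) (kh xh11 yh15 zh23) (kh xh8 yh21 zh14) (kh xh8 yh21 zh31) (kh xh11 yh15 zh26) (kh xh8 yh21 zh17) (kh xh8 yh21 zh23)) (@D3.rec (fun _ => Pt) (kh xh9 yh11 zh14) (kh xh8 yh21 zh21) (kh xh11 yh15 zh27) (kh xh8 yh21 zh27) (kh xh11 yh15 zh16) (kh xh8 yh21 zh29) (kh xh11 yh15 zh22) (kh xh11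 yh15 zh25) (kh xh9 yh0 zh0) (kh xh9 yh0 zh1) (kh xh11 yh16 zh2) (kh xh9 yh0 zh4) (kh xh9 yh0 zh5) (kh xh10 yh9 zh13) (kh xh9 yh0 zh7) (kh xh9 yh0 zh9) (kh xh9 yh0 zh11) (kh xh9 yh0 zh28) (kh xh9 yh0 zh13) (kh xh11 yh16 zh7) (kh xh9 yh0 zh16) (kh xh9 yh0 zh17) (kh xh9 yh0 zh30) (kh xh9 yh0 zh19) (kh xh10 yh9 zh24) (kh xh9 yh0 zh31) (kh xh9 yh0 zh22) (kh xh9 yh0 zh27) (kh xh11 yh16 zh6) (kh xh11 yh16 zh8) (kh xh9 yh21 zh29) (kh xh9 yh21 zh30)) (@D3.rec (fun _ => Pt) (kh xh11 yh16 zh15) (kh xh9 yh1 zh6) (kh xh11 yh16 zh17) (kh xh9 yh1 zh3) (kh xh11 yh16 zh18) (kh xh9 yh1 zh5) (kh xh11 yh11 zh31) (kh xh11 yh16 zh22) (kh xh11 yh16 zh24) (kh xh11 yh7 zh22) (kh xh11 yh16 zh27) (kh xh9 yh1 zh8) (kh xh11 yh16 zh29) (kh xh9 yh1 zh10) (kh xh11 yh16 zh31)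 (kh xh9 yh1 zh13) (kh xh11 yh17 zh2) (kh xh11 yh12 zh25) (kh xh10 yh1 zh12) (kh xh11 yh17 zh5) (kh xh11 yh17 zh7) (kh xh9 yh1 zh18) (kh xh10 yh7 zh29) (kh xh11 yh17 zh9) (kh xh9 yh1 zh22) (kh xh9 yh1 zh25) (kh xh9 yh15 zh18) (kh xh11 yh17 zh10) (kh xh9 yh1 zh29) (kh xh11 yh5 zh1) (kh xh11 yh17 zh12) (kh xh9 yh2 zh1)) (@D3.rec (fun _ => Pt) (kh xh11 yh17 zh13) (kh xh9 yh2 zh3) (kh xh9 yh2 zh5) (kh xh9 yh2 zh11) (kh xh10 yh11 zh4) (kh xh10 yh4 zh8) (kh xh11 yh11 zh21) (kh xh10 yh11 zh10) (kh xh10 yh15 zh1) (kh xh11 yh17 zh20) (kh xh10 yh11 zh7) (kh xh11 yh0 zh7) (kh xh11 yh17 zh27) (kh xh11 yh0 zh9) (kh xh11 yh17 zh30) (kh xh9 yh2 zh20) (kh xh9 yh3 zh0) (kh xh11 yh18 zh1) (kh xh9 yh3 zh2) (kh xh9 yh2 zh25) (kh xh9 yh3 zh5) (kh xh9 yh3 zh6) (kh xh11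 yh18 zh7) (kh xh11 yh18 zh9) (kh xh9 yh3 zh9) (kh xh11 yh18 zh13) (kh xh9 yh2 zh28) (kh xh9 yh3 zh12) (kh xh11 yh18 zh16) (kh xh9 yh2 zh30) (kh xh11 yh18 zh18) (kh xh11 yh18 zh0)) (@D3.rec (fun _ => Pt) (kh xh11 yh18 zh22) (kh xh9 yh3 zh1) (kh xh11 yh5 zh5) (kh xh11 yh18 zh25) (kh xh9 yh3 zh3) (kh xh11 yh18 zh2) (kh xh11 yh18 zh29) (kh xh11 yh18 zh31) (kh xh11 yh18 zh5) (kh xh11 yh19 zh3) (kh xh9 yh3 zh7) (kh xh11 yh19 zh7) (kh xh9 yh3 zh8) (kh xh11 yh19 zh10) (kh xh11 yh18 zh11) (kh xh11 yh19 zh12) (kh xh9 yh3 zh10) (kh xh11 yh0 zh24) (kh xh11 yh19 zh15) (kh xh9 yh3 zh13) (kh xh9 yh3 zh31) (kh xh11 yh19 zh20) (kh xh9 yh3 zh15) (kh xh11 yh19 zh23) (kh xh9 yh10 zh25) (kh xh11 yh19 zh25) (kh xh9 yh3 zh17) (kh xh10 yh15 zh20) (kh xh11 yh19 zh28)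 (kh xh9 yh3 zh20) (kh xh10 yh12 zh31) (kh xh10 yh12 zh30)) (@D3.rec (fun _ => Pt) (kh xh9 yh3 zh22) (kh xh11 yh20 zh0) (kh xh11 yh20 zh1) (kh xh9 yh3 zh24) (kh xh11 yh20 zh3) (kh xh9 yh3 zh26) (kh xh11 yh20 zh2) (kh xh11 yh1 zh5) (kh xh9 yh3 zh29) (kh xh11 yh19 zh16) (kh xh11 yh19 zh17) (kh xh11 yh20 zh9) (kh xh11 yh20 zh10) (kh xh10 yh5 zh16) (kh xh9 yh4 zh3) (kh xh9 yh4 zh6) (kh xh10 yh5 zh17) (kh xh10 yh21 zh17) (kh xh9 yh4 zh27) (kh xh11 yh20 zh13) (kh xh9 yh4 zh29) (kh xh11 yh20 zh15) (kh xh9 yh4 zh17) (kh xh11 yh20 zh16) (kh xh9 yh4 zh19) (kh xh11 yh20 zh18) (kh xh9 yh4 zh22) (kh xh11 yh20 zh19) (kh xh9 yh4 zh25) (kh xh11 yh10 zh0) (kh xh11 yh20 zh21) (kh xh9 yh4 zh28)) (@D3.rec (fun _ => Pt) (kh xh11 yh9 zh29) (kh xh11 yh20 zh23) (kh xh9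 yh4 zh30) (kh xh11 yh20 zh25) (kh xh9 yh5 zh1) (kh xh9 yh8 zh11) (kh xh9 yh5 zh3) (kh xh9 yh5 zh9) (kh xh9 yh5 zh10) (kh xh9 yh5 zh6) (kh xh11 yh20 zh28) (kh xh11 yh20 zh29) (kh xh9 yh5 zh13) (kh xh9 yh5 zh14) (kh xh9 yh5 zh16) (kh xh10 yh14 zh15) (kh xh9 yh5 zh18) (kh xh9 yh5 zh20) (kh xh11 yh21 zh0) (kh xh9 yh5 zh23) (kh xh9 yh5 zh25) (kh xh9 yh8 zh24) (kh xh9 yh5 zh27) (kh xh9 yh8 zh26) (kh xh9 yh8 zh27) (kh xh10 yh4 zh6) (kh xh11 yh21 zh6) (kh xh11 yh21 zh7) (kh xh11 yh21 zh8) (kh xh9 yh6 zh6) (kh xh11 yh21 zh9) (kh xh9 yh6 zh10)) (@D3.rec (fun _ => Pt) (kh xh10 yh6 zh9) (kh xh10 yh11 zh8) (kh xh11 yh21 zh14) (kh xh9 yh12 zh16) (kh xh11 yh21 zh17) (kh xh9 yh6 zh13) (kh xh11 yh2 zh2) (kh xh11 yh21 zh19) (kh xh9 yh6 zh15) (kh xh10 yh18 zh16)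 (kh xh11 yh21 zh22) (kh xh10 yh15 zh11) (kh xh11 yh21 zh26) (kh xh9 yh6 zh21) (kh xh11 yh21 zh29) (kh xh9 yh6 zh22) (kh xh12 yh0 zh0) (kh xh10 yh15 zh17) (kh xh12 yh0 zh2) (kh xh9 yh6 zh24) (kh xh10 yh12 zh27) (kh xh10 yh15 zh22) (kh xh10 yh15 zh21) (kh xh9 yh6 zh26) (kh xh12 yh0 zh8) (kh xh12 yh0 zh9) (kh xh9 yh6 zh28) (kh xh12 yh0 zh11) (kh xh9 yh6 zh30) (kh xh12 yh0 zh10) (kh xh10 yh16 zh11) (kh xh9 yh7 zh1)) (@D3.rec (fun _ => Pt) (kh xh9 yh7 zh25) (kh xh9 yh7 zh26) (kh xh9 yh16 zh14) (kh xh9 yh16 zh13) (kh xh9 yh7 zh4) (kh xh12 yh0 zh20) (kh xh12 yh0 zh21) (kh xh9 yh7 zh6) (kh xh12 yh0 zh23) (kh xh9 yh7 zh8) (kh xh12 yh0 zh22) (kh xh10 yh15 zh30) (kh xh9 yh7 zh11) (kh xh9 yh16 zh24) (kh xh9 yh16 zh25) (kh xh12 yh0 zh29) (kh xh12 yh0 zh30)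 (kh xh12 yh0 zh31) (kh xh9 yh7 zh17) (kh xh9 yh7 zh18) (kh xh9 yh7 zh22) (kh xh9 yh7 zh20) (kh xh12 yh1 zh0) (kh xh12 yh1 zh2) (kh xh12 yh1 zh3) (kh xh12 yh0 zh16) (kh xh9 yh7 zh27) (kh xh9 yh7 zh28) (kh xh9 yh7 zh29) (kh xh9 yh8 zh2) (kh xh10 yh4 zh23) (kh xh10 yh16 zh31)) (@D3.rec (fun _ => Pt) (kh xh12 yh1 zh8) (kh xh9 yh8 zh4) (kh xh12 yh1 zh10) (kh xh9 yh8 zh7) (kh xh11 yh20 zh24) (kh xh9 yh8 zh9) (kh xh11 yh20 zh26) (kh xh11 yh20 zh27) (kh xh9 yh8 zh18) (kh xh9 yh17 zh11) (kh xh12 yh1 zh15) (kh xh9 yh8 zh20) (kh xh11 yh21 zh1) (kh xh9 yh8 zh22) (kh xh11 yh21 zh2) (kh xh11 yh21 zh3) (kh xh9 yh11 zh8) (kh xh10 yh17 zh17) (kh xh10 yh17 zh18) (kh xh10 yh17 zh19) (kh xh12 yh1 zh19) (kh xh9 yh9 zh0) (kh xh12 yh1 zh21) (kh xh9 yh9 zh4) (kh xh9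 yh9 zh5) (kh xh12 yh1 zh25) (kh xh9 yh9 zh3) (kh xh12 yh1 zh22) (kh xh12 yh1 zh29) (kh xh9 yh9 zh6) (kh xh11 yh14 zh16) (kh xh10 yh7 zh27)) (@D3.rec (fun _ => Pt) (kh xh10 yh7 zh26) (kh xh9 yh9 zh9) (kh xh11 yh17 zh4) (kh xh12 yh2 zh0) (kh xh9 yh9 zh11) (kh xh12 yh2 zh2) (kh xh9 yh9 zh13) (kh xh12 yh2 zh1) (kh xh10 yh18 zh8) (kh xh9 yh9 zh16) (kh xh9 yh10 zh1) (kh xh9 yh10 zh0) (kh xh9 yh9 zh22) (kh xh12 yh2 zh5) (kh xh9 yh9 zh29) (kh xh9 yh9 zh30) (kh xh10 yh15 zh9) (kh xh9 yh10 zh4) (kh xh12 yh2 zh7) (kh xh9 yh10 zh9) (kh xh12 yh2 zh9) (kh xh10 yh18 zh21) (kh xh12 yh2 zh12) (kh xh9 yh10 zh11) (kh xh10 yh18 zh24) (kh xh12 yh2 zh14) (kh xh9 yh10 zh13) (kh xh12 yh2 zh18) (kh xh9 yh10 zh15) (kh xh12 yh2 zh21) (kh xh9 yh10 zh22) (kh xh11 yh14 zh17))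 (@D3.rec (fun _ => Pt) (kh xh11 yh14 zh18) (kh xh10 yh1 zh17) (kh xh10 yh1 zh16) (kh xh9 yh10 zh20) (kh xh12 yh1 zh30) (kh xh9 yh15 zh8) (kh xh9 yh15 zh7) (kh xh9 yh10 zh23) (kh xh12 yh1 zh26) (kh xh11 yh11 zh23) (kh xh11 yh12 zh9) (kh xh12 yh2 zh25) (kh xh9 yh10 zh29) (kh xh9 yh10 zh30) (kh xh9 yh11 zh2) (kh xh9 yh11 zh0) (kh xh11 yh11 zh14) (kh xh12 yh2 zh27) (kh xh11 yh21 zh12) (kh xh11 yh13 zh24) (kh xh11 yh13 zh21) (kh xh9 yh21 zh25) (kh xh10 yh19 zh22) (kh xh12 yh3 zh1) (kh xh9 yh11 zh17) (kh xh9 yh11 zh18) (kh xh9 yh11 zh19) (kh xh9 yh11 zh21) (kh xh12 yh0 zh15) (kh xh9 yh11 zh24) (kh xh11 yh21 zh20) (kh xh12 yh3 zh6)) (@D3.rec (fun _ => Pt) (kh xh12 yh3 zh7) (kh xh12 yh3 zh8) (kh xh9 yh11 zh29) (kh xh9 yh11 zh30) (kh xh9 yh12 zh2) (kh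 xh9 yh12 zh0) (kh xh12 yh3 zh9) (kh xh11 yh11 zh18) (kh xh11 yh21 zh15) (kh xh10 yh20 zh9) (kh xh10 yh20 zh10) (kh xh9 yh12 zh8) (kh xh9 yh12 zh9) (kh xh12 yh1 zh1) (kh xh11 yh11 zh8) (kh xh11 yh6 zh29) (kh xh10 yh6 zh11) (kh xh10 yh6 zh12) (kh xh12 yh3 zh20) (kh xh9 yh12 zh27) (kh xh9 yh12 zh28) (kh xh12 yh3 zh24) (kh xh12 yh3 zh25) (kh xh9 yh12 zh26) (kh xh11 yh7 zh26) (kh xh12 yh3 zh28) (kh xh12 yh3 zh30) (kh xh11 yh7 zh23) (kh xh12 yh4 zh1) (kh xh9 yh12 zh29) (kh xh12 yh4 zh3) (kh xh9 yh12 zh31)) (@D3.rec (fun _ => Pt) (kh xh12 yh4 zh7) (kh xh9 yh13 zh1) (kh xh12 yh4 zh10) (kh xh10 yh21 zh3) (kh xh12 yh4 zh12) (kh xh9 yh13 zh3) (kh xh10 yh7 zh22) (kh xh12 yh4 zh15) (kh xh9 yh13 zh6) (kh xh12 yh4 zh4) (kh xh12 yh1 zh28) (kh xh12 yh1 zh27) (kh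 xh9 yh13 zh8) (kh xh10 yh1 zh19) (kh xh12 yh4 zh20) (kh xh9 yh13 zh12) (kh xh9 yh13 zh15) (kh xh10 yh13 zh17) (kh xh12 yh4 zh21) (kh xh9 yh13 zh19) (kh xh9 yh13 zh20) (kh xh12 yh4 zh24) (kh xh9 yh13 zh23) (kh xh9 yh13 zh24) (kh xh9 yh14 zh3) (kh xh9 yh13 zh26) (kh xh9 yh13 zh30) (kh xh9 yh13 zh28) (kh xh12 yh4 zh28) (kh xh12 yh4 zh29) (kh xh12 yh4 zh25) (kh xh12 yh4 zh27))
def f_h_11 : D2 → D3 → Pt := @D2.rec (fun _ => D3 → Pt) (@D3.rec (fun _ => Pt) (kh xh11 yh0 zh0) (kh xh11 yh0 zh1) (kh xh11 yh0 zh2) (kh xh9 yh14 zh13) (kh xh9 yh14 zh11) (kh xh9 yh14 zh12) (kh xh12 yh5 zh6) (kh xh10 yh11 zh11) (kh xh12 yh5 zh10) (kh xh10 yh11 zh13) (kh xh12 yh5 zh13) (kh xh9 yh14 zh16) (kh xh12 yh5 zh15) (kh xh9 yh14 zh23) (kh xh12 yh5 zh18) (kh xh9 yh14 zh18)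 (kh xh12 yh5 zh20) (kh xh9 yh14 zh20) (kh xh12 yh5 zh24) (kh xh9 yh14 zh22) (kh xh12 yh5 zh27) (kh xh11 yh8 zh0) (kh xh12 yh5 zh29) (kh xh9 yh14 zh24) (kh xh10 yh12 zh17) (kh xh12 yh6 zh0) (kh xh9 yh14 zh27) (kh xh9 yh15 zh6) (kh xh11 yh19 zh19) (kh xh11 yh19 zh18) (kh xh9 yh14 zh29) (kh xh12 yh6 zh6)) (@D3.rec (fun _ => Pt) (kh xh12 yh6 zh7) (kh xh9 yh14 zh31) (kh xh12 yh6 zh9) (kh xh9 yh15 zh1) (kh xh12 yh6 zh8) (kh xh10 yh13 zh7) (kh xh9 yh15 zh4) (kh xh12 yh6 zh1) (kh xh12 yh6 zh2) (kh xh12 yh6 zh17) (kh xh12 yh6 zh18) (kh xh9 yh19 zh4) (kh xh9 yh15 zh10) (kh xh9 yh15 zh13) (kh xh9 yh19 zh6) (kh xh11 yh11 zh25) (kh xh10 yh8 zh1) (kh xh11 yh5 zh20) (kh xh9 yh15 zh20) (kh xh11 yh1 zh19) (kh xh9 yh15 zh22) (kh xh9 yh15 zh26) (kh xh9 yh15 zh27)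 (kh xh12 yh6 zh24) (kh xh12 yh6 zh25) (kh xh12 yh6 zh26) (kh xh12 yh6 zh27) (kh xh9 yh18 zh5) (kh xh11 yh1 zh28) (kh xh9 yh16 zh5) (kh xh9 yh16 zh6) (kh xh9 yh16 zh7)) (@D3.rec (fun _ => Pt) (kh xh9 yh16 zh8) (kh xh12 yh6 zh30) (kh xh10 yh15 zh6) (kh xh12 yh7 zh0) (kh xh9 yh16 zh11) (kh xh12 yh7 zh2) (kh xh12 yh7 zh3) (kh xh12 yh7 zh4) (kh xh9 yh16 zh16) (kh xh9 yh16 zh17) (kh xh9 yh16 zh21) (kh xh9 yh16 zh19) (kh xh12 yh7 zh5) (kh xh12 yh7 zh7) (kh xh12 yh7 zh8) (kh xh11 yh2 zh28) (kh xh12 yh0 zh27) (kh xh11 yh2 zh31) (kh xh12 yh0 zh28) (kh xh9 yh16 zh26) (kh xh9 yh16 zh27) (kh xh9 yh16 zh28) (kh xh9 yh17 zh1) (kh xh12 yh7 zh17) (kh xh9 yh17 zh25) (kh xh12 yh3 zh0) (kh xh11 yh4 zh10) (kh xh11 yh8 zh21) (kh xh11 yh2 zh15) (kh xh9 yh17 zh21) (kh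 xh11 yh2 zh30) (kh xh11 yh2 zh17)) (@D3.rec (fun _ => Pt) (kh xh12 yh6 zh21) (kh xh9 yh18 zh1) (kh xh9 yh18 zh3) (kh xh11 yh11 zh27) (kh xh10 yh0 zh31) (kh xh12 yh7 zh23) (kh xh9 yh18 zh16) (kh xh10 yh4 zh26) (kh xh9 yh18 zh18) (kh xh9 yh18 zh19) (kh xh12 yh7 zh30) (kh xh9 yh18 zh21) (kh xh9 yh18 zh22) (kh xh12 yh8 zh5) (kh xh9 yh18 zh24) (kh xh12 yh8 zh7) (kh xh9 yh18 zh15) (kh xh12 yh7 zh24) (kh xh10 yh5 zh23) (kh xh12 yh8 zh12) (kh xh12 yh7 zh26) (kh xh12 yh7 zh27) (kh xh12 yh8 zh16) (kh xh12 yh8 zh17) (kh xh9 yh18 zh20) (kh xh12 yh7 zh31) (kh xh12 yh8 zh0) (kh xh12 yh8 zh23) (kh xh12 yh8 zh25) (kh xh12 yh8 zh3) (kh xh12 yh8 zh29) (kh xh9 yh18 zh23)) (@D3.rec (fun _ => Pt) (kh xh10 yh8 zh23) (kh xh12 yh9 zh0) (kh xh9 yh18 zh25) (kh xh9 yh18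 zh27) (kh xh12 yh9 zh5) (kh xh9 yh18 zh29) (kh xh12 yh9 zh8) (kh xh11 yh4 zh7) (kh xh12 yh6 zh20) (kh xh9 yh18 zh31) (kh xh11 yh2 zh26) (kh xh9 yh19 zh2) (kh xh12 yh9 zh1) (kh xh12 yh1 zh24) (kh xh12 yh1 zh23) (kh xh12 yh6 zh19) (kh xh9 yh19 zh7) (kh xh12 yh9 zh13) (kh xh9 yh19 zh23) (kh xh12 yh9 zh15) (kh xh12 yh9 zh16) (kh xh9 yh19 zh13) (kh xh9 yh19 zh27) (kh xh9 yh19 zh28) (kh xh12 yh9 zh19) (kh xh12 yh9 zh20) (kh xh9 yh19 zh16) (kh xh12 yh9 zh22) (kh xh9 yh19 zh18) (kh xh10 yh6 zh25) (kh xh12 yh9 zh25) (kh xh12 yh9 zh26)) (@D3.rec (fun _ => Pt) (kh xh9 yh19 zh22) (kh xh10 yh10 zh29) (kh xh12 yh9 zh28) (kh xh9 yh19 zh24) (kh xh9 yh19 zh25) (kh xh10 yh12 zh2) (kh xh12 yh10 zh0) (kh xh10 yh7 zh8) (kh xh12 yh10 zh2) (kh xh9 yh19 zh29) (kh xh12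 yh10 zh4) (kh xh9 yh19 zh31) (kh xh9 yh20 zh19) (kh xh12 yh10 zh6) (kh xh9 yh20 zh2) (kh xh9 yh20 zh7) (kh xh12 yh9 zh30) (kh xh12 yh10 zh7) (kh xh12 yh10 zh8) (kh xh9 yh21 zh19) (kh xh11 yh1 zh17) (kh xh12 yh6 zh22) (kh xh9 yh20 zh15) (kh xh12 yh9 zh29) (kh xh9 yh20 zh17) (kh xh12 yh10 zh3) (kh xh12 yh10 zh5) (kh xh9 yh20 zh20) (kh xh9 yh20 zh21) (kh xh9 yh20 zh22) (kh xh12 yh10 zh17) (kh xh9 yh20 zh25)) (@D3.rec (fun _ => Pt) (kh xh9 yh20 zh26) (kh xh11 yh6 zh1) (kh xh9 yh20 zh28) (kh xh11 yh6 zh3) (kh xh9 yh20 zh30) (kh xh9 yh20 zh31) (kh xh12 yh10 zh23) (kh xh9 yh21 zh2) (kh xh9 yh21 zh20) (kh xh9 yh21 zh15) (kh xh12 yh10 zh25) (kh xh9 yh21 zh6) (kh xh9 yh21 zh7) (kh xh9 yh21 zh22) (kh xh9 yh21 zh9) (kh xh9 yh21 zh23) (kh xh9 yh21 zh12) (kh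 xh9 yh21 zh16) (kh xh9 yh21 zh17) (kh xh12 yh10 zh24) (kh xh12 yh10 zh27) (kh xh12 yh10 zh26) (kh xh11 yh11 zh7) (kh xh10 yh4 zh21) (kh xh11 yh12 zh4) (kh xh12 yh11 zh1) (kh xh11 yh16 zh11) (kh xh11 yh16 zh12) (kh xh12 yh11 zh8) (kh xh10 yh20 zh15) (kh xh12 yh11 zh11) (kh xh9 yh21 zh31)) (@D3.rec (fun _ => Pt) (kh xh10 yh4 zh27) (kh xh10 yh0 zh12) (kh xh12 yh11 zh13) (kh xh10 yh0 zh15) (kh xh10 yh0 zh16) (kh xh12 yh11 zh17) (kh xh12 yh11 zh18) (kh xh10 yh0 zh5) (kh xh10 yh0 zh21) (kh xh10 yh0 zh22) (kh xh12 yh11 zh23) (kh xh12 yh11 zh25) (kh xh10 yh0 zh25) (kh xh12 yh11 zh29) (kh xh10 yh0 zh8) (kh xh10 yh0 zh28) (kh xh12 yh12 zh0) (kh xh10 yh0 zh10) (kh xh10 yh5 zh9) (kh xh12 yh12 zh4) (kh xh12 yh12 zh5) (kh xh10 yh0 zh14) (kh xh10 yh10 zh9) (kh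 xh10 yh20 zh27) (kh xh12 yh12 zh9) (kh xh12 yh7 zh19) (kh xh10 yh20 zh24) (kh xh12 yh12 zh14) (kh xh10 yh0 zh17) (kh xh10 yh8 zh21) (kh xh12 yh12 zh17) (kh xh10 yh0 zh19)) (@D3.rec (fun _ => Pt) (kh xh11 yh0 zh21) (kh xh12 yh12 zh22) (kh xh12 yh12 zh24) (kh xh12 yh11 zh21) (kh xh12 yh12 zh28) (kh xh10 yh0 zh23) (kh xh12 yh13 zh0) (kh xh10 yh0 zh24) (kh xh12 yh13 zh3) (kh xh12 yh11 zh27) (kh xh12 yh13 zh5) (kh xh10 yh0 zh26) (kh xh11 yh16 zh28) (kh xh12 yh13 zh8) (kh xh10 yh0 zh29) (kh xh10 yh1 zh15) (kh xh12 yh7 zh21) (kh xh12 yh13 zh13) (kh xh11 yh8 zh18) (kh xh12 yh13 zh15) (kh xh10 yh1 zh1) (kh xh11 yh2 zh27) (kh xh10 yh1 zh4) (kh xh12 yh12 zh18) (kh xh12 yh2 zh17) (kh xh12 yh2 zh16) (kh xh10 yh1 zh6) (kh xh12 yh13 zh22) (kh xh12 yh13 zh23)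 (kh xh10 yh1 zh8) (kh xh12 yh13 zh25) (kh xh10 yh1 zh10)) (@D3.rec (fun _ => Pt) (kh xh12 yh13 zh24) (kh xh11 yh17 zh3) (kh xh10 yh1 zh13) (kh xh12 yh13 zh9) (kh xh12 yh13 zh10) (kh xh12 yh4 zh18) (kh xh12 yh4 zh19) (kh xh10 yh1 zh20) (kh xh10 yh1 zh25) (kh xh12 yh13 zh31) (kh xh10 yh1 zh27) (kh xh10 yh1 zh28) (kh xh12 yh14 zh1) (kh xh10 yh2 zh19) (kh xh12 yh14 zh3) (kh xh10 yh2 zh0) (kh xh12 yh14 zh4) (kh xh10 yh2 zh2) (kh xh12 yh14 zh6) (kh xh10 yh2 zh5) (kh xh11 yh9 zh20) (kh xh10 yh2 zh7) (kh xh12 yh14 zh10) (kh xh12 yh14 zh11) (kh xh10 yh2 zh11) (kh xh10 yh2 zh12) (kh xh12 yh14 zh13) (kh xh10 yh2 zh15) (kh xh10 yh2 zh30) (kh xh10 yh14 zh0) (kh xh12 yh14 zh17) (kh xh10 yh2 zh18)) (@D3.rec (fun _ => Pt) (kh xh10 yh13 zh29) (kh xh12 yh14 zh19)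 (kh xh10 yh2 zh20) (kh xh12 yh14 zh21) (kh xh10 yh2 zh23) (kh xh11 yh10 zh5) (kh xh10 yh2 zh25) (kh xh10 yh3 zh0) (kh xh10 yh3 zh1) (kh xh12 yh14 zh14) (kh xh12 yh14 zh15) (kh xh12 yh14 zh24) (kh xh12 yh14 zh25) (kh xh11 yh10 zh13) (kh xh10 yh3 zh6) (kh xh10 yh3 zh8) (kh xh10 yh6 zh7) (kh xh10 yh3 zh10) (kh xh11 yh10 zh18) (kh xh11 yh10 zh19) (kh xh11 yh10 zh20) (kh xh10 yh3 zh14) (kh xh11 yh10 zh22) (kh xh10 yh3 zh17) (kh xh10 yh3 zh31) (kh xh10 yh4 zh0) (kh xh12 yh15 zh5) (kh xh10 yh3 zh21) (kh xh10 yh3 zh23) (kh xh11 yh10 zh29) (kh xh10 yh3 zh25) (kh xh11 yh10 zh31)) (@D3.rec (fun _ => Pt) (kh xh11 yh11 zh0) (kh xh10 yh4 zh1) (kh xh10 yh4 zh2) (kh xh12 yh15 zh3) (kh xh12 yh15 zh4) (kh xh12 yh15 zh9) (kh xh12 yh15 zh10) (kh xh11 yh6 zh22) (kh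 xh10 yh20 zh14) (kh xh12 yh15 zh14) (kh xh11 yh21 zh4) (kh xh12 yh15 zh16) (kh xh10 yh4 zh7) (kh xh11 yh12 zh24) (kh xh10 yh19 zh16) (kh xh12 yh15 zh20) (kh xh12 yh15 zh21) (kh xh10 yh4 zh10) (kh xh10 yh20 zh7) (kh xh12 yh15 zh23) (kh xh10 yh4 zh12) (kh xh10 yh11 zh6) (kh xh12 yh2 zh6) (kh xh10 yh19 zh9) (kh xh11 yh20 zh11) (kh xh11 yh1 zh15) (kh xh10 yh4 zh31) (kh xh11 yh3 zh3) (kh xh12 yh15 zh26) (kh xh12 yh15 zh27) (kh xh10 yh5 zh6) (kh xh10 yh10 zh6)) (@D3.rec (fun _ => Pt) (kh xh12 yh15 zh29) (kh xh10 yh5 zh8) (kh xh12 yh8 zh9) (kh xh12 yh15 zh31) (kh xh11 yh6 zh24) (kh xh12 yh16 zh1) (kh xh10 yh5 zh11) (kh xh10 yh5 zh12) (kh xh12 yh16 zh3) (kh xh10 yh19 zh10) (kh xh12 yh16 zh4) (kh xh10 yh5 zh21) (kh xh12 yh16 zh6) (kh xh10 yh5 zh24) (kh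 xh10 yh5 zh31) (kh xh10 yh5 zh27) (kh xh12 yh16 zh5) (kh xh10 yh5 zh29) (kh xh12 yh16 zh7) (kh xh12 yh14 zh5) (kh xh10 yh6 zh4) (kh xh10 yh6 zh1) (kh xh10 yh6 zh6) (kh xh12 yh16 zh12) (kh xh11 yh11 zh13) (kh xh10 yh10 zh17) (kh xh11 yh17 zh21) (kh xh11 yh21 zh10) (kh xh12 yh16 zh19) (kh xh12 yh3 zh15) (kh xh12 yh3 zh16) (kh xh12 yh16 zh26)) (@D3.rec (fun _ => Pt) (kh xh12 yh3 zh18) (kh xh12 yh16 zh28) (kh xh10 yh6 zh13) (kh xh10 yh6 zh24) (kh xh12 yh16 zh30) (kh xh10 yh6 zh27) (kh xh12 yh17 zh0) (kh xh10 yh6 zh17) (kh xh10 yh7 zh1) (kh xh10 yh7 zh2) (kh xh12 yh17 zh4) (kh xh12 yh17 zh6) (kh xh10 yh7 zh5) (kh xh12 yh17 zh9) (kh xh10 yh6 zh20) (kh xh12 yh17 zh11) (kh xh10 yh6 zh22) (kh xh12 yh8 zh8) (kh xh12 yh17 zh14) (kh xh12 yh17 zh15) (kh xh10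 yh6 zh26) (kh xh10 yh19 zh20) (kh xh12 yh17 zh18) (kh xh12 yh17 zh20) (kh xh10 yh19 zh19) (kh xh12 yh17 zh23) (kh xh10 yh6 zh29) (kh xh12 yh17 zh25) (kh xh10 yh6 zh31) (kh xh12 yh12 zh12) (kh xh12 yh17 zh28) (kh xh12 yh17 zh30)) (@D3.rec (fun _ => Pt) (kh xh12 yh8 zh27) (kh xh12 yh18 zh1) (kh xh10 yh7 zh3) (kh xh12 yh18 zh5) (kh xh10 yh7 zh4) (kh xh12 yh18 zh8) (kh xh12 yh8 zh21) (kh xh12 yh18 zh10) (kh xh10 yh7 zh6) (kh xh12 yh4 zh2) (kh xh12 yh18 zh13) (kh xh10 yh7 zh9) (kh xh10 yh7 zh25) (kh xh12 yh18 zh18) (kh xh10 yh7 zh11) (kh xh12 yh18 zh21) (kh xh10 yh17 zh30) (kh xh10 yh18 zh31) (kh xh10 yh19 zh0) (kh xh11 yh14 zh20) (kh xh11 yh14 zh19) (kh xh10 yh7 zh16) (kh xh12 yh18 zh26) (kh xh12 yh18 zh27) (kh xh10 yh7 zh18) (kh xh12 yh18 zh29) (kh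 xh10 yh7 zh20) (kh xh12 yh18 zh28) (kh xh12 yh4 zh14) (kh xh10 yh7 zh23) (kh xh12 yh18 zh14) (kh xh12 yh18 zh15)) (@D3.rec (fun _ => Pt) (kh xh11 yh17 zh6) (kh xh11 yh17 zh8) (kh xh10 yh7 zh30) (kh xh10 yh8 zh2) (kh xh12 yh19 zh2) (kh xh10 yh8 zh4) (kh xh12 yh19 zh4) (kh xh12 yh19 zh5) (kh xh10 yh8 zh8) (kh xh10 yh8 zh9) (kh xh11 yh15 zh10) (kh xh10 yh8 zh11) (kh xh10 yh8 zh13) (kh xh12 yh19 zh8) (kh xh10 yh8 zh16) (kh xh10 yh8 zh17) (kh xh10 yh9 zh4) (kh xh10 yh8 zh19) (kh xh12 yh19 zh12) (kh xh10 yh8 zh22) (kh xh12 yh19 zh14) (kh xh10 yh8 zh24) (kh xh10 yh9 zh6) (kh xh10 yh8 zh26) (kh xh11 yh15 zh24) (kh xh10 yh9 zh7) (kh xh10 yh8 zh29) (kh xh10 yh9 zh2) (kh xh12 yh19 zh9) (kh xh12 yh19 zh11) (kh xh12 yh19 zh13) (kh xh12 yh19 zh16)) (@D3.rec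 (fun _ => Pt) (kh xh12 yh19 zh17) (kh xh11 yh16 zh1) (kh xh10 yh9 zh10) (kh xh11 yh16 zh3) (kh xh11 yh16 zh4) (kh xh11 yh16 zh5) (kh xh10 yh9 zh28) (kh xh10 yh9 zh19) (kh xh10 yh9 zh29) (kh xh11 yh16 zh9) (kh xh11 yh16 zh10) (kh xh11 yh6 zh26) (kh xh11 yh6 zh27) (kh xh12 yh19 zh27) (kh xh12 yh19 zh28) (kh xh10 yh10 zh0) (kh xh12 yh19 zh29) (kh xh10 yh10 zh2) (kh xh10 yh10 zh4) (kh xh12 yh20 zh1) (kh xh12 yh8 zh13) (kh xh12 yh20 zh4) (kh xh10 yh10 zh7) (kh xh12 yh20 zh7) (kh xh10 yh10 zh8) (kh xh12 yh20 zh10) (kh xh12 yh20 zh11) (kh xh10 yh10 zh10) (kh xh11 yh8 zh12) (kh xh10 yh10 zh12) (kh xh12 yh20 zh14) (kh xh10 yh10 zh14)) (@D3.rec (fun _ => Pt) (kh xh12 yh20 zh17) (kh xh12 yh20 zh18) (kh xh10 yh10 zh16) (kh xh11 yh9 zh1) (kh xh10 yh18 zh2)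 (kh xh10 yh10 zh19) (kh xh11 yh15 zh0) (kh xh10 yh10 zh20) (kh xh11 yh15 zh1) (kh xh10 yh10 zh23) (kh xh10 yh10 zh27) (kh xh12 yh20 zh20) (kh xh10 yh10 zh30) (kh xh10 yh11 zh0) (kh xh11 yh17 zh14) (kh xh11 yh17 zh15) (kh xh12 yh20 zh23) (kh xh11 yh17 zh22) (kh xh12 yh20 zh26) (kh xh12 yh20 zh27) (kh xh10 yh11 zh9) (kh xh11 yh12 zh26) (kh xh11 yh17 zh17) (kh xh12 yh21 zh1) (kh xh12 yh21 zh3) (kh xh12 yh5 zh8) (kh xh12 yh21 zh7) (kh xh10 yh11 zh12) (kh xh12 yh5 zh11) (kh xh12 yh21 zh10) (kh xh10 yh11 zh14) (kh xh12 yh21 zh13)) (@D3.rec (fun _ => Pt) (kh xh10 yh11 zh31) (kh xh10 yh11 zh17) (kh xh10 yh12 zh5) (kh xh12 yh21 zh17) (kh xh12 yh21 zh19) (kh xh10 yh12 zh8) (kh xh12 yh21 zh22) (kh xh10 yh11 zh22) (kh xh12 yh21 zh26) (kh xh10 yh11 zh23) (kh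 xh12 yh21 zh29) (kh xh10 yh12 zh14) (kh xh12 yh21 zh31) (kh xh10 yh11 zh25) (kh xh12 yh21 zh8) (kh xh13 yh0 zh2) (kh xh10 yh11 zh28) (kh xh13 yh0 zh5) (kh xh10 yh11 zh30) (kh xh13 yh0 zh8) (kh xh12 yh8 zh18) (kh xh13 yh0 zh10) (kh xh10 yh12 zh0) (kh xh11 yh19 zh4) (kh xh13 yh0 zh13) (kh xh10 yh12 zh3) (kh xh13 yh0 zh15) (kh xh12 yh12 zh26) (kh xh13 yh0 zh18) (kh xh10 yh12 zh6) (kh xh13 yh0 zh22) (kh xh10 yh12 zh7)) (@D3.rec (fun _ => Pt) (kh xh13 yh0 zh25) (kh xh12 yh12 zh20) (kh xh13 yh0 zh27) (kh xh10 yh12 zh9) (kh xh11 yh18 zh23) (kh xh11 yh19 zh6) (kh xh11 yh19 zh5) (kh xh10 yh12 zh11) (kh xh13 yh1 zh1) (kh xh13 yh1 zh2) (kh xh10 yh12 zh13) (kh xh13 yh1 zh4) (kh xh10 yh12 zh15) (kh xh13 yh1 zh3) (kh xh12 yh5 zh31) (kh xh10 yh12 zh18) (kh xh10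 yh13 zh9) (kh xh10 yh13 zh10) (kh xh11 yh0 zh29) (kh xh11 yh0 zh28) (kh xh10 yh12 zh21) (kh xh13 yh1 zh14) (kh xh13 yh1 zh15) (kh xh10 yh12 zh23) (kh xh13 yh1 zh17) (kh xh10 yh12 zh25) (kh xh13 yh1 zh16) (kh xh12 yh0 zh4) (kh xh10 yh12 zh28) (kh xh13 yh1 zh20) (kh xh13 yh1 zh21) (kh xh13 yh1 zh22)) (@D3.rec (fun _ => Pt) (kh xh10 yh13 zh1) (kh xh10 yh13 zh2) (kh xh10 yh13 zh6) (kh xh10 yh13 zh4) (kh xh13 yh1 zh23) (kh xh13 yh1 zh25) (kh xh13 yh1 zh26) (kh xh13 yh1 zh9) (kh xh13 yh1 zh10) (kh xh10 yh13 zh11) (kh xh10 yh13 zh12) (kh xh11 yh11 zh24) (kh xh13 yh2 zh0) (kh xh10 yh13 zh19) (kh xh13 yh2 zh1) (kh xh10 yh13 zh21) (kh xh10 yh13 zh23) (kh xh11 yh20 zh17) (kh xh10 yh13 zh25) (kh xh10 yh13 zh27) (kh xh13 yh2 zh4) (kh xh10 yh13 zh30) (kh xh13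 yh2 zh6) (kh xh10 yh14 zh1) (kh xh10 yh17 zh4) (kh xh10 yh14 zh3) (kh xh10 yh17 zh6) (kh xh10 yh17 zh7) (kh xh10 yh14 zh10) (kh xh10 yh14 zh11) (kh xh11 yh20 zh30) (kh xh11 yh20 zh31)) (@D3.rec (fun _ => Pt) (kh xh10 yh14 zh18) (kh xh10 yh17 zh12) (kh xh10 yh17 zh14) (kh xh10 yh17 zh15) (kh xh11 yh11 zh10) (kh xh13 yh2 zh15) (kh xh10 yh14 zh26) (kh xh10 yh14 zh27) (kh xh10 yh14 zh28) (kh xh10 yh14 zh30) (kh xh11 yh12 zh27) (kh xh13 yh2 zh20) (kh xh10 yh19 zh18) (kh xh13 yh2 zh23) (kh xh10 yh15 zh2) (kh xh10 yh20 zh8) (kh xh13 yh2 zh25) (kh xh10 yh15 zh4) (kh xh13 yh2 zh27) (kh xh10 yh15 zh7) (kh xh10 yh19 zh30) (kh xh13 yh3 zh0) (kh xh10 yh15 zh10) (kh xh13 yh3 zh3) (kh xh11 yh21 zh24) (kh xh13 yh3 zh5) (kh xh10 yh15 zh12) (kh xh11 yh21 zh28)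 (kh xh11 yh21 zh27) (kh xh10 yh15 zh14) (kh xh13 yh3 zh10) (kh xh13 yh3 zh11))
def f_h_12 : D2 → D3 → Pt := @D2.rec (fun _ => D3 → Pt) (@D3.rec (fun _ => Pt) (kh xh10 yh15 zh16) (kh xh13 yh3 zh13) (kh xh10 yh15 zh18) (kh xh13 yh3 zh12) (kh xh11 yh19 zh27) (kh xh13 yh3 zh18) (kh xh13 yh3 zh19) (kh xh13 yh3 zh20) (kh xh10 yh15 zh24) (kh xh10 yh15 zh25) (kh xh10 yh15 zh29) (kh xh10 yh15 zh27) (kh xh13 yh3 zh21) (kh xh13 yh3 zh23) (kh xh13 yh3 zh24) (kh xh10 yh19 zh28) (kh xh10 yh16 zh25) (kh xh13 yh3 zh29) (kh xh13 yh3 zh30) (kh xh13 yh3 zh31) (kh xh10 yh16 zh5) (kh xh10 yh16 zh6) (kh xh10 yh16 zh10) (kh xh10 yh16 zh8) (kh xh13 yh4 zh0) (kh xh13 yh4 zh2) (kh xh13 yh4 zh3) (kh xh11 yh2 zh16) (kh xh11 yh2 zh18) (kh xh10 yh16 zh15) (kh xh10 yh16 zh16)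 (kh xh10 yh16 zh17)) (@D3.rec (fun _ => Pt) (kh xh10 yh16 zh22) (kh xh10 yh20 zh13) (kh xh10 yh16 zh23) (kh xh10 yh16 zh24) (kh xh13 yh4 zh9) (kh xh13 yh4 zh10) (kh xh13 yh4 zh8) (kh xh13 yh4 zh11) (kh xh10 yh17 zh0) (kh xh13 yh2 zh5) (kh xh10 yh17 zh2) (kh xh13 yh2 zh7) (kh xh13 yh2 zh8) (kh xh13 yh2 zh9) (kh xh13 yh2 zh10) (kh xh10 yh17 zh10) (kh xh13 yh2 zh13) (kh xh13 yh2 zh21) (kh xh13 yh4 zh17) (kh xh10 yh17 zh20) (kh xh13 yh4 zh21) (kh xh10 yh17 zh22) (kh xh10 yh17 zh27) (kh xh11 yh4 zh14) (kh xh11 yh4 zh13) (kh xh10 yh17 zh25) (kh xh10 yh19 zh8) (kh xh10 yh21 zh11) (kh xh10 yh21 zh10) (kh xh10 yh17 zh28) (kh xh10 yh19 zh4) (kh xh12 yh20 zh19)) (@D3.rec (fun _ => Pt) (kh xh10 yh18 zh3) (kh xh10 yh18 zh7) (kh xh10 yh18 zh5) (kh xh12 yh15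 zh17) (kh xh13 yh2 zh18) (kh xh10 yh18 zh13) (kh xh11 yh11 zh22) (kh xh10 yh18 zh18) (kh xh13 yh4 zh29) (kh xh10 yh18 zh20) (kh xh13 yh5 zh0) (kh xh13 yh5 zh1) (kh xh10 yh18 zh22) (kh xh13 yh3 zh17) (kh xh10 yh18 zh25) (kh xh12 yh21 zh11) (kh xh11 yh8 zh25) (kh xh11 yh8 zh24) (kh xh10 yh18 zh27) (kh xh13 yh5 zh8) (kh xh13 yh5 zh9) (kh xh10 yh18 zh29) (kh xh12 yh18 zh22) (kh xh13 yh4 zh24) (kh xh13 yh4 zh23) (kh xh10 yh19 zh11) (kh xh13 yh1 zh24) (kh xh10 yh19 zh17) (kh xh12 yh15 zh11) (kh xh12 yh11 zh3) (kh xh12 yh11 zh6) (kh xh12 yh20 zh31)) (@D3.rec (fun _ => Pt) (kh xh11 yh2 zh25) (kh xh10 yh19 zh23) (kh xh13 yh2 zh16) (kh xh13 yh2 zh17) (kh xh13 yh2 zh28) (kh xh13 yh2 zh29) (kh xh10 yh19 zh31) (kh xh10 yh20 zh0) (kh xh10 yh20 zh1) (kh xh10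 yh20 zh6) (kh xh13 yh4 zh1) (kh xh12 yh15 zh13) (kh xh12 yh3 zh13) (kh xh12 yh3 zh12) (kh xh12 yh11 zh9) (kh xh11 yh12 zh29) (kh xh11 yh12 zh30) (kh xh13 yh5 zh22) (kh xh11 yh13 zh0) (kh xh13 yh5 zh24) (kh xh10 yh20 zh18) (kh xh13 yh5 zh25) (kh xh13 yh5 zh26) (kh xh13 yh5 zh28) (kh xh10 yh20 zh21) (kh xh10 yh20 zh22) (kh xh13 yh5 zh31) (kh xh13 yh6 zh1) (kh xh10 yh20 zh25) (kh xh13 yh6 zh4) (kh xh10 yh20 zh26) (kh xh13 yh6 zh7)) (@D3.rec (fun _ => Pt) (kh xh13 yh6 zh8) (kh xh10 yh20 zh28) (kh xh11 yh14 zh9) (kh xh10 yh20 zh30) (kh xh10 yh21 zh9) (kh xh12 yh18 zh17) (kh xh12 yh18 zh16) (kh xh10 yh21 zh0) (kh xh13 yh6 zh16) (kh xh13 yh6 zh17) (kh xh10 yh21 zh2) (kh xh13 yh6 zh19) (kh xh10 yh21 zh4) (kh xh13 yh6 zh18) (kh xh11 yh14 zh28) (kh xh10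 yh21 zh7) (kh xh13 yh6 zh11) (kh xh13 yh6 zh12) (kh xh11 yh9 zh5) (kh xh11 yh9 zh6) (kh xh10 yh21 zh14) (kh xh10 yh21 zh18) (kh xh12 yh4 zh22) (kh xh12 yh4 zh23) (kh xh10 yh21 zh21) (kh xh10 yh21 zh30) (kh xh12 yh4 zh26) (kh xh10 yh21 zh31) (kh xh10 yh21 zh28) (kh xh10 yh21 zh29) (kh xh13 yh7 zh2) (kh xh13 yh6 zh29)) (@D3.rec (fun _ => Pt) (kh xh13 yh6 zh30) (kh xh13 yh7 zh1) (kh xh12 yh5 zh2) (kh xh12 yh5 zh3) (kh xh12 yh5 zh4) (kh xh12 yh5 zh5) (kh xh11 yh0 zh6) (kh xh13 yh7 zh6) (kh xh11 yh17 zh25) (kh xh13 yh7 zh10) (kh xh11 yh0 zh8) (kh xh11 yh17 zh28) (kh xh13 yh7 zh13) (kh xh11 yh0 zh10) (kh xh13 yh7 zh16) (kh xh11 yh0 zh12) (kh xh13 yh7 zh19) (kh xh13 yh7 zh20) (kh xh11 yh0 zh14) (kh xh13 yh7 zh11) (kh xh11 yh0 zh16) (kh xh12 yh5 zh21)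 (kh xh13 yh0 zh4) (kh xh13 yh0 zh3) (kh xh11 yh0 zh18) (kh xh13 yh7 zh28) (kh xh13 yh7 zh29) (kh xh11 yh0 zh20) (kh xh13 yh7 zh31) (kh xh11 yh0 zh22) (kh xh13 yh7 zh30) (kh xh11 yh19 zh14)) (@D3.rec (fun _ => Pt) (kh xh11 yh0 zh25) (kh xh11 yh1 zh7) (kh xh11 yh1 zh8) (kh xh13 yh8 zh8) (kh xh13 yh8 zh9) (kh xh13 yh8 zh10) (kh xh11 yh0 zh31) (kh xh11 yh1 zh0) (kh xh11 yh1 zh4) (kh xh11 yh1 zh2) (kh xh13 yh8 zh11) (kh xh13 yh8 zh13) (kh xh13 yh8 zh14) (kh xh13 yh8 zh4) (kh xh13 yh8 zh5) (kh xh13 yh8 zh6) (kh xh13 yh8 zh7) (kh xh11 yh1 zh9) (kh xh11 yh1 zh10) (kh xh11 yh4 zh15) (kh xh11 yh4 zh8) (kh xh11 yh3 zh0) (kh xh11 yh5 zh21) (kh xh12 yh6 zh23) (kh xh11 yh1 zh23) (kh xh11 yh1 zh24) (kh xh11 yh1 zh25) (kh xh11 yh1 zh26) (kh xh13 yh8 zh26) (kh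 xh13 yh8 zh27) (kh xh11 yh2 zh1) (kh xh13 yh8 zh28)) (@D3.rec (fun _ => Pt) (kh xh11 yh2 zh3) (kh xh12 yh7 zh1) (kh xh11 yh2 zh5) (kh xh11 yh2 zh6) (kh xh11 yh2 zh7) (kh xh11 yh2 zh12) (kh xh12 yh7 zh6) (kh xh11 yh2 zh13) (kh xh11 yh2 zh14) (kh xh13 yh9 zh0) (kh xh13 yh9 zh2) (kh xh13 yh9 zh3) (kh xh13 yh9 zh6) (kh xh13 yh9 zh7) (kh xh12 yh9 zh9) (kh xh12 yh13 zh14) (kh xh13 yh8 zh31) (kh xh11 yh2 zh23) (kh xh12 yh12 zh2) (kh xh11 yh7 zh25) (kh xh13 yh9 zh17) (kh xh11 yh8 zh16) (kh xh13 yh9 zh19) (kh xh11 yh3 zh5) (kh xh11 yh3 zh17) (kh xh13 yh9 zh21) (kh xh11 yh3 zh20) (kh xh11 yh3 zh21) (kh xh13 yh9 zh25) (kh xh13 yh9 zh26) (kh xh11 yh3 zh10) (kh xh11 yh3 zh25)) (@D3.rec (fun _ => Pt) (kh xh11 yh3 zh26) (kh xh13 yh9 zh30) (kh xh13 yh10 zh0)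 (kh xh11 yh3 zh29) (kh xh13 yh10 zh3) (kh xh11 yh3 zh13) (kh xh13 yh10 zh5) (kh xh11 yh3 zh15) (kh xh11 yh13 zh17) (kh xh11 yh12 zh2) (kh xh13 yh10 zh9) (kh xh13 yh10 zh10) (kh xh11 yh3 zh19) (kh xh11 yh16 zh20) (kh xh13 yh10 zh12) (kh xh13 yh10 zh13) (kh xh11 yh3 zh22) (kh xh11 yh3 zh23) (kh xh11 yh18 zh20) (kh xh13 yh10 zh18) (kh xh13 yh10 zh20) (kh xh11 yh14 zh6) (kh xh13 yh10 zh23) (kh xh11 yh3 zh27) (kh xh13 yh10 zh27) (kh xh11 yh3 zh28) (kh xh13 yh10 zh30) (kh xh11 yh14 zh0) (kh xh13 yh11 zh0) (kh xh11 yh3 zh30) (kh xh12 yh16 zh2) (kh xh13 yh11 zh3)) (@D3.rec (fun _ => Pt) (kh xh11 yh4 zh1) (kh xh11 yh4 zh12) (kh xh13 yh10 zh15) (kh xh13 yh4 zh20) (kh xh13 yh4 zh19) (kh xh11 yh4 zh4) (kh xh13 yh11 zh9) (kh xh13 yh11 zh10) (kh xh11 yh4 zh6)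 (kh xh12 yh7 zh14) (kh xh13 yh11 zh11) (kh xh13 yh11 zh4) (kh xh13 yh11 zh5) (kh xh11 yh4 zh17) (kh xh13 yh11 zh15) (kh xh11 yh4 zh19) (kh xh11 yh4 zh20) (kh xh13 yh11 zh18) (kh xh13 yh11 zh19) (kh xh11 yh4 zh24) (kh xh11 yh4 zh25) (kh xh12 yh9 zh21) (kh xh11 yh4 zh27) (kh xh12 yh9 zh23) (kh xh13 yh11 zh24) (kh xh11 yh4 zh30) (kh xh11 yh4 zh31) (kh xh13 yh11 zh26) (kh xh11 yh5 zh2) (kh xh11 yh5 zh23) (kh xh11 yh5 zh16) (kh xh13 yh11 zh28)) (@D3.rec (fun _ => Pt) (kh xh11 yh5 zh6) (kh xh13 yh11 zh30) (kh xh11 yh5 zh8) (kh xh11 yh5 zh25) (kh xh11 yh5 zh10) (kh xh11 yh5 zh26) (kh xh11 yh5 zh13) (kh xh11 yh5 zh17) (kh xh11 yh5 zh18) (kh xh13 yh12 zh1) (kh xh13 yh12 zh2) (kh xh13 yh11 zh27) (kh xh13 yh11 zh29) (kh xh13 yh11 zh31) (kh xh13 yh12 zh0)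 (kh xh12 yh10 zh15) (kh xh12 yh10 zh16) (kh xh11 yh5 zh30) (kh xh12 yh10 zh18) (kh xh12 yh10 zh19) (kh xh12 yh10 zh20) (kh xh12 yh10 zh21) (kh xh12 yh10 zh22) (kh xh11 yh6 zh6) (kh xh11 yh6 zh19) (kh xh11 yh6 zh10) (kh xh11 yh6 zh21) (kh xh11 yh6 zh20) (kh xh13 yh12 zh8) (kh xh12 yh10 zh31) (kh xh13 yh12 zh10) (kh xh12 yh10 zh29)) (@D3.rec (fun _ => Pt) (kh xh13 yh12 zh12) (kh xh11 yh6 zh25) (kh xh12 yh16 zh13) (kh xh12 yh2 zh29) (kh xh13 yh12 zh17) (kh xh13 yh9 zh23) (kh xh12 yh2 zh30) (kh xh13 yh12 zh22) (kh xh11 yh6 zh28) (kh xh12 yh3 zh14) (kh xh13 yh12 zh25) (kh xh11 yh6 zh30) (kh xh13 yh12 zh27) (kh xh11 yh7 zh2) (kh xh13 yh12 zh28) (kh xh13 yh9 zh14) (kh xh13 yh12 zh30) (kh xh11 yh7 zh5) (kh xh11 yh7 zh6) (kh xh13 yh13 zh1) (kh xh13 yh13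 zh3) (kh xh11 yh8 zh3) (kh xh13 yh13 zh6) (kh xh11 yh7 zh10) (kh xh13 yh13 zh10) (kh xh11 yh7 zh11) (kh xh13 yh13 zh13) (kh xh11 yh8 zh9) (kh xh13 yh13 zh15) (kh xh11 yh7 zh13) (kh xh13 yh12 zh23) (kh xh13 yh13 zh18)) (@D3.rec (fun _ => Pt) (kh xh11 yh7 zh16) (kh xh12 yh12 zh1) (kh xh12 yh7 zh18) (kh xh13 yh13 zh22) (kh xh11 yh7 zh19) (kh xh11 yh7 zh20) (kh xh13 yh13 zh25) (kh xh13 yh9 zh12) (kh xh13 yh13 zh27) (kh xh11 yh7 zh24) (kh xh13 yh9 zh15) (kh xh13 yh13 zh31) (kh xh11 yh13 zh29) (kh xh13 yh14 zh1) (kh xh11 yh7 zh27) (kh xh12 yh19 zh31) (kh xh13 yh14 zh4) (kh xh11 yh7 zh30) (kh xh11 yh8 zh23) (kh xh13 yh14 zh8) (kh xh11 yh19 zh1) (kh xh13 yh14 zh11) (kh xh11 yh8 zh1) (kh xh13 yh14 zh15) (kh xh11 yh8 zh2) (kh xh13 yh14 zh18) (kh xh11 yh18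 zh27) (kh xh13 yh14 zh20) (kh xh11 yh8 zh4) (kh xh12 yh20 zh5) (kh xh12 yh21 zh25) (kh xh12 yh21 zh24)) (@D3.rec (fun _ => Pt) (kh xh11 yh8 zh6) (kh xh13 yh14 zh26) (kh xh13 yh14 zh27) (kh xh11 yh8 zh8) (kh xh13 yh14 zh29) (kh xh11 yh8 zh10) (kh xh13 yh14 zh28) (kh xh12 yh20 zh13) (kh xh11 yh8 zh13) (kh xh11 yh9 zh3) (kh xh11 yh9 zh4) (kh xh13 yh4 zh28) (kh xh13 yh15 zh5) (kh xh11 yh8 zh17) (kh xh12 yh7 zh15) (kh xh11 yh8 zh19) (kh xh13 yh15 zh6) (kh xh13 yh14 zh5) (kh xh13 yh14 zh6) (kh xh13 yh15 zh12) (kh xh13 yh15 zh13) (kh xh13 yh15 zh14) (kh xh11 yh8 zh27) (kh xh11 yh8 zh28) (kh xh11 yh9 zh0) (kh xh11 yh8 zh30) (kh xh13 yh15 zh15) (kh xh13 yh15 zh17) (kh xh13 yh15 zh18) (kh xh13 yh15 zh2) (kh xh13 yh15 zh3) (kh xh11 yh9 zh9)) (@D3.rec (fun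 _ => Pt) (kh xh12 yh14 zh0) (kh xh11 yh9 zh12) (kh xh13 yh15 zh26) (kh xh11 yh9 zh14) (kh xh11 yh9 zh16) (kh xh11 yh12 zh19) (kh xh11 yh9 zh18) (kh xh12 yh14 zh7) (kh xh12 yh14 zh8) (kh xh12 yh14 zh9) (kh xh11 yh9 zh22) (kh xh11 yh9 zh23) (kh xh12 yh14 zh12) (kh xh11 yh9 zh26) (kh xh11 yh10 zh9) (kh xh11 yh10 zh10) (kh xh13 yh16 zh3) (kh xh11 yh9 zh30) (kh xh13 yh16 zh5) (kh xh11 yh10 zh1) (kh xh12 yh14 zh20) (kh xh11 yh10 zh3) (kh xh12 yh14 zh22) (kh xh12 yh14 zh23) (kh xh11 yh10 zh11) (kh xh11 yh10 zh12) (kh xh13 yh16 zh0) (kh xh13 yh16 zh1) (kh xh13 yh16 zh2) (kh xh13 yh16 zh12) (kh xh13 yh16 zh13) (kh xh12 yh14 zh31)) (@D3.rec (fun _ => Pt) (kh xh12 yh15 zh0) (kh xh12 yh15 zh1) (kh xh12 yh15 zh2) (kh xh11 yh11 zh3) (kh xh11 yh11 zh4) (kh xh11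 yh10 zh26) (kh xh12 yh15 zh6) (kh xh12 yh15 zh7) (kh xh12 yh15 zh8) (kh xh11 yh11 zh5) (kh xh11 yh11 zh6) (kh xh12 yh2 zh28) (kh xh13 yh16 zh15) (kh xh12 yh3 zh11) (kh xh11 yh11 zh9) (kh xh13 yh16 zh16) (kh xh11 yh11 zh11) (kh xh12 yh2 zh3) (kh xh13 yh16 zh19) (kh xh13 yh16 zh20) (kh xh11 yh11 zh15) (kh xh11 yh11 zh16) (kh xh13 yh16 zh21) (kh xh11 yh11 zh19) (kh xh12 yh15 zh24) (kh xh13 yh16 zh24) (kh xh11 yh11 zh28) (kh xh11 yh11 zh29) (kh xh13 yh16 zh26) (kh xh11 yh12 zh0) (kh xh13 yh16 zh28) (kh xh11 yh12 zh3)) (@D3.rec (fun _ => Pt) (kh xh13 yh16 zh30) (kh xh11 yh12 zh5) (kh xh12 yh8 zh30) (kh xh11 yh12 zh8) (kh xh11 yh12 zh10) (kh xh11 yh12 zh16) (kh xh11 yh12 zh12) (kh xh11 yh12 zh18) (kh xh13 yh17 zh1) (kh xh13 yh17 zh2) (kh xh13 yh17 zh3)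 (kh xh13 yh15 zh27) (kh xh11 yh12 zh23) (kh xh12 yh11 zh2) (kh xh13 yh17 zh8) (kh xh12 yh16 zh20) (kh xh12 yh20 zh28) (kh xh13 yh17 zh11) (kh xh13 yh17 zh12) (kh xh11 yh12 zh28) (kh xh12 yh16 zh15) (kh xh13 yh5 zh17) (kh xh13 yh17 zh17) (kh xh13 yh17 zh18) (kh xh13 yh5 zh20) (kh xh13 yh17 zh21) (kh xh11 yh12 zh31) (kh xh13 yh17 zh23) (kh xh11 yh13 zh1) (kh xh13 yh17 zh25) (kh xh11 yh13 zh4) (kh xh13 yh17 zh26)) (@D3.rec (fun _ => Pt) (kh xh11 yh13 zh6) (kh xh13 yh17 zh28) (kh xh13 yh12 zh20) (kh xh13 yh17 zh30) (kh xh11 yh13 zh10) (kh xh13 yh18 zh1) (kh xh11 yh13 zh11) (kh xh13 yh18 zh4) (kh xh13 yh18 zh5) (kh xh11 yh13 zh13) (kh xh13 yh17 zh22) (kh xh11 yh13 zh15) (kh xh12 yh20 zh0) (kh xh13 yh18 zh9) (kh xh11 yh13 zh18) (kh xh11 yh13 zh19) (kh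 xh13 yh12 zh18) (kh xh13 yh18 zh13) (kh xh11 yh13 zh22) (kh xh13 yh12 zh15) (kh xh11 yh13 zh23) (kh xh13 yh18 zh17) (kh xh13 yh18 zh18) (kh xh11 yh13 zh25) (kh xh13 yh0 zh19) (kh xh11 yh13 zh27) (kh xh13 yh18 zh21) (kh xh13 yh18 zh23) (kh xh11 yh13 zh30) (kh xh13 yh18 zh26) (kh xh11 yh13 zh31) (kh xh13 yh18 zh29)) (@D3.rec (fun _ => Pt) (kh xh13 yh18 zh30) (kh xh11 yh14 zh1) (kh xh13 yh6 zh2) (kh xh12 yh18 zh4) (kh xh12 yh18 zh3) (kh xh11 yh14 zh3) (kh xh13 yh19 zh5) (kh xh13 yh19 zh6) (kh xh11 yh14 zh5) (kh xh13 yh19 zh8) (kh xh11 yh14 zh7) (kh xh13 yh19 zh7) (kh xh13 yh6 zh10) (kh xh11 yh14 zh10) (kh xh11 yh14 zh30) (kh xh11 yh14 zh31) (kh xh12 yh4 zh6) (kh xh12 yh4 zh5) (kh xh11 yh14 zh13) (kh xh13 yh19 zh17) (kh xh13 yh19 zh18) (kh xh11 yh14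 zh15) (kh xh12 yh2 zh22) (kh xh13 yh19 zh19) (kh xh13 yh19 zh20) (kh xh13 yh19 zh21) (kh xh11 yh14 zh22) (kh xh11 yh14 zh23) (kh xh11 yh14 zh27) (kh xh11 yh14 zh25) (kh xh13 yh19 zh22) (kh xh13 yh19 zh24)) (@D3.rec (fun _ => Pt) (kh xh13 yh19 zh25) (kh xh13 yh19 zh13) (kh xh11 yh15 zh4) (kh xh12 yh19 zh3) (kh xh11 yh15 zh6) (kh xh11 yh15 zh7) (kh xh12 yh19 zh6) (kh xh12 yh19 zh7) (kh xh11 yh15 zh13) (kh xh11 yh15 zh28) (kh xh12 yh19 zh10) (kh xh11 yh15 zh29) (kh xh11 yh15 zh18) (kh xh11 yh15 zh30) (kh xh11 yh15 zh20) (kh xh12 yh19 zh15) (kh xh11 yh15 zh31) (kh xh11 yh16 zh0) (kh xh12 yh19 zh18) (kh xh13 yh20 zh1) (kh xh13 yh20 zh2) (kh xh13 yh20 zh4) (kh xh13 yh20 zh7) (kh xh12 yh19 zh23) (kh xh12 yh19 zh24) (kh xh13 yh20 zh10) (kh xh13 yh20 zh11)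 (kh xh11 yh16 zh13) (kh xh11 yh16 zh14) (kh xh11 yh16 zh16) (kh xh13 yh20 zh12) (kh xh12 yh12 zh15)) (@D3.rec (fun _ => Pt) (kh xh12 yh17 zh12) (kh xh11 yh16 zh19) (kh xh13 yh20 zh19) (kh xh13 yh20 zh20) (kh xh11 yh16 zh21) (kh xh12 yh12 zh29) (kh xh13 yh10 zh16) (kh xh11 yh16 zh23) (kh xh13 yh20 zh25) (kh xh13 yh20 zh26) (kh xh11 yh16 zh25) (kh xh11 yh16 zh26) (kh xh13 yh20 zh27) (kh xh12 yh13 zh7) (kh xh11 yh16 zh30) (kh xh13 yh20 zh31) (kh xh13 yh21 zh0) (kh xh11 yh17 zh0) (kh xh11 yh17 zh1) (kh xh12 yh1 zh31) (kh xh11 yh17 zh11) (kh xh12 yh20 zh21) (kh xh12 yh20 zh22) (kh xh11 yh17 zh16) (kh xh13 yh21 zh3) (kh xh13 yh21 zh4) (kh xh11 yh17 zh18) (kh xh11 yh17 zh19) (kh xh12 yh16 zh16) (kh xh13 yh21 zh9) (kh xh13 yh21 zh11) (kh xh12 yh2 zh31))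 (@D3.rec (fun _ => Pt) (kh xh13 yh21 zh14) (kh xh11 yh17 zh23) (kh xh13 yh21 zh17) (kh xh11 yh17 zh24) (kh xh13 yh21 zh20) (kh xh13 yh7 zh8) (kh xh13 yh21 zh22) (kh xh11 yh17 zh26) (kh xh11 yh18 zh14) (kh xh13 yh21 zh25) (kh xh11 yh17 zh29) (kh xh12 yh2 zh15) (kh xh13 yh12 zh13) (kh xh11 yh17 zh31) (kh xh13 yh21 zh5) (kh xh13 yh21 zh30) (kh xh14 yh0 zh0) (kh xh11 yh18 zh3) (kh xh14 yh0 zh3) (kh xh11 yh18 zh4) (kh xh14 yh0 zh6) (kh xh14 yh0 zh7) (kh xh11 yh18 zh6) (kh xh13 yh21 zh15) (kh xh12 yh12 zh31) (kh xh12 yh12 zh30) (kh xh11 yh18 zh8) (kh xh14 yh0 zh13) (kh xh14 yh0 zh14) (kh xh11 yh18 zh10) (kh xh14 yh0 zh16) (kh xh11 yh18 zh12))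
def f_h_13 : D2 → D3 → Pt := @D2.rec (fun _ => D3 → Pt) (@D3.rec (fun _ => Pt) (kh xh14 yh0 zh15) (kh xh13 yh21 zh24) (kh xh11 yh18 zh15) (kh xh12 yh5 zh23) (kh xh12 yh5 zh22) (kh xh11 yh18 zh17) (kh xh14 yh0 zh23) (kh xh14 yh0 zh24) (kh xh11 yh18 zh19) (kh xh14 yh0 zh26) (kh xh11 yh18 zh21) (kh xh14 yh0 zh25) (kh xh13 yh0 zh29) (kh xh11 yh18 zh24) (kh xh14 yh0 zh31) (kh xh11 yh18 zh26) (kh xh14 yh1 zh2) (kh xh14 yh1 zh3) (kh xh11 yh18 zh28) (kh xh12 yh17 zh24) (kh xh13 yh0 zh21) (kh xh13 yh0 zh20) (kh xh11 yh18 zh30) (kh xh14 yh1 zh9) (kh xh14 yh1 zh10) (kh xh11 yh19 zh0) (kh xh14 yh1 zh12) (kh xh11 yh19 zh2) (kh xh14 yh1 zh11) (kh xh13 yh0 zh12) (kh xh14 yh1 zh17) (kh xh14 yh1 zh18)) (@D3.rec (fun _ => Pt) (kh xh14 yh1 zh19) (kh xh11 yh19 zh8)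 (kh xh11 yh19 zh9) (kh xh11 yh19 zh13) (kh xh11 yh19 zh11) (kh xh14 yh1 zh20) (kh xh14 yh1 zh22) (kh xh14 yh1 zh23) (kh xh13 yh8 zh3) (kh xh11 yh20 zh7) (kh xh11 yh20 zh8) (kh xh14 yh1 zh31) (kh xh14 yh2 zh0) (kh xh14 yh2 zh1) (kh xh11 yh19 zh21) (kh xh11 yh19 zh22) (kh xh11 yh19 zh26) (kh xh11 yh19 zh24) (kh xh14 yh2 zh2) (kh xh14 yh2 zh4) (kh xh11 yh19 zh29) (kh xh11 yh19 zh30) (kh xh11 yh19 zh31) (kh xh11 yh20 zh4) (kh xh12 yh2 zh26) (kh xh11 yh20 zh5) (kh xh11 yh20 zh6) (kh xh14 yh2 zh8) (kh xh14 yh2 zh9) (kh xh14 yh2 zh12) (kh xh14 yh2 zh13) (kh xh14 yh2 zh7)) (@D3.rec (fun _ => Pt) (kh xh11 yh20 zh12) (kh xh11 yh20 zh14) (kh xh13 yh2 zh2) (kh xh13 yh2 zh3) (kh xh11 yh20 zh20) (kh xh12 yh1 zh9) (kh xh11 yh20 zh22) (kh xh12 yh1 zh11) (kh xh12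 yh1 zh12) (kh xh12 yh1 zh13) (kh xh12 yh1 zh14) (kh xh13 yh2 zh11) (kh xh13 yh2 zh12) (kh xh12 yh1 zh16) (kh xh14 yh2 zh24) (kh xh11 yh21 zh5) (kh xh12 yh3 zh2) (kh xh12 yh3 zh3) (kh xh12 yh2 zh4) (kh xh14 yh2 zh28) (kh xh11 yh21 zh11) (kh xh12 yh1 zh17) (kh xh14 yh2 zh11) (kh xh11 yh21 zh13) (kh xh14 yh2 zh31) (kh xh11 yh21 zh16) (kh xh13 yh2 zh26) (kh xh11 yh21 zh18) (kh xh12 yh3 zh4) (kh xh12 yh3 zh5) (kh xh13 yh2 zh31) (kh xh13 yh2 zh30)) (@D3.rec (fun _ => Pt) (kh xh11 yh21 zh21) (kh xh14 yh3 zh8) (kh xh14 yh3 zh9) (kh xh11 yh21 zh23) (kh xh14 yh3 zh11) (kh xh11 yh21 zh25) (kh xh14 yh3 zh10) (kh xh14 yh3 zh14) (kh xh14 yh3 zh15) (kh xh14 yh3 zh16) (kh xh11 yh21 zh30) (kh xh11 yh21 zh31) (kh xh12 yh0 zh3) (kh xh12 yh0 zh1) (kh xh14 yh3 zh17)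 (kh xh14 yh3 zh19) (kh xh14 yh3 zh20) (kh xh12 yh2 zh13) (kh xh12 yh0 zh5) (kh xh12 yh0 zh6) (kh xh12 yh0 zh7) (kh xh12 yh0 zh12) (kh xh13 yh3 zh22) (kh xh12 yh0 zh13) (kh xh12 yh0 zh14) (kh xh14 yh3 zh27) (kh xh14 yh3 zh29) (kh xh14 yh3 zh30) (kh xh14 yh3 zh1) (kh xh12 yh0 zh17) (kh xh12 yh0 zh18) (kh xh12 yh0 zh19)) (@D3.rec (fun _ => Pt) (kh xh12 yh0 zh24) (kh xh12 yh3 zh10) (kh xh12 yh0 zh25) (kh xh12 yh0 zh26) (kh xh14 yh4 zh1) (kh xh14 yh4 zh3) (kh xh14 yh4 zh4) (kh xh14 yh4 zh5) (kh xh12 yh1 zh6) (kh xh12 yh1 zh4) (kh xh12 yh1 zh5) (kh xh12 yh1 zh7) (kh xh14 yh2 zh19) (kh xh14 yh2 zh20) (kh xh14 yh2 zh21) (kh xh14 yh2 zh22) (kh xh14 yh2 zh23) (kh xh12 yh1 zh18) (kh xh13 yh17 zh24) (kh xh12 yh9 zh4) (kh xh12 yh9 zh3) (kh xh12 yh1 zh20) (kh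 xh14 yh2 zh3) (kh xh12 yh2 zh24) (kh xh12 yh2 zh23) (kh xh13 yh19 zh23) (kh xh13 yh20 zh13) (kh xh13 yh21 zh6) (kh xh12 yh13 zh11) (kh xh12 yh2 zh8) (kh xh14 yh4 zh15) (kh xh14 yh4 zh16)) (@D3.rec (fun _ => Pt) (kh xh12 yh2 zh10) (kh xh12 yh2 zh11) (kh xh14 yh4 zh17) (kh xh13 yh21 zh26) (kh xh13 yh21 zh27) (kh xh14 yh4 zh23) (kh xh14 yh4 zh24) (kh xh14 yh4 zh25) (kh xh12 yh2 zh19) (kh xh12 yh2 zh20) (kh xh14 yh2 zh10) (kh xh14 yh2 zh25) (kh xh14 yh2 zh26) (kh xh14 yh3 zh2) (kh xh14 yh3 zh3) (kh xh14 yh3 zh4) (kh xh14 yh4 zh2) (kh xh12 yh16 zh21) (kh xh14 yh4 zh30) (kh xh13 yh17 zh15) (kh xh12 yh16 zh24) (kh xh14 yh5 zh1) (kh xh12 yh3 zh17) (kh xh14 yh5 zh3) (kh xh12 yh3 zh19) (kh xh12 yh3 zh21) (kh xh12 yh3 zh22) (kh xh14 yh5 zh7) (kh xh12 yh3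 zh23) (kh xh14 yh5 zh2) (kh xh13 yh5 zh30) (kh xh12 yh3 zh26)) (@D3.rec (fun _ => Pt) (kh xh14 yh5 zh12) (kh xh12 yh3 zh27) (kh xh12 yh18 zh2) (kh xh13 yh9 zh28) (kh xh12 yh3 zh29) (kh xh14 yh5 zh18) (kh xh14 yh5 zh19) (kh xh12 yh3 zh31) (kh xh12 yh4 zh0) (kh xh14 yh5 zh20) (kh xh12 yh18 zh12) (kh xh12 yh4 zh16) (kh xh12 yh4 zh17) (kh xh14 yh5 zh27) (kh xh14 yh5 zh28) (kh xh14 yh5 zh29) (kh xh12 yh4 zh8) (kh xh12 yh4 zh9) (kh xh12 yh4 zh13) (kh xh12 yh4 zh11) (kh xh14 yh5 zh30) (kh xh14 yh6 zh0) (kh xh14 yh6 zh1) (kh xh14 yh5 zh25) (kh xh14 yh5 zh26) (kh xh13 yh6 zh25) (kh xh13 yh6 zh26) (kh xh13 yh6 zh27) (kh xh13 yh6 zh28) (kh xh12 yh4 zh31) (kh xh12 yh5 zh0) (kh xh13 yh6 zh31)) (@D3.rec (fun _ => Pt) (kh xh13 yh7 zh0) (kh xh12 yh5 zh1) (kh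 xh12 yh4 zh30) (kh xh14 yh6 zh13) (kh xh14 yh6 zh12) (kh xh13 yh17 zh13) (kh xh12 yh5 zh7) (kh xh14 yh6 zh18) (kh xh12 yh21 zh5) (kh xh14 yh6 zh20) (kh xh12 yh5 zh9) (kh xh12 yh5 zh19) (kh xh14 yh6 zh23) (kh xh12 yh5 zh12) (kh xh13 yh7 zh14) (kh xh13 yh9 zh11) (kh xh12 yh5 zh14) (kh xh14 yh6 zh28) (kh xh14 yh6 zh29) (kh xh12 yh5 zh16) (kh xh12 yh5 zh17) (kh xh14 yh6 zh30) (kh xh14 yh6 zh22) (kh xh13 yh7 zh23) (kh xh13 yh7 zh24) (kh xh14 yh7 zh4) (kh xh14 yh7 zh5) (kh xh14 yh7 zh6) (kh xh12 yh5 zh25) (kh xh12 yh5 zh26) (kh xh12 yh5 zh30) (kh xh12 yh5 zh28)) (@D3.rec (fun _ => Pt) (kh xh14 yh7 zh7) (kh xh14 yh7 zh9) (kh xh14 yh7 zh10) (kh xh13 yh1 zh8) (kh xh12 yh6 zh13) (kh xh12 yh6 zh14) (kh xh12 yh6 zh15) (kh xh12 yh6 zh16) (kh xh12 yh6 zh3)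 (kh xh12 yh6 zh4) (kh xh12 yh6 zh5) (kh xh12 yh6 zh10) (kh xh13 yh8 zh12) (kh xh12 yh6 zh11) (kh xh12 yh6 zh12) (kh xh14 yh7 zh23) (kh xh14 yh7 zh25) (kh xh14 yh7 zh26) (kh xh14 yh7 zh29) (kh xh14 yh7 zh30) (kh xh14 yh7 zh18) (kh xh14 yh7 zh19) (kh xh14 yh7 zh20) (kh xh14 yh7 zh21) (kh xh14 yh7 zh22) (kh xh14 yh8 zh6) (kh xh12 yh6 zh28) (kh xh12 yh6 zh29) (kh xh12 yh6 zh31) (kh xh13 yh8 zh29) (kh xh13 yh8 zh30) (kh xh12 yh7 zh16)) (@D3.rec (fun _ => Pt) (kh xh12 yh7 zh9) (kh xh13 yh9 zh1) (kh xh12 yh7 zh10) (kh xh12 yh7 zh11) (kh xh13 yh9 zh4) (kh xh13 yh9 zh5) (kh xh12 yh7 zh12) (kh xh12 yh7 zh13) (kh xh14 yh8 zh13) (kh xh14 yh8 zh16) (kh xh14 yh8 zh17) (kh xh13 yh7 zh15) (kh xh12 yh12 zh7) (kh xh14 yh8 zh21) (kh xh12 yh11 zh15) (kh xh12 yh12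 zh10) (kh xh14 yh8 zh24) (kh xh12 yh7 zh20) (kh xh14 yh8 zh26) (kh xh12 yh7 zh22) (kh xh14 yh8 zh28) (kh xh12 yh7 zh25) (kh xh14 yh8 zh29) (kh xh12 yh11 zh5) (kh xh14 yh8 zh31) (kh xh12 yh7 zh28) (kh xh12 yh7 zh29) (kh xh14 yh9 zh2) (kh xh13 yh6 zh3) (kh xh14 yh9 zh4) (kh xh12 yh8 zh1) (kh xh13 yh18 zh25)) (@D3.rec (fun _ => Pt) (kh xh12 yh8 zh2) (kh xh14 yh9 zh8) (kh xh14 yh9 zh9) (kh xh12 yh8 zh4) (kh xh14 yh8 zh25) (kh xh12 yh8 zh6) (kh xh13 yh10 zh6) (kh xh14 yh9 zh14) (kh xh14 yh9 zh15) (kh xh12 yh8 zh10) (kh xh12 yh8 zh11) (kh xh14 yh9 zh18) (kh xh12 yh8 zh14) (kh xh12 yh8 zh15) (kh xh13 yh16 zh27) (kh xh12 yh9 zh2) (kh xh12 yh20 zh6) (kh xh14 yh9 zh24) (kh xh12 yh8 zh19) (kh xh13 yh10 zh25) (kh xh12 yh8 zh20) (kh xh14 yh9 zh27) (kh xh14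 yh9 zh28) (kh xh12 yh8 zh22) (kh xh13 yh16 zh29) (kh xh13 yh10 zh19) (kh xh13 yh18 zh0) (kh xh12 yh8 zh24) (kh xh14 yh10 zh2) (kh xh14 yh10 zh3) (kh xh12 yh8 zh26) (kh xh14 yh10 zh5)) (@D3.rec (fun _ => Pt) (kh xh12 yh8 zh28) (kh xh14 yh10 zh4) (kh xh13 yh17 zh0) (kh xh12 yh8 zh31) (kh xh12 yh9 zh11) (kh xh12 yh9 zh12) (kh xh14 yh9 zh22) (kh xh14 yh10 zh12) (kh xh14 yh10 zh13) (kh xh12 yh9 zh6) (kh xh12 yh9 zh7) (kh xh12 yh9 zh10) (kh xh14 yh10 zh15) (kh xh14 yh10 zh10) (kh xh14 yh10 zh11) (kh xh12 yh9 zh14) (kh xh13 yh11 zh16) (kh xh13 yh11 zh17) (kh xh12 yh9 zh17) (kh xh12 yh9 zh18) (kh xh13 yh11 zh20) (kh xh13 yh11 zh21) (kh xh13 yh11 zh22) (kh xh13 yh11 zh23) (kh xh12 yh9 zh24) (kh xh13 yh11 zh25) (kh xh12 yh9 zh27) (kh xh12 yh10 zh11) (kh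 xh12 yh9 zh31) (kh xh12 yh10 zh12) (kh xh12 yh10 zh1) (kh xh12 yh10 zh13)) (@D3.rec (fun _ => Pt) (kh xh12 yh10 zh14) (kh xh12 yh10 zh9) (kh xh12 yh10 zh10) (kh xh14 yh10 zh26) (kh xh14 yh10 zh23) (kh xh14 yh10 zh24) (kh xh14 yh10 zh25) (kh xh13 yh12 zh7) (kh xh12 yh10 zh28) (kh xh14 yh10 zh28) (kh xh12 yh10 zh30) (kh xh14 yh10 zh29) (kh xh12 yh11 zh0) (kh xh12 yh21 zh12) (kh xh14 yh11 zh0) (kh xh12 yh17 zh19) (kh xh14 yh11 zh2) (kh xh12 yh11 zh4) (kh xh12 yh17 zh16) (kh xh14 yh11 zh5) (kh xh12 yh17 zh2) (kh xh14 yh11 zh7) (kh xh12 yh11 zh7) (kh xh12 yh11 zh30) (kh xh14 yh11 zh10) (kh xh12 yh11 zh10) (kh xh13 yh12 zh26) (kh xh12 yh11 zh12) (kh xh12 yh11 zh14) (kh xh14 yh11 zh15) (kh xh12 yh11 zh16) (kh xh14 yh10 zh30)) (@D3.rec (fun _ => Pt) (kh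 xh13 yh13 zh0) (kh xh12 yh11 zh19) (kh xh14 yh0 zh30) (kh xh12 yh11 zh20) (kh xh14 yh11 zh22) (kh xh14 yh11 zh23) (kh xh12 yh11 zh22) (kh xh14 yh11 zh3) (kh xh13 yh13 zh9) (kh xh13 yh13 zh8) (kh xh12 yh11 zh24) (kh xh14 yh11 zh29) (kh xh14 yh11 zh30) (kh xh12 yh11 zh26) (kh xh14 yh12 zh0) (kh xh12 yh11 zh28) (kh xh14 yh11 zh31) (kh xh14 yh11 zh9) (kh xh12 yh11 zh31) (kh xh13 yh13 zh19) (kh xh13 yh13 zh20) (kh xh14 yh12 zh7) (kh xh12 yh12 zh3) (kh xh13 yh13 zh28) (kh xh13 yh13 zh24) (kh xh12 yh12 zh6) (kh xh14 yh12 zh12) (kh xh12 yh12 zh8) (kh xh13 yh13 zh23) (kh xh13 yh21 zh16) (kh xh14 yh12 zh16) (kh xh12 yh12 zh11)) (@D3.rec (fun _ => Pt) (kh xh14 yh12 zh18) (kh xh12 yh12 zh13) (kh xh14 yh12 zh17) (kh xh13 yh20 zh16) (kh xh12 yh12 zh16) (kh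 xh12 yh13 zh17) (kh xh12 yh13 zh18) (kh xh13 yh14 zh13) (kh xh12 yh12 zh19) (kh xh14 yh12 zh28) (kh xh14 yh12 zh29) (kh xh12 yh12 zh21) (kh xh13 yh18 zh10) (kh xh13 yh14 zh7) (kh xh14 yh0 zh2) (kh xh12 yh12 zh23) (kh xh14 yh13 zh3) (kh xh14 yh13 zh4) (kh xh12 yh12 zh25) (kh xh14 yh13 zh6) (kh xh12 yh12 zh27) (kh xh14 yh13 zh5) (kh xh13 yh20 zh22) (kh xh14 yh13 zh11) (kh xh14 yh13 zh12) (kh xh14 yh13 zh13) (kh xh12 yh13 zh1) (kh xh12 yh13 zh2) (kh xh12 yh13 zh6) (kh xh12 yh13 zh4) (kh xh14 yh13 zh14) (kh xh14 yh13 zh16)) (@D3.rec (fun _ => Pt) (kh xh14 yh13 zh17) (kh xh13 yh20 zh30) (kh xh12 yh13 zh29) (kh xh12 yh13 zh30) (kh xh14 yh13 zh27) (kh xh12 yh13 zh12) (kh xh12 yh13 zh16) (kh xh14 yh13 zh28) (kh xh14 yh13 zh29) (kh xh14 yh12 zh23) (kh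 xh14 yh12 zh24) (kh xh14 yh12 zh25) (kh xh12 yh13 zh19) (kh xh12 yh13 zh20) (kh xh12 yh13 zh21) (kh xh12 yh13 zh26) (kh xh13 yh15 zh16) (kh xh12 yh13 zh27) (kh xh12 yh13 zh28) (kh xh14 yh14 zh3) (kh xh14 yh14 zh5) (kh xh14 yh14 zh8) (kh xh14 yh14 zh9) (kh xh14 yh13 zh25) (kh xh14 yh13 zh26) (kh xh13 yh15 zh25) (kh xh12 yh14 zh2) (kh xh12 yh16 zh11) (kh xh13 yh15 zh28) (kh xh13 yh15 zh29) (kh xh13 yh15 zh30) (kh xh13 yh15 zh31)) (@D3.rec (fun _ => Pt) (kh xh12 yh14 zh26) (kh xh12 yh14 zh27) (kh xh12 yh14 zh28) (kh xh12 yh14 zh16) (kh xh13 yh16 zh4) (kh xh12 yh14 zh18) (kh xh13 yh16 zh6) (kh xh13 yh16 zh7) (kh xh13 yh16 zh8) (kh xh13 yh16 zh9) (kh xh13 yh16 zh10) (kh xh13 yh16 zh11) (kh xh12 yh14 zh29) (kh xh12 yh14 zh30) (kh xh14 yh14 zh19) (kh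 xh12 yh15 zh12) (kh xh12 yh15 zh15) (kh xh13 yh16 zh17) (kh xh14 yh14 zh25) (kh xh12 yh15 zh18) (kh xh12 yh15 zh19) (kh xh12 yh15 zh22) (kh xh13 yh16 zh22) (kh xh13 yh16 zh23) (kh xh12 yh15 zh25) (kh xh14 yh14 zh28) (kh xh12 yh15 zh28) (kh xh13 yh10 zh14) (kh xh12 yh15 zh30) (kh xh13 yh10 zh24) (kh xh12 yh16 zh0) (kh xh14 yh15 zh3)) (@D3.rec (fun _ => Pt) (kh xh13 yh11 zh2) (kh xh12 yh16 zh8) (kh xh12 yh16 zh9) (kh xh12 yh16 zh10) (kh xh14 yh15 zh6) (kh xh14 yh15 zh7) (kh xh14 yh14 zh14) (kh xh14 yh15 zh9) (kh xh12 yh16 zh14) (kh xh14 yh15 zh10) (kh xh14 yh15 zh11) (kh xh12 yh16 zh17) (kh xh12 yh16 zh18) (kh xh13 yh7 zh5) (kh xh14 yh15 zh14) (kh xh13 yh5 zh19) (kh xh14 yh15 zh16) (kh xh12 yh16 zh22) (kh xh12 yh16 zh23) (kh xh14 yh15 zh19) (kh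 xh14 yh15 zh20) (kh xh12 yh16 zh25) (kh xh12 yh17 zh10) (kh xh12 yh16 zh27) (kh xh13 yh4 zh18) (kh xh12 yh16 zh29) (kh xh12 yh16 zh31) (kh xh14 yh15 zh12) (kh xh12 yh17 zh1) (kh xh14 yh15 zh29) (kh xh12 yh17 zh3) (kh xh14 yh15 zh17)) (@D3.rec (fun _ => Pt) (kh xh13 yh10 zh26) (kh xh12 yh17 zh5) (kh xh14 yh16 zh3) (kh xh14 yh16 zh4) (kh xh12 yh17 zh7) (kh xh12 yh17 zh8) (kh xh14 yh16 zh5) (kh xh14 yh15 zh22) (kh xh14 yh16 zh9) (kh xh12 yh17 zh13) (kh xh13 yh14 zh12) (kh xh13 yh18 zh11) (kh xh14 yh16 zh13) (kh xh12 yh17 zh17) (kh xh13 yh18 zh24) (kh xh14 yh16 zh17) (kh xh14 yh16 zh18) (kh xh12 yh17 zh21) (kh xh12 yh17 zh22) (kh xh14 yh16 zh19) (kh xh14 yh1 zh5) (kh xh12 yh17 zh26) (kh xh14 yh16 zh24) (kh xh12 yh17 zh27) (kh xh13 yh18 zh14) (kh xh13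 yh9 zh31) (kh xh12 yh17 zh29) (kh xh14 yh16 zh30) (kh xh14 yh16 zh31) (kh xh12 yh17 zh31) (kh xh12 yh18 zh0) (kh xh14 yh17 zh0)) (@D3.rec (fun _ => Pt) (kh xh14 yh5 zh14) (kh xh14 yh5 zh15) (kh xh14 yh17 zh6) (kh xh14 yh17 zh7) (kh xh14 yh17 zh8) (kh xh12 yh18 zh6) (kh xh12 yh18 zh7) (kh xh12 yh18 zh11) (kh xh12 yh18 zh9) (kh xh14 yh17 zh9) (kh xh14 yh17 zh11) (kh xh14 yh17 zh12) (kh xh14 yh5 zh24) (kh xh12 yh19 zh1) (kh xh14 yh17 zh19) (kh xh14 yh17 zh20) (kh xh14 yh17 zh21) (kh xh12 yh18 zh19) (kh xh12 yh18 zh20) (kh xh12 yh18 zh23) (kh xh12 yh18 zh24) (kh xh12 yh18 zh25) (kh xh12 yh18 zh30) (kh xh13 yh4 zh25) (kh xh12 yh18 zh31) (kh xh12 yh19 zh0) (kh xh14 yh17 zh22) (kh xh14 yh17 zh23) (kh xh14 yh17 zh26) (kh xh13 yh19 zh29) (kh xh13 yh19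 zh30) (kh xh13 yh19 zh31)) (@D3.rec (fun _ => Pt) (kh xh13 yh20 zh0) (kh xh12 yh19 zh19) (kh xh12 yh19 zh20) (kh xh13 yh20 zh3) (kh xh12 yh19 zh21) (kh xh13 yh20 zh5) (kh xh13 yh20 zh6) (kh xh12 yh19 zh22) (kh xh14 yh17 zh30) (kh xh14 yh18 zh3) (kh xh12 yh19 zh25) (kh xh12 yh19 zh26) (kh xh12 yh19 zh30) (kh xh13 yh4 zh26) (kh xh14 yh18 zh4) (kh xh14 yh18 zh6) (kh xh13 yh14 zh3) (kh xh14 yh18 zh11) (kh xh14 yh18 zh12) (kh xh12 yh20 zh2) (kh xh12 yh20 zh3) (kh xh14 yh18 zh13) (kh xh13 yh14 zh22) (kh xh14 yh18 zh18) (kh xh14 yh18 zh19) (kh xh12 yh20 zh8) (kh xh12 yh20 zh9) (kh xh12 yh20 zh12) (kh xh14 yh18 zh20) (kh xh14 yh18 zh22) (kh xh13 yh15 zh1) (kh xh12 yh20 zh15)) (@D3.rec (fun _ => Pt) (kh xh12 yh20 zh16) (kh xh13 yh21 zh1) (kh xh13 yh21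 zh2) (kh xh12 yh20 zh24) (kh xh12 yh20 zh25) (kh xh12 yh21 zh14) (kh xh13 yh4 zh27) (kh xh13 yh21 zh10) (kh xh14 yh19 zh0) (kh xh12 yh20 zh29) (kh xh13 yh21 zh7) (kh xh12 yh20 zh30) (kh xh14 yh19 zh4) (kh xh14 yh19 zh5) (kh xh12 yh21 zh0) (kh xh12 yh21 zh23) (kh xh13 yh13 zh29) (kh xh12 yh21 zh2) (kh xh14 yh19 zh10) (kh xh14 yh19 zh11) (kh xh12 yh21 zh4) (kh xh14 yh19 zh13) (kh xh12 yh21 zh6) (kh xh14 yh19 zh12) (kh xh13 yh0 zh1) (kh xh12 yh21 zh9) (kh xh13 yh5 zh3) (kh xh13 yh5 zh4) (kh xh14 yh17 zh24) (kh xh14 yh18 zh29) (kh xh12 yh21 zh15) (kh xh14 yh19 zh24))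
def f_h_14 : D2 → D3 → Pt := @D2.rec (fun _ => D3 → Pt) (@D3.rec (fun _ => Pt) (kh xh12 yh21 zh16) (kh xh14 yh19 zh1) (kh xh13 yh14 zh14) (kh xh12 yh21 zh18) (kh xh14 yh19 zh29) (kh xh14 yh19 zh30) (kh xh12 yh21 zh20) (kh xh12 yh21 zh21) (kh xh14 yh19 zh31) (kh xh14 yh19 zh7) (kh xh14 yh20 zh4) (kh xh14 yh20 zh5) (kh xh14 yh20 zh6) (kh xh12 yh21 zh27) (kh xh12 yh21 zh28) (kh xh13 yh0 zh0) (kh xh12 yh21 zh30) (kh xh14 yh20 zh7) (kh xh14 yh20 zh9) (kh xh14 yh19 zh17) (kh xh14 yh20 zh14) (kh xh14 yh20 zh15) (kh xh14 yh20 zh16) (kh xh13 yh0 zh6) (kh xh13 yh0 zh7) (kh xh13 yh0 zh11) (kh xh13 yh0 zh9) (kh xh14 yh20 zh17) (kh xh14 yh20 zh19) (kh xh14 yh1 zh16) (kh xh13 yh13 zh2) (kh xh13 yh0 zh14)) (@D3.rec (fun _ => Pt) (kh xh14 yh20 zh26) (kh xh14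 yh20 zh27) (kh xh13 yh0 zh16) (kh xh13 yh0 zh17) (kh xh14 yh20 zh28) (kh xh13 yh18 zh20) (kh xh14 yh21 zh1) (kh xh14 yh21 zh2) (kh xh14 yh21 zh3) (kh xh13 yh0 zh23) (kh xh13 yh0 zh24) (kh xh13 yh0 zh28) (kh xh13 yh0 zh26) (kh xh14 yh21 zh4) (kh xh14 yh21 zh6) (kh xh14 yh21 zh7) (kh xh14 yh0 zh29) (kh xh13 yh0 zh30) (kh xh13 yh0 zh31) (kh xh13 yh1 zh0) (kh xh13 yh1 zh5) (kh xh14 yh20 zh8) (kh xh13 yh1 zh6) (kh xh13 yh1 zh7) (kh xh14 yh21 zh16) (kh xh14 yh21 zh18) (kh xh14 yh21 zh19) (kh xh14 yh21 zh22) (kh xh14 yh21 zh23) (kh xh14 yh21 zh24) (kh xh14 yh7 zh17) (kh xh13 yh1 zh11)) (@D3.rec (fun _ => Pt) (kh xh13 yh1 zh12) (kh xh13 yh1 zh13) (kh xh13 yh1 zh18) (kh xh13 yh4 zh22) (kh xh13 yh1 zh19) (kh xh15 yh0 zh0) (kh xh15 yh0 zh2) (kh xh13 yh1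 zh31) (kh xh13 yh1 zh27) (kh xh13 yh1 zh28) (kh xh13 yh5 zh10) (kh xh13 yh2 zh22) (kh xh13 yh1 zh29) (kh xh13 yh1 zh30) (kh xh15 yh0 zh4) (kh xh14 yh2 zh15) (kh xh14 yh2 zh16) (kh xh14 yh2 zh17) (kh xh14 yh2 zh18) (kh xh13 yh4 zh12) (kh xh13 yh4 zh13) (kh xh13 yh4 zh14) (kh xh13 yh4 zh15) (kh xh13 yh4 zh16) (kh xh13 yh2 zh14) (kh xh13 yh5 zh11) (kh xh13 yh5 zh12) (kh xh14 yh17 zh25) (kh xh13 yh2 zh19) (kh xh15 yh0 zh3) (kh xh14 yh2 zh30) (kh xh13 yh2 zh24)) (@D3.rec (fun _ => Pt) (kh xh14 yh3 zh0) (kh xh13 yh3 zh28) (kh xh13 yh5 zh13) (kh xh13 yh5 zh14) (kh xh13 yh5 zh15) (kh xh15 yh0 zh16) (kh xh15 yh0 zh17) (kh xh15 yh0 zh18) (kh xh13 yh3 zh1) (kh xh13 yh3 zh2) (kh xh13 yh3 zh6) (kh xh13 yh3 zh4) (kh xh15 yh0 zh19) (kh xh15 yh0 zh21) (kh xh13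 yh3 zh7) (kh xh13 yh3 zh8) (kh xh13 yh3 zh9) (kh xh13 yh3 zh14) (kh xh14 yh3 zh18) (kh xh13 yh3 zh15) (kh xh13 yh3 zh16) (kh xh15 yh0 zh26) (kh xh15 yh0 zh27) (kh xh15 yh0 zh30) (kh xh15 yh0 zh31) (kh xh14 yh19 zh18) (kh xh14 yh3 zh26) (kh xh13 yh3 zh25) (kh xh14 yh3 zh28) (kh xh13 yh3 zh26) (kh xh13 yh3 zh27) (kh xh15 yh1 zh2)) (@D3.rec (fun _ => Pt) (kh xh14 yh4 zh0) (kh xh13 yh4 zh4) (kh xh13 yh5 zh16) (kh xh13 yh4 zh5) (kh xh13 yh4 zh6) (kh xh13 yh4 zh7) (kh xh15 yh0 zh9) (kh xh15 yh0 zh10) (kh xh14 yh15 zh23) (kh xh14 yh15 zh24) (kh xh15 yh0 zh1) (kh xh14 yh18 zh7) (kh xh14 yh18 zh30) (kh xh15 yh1 zh7) (kh xh15 yh1 zh8) (kh xh13 yh4 zh30) (kh xh13 yh4 zh31) (kh xh13 yh5 zh2) (kh xh15 yh1 zh9) (kh xh15 yh1 zh11) (kh xh14 yh19 zh19) (kh xh14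 yh19 zh20) (kh xh14 yh19 zh21) (kh xh13 yh5 zh5) (kh xh13 yh5 zh6) (kh xh13 yh5 zh7) (kh xh15 yh0 zh11) (kh xh15 yh0 zh14) (kh xh15 yh0 zh15) (kh xh15 yh1 zh20) (kh xh13 yh5 zh18) (kh xh15 yh1 zh22)) (@D3.rec (fun _ => Pt) (kh xh15 yh1 zh23) (kh xh13 yh5 zh21) (kh xh13 yh5 zh29) (kh xh13 yh5 zh23) (kh xh14 yh5 zh4) (kh xh15 yh1 zh21) (kh xh15 yh1 zh30) (kh xh13 yh5 zh27) (kh xh15 yh1 zh31) (kh xh15 yh1 zh25) (kh xh14 yh5 zh10) (kh xh15 yh2 zh4) (kh xh13 yh6 zh0) (kh xh15 yh2 zh5) (kh xh13 yh19 zh0) (kh xh13 yh19 zh1) (kh xh15 yh2 zh10) (kh xh15 yh2 zh11) (kh xh13 yh6 zh5) (kh xh13 yh6 zh6) (kh xh13 yh6 zh9) (kh xh15 yh2 zh12) (kh xh15 yh2 zh14) (kh xh15 yh2 zh15) (kh xh13 yh19 zh12) (kh xh13 yh6 zh23) (kh xh13 yh6 zh24) (kh xh13 yh6 zh13) (kh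 xh13 yh6 zh14) (kh xh13 yh6 zh15) (kh xh13 yh6 zh20) (kh xh14 yh5 zh31)) (@D3.rec (fun _ => Pt) (kh xh13 yh6 zh21) (kh xh13 yh6 zh22) (kh xh15 yh2 zh23) (kh xh15 yh2 zh25) (kh xh15 yh2 zh28) (kh xh15 yh2 zh29) (kh xh15 yh2 zh22) (kh xh14 yh6 zh7) (kh xh14 yh6 zh8) (kh xh14 yh6 zh9) (kh xh14 yh6 zh10) (kh xh14 yh6 zh11) (kh xh13 yh7 zh4) (kh xh13 yh7 zh3) (kh xh14 yh6 zh14) (kh xh15 yh3 zh4) (kh xh15 yh3 zh5) (kh xh15 yh3 zh6) (kh xh13 yh7 zh7) (kh xh15 yh3 zh8) (kh xh13 yh7 zh9) (kh xh15 yh3 zh7) (kh xh13 yh7 zh22) (kh xh13 yh7 zh12) (kh xh14 yh6 zh24) (kh xh14 yh6 zh25) (kh xh15 yh3 zh17) (kh xh15 yh3 zh18) (kh xh13 yh7 zh17) (kh xh13 yh7 zh18) (kh xh13 yh7 zh21) (kh xh15 yh3 zh19)) (@D3.rec (fun _ => Pt) (kh xh15 yh3 zh21) (kh xh15 yh3 zh22)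 (kh xh15 yh3 zh12) (kh xh14 yh7 zh3) (kh xh13 yh7 zh25) (kh xh13 yh7 zh26) (kh xh13 yh7 zh27) (kh xh13 yh8 zh0) (kh xh15 yh3 zh20) (kh xh13 yh8 zh1) (kh xh13 yh8 zh2) (kh xh15 yh3 zh29) (kh xh15 yh3 zh31) (kh xh15 yh4 zh0) (kh xh15 yh4 zh3) (kh xh15 yh4 zh4) (kh xh15 yh4 zh5) (kh xh14 yh1 zh30) (kh xh13 yh8 zh20) (kh xh13 yh8 zh21) (kh xh13 yh8 zh22) (kh xh13 yh8 zh23) (kh xh13 yh8 zh24) (kh xh13 yh8 zh15) (kh xh14 yh7 zh24) (kh xh13 yh8 zh16) (kh xh13 yh8 zh17) (kh xh14 yh7 zh27) (kh xh14 yh7 zh28) (kh xh13 yh8 zh18) (kh xh13 yh8 zh19) (kh xh15 yh4 zh17)) (@D3.rec (fun _ => Pt) (kh xh15 yh4 zh20) (kh xh15 yh4 zh21) (kh xh15 yh4 zh24) (kh xh15 yh4 zh25) (kh xh15 yh4 zh28) (kh xh15 yh4 zh16) (kh xh13 yh8 zh25) (kh xh14 yh8 zh7) (kh xh14 yh8 zh8)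 (kh xh14 yh8 zh9) (kh xh14 yh8 zh10) (kh xh14 yh8 zh11) (kh xh14 yh8 zh12) (kh xh13 yh9 zh8) (kh xh14 yh8 zh14) (kh xh14 yh8 zh15) (kh xh13 yh9 zh9) (kh xh13 yh9 zh10) (kh xh15 yh5 zh2) (kh xh15 yh5 zh3) (kh xh15 yh5 zh4) (kh xh13 yh9 zh13) (kh xh15 yh5 zh6) (kh xh15 yh5 zh7) (kh xh13 yh9 zh16) (kh xh13 yh10 zh4) (kh xh13 yh9 zh18) (kh xh14 yh8 zh27) (kh xh13 yh9 zh20) (kh xh13 yh9 zh22) (kh xh15 yh5 zh14) (kh xh13 yh9 zh24)) (@D3.rec (fun _ => Pt) (kh xh14 yh18 zh21) (kh xh14 yh9 zh1) (kh xh13 yh9 zh27) (kh xh15 yh5 zh19) (kh xh13 yh9 zh29) (kh xh15 yh5 zh5) (kh xh15 yh5 zh23) (kh xh15 yh5 zh24) (kh xh13 yh10 zh1) (kh xh13 yh10 zh2) (kh xh15 yh5 zh25) (kh xh15 yh5 zh9) (kh xh14 yh9 zh12) (kh xh14 yh9 zh13) (kh xh13 yh10 zh7) (kh xh13 yh10 zh8)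 (kh xh14 yh12 zh11) (kh xh14 yh9 zh17) (kh xh13 yh10 zh11) (kh xh14 yh14 zh30) (kh xh14 yh18 zh5) (kh xh14 yh14 zh31) (kh xh13 yh11 zh6) (kh xh15 yh6 zh10) (kh xh13 yh10 zh17) (kh xh14 yh15 zh0) (kh xh15 yh6 zh14) (kh xh13 yh10 zh21) (kh xh13 yh10 zh22) (kh xh15 yh6 zh15) (kh xh14 yh15 zh1) (kh xh14 yh15 zh2)) (@D3.rec (fun _ => Pt) (kh xh15 yh6 zh20) (kh xh15 yh6 zh21) (kh xh13 yh10 zh28) (kh xh13 yh10 zh29) (kh xh13 yh11 zh1) (kh xh13 yh10 zh31) (kh xh15 yh6 zh22) (kh xh15 yh6 zh24) (kh xh15 yh6 zh25) (kh xh14 yh15 zh5) (kh xh13 yh11 zh13) (kh xh13 yh11 zh14) (kh xh13 yh11 zh7) (kh xh13 yh11 zh8) (kh xh14 yh10 zh14) (kh xh13 yh11 zh12) (kh xh15 yh7 zh3) (kh xh15 yh7 zh1) (kh xh14 yh10 zh18) (kh xh14 yh10 zh19) (kh xh14 yh10 zh20) (kh xh14 yh10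 zh21) (kh xh14 yh10 zh22) (kh xh13 yh12 zh4) (kh xh13 yh12 zh5) (kh xh13 yh12 zh6) (kh xh13 yh12 zh3) (kh xh15 yh7 zh9) (kh xh13 yh12 zh9) (kh xh13 yh12 zh11) (kh xh13 yh12 zh31) (kh xh15 yh7 zh13)) (@D3.rec (fun _ => Pt) (kh xh13 yh12 zh14) (kh xh15 yh7 zh15) (kh xh13 yh12 zh16) (kh xh13 yh13 zh7) (kh xh15 yh7 zh18) (kh xh13 yh12 zh19) (kh xh15 yh7 zh20) (kh xh13 yh12 zh21) (kh xh15 yh7 zh19) (kh xh13 yh13 zh17) (kh xh13 yh12 zh24) (kh xh14 yh11 zh11) (kh xh14 yh11 zh12) (kh xh15 yh7 zh10) (kh xh15 yh7 zh11) (kh xh13 yh12 zh29) (kh xh15 yh7 zh30) (kh xh15 yh7 zh12) (kh xh14 yh11 zh18) (kh xh15 yh7 zh14) (kh xh15 yh8 zh4) (kh xh15 yh8 zh5) (kh xh13 yh13 zh4) (kh xh13 yh13 zh5) (kh xh15 yh8 zh6) (kh xh15 yh7 zh17) (kh xh15 yh8 zh11) (kh xh15 yh8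 zh12) (kh xh15 yh8 zh13) (kh xh13 yh13 zh11) (kh xh13 yh13 zh12) (kh xh13 yh13 zh16)) (@D3.rec (fun _ => Pt) (kh xh13 yh13 zh14) (kh xh15 yh8 zh14) (kh xh15 yh8 zh16) (kh xh15 yh8 zh17) (kh xh15 yh7 zh24) (kh xh14 yh12 zh5) (kh xh14 yh12 zh6) (kh xh13 yh13 zh21) (kh xh15 yh8 zh27) (kh xh14 yh12 zh14) (kh xh14 yh12 zh10) (kh xh14 yh9 zh16) (kh xh13 yh13 zh26) (kh xh15 yh9 zh0) (kh xh14 yh12 zh9) (kh xh15 yh9 zh4) (kh xh13 yh13 zh30) (kh xh13 yh14 zh2) (kh xh13 yh14 zh0) (kh xh15 yh9 zh5) (kh xh15 yh9 zh6) (kh xh15 yh9 zh7) (kh xh14 yh18 zh10) (kh xh13 yh15 zh9) (kh xh13 yh15 zh10) (kh xh13 yh15 zh11) (kh xh15 yh9 zh17) (kh xh15 yh9 zh18) (kh xh13 yh14 zh9) (kh xh13 yh14 zh10) (kh xh15 yh9 zh19) (kh xh14 yh16 zh11)) (@D3.rec (fun _ => Pt) (kh xh15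 yh9 zh24) (kh xh15 yh9 zh25) (kh xh15 yh9 zh26) (kh xh13 yh14 zh16) (kh xh13 yh14 zh17) (kh xh13 yh14 zh21) (kh xh13 yh14 zh19) (kh xh15 yh9 zh27) (kh xh15 yh9 zh29) (kh xh15 yh9 zh30) (kh xh14 yh18 zh17) (kh xh13 yh14 zh23) (kh xh13 yh14 zh24) (kh xh13 yh14 zh25) (kh xh13 yh14 zh30) (kh xh15 yh8 zh15) (kh xh13 yh14 zh31) (kh xh13 yh15 zh0) (kh xh15 yh10 zh7) (kh xh15 yh10 zh9) (kh xh15 yh10 zh10) (kh xh15 yh10 zh13) (kh xh15 yh10 zh14) (kh xh15 yh10 zh15) (kh xh14 yh18 zh25) (kh xh13 yh15 zh23) (kh xh13 yh15 zh24) (kh xh13 yh15 zh4) (kh xh13 yh15 zh7) (kh xh13 yh15 zh8) (kh xh15 yh10 zh24) (kh xh15 yh10 zh25)) (@D3.rec (fun _ => Pt) (kh xh15 yh10 zh26) (kh xh15 yh9 zh15) (kh xh15 yh9 zh16) (kh xh13 yh15 zh19) (kh xh14 yh14 zh4) (kh xh13 yh15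 zh20) (kh xh14 yh14 zh6) (kh xh14 yh14 zh7) (kh xh13 yh15 zh21) (kh xh13 yh15 zh22) (kh xh15 yh10 zh31) (kh xh15 yh11 zh2) (kh xh15 yh11 zh3) (kh xh14 yh14 zh13) (kh xh13 yh17 zh6) (kh xh14 yh14 zh15) (kh xh14 yh14 zh16) (kh xh14 yh14 zh17) (kh xh14 yh14 zh18) (kh xh13 yh16 zh14) (kh xh14 yh14 zh20) (kh xh14 yh14 zh21) (kh xh14 yh14 zh22) (kh xh14 yh14 zh23) (kh xh14 yh14 zh24) (kh xh13 yh16 zh18) (kh xh14 yh14 zh26) (kh xh14 yh14 zh27) (kh xh13 yh16 zh25) (kh xh15 yh11 zh10) (kh xh14 yh9 zh19) (kh xh14 yh9 zh21)) (@D3.rec (fun _ => Pt) (kh xh14 yh9 zh25) (kh xh14 yh9 zh30) (kh xh14 yh9 zh31) (kh xh13 yh16 zh31) (kh xh15 yh11 zh19) (kh xh14 yh10 zh9) (kh xh13 yh17 zh4) (kh xh13 yh17 zh5) (kh xh15 yh11 zh22) (kh xh13 yh17 zh7) (kh xh13 yh17 zh9)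 (kh xh13 yh17 zh10) (kh xh13 yh17 zh27) (kh xh15 yh11 zh27) (kh xh13 yh17 zh14) (kh xh15 yh11 zh29) (kh xh13 yh17 zh16) (kh xh13 yh17 zh31) (kh xh15 yh12 zh1) (kh xh13 yh17 zh19) (kh xh13 yh17 zh20) (kh xh15 yh12 zh2) (kh xh13 yh18 zh7) (kh xh14 yh4 zh8) (kh xh14 yh4 zh9) (kh xh15 yh11 zh23) (kh xh15 yh11 zh24) (kh xh15 yh11 zh26) (kh xh15 yh11 zh28) (kh xh13 yh17 zh29) (kh xh15 yh12 zh16) (kh xh15 yh11 zh31)) (@D3.rec (fun _ => Pt) (kh xh15 yh12 zh0) (kh xh15 yh12 zh20) (kh xh15 yh12 zh21) (kh xh13 yh18 zh2) (kh xh13 yh18 zh3) (kh xh13 yh18 zh6) (kh xh15 yh12 zh22) (kh xh15 yh12 zh24) (kh xh15 yh12 zh6) (kh xh13 yh18 zh8) (kh xh15 yh12 zh28) (kh xh14 yh12 zh31) (kh xh14 yh16 zh12) (kh xh13 yh18 zh12) (kh xh15 yh13 zh0) (kh xh14 yh16 zh26) (kh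 xh14 yh16 zh27) (kh xh13 yh18 zh15) (kh xh13 yh18 zh16) (kh xh13 yh18 zh19) (kh xh15 yh13 zh5) (kh xh15 yh13 zh7) (kh xh14 yh21 zh0) (kh xh15 yh13 zh11) (kh xh13 yh18 zh22) (kh xh15 yh13 zh12) (kh xh14 yh16 zh15) (kh xh14 yh16 zh16) (kh xh15 yh13 zh17) (kh xh15 yh13 zh18) (kh xh13 yh18 zh27) (kh xh13 yh18 zh28)) (@D3.rec (fun _ => Pt) (kh xh13 yh18 zh31) (kh xh15 yh13 zh19) (kh xh15 yh13 zh21) (kh xh15 yh13 zh22) (kh xh15 yh2 zh8) (kh xh15 yh2 zh9) (kh xh13 yh19 zh2) (kh xh13 yh19 zh3) (kh xh13 yh19 zh4) (kh xh13 yh19 zh9) (kh xh15 yh12 zh23) (kh xh13 yh19 zh10) (kh xh13 yh19 zh11) (kh xh15 yh13 zh31) (kh xh15 yh14 zh1) (kh xh15 yh14 zh2) (kh xh15 yh14 zh5) (kh xh15 yh14 zh6) (kh xh15 yh2 zh21) (kh xh13 yh19 zh14) (kh xh13 yh19 zh15) (kh xh13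 yh19 zh16) (kh xh13 yh19 zh26) (kh xh13 yh19 zh27) (kh xh13 yh21 zh28) (kh xh14 yh2 zh27) (kh xh13 yh19 zh28) (kh xh14 yh17 zh27) (kh xh14 yh17 zh28) (kh xh14 yh17 zh29) (kh xh13 yh20 zh8) (kh xh14 yh17 zh31)) (@D3.rec (fun _ => Pt) (kh xh14 yh18 zh0) (kh xh15 yh14 zh16) (kh xh15 yh14 zh17) (kh xh13 yh20 zh9) (kh xh13 yh20 zh14) (kh xh14 yh9 zh20) (kh xh13 yh20 zh15) (kh xh14 yh4 zh11) (kh xh15 yh14 zh19) (kh xh15 yh14 zh22) (kh xh14 yh12 zh22) (kh xh13 yh20 zh17) (kh xh13 yh20 zh18) (kh xh13 yh20 zh21) (kh xh15 yh14 zh26) (kh xh15 yh14 zh28) (kh xh15 yh14 zh29) (kh xh14 yh13 zh10) (kh xh13 yh20 zh23) (kh xh13 yh20 zh24) (kh xh13 yh20 zh28) (kh xh14 yh9 zh0) (kh xh13 yh20 zh29) (kh xh15 yh15 zh5) (kh xh15 yh15 zh7) (kh xh14 yh13 zh24) (kh xh14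 yh18 zh26) (kh xh15 yh14 zh13) (kh xh15 yh14 zh14) (kh xh13 yh21 zh29) (kh xh14 yh4 zh12) (kh xh15 yh15 zh14)) (@D3.rec (fun _ => Pt) (kh xh13 yh21 zh8) (kh xh14 yh0 zh1) (kh xh15 yh15 zh17) (kh xh15 yh15 zh18) (kh xh13 yh21 zh12) (kh xh13 yh21 zh13) (kh xh15 yh15 zh19) (kh xh14 yh0 zh9) (kh xh15 yh15 zh24) (kh xh15 yh15 zh25) (kh xh13 yh21 zh18) (kh xh13 yh21 zh19) (kh xh13 yh21 zh23) (kh xh13 yh21 zh21) (kh xh15 yh15 zh26) (kh xh15 yh15 zh28) (kh xh15 yh15 zh29) (kh xh14 yh0 zh19) (kh xh14 yh3 zh25) (kh xh14 yh4 zh20) (kh xh14 yh4 zh21) (kh xh14 yh4 zh22) (kh xh15 yh15 zh12) (kh xh15 yh16 zh10) (kh xh13 yh21 zh31) (kh xh15 yh16 zh11) (kh xh15 yh15 zh16) (kh xh15 yh16 zh15) (kh xh15 yh16 zh16) (kh xh14 yh0 zh4) (kh xh14 yh0 zh5) (kh xh14 yh0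 zh8)) (@D3.rec (fun _ => Pt) (kh xh15 yh16 zh17) (kh xh15 yh16 zh19) (kh xh15 yh16 zh20) (kh xh15 yh15 zh23) (kh xh14 yh0 zh10) (kh xh14 yh0 zh11) (kh xh14 yh0 zh12) (kh xh14 yh0 zh17) (kh xh14 yh1 zh21) (kh xh14 yh0 zh18) (kh xh15 yh16 zh27) (kh xh15 yh16 zh29) (kh xh15 yh16 zh31) (kh xh15 yh16 zh4) (kh xh14 yh0 zh20) (kh xh14 yh0 zh21) (kh xh14 yh0 zh22) (kh xh14 yh0 zh27) (kh xh15 yh14 zh3) (kh xh14 yh0 zh28) (kh xh15 yh17 zh4) (kh xh15 yh17 zh6) (kh xh15 yh17 zh8) (kh xh14 yh21 zh14) (kh xh15 yh17 zh12) (kh xh15 yh17 zh13) (kh xh14 yh1 zh0) (kh xh14 yh1 zh1) (kh xh14 yh1 zh4) (kh xh15 yh17 zh14) (kh xh15 yh17 zh16) (kh xh15 yh17 zh17)) (@D3.rec (fun _ => Pt) (kh xh14 yh16 zh22) (kh xh14 yh1 zh6) (kh xh14 yh1 zh7) (kh xh14 yh1 zh8) (kh xh14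 yh1 zh13) (kh xh15 yh16 zh18) (kh xh14 yh1 zh14) (kh xh14 yh1 zh15) (kh xh15 yh17 zh25) (kh xh15 yh17 zh27) (kh xh15 yh17 zh28) (kh xh15 yh17 zh31) (kh xh15 yh18 zh0) (kh xh15 yh18 zh1) (kh xh14 yh20 zh23) (kh xh15 yh10 zh6) (kh xh14 yh1 zh24) (kh xh15 yh16 zh28) (kh xh14 yh1 zh25) (kh xh14 yh1 zh26) (kh xh15 yh13 zh6) (kh xh15 yh16 zh30) (kh xh14 yh1 zh27) (kh xh14 yh1 zh28) (kh xh14 yh1 zh29) (kh xh15 yh18 zh10) (kh xh15 yh18 zh12) (kh xh15 yh18 zh13) (kh xh15 yh18 zh16) (kh xh15 yh18 zh18) (kh xh15 yh18 zh19) (kh xh14 yh21 zh31))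
def f_h_15 : D2 → D3 → Pt := @D2.rec (fun _ => D3 → Pt) (@D3.rec (fun _ => Pt) (kh xh14 yh2 zh5) (kh xh14 yh4 zh10) (kh xh14 yh2 zh6) (kh xh14 yh2 zh29) (kh xh14 yh2 zh14) (kh xh15 yh11 zh25) (kh xh15 yh0 zh6) (kh xh15 yh0 zh7) (kh xh15 yh0 zh8) (kh xh14 yh4 zh6) (kh xh14 yh4 zh7) (kh xh14 yh4 zh26) (kh xh15 yh0 zh12) (kh xh15 yh0 zh13) (kh xh14 yh4 zh27) (kh xh14 yh4 zh28) (kh xh14 yh3 zh5) (kh xh14 yh3 zh6) (kh xh14 yh3 zh7) (kh xh14 yh3 zh12) (kh xh15 yh0 zh20) (kh xh14 yh3 zh13) (kh xh15 yh19 zh0) (kh xh15 yh19 zh1) (kh xh15 yh19 zh3) (kh xh15 yh0 zh25) (kh xh14 yh3 zh21) (kh xh14 yh3 zh22) (kh xh15 yh0 zh28) (kh xh15 yh0 zh29) (kh xh14 yh3 zh23) (kh xh14 yh3 zh24)) (@D3.rec (fun _ => Pt) (kh xh15 yh19 zh6) (kh xh15 yh16 zh5) (kh xh14 yh3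 zh31) (kh xh15 yh12 zh7) (kh xh15 yh12 zh8) (kh xh15 yh12 zh9) (kh xh15 yh15 zh13) (kh xh14 yh4 zh13) (kh xh14 yh4 zh14) (kh xh14 yh4 zh18) (kh xh15 yh1 zh10) (kh xh14 yh4 zh19) (kh xh15 yh19 zh13) (kh xh15 yh18 zh30) (kh xh15 yh19 zh15) (kh xh15 yh16 zh6) (kh xh15 yh16 zh7) (kh xh15 yh16 zh8) (kh xh15 yh1 zh18) (kh xh15 yh18 zh27) (kh xh14 yh4 zh29) (kh xh14 yh5 zh5) (kh xh14 yh4 zh31) (kh xh14 yh5 zh0) (kh xh15 yh19 zh23) (kh xh14 yh5 zh9) (kh xh15 yh1 zh26) (kh xh15 yh1 zh27) (kh xh15 yh19 zh21) (kh xh15 yh19 zh22) (kh xh14 yh5 zh6) (kh xh14 yh5 zh8)) (@D3.rec (fun _ => Pt) (kh xh15 yh20 zh2) (kh xh15 yh20 zh3) (kh xh15 yh19 zh27) (kh xh15 yh2 zh3) (kh xh14 yh5 zh11) (kh xh14 yh5 zh13) (kh xh15 yh20 zh9) (kh xh15 yh20 zh10) (kh xh14 yh17 zh4)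 (kh xh14 yh17 zh5) (kh xh14 yh5 zh16) (kh xh14 yh5 zh17) (kh xh14 yh5 zh21) (kh xh15 yh20 zh1) (kh xh14 yh5 zh22) (kh xh14 yh5 zh23) (kh xh15 yh20 zh19) (kh xh15 yh20 zh20) (kh xh15 yh20 zh23) (kh xh15 yh20 zh24) (kh xh15 yh20 zh25) (kh xh14 yh17 zh18) (kh xh14 yh6 zh6) (kh xh14 yh6 zh2) (kh xh15 yh2 zh24) (kh xh14 yh6 zh3) (kh xh15 yh2 zh26) (kh xh15 yh2 zh27) (kh xh14 yh6 zh4) (kh xh14 yh6 zh5) (kh xh15 yh21 zh3) (kh xh15 yh21 zh4)) (@D3.rec (fun _ => Pt) (kh xh15 yh3 zh0) (kh xh15 yh3 zh1) (kh xh15 yh3 zh2) (kh xh15 yh21 zh9) (kh xh14 yh6 zh15) (kh xh14 yh6 zh16) (kh xh14 yh6 zh17) (kh xh14 yh6 zh21) (kh xh14 yh6 zh19) (kh xh15 yh21 zh11) (kh xh15 yh21 zh13) (kh xh15 yh21 zh14) (kh xh14 yh7 zh2) (kh xh15 yh3 zh13) (kh xh15 yh3 zh14) (kh xh15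 yh3 zh15) (kh xh15 yh3 zh16) (kh xh14 yh6 zh26) (kh xh14 yh6 zh27) (kh xh14 yh6 zh31) (kh xh14 yh7 zh8) (kh xh14 yh7 zh0) (kh xh14 yh7 zh1) (kh xh15 yh21 zh28) (kh xh15 yh21 zh29) (kh xh16 yh0 zh0) (kh xh16 yh0 zh1) (kh xh15 yh21 zh21) (kh xh15 yh15 zh3) (kh xh14 yh7 zh11) (kh xh15 yh21 zh27) (kh xh14 yh7 zh12)) (@D3.rec (fun _ => Pt) (kh xh14 yh7 zh13) (kh xh15 yh21 zh30) (kh xh15 yh21 zh31) (kh xh14 yh7 zh14) (kh xh14 yh7 zh15) (kh xh14 yh7 zh16) (kh xh16 yh0 zh8) (kh xh16 yh0 zh9) (kh xh16 yh0 zh12) (kh xh16 yh0 zh13) (kh xh16 yh0 zh14) (kh xh16 yh0 zh18) (kh xh16 yh0 zh19) (kh xh16 yh0 zh21) (kh xh16 yh0 zh22) (kh xh16 yh1 zh0) (kh xh14 yh8 zh5) (kh xh14 yh7 zh31) (kh xh15 yh4 zh18) (kh xh15 yh4 zh19) (kh xh14 yh8 zh0) (kh xh14 yh8 zh1) (kh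 xh15 yh4 zh22) (kh xh15 yh4 zh23) (kh xh14 yh8 zh2) (kh xh14 yh8 zh3) (kh xh15 yh11 zh4) (kh xh16 yh1 zh7) (kh xh14 yh8 zh4) (kh xh15 yh4 zh29) (kh xh15 yh4 zh30) (kh xh15 yh4 zh31)) (@D3.rec (fun _ => Pt) (kh xh15 yh5 zh0) (kh xh15 yh5 zh1) (kh xh14 yh8 zh18) (kh xh14 yh8 zh19) (kh xh14 yh8 zh20) (kh xh14 yh9 zh5) (kh xh14 yh8 zh22) (kh xh14 yh8 zh23) (kh xh16 yh1 zh15) (kh xh14 yh9 zh11) (kh xh15 yh5 zh10) (kh xh15 yh5 zh11) (kh xh15 yh15 zh4) (kh xh15 yh14 zh27) (kh xh14 yh8 zh30) (kh xh16 yh1 zh26) (kh xh15 yh15 zh6) (kh xh15 yh5 zh17) (kh xh16 yh1 zh11) (kh xh14 yh9 zh3) (kh xh16 yh2 zh0) (kh xh16 yh1 zh13) (kh xh16 yh1 zh14) (kh xh14 yh9 zh6) (kh xh14 yh9 zh7) (kh xh14 yh9 zh10) (kh xh16 yh2 zh4) (kh xh16 yh2 zh6) (kh xh16 yh2 zh7) (kh xh16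 yh1 zh19) (kh xh15 yh5 zh30) (kh xh15 yh5 zh31)) (@D3.rec (fun _ => Pt) (kh xh15 yh6 zh4) (kh xh15 yh21 zh26) (kh xh15 yh8 zh31) (kh xh15 yh6 zh3) (kh xh15 yh6 zh0) (kh xh15 yh11 zh12) (kh xh15 yh11 zh13) (kh xh15 yh14 zh20) (kh xh15 yh14 zh21) (kh xh15 yh11 zh14) (kh xh14 yh9 zh23) (kh xh16 yh2 zh24) (kh xh15 yh11 zh15) (kh xh15 yh11 zh16) (kh xh14 yh9 zh26) (kh xh14 yh9 zh29) (kh xh16 yh2 zh28) (kh xh16 yh2 zh29) (kh xh15 yh11 zh17) (kh xh15 yh11 zh18) (kh xh14 yh10 zh0) (kh xh14 yh10 zh1) (kh xh14 yh10 zh6) (kh xh16 yh2 zh5) (kh xh14 yh10 zh7) (kh xh14 yh10 zh8) (kh xh16 yh3 zh3) (kh xh16 yh1 zh3) (kh xh16 yh3 zh5) (kh xh16 yh3 zh8) (kh xh16 yh3 zh9) (kh xh16 yh3 zh10)) (@D3.rec (fun _ => Pt) (kh xh15 yh11 zh21) (kh xh14 yh10 zh17) (kh xh15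 yh7 zh2) (kh xh14 yh10 zh16) (kh xh16 yh3 zh18) (kh xh15 yh7 zh5) (kh xh15 yh7 zh6) (kh xh15 yh7 zh7) (kh xh16 yh3 zh20) (kh xh14 yh10 zh27) (kh xh14 yh11 zh13) (kh xh14 yh11 zh14) (kh xh14 yh11 zh17) (kh xh14 yh10 zh31) (kh xh14 yh11 zh19) (kh xh14 yh11 zh1) (kh xh16 yh3 zh26) (kh xh14 yh11 zh25) (kh xh14 yh11 zh4) (kh xh14 yh11 zh8) (kh xh14 yh11 zh6) (kh xh16 yh3 zh29) (kh xh16 yh3 zh30) (kh xh16 yh3 zh31) (kh xh14 yh12 zh4) (kh xh15 yh7 zh25) (kh xh15 yh7 zh26) (kh xh15 yh7 zh27) (kh xh16 yh3 zh21) (kh xh16 yh3 zh22) (kh xh14 yh11 zh16) (kh xh16 yh4 zh11)) (@D3.rec (fun _ => Pt) (kh xh16 yh4 zh12) (kh xh16 yh3 zh23) (kh xh15 yh8 zh2) (kh xh16 yh3 zh25) (kh xh14 yh11 zh20) (kh xh14 yh11 zh21) (kh xh14 yh11 zh24) (kh xh16 yh4 zh18) (kh xh16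 yh4 zh20) (kh xh16 yh4 zh21) (kh xh16 yh3 zh28) (kh xh14 yh11 zh26) (kh xh14 yh11 zh27) (kh xh14 yh11 zh28) (kh xh14 yh12 zh1) (kh xh14 yh13 zh15) (kh xh14 yh12 zh2) (kh xh14 yh12 zh3) (kh xh16 yh4 zh27) (kh xh16 yh4 zh29) (kh xh16 yh4 zh30) (kh xh16 yh5 zh1) (kh xh16 yh5 zh2) (kh xh16 yh5 zh3) (kh xh16 yh4 zh6) (kh xh15 yh8 zh25) (kh xh15 yh8 zh26) (kh xh14 yh12 zh8) (kh xh16 yh5 zh12) (kh xh16 yh5 zh13) (kh xh15 yh9 zh3) (kh xh15 yh6 zh2)) (@D3.rec (fun _ => Pt) (kh xh14 yh12 zh13) (kh xh16 yh5 zh18) (kh xh16 yh5 zh19) (kh xh15 yh8 zh30) (kh xh14 yh12 zh15) (kh xh14 yh12 zh19) (kh xh14 yh12 zh20) (kh xh14 yh12 zh21) (kh xh16 yh5 zh24) (kh xh16 yh5 zh25) (kh xh16 yh5 zh26) (kh xh16 yh5 zh27) (kh xh16 yh5 zh28) (kh xh16 yh5 zh29) (kh xh15 yh14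 zh25) (kh xh14 yh14 zh1) (kh xh14 yh14 zh2) (kh xh14 yh12 zh26) (kh xh14 yh12 zh27) (kh xh14 yh12 zh30) (kh xh16 yh6 zh6) (kh xh16 yh6 zh8) (kh xh16 yh6 zh9) (kh xh15 yh12 zh31) (kh xh14 yh13 zh0) (kh xh14 yh13 zh1) (kh xh14 yh13 zh2) (kh xh14 yh13 zh7) (kh xh16 yh4 zh19) (kh xh14 yh13 zh8) (kh xh14 yh13 zh9) (kh xh16 yh6 zh15)) (@D3.rec (fun _ => Pt) (kh xh16 yh6 zh17) (kh xh16 yh6 zh18) (kh xh16 yh6 zh21) (kh xh16 yh6 zh22) (kh xh16 yh6 zh23) (kh xh15 yh15 zh2) (kh xh14 yh21 zh15) (kh xh14 yh13 zh18) (kh xh16 yh4 zh28) (kh xh14 yh13 zh19) (kh xh14 yh13 zh20) (kh xh16 yh4 zh31) (kh xh16 yh5 zh0) (kh xh14 yh13 zh21) (kh xh14 yh13 zh22) (kh xh14 yh13 zh23) (kh xh16 yh7 zh0) (kh xh16 yh7 zh3) (kh xh16 yh7 zh4) (kh xh16 yh7 zh5) (kh xh16 yh7 zh9)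 (kh xh16 yh7 zh10) (kh xh16 yh7 zh12) (kh xh16 yh7 zh13) (kh xh14 yh13 zh30) (kh xh14 yh13 zh31) (kh xh14 yh14 zh0) (kh xh16 yh7 zh21) (kh xh16 yh7 zh22) (kh xh16 yh7 zh23) (kh xh15 yh10 zh30) (kh xh14 yh14 zh10)) (@D3.rec (fun _ => Pt) (kh xh15 yh11 zh0) (kh xh15 yh11 zh1) (kh xh14 yh14 zh11) (kh xh14 yh14 zh12) (kh xh15 yh4 zh26) (kh xh16 yh7 zh28) (kh xh15 yh11 zh6) (kh xh15 yh11 zh7) (kh xh15 yh11 zh8) (kh xh15 yh11 zh9) (kh xh14 yh14 zh29) (kh xh16 yh7 zh31) (kh xh15 yh6 zh5) (kh xh15 yh6 zh6) (kh xh15 yh6 zh9) (kh xh15 yh6 zh12) (kh xh15 yh6 zh13) (kh xh15 yh6 zh18) (kh xh15 yh6 zh19) (kh xh14 yh15 zh4) (kh xh16 yh8 zh8) (kh xh15 yh7 zh0) (kh xh14 yh15 zh8) (kh xh14 yh15 zh25) (kh xh14 yh15 zh26) (kh xh15 yh0 zh5) (kh xh14 yh15 zh27) (kh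 xh14 yh15 zh13) (kh xh14 yh15 zh28) (kh xh14 yh15 zh15) (kh xh15 yh21 zh15) (kh xh14 yh15 zh31)) (@D3.rec (fun _ => Pt) (kh xh14 yh16 zh0) (kh xh14 yh15 zh18) (kh xh14 yh15 zh21) (kh xh15 yh15 zh30) (kh xh15 yh19 zh7) (kh xh16 yh8 zh25) (kh xh14 yh16 zh8) (kh xh15 yh1 zh3) (kh xh15 yh1 zh4) (kh xh15 yh1 zh5) (kh xh16 yh8 zh11) (kh xh16 yh8 zh12) (kh xh16 yh8 zh13) (kh xh16 yh8 zh15) (kh xh16 yh8 zh17) (kh xh16 yh8 zh18) (kh xh14 yh15 zh30) (kh xh16 yh9 zh9) (kh xh16 yh8 zh22) (kh xh16 yh8 zh23) (kh xh14 yh16 zh1) (kh xh14 yh16 zh2) (kh xh14 yh16 zh6) (kh xh14 yh17 zh10) (kh xh14 yh16 zh7) (kh xh16 yh9 zh15) (kh xh16 yh9 zh17) (kh xh16 yh8 zh31) (kh xh14 yh16 zh10) (kh xh16 yh9 zh20) (kh xh16 yh9 zh21) (kh xh15 yh9 zh23)) (@D3.rec (fun _ => Pt)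 (kh xh14 yh16 zh14) (kh xh16 yh9 zh25) (kh xh16 yh9 zh26) (kh xh15 yh13 zh15) (kh xh15 yh13 zh16) (kh xh14 yh16 zh20) (kh xh14 yh21 zh20) (kh xh14 yh16 zh21) (kh xh16 yh10 zh0) (kh xh16 yh10 zh2) (kh xh15 yh17 zh23) (kh xh14 yh16 zh23) (kh xh14 yh16 zh25) (kh xh16 yh10 zh6) (kh xh16 yh10 zh7) (kh xh15 yh13 zh3) (kh xh15 yh13 zh4) (kh xh14 yh16 zh28) (kh xh14 yh16 zh29) (kh xh14 yh17 zh1) (kh xh16 yh4 zh0) (kh xh14 yh17 zh2) (kh xh14 yh17 zh3) (kh xh16 yh10 zh14) (kh xh16 yh10 zh15) (kh xh16 yh10 zh18) (kh xh16 yh10 zh19) (kh xh16 yh10 zh25) (kh xh15 yh20 zh15) (kh xh15 yh20 zh16) (kh xh16 yh0 zh6) (kh xh14 yh17 zh13)) (@D3.rec (fun _ => Pt) (kh xh16 yh9 zh14) (kh xh14 yh17 zh14) (kh xh14 yh17 zh15) (kh xh14 yh20 zh18) (kh xh16 yh9 zh16) (kh xh14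 yh17 zh16) (kh xh14 yh17 zh17) (kh xh16 yh10 zh28) (kh xh16 yh10 zh30) (kh xh16 yh10 zh31) (kh xh16 yh11 zh3) (kh xh16 yh11 zh4) (kh xh15 yh14 zh12) (kh xh14 yh18 zh27) (kh xh14 yh18 zh28) (kh xh16 yh11 zh10) (kh xh14 yh18 zh1) (kh xh14 yh18 zh2) (kh xh15 yh14 zh18) (kh xh14 yh18 zh8) (kh xh15 yh6 zh7) (kh xh15 yh6 zh8) (kh xh14 yh18 zh9) (kh xh16 yh11 zh13) (kh xh16 yh11 zh16) (kh xh15 yh9 zh14) (kh xh14 yh18 zh14) (kh xh15 yh5 zh13) (kh xh14 yh18 zh15) (kh xh14 yh18 zh16) (kh xh16 yh11 zh18) (kh xh16 yh11 zh19)) (@D3.rec (fun _ => Pt) (kh xh16 yh11 zh22) (kh xh16 yh11 zh23) (kh xh15 yh10 zh5) (kh xh15 yh3 zh28) (kh xh15 yh5 zh12) (kh xh14 yh18 zh23) (kh xh15 yh5 zh16) (kh xh14 yh18 zh24) (kh xh16 yh11 zh30) (kh xh16 yh12 zh0) (kh xh15 yh21 zh5)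 (kh xh16 yh11 zh2) (kh xh14 yh19 zh22) (kh xh15 yh1 zh6) (kh xh14 yh18 zh31) (kh xh16 yh12 zh7) (kh xh14 yh19 zh26) (kh xh14 yh19 zh2) (kh xh14 yh19 zh3) (kh xh14 yh19 zh6) (kh xh16 yh12 zh10) (kh xh16 yh12 zh12) (kh xh16 yh12 zh13) (kh xh14 yh20 zh3) (kh xh14 yh19 zh8) (kh xh14 yh19 zh9) (kh xh14 yh19 zh14) (kh xh15 yh21 zh12) (kh xh14 yh19 zh15) (kh xh14 yh19 zh16) (kh xh15 yh12 zh3) (kh xh16 yh12 zh21)) (@D3.rec (fun _ => Pt) (kh xh16 yh12 zh22) (kh xh16 yh12 zh25) (kh xh16 yh12 zh26) (kh xh16 yh12 zh27) (kh xh14 yh20 zh13) (kh xh15 yh1 zh1) (kh xh15 yh1 zh15) (kh xh15 yh1 zh16) (kh xh15 yh1 zh17) (kh xh16 yh12 zh5) (kh xh14 yh19 zh23) (kh xh14 yh19 zh25) (kh xh16 yh13 zh8) (kh xh16 yh13 zh9) (kh xh16 yh12 zh9) (kh xh14 yh19 zh27) (kh xh14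 yh19 zh28) (kh xh14 yh20 zh0) (kh xh14 yh21 zh5) (kh xh14 yh20 zh1) (kh xh14 yh20 zh2) (kh xh16 yh13 zh16) (kh xh16 yh13 zh17) (kh xh16 yh13 zh20) (kh xh16 yh13 zh21) (kh xh16 yh12 zh18) (kh xh16 yh4 zh26) (kh xh14 yh20 zh10) (kh xh14 yh21 zh17) (kh xh14 yh20 zh11) (kh xh14 yh21 zh21) (kh xh14 yh20 zh12)) (@D3.rec (fun _ => Pt) (kh xh16 yh13 zh28) (kh xh16 yh13 zh30) (kh xh16 yh14 zh0) (kh xh16 yh6 zh7) (kh xh14 yh20 zh20) (kh xh16 yh3 zh24) (kh xh14 yh20 zh21) (kh xh16 yh11 zh0) (kh xh14 yh20 zh22) (kh xh16 yh14 zh5) (kh xh16 yh14 zh7) (kh xh16 yh14 zh9) (kh xh14 yh20 zh24) (kh xh14 yh20 zh25) (kh xh14 yh20 zh29) (kh xh16 yh13 zh7) (kh xh14 yh20 zh30) (kh xh14 yh20 zh31) (kh xh16 yh14 zh14) (kh xh16 yh14 zh15) (kh xh16 yh14 zh18) (kh xh16 yh14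 zh19) (kh xh16 yh14 zh20) (kh xh15 yh13 zh10) (kh xh16 yh6 zh14) (kh xh14 yh21 zh8) (kh xh16 yh13 zh15) (kh xh14 yh21 zh9) (kh xh14 yh21 zh10) (kh xh16 yh13 zh18) (kh xh16 yh13 zh19) (kh xh14 yh21 zh11)) (@D3.rec (fun _ => Pt) (kh xh14 yh21 zh12) (kh xh14 yh21 zh13) (kh xh16 yh14 zh28) (kh xh16 yh14 zh30) (kh xh16 yh14 zh31) (kh xh16 yh15 zh2) (kh xh16 yh15 zh4) (kh xh16 yh15 zh5) (kh xh15 yh20 zh17) (kh xh16 yh6 zh31) (kh xh14 yh21 zh25) (kh xh16 yh13 zh29) (kh xh14 yh21 zh26) (kh xh14 yh21 zh27) (kh xh16 yh10 zh1) (kh xh16 yh13 zh31) (kh xh14 yh21 zh28) (kh xh16 yh8 zh14) (kh xh14 yh21 zh29) (kh xh14 yh21 zh30) (kh xh16 yh15 zh13) (kh xh16 yh15 zh15) (kh xh16 yh15 zh16) (kh xh16 yh15 zh19) (kh xh16 yh15 zh21) (kh xh15 yh18 zh25) (kh xh15 yh18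 zh26) (kh xh15 yh1 zh19) (kh xh15 yh18 zh28) (kh xh15 yh18 zh29) (kh xh15 yh1 zh13) (kh xh15 yh18 zh31)) (@D3.rec (fun _ => Pt) (kh xh15 yh0 zh22) (kh xh15 yh0 zh23) (kh xh15 yh19 zh2) (kh xh15 yh0 zh24) (kh xh15 yh19 zh4) (kh xh15 yh19 zh5) (kh xh15 yh1 zh0) (kh xh15 yh12 zh4) (kh xh16 yh9 zh0) (kh xh16 yh9 zh1) (kh xh16 yh9 zh2) (kh xh16 yh12 zh6) (kh xh15 yh19 zh12) (kh xh15 yh1 zh12) (kh xh15 yh19 zh14) (kh xh15 yh1 zh14) (kh xh16 yh16 zh1) (kh xh16 yh13 zh5) (kh xh16 yh16 zh3) (kh xh15 yh19 zh19) (kh xh15 yh19 zh24) (kh xh15 yh1 zh28) (kh xh15 yh1 zh29) (kh xh15 yh1 zh24) (kh xh15 yh19 zh20) (kh xh16 yh16 zh8) (kh xh16 yh16 zh9) (kh xh15 yh2 zh2) (kh xh15 yh19 zh28) (kh xh15 yh19 zh29) (kh xh15 yh19 zh30) (kh xh16 yh16 zh6)) (@D3.rec (fun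 _ => Pt) (kh xh16 yh16 zh7) (kh xh15 yh2 zh13) (kh xh15 yh2 zh0) (kh xh15 yh2 zh1) (kh xh16 yh16 zh24) (kh xh16 yh16 zh25) (kh xh16 yh16 zh26) (kh xh16 yh16 zh15) (kh xh16 yh1 zh16) (kh xh15 yh2 zh6) (kh xh15 yh2 zh7) (kh xh16 yh17 zh0) (kh xh16 yh17 zh1) (kh xh16 yh17 zh2) (kh xh16 yh17 zh8) (kh xh15 yh13 zh28) (kh xh15 yh13 zh29) (kh xh15 yh18 zh8) (kh xh16 yh1 zh12) (kh xh15 yh2 zh16) (kh xh15 yh2 zh17) (kh xh16 yh16 zh22) (kh xh16 yh16 zh23) (kh xh15 yh2 zh18) (kh xh15 yh2 zh19) (kh xh15 yh2 zh20) (kh xh16 yh17 zh13) (kh xh16 yh17 zh14) (kh xh16 yh17 zh18) (kh xh16 yh17 zh19) (kh xh16 yh17 zh21) (kh xh16 yh17 zh22)) (@D3.rec (fun _ => Pt) (kh xh15 yh21 zh0) (kh xh15 yh21 zh1) (kh xh15 yh21 zh2) (kh xh15 yh2 zh30) (kh xh15 yh2 zh31) (kh xh15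 yh15 zh10) (kh xh16 yh17 zh31) (kh xh16 yh18 zh1) (kh xh16 yh18 zh2) (kh xh15 yh3 zh3) (kh xh15 yh21 zh10) (kh xh15 yh3 zh9) (kh xh15 yh15 zh27) (kh xh15 yh3 zh10) (kh xh15 yh3 zh11) (kh xh15 yh11 zh30) (kh xh16 yh18 zh4) (kh xh16 yh18 zh5) (kh xh16 yh18 zh8) (kh xh16 yh18 zh9) (kh xh16 yh18 zh10) (kh xh15 yh3 zh27) (kh xh15 yh21 zh22) (kh xh15 yh21 zh23) (kh xh15 yh21 zh24) (kh xh15 yh21 zh25) (kh xh15 yh6 zh1) (kh xh15 yh3 zh30) (kh xh15 yh3 zh23) (kh xh15 yh3 zh24) (kh xh15 yh4 zh1) (kh xh15 yh4 zh2))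
def f_h_16 : D2 → D3 → Pt := @D2.rec (fun _ => D3 → Pt) (@D3.rec (fun _ => Pt) (kh xh15 yh3 zh25) (kh xh15 yh3 zh26) (kh xh16 yh18 zh26) (kh xh16 yh18 zh27) (kh xh16 yh18 zh31) (kh xh16 yh19 zh0) (kh xh15 yh13 zh30) (kh xh16 yh11 zh28) (kh xh15 yh4 zh6) (kh xh15 yh4 zh7) (kh xh16 yh18 zh24) (kh xh16 yh18 zh25) (kh xh15 yh4 zh8) (kh xh15 yh4 zh9) (kh xh15 yh4 zh10) (kh xh16 yh10 zh16) (kh xh16 yh18 zh28) (kh xh16 yh18 zh29) (kh xh15 yh4 zh11) (kh xh15 yh4 zh12) (kh xh16 yh7 zh11) (kh xh15 yh4 zh13) (kh xh15 yh4 zh14) (kh xh16 yh19 zh6) (kh xh16 yh19 zh7) (kh xh16 yh19 zh11) (kh xh16 yh19 zh29) (kh xh16 yh19 zh13) (kh xh16 yh19 zh14) (kh xh16 yh19 zh20) (kh xh16 yh19 zh22) (kh xh16 yh19 zh24)) (@D3.rec (fun _ => Pt) (kh xh15 yh4 zh15) (kh xh16 yh1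 zh1) (kh xh16 yh1 zh2) (kh xh15 yh6 zh27) (kh xh16 yh1 zh4) (kh xh16 yh1 zh5) (kh xh16 yh20 zh4) (kh xh15 yh4 zh27) (kh xh16 yh7 zh29) (kh xh16 yh1 zh9) (kh xh16 yh1 zh10) (kh xh15 yh5 zh18) (kh xh15 yh20 zh18) (kh xh15 yh5 zh21) (kh xh15 yh5 zh22) (kh xh15 yh5 zh8) (kh xh15 yh20 zh8) (kh xh16 yh20 zh12) (kh xh16 yh20 zh13) (kh xh15 yh5 zh29) (kh xh16 yh1 zh20) (kh xh16 yh1 zh21) (kh xh16 yh1 zh22) (kh xh16 yh11 zh29) (kh xh16 yh11 zh20) (kh xh16 yh11 zh21) (kh xh15 yh5 zh15) (kh xh16 yh20 zh26) (kh xh16 yh20 zh27) (kh xh16 yh11 zh31) (kh xh16 yh20 zh6) (kh xh16 yh20 zh7)) (@D3.rec (fun _ => Pt) (kh xh15 yh5 zh20) (kh xh16 yh21 zh1) (kh xh16 yh20 zh10) (kh xh16 yh20 zh11) (kh xh15 yh5 zh26) (kh xh15 yh6 zh23) (kh xh15 yh5 zh27) (kh xh15 yh5 zh28)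 (kh xh16 yh21 zh6) (kh xh16 yh21 zh7) (kh xh16 yh21 zh10) (kh xh16 yh21 zh11) (kh xh16 yh21 zh12) (kh xh16 yh20 zh19) (kh xh16 yh2 zh18) (kh xh16 yh18 zh22) (kh xh16 yh18 zh23) (kh xh16 yh5 zh17) (kh xh16 yh2 zh14) (kh xh16 yh8 zh1) (kh xh16 yh8 zh2) (kh xh16 yh11 zh14) (kh xh16 yh11 zh15) (kh xh16 yh8 zh3) (kh xh15 yh6 zh11) (kh xh16 yh21 zh27) (kh xh16 yh8 zh4) (kh xh16 yh8 zh5) (kh xh15 yh6 zh16) (kh xh15 yh6 zh17) (kh xh16 yh21 zh31) (kh xh17 yh0 zh0)) (@D3.rec (fun _ => Pt) (kh xh17 yh0 zh4) (kh xh16 yh8 zh6) (kh xh16 yh8 zh7) (kh xh15 yh6 zh26) (kh xh16 yh10 zh12) (kh xh15 yh6 zh28) (kh xh16 yh21 zh8) (kh xh16 yh21 zh9) (kh xh15 yh6 zh29) (kh xh15 yh6 zh30) (kh xh15 yh6 zh31) (kh xh17 yh0 zh6) (kh xh16 yh19 zh12) (kh xh17 yh0 zh8) (kh xh17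 yh0 zh11) (kh xh17 yh0 zh12) (kh xh17 yh0 zh13) (kh xh17 yh0 zh14) (kh xh15 yh7 zh4) (kh xh17 yh0 zh21) (kh xh15 yh7 zh8) (kh xh15 yh7 zh28) (kh xh15 yh7 zh29) (kh xh15 yh8 zh1) (kh xh15 yh17 zh5) (kh xh15 yh8 zh3) (kh xh15 yh7 zh16) (kh xh17 yh0 zh27) (kh xh15 yh8 zh10) (kh xh15 yh7 zh21) (kh xh15 yh7 zh22) (kh xh15 yh7 zh23)) (@D3.rec (fun _ => Pt) (kh xh15 yh13 zh20) (kh xh17 yh0 zh30) (kh xh17 yh0 zh31) (kh xh17 yh1 zh0) (kh xh17 yh1 zh1) (kh xh17 yh1 zh2) (kh xh15 yh8 zh24) (kh xh16 yh4 zh7) (kh xh16 yh4 zh8) (kh xh17 yh0 zh22) (kh xh17 yh0 zh23) (kh xh15 yh7 zh31) (kh xh15 yh8 zh0) (kh xh17 yh1 zh13) (kh xh17 yh1 zh14) (kh xh17 yh1 zh15) (kh xh17 yh0 zh24) (kh xh17 yh0 zh26) (kh xh15 yh8 zh7) (kh xh15 yh9 zh28) (kh xh15 yh8 zh8) (kh xh15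 yh8 zh9) (kh xh17 yh1 zh20) (kh xh17 yh1 zh23) (kh xh17 yh1 zh24) (kh xh17 yh0 zh29) (kh xh15 yh16 zh26) (kh xh15 yh8 zh18) (kh xh15 yh10 zh8) (kh xh15 yh8 zh19) (kh xh15 yh8 zh20) (kh xh15 yh10 zh11)) (@D3.rec (fun _ => Pt) (kh xh15 yh10 zh12) (kh xh15 yh8 zh21) (kh xh15 yh8 zh22) (kh xh15 yh8 zh23) (kh xh17 yh1 zh30) (kh xh17 yh2 zh1) (kh xh17 yh2 zh2) (kh xh17 yh2 zh3) (kh xh17 yh2 zh7) (kh xh17 yh2 zh8) (kh xh17 yh2 zh10) (kh xh17 yh2 zh11) (kh xh15 yh8 zh28) (kh xh15 yh8 zh29) (kh xh17 yh2 zh19) (kh xh17 yh2 zh20) (kh xh16 yh5 zh23) (kh xh16 yh2 zh17) (kh xh15 yh9 zh1) (kh xh15 yh9 zh2) (kh xh17 yh2 zh24) (kh xh17 yh2 zh25) (kh xh17 yh2 zh26) (kh xh16 yh5 zh16) (kh xh15 yh9 zh8) (kh xh15 yh9 zh9) (kh xh15 yh9 zh10) (kh xh15 yh9 zh11) (kh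 xh15 yh9 zh12) (kh xh15 yh9 zh13) (kh xh17 yh2 zh30) (kh xh17 yh2 zh31)) (@D3.rec (fun _ => Pt) (kh xh17 yh3 zh0) (kh xh17 yh3 zh1) (kh xh17 yh3 zh2) (kh xh17 yh3 zh3) (kh xh17 yh3 zh4) (kh xh17 yh3 zh5) (kh xh15 yh9 zh20) (kh xh15 yh17 zh3) (kh xh15 yh9 zh21) (kh xh15 yh9 zh22) (kh xh17 yh3 zh13) (kh xh17 yh3 zh16) (kh xh17 yh3 zh17) (kh xh16 yh9 zh24) (kh xh15 yh17 zh24) (kh xh15 yh9 zh31) (kh xh16 yh14 zh12) (kh xh15 yh10 zh0) (kh xh15 yh10 zh1) (kh xh17 yh1 zh21) (kh xh17 yh1 zh22) (kh xh15 yh10 zh2) (kh xh15 yh10 zh3) (kh xh15 yh10 zh4) (kh xh17 yh3 zh23) (kh xh17 yh3 zh24) (kh xh17 yh3 zh27) (kh xh17 yh3 zh28) (kh xh17 yh4 zh0) (kh xh17 yh4 zh2) (kh xh17 yh4 zh3) (kh xh15 yh18 zh9)) (@D3.rec (fun _ => Pt) (kh xh15 yh10 zh16) (kh xh17 yh1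 zh31) (kh xh17 yh2 zh0) (kh xh15 yh10 zh17) (kh xh15 yh10 zh18) (kh xh15 yh10 zh19) (kh xh17 yh2 zh4) (kh xh17 yh2 zh5) (kh xh17 yh2 zh6) (kh xh15 yh10 zh20) (kh xh15 yh10 zh21) (kh xh16 yh0 zh20) (kh xh15 yh10 zh22) (kh xh15 yh10 zh23) (kh xh17 yh4 zh12) (kh xh17 yh4 zh16) (kh xh17 yh4 zh17) (kh xh17 yh4 zh18) (kh xh17 yh4 zh24) (kh xh17 yh4 zh26) (kh xh17 yh4 zh28) (kh xh15 yh10 zh27) (kh xh15 yh10 zh28) (kh xh15 yh10 zh29) (kh xh16 yh7 zh24) (kh xh16 yh7 zh25) (kh xh16 yh7 zh26) (kh xh17 yh5 zh5) (kh xh15 yh11 zh5) (kh xh16 yh1 zh8) (kh xh17 yh5 zh8) (kh xh15 yh11 zh11)) (@D3.rec (fun _ => Pt) (kh xh17 yh5 zh9) (kh xh16 yh2 zh19) (kh xh16 yh2 zh20) (kh xh16 yh2 zh23) (kh xh16 yh2 zh26) (kh xh16 yh2 zh27) (kh xh16 yh3 zh1) (kh xh16 yh3 zh2)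 (kh xh15 yh11 zh20) (kh xh17 yh5 zh15) (kh xh16 yh8 zh10) (kh xh15 yh12 zh10) (kh xh15 yh12 zh11) (kh xh15 yh12 zh12) (kh xh15 yh18 zh17) (kh xh15 yh12 zh13) (kh xh16 yh12 zh20) (kh xh15 yh12 zh14) (kh xh15 yh12 zh15) (kh xh16 yh8 zh24) (kh xh16 yh18 zh11) (kh xh16 yh18 zh12) (kh xh15 yh12 zh18) (kh xh15 yh12 zh19) (kh xh16 yh8 zh19) (kh xh15 yh12 zh5) (kh xh16 yh12 zh28) (kh xh16 yh12 zh29) (kh xh16 yh15 zh29) (kh xh16 yh15 zh3) (kh xh17 yh6 zh2) (kh xh15 yh12 zh27)) (@D3.rec (fun _ => Pt) (kh xh15 yh19 zh8) (kh xh15 yh19 zh9) (kh xh15 yh19 zh10) (kh xh17 yh5 zh16) (kh xh17 yh5 zh17) (kh xh17 yh5 zh18) (kh xh17 yh5 zh20) (kh xh17 yh5 zh23) (kh xh17 yh5 zh24) (kh xh15 yh12 zh17) (kh xh17 yh6 zh18) (kh xh17 yh5 zh31) (kh xh17 yh6 zh0) (kh xh16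 yh10 zh13) (kh xh15 yh14 zh0) (kh xh15 yh12 zh25) (kh xh15 yh14 zh4) (kh xh15 yh12 zh26) (kh xh17 yh6 zh23) (kh xh17 yh6 zh25) (kh xh15 yh12 zh29) (kh xh15 yh12 zh30) (kh xh17 yh6 zh27) (kh xh17 yh6 zh28) (kh xh16 yh6 zh13) (kh xh15 yh13 zh1) (kh xh15 yh13 zh2) (kh xh17 yh6 zh31) (kh xh17 yh7 zh0) (kh xh17 yh7 zh4) (kh xh16 yh10 zh10) (kh xh16 yh10 zh11)) (@D3.rec (fun _ => Pt) (kh xh15 yh13 zh8) (kh xh15 yh18 zh14) (kh xh15 yh13 zh9) (kh xh17 yh7 zh6) (kh xh17 yh7 zh8) (kh xh16 yh12 zh19) (kh xh15 yh13 zh13) (kh xh15 yh13 zh14) (kh xh17 yh7 zh12) (kh xh17 yh7 zh13) (kh xh16 yh9 zh30) (kh xh16 yh9 zh31) (kh xh16 yh3 zh4) (kh xh16 yh9 zh13) (kh xh15 yh13 zh23) (kh xh15 yh13 zh24) (kh xh16 yh0 zh15) (kh xh17 yh1 zh3) (kh xh15 yh13 zh25) (kh xh15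 yh13 zh26) (kh xh17 yh7 zh21) (kh xh17 yh7 zh22) (kh xh17 yh7 zh26) (kh xh17 yh7 zh27) (kh xh17 yh8 zh0) (kh xh15 yh13 zh27) (kh xh16 yh17 zh9) (kh xh16 yh19 zh4) (kh xh15 yh14 zh7) (kh xh17 yh6 zh22) (kh xh15 yh14 zh8) (kh xh15 yh14 zh9)) (@D3.rec (fun _ => Pt) (kh xh15 yh17 zh7) (kh xh17 yh6 zh24) (kh xh15 yh15 zh11) (kh xh15 yh14 zh10) (kh xh15 yh14 zh11) (kh xh17 yh8 zh3) (kh xh17 yh8 zh5) (kh xh17 yh8 zh6) (kh xh17 yh8 zh11) (kh xh16 yh12 zh11) (kh xh15 yh14 zh15) (kh xh17 yh3 zh29) (kh xh16 yh11 zh12) (kh xh15 yh14 zh23) (kh xh16 yh2 zh21) (kh xh16 yh2 zh22) (kh xh15 yh14 zh24) (kh xh17 yh8 zh15) (kh xh15 yh14 zh30) (kh xh15 yh14 zh31) (kh xh16 yh1 zh24) (kh xh16 yh1 zh25) (kh xh15 yh15 zh0) (kh xh15 yh15 zh1) (kh xh17 yh8 zh18) (kh xh17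 yh8 zh19) (kh xh17 yh8 zh23) (kh xh17 yh8 zh24) (kh xh16 yh0 zh7) (kh xh16 yh1 zh23) (kh xh15 yh15 zh8) (kh xh16 yh1 zh29)) (@D3.rec (fun _ => Pt) (kh xh15 yh15 zh9) (kh xh17 yh8 zh30) (kh xh16 yh18 zh0) (kh xh16 yh17 zh20) (kh xh17 yh8 zh10) (kh xh15 yh16 zh9) (kh xh15 yh19 zh11) (kh xh15 yh15 zh15) (kh xh17 yh9 zh4) (kh xh15 yh16 zh14) (kh xh15 yh15 zh20) (kh xh16 yh11 zh9) (kh xh15 yh15 zh21) (kh xh15 yh15 zh22) (kh xh17 yh9 zh7) (kh xh17 yh9 zh10) (kh xh17 yh9 zh11) (kh xh17 yh9 zh12) (kh xh15 yh16 zh25) (kh xh16 yh10 zh5) (kh xh16 yh8 zh16) (kh xh15 yh15 zh31) (kh xh15 yh16 zh0) (kh xh16 yh18 zh6) (kh xh16 yh18 zh7) (kh xh15 yh16 zh1) (kh xh15 yh16 zh2) (kh xh15 yh16 zh3) (kh xh16 yh8 zh26) (kh xh16 yh8 zh27) (kh xh17 yh9 zh21) (kh xh17 yh9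 zh22)) (@D3.rec (fun _ => Pt) (kh xh17 yh9 zh23) (kh xh17 yh9 zh27) (kh xh17 yh9 zh28) (kh xh17 yh9 zh29) (kh xh17 yh9 zh30) (kh xh15 yh19 zh17) (kh xh17 yh6 zh3) (kh xh15 yh17 zh15) (kh xh15 yh16 zh12) (kh xh15 yh16 zh13) (kh xh17 yh10 zh11) (kh xh17 yh10 zh12) (kh xh17 yh10 zh13) (kh xh17 yh9 zh6) (kh xh16 yh14 zh13) (kh xh15 yh17 zh26) (kh xh15 yh16 zh21) (kh xh15 yh16 zh22) (kh xh15 yh17 zh29) (kh xh15 yh17 zh30) (kh xh15 yh16 zh23) (kh xh15 yh16 zh24) (kh xh17 yh10 zh20) (kh xh17 yh10 zh21) (kh xh17 yh10 zh25) (kh xh17 yh10 zh26) (kh xh17 yh1 zh28) (kh xh17 yh1 zh29) (kh xh15 yh17 zh0) (kh xh15 yh18 zh11) (kh xh15 yh17 zh1) (kh xh15 yh18 zh15)) (@D3.rec (fun _ => Pt) (kh xh15 yh17 zh2) (kh xh17 yh11 zh0) (kh xh17 yh11 zh2) (kh xh17 yh3 zh14)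 (kh xh17 yh3 zh15) (kh xh15 yh17 zh9) (kh xh17 yh0 zh25) (kh xh15 yh17 zh10) (kh xh17 yh8 zh8) (kh xh15 yh17 zh11) (kh xh17 yh11 zh7) (kh xh17 yh11 zh9) (kh xh16 yh6 zh16) (kh xh16 yh13 zh14) (kh xh15 yh17 zh18) (kh xh15 yh17 zh19) (kh xh17 yh10 zh9) (kh xh17 yh10 zh10) (kh xh15 yh17 zh20) (kh xh15 yh17 zh21) (kh xh15 yh17 zh22) (kh xh17 yh11 zh15) (kh xh17 yh11 zh16) (kh xh17 yh11 zh20) (kh xh17 yh11 zh21) (kh xh17 yh11 zh22) (kh xh17 yh3 zh21) (kh xh17 yh3 zh22) (kh xh15 yh18 zh2) (kh xh17 yh10 zh19) (kh xh15 yh18 zh3) (kh xh15 yh18 zh4)) (@D3.rec (fun _ => Pt) (kh xh17 yh10 zh22) (kh xh17 yh10 zh23) (kh xh15 yh18 zh5) (kh xh16 yh8 zh29) (kh xh15 yh18 zh6) (kh xh15 yh18 zh7) (kh xh17 yh11 zh29) (kh xh17 yh11 zh31) (kh xh17 yh12 zh0) (kh xh17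 yh12 zh5) (kh xh17 yh12 zh7) (kh xh16 yh17 zh10) (kh xh17 yh4 zh11) (kh xh15 yh18 zh20) (kh xh17 yh11 zh1) (kh xh15 yh18 zh21) (kh xh15 yh18 zh22) (kh xh17 yh7 zh7) (kh xh17 yh11 zh3) (kh xh15 yh18 zh23) (kh xh17 yh5 zh19) (kh xh15 yh18 zh24) (kh xh17 yh12 zh13) (kh xh17 yh12 zh15) (kh xh17 yh12 zh17) (kh xh16 yh15 zh25) (kh xh16 yh15 zh26) (kh xh16 yh15 zh27) (kh xh17 yh5 zh25) (kh xh16 yh8 zh28) (kh xh17 yh6 zh10) (kh xh17 yh6 zh11)) (@D3.rec (fun _ => Pt) (kh xh16 yh16 zh0) (kh xh15 yh19 zh16) (kh xh16 yh16 zh2) (kh xh15 yh19 zh18) (kh xh16 yh16 zh10) (kh xh16 yh16 zh11) (kh xh15 yh19 zh31) (kh xh15 yh20 zh0) (kh xh15 yh19 zh25) (kh xh15 yh19 zh26) (kh xh16 yh16 zh4) (kh xh16 yh16 zh5) (kh xh17 yh12 zh27) (kh xh17 yh12 zh28) (kh xh17 yh12 zh29)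 (kh xh15 yh20 zh7) (kh xh16 yh16 zh16) (kh xh16 yh16 zh17) (kh xh16 yh16 zh18) (kh xh17 yh13 zh9) (kh xh17 yh12 zh25) (kh xh17 yh12 zh26) (kh xh15 yh20 zh21) (kh xh15 yh20 zh22) (kh xh15 yh20 zh4) (kh xh15 yh20 zh5) (kh xh15 yh20 zh6) (kh xh17 yh13 zh14) (kh xh17 yh13 zh16) (kh xh17 yh13 zh17) (kh xh16 yh20 zh14) (kh xh16 yh20 zh15)) (@D3.rec (fun _ => Pt) (kh xh15 yh20 zh11) (kh xh15 yh20 zh12) (kh xh15 yh20 zh13) (kh xh17 yh13 zh23) (kh xh17 yh13 zh29) (kh xh17 yh13 zh25) (kh xh17 yh13 zh26) (kh xh17 yh14 zh1) (kh xh15 yh20 zh14) (kh xh16 yh10 zh26) (kh xh16 yh15 zh11) (kh xh16 yh20 zh8) (kh xh16 yh20 zh9) (kh xh15 yh20 zh26) (kh xh15 yh20 zh27) (kh xh17 yh13 zh11) (kh xh17 yh13 zh12) (kh xh17 yh13 zh13) (kh xh15 yh20 zh28) (kh xh15 yh20 zh29)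 (kh xh16 yh12 zh3) (kh xh15 yh20 zh30) (kh xh15 yh20 zh31) (kh xh17 yh14 zh6) (kh xh17 yh14 zh7) (kh xh17 yh14 zh13) (kh xh17 yh14 zh15) (kh xh17 yh14 zh17) (kh xh16 yh17 zh28) (kh xh16 yh17 zh29) (kh xh17 yh9 zh8) (kh xh15 yh21 zh6)) (@D3.rec (fun _ => Pt) (kh xh16 yh12 zh2) (kh xh15 yh21 zh7) (kh xh15 yh21 zh8) (kh xh17 yh14 zh23) (kh xh15 yh21 zh16) (kh xh15 yh21 zh17) (kh xh16 yh12 zh23) (kh xh16 yh12 zh24) (kh xh15 yh21 zh18) (kh xh15 yh21 zh19) (kh xh15 yh21 zh20) (kh xh16 yh8 zh20) (kh xh16 yh8 zh21) (kh xh17 yh5 zh7) (kh xh17 yh14 zh25) (kh xh17 yh14 zh26) (kh xh17 yh14 zh30) (kh xh17 yh14 zh31) (kh xh17 yh15 zh1) (kh xh17 yh15 zh2) (kh xh16 yh18 zh20) (kh xh17 yh5 zh27) (kh xh16 yh2 zh15) (kh xh16 yh2 zh16) (kh xh16 yh0 zh10) (kh xh16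 yh0 zh11) (kh xh16 yh0 zh2) (kh xh16 yh0 zh3) (kh xh16 yh0 zh16) (kh xh16 yh0 zh17) (kh xh17 yh2 zh9) (kh xh16 yh0 zh4)) (@D3.rec (fun _ => Pt) (kh xh16 yh0 zh5) (kh xh17 yh15 zh18) (kh xh17 yh15 zh19) (kh xh17 yh15 zh24) (kh xh16 yh10 zh27) (kh xh17 yh8 zh28) (kh xh16 yh0 zh23) (kh xh16 yh0 zh24) (kh xh17 yh7 zh19) (kh xh17 yh15 zh15) (kh xh17 yh15 zh16) (kh xh16 yh0 zh25) (kh xh16 yh3 zh12) (kh xh16 yh0 zh27) (kh xh16 yh0 zh28) (kh xh17 yh7 zh10) (kh xh17 yh7 zh23) (kh xh17 yh16 zh9) (kh xh17 yh15 zh21) (kh xh17 yh15 zh22) (kh xh16 yh0 zh29) (kh xh17 yh4 zh25) (kh xh16 yh0 zh30) (kh xh17 yh4 zh27) (kh xh16 yh0 zh31) (kh xh17 yh15 zh28) (kh xh17 yh15 zh29) (kh xh17 yh16 zh2) (kh xh17 yh16 zh19) (kh xh16 yh0 zh26) (kh xh17 yh16 zh4) (kh xh17 yh16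 zh12)) (@D3.rec (fun _ => Pt) (kh xh17 yh16 zh14) (kh xh17 yh7 zh17) (kh xh16 yh20 zh2) (kh xh17 yh16 zh22) (kh xh16 yh1 zh6) (kh xh17 yh5 zh6) (kh xh16 yh1 zh30) (kh xh16 yh1 zh31) (kh xh16 yh17 zh11) (kh xh16 yh17 zh12) (kh xh16 yh2 zh2) (kh xh16 yh2 zh3) (kh xh16 yh1 zh17) (kh xh16 yh1 zh18) (kh xh16 yh16 zh30) (kh xh16 yh16 zh31) (kh xh17 yh16 zh31) (kh xh17 yh17 zh0) (kh xh17 yh17 zh1) (kh xh16 yh2 zh13) (kh xh16 yh20 zh20) (kh xh16 yh20 zh21) (kh xh16 yh20 zh22) (kh xh17 yh8 zh29) (kh xh17 yh8 zh20) (kh xh17 yh8 zh21) (kh xh16 yh1 zh27) (kh xh16 yh1 zh28) (kh xh17 yh17 zh13) (kh xh17 yh17 zh14) (kh xh17 yh8 zh31) (kh xh17 yh16 zh23)) (@D3.rec (fun _ => Pt) (kh xh17 yh16 zh24) (kh xh16 yh2 zh1) (kh xh17 yh17 zh19) (kh xh17 yh17 zh22) (kh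 xh17 yh16 zh29) (kh xh17 yh16 zh30) (kh xh16 yh2 zh8) (kh xh16 yh2 zh9) (kh xh16 yh3 zh6) (kh xh16 yh3 zh7) (kh xh16 yh2 zh10) (kh xh16 yh2 zh11) (kh xh16 yh2 zh12) (kh xh17 yh17 zh24) (kh xh17 yh17 zh25) (kh xh17 yh17 zh28) (kh xh17 yh17 zh30) (kh xh17 yh17 zh31) (kh xh16 yh21 zh22) (kh xh17 yh15 zh13) (kh xh17 yh15 zh14) (kh xh17 yh2 zh23) (kh xh16 yh21 zh18) (kh xh17 yh5 zh10) (kh xh17 yh5 zh11) (kh xh17 yh8 zh16) (kh xh17 yh8 zh17) (kh xh16 yh2 zh25) (kh xh17 yh18 zh10) (kh xh17 yh5 zh12) (kh xh17 yh5 zh13) (kh xh16 yh2 zh30))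
def f_h_17 : D2 → D3 → Pt := @D2.rec (fun _ => D3 → Pt) (@D3.rec (fun _ => Pt) (kh xh16 yh2 zh31) (kh xh17 yh18 zh13) (kh xh17 yh18 zh14) (kh xh17 yh18 zh17) (kh xh16 yh3 zh0) (kh xh17 yh5 zh14) (kh xh16 yh3 zh11) (kh xh17 yh7 zh18) (kh xh16 yh3 zh13) (kh xh17 yh17 zh26) (kh xh17 yh17 zh27) (kh xh16 yh3 zh14) (kh xh16 yh3 zh15) (kh xh16 yh3 zh16) (kh xh16 yh3 zh17) (kh xh17 yh18 zh18) (kh xh17 yh16 zh3) (kh xh17 yh18 zh20) (kh xh17 yh18 zh23) (kh xh17 yh18 zh24) (kh xh17 yh18 zh25) (kh xh16 yh3 zh19) (kh xh16 yh4 zh9) (kh xh16 yh4 zh10) (kh xh16 yh4 zh16) (kh xh16 yh14 zh6) (kh xh16 yh4 zh17) (kh xh16 yh3 zh27) (kh xh17 yh19 zh2) (kh xh16 yh4 zh25) (kh xh16 yh4 zh1) (kh xh16 yh4 zh2)) (@D3.rec (fun _ => Pt) (kh xh16 yh4 zh3) (kh xh16 yh4 zh4)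 (kh xh16 yh4 zh5) (kh xh16 yh10 zh17) (kh xh17 yh19 zh4) (kh xh17 yh19 zh5) (kh xh17 yh10 zh17) (kh xh17 yh19 zh6) (kh xh17 yh19 zh8) (kh xh17 yh19 zh9) (kh xh17 yh19 zh17) (kh xh17 yh18 zh30) (kh xh17 yh18 zh31) (kh xh16 yh4 zh13) (kh xh16 yh4 zh14) (kh xh16 yh4 zh15) (kh xh17 yh19 zh18) (kh xh17 yh19 zh20) (kh xh17 yh19 zh21) (kh xh17 yh19 zh1) (kh xh16 yh4 zh22) (kh xh16 yh6 zh19) (kh xh16 yh6 zh20) (kh xh16 yh4 zh23) (kh xh16 yh4 zh24) (kh xh17 yh19 zh24) (kh xh17 yh19 zh27) (kh xh17 yh19 zh28) (kh xh16 yh13 zh26) (kh xh16 yh13 zh27) (kh xh16 yh5 zh4) (kh xh16 yh7 zh1)) (@D3.rec (fun _ => Pt) (kh xh16 yh7 zh2) (kh xh16 yh5 zh5) (kh xh16 yh5 zh6) (kh xh16 yh5 zh7) (kh xh16 yh7 zh6) (kh xh16 yh7 zh7) (kh xh16 yh7 zh8) (kh xh16 yh5 zh8) (kh xh16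 yh5 zh9) (kh xh16 yh18 zh30) (kh xh16 yh5 zh10) (kh xh16 yh5 zh11) (kh xh17 yh20 zh1) (kh xh17 yh20 zh5) (kh xh17 yh20 zh7) (kh xh17 yh20 zh8) (kh xh17 yh20 zh14) (kh xh17 yh20 zh16) (kh xh17 yh20 zh18) (kh xh16 yh5 zh14) (kh xh16 yh5 zh15) (kh xh17 yh20 zh25) (kh xh17 yh20 zh26) (kh xh16 yh21 zh21) (kh xh16 yh5 zh20) (kh xh16 yh5 zh21) (kh xh16 yh5 zh22) (kh xh17 yh20 zh28) (kh xh17 yh20 zh30) (kh xh17 yh20 zh31) (kh xh16 yh5 zh30) (kh xh16 yh5 zh31)) (@D3.rec (fun _ => Pt) (kh xh16 yh6 zh0) (kh xh16 yh6 zh1) (kh xh16 yh6 zh2) (kh xh16 yh6 zh3) (kh xh16 yh6 zh4) (kh xh16 yh6 zh5) (kh xh17 yh21 zh2) (kh xh17 yh21 zh3) (kh xh17 yh21 zh7) (kh xh17 yh21 zh5) (kh xh17 yh21 zh6) (kh xh17 yh21 zh8) (kh xh17 yh21 zh9) (kh xh16 yh6 zh10) (kh xh16 yh14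 zh3) (kh xh16 yh14 zh4) (kh xh16 yh6 zh11) (kh xh16 yh6 zh12) (kh xh17 yh21 zh15) (kh xh17 yh21 zh19) (kh xh17 yh21 zh20) (kh xh16 yh14 zh26) (kh xh16 yh14 zh27) (kh xh16 yh6 zh24) (kh xh16 yh6 zh25) (kh xh17 yh11 zh12) (kh xh17 yh11 zh13) (kh xh16 yh6 zh26) (kh xh16 yh6 zh27) (kh xh16 yh11 zh11) (kh xh17 yh19 zh25) (kh xh17 yh19 zh26)) (@D3.rec (fun _ => Pt) (kh xh16 yh6 zh28) (kh xh17 yh20 zh24) (kh xh16 yh6 zh29) (kh xh16 yh6 zh30) (kh xh17 yh21 zh25) (kh xh17 yh21 zh26) (kh xh18 yh0 zh11) (kh xh17 yh21 zh30) (kh xh17 yh21 zh31) (kh xh18 yh0 zh5) (kh xh18 yh0 zh7) (kh xh16 yh15 zh12) (kh xh16 yh7 zh14) (kh xh17 yh20 zh2) (kh xh17 yh20 zh3) (kh xh17 yh20 zh4) (kh xh16 yh7 zh15) (kh xh16 yh7 zh16) (kh xh16 yh7 zh17) (kh xh17 yh20 zh9) (kh xh17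 yh20 zh10) (kh xh18 yh0 zh25) (kh xh17 yh20 zh12) (kh xh17 yh20 zh13) (kh xh16 yh7 zh18) (kh xh16 yh19 zh21) (kh xh16 yh7 zh19) (kh xh16 yh19 zh23) (kh xh16 yh7 zh20) (kh xh18 yh0 zh15) (kh xh18 yh0 zh19) (kh xh18 yh0 zh20)) (@D3.rec (fun _ => Pt) (kh xh18 yh0 zh28) (kh xh18 yh0 zh31) (kh xh17 yh6 zh6) (kh xh17 yh5 zh3) (kh xh18 yh1 zh5) (kh xh16 yh7 zh27) (kh xh16 yh20 zh5) (kh xh16 yh18 zh13) (kh xh16 yh7 zh30) (kh xh16 yh8 zh0) (kh xh16 yh21 zh23) (kh xh16 yh21 zh24) (kh xh16 yh21 zh29) (kh xh16 yh21 zh30) (kh xh17 yh0 zh5) (kh xh16 yh8 zh9) (kh xh16 yh9 zh3) (kh xh16 yh9 zh4) (kh xh16 yh9 zh5) (kh xh16 yh15 zh20) (kh xh16 yh9 zh6) (kh xh17 yh9 zh19) (kh xh17 yh9 zh20) (kh xh16 yh9 zh7) (kh xh16 yh9 zh8) (kh xh16 yh15 zh28) (kh xh17 yh6 zh1)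 (kh xh16 yh18 zh21) (kh xh17 yh15 zh3) (kh xh17 yh15 zh4) (kh xh18 yh0 zh4) (kh xh16 yh9 zh11)) (@D3.rec (fun _ => Pt) (kh xh16 yh9 zh12) (kh xh17 yh5 zh26) (kh xh16 yh8 zh30) (kh xh16 yh13 zh6) (kh xh17 yh9 zh31) (kh xh17 yh10 zh0) (kh xh17 yh5 zh2) (kh xh17 yh12 zh4) (kh xh17 yh12 zh6) (kh xh18 yh1 zh30) (kh xh16 yh15 zh30) (kh xh16 yh15 zh31) (kh xh18 yh1 zh31) (kh xh18 yh1 zh10) (kh xh18 yh1 zh12) (kh xh18 yh1 zh13) (kh xh18 yh1 zh18) (kh xh18 yh1 zh19) (kh xh16 yh9 zh10) (kh xh18 yh2 zh10) (kh xh18 yh1 zh28) (kh xh17 yh7 zh20) (kh xh16 yh10 zh29) (kh xh16 yh9 zh18) (kh xh16 yh11 zh1) (kh xh16 yh9 zh19) (kh xh18 yh2 zh13) (kh xh16 yh9 zh22) (kh xh16 yh9 zh23) (kh xh18 yh2 zh16) (kh xh18 yh2 zh17) (kh xh16 yh9 zh27)) (@D3.rec (fun _ => Pt)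 (kh xh16 yh9 zh28) (kh xh18 yh2 zh20) (kh xh18 yh2 zh21) (kh xh18 yh2 zh24) (kh xh16 yh9 zh29) (kh xh17 yh7 zh16) (kh xh16 yh10 zh3) (kh xh16 yh15 zh17) (kh xh16 yh10 zh4) (kh xh18 yh2 zh26) (kh xh16 yh19 zh15) (kh xh17 yh9 zh18) (kh xh16 yh10 zh8) (kh xh16 yh10 zh9) (kh xh18 yh2 zh31) (kh xh18 yh3 zh0) (kh xh17 yh7 zh5) (kh xh16 yh20 zh1) (kh xh17 yh0 zh7) (kh xh16 yh19 zh8) (kh xh17 yh6 zh21) (kh xh16 yh10 zh20) (kh xh16 yh10 zh21) (kh xh16 yh19 zh16) (kh xh17 yh19 zh10) (kh xh17 yh20 zh15) (kh xh16 yh10 zh22) (kh xh16 yh10 zh23) (kh xh18 yh3 zh7) (kh xh18 yh3 zh8) (kh xh18 yh3 zh13) (kh xh18 yh3 zh15)) (@D3.rec (fun _ => Pt) (kh xh16 yh10 zh24) (kh xh18 yh0 zh0) (kh xh17 yh15 zh26) (kh xh16 yh11 zh5) (kh xh18 yh2 zh12) (kh xh16 yh11 zh6) (kh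 xh16 yh11 zh7) (kh xh17 yh9 zh9) (kh xh16 yh14 zh8) (kh xh18 yh2 zh14) (kh xh16 yh12 zh4) (kh xh16 yh11 zh8) (kh xh18 yh3 zh18) (kh xh18 yh3 zh20) (kh xh17 yh16 zh25) (kh xh16 yh11 zh17) (kh xh16 yh21 zh25) (kh xh16 yh21 zh26) (kh xh16 yh11 zh24) (kh xh16 yh11 zh25) (kh xh16 yh20 zh24) (kh xh16 yh20 zh25) (kh xh17 yh20 zh29) (kh xh16 yh11 zh26) (kh xh16 yh11 zh27) (kh xh18 yh3 zh26) (kh xh18 yh3 zh27) (kh xh18 yh4 zh0) (kh xh16 yh19 zh5) (kh xh16 yh20 zh23) (kh xh16 yh12 zh1) (kh xh16 yh20 zh30)) (@D3.rec (fun _ => Pt) (kh xh17 yh14 zh22) (kh xh17 yh14 zh14) (kh xh17 yh14 zh16) (kh xh18 yh3 zh23) (kh xh16 yh12 zh8) (kh xh18 yh4 zh7) (kh xh16 yh13 zh13) (kh xh16 yh12 zh14) (kh xh16 yh17 zh30) (kh xh17 yh8 zh7) (kh xh16 yh12 zh15) (kh xh16 yh12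 zh16) (kh xh16 yh12 zh17) (kh xh18 yh4 zh9) (kh xh18 yh4 zh13) (kh xh18 yh4 zh14) (kh xh18 yh4 zh16) (kh xh18 yh4 zh17) (kh xh17 yh7 zh11) (kh xh17 yh5 zh21) (kh xh17 yh5 zh22) (kh xh16 yh12 zh30) (kh xh16 yh12 zh31) (kh xh16 yh13 zh0) (kh xh17 yh14 zh27) (kh xh17 yh14 zh28) (kh xh17 yh14 zh29) (kh xh16 yh13 zh1) (kh xh16 yh13 zh2) (kh xh16 yh13 zh3) (kh xh16 yh13 zh4) (kh xh17 yh6 zh4)) (@D3.rec (fun _ => Pt) (kh xh17 yh6 zh5) (kh xh18 yh2 zh7) (kh xh18 yh4 zh26) (kh xh18 yh2 zh0) (kh xh18 yh4 zh28) (kh xh18 yh4 zh29) (kh xh18 yh5 zh2) (kh xh18 yh5 zh3) (kh xh18 yh5 zh4) (kh xh16 yh14 zh16) (kh xh16 yh14 zh17) (kh xh16 yh13 zh10) (kh xh16 yh13 zh11) (kh xh16 yh13 zh12) (kh xh18 yh5 zh15) (kh xh18 yh5 zh17) (kh xh18 yh5 zh18) (kh xh17 yh1 zh6)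 (kh xh17 yh11 zh14) (kh xh16 yh14 zh29) (kh xh16 yh13 zh22) (kh xh16 yh13 zh23) (kh xh16 yh15 zh0) (kh xh16 yh15 zh1) (kh xh17 yh19 zh19) (kh xh16 yh13 zh24) (kh xh16 yh13 zh25) (kh xh18 yh5 zh25) (kh xh18 yh5 zh26) (kh xh18 yh5 zh31) (kh xh17 yh19 zh31) (kh xh17 yh20 zh0)) (@D3.rec (fun _ => Pt) (kh xh16 yh14 zh1) (kh xh16 yh15 zh14) (kh xh16 yh14 zh2) (kh xh16 yh15 zh18) (kh xh18 yh6 zh3) (kh xh17 yh21 zh16) (kh xh17 yh21 zh17) (kh xh16 yh14 zh10) (kh xh17 yh19 zh0) (kh xh16 yh14 zh11) (kh xh18 yh3 zh22) (kh xh18 yh6 zh7) (kh xh17 yh3 zh25) (kh xh17 yh3 zh26) (kh xh17 yh10 zh18) (kh xh16 yh14 zh21) (kh xh16 yh14 zh22) (kh xh18 yh5 zh12) (kh xh18 yh5 zh13) (kh xh18 yh5 zh14) (kh xh16 yh14 zh23) (kh xh16 yh14 zh24) (kh xh16 yh14 zh25) (kh xh18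 yh6 zh12) (kh xh18 yh6 zh13) (kh xh18 yh6 zh17) (kh xh18 yh6 zh18) (kh xh17 yh21 zh23) (kh xh17 yh21 zh24) (kh xh16 yh15 zh6) (kh xh18 yh5 zh23) (kh xh16 yh15 zh7)) (@D3.rec (fun _ => Pt) (kh xh16 yh15 zh8) (kh xh18 yh1 zh20) (kh xh18 yh5 zh28) (kh xh18 yh5 zh29) (kh xh17 yh6 zh7) (kh xh16 yh15 zh9) (kh xh17 yh6 zh8) (kh xh16 yh15 zh10) (kh xh18 yh6 zh23) (kh xh18 yh6 zh25) (kh xh18 yh6 zh29) (kh xh17 yh14 zh3) (kh xh18 yh0 zh14) (kh xh16 yh15 zh22) (kh xh18 yh6 zh4) (kh xh16 yh15 zh23) (kh xh18 yh2 zh27) (kh xh16 yh15 zh24) (kh xh18 yh1 zh14) (kh xh17 yh12 zh19) (kh xh17 yh12 zh20) (kh xh17 yh12 zh30) (kh xh17 yh12 zh31) (kh xh17 yh13 zh0) (kh xh18 yh7 zh6) (kh xh16 yh16 zh20) (kh xh16 yh16 zh21) (kh xh16 yh16 zh12) (kh xh16 yh16 zh13) (kh xh16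 yh16 zh14) (kh xh17 yh12 zh21) (kh xh17 yh12 zh22)) (@D3.rec (fun _ => Pt) (kh xh17 yh12 zh23) (kh xh18 yh7 zh8) (kh xh18 yh7 zh9) (kh xh18 yh7 zh11) (kh xh18 yh7 zh12) (kh xh17 yh13 zh5) (kh xh17 yh13 zh6) (kh xh18 yh1 zh22) (kh xh18 yh7 zh23) (kh xh16 yh16 zh19) (kh xh18 yh7 zh7) (kh xh16 yh17 zh15) (kh xh16 yh17 zh16) (kh xh16 yh17 zh17) (kh xh16 yh16 zh27) (kh xh17 yh17 zh29) (kh xh16 yh16 zh28) (kh xh16 yh16 zh29) (kh xh18 yh7 zh30) (kh xh18 yh8 zh0) (kh xh17 yh17 zh2) (kh xh17 yh17 zh3) (kh xh17 yh17 zh4) (kh xh16 yh17 zh3) (kh xh18 yh8 zh9) (kh xh16 yh17 zh5) (kh xh16 yh17 zh6) (kh xh18 yh8 zh7) (kh xh18 yh8 zh13) (kh xh16 yh17 zh4) (kh xh18 yh8 zh10) (kh xh18 yh8 zh16)) (@D3.rec (fun _ => Pt) (kh xh18 yh8 zh17) (kh xh16 yh17 zh7) (kh xh18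 yh7 zh24) (kh xh17 yh12 zh11) (kh xh17 yh16 zh26) (kh xh17 yh16 zh27) (kh xh16 yh17 zh23) (kh xh16 yh17 zh24) (kh xh18 yh1 zh7) (kh xh18 yh7 zh25) (kh xh18 yh4 zh11) (kh xh18 yh7 zh27) (kh xh18 yh7 zh28) (kh xh16 yh17 zh25) (kh xh17 yh9 zh1) (kh xh16 yh17 zh26) (kh xh17 yh9 zh2) (kh xh16 yh17 zh27) (kh xh18 yh8 zh22) (kh xh18 yh8 zh30) (kh xh17 yh14 zh20) (kh xh18 yh4 zh10) (kh xh17 yh9 zh0) (kh xh16 yh18 zh3) (kh xh17 yh17 zh5) (kh xh16 yh18 zh14) (kh xh16 yh18 zh15) (kh xh17 yh9 zh24) (kh xh17 yh9 zh25) (kh xh17 yh9 zh26) (kh xh16 yh18 zh16) (kh xh16 yh18 zh17)) (@D3.rec (fun _ => Pt) (kh xh17 yh19 zh7) (kh xh16 yh18 zh18) (kh xh16 yh18 zh19) (kh xh17 yh5 zh28) (kh xh17 yh5 zh29) (kh xh18 yh1 zh6) (kh xh18 yh0 zh29) (kh xh18 yh1 zh23) (kh xh18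 yh9 zh2) (kh xh18 yh9 zh3) (kh xh18 yh9 zh9) (kh xh18 yh9 zh11) (kh xh18 yh9 zh13) (kh xh16 yh21 zh19) (kh xh16 yh21 zh20) (kh xh16 yh19 zh9) (kh xh16 yh19 zh10) (kh xh18 yh2 zh15) (kh xh16 yh19 zh1) (kh xh16 yh19 zh2) (kh xh18 yh9 zh31) (kh xh16 yh19 zh18) (kh xh16 yh19 zh19) (kh xh17 yh20 zh17) (kh xh16 yh19 zh3) (kh xh18 yh9 zh29) (kh xh17 yh8 zh2) (kh xh18 yh4 zh2) (kh xh16 yh19 zh25) (kh xh16 yh19 zh26) (kh xh18 yh3 zh4) (kh xh18 yh3 zh2)) (@D3.rec (fun _ => Pt) (kh xh18 yh9 zh26) (kh xh18 yh9 zh27) (kh xh16 yh19 zh27) (kh xh17 yh0 zh16) (kh xh16 yh19 zh30) (kh xh18 yh2 zh28) (kh xh18 yh10 zh13) (kh xh18 yh3 zh10) (kh xh18 yh10 zh16) (kh xh16 yh19 zh17) (kh xh18 yh10 zh0) (kh xh18 yh0 zh27) (kh xh16 yh19 zh31) (kh xh18 yh0 zh30) (kh xh16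 yh20 zh0) (kh xh18 yh1 zh0) (kh xh18 yh10 zh4) (kh xh18 yh10 zh8) (kh xh18 yh10 zh20) (kh xh16 yh19 zh28) (kh xh18 yh10 zh18) (kh xh18 yh10 zh21) (kh xh16 yh20 zh3) (kh xh16 yh20 zh31) (kh xh16 yh21 zh0) (kh xh17 yh8 zh14) (kh xh17 yh14 zh4) (kh xh17 yh14 zh5) (kh xh18 yh10 zh30) (kh xh16 yh21 zh4) (kh xh16 yh21 zh5) (kh xh16 yh20 zh16)) (@D3.rec (fun _ => Pt) (kh xh16 yh20 zh17) (kh xh16 yh20 zh18) (kh xh17 yh13 zh20) (kh xh17 yh13 zh21) (kh xh17 yh13 zh22) (kh xh17 yh14 zh24) (kh xh18 yh11 zh0) (kh xh18 yh11 zh2) (kh xh18 yh11 zh3) (kh xh18 yh11 zh11) (kh xh18 yh4 zh3) (kh xh18 yh3 zh29) (kh xh18 yh3 zh30) (kh xh16 yh20 zh28) (kh xh16 yh20 zh29) (kh xh18 yh11 zh14) (kh xh18 yh11 zh15) (kh xh18 yh10 zh23) (kh xh18 yh10 zh24) (kh xh16 yh21 zh2)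 (kh xh18 yh11 zh18) (kh xh18 yh11 zh20) (kh xh16 yh21 zh3) (kh xh18 yh10 zh31) (kh xh16 yh21 zh13) (kh xh16 yh21 zh14) (kh xh17 yh0 zh9) (kh xh17 yh0 zh10) (kh xh16 yh21 zh15) (kh xh17 yh13 zh15) (kh xh16 yh21 zh16) (kh xh16 yh21 zh17)) (@D3.rec (fun _ => Pt) (kh xh18 yh11 zh22) (kh xh18 yh11 zh23) (kh xh18 yh11 zh28) (kh xh18 yh11 zh30) (kh xh17 yh18 zh7) (kh xh18 yh9 zh23) (kh xh18 yh9 zh24) (kh xh17 yh18 zh4) (kh xh18 yh1 zh8) (kh xh18 yh3 zh24) (kh xh16 yh21 zh28) (kh xh18 yh12 zh2) (kh xh18 yh1 zh9) (kh xh17 yh0 zh1) (kh xh17 yh0 zh2) (kh xh18 yh12 zh3) (kh xh18 yh12 zh4) (kh xh17 yh0 zh3) (kh xh17 yh0 zh15) (kh xh18 yh3 zh3) (kh xh17 yh0 zh17) (kh xh18 yh11 zh25) (kh xh18 yh11 zh26) (kh xh17 yh0 zh18) (kh xh17 yh0 zh19) (kh xh17 yh0 zh20)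 (kh xh18 yh12 zh5) (kh xh18 yh10 zh9) (kh xh18 yh12 zh8) (kh xh18 yh12 zh9) (kh xh17 yh1 zh11) (kh xh17 yh1 zh12)) (@D3.rec (fun _ => Pt) (kh xh17 yh11 zh8) (kh xh17 yh1 zh19) (kh xh17 yh0 zh28) (kh xh18 yh12 zh12) (kh xh17 yh1 zh4) (kh xh17 yh1 zh5) (kh xh17 yh1 zh7) (kh xh17 yh15 zh0) (kh xh17 yh1 zh8) (kh xh17 yh1 zh9) (kh xh17 yh7 zh24) (kh xh18 yh12 zh22) (kh xh18 yh12 zh14) (kh xh18 yh12 zh15) (kh xh18 yh5 zh21) (kh xh18 yh12 zh17) (kh xh18 yh12 zh19) (kh xh17 yh1 zh10) (kh xh17 yh1 zh16) (kh xh17 yh10 zh24) (kh xh17 yh1 zh17) (kh xh17 yh1 zh18) (kh xh18 yh12 zh27) (kh xh18 yh12 zh29) (kh xh17 yh1 zh25) (kh xh17 yh3 zh30) (kh xh17 yh3 zh31) (kh xh17 yh1 zh26) (kh xh17 yh1 zh27) (kh xh18 yh12 zh31) (kh xh18 yh13 zh2) (kh xh17 yh10 zh30))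 (@D3.rec (fun _ => Pt) (kh xh17 yh10 zh31) (kh xh17 yh2 zh12) (kh xh17 yh4 zh13) (kh xh17 yh4 zh14) (kh xh17 yh4 zh15) (kh xh17 yh2 zh13) (kh xh18 yh3 zh28) (kh xh17 yh2 zh14) (kh xh17 yh2 zh15) (kh xh17 yh4 zh19) (kh xh17 yh4 zh20) (kh xh18 yh13 zh19) (kh xh17 yh4 zh22) (kh xh17 yh4 zh23) (kh xh17 yh2 zh16) (kh xh17 yh7 zh25) (kh xh17 yh2 zh17) (kh xh17 yh15 zh23) (kh xh17 yh2 zh18) (kh xh18 yh13 zh6) (kh xh18 yh13 zh12) (kh xh18 yh13 zh14) (kh xh18 yh13 zh22) (kh xh18 yh13 zh24) (kh xh17 yh4 zh1) (kh xh17 yh2 zh21) (kh xh17 yh2 zh22) (kh xh18 yh13 zh30) (kh xh17 yh2 zh27) (kh xh17 yh8 zh22) (kh xh17 yh2 zh28) (kh xh17 yh2 zh29)) (@D3.rec (fun _ => Pt) (kh xh18 yh14 zh0) (kh xh18 yh14 zh2) (kh xh17 yh3 zh6) (kh xh17 yh3 zh7) (kh xh18 yh2 zh4)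 (kh xh17 yh3 zh9) (kh xh17 yh3 zh10) (kh xh17 yh3 zh8) (kh xh17 yh3 zh11) (kh xh17 yh3 zh12) (kh xh18 yh14 zh4) (kh xh18 yh14 zh5) (kh xh18 yh14 zh8) (kh xh18 yh14 zh7) (kh xh18 yh14 zh9) (kh xh17 yh3 zh18) (kh xh17 yh11 zh5) (kh xh17 yh11 zh6) (kh xh18 yh9 zh22) (kh xh17 yh3 zh19) (kh xh17 yh3 zh20) (kh xh18 yh14 zh12) (kh xh18 yh14 zh17) (kh xh17 yh11 zh27) (kh xh17 yh11 zh28) (kh xh17 yh4 zh4) (kh xh17 yh4 zh5) (kh xh18 yh6 zh9) (kh xh18 yh6 zh10) (kh xh18 yh14 zh28) (kh xh17 yh4 zh7) (kh xh17 yh4 zh8))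
def f_h_18 : D2 → D3 → Pt := @D2.rec (fun _ => D3 → Pt) (@D3.rec (fun _ => Pt) (kh xh17 yh8 zh1) (kh xh18 yh13 zh3) (kh xh18 yh13 zh0) (kh xh18 yh13 zh1) (kh xh17 yh5 zh30) (kh xh17 yh4 zh9) (kh xh18 yh13 zh29) (kh xh17 yh4 zh10) (kh xh18 yh14 zh22) (kh xh18 yh14 zh23) (kh xh18 yh15 zh9) (kh xh17 yh4 zh6) (kh xh18 yh14 zh29) (kh xh18 yh15 zh4) (kh xh17 yh12 zh12) (kh xh17 yh4 zh29) (kh xh18 yh13 zh7) (kh xh18 yh13 zh9) (kh xh18 yh13 zh10) (kh xh17 yh4 zh30) (kh xh17 yh4 zh31) (kh xh18 yh13 zh15) (kh xh18 yh15 zh18) (kh xh18 yh13 zh17) (kh xh18 yh15 zh21) (kh xh17 yh4 zh21) (kh xh18 yh13 zh20) (kh xh17 yh16 zh11) (kh xh17 yh5 zh0) (kh xh17 yh15 zh6) (kh xh17 yh16 zh13) (kh xh17 yh5 zh1)) (@D3.rec (fun _ => Pt) (kh xh17 yh16 zh15) (kh xh18 yh15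 zh13) (kh xh18 yh15 zh24) (kh xh18 yh15 zh28) (kh xh18 yh4 zh23) (kh xh17 yh5 zh4) (kh xh17 yh15 zh5) (kh xh17 yh14 zh8) (kh xh17 yh18 zh8) (kh xh17 yh18 zh12) (kh xh17 yh6 zh13) (kh xh18 yh13 zh31) (kh xh17 yh6 zh14) (kh xh17 yh6 zh15) (kh xh17 yh12 zh18) (kh xh18 yh4 zh24) (kh xh18 yh4 zh25) (kh xh18 yh13 zh11) (kh xh17 yh6 zh16) (kh xh17 yh6 zh17) (kh xh17 yh12 zh1) (kh xh18 yh1 zh29) (kh xh17 yh13 zh7) (kh xh17 yh15 zh7) (kh xh18 yh15 zh2) (kh xh18 yh9 zh14) (kh xh18 yh9 zh15) (kh xh18 yh15 zh3) (kh xh17 yh6 zh20) (kh xh18 yh1 zh21) (kh xh17 yh6 zh9) (kh xh17 yh6 zh12)) (@D3.rec (fun _ => Pt) (kh xh17 yh10 zh3) (kh xh18 yh16 zh15) (kh xh18 yh5 zh5) (kh xh18 yh5 zh6) (kh xh17 yh21 zh4) (kh xh18 yh6 zh28) (kh xh18 yh6 zh30) (kh xh17 yh10 zh1)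 (kh xh18 yh15 zh30) (kh xh18 yh16 zh3) (kh xh17 yh6 zh19) (kh xh18 yh3 zh5) (kh xh17 yh8 zh4) (kh xh17 yh6 zh26) (kh xh17 yh8 zh9) (kh xh17 yh15 zh17) (kh xh17 yh6 zh29) (kh xh17 yh6 zh30) (kh xh18 yh16 zh25) (kh xh18 yh12 zh26) (kh xh17 yh7 zh1) (kh xh17 yh7 zh2) (kh xh18 yh16 zh27) (kh xh18 yh16 zh28) (kh xh17 yh7 zh3) (kh xh18 yh10 zh25) (kh xh17 yh7 zh9) (kh xh17 yh12 zh16) (kh xh17 yh16 zh5) (kh xh18 yh4 zh22) (kh xh18 yh13 zh21) (kh xh17 yh7 zh14)) (@D3.rec (fun _ => Pt) (kh xh17 yh7 zh15) (kh xh18 yh17 zh2) (kh xh17 yh15 zh31) (kh xh17 yh18 zh19) (kh xh17 yh15 zh30) (kh xh18 yh2 zh11) (kh xh18 yh10 zh22) (kh xh17 yh7 zh28) (kh xh17 yh7 zh29) (kh xh18 yh17 zh12) (kh xh17 yh16 zh7) (kh xh18 yh12 zh20) (kh xh18 yh13 zh23) (kh xh17 yh7 zh30)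 (kh xh18 yh17 zh10) (kh xh17 yh7 zh31) (kh xh18 yh14 zh31) (kh xh18 yh10 zh3) (kh xh17 yh8 zh12) (kh xh18 yh16 zh23) (kh xh17 yh8 zh13) (kh xh18 yh4 zh12) (kh xh17 yh11 zh10) (kh xh17 yh9 zh3) (kh xh17 yh18 zh9) (kh xh18 yh11 zh21) (kh xh17 yh8 zh25) (kh xh17 yh8 zh26) (kh xh17 yh20 zh6) (kh xh17 yh17 zh11) (kh xh17 yh17 zh12) (kh xh18 yh14 zh1)) (@D3.rec (fun _ => Pt) (kh xh17 yh8 zh27) (kh xh18 yh17 zh19) (kh xh17 yh15 zh27) (kh xh17 yh17 zh10) (kh xh18 yh8 zh28) (kh xh18 yh8 zh29) (kh xh18 yh8 zh31) (kh xh17 yh9 zh5) (kh xh18 yh17 zh26) (kh xh17 yh9 zh13) (kh xh17 yh14 zh21) (kh xh17 yh14 zh10) (kh xh18 yh3 zh21) (kh xh17 yh9 zh14) (kh xh17 yh9 zh15) (kh xh18 yh11 zh24) (kh xh17 yh9 zh16) (kh xh17 yh9 zh17) (kh xh18 yh17 zh27) (kh xh18 yh18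 zh1) (kh xh18 yh18 zh3) (kh xh18 yh18 zh5) (kh xh18 yh2 zh29) (kh xh18 yh1 zh4) (kh xh18 yh1 zh15) (kh xh18 yh1 zh16) (kh xh17 yh10 zh2) (kh xh18 yh16 zh16) (kh xh17 yh10 zh4) (kh xh17 yh10 zh5) (kh xh18 yh9 zh4) (kh xh18 yh9 zh5)) (@D3.rec (fun _ => Pt) (kh xh18 yh9 zh7) (kh xh18 yh9 zh8) (kh xh17 yh10 zh6) (kh xh17 yh10 zh7) (kh xh17 yh10 zh8) (kh xh18 yh2 zh2) (kh xh18 yh2 zh3) (kh xh18 yh18 zh12) (kh xh18 yh16 zh17) (kh xh18 yh18 zh14) (kh xh18 yh18 zh18) (kh xh18 yh18 zh19) (kh xh17 yh11 zh17) (kh xh17 yh11 zh18) (kh xh17 yh11 zh19) (kh xh17 yh10 zh14) (kh xh18 yh11 zh13) (kh xh17 yh10 zh15) (kh xh17 yh10 zh16) (kh xh18 yh18 zh29) (kh xh18 yh18 zh31) (kh xh17 yh19 zh14) (kh xh18 yh6 zh11) (kh xh17 yh11 zh30) (kh xh18 yh18 zh28) (kh xh17 yh10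 zh27) (kh xh17 yh10 zh28) (kh xh18 yh16 zh4) (kh xh17 yh12 zh2) (kh xh17 yh12 zh3) (kh xh18 yh12 zh28) (kh xh17 yh10 zh29)) (@D3.rec (fun _ => Pt) (kh xh18 yh19 zh6) (kh xh18 yh13 zh4) (kh xh18 yh13 zh5) (kh xh17 yh11 zh4) (kh xh17 yh12 zh14) (kh xh18 yh14 zh14) (kh xh18 yh14 zh15) (kh xh17 yh11 zh11) (kh xh18 yh12 zh11) (kh xh17 yh21 zh27) (kh xh17 yh21 zh28) (kh xh18 yh5 zh22) (kh xh17 yh11 zh23) (kh xh17 yh11 zh24) (kh xh18 yh18 zh24) (kh xh18 yh18 zh26) (kh xh18 yh18 zh27) (kh xh17 yh11 zh25) (kh xh17 yh11 zh26) (kh xh18 yh19 zh16) (kh xh18 yh19 zh19) (kh xh18 yh14 zh19) (kh xh18 yh14 zh20) (kh xh17 yh12 zh8) (kh xh18 yh19 zh4) (kh xh17 yh12 zh9) (kh xh18 yh16 zh5) (kh xh18 yh19 zh8) (kh xh18 yh2 zh5) (kh xh17 yh12 zh10) (kh xh18 yh2 zh6)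 (kh xh18 yh8 zh19)) (@D3.rec (fun _ => Pt) (kh xh18 yh7 zh13) (kh xh18 yh7 zh14) (kh xh18 yh19 zh27) (kh xh18 yh7 zh16) (kh xh18 yh7 zh17) (kh xh18 yh19 zh31) (kh xh17 yh12 zh24) (kh xh17 yh13 zh10) (kh xh17 yh13 zh1) (kh xh17 yh13 zh2) (kh xh18 yh11 zh1) (kh xh17 yh13 zh3) (kh xh17 yh13 zh4) (kh xh18 yh7 zh0) (kh xh18 yh7 zh1) (kh xh18 yh16 zh7) (kh xh18 yh7 zh3) (kh xh18 yh7 zh4) (kh xh18 yh20 zh1) (kh xh18 yh20 zh3) (kh xh18 yh20 zh5) (kh xh18 yh15 zh27) (kh xh18 yh20 zh13) (kh xh17 yh13 zh8) (kh xh17 yh14 zh2) (kh xh17 yh14 zh9) (kh xh18 yh17 zh30) (kh xh17 yh14 zh11) (kh xh17 yh14 zh12) (kh xh18 yh11 zh27) (kh xh17 yh13 zh18) (kh xh18 yh11 zh29)) (@D3.rec (fun _ => Pt) (kh xh17 yh13 zh19) (kh xh18 yh20 zh21) (kh xh18 yh11 zh4) (kh xh18 yh20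 zh27) (kh xh18 yh11 zh6) (kh xh18 yh11 zh7) (kh xh18 yh14 zh21) (kh xh17 yh13 zh27) (kh xh18 yh21 zh1) (kh xh17 yh13 zh24) (kh xh17 yh13 zh30) (kh xh18 yh20 zh30) (kh xh18 yh21 zh3) (kh xh17 yh13 zh28) (kh xh18 yh11 zh8) (kh xh18 yh21 zh5) (kh xh17 yh13 zh31) (kh xh17 yh14 zh0) (kh xh18 yh20 zh14) (kh xh18 yh6 zh31) (kh xh18 yh10 zh27) (kh xh18 yh10 zh28) (kh xh17 yh14 zh18) (kh xh18 yh15 zh10) (kh xh18 yh17 zh29) (kh xh18 yh20 zh16) (kh xh18 yh17 zh31) (kh xh18 yh20 zh18) (kh xh18 yh4 zh4) (kh xh18 yh4 zh5) (kh xh17 yh14 zh19) (kh xh18 yh4 zh6)) (@D3.rec (fun _ => Pt) (kh xh18 yh17 zh28) (kh xh18 yh16 zh8) (kh xh17 yh15 zh8) (kh xh17 yh15 zh9) (kh xh18 yh4 zh30) (kh xh18 yh4 zh31) (kh xh18 yh18 zh25) (kh xh18 yh5 zh0) (kh xh18 yh5 zh1) (kh xh17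 yh15 zh10) (kh xh18 yh12 zh16) (kh xh17 yh15 zh11) (kh xh18 yh12 zh18) (kh xh17 yh15 zh12) (kh xh18 yh1 zh25) (kh xh18 yh1 zh26) (kh xh18 yh15 zh22) (kh xh18 yh15 zh25) (kh xh18 yh16 zh9) (kh xh18 yh21 zh16) (kh xh18 yh21 zh23) (kh xh18 yh21 zh25) (kh xh17 yh21 zh18) (kh xh17 yh18 zh5) (kh xh17 yh18 zh6) (kh xh18 yh17 zh3) (kh xh17 yh16 zh0) (kh xh17 yh16 zh1) (kh xh18 yh16 zh24) (kh xh17 yh15 zh25) (kh xh19 yh0 zh9) (kh xh17 yh15 zh20)) (@D3.rec (fun _ => Pt) (kh xh17 yh16 zh10) (kh xh18 yh13 zh25) (kh xh18 yh13 zh26) (kh xh18 yh3 zh17) (kh xh17 yh16 zh16) (kh xh18 yh17 zh7) (kh xh18 yh17 zh4) (kh xh19 yh0 zh4) (kh xh17 yh16 zh17) (kh xh17 yh18 zh27) (kh xh19 yh0 zh14) (kh xh18 yh16 zh31) (kh xh19 yh0 zh17) (kh xh17 yh16 zh6) (kh xh18 yh17 zh13)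 (kh xh19 yh0 zh18) (kh xh17 yh16 zh8) (kh xh18 yh15 zh23) (kh xh17 yh16 zh20) (kh xh18 yh15 zh26) (kh xh17 yh16 zh18) (kh xh17 yh16 zh21) (kh xh18 yh3 zh6) (kh xh17 yh17 zh17) (kh xh17 yh17 zh18) (kh xh18 yh2 zh25) (kh xh18 yh13 zh8) (kh xh18 yh8 zh20) (kh xh18 yh8 zh21) (kh xh19 yh0 zh28) (kh xh17 yh16 zh28) (kh xh17 yh17 zh23)) (@D3.rec (fun _ => Pt) (kh xh17 yh17 zh6) (kh xh18 yh7 zh10) (kh xh17 yh17 zh7) (kh xh17 yh17 zh8) (kh xh18 yh8 zh2) (kh xh19 yh1 zh3) (kh xh18 yh8 zh4) (kh xh18 yh8 zh5) (kh xh18 yh8 zh14) (kh xh19 yh0 zh30) (kh xh19 yh1 zh0) (kh xh17 yh17 zh9) (kh xh18 yh17 zh21) (kh xh18 yh5 zh16) (kh xh17 yh17 zh15) (kh xh17 yh17 zh16) (kh xh19 yh1 zh8) (kh xh19 yh0 zh21) (kh xh17 yh17 zh20) (kh xh19 yh1 zh9) (kh xh17 yh17 zh21) (kh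 xh18 yh3 zh25) (kh xh17 yh18 zh0) (kh xh17 yh18 zh1) (kh xh18 yh4 zh15) (kh xh17 yh18 zh21) (kh xh17 yh18 zh22) (kh xh18 yh7 zh29) (kh xh17 yh18 zh2) (kh xh18 yh7 zh31) (kh xh17 yh18 zh3) (kh xh19 yh1 zh11)) (@D3.rec (fun _ => Pt) (kh xh19 yh1 zh15) (kh xh19 yh0 zh2) (kh xh17 yh18 zh11) (kh xh17 yh18 zh15) (kh xh17 yh18 zh16) (kh xh17 yh18 zh26) (kh xh18 yh17 zh5) (kh xh19 yh1 zh13) (kh xh17 yh18 zh28) (kh xh17 yh18 zh29) (kh xh19 yh1 zh18) (kh xh18 yh6 zh8) (kh xh17 yh19 zh3) (kh xh19 yh1 zh20) (kh xh17 yh19 zh12) (kh xh17 yh19 zh13) (kh xh18 yh9 zh10) (kh xh17 yh19 zh15) (kh xh18 yh9 zh12) (kh xh17 yh19 zh16) (kh xh18 yh3 zh11) (kh xh19 yh1 zh27) (kh xh17 yh19 zh11) (kh xh19 yh1 zh21) (kh xh18 yh19 zh2) (kh xh19 yh1 zh23) (kh xh18 yh2 zh19)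 (kh xh17 yh19 zh22) (kh xh18 yh5 zh30) (kh xh17 yh19 zh23) (kh xh19 yh1 zh30) (kh xh17 yh19 zh29)) (@D3.rec (fun _ => Pt) (kh xh18 yh0 zh2) (kh xh18 yh0 zh3) (kh xh17 yh19 zh30) (kh xh18 yh0 zh1) (kh xh18 yh6 zh1) (kh xh18 yh6 zh2) (kh xh17 yh20 zh19) (kh xh18 yh0 zh16) (kh xh18 yh10 zh26) (kh xh18 yh0 zh17) (kh xh18 yh0 zh18) (kh xh18 yh1 zh17) (kh xh17 yh20 zh20) (kh xh18 yh17 zh20) (kh xh17 yh20 zh21) (kh xh18 yh0 zh21) (kh xh19 yh2 zh16) (kh xh18 yh0 zh23) (kh xh19 yh2 zh20) (kh xh17 yh20 zh11) (kh xh18 yh0 zh26) (kh xh18 yh2 zh30) (kh xh17 yh20 zh22) (kh xh18 yh3 zh12) (kh xh17 yh20 zh23) (kh xh18 yh10 zh1) (kh xh18 yh10 zh2) (kh xh19 yh2 zh10) (kh xh19 yh2 zh22) (kh xh18 yh0 zh6) (kh xh17 yh20 zh27) (kh xh18 yh1 zh11)) (@D3.rec (fun _ =>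 Pt) (kh xh17 yh21 zh0) (kh xh18 yh3 zh31) (kh xh17 yh21 zh1) (kh xh19 yh2 zh29) (kh xh17 yh21 zh10) (kh xh17 yh21 zh11) (kh xh18 yh16 zh20) (kh xh17 yh21 zh13) (kh xh17 yh21 zh12) (kh xh17 yh21 zh14) (kh xh19 yh3 zh0) (kh xh19 yh3 zh2) (kh xh17 yh21 zh21) (kh xh18 yh17 zh6) (kh xh18 yh6 zh5) (kh xh18 yh6 zh6) (kh xh19 yh0 zh1) (kh xh17 yh21 zh22) (kh xh18 yh18 zh2) (kh xh18 yh6 zh21) (kh xh18 yh6 zh22) (kh xh18 yh8 zh6) (kh xh18 yh0 zh8) (kh xh18 yh0 zh9) (kh xh18 yh20 zh19) (kh xh18 yh19 zh13) (kh xh18 yh19 zh14) (kh xh19 yh3 zh15) (kh xh17 yh21 zh29) (kh xh18 yh0 zh12) (kh xh18 yh20 zh0) (kh xh18 yh3 zh16)) (@D3.rec (fun _ => Pt) (kh xh19 yh2 zh2) (kh xh19 yh2 zh1) (kh xh18 yh1 zh24) (kh xh18 yh1 zh27) (kh xh18 yh0 zh13) (kh xh19 yh2 zh26) (kh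 xh19 yh2 zh27) (kh xh19 yh3 zh10) (kh xh19 yh3 zh26) (kh xh18 yh0 zh10) (kh xh18 yh8 zh23) (kh xh19 yh2 zh5) (kh xh19 yh2 zh7) (kh xh18 yh1 zh1) (kh xh19 yh3 zh31) (kh xh19 yh2 zh14) (kh xh18 yh18 zh9) (kh xh19 yh4 zh3) (kh xh18 yh0 zh22) (kh xh19 yh2 zh17) (kh xh19 yh4 zh4) (kh xh18 yh0 zh24) (kh xh18 yh9 zh16) (kh xh18 yh10 zh17) (kh xh18 yh1 zh2) (kh xh18 yh9 zh17) (kh xh18 yh10 zh19) (kh xh18 yh7 zh21) (kh xh18 yh1 zh3) (kh xh19 yh2 zh28) (kh xh18 yh2 zh8) (kh xh19 yh2 zh8)) (@D3.rec (fun _ => Pt) (kh xh18 yh18 zh10) (kh xh18 yh18 zh11) (kh xh19 yh2 zh9) (kh xh18 yh2 zh9) (kh xh18 yh5 zh27) (kh xh18 yh6 zh26) (kh xh18 yh16 zh14) (kh xh18 yh7 zh15) (kh xh18 yh9 zh1) (kh xh18 yh9 zh18) (kh xh19 yh3 zh22) (kh xh18 yh21 zh28) (kh xh19 yh3 zh23)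 (kh xh19 yh3 zh24) (kh xh18 yh16 zh6) (kh xh18 yh2 zh1) (kh xh18 yh4 zh27) (kh xh18 yh5 zh8) (kh xh19 yh4 zh22) (kh xh18 yh18 zh20) (kh xh18 yh14 zh6) (kh xh18 yh19 zh22) (kh xh18 yh17 zh8) (kh xh18 yh3 zh19) (kh xh18 yh9 zh28) (kh xh18 yh2 zh18) (kh xh19 yh1 zh29) (kh xh18 yh2 zh22) (kh xh18 yh2 zh23) (kh xh19 yh0 zh23) (kh xh19 yh5 zh1) (kh xh18 yh10 zh11)) (@D3.rec (fun _ => Pt) (kh xh18 yh18 zh8) (kh xh19 yh2 zh21) (kh xh18 yh3 zh1) (kh xh18 yh9 zh25) (kh xh18 yh10 zh6) (kh xh18 yh12 zh6) (kh xh18 yh14 zh13) (kh xh18 yh10 zh5) (kh xh18 yh16 zh22) (kh xh19 yh0 zh20) (kh xh18 yh3 zh14) (kh xh19 yh5 zh13) (kh xh18 yh3 zh9) (kh xh18 yh10 zh14) (kh xh19 yh2 zh23) (kh xh19 yh2 zh24) (kh xh19 yh3 zh19) (kh xh18 yh18 zh0) (kh xh19 yh1 zh10) (kh xh18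 yh4 zh1) (kh xh18 yh13 zh13) (kh xh18 yh11 zh12) (kh xh19 yh2 zh30) (kh xh19 yh2 zh31) (kh xh18 yh21 zh6) (kh xh18 yh21 zh14) (kh xh18 yh4 zh8) (kh xh18 yh4 zh18) (kh xh18 yh9 zh0) (kh xh18 yh8 zh24) (kh xh18 yh7 zh26) (kh xh18 yh8 zh26)) (@D3.rec (fun _ => Pt) (kh xh18 yh17 zh17) (kh xh18 yh4 zh19) (kh xh18 yh14 zh18) (kh xh18 yh4 zh20) (kh xh19 yh1 zh12) (kh xh18 yh4 zh21) (kh xh19 yh5 zh26) (kh xh19 yh5 zh28) (kh xh18 yh17 zh0) (kh xh18 yh15 zh16) (kh xh18 yh16 zh0) (kh xh18 yh16 zh1) (kh xh18 yh5 zh7) (kh xh19 yh4 zh23) (kh xh18 yh5 zh9) (kh xh18 yh21 zh17) (kh xh18 yh21 zh19) (kh xh18 yh21 zh21) (kh xh18 yh5 zh10) (kh xh18 yh5 zh11) (kh xh18 yh16 zh19) (kh xh19 yh6 zh2) (kh xh19 yh4 zh24) (kh xh19 yh6 zh6) (kh xh18 yh6 zh14) (kh xh18 yh9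 zh6) (kh xh18 yh6 zh15) (kh xh18 yh6 zh16) (kh xh18 yh5 zh24) (kh xh18 yh5 zh19) (kh xh19 yh1 zh7) (kh xh18 yh5 zh20)) (@D3.rec (fun _ => Pt) (kh xh19 yh6 zh12) (kh xh18 yh21 zh22) (kh xh18 yh12 zh24) (kh xh18 yh19 zh15) (kh xh18 yh6 zh24) (kh xh19 yh6 zh11) (kh xh18 yh6 zh0) (kh xh19 yh4 zh14) (kh xh18 yh6 zh27) (kh xh19 yh1 zh31) (kh xh19 yh2 zh0) (kh xh19 yh2 zh3) (kh xh19 yh3 zh4) (kh xh18 yh14 zh25) (kh xh18 yh14 zh26) (kh xh18 yh19 zh3) (kh xh18 yh6 zh19) (kh xh19 yh6 zh8) (kh xh19 yh6 zh10) (kh xh18 yh6 zh20) (kh xh19 yh3 zh8) (kh xh19 yh4 zh15) (kh xh18 yh16 zh21) (kh xh18 yh20 zh6) (kh xh19 yh6 zh27) (kh xh18 yh20 zh8) (kh xh19 yh6 zh31) (kh xh18 yh7 zh2) (kh xh18 yh20 zh10) (kh xh19 yh7 zh1) (kh xh19 yh7 zh2) (kh xh18 yh7 zh5)) (@D3.rec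 (fun _ => Pt) (kh xh18 yh14 zh30) (kh xh18 yh7 zh18) (kh xh19 yh0 zh29) (kh xh18 yh7 zh19) (kh xh19 yh0 zh31) (kh xh18 yh7 zh20) (kh xh18 yh19 zh23) (kh xh19 yh3 zh29) (kh xh18 yh19 zh25) (kh xh19 yh4 zh16) (kh xh18 yh19 zh28) (kh xh19 yh7 zh5) (kh xh19 yh7 zh8) (kh xh18 yh7 zh22) (kh xh18 yh8 zh18) (kh xh19 yh5 zh22) (kh xh18 yh8 zh25) (kh xh19 yh5 zh24) (kh xh18 yh8 zh27) (kh xh18 yh14 zh24) (kh xh19 yh1 zh14) (kh xh18 yh8 zh1) (kh xh19 yh1 zh16) (kh xh19 yh1 zh17) (kh xh19 yh7 zh27) (kh xh19 yh1 zh1) (kh xh19 yh7 zh31) (kh xh18 yh8 zh3) (kh xh19 yh1 zh4) (kh xh19 yh3 zh9) (kh xh18 yh8 zh11) (kh xh19 yh8 zh3)) (@D3.rec (fun _ => Pt) (kh xh19 yh8 zh4) (kh xh18 yh8 zh8) (kh xh19 yh7 zh4) (kh xh18 yh8 zh12) (kh xh19 yh1 zh5) (kh xh18 yh8 zh15)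 (kh xh18 yh17 zh24) (kh xh19 yh3 zh27) (kh xh19 yh7 zh16) (kh xh19 yh0 zh25) (kh xh19 yh5 zh21) (kh xh19 yh5 zh23) (kh xh19 yh7 zh19) (kh xh19 yh5 zh25) (kh xh18 yh17 zh25) (kh xh19 yh4 zh17) (kh xh18 yh9 zh19) (kh xh18 yh18 zh15) (kh xh19 yh6 zh7) (kh xh18 yh18 zh16) (kh xh19 yh6 zh9) (kh xh18 yh18 zh17) (kh xh18 yh19 zh1) (kh xh18 yh9 zh20) (kh xh19 yh1 zh22) (kh xh18 yh9 zh21) (kh xh19 yh1 zh24) (kh xh19 yh1 zh25) (kh xh18 yh16 zh11) (kh xh19 yh4 zh5) (kh xh19 yh4 zh7) (kh xh19 yh4 zh18))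
def f_h_19 : D2 → D3 → Pt := @D2.rec (fun _ => D3 → Pt) (@D3.rec (fun _ => Pt) (kh xh19 yh8 zh19) (kh xh18 yh14 zh16) (kh xh18 yh12 zh1) (kh xh19 yh5 zh5) (kh xh18 yh10 zh7) (kh xh19 yh4 zh27) (kh xh19 yh4 zh28) (kh xh19 yh8 zh30) (kh xh19 yh8 zh31) (kh xh18 yh9 zh30) (kh xh19 yh2 zh25) (kh xh19 yh5 zh8) (kh xh19 yh5 zh6) (kh xh19 yh9 zh2) (kh xh18 yh10 zh10) (kh xh19 yh5 zh2) (kh xh19 yh9 zh3) (kh xh18 yh10 zh12) (kh xh18 yh10 zh15) (kh xh19 yh4 zh6) (kh xh18 yh17 zh9) (kh xh18 yh11 zh17) (kh xh19 yh2 zh4) (kh xh18 yh16 zh29) (kh xh19 yh2 zh6) (kh xh18 yh21 zh9) (kh xh19 yh9 zh11) (kh xh19 yh9 zh12) (kh xh18 yh10 zh29) (kh xh18 yh20 zh2) (kh xh18 yh11 zh9) (kh xh18 yh20 zh4)) (@D3.rec (fun _ => Pt) (kh xh18 yh11 zh10) (kh xh18 yh20 zh25) (kh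 xh19 yh9 zh19) (kh xh18 yh11 zh5) (kh xh18 yh20 zh28) (kh xh18 yh21 zh4) (kh xh19 yh9 zh14) (kh xh18 yh18 zh30) (kh xh18 yh11 zh16) (kh xh18 yh11 zh19) (kh xh18 yh17 zh18) (kh xh18 yh11 zh31) (kh xh18 yh18 zh4) (kh xh18 yh12 zh7) (kh xh18 yh20 zh20) (kh xh18 yh12 zh0) (kh xh18 yh20 zh22) (kh xh18 yh20 zh23) (kh xh18 yh12 zh10) (kh xh19 yh10 zh0) (kh xh18 yh12 zh13) (kh xh18 yh12 zh23) (kh xh18 yh21 zh24) (kh xh18 yh12 zh25) (kh xh18 yh21 zh26) (kh xh18 yh21 zh27) (kh xh19 yh10 zh4) (kh xh18 yh12 zh21) (kh xh19 yh6 zh16) (kh xh18 yh16 zh26) (kh xh18 yh12 zh30) (kh xh18 yh19 zh9)) (@D3.rec (fun _ => Pt) (kh xh18 yh19 zh10) (kh xh18 yh15 zh1) (kh xh18 yh15 zh0) (kh xh18 yh19 zh11) (kh xh19 yh0 zh22) (kh xh18 yh15 zh11) (kh xh19 yh0 zh24) (kh xh18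 yh15 zh12) (kh xh18 yh15 zh31) (kh xh18 yh16 zh2) (kh xh18 yh13 zh27) (kh xh19 yh5 zh17) (kh xh19 yh5 zh18) (kh xh19 yh7 zh6) (kh xh18 yh15 zh15) (kh xh19 yh10 zh22) (kh xh18 yh13 zh16) (kh xh18 yh15 zh19) (kh xh19 yh10 zh24) (kh xh19 yh10 zh25) (kh xh18 yh13 zh18) (kh xh18 yh17 zh1) (kh xh18 yh13 zh28) (kh xh18 yh17 zh14) (kh xh18 yh17 zh15) (kh xh19 yh0 zh10) (kh xh18 yh15 zh5) (kh xh18 yh15 zh6) (kh xh18 yh15 zh29) (kh xh18 yh14 zh3) (kh xh18 yh17 zh22) (kh xh18 yh17 zh23)) (@D3.rec (fun _ => Pt) (kh xh18 yh14 zh10) (kh xh19 yh4 zh26) (kh xh18 yh14 zh11) (kh xh19 yh5 zh7) (kh xh18 yh19 zh12) (kh xh19 yh8 zh24) (kh xh19 yh8 zh25) (kh xh19 yh5 zh27) (kh xh18 yh19 zh20) (kh xh18 yh20 zh29) (kh xh18 yh15 zh7) (kh xh19 yh7 zh22) (kh xh19 yh6 zh22)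 (kh xh19 yh11 zh12) (kh xh19 yh11 zh13) (kh xh18 yh14 zh27) (kh xh19 yh7 zh17) (kh xh19 yh6 zh24) (kh xh19 yh7 zh3) (kh xh18 yh17 zh16) (kh xh19 yh10 zh8) (kh xh19 yh10 zh9) (kh xh18 yh16 zh10) (kh xh18 yh16 zh12) (kh xh18 yh16 zh13) (kh xh19 yh10 zh30) (kh xh18 yh15 zh8) (kh xh18 yh21 zh7) (kh xh19 yh10 zh11) (kh xh18 yh20 zh7) (kh xh19 yh11 zh26) (kh xh18 yh15 zh14)) (@D3.rec (fun _ => Pt) (kh xh19 yh10 zh19) (kh xh19 yh6 zh0) (kh xh19 yh11 zh28) (kh xh18 yh15 zh17) (kh xh18 yh15 zh20) (kh xh18 yh21 zh29) (kh xh19 yh0 zh19) (kh xh18 yh21 zh30) (kh xh19 yh10 zh31) (kh xh19 yh11 zh0) (kh xh19 yh10 zh14) (kh xh19 yh6 zh1) (kh xh19 yh10 zh15) (kh xh19 yh10 zh16) (kh xh18 yh19 zh7) (kh xh18 yh19 zh21) (kh xh18 yh20 zh9) (kh xh18 yh21 zh15) (kh xh18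 yh21 zh31) (kh xh19 yh11 zh19) (kh xh19 yh11 zh20) (kh xh19 yh11 zh21) (kh xh18 yh16 zh18) (kh xh18 yh18 zh13) (kh xh18 yh18 zh22) (kh xh19 yh12 zh9) (kh xh19 yh3 zh1) (kh xh19 yh0 zh5) (kh xh19 yh0 zh6) (kh xh19 yh10 zh5) (kh xh19 yh10 zh6) (kh xh19 yh9 zh7)) (@D3.rec (fun _ => Pt) (kh xh19 yh12 zh15) (kh xh18 yh16 zh30) (kh xh19 yh0 zh15) (kh xh19 yh10 zh26) (kh xh19 yh10 zh27) (kh xh19 yh0 zh3) (kh xh19 yh0 zh12) (kh xh19 yh3 zh3) (kh xh19 yh0 zh11) (kh xh19 yh9 zh4) (kh xh19 yh9 zh5) (kh xh19 yh12 zh23) (kh xh19 yh12 zh24) (kh xh18 yh17 zh11) (kh xh19 yh10 zh28) (kh xh19 yh9 zh23) (kh xh19 yh9 zh24) (kh xh19 yh2 zh11) (kh xh19 yh2 zh12) (kh xh19 yh11 zh1) (kh xh19 yh8 zh7) (kh xh18 yh21 zh10) (kh xh18 yh20 zh15) (kh xh18 yh21 zh11) (kh xh18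 yh20 zh17) (kh xh18 yh21 zh13) (kh xh18 yh18 zh6) (kh xh19 yh3 zh7) (kh xh18 yh18 zh7) (kh xh19 yh9 zh25) (kh xh19 yh9 zh26) (kh xh19 yh13 zh2)) (@D3.rec (fun _ => Pt) (kh xh19 yh4 zh1) (kh xh19 yh4 zh11) (kh xh18 yh18 zh21) (kh xh19 yh12 zh10) (kh xh19 yh8 zh13) (kh xh19 yh8 zh15) (kh xh18 yh18 zh23) (kh xh18 yh21 zh18) (kh xh18 yh19 zh17) (kh xh18 yh21 zh20) (kh xh18 yh19 zh18) (kh xh18 yh19 zh5) (kh xh18 yh19 zh0) (kh xh19 yh9 zh21) (kh xh19 yh9 zh22) (kh xh19 yh8 zh18) (kh xh19 yh1 zh28) (kh xh19 yh13 zh12) (kh xh19 yh13 zh13) (kh xh19 yh12 zh2) (kh xh19 yh12 zh3) (kh xh19 yh10 zh7) (kh xh19 yh3 zh12) (kh xh19 yh13 zh9) (kh xh19 yh3 zh17) (kh xh19 yh7 zh11) (kh xh19 yh13 zh24) (kh xh18 yh19 zh24) (kh xh19 yh7 zh13) (kh xh19 yh13 zh26) (kh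 xh19 yh13 zh27) (kh xh18 yh19 zh26)) (@D3.rec (fun _ => Pt) (kh xh19 yh13 zh29) (kh xh18 yh19 zh29) (kh xh18 yh19 zh30) (kh xh19 yh3 zh18) (kh xh18 yh21 zh2) (kh xh18 yh20 zh11) (kh xh19 yh2 zh13) (kh xh19 yh9 zh13) (kh xh18 yh20 zh12) (kh xh19 yh9 zh15) (kh xh19 yh9 zh16) (kh xh19 yh6 zh25) (kh xh19 yh11 zh24) (kh xh19 yh6 zh28) (kh xh19 yh12 zh4) (kh xh19 yh14 zh1) (kh xh18 yh21 zh8) (kh xh19 yh3 zh16) (kh xh19 yh12 zh30) (kh xh18 yh21 zh12) (kh xh19 yh13 zh0) (kh xh19 yh13 zh1) (kh xh19 yh3 zh11) (kh xh19 yh9 zh27) (kh xh19 yh9 zh28) (kh xh19 yh9 zh29) (kh xh19 yh14 zh18) (kh xh18 yh20 zh24) (kh xh19 yh9 zh17) (kh xh19 yh14 zh20) (kh xh19 yh14 zh21) (kh xh18 yh20 zh26)) (@D3.rec (fun _ => Pt) (kh xh19 yh11 zh7) (kh xh19 yh11 zh8) (kh xh19 yh14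 zh24) (kh xh18 yh20 zh31) (kh xh18 yh21 zh0) (kh xh19 yh14 zh0) (kh xh19 yh9 zh20) (kh xh19 yh5 zh20) (kh xh19 yh11 zh23) (kh xh19 yh12 zh29) (kh xh19 yh12 zh31) (kh xh19 yh12 zh5) (kh xh19 yh12 zh6) (kh xh19 yh6 zh4) (kh xh19 yh13 zh8) (kh xh19 yh6 zh5) (kh xh19 yh13 zh10) (kh xh19 yh13 zh11) (kh xh19 yh6 zh15) (kh xh19 yh0 zh0) (kh xh19 yh10 zh1) (kh xh19 yh10 zh2) (kh xh19 yh10 zh3) (kh xh19 yh11 zh29) (kh xh19 yh3 zh5) (kh xh19 yh3 zh6) (kh xh19 yh12 zh17) (kh xh19 yh12 zh18) (kh xh19 yh12 zh11) (kh xh19 yh15 zh9) (kh xh19 yh0 zh7) (kh xh19 yh0 zh8)) (@D3.rec (fun _ => Pt) (kh xh19 yh10 zh29) (kh xh19 yh15 zh10) (kh xh19 yh0 zh13) (kh xh19 yh0 zh16) (kh xh19 yh5 zh9) (kh xh19 yh5 zh10) (kh xh19 yh10 zh10) (kh xh19 yh4 zh31) (kh xh19 yh10 zh12)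 (kh xh19 yh10 zh13) (kh xh19 yh15 zh16) (kh xh19 yh0 zh26) (kh xh19 yh0 zh27) (kh xh19 yh7 zh7) (kh xh19 yh1 zh6) (kh xh19 yh7 zh9) (kh xh19 yh7 zh10) (kh xh19 yh7 zh28) (kh xh19 yh15 zh20) (kh xh19 yh1 zh2) (kh xh19 yh8 zh6) (kh xh19 yh6 zh13) (kh xh19 yh6 zh14) (kh xh19 yh5 zh15) (kh xh19 yh5 zh16) (kh xh19 yh5 zh29) (kh xh19 yh5 zh30) (kh xh19 yh7 zh23) (kh xh19 yh7 zh24) (kh xh19 yh7 zh25) (kh xh19 yh15 zh27) (kh xh19 yh15 zh28)) (@D3.rec (fun _ => Pt) (kh xh19 yh1 zh19) (kh xh19 yh8 zh20) (kh xh19 yh8 zh21) (kh xh19 yh8 zh22) (kh xh19 yh1 zh26) (kh xh19 yh4 zh29) (kh xh19 yh4 zh30) (kh xh19 yh6 zh21) (kh xh19 yh3 zh20) (kh xh19 yh3 zh21) (kh xh19 yh9 zh6) (kh xh19 yh3 zh28) (kh xh19 yh9 zh8) (kh xh19 yh9 zh9) (kh xh19 yh4 zh10) (kh xh19 yh4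 zh12) (kh xh19 yh4 zh13) (kh xh19 yh12 zh27) (kh xh19 yh14 zh2) (kh xh19 yh4 zh0) (kh xh19 yh16 zh12) (kh xh19 yh16 zh13) (kh xh19 yh2 zh15) (kh xh19 yh16 zh15) (kh xh19 yh2 zh18) (kh xh19 yh2 zh19) (kh xh19 yh5 zh3) (kh xh19 yh5 zh4) (kh xh19 yh5 zh14) (kh xh19 yh9 zh0) (kh xh19 yh3 zh25) (kh xh19 yh4 zh8)) (@D3.rec (fun _ => Pt) (kh xh19 yh4 zh9) (kh xh19 yh5 zh19) (kh xh19 yh12 zh19) (kh xh19 yh12 zh20) (kh xh19 yh15 zh5) (kh xh19 yh13 zh3) (kh xh19 yh13 zh4) (kh xh19 yh8 zh0) (kh xh19 yh8 zh1) (kh xh19 yh14 zh12) (kh xh19 yh14 zh13) (kh xh19 yh16 zh27) (kh xh19 yh3 zh13) (kh xh19 yh3 zh14) (kh xh19 yh14 zh8) (kh xh19 yh13 zh20) (kh xh19 yh13 zh30) (kh xh19 yh13 zh31) (kh xh19 yh16 zh1) (kh xh19 yh4 zh19) (kh xh19 yh4 zh20) (kh xh19 yh4 zh21)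 (kh xh19 yh16 zh18) (kh xh19 yh8 zh8) (kh xh19 yh7 zh12) (kh xh19 yh17 zh5) (kh xh19 yh3 zh30) (kh xh19 yh13 zh6) (kh xh19 yh4 zh2) (kh xh19 yh8 zh23) (kh xh19 yh16 zh19) (kh xh19 yh16 zh5)) (@D3.rec (fun _ => Pt) (kh xh19 yh16 zh6) (kh xh19 yh16 zh7) (kh xh19 yh6 zh19) (kh xh19 yh6 zh20) (kh xh19 yh7 zh14) (kh xh19 yh8 zh11) (kh xh19 yh8 zh12) (kh xh19 yh17 zh2) (kh xh19 yh17 zh3) (kh xh19 yh4 zh25) (kh xh19 yh6 zh3) (kh xh19 yh8 zh28) (kh xh19 yh15 zh31) (kh xh19 yh17 zh15) (kh xh19 yh17 zh16) (kh xh19 yh5 zh0) (kh xh19 yh16 zh16) (kh xh19 yh8 zh26) (kh xh19 yh8 zh27) (kh xh19 yh11 zh2) (kh xh19 yh11 zh3) (kh xh19 yh15 zh11) (kh xh19 yh17 zh22) (kh xh19 yh5 zh11) (kh xh19 yh5 zh12) (kh xh19 yh16 zh17) (kh xh19 yh15 zh22) (kh xh19 yh10 zh17)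 (kh xh19 yh16 zh20) (kh xh19 yh8 zh9) (kh xh19 yh7 zh18) (kh xh19 yh8 zh10)) (@D3.rec (fun _ => Pt) (kh xh19 yh7 zh20) (kh xh19 yh7 zh21) (kh xh19 yh5 zh31) (kh xh19 yh11 zh5) (kh xh19 yh11 zh6) (kh xh19 yh15 zh23) (kh xh19 yh11 zh27) (kh xh19 yh14 zh29) (kh xh19 yh8 zh14) (kh xh19 yh6 zh23) (kh xh19 yh8 zh16) (kh xh19 yh8 zh17) (kh xh19 yh6 zh17) (kh xh19 yh6 zh18) (kh xh19 yh15 zh21) (kh xh19 yh15 zh1) (kh xh19 yh15 zh2) (kh xh19 yh18 zh2) (kh xh19 yh17 zh9) (kh xh19 yh16 zh0) (kh xh19 yh11 zh15) (kh xh19 yh14 zh6) (kh xh19 yh18 zh10) (kh xh19 yh18 zh11) (kh xh19 yh6 zh26) (kh xh19 yh18 zh13) (kh xh19 yh6 zh29) (kh xh19 yh6 zh30) (kh xh19 yh18 zh14) (kh xh19 yh7 zh0) (kh xh19 yh11 zh16) (kh xh19 yh11 zh17)) (@D3.rec (fun _ => Pt) (kh xh19 yh8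 zh5) (kh xh19 yh7 zh15) (kh xh19 yh10 zh18) (kh xh19 yh15 zh17) (kh xh19 yh15 zh18) (kh xh19 yh15 zh19) (kh xh19 yh13 zh21) (kh xh19 yh17 zh4) (kh xh19 yh11 zh14) (kh xh19 yh17 zh26) (kh xh19 yh17 zh27) (kh xh19 yh17 zh28) (kh xh19 yh11 zh9) (kh xh19 yh11 zh10) (kh xh19 yh15 zh24) (kh xh19 yh15 zh25) (kh xh19 yh18 zh29) (kh xh19 yh18 zh30) (kh xh19 yh7 zh26) (kh xh19 yh19 zh0) (kh xh19 yh7 zh29) (kh xh19 yh7 zh30) (kh xh19 yh16 zh24) (kh xh19 yh19 zh2) (kh xh19 yh8 zh2) (kh xh19 yh18 zh16) (kh xh19 yh18 zh17) (kh xh19 yh17 zh25) (kh xh19 yh17 zh10) (kh xh19 yh13 zh7) (kh xh19 yh17 zh31) (kh xh19 yh18 zh0)) (@D3.rec (fun _ => Pt) (kh xh19 yh18 zh1) (kh xh19 yh13 zh15) (kh xh19 yh13 zh16) (kh xh19 yh15 zh29) (kh xh19 yh15 zh30) (kh xh19 yh11 zh4)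 (kh xh19 yh17 zh18) (kh xh19 yh17 zh12) (kh xh19 yh19 zh11) (kh xh19 yh8 zh29) (kh xh19 yh9 zh1) (kh xh19 yh12 zh21) (kh xh19 yh16 zh2) (kh xh19 yh16 zh3) (kh xh19 yh16 zh4) (kh xh19 yh19 zh15) (kh xh19 yh9 zh10) (kh xh19 yh14 zh3) (kh xh19 yh14 zh4) (kh xh19 yh14 zh5) (kh xh19 yh9 zh18) (kh xh19 yh13 zh14) (kh xh19 yh12 zh26) (kh xh19 yh13 zh5) (kh xh19 yh14 zh14) (kh xh19 yh14 zh15) (kh xh19 yh19 zh23) (kh xh19 yh9 zh30) (kh xh19 yh9 zh31) (kh xh19 yh15 zh3) (kh xh19 yh15 zh4) (kh xh19 yh12 zh12)) (@D3.rec (fun _ => Pt) (kh xh19 yh13 zh19) (kh xh19 yh11 zh18) (kh xh19 yh15 zh12) (kh xh19 yh15 zh13) (kh xh19 yh15 zh14) (kh xh19 yh11 zh31) (kh xh19 yh12 zh0) (kh xh19 yh12 zh1) (kh xh19 yh17 zh24) (kh xh19 yh18 zh18) (kh xh19 yh18 zh19) (kh xh19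 yh20 zh1) (kh xh19 yh10 zh20) (kh xh19 yh10 zh21) (kh xh19 yh20 zh2) (kh xh19 yh10 zh23) (kh xh19 yh12 zh16) (kh xh19 yh12 zh25) (kh xh19 yh11 zh22) (kh xh19 yh11 zh30) (kh xh19 yh12 zh28) (kh xh19 yh17 zh19) (kh xh19 yh19 zh9) (kh xh19 yh17 zh29) (kh xh19 yh14 zh22) (kh xh19 yh18 zh26) (kh xh19 yh20 zh9) (kh xh19 yh11 zh11) (kh xh19 yh18 zh22) (kh xh19 yh18 zh23) (kh xh19 yh18 zh7) (kh xh19 yh18 zh8)) (@D3.rec (fun _ => Pt) (kh xh19 yh18 zh15) (kh xh19 yh19 zh26) (kh xh19 yh12 zh7) (kh xh19 yh12 zh8) (kh xh19 yh14 zh7) (kh xh19 yh11 zh25) (kh xh19 yh20 zh4) (kh xh19 yh19 zh29) (kh xh19 yh19 zh30) (kh xh19 yh13 zh18) (kh xh19 yh14 zh28) (kh xh19 yh20 zh13) (kh xh19 yh15 zh7) (kh xh19 yh19 zh25) (kh xh19 yh20 zh18) (kh xh19 yh12 zh13) (kh xh19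 yh12 zh14) (kh xh19 yh20 zh3) (kh xh19 yh15 zh6) (kh xh19 yh16 zh21) (kh xh19 yh19 zh12) (kh xh19 yh20 zh21) (kh xh19 yh12 zh22) (kh xh19 yh19 zh19) (kh xh19 yh16 zh8) (kh xh19 yh14 zh27) (kh xh19 yh14 zh9) (kh xh19 yh14 zh10) (kh xh19 yh14 zh11) (kh xh19 yh16 zh23) (kh xh19 yh19 zh20) (kh xh19 yh14 zh30)) (@D3.rec (fun _ => Pt) (kh xh19 yh14 zh31) (kh xh19 yh15 zh0) (kh xh19 yh13 zh17) (kh xh19 yh19 zh18) (kh xh19 yh19 zh7) (kh xh19 yh20 zh27) (kh xh19 yh20 zh15) (kh xh19 yh16 zh30) (kh xh19 yh16 zh31) (kh xh19 yh20 zh31) (kh xh19 yh13 zh22) (kh xh19 yh13 zh23) (kh xh19 yh21 zh0) (kh xh19 yh13 zh25) (kh xh19 yh13 zh28) (kh xh19 yh17 zh0) (kh xh19 yh14 zh25) (kh xh19 yh14 zh26) (kh xh19 yh16 zh9) (kh xh19 yh16 zh10) (kh xh19 yh19 zh16) (kh xh19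 yh19 zh17) (kh xh19 yh16 zh28) (kh xh19 yh16 zh29) (kh xh19 yh20 zh22) (kh xh19 yh20 zh23) (kh xh19 yh16 zh25) (kh xh19 yh19 zh21) (kh xh19 yh21 zh9) (kh xh19 yh14 zh16) (kh xh19 yh14 zh17) (kh xh19 yh21 zh10)) (@D3.rec (fun _ => Pt) (kh xh19 yh14 zh19) (kh xh19 yh20 zh7) (kh xh19 yh14 zh23) (kh xh19 yh21 zh2) (kh xh19 yh20 zh16) (kh xh19 yh20 zh25) (kh xh19 yh20 zh26) (kh xh19 yh18 zh4) (kh xh19 yh19 zh24) (kh xh19 yh16 zh22) (kh xh19 yh20 zh19) (kh xh19 yh15 zh8) (kh xh19 yh17 zh20) (kh xh19 yh19 zh27) (kh xh19 yh19 zh28) (kh xh19 yh15 zh15) (kh xh19 yh18 zh20) (kh xh19 yh18 zh21) (kh xh19 yh18 zh3) (kh xh19 yh17 zh23) (kh xh19 yh17 zh30) (kh xh19 yh18 zh27) (kh xh19 yh21 zh16) (kh xh19 yh15 zh26) (kh xh19 yh19 zh8) (kh xh19 yh17 zh13) (kh xh19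 yh17 zh1) (kh xh19 yh19 zh13) (kh xh19 yh19 zh14) (kh xh19 yh17 zh7) (kh xh19 yh17 zh8) (kh xh19 yh21 zh3)) (@D3.rec (fun _ => Pt) (kh xh19 yh21 zh20) (kh xh19 yh16 zh11) (kh xh19 yh16 zh14) (kh xh19 yh17 zh17) (kh xh19 yh17 zh6) (kh xh19 yh20 zh20) (kh xh19 yh20 zh24) (kh xh19 yh19 zh1) (kh xh19 yh21 zh7) (kh xh19 yh16 zh26) (kh xh19 yh21 zh5) (kh xh19 yh20 zh29) (kh xh19 yh21 zh1) (kh xh19 yh17 zh11) (kh xh19 yh21 zh18) (kh xh19 yh18 zh6) (kh xh19 yh19 zh4) (kh xh19 yh21 zh23) (kh xh19 yh17 zh14) (kh xh19 yh19 zh10) (kh xh19 yh20 zh5) (kh xh19 yh17 zh21) (kh xh19 yh18 zh24) (kh xh19 yh18 zh25) (kh xh19 yh20 zh6) (kh xh19 yh19 zh5) (kh xh19 yh19 zh6) (kh xh19 yh18 zh5) (kh xh19 yh21 zh13) (kh xh19 yh20 zh11) (kh xh19 yh21 zh27) (kh xh19 yh18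 zh9)) (@D3.rec (fun _ => Pt) (kh xh19 yh18 zh12) (kh xh19 yh20 zh12) (kh xh19 yh19 zh3) (kh xh19 yh19 zh31) (kh xh19 yh21 zh15) (kh xh19 yh20 zh10) (kh xh19 yh21 zh24) (kh xh19 yh20 zh8) (kh xh19 yh21 zh31) (kh xh19 yh18 zh28) (kh xh19 yh18 zh31) (kh xh19 yh21 zh28) (kh xh19 yh21 zh25) (kh xh19 yh20 zh28) (kh xh19 yh21 zh17) (kh xh19 yh21 zh4) (kh xh19 yh19 zh22) (kh xh19 yh21 zh14) (kh xh19 yh20 zh14) (kh xh19 yh21 zh29) (kh xh19 yh20 zh0) (kh xh19 yh21 zh30) (kh xh19 yh21 zh26) (kh xh19 yh20 zh17) (kh xh19 yh21 zh6) (kh xh19 yh21 zh12) (kh xh19 yh21 zh22) (kh xh19 yh20 zh30) (kh xh19 yh21 zh11) (kh xh19 yh21 zh19) (kh xh19 yh21 zh21) (kh xh19 yh21 zh8))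
def f_h : Pt → Pt := @Pt.rec (fun _ => Pt) (@D1.rec (fun _ => D2 → D3 → Pt) f_h_0 f_h_1 f_h_2 f_h_3 f_h_4 f_h_5 f_h_6 f_h_7 f_h_8 f_h_9 f_h_10 f_h_11 f_h_12 f_h_13 f_h_14 f_h_15 f_h_16 f_h_17 f_h_18 f_h_19)
def fi_h : Pt → Pt := f_h

theorem inv_chk_h : chkInv allPts beqPt f_h fi_h = true := by decide +kernel

end

end Cfsg.Agent.Helper28.S1685
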