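import Cfsg.Agent.Lib.Helper28.S1685.Defs

set_option autoImplicit false
set_option maxRecDepth 100000
set_option linter.all false

namespace Cfsg.Agent.Helper28.S1685

open Cfsg.Agent.Helper28
open Cfsg.Spor.Fi22 (Gen)

noncomputable section

abbrev ki := Pt.mk
abbrev xi0 := D1.c0
abbrev xi1 := D1.c1
abbrev xi2 := D1.c2
abbrev xi3 := D1.c3
abbrev xi4 := D1.c4
abbrev xi5 := D1.c5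
abbrev xi6 := D1.c6
abbrev xi7 := D1.c7
abbrev xi8 := D1.c8
abbrev xi9 := D1.c9
abbrev xi10 := D1.c10
abbrev xi11 := D1.c11
abbrev xi12 := D1.c12
abbrev xi13 := D1.c13
abbrev xi14 := D1.c14
abbrev xi15 := D1.c15
abbrev xi16 := D1.c16
abbrev xi17 := D1.c17
abbrev xi18 := D1.c18
abbrev xi19 := D1.c19
abbrev yi0 := D2.c0
abbrev yi1 := D2.c1
abbrev yi2 := D2.c2
abbrev yi3 := D2.c3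
abbrev yi4 := D2.c4
abbrev yi5 := D2.c5
abbrev yi6 := D2.c6
abbrev yi7 := D2.c7
abbrev yi8 := D2.c8
abbrev yi9 := D2.c9
abbrev yi10 := D2.c10
abbrev yi11 := D2.c11
abbrev yi12 := D2.c12
abbrev yi13 := D2.c13
abbrev yi14 := D2.c14
abbrev yi15 := D2.c15
abbrev yi16 := D2.c16
abbrev yi17 := D2.c17
abbrev yi18 := D2.c18
abbrev yi19 := D2.c19
abbrev yi20 := D2.c20
abbrev yi21 := D2.c21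
abbrev zi0 := D3.c0
abbrev zi1 := D3.c1
abbrev zi2 := D3.c2
abbrev zi3 := D3.c3
abbrev zi4 := D3.c4
abbrev zi5 := D3.c5
abbrev zi6 := D3.c6
abbrev zi7 := D3.c7
abbrev zi8 := D3.c8
abbrev zi9 := D3.c9
abbrev zi10 := D3.c10
abbrev zi11 := D3.c11
abbrev zi12 := D3.c12
abbrev zi13 := D3.c13
abbrev zi14 := D3.c14
abbrev zi15 := D3.c15
abbrev zi16 := D3.c16
abbrev zi17 := D3.c17
abbrev zi18 := D3.c18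
abbrev zi19 := D3.c19
abbrev zi20 := D3.c20
abbrev zi21 := D3.c21
abbrev zi22 := D3.c22
abbrev zi23 := D3.c23
abbrev zi24 := D3.c24
abbrev zi25 := D3.c25
abbrev zi26 := D3.c26
abbrev zi27 := D3.c27
abbrev zi28 := D3.c28
abbrev zi29 := D3.c29
abbrev zi30 := D3.c30
abbrev zi31 := D3.c31
def f_i_0 : D2 → D3 → Pt := @D2.rec (fun _ => D3 → Pt) (@D3.rec (fun _ => Pt) (ki xi0 yi0 zi0) (ki xi0 yi0 zi1) (ki xi0 yi0 zi2) (ki xi0 yi0 zi3) (ki xi0 yi0 zi4) (ki xi0 yi0 zi5) (ki xi0 yi0 zi9) (ki xi0 yi0 zi7) (ki xi0 yi0 zi13) (ki xi0 yi0 zi6) (ki xi0 yi0 zi10) (ki xi0 yi0 zi16) (ki xi0 yi0 zi18) (ki xi0 yi0 zi8) (ki xi0 yi0 zi20) (ki xi0 yi0 zi23) (ki xi0 yi0 zi11) (ki xi0 yi0 zi25) (ki xi0 yi0 zi12) (ki xi0 yi0 zi29) (ki xi0 yi0 zi14) (ki xi0 yi1 zi0) (ki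 xi0 yi1 zi1) (ki xi0 yi0 zi15) (ki xi0 yi1 zi4) (ki xi0 yi0 zi17) (ki xi0 yi0 zi26) (ki xi0 yi1 zi8) (ki xi0 yi1 zi10) (ki xi0 yi0 zi19) (ki xi0 yi1 zi14) (ki xi0 yi1 zi16)) (@D3.rec (fun _ => Pt) (ki xi0 yi0 zi21) (ki xi0 yi0 zi22) (ki xi0 yi1 zi2) (ki xi0 yi1 zi19) (ki xi0 yi0 zi24) (ki xi0 yi1 zi5) (ki xi0 yi1 zi24) (ki xi0 yi1 zi27) (ki xi0 yi0 zi27) (ki xi0 yi1 zi29) (ki xi0 yi0 zi28) (ki xi0 yi1 zi11) (ki xi0 yi2 zi0) (ki xi0 yi2 zi2) (ki xi0 yi0 zi30) (ki xi0 yi2 zi5) (ki xi0 yi0 zi31) (ki xi0 yi1 zi17) (ki xi0 yi1 zi18) (ki xi0 yi1 zi3) (ki xi0 yi1 zi20) (ki xi0 yi1 zi21) (ki xi0 yi2 zi13) (ki xi0 yi2 zi16) (ki xi0 yi1 zi6) (ki xi0 yi2 zi20) (ki xi0 yi2 zi21) (ki xi0 yi1 zi7) (ki xi0 yi1 zi28) (ki xi0 yi1 zi9) (ki xi0 yi1 zi30) (ki xi0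 yi2 zi27)) (@D3.rec (fun _ => Pt) (ki xi0 yi1 zi12) (ki xi0 yi2 zi31) (ki xi0 yi1 zi13) (ki xi0 yi2 zi3) (ki xi0 yi3 zi2) (ki xi0 yi1 zi15) (ki xi0 yi2 zi6) (ki xi0 yi2 zi7) (ki xi0 yi2 zi8) (ki xi0 yi2 zi9) (ki xi0 yi2 zi10) (ki xi0 yi2 zi11) (ki xi0 yi3 zi13) (ki xi0 yi1 zi22) (ki xi0 yi3 zi18) (ki xi0 yi3 zi19) (ki xi0 yi1 zi23) (ki xi0 yi2 zi17) (ki xi0 yi3 zi24) (ki xi0 yi3 zi25) (ki xi0 yi1 zi25) (ki xi0 yi1 zi26) (ki xi0 yi2 zi22) (ki xi0 yi2 zi23) (ki xi0 yi2 zi24) (ki xi0 yi2 zi25) (ki xi0 yi4 zi0) (ki xi0 yi1 zi31) (ki xi0 yi2 zi28) (ki xi0 yi4 zi3) (ki xi0 yi4 zi4) (ki xi0 yi2 zi1)) (@D3.rec (fun _ => Pt) (ki xi0 yi3 zi0) (ki xi0 yi3 zi1) (ki xi0 yi2 zi4) (ki xi0 yi4 zi9) (ki xi0 yi3 zi4) (ki xi0 yi3 zi5) (ki xi0 yi3 zi6) (ki xi0 yi3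 zi7) (ki xi0 yi3 zi8) (ki xi0 yi3 zi9) (ki xi0 yi3 zi10) (ki xi0 yi4 zi18) (ki xi0 yi4 zi19) (ki xi0 yi2 zi12) (ki xi0 yi3 zi14) (ki xi0 yi4 zi23) (ki xi0 yi4 zi26) (ki xi0 yi4 zi27) (ki xi0 yi2 zi14) (ki xi0 yi2 zi15) (ki xi0 yi3 zi20) (ki xi0 yi3 zi21) (ki xi0 yi5 zi2) (ki xi0 yi5 zi3) (ki xi0 yi2 zi18) (ki xi0 yi2 zi19) (ki xi0 yi5 zi5) (ki xi0 yi3 zi27) (ki xi0 yi3 zi28) (ki xi0 yi3 zi29) (ki xi0 yi3 zi30) (ki xi0 yi3 zi31)) (@D3.rec (fun _ => Pt) (ki xi0 yi2 zi26) (ki xi0 yi4 zi1) (ki xi0 yi4 zi2) (ki xi0 yi2 zi29) (ki xi0 yi2 zi30) (ki xi0 yi5 zi18) (ki xi0 yi4 zi6) (ki xi0 yi4 zi7) (ki xi0 yi4 zi8) (ki xi0 yi3 zi3) (ki xi0 yi5 zi24) (ki xi0 yi4 zi11) (ki xi0 yi4 zi12) (ki xi0 yi4 zi13) (ki xi0 yi4 zi14) (ki xi0 yi4 zi15) (ki xi0 yi4 zi16)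 (ki xi0 yi6 zi2) (ki xi0 yi3 zi11) (ki xi0 yi3 zi12) (ki xi0 yi4 zi20) (ki xi0 yi4 zi21) (ki xi0 yi6 zi8) (ki xi0 yi3 zi15) (ki xi0 yi6 zi11) (ki xi0 yi6 zi12) (ki xi0 yi3 zi16) (ki xi0 yi3 zi17) (ki xi0 yi6 zi14) (ki xi0 yi4 zi29) (ki xi0 yi4 zi30) (ki xi0 yi4 zi31)) (@D3.rec (fun _ => Pt) (ki xi0 yi5 zi0) (ki xi0 yi6 zi22) (ki xi0 yi3 zi22) (ki xi0 yi3 zi23) (ki xi0 yi6 zi24) (ki xi0 yi3 zi26) (ki xi0 yi6 zi26) (ki xi0 yi5 zi7) (ki xi0 yi5 zi8) (ki xi0 yi5 zi9) (ki xi0 yi5 zi10) (ki xi0 yi5 zi11) (ki xi0 yi5 zi12) (ki xi0 yi5 zi13) (ki xi0 yi5 zi17) (ki xi0 yi5 zi15) (ki xi0 yi5 zi16) (ki xi0 yi5 zi14) (ki xi0 yi4 zi5) (ki xi0 yi7 zi10) (ki xi0 yi5 zi20) (ki xi0 yi5 zi21) (ki xi0 yi5 zi22) (ki xi0 yi5 zi23) (ki xi0 yi4 zi10) (ki xi0 yi7 zi18)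 (ki xi0 yi7 zi19) (ki xi0 yi5 zi27) (ki xi0 yi5 zi28) (ki xi0 yi5 zi29) (ki xi0 yi5 zi30) (ki xi0 yi5 zi31)) (@D3.rec (fun _ => Pt) (ki xi0 yi6 zi0) (ki xi0 yi7 zi27) (ki xi0 yi4 zi17) (ki xi0 yi6 zi9) (ki xi0 yi6 zi4) (ki xi0 yi6 zi5) (ki xi0 yi6 zi6) (ki xi0 yi8 zi3) (ki xi0 yi4 zi22) (ki xi0 yi6 zi3) (ki xi0 yi8 zi7) (ki xi0 yi4 zi24) (ki xi0 yi4 zi25) (ki xi0 yi8 zi9) (ki xi0 yi4 zi28) (ki xi0 yi8 zi11) (ki xi0 yi6 zi16) (ki xi0 yi6 zi17) (ki xi0 yi6 zi18) (ki xi0 yi6 zi19) (ki xi0 yi6 zi20) (ki xi0 yi8 zi23) (ki xi0 yi5 zi1) (ki xi0 yi8 zi24) (ki xi0 yi5 zi4) (ki xi0 yi8 zi26) (ki xi0 yi5 zi6) (ki xi0 yi8 zi29) (ki xi0 yi8 zi30) (ki xi0 yi6 zi29) (ki xi0 yi6 zi30) (ki xi0 yi6 zi31)) (@D3.rec (fun _ => Pt) (ki xi0 yi7 zi0) (ki xi0 yi7 zi1)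 (ki xi0 yi7 zi2) (ki xi0 yi7 zi3) (ki xi0 yi7 zi4) (ki xi0 yi7 zi5) (ki xi0 yi7 zi9) (ki xi0 yi7 zi7) (ki xi0 yi7 zi8) (ki xi0 yi7 zi6) (ki xi0 yi5 zi19) (ki xi0 yi9 zi18) (ki xi0 yi9 zi19) (ki xi0 yi7 zi13) (ki xi0 yi7 zi14) (ki xi0 yi7 zi15) (ki xi0 yi7 zi16) (ki xi0 yi7 zi17) (ki xi0 yi5 zi25) (ki xi0 yi5 zi26) (ki xi0 yi9 zi29) (ki xi0 yi9 zi30) (ki xi0 yi9 zi31) (ki xi0 yi7 zi23) (ki xi0 yi7 zi24) (ki xi0 yi7 zi25) (ki xi0 yi7 zi26) (ki xi0 yi6 zi1) (ki xi0 yi8 zi4) (ki xi0 yi8 zi5) (ki xi0 yi7 zi30) (ki xi0 yi7 zi31)) (@D3.rec (fun _ => Pt) (ki xi0 yi8 zi0) (ki xi0 yi8 zi1) (ki xi0 yi10 zi17) (ki xi0 yi6 zi7) (ki xi0 yi7 zi28) (ki xi0 yi7 zi29) (ki xi0 yi10 zi22) (ki xi0 yi6 zi10) (ki xi0 yi10 zi23) (ki xi0 yi6 zi13) (ki xi0 yi10 zi25) (ki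 xi0 yi6 zi15) (ki xi0 yi10 zi28) (ki xi0 yi10 zi29) (ki xi0 yi8 zi14) (ki xi0 yi8 zi15) (ki xi0 yi8 zi16) (ki xi0 yi8 zi17) (ki xi0 yi8 zi18) (ki xi0 yi8 zi19) (ki xi0 yi8 zi20) (ki xi0 yi8 zi21) (ki xi0 yi11 zi11) (ki xi0 yi6 zi21) (ki xi0 yi6 zi23) (ki xi0 yi11 zi13) (ki xi0 yi6 zi25) (ki xi0 yi11 zi16) (ki xi0 yi11 zi17) (ki xi0 yi6 zi27) (ki xi0 yi6 zi28) (ki xi0 yi11 zi21)) (@D3.rec (fun _ => Pt) (ki xi0 yi11 zi22) (ki xi0 yi11 zi23) (ki xi0 yi9 zi2) (ki xi0 yi9 zi3) (ki xi0 yi9 zi4) (ki xi0 yi9 zi5) (ki xi0 yi9 zi6) (ki xi0 yi9 zi7) (ki xi0 yi9 zi8) (ki xi0 yi9 zi9) (ki xi0 yi9 zi10) (ki xi0 yi9 zi11) (ki xi0 yi9 zi16) (ki xi0 yi9 zi17) (ki xi0 yi9 zi14) (ki xi0 yi9 zi15) (ki xi0 yi9 zi12) (ki xi0 yi9 zi13) (ki xi0 yi7 zi11) (ki xi0 yi7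 zi12) (ki xi0 yi12 zi15) (ki xi0 yi12 zi16) (ki xi0 yi12 zi17) (ki xi0 yi9 zi23) (ki xi0 yi9 zi24) (ki xi0 yi9 zi25) (ki xi0 yi9 zi26) (ki xi0 yi9 zi27) (ki xi0 yi12 zi14) (ki xi0 yi7 zi20) (ki xi0 yi7 zi21) (ki xi0 yi7 zi22)) (@D3.rec (fun _ => Pt) (ki xi0 yi12 zi28) (ki xi0 yi12 zi29) (ki xi0 yi12 zi30) (ki xi0 yi12 zi31) (ki xi0 yi13 zi0) (ki xi0 yi10 zi5) (ki xi0 yi10 zi6) (ki xi0 yi10 zi7) (ki xi0 yi10 zi18) (ki xi0 yi10 zi19) (ki xi0 yi10 zi20) (ki xi0 yi10 zi21) (ki xi0 yi10 zi12) (ki xi0 yi10 zi13) (ki xi0 yi10 zi14) (ki xi0 yi10 zi15) (ki xi0 yi10 zi16) (ki xi0 yi8 zi2) (ki xi0 yi10 zi8) (ki xi0 yi10 zi9) (ki xi0 yi10 zi10) (ki xi0 yi10 zi11) (ki xi0 yi8 zi6) (ki xi0 yi8 zi8) (ki xi0 yi13 zi28) (ki xi0 yi8 zi10) (ki xi0 yi13 zi31) (ki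 xi0 yi14 zi0) (ki xi0 yi8 zi12) (ki xi0 yi8 zi13) (ki xi0 yi14 zi4) (ki xi0 yi14 zi5)) (@D3.rec (fun _ => Pt) (ki xi0 yi14 zi6) (ki xi0 yi11 zi1) (ki xi0 yi11 zi2) (ki xi0 yi11 zi3) (ki xi0 yi11 zi4) (ki xi0 yi11 zi5) (ki xi0 yi11 zi6) (ki xi0 yi11 zi7) (ki xi0 yi11 zi8) (ki xi0 yi11 zi9) (ki xi0 yi14 zi25) (ki xi0 yi8 zi22) (ki xi0 yi11 zi12) (ki xi0 yi8 zi25) (ki xi0 yi14 zi28) (ki xi0 yi14 zi29) (ki xi0 yi8 zi27) (ki xi0 yi8 zi28) (ki xi0 yi15 zi1) (ki xi0 yi15 zi2) (ki xi0 yi15 zi3) (ki xi0 yi8 zi31) (ki xi0 yi9 zi0) (ki xi0 yi9 zi1) (ki xi0 yi15 zi9) (ki xi0 yi15 zi10) (ki xi0 yi15 zi11) (ki xi0 yi15 zi12) (ki xi0 yi15 zi13) (ki xi0 yi11 zi29) (ki xi0 yi11 zi30) (ki xi0 yi11 zi31)) (@D3.rec (fun _ => Pt) (ki xi0 yi12 zi0) (ki xi0 yi12 zi1)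 (ki xi0 yi12 zi2) (ki xi0 yi12 zi3) (ki xi0 yi12 zi4) (ki xi0 yi12 zi5) (ki xi0 yi12 zi6) (ki xi0 yi15 zi30) (ki xi0 yi12 zi12) (ki xi0 yi12 zi13) (ki xi0 yi12 zi10) (ki xi0 yi12 zi11) (ki xi0 yi12 zi8) (ki xi0 yi12 zi9) (ki xi0 yi9 zi28) (ki xi0 yi9 zi20) (ki xi0 yi9 zi21) (ki xi0 yi9 zi22) (ki xi0 yi16 zi7) (ki xi0 yi16 zi8) (ki xi0 yi16 zi9) (ki xi0 yi16 zi10) (ki xi0 yi16 zi11) (ki xi0 yi12 zi23) (ki xi0 yi12 zi24) (ki xi0 yi12 zi25) (ki xi0 yi16 zi6) (ki xi0 yi12 zi27) (ki xi0 yi10 zi0) (ki xi0 yi10 zi1) (ki xi0 yi10 zi2) (ki xi0 yi10 zi3)) (@D3.rec (fun _ => Pt) (ki xi0 yi10 zi4) (ki xi0 yi16 zi22) (ki xi0 yi16 zi23) (ki xi0 yi16 zi24) (ki xi0 yi16 zi25) (ki xi0 yi16 zi27) (ki xi0 yi13 zi6) (ki xi0 yi13 zi7) (ki xi0 yi13 zi21) (ki xi0 yi13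 zi22) (ki xi0 yi13 zi23) (ki xi0 yi13 zi24) (ki xi0 yi13 zi25) (ki xi0 yi13 zi26) (ki xi0 yi13 zi14) (ki xi0 yi13 zi15) (ki xi0 yi13 zi16) (ki xi0 yi13 zi17) (ki xi0 yi13 zi18) (ki xi0 yi13 zi19) (ki xi0 yi13 zi20) (ki xi0 yi13 zi8) (ki xi0 yi13 zi9) (ki xi0 yi13 zi10) (ki xi0 yi13 zi11) (ki xi0 yi13 zi12) (ki xi0 yi13 zi13) (ki xi0 yi13 zi27) (ki xi0 yi10 zi24) (ki xi0 yi17 zi31) (ki xi0 yi18 zi0) (ki xi0 yi10 zi26)) (@D3.rec (fun _ => Pt) (ki xi0 yi10 zi27) (ki xi0 yi18 zi4) (ki xi0 yi18 zi5) (ki xi0 yi18 zi6) (ki xi0 yi10 zi30) (ki xi0 yi10 zi31) (ki xi0 yi11 zi0) (ki xi0 yi18 zi12) (ki xi0 yi18 zi13) (ki xi0 yi18 zi14) (ki xi0 yi18 zi15) (ki xi0 yi18 zi16) (ki xi0 yi14 zi12) (ki xi0 yi14 zi13) (ki xi0 yi14 zi14) (ki xi0 yi14 zi15) (ki xi0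 yi14 zi16) (ki xi0 yi14 zi17) (ki xi0 yi14 zi18) (ki xi0 yi14 zi19) (ki xi0 yi14 zi20) (ki xi0 yi19 zi4) (ki xi0 yi14 zi22) (ki xi0 yi14 zi23) (ki xi0 yi17 zi29) (ki xi0 yi11 zi10) (ki xi0 yi14 zi26) (ki xi0 yi14 zi27) (ki xi0 yi11 zi14) (ki xi0 yi11 zi15) (ki xi0 yi19 zi9) (ki xi0 yi19 zi10)) (@D3.rec (fun _ => Pt) (ki xi0 yi19 zi11) (ki xi0 yi11 zi18) (ki xi0 yi11 zi19) (ki xi0 yi11 zi20) (ki xi0 yi19 zi17) (ki xi0 yi19 zi18) (ki xi0 yi19 zi19) (ki xi0 yi19 zi20) (ki xi0 yi19 zi21) (ki xi0 yi11 zi24) (ki xi0 yi11 zi25) (ki xi0 yi11 zi26) (ki xi0 yi11 zi27) (ki xi0 yi11 zi28) (ki xi0 yi19 zi28) (ki xi0 yi19 zi29) (ki xi0 yi19 zi30) (ki xi0 yi19 zi31) (ki xi0 yi20 zi1) (ki xi0 yi15 zi19) (ki xi0 yi15 zi20) (ki xi0 yi15 zi21) (ki xi0 yi15 zi22)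 (ki xi0 yi20 zi17) (ki xi0 yi15 zi24) (ki xi0 yi15 zi25) (ki xi0 yi15 zi26) (ki xi0 yi15 zi27) (ki xi0 yi15 zi28) (ki xi0 yi20 zi22) (ki xi0 yi12 zi7) (ki xi0 yi16 zi3)) (@D3.rec (fun _ => Pt) (ki xi0 yi16 zi4) (ki xi0 yi16 zi5) (ki xi0 yi16 zi2) (ki xi0 yi15 zi31) (ki xi0 yi16 zi0) (ki xi0 yi16 zi1) (ki xi0 yi12 zi26) (ki xi0 yi12 zi18) (ki xi0 yi12 zi19) (ki xi0 yi12 zi20) (ki xi0 yi12 zi21) (ki xi0 yi12 zi22) (ki xi0 yi20 zi30) (ki xi0 yi20 zi31) (ki xi0 yi21 zi0) (ki xi0 yi21 zi1) (ki xi0 yi20 zi28) (ki xi0 yi21 zi3) (ki xi0 yi16 zi18) (ki xi0 yi16 zi19) (ki xi0 yi20 zi27) (ki xi0 yi16 zi21) (ki xi0 yi13 zi1) (ki xi0 yi13 zi2) (ki xi0 yi13 zi3) (ki xi0 yi13 zi4) (ki xi0 yi16 zi26) (ki xi0 yi13 zi5) (ki xi0 yi21 zi13) (ki xi0 yi21 zi14) (ki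 xi0 yi21 zi15) (ki xi0 yi21 zi16)) (@D3.rec (fun _ => Pt) (ki xi0 yi21 zi18) (ki xi0 yi21 zi19) (ki xi0 yi21 zi20) (ki xi0 yi17 zi3) (ki xi0 yi17 zi20) (ki xi0 yi17 zi21) (ki xi0 yi17 zi22) (ki xi0 yi17 zi23) (ki xi0 yi17 zi24) (ki xi0 yi17 zi25) (ki xi0 yi17 zi26) (ki xi0 yi17 zi27) (ki xi0 yi17 zi28) (ki xi0 yi17 zi13) (ki xi0 yi17 zi14) (ki xi0 yi17 zi15) (ki xi0 yi17 zi16) (ki xi0 yi17 zi17) (ki xi0 yi17 zi18) (ki xi0 yi17 zi19) (ki xi0 yi17 zi4) (ki xi0 yi17 zi5) (ki xi0 yi17 zi6) (ki xi0 yi17 zi7) (ki xi0 yi17 zi8) (ki xi0 yi17 zi9) (ki xi0 yi17 zi10) (ki xi0 yi17 zi11) (ki xi0 yi17 zi12) (ki xi0 yi14 zi24) (ki xi0 yi17 zi30) (ki xi0 yi13 zi29)) (@D3.rec (fun _ => Pt) (ki xi0 yi13 zi30) (ki xi1 yi1 zi0) (ki xi1 yi1 zi1) (ki xi1 yi1 zi2)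 (ki xi0 yi14 zi1) (ki xi0 yi14 zi2) (ki xi0 yi14 zi3) (ki xi1 yi1 zi8) (ki xi1 yi1 zi9) (ki xi1 yi1 zi10) (ki xi1 yi1 zi11) (ki xi1 yi1 zi12) (ki xi0 yi14 zi7) (ki xi0 yi14 zi8) (ki xi0 yi14 zi9) (ki xi0 yi14 zi10) (ki xi0 yi14 zi11) (ki xi1 yi1 zi19) (ki xi1 yi1 zi20) (ki xi1 yi1 zi21) (ki xi1 yi1 zi22) (ki xi1 yi2 zi2) (ki xi1 yi1 zi24) (ki xi0 yi18 zi23) (ki xi0 yi18 zi24) (ki xi0 yi18 zi25) (ki xi0 yi18 zi26) (ki xi1 yi2 zi12) (ki xi0 yi18 zi28) (ki xi0 yi18 zi29) (ki xi0 yi18 zi30) (ki xi0 yi18 zi31)) (@D3.rec (fun _ => Pt) (ki xi1 yi2 zi18) (ki xi0 yi19 zi1) (ki xi0 yi19 zi2) (ki xi1 yi0 zi29) (ki xi0 yi14 zi21) (ki xi1 yi0 zi23) (ki xi0 yi19 zi6) (ki xi0 yi19 zi7) (ki xi0 yi19 zi8) (ki xi0 yi14 zi30) (ki xi0 yi14 zi31) (ki xi0 yi15 zi0)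 (ki xi1 yi2 zi26) (ki xi1 yi2 zi27) (ki xi1 yi2 zi28) (ki xi1 yi2 zi29) (ki xi1 yi2 zi30) (ki xi0 yi15 zi4) (ki xi0 yi15 zi5) (ki xi0 yi15 zi6) (ki xi0 yi15 zi7) (ki xi0 yi15 zi8) (ki xi1 yi3 zi5) (ki xi1 yi3 zi6) (ki xi1 yi3 zi7) (ki xi1 yi3 zi8) (ki xi1 yi3 zi20) (ki xi1 yi3 zi10) (ki xi0 yi15 zi14) (ki xi0 yi15 zi15) (ki xi0 yi15 zi16) (ki xi0 yi15 zi17)) (@D3.rec (fun _ => Pt) (ki xi0 yi20 zi0) (ki xi0 yi15 zi18) (ki xi1 yi3 zi21) (ki xi1 yi3 zi22) (ki xi1 yi3 zi23) (ki xi1 yi3 zi24) (ki xi1 yi3 zi26) (ki xi1 yi3 zi27) (ki xi1 yi3 zi28) (ki xi0 yi20 zi9) (ki xi0 yi20 zi10) (ki xi0 yi20 zi11) (ki xi0 yi20 zi12) (ki xi1 yi4 zi13) (ki xi0 yi20 zi14) (ki xi0 yi20 zi15) (ki xi1 yi4 zi15) (ki xi0 yi15 zi23) (ki xi0 yi20 zi18) (ki xi0 yi20 zi19)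 (ki xi1 yi4 zi18) (ki xi1 yi4 zi20) (ki xi0 yi15 zi29) (ki xi0 yi20 zi25) (ki xi0 yi20 zi26) (ki xi0 yi20 zi23) (ki xi0 yi20 zi24) (ki xi0 yi16 zi20) (ki xi0 yi16 zi16) (ki xi1 yi4 zi28) (ki xi0 yi16 zi12) (ki xi0 yi16 zi13)) (@D3.rec (fun _ => Pt) (ki xi0 yi16 zi14) (ki xi0 yi16 zi15) (ki xi1 yi4 zi29) (ki xi0 yi16 zi17) (ki xi1 yi4 zi30) (ki xi1 yi4 zi31) (ki xi1 yi5 zi0) (ki xi1 yi5 zi1) (ki xi1 yi4 zi26) (ki xi1 yi5 zi3) (ki xi1 yi5 zi4) (ki xi1 yi4 zi24) (ki xi0 yi21 zi12) (ki xi0 yi16 zi28) (ki xi0 yi16 zi29) (ki xi0 yi16 zi30) (ki xi0 yi16 zi31) (ki xi0 yi21 zi17) (ki xi0 yi17 zi0) (ki xi0 yi17 zi1) (ki xi0 yi17 zi2) (ki xi0 yi21 zi21) (ki xi1 yi5 zi12) (ki xi1 yi5 zi13) (ki xi1 yi5 zi15) (ki xi1 yi5 zi16) (ki xi1 yi5 zi18) (ki xi1 yi5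 zi19) (ki xi1 yi5 zi21) (ki xi1 yi0 zi16) (ki xi1 yi0 zi17) (ki xi1 yi0 zi18))
def f_i_1 : D2 → D3 → Pt := @D2.rec (fun _ => D3 → Pt) (@D3.rec (fun _ => Pt) (ki xi1 yi0 zi19) (ki xi1 yi0 zi20) (ki xi1 yi0 zi21) (ki xi1 yi0 zi22) (ki xi1 yi0 zi24) (ki xi1 yi0 zi25) (ki xi1 yi0 zi26) (ki xi1 yi0 zi27) (ki xi1 yi0 zi8) (ki xi1 yi0 zi9) (ki xi1 yi0 zi10) (ki xi1 yi0 zi11) (ki xi1 yi6 zi20) (ki xi1 yi0 zi13) (ki xi1 yi0 zi14) (ki xi1 yi0 zi15) (ki xi0 yi21 zi29) (ki xi0 yi21 zi30) (ki xi0 yi21 zi31) (ki xi1 yi0 zi0) (ki xi1 yi0 zi1) (ki xi1 yi0 zi2) (ki xi1 yi0 zi3) (ki xi0 yi19 zi5) (ki xi1 yi0 zi4) (ki xi1 yi0 zi5) (ki xi1 yi0 zi6) (ki xi1 yi0 zi7) (ki xi1 yi7 zi12) (ki xi0 yi19 zi3) (ki xi1 yi0 zi30) (ki xi1 yi0 zi31)) (@D3.rec (fun _ => Pt) (ki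 xi0 yi18 zi1) (ki xi0 yi18 zi2) (ki xi0 yi18 zi3) (ki xi1 yi7 zi16) (ki xi1 yi7 zi17) (ki xi1 yi7 zi18) (ki xi1 yi7 zi19) (ki xi1 yi7 zi20) (ki xi0 yi18 zi7) (ki xi0 yi18 zi8) (ki xi0 yi18 zi9) (ki xi0 yi18 zi10) (ki xi0 yi18 zi11) (ki xi1 yi7 zi27) (ki xi1 yi7 zi28) (ki xi1 yi7 zi29) (ki xi1 yi7 zi30) (ki xi1 yi8 zi10) (ki xi1 yi8 zi0) (ki xi0 yi18 zi17) (ki xi0 yi18 zi18) (ki xi0 yi18 zi19) (ki xi0 yi18 zi20) (ki xi1 yi8 zi20) (ki xi0 yi18 zi22) (ki xi1 yi8 zi11) (ki xi1 yi8 zi12) (ki xi1 yi8 zi13) (ki xi1 yi8 zi14) (ki xi1 yi8 zi30) (ki xi1 yi8 zi16) (ki xi1 yi8 zi17)) (@D3.rec (fun _ => Pt) (ki xi1 yi8 zi18) (ki xi1 yi7 zi10) (ki xi0 yi18 zi21) (ki xi1 yi2 zi3) (ki xi1 yi2 zi4) (ki xi1 yi2 zi5) (ki xi1 yi2 zi6) (ki xi1 yi9 zi10) (ki xi1 yi2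 zi8) (ki xi1 yi2 zi9) (ki xi1 yi2 zi10) (ki xi1 yi9 zi13) (ki xi0 yi18 zi27) (ki xi1 yi2 zi13) (ki xi1 yi9 zi16) (ki xi1 yi2 zi15) (ki xi1 yi2 zi16) (ki xi1 yi7 zi8) (ki xi0 yi19 zi0) (ki xi1 yi7 zi2) (ki xi1 yi6 zi28) (ki xi1 yi2 zi21) (ki xi1 yi2 zi22) (ki xi1 yi2 zi23) (ki xi1 yi2 zi24) (ki xi1 yi2 zi25) (ki xi0 yi19 zi12) (ki xi0 yi19 zi13) (ki xi0 yi19 zi14) (ki xi0 yi19 zi15) (ki xi0 yi19 zi16) (ki xi1 yi9 zi28)) (@D3.rec (fun _ => Pt) (ki xi1 yi9 zi29) (ki xi1 yi9 zi30) (ki xi1 yi9 zi31) (ki xi1 yi10 zi11) (ki xi1 yi10 zi1) (ki xi0 yi19 zi22) (ki xi0 yi19 zi23) (ki xi0 yi19 zi24) (ki xi0 yi19 zi25) (ki xi1 yi10 zi21) (ki xi0 yi19 zi27) (ki xi1 yi10 zi12) (ki xi1 yi10 zi13) (ki xi1 yi10 zi14) (ki xi1 yi10 zi15) (ki xi1 yi10 zi31) (ki xi1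 yi10 zi17) (ki xi1 yi10 zi18) (ki xi1 yi10 zi19) (ki xi1 yi11 zi3) (ki xi0 yi19 zi26) (ki xi0 yi20 zi2) (ki xi0 yi20 zi3) (ki xi0 yi20 zi4) (ki xi0 yi20 zi5) (ki xi1 yi3 zi25) (ki xi0 yi20 zi6) (ki xi0 yi20 zi7) (ki xi0 yi20 zi8) (ki xi1 yi3 zi29) (ki xi1 yi11 zi4) (ki xi1 yi11 zi5)) (@D3.rec (fun _ => Pt) (ki xi1 yi11 zi7) (ki xi1 yi11 zi8) (ki xi1 yi11 zi10) (ki xi1 yi11 zi11) (ki xi1 yi11 zi13) (ki xi1 yi4 zi5) (ki xi1 yi4 zi6) (ki xi1 yi11 zi29) (ki xi1 yi4 zi8) (ki xi1 yi4 zi9) (ki xi1 yi12 zi1) (ki xi1 yi4 zi11) (ki xi1 yi12 zi3) (ki xi0 yi20 zi13) (ki xi1 yi12 zi4) (ki xi0 yi20 zi16) (ki xi1 yi4 zi16) (ki xi1 yi12 zi7) (ki xi0 yi20 zi20) (ki xi1 yi12 zi9) (ki xi0 yi20 zi21) (ki xi1 yi4 zi23) (ki xi1 yi4 zi25) (ki xi1 yi4 zi21) (ki xi0 yi21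 zi11) (ki xi1 yi4 zi22) (ki xi0 yi21 zi8) (ki xi1 yi12 zi16) (ki xi0 yi20 zi29) (ki xi0 yi21 zi2) (ki xi0 yi21 zi4) (ki xi0 yi21 zi5)) (@D3.rec (fun _ => Pt) (ki xi0 yi21 zi6) (ki xi0 yi21 zi7) (ki xi1 yi12 zi17) (ki xi0 yi21 zi9) (ki xi0 yi21 zi10) (ki xi1 yi12 zi18) (ki xi1 yi12 zi19) (ki xi1 yi12 zi12) (ki xi1 yi12 zi21) (ki xi1 yi12 zi22) (ki xi1 yi12 zi14) (ki xi1 yi12 zi24) (ki xi0 yi21 zi22) (ki xi0 yi21 zi23) (ki xi1 yi5 zi14) (ki xi0 yi21 zi24) (ki xi0 yi21 zi25) (ki xi1 yi5 zi17) (ki xi0 yi21 zi26) (ki xi0 yi21 zi27) (ki xi1 yi5 zi20) (ki xi0 yi21 zi28) (ki xi1 yi5 zi22) (ki xi1 yi5 zi23) (ki xi1 yi12 zi30) (ki xi1 yi12 zi31) (ki xi1 yi13 zi1) (ki xi1 yi13 zi2) (ki xi1 yi13 zi4) (ki xi1 yi13 zi5) (ki xi1 yi13 zi8) (ki xi1 yi13 zi11))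 (@D3.rec (fun _ => Pt) (ki xi1 yi6 zi24) (ki xi1 yi6 zi25) (ki xi1 yi6 zi26) (ki xi1 yi6 zi27) (ki xi1 yi6 zi29) (ki xi1 yi6 zi30) (ki xi1 yi6 zi31) (ki xi1 yi7 zi0) (ki xi1 yi14 zi1) (ki xi1 yi7 zi3) (ki xi1 yi7 zi4) (ki xi1 yi7 zi5) (ki xi1 yi7 zi6) (ki xi1 yi7 zi9) (ki xi1 yi6 zi14) (ki xi1 yi6 zi15) (ki xi1 yi6 zi16) (ki xi1 yi6 zi17) (ki xi1 yi14 zi12) (ki xi1 yi14 zi13) (ki xi1 yi0 zi12) (ki xi1 yi6 zi21) (ki xi1 yi6 zi22) (ki xi1 yi6 zi23) (ki xi1 yi6 zi0) (ki xi1 yi6 zi1) (ki xi1 yi6 zi2) (ki xi1 yi6 zi3) (ki xi1 yi2 zi20) (ki xi1 yi6 zi4) (ki xi1 yi6 zi5) (ki xi1 yi6 zi6)) (@D3.rec (fun _ => Pt) (ki xi1 yi6 zi7) (ki xi1 yi15 zi2) (ki xi1 yi2 zi19) (ki xi1 yi6 zi9) (ki xi1 yi6 zi10) (ki xi1 yi6 zi11) (ki xi1 yi6 zi12) (ki xi1 yi15 zi12)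 (ki xi1 yi2 zi17) (ki xi1 yi6 zi13) (ki xi1 yi2 zi1) (ki xi1 yi15 zi16) (ki xi1 yi0 zi28) (ki xi1 yi7 zi13) (ki xi1 yi7 zi14) (ki xi1 yi7 zi15) (ki xi1 yi1 zi3) (ki xi1 yi1 zi4) (ki xi1 yi1 zi5) (ki xi1 yi1 zi6) (ki xi1 yi1 zi7) (ki xi1 yi15 zi22) (ki xi1 yi15 zi23) (ki xi1 yi15 zi24) (ki xi1 yi15 zi25) (ki xi1 yi16 zi5) (ki xi1 yi15 zi27) (ki xi1 yi1 zi13) (ki xi1 yi1 zi14) (ki xi1 yi1 zi15) (ki xi1 yi1 zi16) (ki xi1 yi16 zi15)) (@D3.rec (fun _ => Pt) (ki xi1 yi1 zi18) (ki xi1 yi16 zi6) (ki xi1 yi16 zi7) (ki xi1 yi16 zi8) (ki xi1 yi16 zi9) (ki xi1 yi16 zi25) (ki xi1 yi16 zi11) (ki xi1 yi16 zi12) (ki xi1 yi16 zi13) (ki xi1 yi16 zi29) (ki xi1 yi1 zi17) (ki xi1 yi1 zi25) (ki xi1 yi1 zi26) (ki xi1 yi1 zi27) (ki xi1 yi1 zi28) (ki xi1 yi17 zi7) (ki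 xi1 yi1 zi30) (ki xi1 yi1 zi31) (ki xi1 yi2 zi0) (ki xi1 yi15 zi15) (ki xi1 yi1 zi23) (ki xi1 yi16 zi30) (ki xi1 yi16 zi31) (ki xi1 yi17 zi16) (ki xi1 yi17 zi1) (ki xi1 yi17 zi2) (ki xi1 yi17 zi20) (ki xi1 yi17 zi4) (ki xi1 yi17 zi5) (ki xi1 yi15 zi10) (ki xi1 yi1 zi29) (ki xi1 yi17 zi8)) (@D3.rec (fun _ => Pt) (ki xi1 yi15 zi13) (ki xi1 yi9 zi1) (ki xi1 yi9 zi2) (ki xi1 yi17 zi30) (ki xi1 yi9 zi4) (ki xi1 yi9 zi5) (ki xi1 yi18 zi3) (ki xi1 yi9 zi7) (ki xi1 yi9 zi8) (ki xi1 yi18 zi6) (ki xi1 yi2 zi7) (ki xi1 yi18 zi8) (ki xi1 yi18 zi9) (ki xi1 yi2 zi11) (ki xi1 yi9 zi14) (ki xi1 yi15 zi6) (ki xi1 yi2 zi14) (ki xi1 yi14 zi30) (ki xi1 yi15 zi0) (ki xi1 yi14 zi24) (ki xi1 yi9 zi20) (ki xi1 yi9 zi21) (ki xi1 yi9 zi22) (ki xi1 yi9 zi23) (ki xi1 yi9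 zi24) (ki xi1 yi9 zi25) (ki xi1 yi9 zi26) (ki xi1 yi9 zi27) (ki xi1 yi2 zi31) (ki xi1 yi3 zi0) (ki xi1 yi3 zi1) (ki xi1 yi3 zi2)) (@D3.rec (fun _ => Pt) (ki xi1 yi19 zi2) (ki xi1 yi3 zi4) (ki xi1 yi18 zi25) (ki xi1 yi18 zi26) (ki xi1 yi18 zi27) (ki xi1 yi18 zi28) (ki xi1 yi19 zi12) (ki xi1 yi18 zi30) (ki xi1 yi18 zi31) (ki xi1 yi19 zi0) (ki xi1 yi19 zi16) (ki xi1 yi3 zi3) (ki xi1 yi3 zi11) (ki xi1 yi3 zi12) (ki xi1 yi3 zi13) (ki xi1 yi3 zi14) (ki xi1 yi19 zi26) (ki xi1 yi3 zi16) (ki xi1 yi3 zi17) (ki xi1 yi3 zi18) (ki xi1 yi19 zi13) (ki xi1 yi3 zi9) (ki xi1 yi19 zi17) (ki xi1 yi19 zi18) (ki xi1 yi20 zi1) (ki xi1 yi19 zi20) (ki xi1 yi19 zi21) (ki xi1 yi20 zi6) (ki xi1 yi19 zi23) (ki xi1 yi19 zi24) (ki xi1 yi20 zi10) (ki xi1 yi3 zi15)) (@D3.rec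 (fun _ => Pt) (ki xi1 yi19 zi1) (ki xi1 yi19 zi15) (ki xi1 yi19 zi14) (ki xi1 yi3 zi19) (ki xi1 yi3 zi30) (ki xi1 yi3 zi31) (ki xi1 yi11 zi6) (ki xi1 yi4 zi0) (ki xi1 yi4 zi1) (ki xi1 yi11 zi9) (ki xi1 yi4 zi2) (ki xi1 yi4 zi3) (ki xi1 yi11 zi12) (ki xi1 yi4 zi4) (ki xi1 yi11 zi14) (ki xi1 yi11 zi15) (ki xi1 yi20 zi11) (ki xi1 yi20 zi12) (ki xi1 yi20 zi14) (ki xi1 yi20 zi15) (ki xi1 yi20 zi17) (ki xi1 yi20 zi18) (ki xi1 yi20 zi21) (ki xi1 yi18 zi23) (ki xi1 yi11 zi24) (ki xi1 yi11 zi25) (ki xi1 yi21 zi4) (ki xi1 yi11 zi27) (ki xi1 yi21 zi6) (ki xi1 yi4 zi7) (ki xi1 yi11 zi30) (ki xi1 yi21 zi9)) (@D3.rec (fun _ => Pt) (ki xi1 yi21 zi11) (ki xi1 yi4 zi10) (ki xi1 yi21 zi12) (ki xi1 yi4 zi12) (ki xi1 yi4 zi14) (ki xi1 yi21 zi14) (ki xi1 yi21 zi16)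 (ki xi1 yi4 zi17) (ki xi1 yi21 zi18) (ki xi1 yi4 zi19) (ki xi1 yi12 zi11) (ki xi1 yi12 zi10) (ki xi1 yi5 zi7) (ki xi1 yi21 zi24) (ki xi1 yi5 zi10) (ki xi1 yi21 zi26) (ki xi1 yi4 zi27) (ki xi1 yi5 zi2) (ki xi1 yi5 zi5) (ki xi1 yi5 zi6) (ki xi1 yi21 zi25) (ki xi1 yi5 zi8) (ki xi1 yi5 zi9) (ki xi1 yi21 zi27) (ki xi1 yi5 zi11) (ki xi1 yi21 zi29) (ki xi1 yi21 zi30) (ki xi1 yi21 zi22) (ki xi2 yi0 zi0) (ki xi2 yi0 zi1) (ki xi1 yi5 zi24) (ki xi1 yi5 zi25)) (@D3.rec (fun _ => Pt) (ki xi1 yi13 zi0) (ki xi1 yi5 zi26) (ki xi1 yi5 zi27) (ki xi1 yi13 zi3) (ki xi1 yi5 zi28) (ki xi1 yi5 zi29) (ki xi1 yi13 zi6) (ki xi1 yi13 zi7) (ki xi1 yi5 zi30) (ki xi1 yi13 zi9) (ki xi1 yi13 zi10) (ki xi1 yi5 zi31) (ki xi1 yi13 zi12) (ki xi1 yi13 zi13) (ki xi2 yi0 zi6) (ki xi2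 yi0 zi8) (ki xi2 yi0 zi9) (ki xi2 yi0 zi12) (ki xi2 yi0 zi15) (ki xi2 yi0 zi16) (ki xi2 yi0 zi21) (ki xi1 yi14 zi19) (ki xi1 yi14 zi20) (ki xi1 yi14 zi21) (ki xi1 yi14 zi22) (ki xi2 yi1 zi6) (ki xi1 yi14 zi25) (ki xi1 yi14 zi26) (ki xi1 yi14 zi27) (ki xi1 yi14 zi28) (ki xi2 yi1 zi14) (ki xi1 yi14 zi31)) (@D3.rec (fun _ => Pt) (ki xi2 yi1 zi16) (ki xi1 yi6 zi8) (ki xi1 yi15 zi3) (ki xi1 yi15 zi4) (ki xi1 yi15 zi7) (ki xi1 yi15 zi9) (ki xi1 yi14 zi6) (ki xi1 yi14 zi7) (ki xi2 yi1 zi25) (ki xi1 yi14 zi9) (ki xi2 yi1 zi28) (ki xi2 yi1 zi29) (ki xi1 yi6 zi18) (ki xi1 yi6 zi19) (ki xi1 yi14 zi14) (ki xi1 yi14 zi15) (ki xi1 yi14 zi16) (ki xi1 yi14 zi17) (ki xi1 yi14 zi18) (ki xi1 yi13 zi21) (ki xi1 yi13 zi22) (ki xi1 yi13 zi23) (ki xi1 yi13 zi24) (ki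 xi2 yi2 zi13) (ki xi1 yi9 zi19) (ki xi1 yi13 zi26) (ki xi1 yi13 zi27) (ki xi1 yi13 zi28) (ki xi1 yi13 zi29) (ki xi2 yi2 zi23) (ki xi1 yi9 zi17) (ki xi1 yi13 zi31)) (@D3.rec (fun _ => Pt) (ki xi1 yi9 zi18) (ki xi2 yi2 zi27) (ki xi1 yi7 zi1) (ki xi1 yi14 zi2) (ki xi1 yi14 zi3) (ki xi2 yi3 zi2) (ki xi1 yi9 zi15) (ki xi1 yi14 zi4) (ki xi2 yi3 zi7) (ki xi1 yi14 zi5) (ki xi1 yi8 zi29) (ki xi2 yi3 zi11) (ki xi1 yi7 zi7) (ki xi1 yi9 zi0) (ki xi2 yi3 zi12) (ki xi1 yi8 zi19) (ki xi1 yi7 zi11) (ki xi1 yi15 zi17) (ki xi1 yi15 zi18) (ki xi1 yi15 zi19) (ki xi1 yi15 zi20) (ki xi1 yi15 zi21) (ki xi1 yi7 zi21) (ki xi1 yi7 zi22) (ki xi1 yi7 zi23) (ki xi1 yi7 zi24) (ki xi2 yi3 zi30) (ki xi1 yi7 zi26) (ki xi2 yi3 zi21) (ki xi2 yi3 zi22) (ki xi2 yi3 zi23) (ki xi2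 yi3 zi24)) (@D3.rec (fun _ => Pt) (ki xi2 yi4 zi8) (ki xi2 yi3 zi26) (ki xi2 yi3 zi27) (ki xi2 yi3 zi28) (ki xi2 yi4 zi12) (ki xi1 yi7 zi25) (ki xi1 yi8 zi1) (ki xi1 yi8 zi2) (ki xi1 yi8 zi3) (ki xi1 yi8 zi4) (ki xi2 yi4 zi22) (ki xi1 yi8 zi6) (ki xi1 yi8 zi7) (ki xi1 yi8 zi8) (ki xi2 yi4 zi26) (ki xi1 yi7 zi31) (ki xi2 yi4 zi13) (ki xi2 yi4 zi14) (ki xi2 yi5 zi1) (ki xi2 yi4 zi16) (ki xi2 yi4 zi17) (ki xi2 yi5 zi6) (ki xi2 yi4 zi19) (ki xi2 yi4 zi20) (ki xi2 yi5 zi10) (ki xi1 yi8 zi5) (ki xi2 yi4 zi23) (ki xi2 yi5 zi14) (ki xi2 yi5 zi15) (ki xi1 yi8 zi9) (ki xi1 yi8 zi21) (ki xi1 yi8 zi22)) (@D3.rec (fun _ => Pt) (ki xi2 yi5 zi22) (ki xi1 yi8 zi24) (ki xi1 yi8 zi25) (ki xi2 yi5 zi27) (ki xi1 yi8 zi27) (ki xi1 yi8 zi28) (ki xi2 yi3 zi10) (ki xi1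 yi8 zi15) (ki xi1 yi8 zi31) (ki xi2 yi3 zi13) (ki xi2 yi5 zi16) (ki xi2 yi5 zi17) (ki xi2 yi6 zi3) (ki xi2 yi5 zi19) (ki xi2 yi5 zi20) (ki xi2 yi3 zi0) (ki xi1 yi8 zi23) (ki xi2 yi5 zi23) (ki xi2 yi5 zi24) (ki xi2 yi3 zi4) (ki xi1 yi8 zi26) (ki xi2 yi5 zi28) (ki xi2 yi3 zi8) (ki xi2 yi2 zi24) (ki xi1 yi17 zi24) (ki xi1 yi17 zi25) (ki xi2 yi6 zi17) (ki xi1 yi17 zi27) (ki xi1 yi17 zi28) (ki xi2 yi6 zi20) (ki xi1 yi9 zi3) (ki xi1 yi17 zi31)) (@D3.rec (fun _ => Pt) (ki xi1 yi18 zi0) (ki xi2 yi6 zi24) (ki xi2 yi6 zi26) (ki xi1 yi9 zi6) (ki xi2 yi6 zi28) (ki xi2 yi6 zi29) (ki xi1 yi9 zi9) (ki xi2 yi6 zi31) (ki xi1 yi9 zi11) (ki xi1 yi9 zi12) (ki xi2 yi2 zi17) (ki xi2 yi2 zi21) (ki xi2 yi2 zi11) (ki xi2 yi2 zi9) (ki xi1 yi18 zi14) (ki xi1 yi18 zi15)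 (ki xi1 yi18 zi16) (ki xi1 yi18 zi17) (ki xi1 yi18 zi18) (ki xi1 yi18 zi19) (ki xi1 yi18 zi20) (ki xi1 yi18 zi21) (ki xi1 yi18 zi22) (ki xi1 yi11 zi23) (ki xi1 yi18 zi24) (ki xi1 yi10 zi2) (ki xi1 yi10 zi3) (ki xi1 yi10 zi4) (ki xi1 yi10 zi5) (ki xi2 yi7 zi22) (ki xi1 yi10 zi7) (ki xi1 yi10 zi8)) (@D3.rec (fun _ => Pt) (ki xi1 yi10 zi9) (ki xi1 yi11 zi0) (ki xi1 yi10 zi0) (ki xi2 yi7 zi13) (ki xi2 yi7 zi14) (ki xi2 yi7 zi29) (ki xi2 yi7 zi16) (ki xi2 yi7 zi17) (ki xi2 yi8 zi2) (ki xi2 yi7 zi19) (ki xi2 yi7 zi20) (ki xi2 yi8 zi6) (ki xi1 yi10 zi6) (ki xi1 yi10 zi20) (ki xi1 yi11 zi2) (ki xi1 yi11 zi1) (ki xi1 yi10 zi10) (ki xi1 yi10 zi22) (ki xi1 yi10 zi23) (ki xi2 yi8 zi13) (ki xi1 yi10 zi25) (ki xi1 yi10 zi26) (ki xi2 yi8 zi18) (ki xi1 yi10 zi28)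 (ki xi1 yi10 zi29) (ki xi2 yi8 zi3) (ki xi1 yi10 zi16) (ki xi2 yi8 zi7) (ki xi2 yi8 zi8) (ki xi2 yi8 zi25) (ki xi2 yi8 zi10) (ki xi2 yi8 zi11)) (@D3.rec (fun _ => Pt) (ki xi2 yi8 zi29) (ki xi1 yi10 zi24) (ki xi2 yi8 zi14) (ki xi2 yi8 zi15) (ki xi2 yi9 zi3) (ki xi2 yi9 zi5) (ki xi1 yi10 zi27) (ki xi2 yi7 zi21) (ki xi2 yi8 zi5) (ki xi2 yi8 zi4) (ki xi1 yi10 zi30) (ki xi1 yi11 zi16) (ki xi1 yi11 zi17) (ki xi1 yi20 zi13) (ki xi1 yi11 zi18) (ki xi1 yi11 zi19) (ki xi1 yi20 zi16) (ki xi1 yi11 zi20) (ki xi1 yi11 zi21) (ki xi1 yi20 zi19) (ki xi1 yi20 zi20) (ki xi1 yi11 zi22) (ki xi1 yi20 zi22) (ki xi1 yi20 zi23) (ki xi2 yi9 zi6) (ki xi2 yi9 zi8) (ki xi2 yi9 zi9) (ki xi2 yi9 zi12) (ki xi2 yi9 zi15) (ki xi2 yi9 zi16) (ki xi2 yi7 zi11) (ki xi1 yi20 zi31))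 (@D3.rec (fun _ => Pt) (ki xi2 yi10 zi0) (ki xi1 yi21 zi1) (ki xi2 yi10 zi3) (ki xi2 yi10 zi5) (ki xi1 yi11 zi26) (ki xi2 yi10 zi6) (ki xi1 yi11 zi28) (ki xi2 yi10 zi8) (ki xi2 yi10 zi10) (ki xi1 yi11 zi31) (ki xi2 yi10 zi12) (ki xi1 yi12 zi0) (ki xi1 yi12 zi2) (ki xi2 yi10 zi16) (ki xi1 yi12 zi5) (ki xi2 yi10 zi18) (ki xi1 yi12 zi6) (ki xi2 yi10 zi21) (ki xi1 yi12 zi8) (ki xi1 yi21 zi19) (ki xi1 yi21 zi21) (ki xi1 yi21 zi20) (ki xi1 yi12 zi27) (ki xi2 yi10 zi25) (ki xi1 yi12 zi13) (ki xi1 yi12 zi20) (ki xi1 yi12 zi15) (ki xi1 yi12 zi23) (ki xi2 yi10 zi28) (ki xi1 yi12 zi25) (ki xi1 yi12 zi26) (ki xi2 yi10 zi26))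
def f_i_2 : D2 → D3 → Pt := @D2.rec (fun _ => D3 → Pt) (@D3.rec (fun _ => Pt) (ki xi1 yi12 zi28) (ki xi1 yi12 zi29) (ki xi2 yi10 zi29) (ki xi2 yi10 zi30) (ki xi2 yi10 zi23) (ki xi2 yi11 zi0) (ki xi1 yi13 zi14) (ki xi2 yi0 zi7) (ki xi1 yi13 zi15) (ki xi1 yi13 zi16) (ki xi2 yi0 zi10) (ki xi2 yi0 zi11) (ki xi1 yi13 zi17) (ki xi2 yi0 zi13) (ki xi2 yi0 zi14) (ki xi1 yi13 zi18) (ki xi1 yi13 zi19) (ki xi2 yi0 zi17) (ki xi2 yi0 zi18) (ki xi2 yi0 zi19) (ki xi2 yi0 zi20) (ki xi1 yi13 zi20) (ki xi2 yi0 zi22) (ki xi2 yi0 zi23) (ki xi2 yi11 zi3) (ki xi2 yi11 zi4) (ki xi2 yi11 zi7) (ki xi2 yi11 zi8) (ki xi2 yi11 zi13) (ki xi2 yi11 zi16) (ki xi2 yi11 zi17) (ki xi2 yi2 zi4)) (@D3.rec (fun _ => Pt) (ki xi2 yi2 zi5) (ki xi2 yi2 zi6) (ki xi2 yi2 zi7) (ki xi2 yi12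 zi0) (ki xi2 yi2 zi10) (ki xi2 yi12 zi2) (ki xi1 yi13 zi25) (ki xi2 yi2 zi14) (ki xi2 yi2 zi15) (ki xi2 yi12 zi8) (ki xi2 yi2 zi18) (ki xi2 yi12 zi12) (ki xi2 yi2 zi20) (ki xi2 yi12 zi14) (ki xi1 yi13 zi30) (ki xi2 yi12 zi15) (ki xi1 yi14 zi0) (ki xi2 yi2 zi28) (ki xi2 yi2 zi29) (ki xi2 yi2 zi31) (ki xi2 yi3 zi3) (ki xi2 yi1 zi21) (ki xi2 yi1 zi22) (ki xi2 yi12 zi23) (ki xi2 yi12 zi24) (ki xi1 yi14 zi8) (ki xi2 yi12 zi26) (ki xi2 yi12 zi28) (ki xi1 yi14 zi10) (ki xi1 yi14 zi11) (ki xi2 yi1 zi30) (ki xi2 yi1 zi31)) (@D3.rec (fun _ => Pt) (ki xi2 yi2 zi0) (ki xi2 yi2 zi1) (ki xi2 yi13 zi6) (ki xi2 yi2 zi3) (ki xi2 yi0 zi31) (ki xi2 yi1 zi0) (ki xi2 yi1 zi1) (ki xi2 yi1 zi2) (ki xi2 yi13 zi16) (ki xi1 yi18 zi13) (ki xi2 yi1 zi4) (ki xi1 yi18 zi12)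 (ki xi2 yi13 zi20) (ki xi1 yi14 zi23) (ki xi2 yi1 zi7) (ki xi2 yi1 zi8) (ki xi2 yi13 zi27) (ki xi1 yi18 zi10) (ki xi2 yi1 zi10) (ki xi2 yi14 zi0) (ki xi2 yi1 zi12) (ki xi1 yi18 zi11) (ki xi2 yi14 zi4) (ki xi1 yi14 zi29) (ki xi1 yi17 zi23) (ki xi2 yi14 zi8) (ki xi2 yi14 zi9) (ki xi1 yi15 zi1) (ki xi2 yi1 zi17) (ki xi2 yi1 zi18) (ki xi2 yi14 zi16) (ki xi2 yi1 zi19)) (@D3.rec (fun _ => Pt) (ki xi1 yi17 zi15) (ki xi2 yi14 zi20) (ki xi1 yi15 zi5) (ki xi2 yi1 zi20) (ki xi1 yi17 zi19) (ki xi2 yi14 zi26) (ki xi2 yi14 zi27) (ki xi1 yi15 zi8) (ki xi1 yi17 zi22) (ki xi2 yi14 zi28) (ki xi1 yi17 zi6) (ki xi1 yi15 zi11) (ki xi1 yi15 zi14) (ki xi1 yi17 zi9) (ki xi2 yi14 zi5) (ki xi2 yi3 zi15) (ki xi2 yi3 zi16) (ki xi2 yi3 zi17) (ki xi2 yi3 zi18) (ki xi2 yi15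 zi10) (ki xi2 yi3 zi20) (ki xi1 yi15 zi28) (ki xi1 yi15 zi29) (ki xi1 yi15 zi30) (ki xi1 yi15 zi31) (ki xi2 yi15 zi20) (ki xi1 yi16 zi1) (ki xi1 yi16 zi2) (ki xi1 yi16 zi3) (ki xi2 yi15 zi24) (ki xi1 yi15 zi26) (ki xi2 yi15 zi11)) (@D3.rec (fun _ => Pt) (ki xi2 yi15 zi12) (ki xi2 yi15 zi31) (ki xi2 yi15 zi14) (ki xi2 yi15 zi15) (ki xi2 yi16 zi4) (ki xi2 yi15 zi17) (ki xi2 yi15 zi18) (ki xi2 yi16 zi8) (ki xi1 yi16 zi0) (ki xi2 yi15 zi21) (ki xi2 yi16 zi12) (ki xi2 yi16 zi13) (ki xi1 yi16 zi4) (ki xi1 yi16 zi16) (ki xi1 yi16 zi17) (ki xi2 yi16 zi20) (ki xi1 yi16 zi19) (ki xi1 yi16 zi20) (ki xi2 yi16 zi25) (ki xi1 yi16 zi22) (ki xi1 yi16 zi23) (ki xi2 yi16 zi29) (ki xi1 yi16 zi10) (ki xi1 yi16 zi26) (ki xi2 yi17 zi0) (ki xi2 yi17 zi1) (ki xi1 yi16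 zi14) (ki xi2 yi16 zi14) (ki xi2 yi16 zi15) (ki xi2 yi17 zi8) (ki xi2 yi16 zi17) (ki xi2 yi16 zi18)) (@D3.rec (fun _ => Pt) (ki xi2 yi17 zi12) (ki xi1 yi16 zi18) (ki xi2 yi16 zi21) (ki xi2 yi16 zi22) (ki xi2 yi17 zi18) (ki xi2 yi17 zi20) (ki xi1 yi16 zi21) (ki xi2 yi16 zi26) (ki xi2 yi17 zi24) (ki xi2 yi17 zi25) (ki xi1 yi16 zi24) (ki xi2 yi14 zi31) (ki xi2 yi17 zi26) (ki xi2 yi17 zi28) (ki xi1 yi16 zi27) (ki xi1 yi16 zi28) (ki xi1 yi17 zi10) (ki xi1 yi17 zi11) (ki xi2 yi18 zi3) (ki xi1 yi17 zi13) (ki xi1 yi17 zi14) (ki xi2 yi14 zi19) (ki xi1 yi17 zi0) (ki xi1 yi17 zi17) (ki xi1 yi17 zi18) (ki xi2 yi14 zi24) (ki xi2 yi18 zi10) (ki xi1 yi17 zi3) (ki xi1 yi17 zi21) (ki xi2 yi14 zi29) (ki xi2 yi17 zi29) (ki xi2 yi18 zi14)) (@D3.rec (fun _ => Pt)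 (ki xi2 yi17 zi31) (ki xi2 yi18 zi0) (ki xi2 yi14 zi13) (ki xi1 yi17 zi12) (ki xi2 yi18 zi4) (ki xi2 yi14 zi17) (ki xi2 yi18 zi6) (ki xi2 yi18 zi7) (ki xi2 yi14 zi22) (ki xi2 yi14 zi1) (ki xi2 yi13 zi17) (ki xi2 yi6 zi11) (ki xi2 yi18 zi28) (ki xi2 yi6 zi13) (ki xi2 yi6 zi14) (ki xi2 yi19 zi0) (ki xi2 yi19 zi2) (ki xi1 yi17 zi26) (ki xi2 yi19 zi4) (ki xi2 yi19 zi5) (ki xi1 yi17 zi29) (ki xi2 yi19 zi7) (ki xi2 yi19 zi9) (ki xi2 yi19 zi11) (ki xi1 yi18 zi1) (ki xi2 yi19 zi13) (ki xi1 yi18 zi2) (ki xi2 yi19 zi16) (ki xi1 yi18 zi4) (ki xi1 yi18 zi5) (ki xi2 yi19 zi18) (ki xi1 yi18 zi7)) (@D3.rec (fun _ => Pt) (ki xi2 yi13 zi25) (ki xi2 yi13 zi29) (ki xi2 yi13 zi14) (ki xi2 yi13 zi10) (ki xi2 yi7 zi4) (ki xi2 yi7 zi5) (ki xi2 yi7 zi6) (ki xi2 yi7 zi7)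 (ki xi2 yi7 zi8) (ki xi2 yi7 zi9) (ki xi2 yi7 zi10) (ki xi1 yi20 zi30) (ki xi2 yi7 zi12) (ki xi1 yi19 zi3) (ki xi1 yi19 zi4) (ki xi2 yi20 zi5) (ki xi1 yi19 zi6) (ki xi1 yi19 zi7) (ki xi2 yi20 zi10) (ki xi1 yi19 zi9) (ki xi1 yi19 zi10) (ki xi1 yi20 zi7) (ki xi1 yi18 zi29) (ki xi2 yi19 zi31) (ki xi2 yi20 zi0) (ki xi2 yi20 zi17) (ki xi2 yi20 zi2) (ki xi2 yi20 zi3) (ki xi2 yi20 zi21) (ki xi1 yi19 zi5) (ki xi2 yi20 zi6) (ki xi2 yi20 zi7)) (@D3.rec (fun _ => Pt) (ki xi2 yi20 zi27) (ki xi2 yi20 zi29) (ki xi1 yi19 zi8) (ki xi1 yi19 zi25) (ki xi1 yi20 zi9) (ki xi1 yi20 zi8) (ki xi1 yi19 zi11) (ki xi1 yi19 zi27) (ki xi1 yi19 zi28) (ki xi2 yi21 zi4) (ki xi1 yi19 zi30) (ki xi1 yi19 zi31) (ki xi2 yi20 zi18) (ki xi1 yi19 zi19) (ki xi1 yi20 zi2) (ki xi1 yi20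 zi3) (ki xi2 yi20 zi23) (ki xi2 yi21 zi8) (ki xi1 yi19 zi22) (ki xi2 yi20 zi30) (ki xi2 yi21 zi13) (ki xi2 yi21 zi0) (ki xi2 yi21 zi1) (ki xi2 yi21 zi19) (ki xi2 yi21 zi21) (ki xi1 yi19 zi29) (ki xi2 yi20 zi4) (ki xi2 yi20 zi20) (ki xi2 yi20 zi19) (ki xi1 yi20 zi0) (ki xi2 yi21 zi5) (ki xi2 yi20 zi8)) (@D3.rec (fun _ => Pt) (ki xi2 yi20 zi25) (ki xi2 yi20 zi24) (ki xi2 yi21 zi27) (ki xi1 yi20 zi4) (ki xi2 yi21 zi29) (ki xi1 yi20 zi5) (ki xi1 yi20 zi24) (ki xi2 yi9 zi7) (ki xi1 yi20 zi25) (ki xi1 yi20 zi26) (ki xi2 yi9 zi10) (ki xi2 yi9 zi11) (ki xi1 yi20 zi27) (ki xi2 yi9 zi13) (ki xi2 yi9 zi14) (ki xi1 yi20 zi28) (ki xi1 yi20 zi29) (ki xi2 yi9 zi17) (ki xi2 yi9 zi18) (ki xi2 yi9 zi19) (ki xi2 yi9 zi20) (ki xi2 yi21 zi31) (ki xi3 yi0 zi0) (ki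 xi3 yi0 zi3) (ki xi3 yi0 zi4) (ki xi2 yi19 zi27) (ki xi3 yi0 zi9) (ki xi3 yi0 zi22) (ki xi2 yi19 zi30) (ki xi2 yi9 zi29) (ki xi3 yi0 zi25) (ki xi3 yi0 zi28)) (@D3.rec (fun _ => Pt) (ki xi1 yi21 zi0) (ki xi3 yi0 zi30) (ki xi3 yi1 zi0) (ki xi1 yi21 zi2) (ki xi3 yi1 zi2) (ki xi1 yi21 zi3) (ki xi1 yi21 zi5) (ki xi3 yi1 zi5) (ki xi1 yi21 zi7) (ki xi3 yi1 zi7) (ki xi1 yi21 zi8) (ki xi3 yi1 zi10) (ki xi1 yi21 zi10) (ki xi2 yi19 zi14) (ki xi3 yi1 zi13) (ki xi3 yi1 zi15) (ki xi1 yi21 zi13) (ki xi3 yi1 zi18) (ki xi1 yi21 zi15) (ki xi2 yi10 zi19) (ki xi3 yi1 zi20) (ki xi1 yi21 zi17) (ki xi2 yi10 zi22) (ki xi2 yi0 zi4) (ki xi3 yi1 zi23) (ki xi1 yi21 zi23) (ki xi1 yi21 zi31) (ki xi3 yi1 zi26) (ki xi1 yi21 zi28) (ki xi2 yi0 zi2) (ki xi2 yi0 zi3) (ki xi3 yi1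 zi24)) (@D3.rec (fun _ => Pt) (ki xi2 yi0 zi5) (ki xi3 yi1 zi27) (ki xi3 yi1 zi28) (ki xi2 yi0 zi24) (ki xi2 yi0 zi25) (ki xi2 yi11 zi5) (ki xi2 yi11 zi6) (ki xi2 yi0 zi26) (ki xi2 yi0 zi27) (ki xi2 yi11 zi9) (ki xi2 yi11 zi10) (ki xi2 yi11 zi11) (ki xi2 yi11 zi12) (ki xi2 yi0 zi28) (ki xi2 yi11 zi14) (ki xi2 yi11 zi15) (ki xi2 yi0 zi29) (ki xi2 yi0 zi30) (ki xi2 yi11 zi18) (ki xi2 yi11 zi19) (ki xi3 yi1 zi30) (ki xi3 yi1 zi31) (ki xi3 yi2 zi5) (ki xi3 yi2 zi6) (ki xi3 yi2 zi9) (ki xi2 yi13 zi7) (ki xi2 yi13 zi8) (ki xi3 yi2 zi20) (ki xi2 yi13 zi11) (ki xi3 yi2 zi24) (ki xi2 yi13 zi13) (ki xi3 yi2 zi26)) (@D3.rec (fun _ => Pt) (ki xi2 yi1 zi3) (ki xi3 yi2 zi28) (ki xi2 yi1 zi5) (ki xi2 yi13 zi21) (ki xi2 yi13 zi22) (ki xi3 yi3 zi2) (ki xi2 yi13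 zi24) (ki xi3 yi3 zi4) (ki xi2 yi1 zi9) (ki xi2 yi13 zi28) (ki xi3 yi3 zi8) (ki xi3 yi3 zi10) (ki xi2 yi1 zi11) (ki xi3 yi3 zi11) (ki xi2 yi1 zi13) (ki xi2 yi1 zi15) (ki xi2 yi14 zi10) (ki xi2 yi14 zi12) (ki xi2 yi14 zi21) (ki xi2 yi12 zi19) (ki xi3 yi3 zi17) (ki xi3 yi3 zi19) (ki xi3 yi3 zi21) (ki xi2 yi1 zi23) (ki xi2 yi1 zi24) (ki xi3 yi3 zi23) (ki xi2 yi1 zi26) (ki xi3 yi3 zi25) (ki xi2 yi1 zi27) (ki xi2 yi12 zi29) (ki xi2 yi12 zi30) (ki xi2 yi12 zi31)) (@D3.rec (fun _ => Pt) (ki xi2 yi13 zi0) (ki xi3 yi4 zi4) (ki xi2 yi13 zi2) (ki xi2 yi13 zi3) (ki xi2 yi13 zi4) (ki xi3 yi4 zi8) (ki xi2 yi2 zi2) (ki xi2 yi11 zi25) (ki xi2 yi11 zi26) (ki xi3 yi4 zi15) (ki xi2 yi7 zi3) (ki xi2 yi11 zi28) (ki xi3 yi4 zi20) (ki xi2 yi11 zi30) (ki xi2 yi7 zi2)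 (ki xi3 yi4 zi24) (ki xi2 yi2 zi8) (ki xi2 yi6 zi10) (ki xi3 yi4 zi28) (ki xi3 yi4 zi29) (ki xi2 yi2 zi12) (ki xi2 yi12 zi3) (ki xi2 yi12 zi4) (ki xi3 yi5 zi4) (ki xi2 yi12 zi6) (ki xi2 yi7 zi0) (ki xi3 yi5 zi8) (ki xi2 yi2 zi16) (ki xi2 yi12 zi9) (ki xi2 yi7 zi1) (ki xi3 yi5 zi14) (ki xi3 yi5 zi16)) (@D3.rec (fun _ => Pt) (ki xi2 yi2 zi19) (ki xi2 yi6 zi9) (ki xi3 yi5 zi20) (ki xi3 yi5 zi21) (ki xi2 yi2 zi22) (ki xi2 yi3 zi14) (ki xi3 yi5 zi24) (ki xi3 yi5 zi26) (ki xi2 yi2 zi25) (ki xi2 yi2 zi26) (ki xi2 yi12 zi16) (ki xi3 yi5 zi31) (ki xi2 yi12 zi17) (ki xi2 yi6 zi2) (ki xi3 yi6 zi5) (ki xi3 yi6 zi6) (ki xi2 yi2 zi30) (ki xi2 yi6 zi5) (ki xi3 yi6 zi7) (ki xi2 yi5 zi21) (ki xi2 yi3 zi1) (ki xi2 yi12 zi18) (ki xi2 yi6 zi8) (ki xi3 yi6 zi12) (ki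 xi2 yi5 zi25) (ki xi3 yi6 zi17) (ki xi2 yi3 zi5) (ki xi2 yi3 zi6) (ki xi2 yi3 zi9) (ki xi2 yi5 zi29) (ki xi3 yi5 zi17) (ki xi2 yi5 zi11)) (@D3.rec (fun _ => Pt) (ki xi3 yi4 zi25) (ki xi2 yi15 zi1) (ki xi2 yi15 zi2) (ki xi2 yi15 zi3) (ki xi2 yi15 zi4) (ki xi3 yi6 zi31) (ki xi2 yi15 zi6) (ki xi2 yi15 zi7) (ki xi2 yi15 zi8) (ki xi3 yi7 zi3) (ki xi2 yi3 zi19) (ki xi2 yi3 zi31) (ki xi2 yi4 zi0) (ki xi3 yi7 zi10) (ki xi2 yi4 zi2) (ki xi2 yi4 zi3) (ki xi3 yi7 zi15) (ki xi2 yi4 zi5) (ki xi2 yi4 zi6) (ki xi3 yi7 zi19) (ki xi2 yi3 zi25) (ki xi2 yi4 zi9) (ki xi3 yi7 zi22) (ki xi3 yi7 zi23) (ki xi2 yi3 zi29) (ki xi3 yi7 zi4) (ki xi3 yi7 zi5) (ki xi3 yi7 zi30) (ki xi3 yi7 zi7) (ki xi3 yi7 zi8) (ki xi3 yi8 zi2) (ki xi2 yi4 zi1)) (@D3.rec (fun _ => Pt) (ki xi3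 yi7 zi11) (ki xi3 yi7 zi12) (ki xi3 yi8 zi8) (ki xi3 yi8 zi10) (ki xi2 yi4 zi4) (ki xi3 yi7 zi16) (ki xi3 yi8 zi14) (ki xi3 yi8 zi15) (ki xi2 yi4 zi7) (ki xi3 yi6 zi20) (ki xi3 yi8 zi18) (ki xi3 yi8 zi20) (ki xi2 yi4 zi10) (ki xi2 yi4 zi11) (ki xi2 yi4 zi27) (ki xi2 yi4 zi28) (ki xi3 yi8 zi27) (ki xi2 yi4 zi30) (ki xi2 yi4 zi31) (ki xi3 yi8 zi31) (ki xi2 yi4 zi15) (ki xi2 yi5 zi2) (ki xi2 yi5 zi3) (ki xi3 yi9 zi5) (ki xi3 yi9 zi7) (ki xi2 yi4 zi18) (ki xi2 yi5 zi7) (ki xi3 yi9 zi10) (ki xi3 yi9 zi11) (ki xi2 yi4 zi21) (ki xi3 yi9 zi12) (ki xi3 yi9 zi13)) (@D3.rec (fun _ => Pt) (ki xi2 yi4 zi24) (ki xi2 yi4 zi25) (ki xi3 yi8 zi21) (ki xi3 yi9 zi18) (ki xi3 yi8 zi23) (ki xi3 yi8 zi24) (ki xi3 yi9 zi24) (ki xi3 yi9 zi26) (ki xi2 yi4 zi29) (ki xi3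 yi8 zi28) (ki xi3 yi9 zi30) (ki xi3 yi9 zi31) (ki xi2 yi5 zi0) (ki xi3 yi9 zi0) (ki xi3 yi9 zi1) (ki xi3 yi10 zi5) (ki xi3 yi10 zi7) (ki xi3 yi10 zi9) (ki xi2 yi5 zi4) (ki xi3 yi10 zi11) (ki xi2 yi5 zi5) (ki xi3 yi6 zi18) (ki xi3 yi10 zi13) (ki xi3 yi10 zi15) (ki xi2 yi5 zi8) (ki xi2 yi5 zi9) (ki xi2 yi5 zi12) (ki xi3 yi10 zi17) (ki xi2 yi5 zi13) (ki xi2 yi5 zi30) (ki xi3 yi10 zi22) (ki xi2 yi6 zi0)) (@D3.rec (fun _ => Pt) (ki xi2 yi6 zi1) (ki xi3 yi6 zi3) (ki xi3 yi10 zi27) (ki xi2 yi5 zi18) (ki xi2 yi6 zi4) (ki xi3 yi6 zi8) (ki xi2 yi6 zi6) (ki xi2 yi6 zi7) (ki xi3 yi6 zi13) (ki xi3 yi6 zi15) (ki xi2 yi5 zi26) (ki xi3 yi10 zi18) (ki xi3 yi10 zi19) (ki xi3 yi5 zi28) (ki xi2 yi5 zi31) (ki xi3 yi10 zi23) (ki xi3 yi10 zi24) (ki xi3 yi6 zi1) (ki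 xi3 yi5 zi5) (ki xi3 yi10 zi28) (ki xi3 yi11 zi9) (ki xi3 yi6 zi10) (ki xi3 yi5 zi10) (ki xi3 yi4 zi21) (ki xi2 yi18 zi24) (ki xi2 yi18 zi25) (ki xi3 yi11 zi16) (ki xi3 yi11 zi19) (ki xi2 yi6 zi12) (ki xi3 yi11 zi21) (ki xi3 yi11 zi23) (ki xi3 yi11 zi25)) (@D3.rec (fun _ => Pt) (ki xi2 yi6 zi15) (ki xi3 yi11 zi27) (ki xi2 yi6 zi16) (ki xi3 yi11 zi30) (ki xi2 yi6 zi18) (ki xi2 yi6 zi19) (ki xi3 yi12 zi1) (ki xi2 yi6 zi21) (ki xi3 yi12 zi3) (ki xi2 yi6 zi22) (ki xi3 yi12 zi5) (ki xi2 yi6 zi23) (ki xi3 yi12 zi8) (ki xi2 yi6 zi25) (ki xi2 yi10 zi13) (ki xi3 yi12 zi11) (ki xi2 yi6 zi27) (ki xi3 yi12 zi13) (ki xi2 yi6 zi30) (ki xi3 yi5 zi1) (ki xi3 yi4 zi17) (ki xi3 yi4 zi13) (ki xi2 yi19 zi22) (ki xi2 yi19 zi23) (ki xi2 yi19 zi24) (ki xi2 yi19 zi25)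 (ki xi2 yi19 zi26) (ki xi2 yi9 zi25) (ki xi2 yi19 zi28) (ki xi2 yi19 zi29) (ki xi2 yi9 zi28) (ki xi2 yi7 zi23)) (@D3.rec (fun _ => Pt) (ki xi2 yi7 zi24) (ki xi3 yi12 zi27) (ki xi2 yi7 zi26) (ki xi2 yi7 zi27) (ki xi2 yi8 zi26) (ki xi2 yi7 zi15) (ki xi2 yi7 zi30) (ki xi2 yi7 zi31) (ki xi2 yi8 zi31) (ki xi3 yi12 zi31) (ki xi2 yi7 zi18) (ki xi3 yi12 zi21) (ki xi3 yi13 zi4) (ki xi3 yi12 zi23) (ki xi3 yi12 zi24) (ki xi3 yi13 zi10) (ki xi3 yi13 zi12) (ki xi2 yi7 zi25) (ki xi2 yi8 zi12) (ki xi2 yi8 zi28) (ki xi2 yi8 zi27) (ki xi2 yi7 zi28) (ki xi3 yi12 zi28) (ki xi2 yi8 zi16) (ki xi2 yi9 zi1) (ki xi2 yi9 zi0) (ki xi3 yi13 zi18) (ki xi2 yi8 zi0) (ki xi3 yi13 zi20) (ki xi2 yi8 zi1) (ki xi2 yi8 zi19) (ki xi3 yi13 zi26)) (@D3.rec (fun _ => Pt) (ki xi2 yi8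 zi21) (ki xi2 yi8 zi22) (ki xi3 yi13 zi6) (ki xi3 yi13 zi30) (ki xi2 yi8 zi9) (ki xi2 yi8 zi30) (ki xi3 yi13 zi13) (ki xi3 yi14 zi2) (ki xi2 yi8 zi17) (ki xi3 yi13 zi22) (ki xi3 yi13 zi23) (ki xi3 yi14 zi9) (ki xi3 yi14 zi12) (ki xi2 yi8 zi20) (ki xi3 yi13 zi27) (ki xi3 yi12 zi25) (ki xi3 yi13 zi8) (ki xi3 yi13 zi7) (ki xi3 yi14 zi18) (ki xi2 yi8 zi23) (ki xi3 yi14 zi20) (ki xi2 yi8 zi24) (ki xi3 yi12 zi29) (ki xi3 yi14 zi24) (ki xi3 yi13 zi16) (ki xi3 yi13 zi15) (ki xi3 yi14 zi28) (ki xi2 yi9 zi2) (ki xi3 yi14 zi31) (ki xi2 yi9 zi4) (ki xi3 yi10 zi12) (ki xi2 yi9 zi21))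
def f_i_3 : D2 → D3 → Pt := @D2.rec (fun _ => D3 → Pt) (@D3.rec (fun _ => Pt) (ki xi2 yi9 zi22) (ki xi3 yi0 zi1) (ki xi3 yi0 zi2) (ki xi2 yi9 zi23) (ki xi2 yi9 zi24) (ki xi3 yi0 zi5) (ki xi3 yi0 zi6) (ki xi3 yi0 zi7) (ki xi3 yi0 zi8) (ki xi2 yi9 zi26) (ki xi3 yi15 zi16) (ki xi3 yi0 zi11) (ki xi3 yi0 zi12) (ki xi3 yi0 zi13) (ki xi3 yi0 zi14) (ki xi3 yi15 zi1) (ki xi3 yi15 zi2) (ki xi3 yi15 zi8) (ki xi3 yi15 zi26) (ki xi3 yi12 zi19) (ki xi3 yi12 zi20) (ki xi3 yi15 zi29) (ki xi2 yi9 zi27) (ki xi3 yi15 zi31) (ki xi3 yi16 zi2) (ki xi2 yi9 zi30) (ki xi3 yi16 zi4) (ki xi3 yi16 zi6) (ki xi2 yi9 zi31) (ki xi3 yi16 zi9) (ki xi2 yi10 zi1) (ki xi3 yi16 zi11)) (@D3.rec (fun _ => Pt) (ki xi2 yi10 zi2) (ki xi3 yi16 zi14) (ki xi2 yi10 zi4) (ki xi3 yi11 zi28)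 (ki xi3 yi16 zi17) (ki xi2 yi10 zi7) (ki xi3 yi16 zi20) (ki xi2 yi10 zi9) (ki xi3 yi12 zi6) (ki xi3 yi16 zi22) (ki xi2 yi10 zi11) (ki xi3 yi12 zi9) (ki xi3 yi16 zi27) (ki xi2 yi10 zi14) (ki xi3 yi16 zi30) (ki xi2 yi10 zi15) (ki xi3 yi1 zi16) (ki xi3 yi17 zi0) (ki xi2 yi10 zi17) (ki xi3 yi1 zi19) (ki xi2 yi10 zi20) (ki xi3 yi1 zi21) (ki xi3 yi1 zi22) (ki xi2 yi10 zi24) (ki xi2 yi10 zi31) (ki xi3 yi17 zi6) (ki xi2 yi10 zi27) (ki xi2 yi11 zi1) (ki xi2 yi11 zi2) (ki xi3 yi17 zi7) (ki xi2 yi11 zi20) (ki xi2 yi11 zi21)) (@D3.rec (fun _ => Pt) (ki xi3 yi2 zi0) (ki xi3 yi2 zi1) (ki xi3 yi2 zi2) (ki xi3 yi2 zi3) (ki xi3 yi2 zi4) (ki xi2 yi11 zi22) (ki xi2 yi11 zi23) (ki xi3 yi2 zi7) (ki xi3 yi2 zi8) (ki xi2 yi11 zi24) (ki xi3 yi17 zi10) (ki xi3 yi17 zi11)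 (ki xi3 yi17 zi12) (ki xi3 yi17 zi17) (ki xi3 yi17 zi18) (ki xi3 yi4 zi9) (ki xi3 yi4 zi10) (ki xi3 yi17 zi27) (ki xi3 yi4 zi12) (ki xi3 yi17 zi29) (ki xi2 yi11 zi27) (ki xi3 yi4 zi16) (ki xi3 yi18 zi1) (ki xi3 yi18 zi3) (ki xi2 yi11 zi29) (ki xi3 yi18 zi5) (ki xi2 yi11 zi31) (ki xi3 yi18 zi6) (ki xi2 yi12 zi1) (ki xi3 yi4 zi30) (ki xi3 yi18 zi10) (ki xi3 yi5 zi0)) (@D3.rec (fun _ => Pt) (ki xi3 yi18 zi14) (ki xi3 yi18 zi16) (ki xi2 yi12 zi5) (ki xi3 yi18 zi17) (ki xi2 yi12 zi7) (ki xi3 yi5 zi9) (ki xi3 yi18 zi20) (ki xi3 yi18 zi22) (ki xi2 yi12 zi10) (ki xi3 yi18 zi24) (ki xi2 yi12 zi11) (ki xi2 yi12 zi13) (ki xi3 yi5 zi27) (ki xi3 yi6 zi0) (ki xi3 yi18 zi28) (ki xi3 yi18 zi30) (ki xi3 yi19 zi1) (ki xi2 yi12 zi20) (ki xi3 yi19 zi3) (ki xi2 yi12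 zi21) (ki xi3 yi19 zi5) (ki xi2 yi12 zi22) (ki xi3 yi19 zi8) (ki xi2 yi12 zi25) (ki xi3 yi19 zi11) (ki xi2 yi12 zi27) (ki xi3 yi3 zi26) (ki xi3 yi3 zi27) (ki xi3 yi3 zi28) (ki xi3 yi19 zi19) (ki xi3 yi3 zi30) (ki xi3 yi3 zi31)) (@D3.rec (fun _ => Pt) (ki xi3 yi19 zi24) (ki xi3 yi4 zi1) (ki xi3 yi4 zi2) (ki xi3 yi19 zi28) (ki xi2 yi13 zi1) (ki xi3 yi4 zi5) (ki xi3 yi20 zi0) (ki xi3 yi20 zi1) (ki xi2 yi13 zi5) (ki xi3 yi2 zi15) (ki xi3 yi2 zi16) (ki xi3 yi20 zi8) (ki xi3 yi2 zi18) (ki xi2 yi19 zi21) (ki xi3 yi20 zi12) (ki xi2 yi13 zi9) (ki xi3 yi2 zi21) (ki xi2 yi19 zi20) (ki xi3 yi20 zi18) (ki xi3 yi20 zi20) (ki xi2 yi13 zi12) (ki xi2 yi18 zi23) (ki xi3 yi20 zi24) (ki xi3 yi20 zi25) (ki xi2 yi13 zi15) (ki xi2 yi15 zi0) (ki xi3 yi20 zi28) (ki xi3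 yi20 zi30) (ki xi2 yi13 zi18) (ki xi2 yi13 zi19) (ki xi3 yi2 zi29) (ki xi3 yi21 zi3)) (@D3.rec (fun _ => Pt) (ki xi3 yi2 zi31) (ki xi2 yi19 zi19) (ki xi3 yi21 zi9) (ki xi3 yi21 zi11) (ki xi2 yi13 zi23) (ki xi2 yi18 zi18) (ki xi3 yi21 zi15) (ki xi3 yi21 zi16) (ki xi2 yi13 zi26) (ki xi3 yi3 zi5) (ki xi2 yi18 zi22) (ki xi3 yi21 zi22) (ki xi3 yi21 zi24) (ki xi3 yi21 zi26) (ki xi2 yi13 zi30) (ki xi3 yi21 zi28) (ki xi2 yi13 zi31) (ki xi2 yi14 zi30) (ki xi4 yi0 zi0) (ki xi4 yi0 zi2) (ki xi2 yi14 zi2) (ki xi2 yi14 zi3) (ki xi4 yi0 zi3) (ki xi4 yi0 zi5) (ki xi2 yi14 zi6) (ki xi4 yi0 zi7) (ki xi2 yi14 zi7) (ki xi3 yi3 zi12) (ki xi2 yi18 zi13) (ki xi4 yi0 zi13) (ki xi4 yi0 zi15) (ki xi2 yi14 zi11)) (@D3.rec (fun _ => Pt) (ki xi3 yi3 zi13) (ki xi2 yi18 zi17)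 (ki xi4 yi0 zi18) (ki xi2 yi18 zi1) (ki xi4 yi0 zi23) (ki xi2 yi14 zi14) (ki xi2 yi14 zi15) (ki xi2 yi14 zi18) (ki xi2 yi18 zi5) (ki xi3 yi21 zi12) (ki xi2 yi18 zi21) (ki xi4 yi0 zi29) (ki xi2 yi14 zi23) (ki xi2 yi18 zi8) (ki xi4 yi0 zi26) (ki xi2 yi18 zi9) (ki xi4 yi1 zi2) (ki xi2 yi14 zi25) (ki xi2 yi17 zi21) (ki xi3 yi21 zi19) (ki xi2 yi16 zi9) (ki xi3 yi20 zi21) (ki xi3 yi6 zi22) (ki xi3 yi6 zi23) (ki xi4 yi1 zi13) (ki xi3 yi6 zi25) (ki xi3 yi6 zi26) (ki xi4 yi1 zi17) (ki xi3 yi6 zi28) (ki xi3 yi6 zi29) (ki xi4 yi1 zi21) (ki xi2 yi15 zi5)) (@D3.rec (fun _ => Pt) (ki xi3 yi7 zi0) (ki xi4 yi1 zi25) (ki xi4 yi1 zi26) (ki xi2 yi15 zi9) (ki xi2 yi15 zi25) (ki xi2 yi15 zi26) (ki xi4 yi2 zi1) (ki xi2 yi15 zi28) (ki xi2 yi15 zi29) (ki xi4 yi2 zi5)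 (ki xi2 yi15 zi13) (ki xi2 yi16 zi0) (ki xi2 yi16 zi1) (ki xi4 yi2 zi11) (ki xi4 yi2 zi13) (ki xi2 yi15 zi16) (ki xi2 yi16 zi5) (ki xi4 yi2 zi16) (ki xi4 yi2 zi17) (ki xi2 yi15 zi19) (ki xi4 yi2 zi19) (ki xi4 yi2 zi21) (ki xi2 yi15 zi22) (ki xi2 yi15 zi23) (ki xi4 yi1 zi27) (ki xi4 yi2 zi26) (ki xi4 yi1 zi29) (ki xi4 yi1 zi30) (ki xi4 yi3 zi0) (ki xi4 yi3 zi2) (ki xi2 yi15 zi27) (ki xi4 yi2 zi2)) (@D3.rec (fun _ => Pt) (ki xi4 yi3 zi6) (ki xi4 yi3 zi7) (ki xi2 yi15 zi30) (ki xi4 yi2 zi6) (ki xi4 yi2 zi7) (ki xi4 yi3 zi13) (ki xi4 yi3 zi15) (ki xi4 yi3 zi17) (ki xi2 yi16 zi2) (ki xi4 yi3 zi19) (ki xi2 yi16 zi3) (ki xi4 yi1 zi5) (ki xi4 yi3 zi23) (ki xi4 yi3 zi25) (ki xi2 yi16 zi6) (ki xi2 yi16 zi7) (ki xi4 yi3 zi26) (ki xi4 yi3 zi27) (ki xi2 yi16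 zi10) (ki xi4 yi3 zi29) (ki xi2 yi16 zi11) (ki xi2 yi17 zi2) (ki xi4 yi4 zi3) (ki xi2 yi17 zi4) (ki xi2 yi17 zi5) (ki xi4 yi4 zi9) (ki xi4 yi4 zi11) (ki xi2 yi16 zi16) (ki xi2 yi17 zi9) (ki xi4 yi4 zi14) (ki xi4 yi4 zi15) (ki xi2 yi16 zi19)) (@D3.rec (fun _ => Pt) (ki xi2 yi17 zi13) (ki xi2 yi17 zi14) (ki xi4 yi4 zi20) (ki xi4 yi4 zi22) (ki xi4 yi4 zi24) (ki xi2 yi16 zi23) (ki xi4 yi4 zi26) (ki xi2 yi16 zi24) (ki xi4 yi4 zi28) (ki xi4 yi4 zi30) (ki xi2 yi16 zi27) (ki xi2 yi16 zi28) (ki xi2 yi16 zi30) (ki xi2 yi16 zi31) (ki xi4 yi3 zi31) (ki xi4 yi4 zi0) (ki xi4 yi5 zi4) (ki xi4 yi5 zi7) (ki xi2 yi17 zi3) (ki xi4 yi4 zi4) (ki xi4 yi4 zi5) (ki xi4 yi5 zi13) (ki xi4 yi5 zi15) (ki xi4 yi5 zi17) (ki xi2 yi17 zi6) (ki xi4 yi5 zi19) (ki xi2 yi17 zi7)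 (ki xi4 yi0 zi24) (ki xi4 yi5 zi21) (ki xi4 yi5 zi23) (ki xi2 yi17 zi10) (ki xi2 yi17 zi11)) (@D3.rec (fun _ => Pt) (ki xi4 yi4 zi16) (ki xi4 yi5 zi27) (ki xi4 yi1 zi3) (ki xi4 yi5 zi29) (ki xi4 yi6 zi0) (ki xi2 yi17 zi15) (ki xi4 yi6 zi2) (ki xi2 yi17 zi16) (ki xi4 yi6 zi4) (ki xi2 yi17 zi17) (ki xi4 yi6 zi7) (ki xi2 yi17 zi19) (ki xi2 yi21 zi30) (ki xi2 yi17 zi22) (ki xi4 yi6 zi10) (ki xi2 yi17 zi23) (ki xi4 yi6 zi12) (ki xi2 yi17 zi27) (ki xi2 yi18 zi11) (ki xi2 yi18 zi12) (ki xi4 yi0 zi11) (ki xi4 yi6 zi18) (ki xi2 yi17 zi30) (ki xi2 yi18 zi15) (ki xi2 yi18 zi16) (ki xi4 yi0 zi19) (ki xi4 yi0 zi21) (ki xi2 yi18 zi2) (ki xi2 yi18 zi19) (ki xi4 yi6 zi25) (ki xi4 yi0 zi30) (ki xi4 yi1 zi1)) (@D3.rec (fun _ => Pt) (ki xi4 yi6 zi13) (ki xi4 yi6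 zi14) (ki xi4 yi0 zi9) (ki xi4 yi6 zi19) (ki xi4 yi7 zi1) (ki xi4 yi0 zi16) (ki xi3 yi21 zi5) (ki xi4 yi7 zi4) (ki xi4 yi7 zi6) (ki xi2 yi18 zi20) (ki xi3 yi21 zi17) (ki xi3 yi20 zi14) (ki xi3 yi20 zi9) (ki xi4 yi7 zi10) (ki xi4 yi7 zi12) (ki xi4 yi7 zi15) (ki xi2 yi18 zi26) (ki xi4 yi7 zi17) (ki xi4 yi7 zi19) (ki xi2 yi18 zi27) (ki xi4 yi7 zi23) (ki xi2 yi18 zi29) (ki xi4 yi7 zi25) (ki xi2 yi18 zi30) (ki xi4 yi7 zi27) (ki xi2 yi18 zi31) (ki xi4 yi7 zi30) (ki xi2 yi19 zi1) (ki xi3 yi1 zi3) (ki xi4 yi8 zi1) (ki xi2 yi19 zi3) (ki xi4 yi8 zi4)) (@D3.rec (fun _ => Pt) (ki xi4 yi8 zi6) (ki xi2 yi19 zi6) (ki xi4 yi8 zi9) (ki xi2 yi19 zi8) (ki xi4 yi8 zi12) (ki xi2 yi19 zi10) (ki xi3 yi1 zi8) (ki xi4 yi8 zi14) (ki xi2 yi19 zi12) (ki xi3 yi1 zi11) (ki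 xi4 yi8 zi18) (ki xi2 yi19 zi15) (ki xi4 yi8 zi19) (ki xi2 yi19 zi17) (ki xi3 yi21 zi0) (ki xi3 yi20 zi5) (ki xi3 yi12 zi16) (ki xi3 yi12 zi17) (ki xi3 yi12 zi18) (ki xi3 yi0 zi19) (ki xi3 yi0 zi20) (ki xi2 yi20 zi11) (ki xi4 yi8 zi30) (ki xi2 yi20 zi13) (ki xi2 yi20 zi14) (ki xi2 yi21 zi15) (ki xi4 yi9 zi2) (ki xi2 yi20 zi1) (ki xi2 yi20 zi22) (ki xi2 yi21 zi22) (ki xi4 yi9 zi4) (ki xi2 yi20 zi9)) (@D3.rec (fun _ => Pt) (ki xi4 yi8 zi26) (ki xi4 yi8 zi27) (ki xi4 yi9 zi11) (ki xi4 yi9 zi14) (ki xi2 yi20 zi12) (ki xi4 yi8 zi31) (ki xi2 yi21 zi2) (ki xi2 yi21 zi17) (ki xi2 yi21 zi16) (ki xi4 yi9 zi20) (ki xi2 yi20 zi15) (ki xi4 yi9 zi22) (ki xi2 yi20 zi16) (ki xi2 yi21 zi6) (ki xi4 yi9 zi26) (ki xi2 yi21 zi25) (ki xi2 yi21 zi24) (ki xi4 yi9 zi30)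 (ki xi2 yi20 zi26) (ki xi4 yi10 zi1) (ki xi2 yi20 zi28) (ki xi4 yi3 zi20) (ki xi2 yi21 zi9) (ki xi2 yi21 zi10) (ki xi4 yi9 zi7) (ki xi4 yi10 zi7) (ki xi2 yi20 zi31) (ki xi2 yi21 zi14) (ki xi4 yi9 zi15) (ki xi4 yi10 zi11) (ki xi2 yi21 zi3) (ki xi4 yi10 zi13)) (@D3.rec (fun _ => Pt) (ki xi4 yi3 zi8) (ki xi4 yi10 zi16) (ki xi2 yi21 zi7) (ki xi4 yi4 zi27) (ki xi4 yi10 zi3) (ki xi4 yi8 zi28) (ki xi4 yi9 zi9) (ki xi4 yi9 zi8) (ki xi4 yi10 zi25) (ki xi2 yi21 zi11) (ki xi4 yi10 zi27) (ki xi4 yi10 zi29) (ki xi2 yi21 zi12) (ki xi4 yi9 zi0) (ki xi4 yi11 zi1) (ki xi4 yi9 zi18) (ki xi4 yi9 zi17) (ki xi4 yi11 zi5) (ki xi2 yi21 zi18) (ki xi4 yi11 zi8) (ki xi2 yi21 zi20) (ki xi4 yi5 zi20) (ki xi4 yi11 zi10) (ki xi4 yi11 zi12) (ki xi2 yi21 zi23) (ki xi4 yi9 zi28)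 (ki xi4 yi9 zi27) (ki xi4 yi11 zi16) (ki xi2 yi21 zi26) (ki xi4 yi6 zi5) (ki xi4 yi11 zi18) (ki xi2 yi21 zi28)) (@D3.rec (fun _ => Pt) (ki xi4 yi6 zi8) (ki xi3 yi0 zi15) (ki xi3 yi0 zi16) (ki xi3 yi15 zi3) (ki xi3 yi15 zi4) (ki xi3 yi15 zi5) (ki xi3 yi15 zi6) (ki xi3 yi15 zi7) (ki xi3 yi0 zi17) (ki xi4 yi12 zi0) (ki xi3 yi15 zi10) (ki xi3 yi15 zi11) (ki xi3 yi15 zi12) (ki xi3 yi15 zi13) (ki xi4 yi12 zi4) (ki xi4 yi12 zi6) (ki xi3 yi0 zi10) (ki xi3 yi15 zi17) (ki xi3 yi15 zi18) (ki xi3 yi15 zi19) (ki xi4 yi11 zi21) (ki xi4 yi11 zi22) (ki xi4 yi12 zi12) (ki xi4 yi8 zi23) (ki xi4 yi8 zi24) (ki xi4 yi12 zi15) (ki xi3 yi0 zi18) (ki xi4 yi8 zi25) (ki xi4 yi12 zi17) (ki xi3 yi0 zi21) (ki xi4 yi12 zi20) (ki xi3 yi0 zi23)) (@D3.rec (fun _ => Pt) (ki xi4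 yi12 zi22) (ki xi4 yi12 zi24) (ki xi3 yi0 zi24) (ki xi4 yi12 zi28) (ki xi3 yi0 zi26) (ki xi4 yi12 zi31) (ki xi3 yi0 zi27) (ki xi4 yi7 zi20) (ki xi4 yi13 zi2) (ki xi3 yi0 zi29) (ki xi4 yi13 zi5) (ki xi3 yi0 zi31) (ki xi4 yi7 zi28) (ki xi4 yi13 zi7) (ki xi3 yi1 zi1) (ki xi4 yi7 zi31) (ki xi4 yi13 zi11) (ki xi3 yi1 zi4) (ki xi4 yi8 zi10) (ki xi4 yi13 zi13) (ki xi3 yi1 zi6) (ki xi4 yi8 zi13) (ki xi3 yi1 zi9) (ki xi4 yi8 zi15) (ki xi4 yi8 zi16) (ki xi4 yi13 zi21) (ki xi4 yi13 zi23) (ki xi3 yi1 zi12) (ki xi3 yi16 zi28) (ki xi4 yi13 zi26) (ki xi3 yi1 zi14) (ki xi3 yi16 zi31)) (@D3.rec (fun _ => Pt) (ki xi3 yi1 zi17) (ki xi3 yi17 zi1) (ki xi3 yi17 zi2) (ki xi3 yi17 zi3) (ki xi3 yi17 zi4) (ki xi3 yi17 zi5) (ki xi3 yi1 zi25) (ki xi3 yi1 zi29) (ki xi4 yi14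 zi0) (ki xi4 yi14 zi1) (ki xi3 yi2 zi10) (ki xi3 yi2 zi11) (ki xi3 yi2 zi12) (ki xi3 yi17 zi13) (ki xi3 yi17 zi14) (ki xi3 yi17 zi15) (ki xi3 yi17 zi16) (ki xi3 yi2 zi13) (ki xi3 yi2 zi14) (ki xi4 yi14 zi2) (ki xi4 yi14 zi3) (ki xi4 yi14 zi6) (ki xi3 yi20 zi2) (ki xi4 yi14 zi12) (ki xi3 yi20 zi4) (ki xi4 yi14 zi16) (ki xi4 yi14 zi18) (ki xi3 yi2 zi17) (ki xi4 yi14 zi20) (ki xi3 yi2 zi19) (ki xi3 yi20 zi13) (ki xi4 yi14 zi23)) (@D3.rec (fun _ => Pt) (ki xi4 yi14 zi25) (ki xi3 yi2 zi22) (ki xi4 yi14 zi27) (ki xi3 yi2 zi23) (ki xi4 yi14 zi30) (ki xi3 yi2 zi25) (ki xi3 yi2 zi27) (ki xi3 yi20 zi31) (ki xi4 yi15 zi3) (ki xi4 yi15 zi6) (ki xi3 yi2 zi30) (ki xi3 yi21 zi4) (ki xi4 yi15 zi9) (ki xi4 yi15 zi11) (ki xi3 yi3 zi0) (ki xi4 yi15 zi13) (ki xi3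 yi3 zi1) (ki xi3 yi3 zi3) (ki xi4 yi15 zi16) (ki xi4 yi15 zi18) (ki xi3 yi3 zi6) (ki xi4 yi15 zi20) (ki xi3 yi3 zi7) (ki xi4 yi15 zi23) (ki xi3 yi3 zi9) (ki xi3 yi18 zi25) (ki xi4 yi0 zi8) (ki xi4 yi15 zi27) (ki xi3 yi3 zi14) (ki xi4 yi15 zi30) (ki xi3 yi3 zi15) (ki xi4 yi16 zi0)) (@D3.rec (fun _ => Pt) (ki xi4 yi16 zi2) (ki xi3 yi3 zi16) (ki xi4 yi16 zi5) (ki xi3 yi3 zi18) (ki xi4 yi16 zi8) (ki xi3 yi3 zi20) (ki xi3 yi19 zi6) (ki xi4 yi16 zi11) (ki xi3 yi3 zi22) (ki xi3 yi19 zi9) (ki xi4 yi16 zi13) (ki xi3 yi3 zi24) (ki xi3 yi19 zi12) (ki xi3 yi19 zi13) (ki xi3 yi19 zi14) (ki xi4 yi16 zi22) (ki xi3 yi19 zi16) (ki xi3 yi19 zi17) (ki xi4 yi16 zi26) (ki xi3 yi3 zi29) (ki xi3 yi19 zi20) (ki xi3 yi19 zi21) (ki xi4 yi16 zi30) (ki xi4 yi17 zi0) (ki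 xi3 yi4 zi0) (ki xi3 yi19 zi25) (ki xi4 yi17 zi3) (ki xi4 yi17 zi4) (ki xi3 yi4 zi3) (ki xi3 yi19 zi29) (ki xi4 yi17 zi7) (ki xi4 yi17 zi9)) (@D3.rec (fun _ => Pt) (ki xi3 yi4 zi6) (ki xi3 yi4 zi7) (ki xi3 yi17 zi22) (ki xi4 yi17 zi14) (ki xi3 yi17 zi24) (ki xi3 yi12 zi15) (ki xi4 yi17 zi20) (ki xi4 yi17 zi22) (ki xi3 yi4 zi11) (ki xi3 yi11 zi12) (ki xi4 yi17 zi26) (ki xi4 yi17 zi27) (ki xi3 yi4 zi14) (ki xi3 yi17 zi30) (ki xi3 yi11 zi11) (ki xi4 yi18 zi1) (ki xi4 yi18 zi3) (ki xi4 yi18 zi5) (ki xi3 yi4 zi18) (ki xi4 yi18 zi7) (ki xi3 yi4 zi19) (ki xi3 yi6 zi21) (ki xi4 yi18 zi11) (ki xi4 yi18 zi13) (ki xi3 yi4 zi22) (ki xi3 yi4 zi23) (ki xi4 yi18 zi15) (ki xi4 yi18 zi17) (ki xi3 yi4 zi26) (ki xi4 yi18 zi19) (ki xi3 yi4 zi27) (ki xi3 yi18 zi7))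 (@D3.rec (fun _ => Pt) (ki xi3 yi12 zi14) (ki xi4 yi18 zi26) (ki xi4 yi18 zi29) (ki xi3 yi4 zi31) (ki xi3 yi18 zi11) (ki xi3 yi11 zi6) (ki xi4 yi19 zi3) (ki xi4 yi19 zi5) (ki xi4 yi19 zi7) (ki xi3 yi5 zi2) (ki xi4 yi19 zi9) (ki xi3 yi5 zi3) (ki xi3 yi6 zi9) (ki xi4 yi19 zi13) (ki xi4 yi19 zi15) (ki xi3 yi5 zi6) (ki xi3 yi5 zi7) (ki xi3 yi11 zi10) (ki xi4 yi19 zi19) (ki xi3 yi6 zi19) (ki xi4 yi19 zi22) (ki xi4 yi19 zi25) (ki xi3 yi5 zi11) (ki xi4 yi19 zi27) (ki xi3 yi5 zi12) (ki xi4 yi19 zi29) (ki xi3 yi5 zi13) (ki xi4 yi20 zi0) (ki xi3 yi5 zi15) (ki xi3 yi21 zi29) (ki xi4 yi20 zi2) (ki xi4 yi20 zi4))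
def f_i_4 : D2 → D3 → Pt := @D2.rec (fun _ => D3 → Pt) (@D3.rec (fun _ => Pt) (ki xi3 yi5 zi18) (ki xi4 yi20 zi6) (ki xi3 yi5 zi19) (ki xi3 yi5 zi22) (ki xi4 yi20 zi8) (ki xi3 yi5 zi23) (ki xi4 yi20 zi10) (ki xi3 yi5 zi25) (ki xi3 yi18 zi26) (ki xi3 yi11 zi2) (ki xi4 yi20 zi14) (ki xi3 yi10 zi20) (ki xi4 yi20 zi20) (ki xi3 yi5 zi29) (ki xi4 yi20 zi21) (ki xi3 yi5 zi30) (ki xi3 yi11 zi5) (ki xi4 yi20 zi25) (ki xi3 yi6 zi2) (ki xi3 yi10 zi25) (ki xi4 yi20 zi22) (ki xi3 yi10 zi26) (ki xi4 yi20 zi30) (ki xi3 yi6 zi4) (ki xi3 yi9 zi27) (ki xi4 yi19 zi0) (ki xi3 yi6 zi14) (ki xi4 yi21 zi4) (ki xi4 yi21 zi7) (ki xi3 yi6 zi11) (ki xi3 yi10 zi30) (ki xi4 yi19 zi16)) (@D3.rec (fun _ => Pt) (ki xi4 yi21 zi1) (ki xi3 yi10 zi31) (ki xi3 yi6 zi16) (ki xi3 yi10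 zi2) (ki xi4 yi17 zi30) (ki xi3 yi8 zi11) (ki xi4 yi17 zi23) (ki xi4 yi1 zi7) (ki xi4 yi1 zi8) (ki xi4 yi21 zi20) (ki xi4 yi1 zi10) (ki xi4 yi1 zi11) (ki xi4 yi21 zi24) (ki xi3 yi6 zi24) (ki xi4 yi1 zi14) (ki xi4 yi21 zi26) (ki xi4 yi21 zi28) (ki xi3 yi6 zi27) (ki xi4 yi1 zi18) (ki xi5 yi0 zi0) (ki xi5 yi0 zi1) (ki xi3 yi6 zi30) (ki xi4 yi1 zi22) (ki xi5 yi0 zi4) (ki xi5 yi0 zi6) (ki xi3 yi7 zi1) (ki xi3 yi7 zi2) (ki xi3 yi7 zi24) (ki xi5 yi0 zi11) (ki xi3 yi7 zi26) (ki xi3 yi7 zi27) (ki xi5 yi0 zi17)) (@D3.rec (fun _ => Pt) (ki xi5 yi0 zi19) (ki xi3 yi7 zi6) (ki xi3 yi7 zi31) (ki xi5 yi0 zi22) (ki xi5 yi0 zi23) (ki xi3 yi7 zi9) (ki xi3 yi8 zi3) (ki xi3 yi8 zi4) (ki xi5 yi0 zi27) (ki xi5 yi0 zi28) (ki xi5 yi0 zi30) (ki xi3 yi7 zi13) (ki xi5 yi1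 zi0) (ki xi3 yi7 zi14) (ki xi5 yi1 zi3) (ki xi5 yi1 zi5) (ki xi3 yi7 zi17) (ki xi3 yi7 zi18) (ki xi5 yi1 zi6) (ki xi3 yi7 zi20) (ki xi5 yi1 zi8) (ki xi3 yi7 zi21) (ki xi5 yi0 zi7) (ki xi5 yi0 zi8) (ki xi5 yi1 zi15) (ki xi5 yi1 zi18) (ki xi3 yi7 zi25) (ki xi5 yi0 zi12) (ki xi5 yi0 zi13) (ki xi5 yi1 zi24) (ki xi5 yi1 zi26) (ki xi5 yi1 zi28)) (@D3.rec (fun _ => Pt) (ki xi3 yi7 zi28) (ki xi5 yi1 zi30) (ki xi3 yi7 zi29) (ki xi4 yi21 zi14) (ki xi5 yi2 zi2) (ki xi5 yi2 zi4) (ki xi3 yi8 zi0) (ki xi3 yi8 zi1) (ki xi3 yi14 zi0) (ki xi5 yi2 zi8) (ki xi4 yi21 zi12) (ki xi5 yi2 zi11) (ki xi5 yi2 zi14) (ki xi3 yi8 zi5) (ki xi5 yi2 zi16) (ki xi3 yi8 zi6) (ki xi5 yi2 zi18) (ki xi3 yi8 zi7) (ki xi5 yi2 zi21) (ki xi3 yi8 zi9) (ki xi3 yi13 zi21) (ki xi5 yi2 zi23)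 (ki xi5 yi2 zi25) (ki xi3 yi8 zi12) (ki xi5 yi2 zi27) (ki xi3 yi8 zi13) (ki xi3 yi8 zi16) (ki xi3 yi8 zi17) (ki xi5 yi2 zi31) (ki xi3 yi8 zi19) (ki xi4 yi3 zi30) (ki xi3 yi9 zi14)) (@D3.rec (fun _ => Pt) (ki xi3 yi9 zi15) (ki xi5 yi3 zi6) (ki xi5 yi3 zi9) (ki xi3 yi8 zi22) (ki xi3 yi9 zi19) (ki xi3 yi9 zi20) (ki xi5 yi3 zi14) (ki xi5 yi3 zi16) (ki xi5 yi3 zi18) (ki xi3 yi8 zi25) (ki xi5 yi3 zi20) (ki xi3 yi8 zi26) (ki xi5 yi3 zi22) (ki xi5 yi3 zi24) (ki xi3 yi8 zi29) (ki xi3 yi8 zi30) (ki xi3 yi10 zi0) (ki xi5 yi3 zi26) (ki xi5 yi3 zi28) (ki xi5 yi3 zi31) (ki xi3 yi9 zi2) (ki xi5 yi4 zi0) (ki xi3 yi9 zi3) (ki xi5 yi4 zi2) (ki xi3 yi9 zi4) (ki xi5 yi4 zi5) (ki xi3 yi9 zi6) (ki xi3 yi14 zi3) (ki xi3 yi9 zi8) (ki xi5 yi4 zi7) (ki xi3 yi9 zi9) (ki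 xi5 yi3 zi1)) (@D3.rec (fun _ => Pt) (ki xi5 yi3 zi2) (ki xi5 yi4 zi14) (ki xi5 yi4 zi16) (ki xi5 yi4 zi19) (ki xi3 yi9 zi16) (ki xi5 yi4 zi21) (ki xi5 yi4 zi23) (ki xi3 yi9 zi17) (ki xi5 yi3 zi10) (ki xi5 yi4 zi28) (ki xi4 yi20 zi31) (ki xi5 yi4 zi30) (ki xi5 yi5 zi1) (ki xi3 yi9 zi21) (ki xi5 yi5 zi3) (ki xi3 yi9 zi22) (ki xi5 yi5 zi5) (ki xi3 yi9 zi23) (ki xi5 yi5 zi8) (ki xi3 yi9 zi25) (ki xi3 yi14 zi21) (ki xi3 yi9 zi28) (ki xi5 yi5 zi11) (ki xi3 yi9 zi29) (ki xi4 yi21 zi8) (ki xi5 yi5 zi15) (ki xi5 yi5 zi18) (ki xi3 yi10 zi1) (ki xi5 yi5 zi20) (ki xi3 yi10 zi3) (ki xi5 yi5 zi23) (ki xi5 yi5 zi25)) (@D3.rec (fun _ => Pt) (ki xi3 yi10 zi4) (ki xi5 yi5 zi28) (ki xi3 yi10 zi6) (ki xi5 yi5 zi31) (ki xi3 yi10 zi8) (ki xi3 yi14 zi29) (ki xi5 yi6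 zi1) (ki xi3 yi10 zi10) (ki xi3 yi15 zi0) (ki xi5 yi6 zi5) (ki xi3 yi10 zi14) (ki xi5 yi6 zi6) (ki xi3 yi10 zi16) (ki xi3 yi11 zi0) (ki xi3 yi11 zi1) (ki xi4 yi20 zi15) (ki xi4 yi20 zi17) (ki xi5 yi6 zi13) (ki xi3 yi10 zi21) (ki xi3 yi11 zi3) (ki xi5 yi6 zi16) (ki xi4 yi20 zi26) (ki xi4 yi20 zi29) (ki xi5 yi6 zi18) (ki xi5 yi6 zi20) (ki xi3 yi10 zi29) (ki xi4 yi21 zi9) (ki xi5 yi6 zi7) (ki xi5 yi6 zi8) (ki xi5 yi6 zi25) (ki xi4 yi20 zi12) (ki xi5 yi6 zi27)) (@D3.rec (fun _ => Pt) (ki xi5 yi6 zi29) (ki xi3 yi11 zi4) (ki xi4 yi18 zi30) (ki xi4 yi18 zi22) (ki xi3 yi11 zi7) (ki xi5 yi7 zi1) (ki xi3 yi11 zi8) (ki xi4 yi17 zi28) (ki xi4 yi17 zi16) (ki xi5 yi7 zi5) (ki xi3 yi11 zi13) (ki xi5 yi7 zi8) (ki xi3 yi11 zi14) (ki xi5 yi7 zi10) (ki xi5 yi7 zi12)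 (ki xi3 yi11 zi15) (ki xi5 yi7 zi16) (ki xi3 yi11 zi17) (ki xi5 yi7 zi19) (ki xi3 yi11 zi18) (ki xi3 yi16 zi7) (ki xi5 yi7 zi23) (ki xi5 yi7 zi25) (ki xi3 yi11 zi20) (ki xi5 yi7 zi28) (ki xi3 yi11 zi22) (ki xi5 yi7 zi31) (ki xi3 yi11 zi24) (ki xi3 yi16 zi12) (ki xi5 yi8 zi1) (ki xi3 yi11 zi26) (ki xi3 yi16 zi15)) (@D3.rec (fun _ => Pt) (ki xi5 yi8 zi5) (ki xi3 yi11 zi29) (ki xi5 yi8 zi8) (ki xi5 yi8 zi10) (ki xi3 yi11 zi31) (ki xi5 yi8 zi13) (ki xi3 yi12 zi0) (ki xi4 yi8 zi7) (ki xi5 yi8 zi16) (ki xi3 yi12 zi2) (ki xi3 yi16 zi18) (ki xi5 yi8 zi18) (ki xi3 yi12 zi4) (ki xi3 yi16 zi21) (ki xi3 yi12 zi7) (ki xi3 yi16 zi23) (ki xi3 yi16 zi24) (ki xi5 yi8 zi24) (ki xi3 yi12 zi10) (ki xi3 yi12 zi12) (ki xi4 yi17 zi11) (ki xi4 yi8 zi21) (ki xi4 yi8 zi22)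 (ki xi3 yi15 zi23) (ki xi3 yi15 zi24) (ki xi3 yi15 zi27) (ki xi3 yi13 zi0) (ki xi3 yi13 zi1) (ki xi3 yi14 zi5) (ki xi5 yi8 zi31) (ki xi3 yi12 zi22) (ki xi3 yi13 zi5)) (@D3.rec (fun _ => Pt) (ki xi3 yi14 zi13) (ki xi5 yi9 zi1) (ki xi3 yi12 zi26) (ki xi5 yi5 zi12) (ki xi3 yi12 zi30) (ki xi5 yi1 zi1) (ki xi5 yi8 zi27) (ki xi3 yi13 zi24) (ki xi3 yi14 zi7) (ki xi3 yi14 zi6) (ki xi5 yi9 zi11) (ki xi3 yi13 zi2) (ki xi5 yi9 zi13) (ki xi5 yi9 zi15) (ki xi3 yi13 zi3) (ki xi3 yi13 zi28) (ki xi5 yi9 zi19) (ki xi3 yi14 zi16) (ki xi3 yi14 zi15) (ki xi5 yi9 zi23) (ki xi3 yi13 zi9) (ki xi5 yi9 zi26) (ki xi3 yi13 zi11) (ki xi5 yi1 zi31) (ki xi5 yi4 zi3) (ki xi5 yi5 zi29) (ki xi3 yi13 zi14) (ki xi3 yi14 zi26) (ki xi3 yi14 zi25) (ki xi5 yi10 zi0) (ki xi3 yi13 zi17)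 (ki xi5 yi2 zi19)) (@D3.rec (fun _ => Pt) (ki xi5 yi10 zi2) (ki xi3 yi13 zi19) (ki xi5 yi2 zi22) (ki xi3 yi14 zi4) (ki xi5 yi9 zi5) (ki xi5 yi10 zi10) (ki xi5 yi10 zi12) (ki xi3 yi13 zi25) (ki xi5 yi10 zi14) (ki xi5 yi1 zi19) (ki xi5 yi10 zi17) (ki xi3 yi13 zi29) (ki xi5 yi3 zi21) (ki xi3 yi13 zi31) (ki xi5 yi2 zi5) (ki xi5 yi10 zi19) (ki xi3 yi14 zi1) (ki xi5 yi4 zi6) (ki xi5 yi10 zi5) (ki xi5 yi8 zi28) (ki xi5 yi10 zi26) (ki xi5 yi9 zi8) (ki xi5 yi9 zi7) (ki xi5 yi11 zi0) (ki xi5 yi11 zi2) (ki xi3 yi14 zi8) (ki xi5 yi11 zi6) (ki xi3 yi14 zi10) (ki xi5 yi11 zi9) (ki xi3 yi14 zi11) (ki xi5 yi4 zi24) (ki xi5 yi11 zi11)) (@D3.rec (fun _ => Pt) (ki xi5 yi11 zi13) (ki xi3 yi14 zi14) (ki xi5 yi9 zi21) (ki xi5 yi9 zi20) (ki xi5 yi11 zi17) (ki xi3 yi14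 zi17) (ki xi5 yi5 zi6) (ki xi5 yi11 zi19) (ki xi3 yi14 zi19) (ki xi5 yi5 zi9) (ki xi3 yi14 zi22) (ki xi5 yi11 zi23) (ki xi3 yi14 zi23) (ki xi5 yi9 zi30) (ki xi5 yi9 zi29) (ki xi5 yi11 zi26) (ki xi3 yi14 zi27) (ki xi5 yi6 zi0) (ki xi3 yi14 zi30) (ki xi5 yi6 zi2) (ki xi5 yi6 zi3) (ki xi3 yi15 zi20) (ki xi3 yi15 zi21) (ki xi5 yi12 zi4) (ki xi4 yi11 zi24) (ki xi4 yi11 zi25) (ki xi4 yi11 zi26) (ki xi4 yi11 zi27) (ki xi4 yi11 zi28) (ki xi4 yi11 zi29) (ki xi5 yi12 zi13) (ki xi5 yi12 zi15)) (@D3.rec (fun _ => Pt) (ki xi3 yi15 zi9) (ki xi4 yi12 zi1) (ki xi4 yi12 zi2) (ki xi4 yi12 zi3) (ki xi3 yi15 zi14) (ki xi5 yi12 zi18) (ki xi3 yi15 zi15) (ki xi4 yi12 zi7) (ki xi5 yi12 zi0) (ki xi5 yi12 zi22) (ki xi5 yi8 zi25) (ki xi5 yi12 zi25) (ki xi3 yi15 zi22) (ki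 xi5 yi8 zi26) (ki xi5 yi12 zi27) (ki xi3 yi15 zi25) (ki xi5 yi12 zi28) (ki xi3 yi15 zi28) (ki xi5 yi12 zi30) (ki xi5 yi13 zi0) (ki xi3 yi15 zi30) (ki xi5 yi13 zi4) (ki xi3 yi16 zi0) (ki xi5 yi13 zi7) (ki xi3 yi16 zi1) (ki xi5 yi7 zi13) (ki xi5 yi13 zi11) (ki xi5 yi13 zi13) (ki xi3 yi16 zi3) (ki xi5 yi7 zi17) (ki xi5 yi13 zi16) (ki xi3 yi16 zi5)) (@D3.rec (fun _ => Pt) (ki xi5 yi7 zi20) (ki xi5 yi13 zi20) (ki xi3 yi16 zi8) (ki xi5 yi7 zi29) (ki xi5 yi13 zi22) (ki xi3 yi16 zi10) (ki xi5 yi8 zi0) (ki xi3 yi16 zi13) (ki xi5 yi8 zi2) (ki xi5 yi8 zi3) (ki xi5 yi13 zi28) (ki xi3 yi16 zi16) (ki xi5 yi8 zi17) (ki xi3 yi16 zi19) (ki xi5 yi8 zi19) (ki xi5 yi8 zi20) (ki xi5 yi8 zi21) (ki xi5 yi8 zi22) (ki xi5 yi8 zi23) (ki xi5 yi14 zi5) (ki xi5 yi14 zi6)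 (ki xi3 yi16 zi25) (ki xi5 yi14 zi8) (ki xi3 yi16 zi26) (ki xi4 yi13 zi24) (ki xi4 yi13 zi25) (ki xi3 yi16 zi29) (ki xi4 yi13 zi27) (ki xi4 yi13 zi28) (ki xi4 yi13 zi29) (ki xi4 yi13 zi30) (ki xi4 yi13 zi31)) (@D3.rec (fun _ => Pt) (ki xi3 yi17 zi8) (ki xi3 yi17 zi9) (ki xi3 yi17 zi19) (ki xi3 yi17 zi20) (ki xi4 yi14 zi4) (ki xi4 yi14 zi5) (ki xi3 yi17 zi21) (ki xi5 yi14 zi16) (ki xi5 yi14 zi17) (ki xi4 yi17 zi10) (ki xi5 yi14 zi22) (ki xi5 yi14 zi25) (ki xi3 yi17 zi23) (ki xi4 yi17 zi15) (ki xi5 yi14 zi28) (ki xi5 yi14 zi30) (ki xi3 yi17 zi25) (ki xi5 yi15 zi0) (ki xi3 yi17 zi26) (ki xi5 yi15 zi3) (ki xi3 yi17 zi28) (ki xi5 yi15 zi5) (ki xi5 yi15 zi8) (ki xi3 yi17 zi31) (ki xi5 yi15 zi10) (ki xi3 yi18 zi0) (ki xi5 yi15 zi13) (ki xi3 yi18 zi2)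 (ki xi4 yi14 zi28) (ki xi5 yi15 zi15) (ki xi3 yi18 zi4) (ki xi4 yi14 zi31)) (@D3.rec (fun _ => Pt) (ki xi4 yi18 zi21) (ki xi5 yi15 zi20) (ki xi5 yi15 zi23) (ki xi3 yi18 zi8) (ki xi5 yi15 zi25) (ki xi5 yi15 zi27) (ki xi3 yi18 zi9) (ki xi5 yi15 zi30) (ki xi5 yi16 zi0) (ki xi3 yi18 zi12) (ki xi5 yi16 zi2) (ki xi3 yi18 zi13) (ki xi5 yi16 zi5) (ki xi3 yi18 zi15) (ki xi4 yi15 zi14) (ki xi5 yi16 zi8) (ki xi3 yi18 zi18) (ki xi5 yi16 zi10) (ki xi3 yi18 zi19) (ki xi5 yi16 zi13) (ki xi3 yi18 zi21) (ki xi4 yi15 zi21) (ki xi5 yi16 zi15) (ki xi3 yi18 zi23) (ki xi4 yi15 zi24) (ki xi4 yi20 zi11) (ki xi5 yi16 zi19) (ki xi3 yi18 zi27) (ki xi5 yi16 zi21) (ki xi5 yi16 zi23) (ki xi3 yi18 zi29) (ki xi5 yi16 zi27)) (@D3.rec (fun _ => Pt) (ki xi3 yi18 zi31) (ki xi5 yi16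 zi30) (ki xi3 yi19 zi0) (ki xi4 yi16 zi3) (ki xi5 yi17 zi1) (ki xi3 yi19 zi2) (ki xi4 yi16 zi6) (ki xi5 yi17 zi3) (ki xi3 yi19 zi4) (ki xi4 yi16 zi9) (ki xi5 yi17 zi6) (ki xi3 yi19 zi7) (ki xi4 yi16 zi12) (ki xi3 yi19 zi10) (ki xi4 yi16 zi14) (ki xi4 yi16 zi15) (ki xi4 yi16 zi16) (ki xi5 yi17 zi15) (ki xi4 yi16 zi18) (ki xi4 yi16 zi19) (ki xi5 yi17 zi19) (ki xi5 yi17 zi21) (ki xi3 yi19 zi15) (ki xi4 yi16 zi23) (ki xi5 yi17 zi24) (ki xi5 yi17 zi25) (ki xi3 yi19 zi18) (ki xi5 yi17 zi26) (ki xi5 yi17 zi28) (ki xi5 yi17 zi30) (ki xi3 yi19 zi22) (ki xi5 yi18 zi0)) (@D3.rec (fun _ => Pt) (ki xi3 yi19 zi23) (ki xi5 yi18 zi3) (ki xi5 yi18 zi5) (ki xi3 yi19 zi26) (ki xi3 yi19 zi27) (ki xi5 yi18 zi7) (ki xi5 yi18 zi9) (ki xi3 yi19 zi30) (ki xi5 yi18 zi11)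 (ki xi3 yi19 zi31) (ki xi4 yi14 zi9) (ki xi4 yi8 zi20) (ki xi5 yi18 zi18) (ki xi5 yi18 zi21) (ki xi3 yi20 zi3) (ki xi4 yi14 zi13) (ki xi4 yi7 zi8) (ki xi5 yi18 zi27) (ki xi5 yi18 zi29) (ki xi5 yi18 zi31) (ki xi3 yi20 zi6) (ki xi5 yi19 zi1) (ki xi3 yi20 zi7) (ki xi4 yi1 zi6) (ki xi5 yi19 zi5) (ki xi5 yi19 zi7) (ki xi3 yi20 zi10) (ki xi3 yi20 zi11) (ki xi4 yi7 zi7) (ki xi5 yi19 zi11) (ki xi4 yi1 zi4) (ki xi5 yi19 zi14)) (@D3.rec (fun _ => Pt) (ki xi5 yi19 zi17) (ki xi3 yi20 zi15) (ki xi5 yi19 zi19) (ki xi3 yi20 zi16) (ki xi5 yi19 zi21) (ki xi3 yi20 zi17) (ki xi5 yi19 zi24) (ki xi3 yi20 zi19) (ki xi4 yi18 zi8) (ki xi5 yi19 zi27) (ki xi5 yi19 zi29) (ki xi3 yi20 zi22) (ki xi5 yi19 zi31) (ki xi3 yi20 zi23) (ki xi5 yi20 zi2) (ki xi3 yi20 zi26) (ki xi5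 yi20 zi4) (ki xi3 yi20 zi27) (ki xi5 yi20 zi7) (ki xi3 yi20 zi29) (ki xi4 yi18 zi20) (ki xi4 yi15 zi0) (ki xi4 yi7 zi3) (ki xi5 yi20 zi15) (ki xi5 yi20 zi17) (ki xi5 yi20 zi20) (ki xi3 yi21 zi1) (ki xi5 yi20 zi22) (ki xi5 yi20 zi24) (ki xi3 yi21 zi2) (ki xi4 yi7 zi2) (ki xi5 yi20 zi29)) (@D3.rec (fun _ => Pt) (ki xi4 yi0 zi25) (ki xi5 yi21 zi0) (ki xi5 yi21 zi3) (ki xi3 yi21 zi6) (ki xi5 yi21 zi5) (ki xi3 yi21 zi7) (ki xi5 yi21 zi7) (ki xi3 yi21 zi8) (ki xi5 yi21 zi10) (ki xi3 yi21 zi10) (ki xi4 yi19 zi10) (ki xi5 yi21 zi12) (ki xi5 yi21 zi14) (ki xi3 yi21 zi13) (ki xi5 yi21 zi16) (ki xi3 yi21 zi14) (ki xi4 yi0 zi31) (ki xi5 yi21 zi20) (ki xi5 yi21 zi23) (ki xi3 yi21 zi18) (ki xi5 yi21 zi25) (ki xi5 yi21 zi28) (ki xi3 yi21 zi20) (ki xi5 yi21 zi31)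 (ki xi6 yi0 zi1) (ki xi3 yi21 zi21) (ki xi6 yi0 zi4) (ki xi3 yi21 zi23) (ki xi6 yi0 zi7) (ki xi3 yi21 zi25) (ki xi4 yi19 zi30) (ki xi6 yi0 zi9)) (@D3.rec (fun _ => Pt) (ki xi3 yi21 zi27) (ki xi4 yi20 zi1) (ki xi3 yi21 zi30) (ki xi6 yi0 zi13) (ki xi3 yi21 zi31) (ki xi6 yi0 zi15) (ki xi4 yi0 zi1) (ki xi6 yi0 zi17) (ki xi4 yi0 zi4) (ki xi6 yi0 zi18) (ki xi4 yi0 zi6) (ki xi4 yi15 zi25) (ki xi4 yi6 zi30) (ki xi6 yi0 zi24) (ki xi4 yi0 zi10) (ki xi4 yi6 zi15) (ki xi6 yi0 zi21) (ki xi4 yi6 zi16) (ki xi6 yi0 zi31) (ki xi6 yi1 zi0) (ki xi4 yi0 zi12) (ki xi4 yi0 zi14) (ki xi4 yi0 zi20) (ki xi6 yi1 zi4) (ki xi6 yi1 zi7) (ki xi4 yi0 zi17) (ki xi4 yi6 zi21) (ki xi5 yi20 zi26) (ki xi6 yi1 zi1) (ki xi4 yi6 zi22) (ki xi4 yi0 zi22) (ki xi4 yi5 zi10)) (@D3.rec (fun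 _ => Pt) (ki xi5 yi20 zi12) (ki xi4 yi1 zi0) (ki xi6 yi1 zi15) (ki xi6 yi1 zi18) (ki xi4 yi0 zi27) (ki xi6 yi1 zi21) (ki xi6 yi1 zi22) (ki xi4 yi0 zi28) (ki xi4 yi5 zi24) (ki xi4 yi6 zi26) (ki xi5 yi19 zi8) (ki xi5 yi21 zi17) (ki xi4 yi3 zi10) (ki xi5 yi18 zi24) (ki xi4 yi3 zi3) (ki xi4 yi21 zi15) (ki xi6 yi1 zi28) (ki xi4 yi21 zi17) (ki xi6 yi1 zi30) (ki xi6 yi2 zi0) (ki xi4 yi1 zi9) (ki xi4 yi21 zi21) (ki xi6 yi2 zi3) (ki xi6 yi2 zi4) (ki xi4 yi1 zi12) (ki xi6 yi2 zi5) (ki xi4 yi1 zi15) (ki xi6 yi2 zi6) (ki xi4 yi1 zi16) (ki xi4 yi21 zi29) (ki xi6 yi2 zi9) (ki xi6 yi2 zi11))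
def f_i_5 : D2 → D3 → Pt := @D2.rec (fun _ => D3 → Pt) (@D3.rec (fun _ => Pt) (ki xi4 yi1 zi19) (ki xi4 yi1 zi20) (ki xi6 yi2 zi13) (ki xi6 yi2 zi14) (ki xi4 yi1 zi23) (ki xi6 yi2 zi16) (ki xi4 yi1 zi24) (ki xi4 yi2 zi22) (ki xi4 yi2 zi23) (ki xi6 yi2 zi23) (ki xi6 yi2 zi26) (ki xi4 yi1 zi28) (ki xi4 yi2 zi27) (ki xi4 yi2 zi28) (ki xi6 yi2 zi30) (ki xi6 yi2 zi31) (ki xi6 yi3 zi1) (ki xi4 yi1 zi31) (ki xi6 yi3 zi3) (ki xi4 yi2 zi0) (ki xi6 yi3 zi6) (ki xi6 yi3 zi8) (ki xi4 yi2 zi3) (ki xi4 yi2 zi4) (ki xi6 yi3 zi10) (ki xi6 yi3 zi12) (ki xi6 yi3 zi15) (ki xi4 yi2 zi8) (ki xi4 yi2 zi9) (ki xi6 yi3 zi16) (ki xi4 yi2 zi10) (ki xi6 yi3 zi17)) (@D3.rec (fun _ => Pt) (ki xi4 yi2 zi12) (ki xi4 yi9 zi5) (ki xi6 yi3 zi20) (ki xi4 yi2 zi14) (ki xi6 yi3 zi22)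 (ki xi4 yi2 zi15) (ki xi4 yi2 zi18) (ki xi6 yi3 zi26) (ki xi4 yi2 zi20) (ki xi5 yi1 zi9) (ki xi6 yi2 zi18) (ki xi6 yi2 zi19) (ki xi6 yi4 zi2) (ki xi6 yi4 zi4) (ki xi6 yi4 zi7) (ki xi4 yi2 zi24) (ki xi6 yi4 zi9) (ki xi6 yi4 zi11) (ki xi4 yi2 zi25) (ki xi4 yi10 zi9) (ki xi6 yi4 zi16) (ki xi6 yi1 zi24) (ki xi6 yi4 zi19) (ki xi6 yi4 zi22) (ki xi4 yi2 zi29) (ki xi6 yi4 zi24) (ki xi4 yi2 zi30) (ki xi6 yi4 zi26) (ki xi4 yi2 zi31) (ki xi6 yi4 zi29) (ki xi4 yi3 zi1) (ki xi4 yi9 zi23)) (@D3.rec (fun _ => Pt) (ki xi6 yi4 zi31) (ki xi6 yi5 zi1) (ki xi4 yi3 zi4) (ki xi6 yi5 zi3) (ki xi4 yi3 zi5) (ki xi4 yi10 zi14) (ki xi6 yi5 zi7) (ki xi6 yi5 zi10) (ki xi4 yi3 zi9) (ki xi6 yi5 zi12) (ki xi6 yi5 zi15) (ki xi4 yi3 zi11) (ki xi6 yi5 zi18) (ki xi6 yi5 zi20) (ki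 xi4 yi3 zi12) (ki xi6 yi5 zi23) (ki xi4 yi3 zi14) (ki xi6 yi5 zi25) (ki xi4 yi3 zi16) (ki xi4 yi9 zi31) (ki xi6 yi5 zi27) (ki xi4 yi3 zi18) (ki xi4 yi10 zi2) (ki xi4 yi3 zi21) (ki xi6 yi5 zi30) (ki xi4 yi3 zi22) (ki xi6 yi6 zi1) (ki xi4 yi3 zi24) (ki xi5 yi2 zi28) (ki xi5 yi2 zi29) (ki xi6 yi6 zi3) (ki xi4 yi3 zi28)) (@D3.rec (fun _ => Pt) (ki xi5 yi3 zi0) (ki xi4 yi4 zi31) (ki xi4 yi5 zi0) (ki xi6 yi6 zi10) (ki xi6 yi6 zi12) (ki xi6 yi6 zi15) (ki xi4 yi4 zi1) (ki xi6 yi6 zi17) (ki xi6 yi6 zi19) (ki xi4 yi4 zi2) (ki xi4 yi5 zi8) (ki xi6 yi6 zi22) (ki xi6 yi6 zi24) (ki xi6 yi6 zi27) (ki xi4 yi4 zi6) (ki xi6 yi6 zi28) (ki xi4 yi4 zi7) (ki xi6 yi6 zi30) (ki xi4 yi4 zi8) (ki xi6 yi7 zi1) (ki xi4 yi4 zi10) (ki xi4 yi10 zi12) (ki xi4 yi4 zi12) (ki xi6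 yi7 zi4) (ki xi4 yi4 zi13) (ki xi6 yi7 zi6) (ki xi4 yi4 zi17) (ki xi6 yi7 zi7) (ki xi4 yi4 zi18) (ki xi6 yi7 zi9) (ki xi6 yi7 zi11) (ki xi4 yi4 zi19)) (@D3.rec (fun _ => Pt) (ki xi4 yi4 zi21) (ki xi6 yi7 zi13) (ki xi4 yi4 zi23) (ki xi4 yi9 zi24) (ki xi6 yi7 zi14) (ki xi4 yi4 zi25) (ki xi4 yi10 zi17) (ki xi4 yi4 zi29) (ki xi6 yi6 zi5) (ki xi6 yi6 zi6) (ki xi6 yi7 zi22) (ki xi6 yi1 zi12) (ki xi6 yi7 zi24) (ki xi6 yi7 zi27) (ki xi4 yi5 zi1) (ki xi6 yi7 zi30) (ki xi4 yi5 zi2) (ki xi6 yi8 zi0) (ki xi6 yi8 zi2) (ki xi4 yi5 zi3) (ki xi6 yi8 zi6) (ki xi4 yi5 zi5) (ki xi6 yi8 zi9) (ki xi4 yi5 zi6) (ki xi4 yi10 zi30) (ki xi6 yi1 zi8) (ki xi6 yi8 zi14) (ki xi6 yi8 zi17) (ki xi4 yi5 zi9) (ki xi6 yi8 zi19) (ki xi4 yi5 zi11) (ki xi6 yi8 zi22)) (@D3.rec (fun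 _ => Pt) (ki xi6 yi8 zi24) (ki xi4 yi5 zi12) (ki xi6 yi8 zi27) (ki xi4 yi5 zi14) (ki xi6 yi8 zi30) (ki xi4 yi5 zi16) (ki xi4 yi11 zi6) (ki xi6 yi9 zi0) (ki xi4 yi5 zi18) (ki xi4 yi11 zi9) (ki xi6 yi9 zi4) (ki xi4 yi5 zi22) (ki xi4 yi9 zi3) (ki xi6 yi9 zi6) (ki xi6 yi9 zi8) (ki xi4 yi5 zi25) (ki xi6 yi9 zi11) (ki xi6 yi9 zi13) (ki xi4 yi5 zi26) (ki xi6 yi9 zi16) (ki xi4 yi5 zi28) (ki xi6 yi9 zi20) (ki xi6 yi9 zi22) (ki xi4 yi5 zi30) (ki xi6 yi9 zi25) (ki xi4 yi5 zi31) (ki xi6 yi9 zi14) (ki xi6 yi9 zi28) (ki xi4 yi6 zi1) (ki xi4 yi9 zi25) (ki xi6 yi9 zi30) (ki xi4 yi6 zi3)) (@D3.rec (fun _ => Pt) (ki xi4 yi11 zi17) (ki xi4 yi6 zi6) (ki xi4 yi11 zi19) (ki xi4 yi11 zi20) (ki xi6 yi10 zi4) (ki xi4 yi6 zi9) (ki xi4 yi6 zi11) (ki xi4 yi6 zi27) (ki xi4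 yi6 zi28) (ki xi6 yi10 zi9) (ki xi6 yi0 zi25) (ki xi6 yi0 zi28) (ki xi6 yi0 zi29) (ki xi4 yi6 zi17) (ki xi6 yi10 zi13) (ki xi6 yi10 zi15) (ki xi4 yi6 zi20) (ki xi6 yi1 zi9) (ki xi4 yi6 zi23) (ki xi6 yi10 zi16) (ki xi4 yi6 zi24) (ki xi6 yi10 zi5) (ki xi6 yi10 zi19) (ki xi6 yi10 zi20) (ki xi6 yi10 zi22) (ki xi4 yi6 zi29) (ki xi6 yi0 zi19) (ki xi4 yi6 zi31) (ki xi6 yi10 zi25) (ki xi4 yi7 zi0) (ki xi5 yi20 zi10) (ki xi5 yi18 zi14)) (@D3.rec (fun _ => Pt) (ki xi6 yi10 zi28) (ki xi4 yi7 zi5) (ki xi5 yi18 zi22) (ki xi6 yi10 zi31) (ki xi6 yi11 zi1) (ki xi4 yi7 zi9) (ki xi6 yi11 zi4) (ki xi6 yi11 zi6) (ki xi4 yi7 zi11) (ki xi6 yi11 zi10) (ki xi4 yi7 zi13) (ki xi6 yi11 zi13) (ki xi4 yi7 zi14) (ki xi4 yi12 zi25) (ki xi6 yi11 zi17) (ki xi6 yi11 zi19) (ki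 xi4 yi7 zi16) (ki xi4 yi12 zi29) (ki xi6 yi11 zi22) (ki xi4 yi7 zi18) (ki xi4 yi13 zi0) (ki xi6 yi11 zi27) (ki xi6 yi11 zi29) (ki xi4 yi7 zi21) (ki xi6 yi12 zi0) (ki xi4 yi7 zi22) (ki xi5 yi7 zi26) (ki xi6 yi12 zi3) (ki xi4 yi7 zi24) (ki xi4 yi13 zi3) (ki xi6 yi12 zi5) (ki xi4 yi7 zi26)) (@D3.rec (fun _ => Pt) (ki xi4 yi13 zi6) (ki xi4 yi7 zi29) (ki xi4 yi13 zi8) (ki xi4 yi13 zi9) (ki xi6 yi12 zi11) (ki xi4 yi8 zi0) (ki xi6 yi12 zi13) (ki xi6 yi12 zi15) (ki xi4 yi8 zi2) (ki xi6 yi12 zi18) (ki xi4 yi8 zi3) (ki xi5 yi8 zi11) (ki xi6 yi12 zi20) (ki xi4 yi8 zi5) (ki xi5 yi8 zi14) (ki xi6 yi12 zi23) (ki xi4 yi8 zi8) (ki xi4 yi13 zi12) (ki xi4 yi8 zi11) (ki xi4 yi13 zi14) (ki xi4 yi13 zi15) (ki xi4 yi13 zi16) (ki xi4 yi13 zi17) (ki xi4 yi13 zi18) (ki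 xi4 yi8 zi17) (ki xi4 yi12 zi10) (ki xi4 yi12 zi13) (ki xi4 yi9 zi6) (ki xi4 yi10 zi19) (ki xi6 yi13 zi2) (ki xi6 yi13 zi4) (ki xi4 yi8 zi29)) (@D3.rec (fun _ => Pt) (ki xi6 yi8 zi11) (ki xi4 yi9 zi1) (ki xi6 yi3 zi4) (ki xi6 yi3 zi18) (ki xi6 yi12 zi31) (ki xi4 yi10 zi4) (ki xi6 yi13 zi12) (ki xi4 yi10 zi22) (ki xi4 yi10 zi21) (ki xi6 yi13 zi18) (ki xi6 yi13 zi20) (ki xi4 yi9 zi10) (ki xi6 yi13 zi24) (ki xi4 yi9 zi12) (ki xi6 yi13 zi27) (ki xi4 yi9 zi13) (ki xi6 yi4 zi12) (ki xi6 yi6 zi31) (ki xi6 yi8 zi28) (ki xi4 yi9 zi16) (ki xi4 yi11 zi3) (ki xi4 yi11 zi2) (ki xi6 yi14 zi1) (ki xi4 yi9 zi19) (ki xi6 yi4 zi27) (ki xi6 yi14 zi3) (ki xi4 yi9 zi21) (ki xi6 yi4 zi30) (ki xi6 yi9 zi29) (ki xi4 yi11 zi14) (ki xi4 yi11 zi13) (ki xi6 yi14 zi9)) (@D3.rec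 (fun _ => Pt) (ki xi4 yi9 zi29) (ki xi6 yi5 zi26) (ki xi4 yi10 zi0) (ki xi6 yi5 zi28) (ki xi6 yi5 zi29) (ki xi4 yi10 zi18) (ki xi6 yi14 zi15) (ki xi6 yi13 zi8) (ki xi6 yi3 zi29) (ki xi6 yi14 zi20) (ki xi4 yi10 zi5) (ki xi6 yi14 zi23) (ki xi4 yi10 zi6) (ki xi6 yi6 zi20) (ki xi4 yi10 zi8) (ki xi6 yi4 zi13) (ki xi6 yi14 zi25) (ki xi4 yi10 zi10) (ki xi6 yi7 zi2) (ki xi4 yi10 zi15) (ki xi6 yi7 zi15) (ki xi6 yi7 zi16) (ki xi6 yi13 zi0) (ki xi6 yi15 zi1) (ki xi6 yi15 zi2) (ki xi6 yi15 zi5) (ki xi4 yi10 zi20) (ki xi6 yi13 zi15) (ki xi6 yi13 zi16) (ki xi6 yi13 zi13) (ki xi6 yi13 zi14) (ki xi6 yi15 zi12)) (@D3.rec (fun _ => Pt) (ki xi4 yi10 zi23) (ki xi6 yi15 zi15) (ki xi4 yi10 zi24) (ki xi6 yi8 zi3) (ki xi6 yi15 zi19) (ki xi6 yi15 zi21) (ki xi4 yi10 zi26)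 (ki xi6 yi8 zi7) (ki xi6 yi15 zi24) (ki xi4 yi10 zi28) (ki xi6 yi8 zi10) (ki xi4 yi10 zi31) (ki xi6 yi15 zi28) (ki xi4 yi11 zi0) (ki xi6 yi13 zi31) (ki xi6 yi13 zi30) (ki xi6 yi15 zi31) (ki xi4 yi11 zi4) (ki xi6 yi8 zi31) (ki xi4 yi11 zi7) (ki xi6 yi9 zi1) (ki xi6 yi9 zi2) (ki xi6 yi16 zi6) (ki xi4 yi11 zi11) (ki xi6 yi14 zi8) (ki xi6 yi14 zi7) (ki xi4 yi11 zi15) (ki xi6 yi9 zi31) (ki xi6 yi10 zi0) (ki xi6 yi10 zi1) (ki xi6 yi10 zi2) (ki xi6 yi10 zi3)) (@D3.rec (fun _ => Pt) (ki xi4 yi12 zi8) (ki xi6 yi16 zi12) (ki xi6 yi16 zi13) (ki xi6 yi16 zi16) (ki xi4 yi11 zi23) (ki xi5 yi12 zi5) (ki xi5 yi12 zi6) (ki xi5 yi12 zi7) (ki xi5 yi12 zi8) (ki xi5 yi12 zi9) (ki xi5 yi12 zi10) (ki xi5 yi12 zi11) (ki xi5 yi12 zi12) (ki xi4 yi11 zi30) (ki xi6 yi16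 zi19) (ki xi4 yi11 zi31) (ki xi5 yi12 zi16) (ki xi6 yi16 zi20) (ki xi4 yi12 zi5) (ki xi6 yi12 zi29) (ki xi6 yi16 zi24) (ki xi6 yi16 zi26) (ki xi4 yi12 zi9) (ki xi6 yi12 zi30) (ki xi6 yi16 zi28) (ki xi4 yi12 zi11) (ki xi6 yi16 zi29) (ki xi4 yi12 zi14) (ki xi4 yi12 zi16) (ki xi6 yi17 zi0) (ki xi4 yi12 zi18) (ki xi6 yi17 zi3)) (@D3.rec (fun _ => Pt) (ki xi4 yi12 zi19) (ki xi6 yi11 zi7) (ki xi6 yi17 zi7) (ki xi6 yi17 zi9) (ki xi4 yi12 zi21) (ki xi6 yi11 zi11) (ki xi6 yi17 zi12) (ki xi4 yi12 zi23) (ki xi6 yi11 zi14) (ki xi6 yi17 zi18) (ki xi6 yi17 zi19) (ki xi4 yi12 zi26) (ki xi6 yi17 zi21) (ki xi4 yi12 zi27) (ki xi6 yi11 zi20) (ki xi6 yi11 zi21) (ki xi4 yi12 zi30) (ki xi6 yi11 zi23) (ki xi6 yi11 zi24) (ki xi6 yi17 zi28) (ki xi4 yi13 zi1) (ki xi6 yi12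 zi4) (ki xi4 yi13 zi4) (ki xi6 yi12 zi6) (ki xi6 yi12 zi7) (ki xi6 yi12 zi8) (ki xi6 yi12 zi9) (ki xi6 yi12 zi10) (ki xi4 yi13 zi10) (ki xi6 yi12 zi24) (ki xi6 yi12 zi25) (ki xi6 yi12 zi26)) (@D3.rec (fun _ => Pt) (ki xi6 yi12 zi27) (ki xi6 yi12 zi28) (ki xi6 yi18 zi6) (ki xi6 yi18 zi7) (ki xi6 yi18 zi8) (ki xi4 yi13 zi19) (ki xi4 yi13 zi20) (ki xi6 yi18 zi10) (ki xi4 yi13 zi22) (ki xi5 yi14 zi9) (ki xi5 yi14 zi10) (ki xi5 yi14 zi11) (ki xi5 yi14 zi12) (ki xi5 yi14 zi13) (ki xi5 yi14 zi14) (ki xi5 yi14 zi15) (ki xi4 yi14 zi7) (ki xi4 yi14 zi8) (ki xi6 yi18 zi12) (ki xi5 yi18 zi13) (ki xi6 yi18 zi16) (ki xi6 yi18 zi19) (ki xi4 yi14 zi10) (ki xi6 yi18 zi21) (ki xi6 yi18 zi23) (ki xi4 yi14 zi11) (ki xi6 yi18 zi26) (ki xi6 yi18 zi29) (ki xi4 yi14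 zi14) (ki xi6 yi18 zi31) (ki xi4 yi14 zi15) (ki xi6 yi19 zi2)) (@D3.rec (fun _ => Pt) (ki xi4 yi14 zi17) (ki xi5 yi15 zi1) (ki xi6 yi19 zi5) (ki xi4 yi14 zi19) (ki xi6 yi19 zi9) (ki xi4 yi14 zi21) (ki xi6 yi19 zi11) (ki xi6 yi19 zi13) (ki xi4 yi14 zi22) (ki xi6 yi19 zi16) (ki xi4 yi14 zi24) (ki xi5 yi15 zi11) (ki xi6 yi19 zi18) (ki xi4 yi14 zi26) (ki xi5 yi15 zi14) (ki xi4 yi14 zi29) (ki xi5 yi15 zi16) (ki xi5 yi20 zi9) (ki xi6 yi19 zi24) (ki xi6 yi19 zi27) (ki xi4 yi15 zi1) (ki xi6 yi19 zi29) (ki xi6 yi19 zi31) (ki xi4 yi15 zi2) (ki xi6 yi20 zi3) (ki xi4 yi15 zi4) (ki xi6 yi20 zi6) (ki xi4 yi15 zi5) (ki xi5 yi15 zi28) (ki xi6 yi20 zi9) (ki xi4 yi15 zi7) (ki xi6 yi20 zi11)) (@D3.rec (fun _ => Pt) (ki xi4 yi15 zi8) (ki xi6 yi20 zi14) (ki xi4 yi15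 zi10) (ki xi5 yi16 zi3) (ki xi6 yi20 zi16) (ki xi4 yi15 zi12) (ki xi5 yi16 zi6) (ki xi6 yi20 zi20) (ki xi4 yi15 zi15) (ki xi6 yi20 zi23) (ki xi4 yi15 zi17) (ki xi6 yi20 zi21) (ki xi6 yi20 zi25) (ki xi4 yi15 zi19) (ki xi5 yi16 zi14) (ki xi4 yi15 zi22) (ki xi5 yi16 zi16) (ki xi5 yi16 zi17) (ki xi6 yi21 zi0) (ki xi4 yi15 zi26) (ki xi6 yi21 zi3) (ki xi4 yi15 zi28) (ki xi6 yi21 zi6) (ki xi4 yi15 zi29) (ki xi5 yi16 zi24) (ki xi6 yi21 zi10) (ki xi6 yi21 zi12) (ki xi4 yi15 zi31) (ki xi5 yi16 zi28) (ki xi6 yi21 zi15) (ki xi4 yi16 zi1) (ki xi5 yi16 zi31)) (@D3.rec (fun _ => Pt) (ki xi6 yi21 zi18) (ki xi4 yi16 zi4) (ki xi5 yi17 zi2) (ki xi4 yi16 zi7) (ki xi5 yi17 zi4) (ki xi5 yi17 zi5) (ki xi4 yi16 zi10) (ki xi5 yi17 zi7) (ki xi5 yi17 zi8) (ki xi5 yi17 zi9)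 (ki xi5 yi17 zi10) (ki xi5 yi17 zi11) (ki xi5 yi17 zi12) (ki xi7 yi0 zi1) (ki xi7 yi0 zi4) (ki xi4 yi16 zi17) (ki xi7 yi0 zi5) (ki xi7 yi0 zi7) (ki xi7 yi0 zi9) (ki xi4 yi16 zi20) (ki xi7 yi0 zi11) (ki xi4 yi16 zi21) (ki xi7 yi0 zi14) (ki xi7 yi0 zi16) (ki xi4 yi16 zi24) (ki xi4 yi16 zi25) (ki xi4 yi16 zi27) (ki xi7 yi0 zi17) (ki xi4 yi16 zi28) (ki xi7 yi0 zi19) (ki xi4 yi16 zi29) (ki xi7 yi0 zi22)) (@D3.rec (fun _ => Pt) (ki xi4 yi16 zi31) (ki xi5 yi18 zi1) (ki xi7 yi0 zi24) (ki xi4 yi17 zi1) (ki xi7 yi0 zi26) (ki xi4 yi17 zi2) (ki xi7 yi0 zi30) (ki xi4 yi17 zi5) (ki xi7 yi1 zi0) (ki xi4 yi17 zi6) (ki xi7 yi1 zi3) (ki xi4 yi17 zi8) (ki xi5 yi18 zi12) (ki xi5 yi14 zi19) (ki xi5 yi6 zi31) (ki xi7 yi1 zi11) (ki xi7 yi1 zi13) (ki xi7 yi1 zi16) (ki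 xi4 yi17 zi12) (ki xi7 yi1 zi18) (ki xi7 yi1 zi20) (ki xi4 yi17 zi13) (ki xi5 yi7 zi2) (ki xi7 yi1 zi25) (ki xi4 yi21 zi13) (ki xi7 yi1 zi28) (ki xi7 yi1 zi31) (ki xi4 yi17 zi17) (ki xi7 yi2 zi1) (ki xi4 yi17 zi18) (ki xi7 yi2 zi3) (ki xi4 yi17 zi19)) (@D3.rec (fun _ => Pt) (ki xi7 yi2 zi6) (ki xi4 yi17 zi21) (ki xi5 yi19 zi2) (ki xi7 yi2 zi9) (ki xi7 yi2 zi11) (ki xi4 yi17 zi24) (ki xi7 yi2 zi13) (ki xi4 yi17 zi25) (ki xi4 yi21 zi10) (ki xi7 yi2 zi17) (ki xi7 yi2 zi20) (ki xi4 yi17 zi29) (ki xi7 yi2 zi22) (ki xi7 yi2 zi25) (ki xi4 yi17 zi31) (ki xi7 yi2 zi28) (ki xi7 yi2 zi30) (ki xi4 yi18 zi0) (ki xi7 yi3 zi0) (ki xi4 yi18 zi2) (ki xi7 yi3 zi3) (ki xi4 yi18 zi4) (ki xi5 yi19 zi22) (ki xi7 yi3 zi5) (ki xi4 yi18 zi6) (ki xi5 yi19 zi25) (ki xi7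 yi3 zi10) (ki xi4 yi18 zi9) (ki xi7 yi3 zi12) (ki xi4 yi18 zi10) (ki xi7 yi3 zi15) (ki xi4 yi18 zi12)) (@D3.rec (fun _ => Pt) (ki xi5 yi20 zi0) (ki xi7 yi3 zi17) (ki xi4 yi18 zi14) (ki xi7 yi3 zi20) (ki xi4 yi18 zi16) (ki xi5 yi20 zi5) (ki xi7 yi3 zi22) (ki xi4 yi18 zi18) (ki xi5 yi20 zi8) (ki xi5 yi15 zi17) (ki xi5 yi6 zi30) (ki xi7 yi3 zi29) (ki xi4 yi21 zi0) (ki xi7 yi4 zi0) (ki xi7 yi4 zi3) (ki xi4 yi18 zi23) (ki xi7 yi4 zi6) (ki xi4 yi18 zi24) (ki xi7 yi4 zi8) (ki xi7 yi4 zi10) (ki xi4 yi18 zi25) (ki xi7 yi4 zi14) (ki xi4 yi18 zi27) (ki xi7 yi4 zi17) (ki xi4 yi18 zi28) (ki xi5 yi20 zi25) (ki xi4 yi20 zi27) (ki xi7 yi4 zi22) (ki xi7 yi4 zi25) (ki xi4 yi18 zi31) (ki xi7 yi4 zi27) (ki xi7 yi4 zi30)) (@D3.rec (fun _ => Pt) (ki xi4 yi19 zi1) (ki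 xi7 yi5 zi1) (ki xi7 yi5 zi3) (ki xi4 yi19 zi2) (ki xi7 yi5 zi6) (ki xi4 yi19 zi4) (ki xi7 yi5 zi9) (ki xi4 yi19 zi6) (ki xi5 yi21 zi8) (ki xi7 yi5 zi11) (ki xi4 yi19 zi8) (ki xi5 yi21 zi11) (ki xi4 yi19 zi11) (ki xi7 yi5 zi15) (ki xi4 yi19 zi12) (ki xi7 yi5 zi17) (ki xi4 yi19 zi14) (ki xi4 yi21 zi11) (ki xi7 yi5 zi20) (ki xi7 yi5 zi23) (ki xi4 yi19 zi17) (ki xi7 yi5 zi26) (ki xi7 yi5 zi28) (ki xi4 yi19 zi18) (ki xi7 yi5 zi31) (ki xi4 yi19 zi20) (ki xi7 yi6 zi2) (ki xi7 yi6 zi4) (ki xi4 yi19 zi21) (ki xi7 yi6 zi8) (ki xi7 yi6 zi10) (ki xi4 yi19 zi23))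
def f_i_6 : D2 → D3 → Pt := @D2.rec (fun _ => D3 → Pt) (@D3.rec (fun _ => Pt) (ki xi7 yi6 zi13) (ki xi4 yi19 zi24) (ki xi7 yi5 zi29) (ki xi7 yi6 zi16) (ki xi4 yi19 zi26) (ki xi6 yi0 zi5) (ki xi7 yi6 zi18) (ki xi4 yi19 zi28) (ki xi6 yi0 zi8) (ki xi4 yi19 zi31) (ki xi6 yi0 zi10) (ki xi6 yi0 zi11) (ki xi7 yi6 zi25) (ki xi4 yi20 zi3) (ki xi7 yi6 zi26) (ki xi4 yi20 zi5) (ki xi7 yi6 zi27) (ki xi4 yi20 zi7) (ki xi4 yi20 zi9) (ki xi5 yi6 zi26) (ki xi7 yi6 zi31) (ki xi4 yi20 zi16) (ki xi7 yi7 zi3) (ki xi7 yi7 zi6) (ki xi4 yi20 zi13) (ki xi5 yi6 zi10) (ki xi7 yi6 zi28) (ki xi7 yi7 zi0) (ki xi5 yi6 zi11) (ki xi5 yi6 zi12) (ki xi7 yi7 zi13) (ki xi4 yi20 zi18)) (@D3.rec (fun _ => Pt) (ki xi4 yi20 zi19) (ki xi4 yi20 zi28) (ki xi7 yi7 zi15) (ki xi7 yi7 zi18)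 (ki xi4 yi20 zi23) (ki xi7 yi7 zi21) (ki xi7 yi7 zi22) (ki xi4 yi20 zi24) (ki xi5 yi4 zi25) (ki xi5 yi6 zi17) (ki xi7 yi3 zi26) (ki xi7 yi4 zi19) (ki xi5 yi4 zi11) (ki xi7 yi1 zi8) (ki xi7 yi7 zi27) (ki xi4 yi21 zi2) (ki xi7 yi7 zi28) (ki xi7 yi7 zi29) (ki xi4 yi21 zi3) (ki xi7 yi7 zi31) (ki xi7 yi8 zi0) (ki xi4 yi21 zi5) (ki xi4 yi21 zi6) (ki xi7 yi1 zi22) (ki xi5 yi1 zi21) (ki xi6 yi1 zi25) (ki xi7 yi8 zi2) (ki xi7 yi8 zi5) (ki xi4 yi21 zi16) (ki xi7 yi8 zi6) (ki xi4 yi21 zi18) (ki xi7 yi8 zi7)) (@D3.rec (fun _ => Pt) (ki xi4 yi21 zi19) (ki xi7 yi8 zi9) (ki xi7 yi8 zi11) (ki xi4 yi21 zi22) (ki xi4 yi21 zi23) (ki xi4 yi21 zi25) (ki xi4 yi21 zi27) (ki xi7 yi8 zi13) (ki xi7 yi8 zi15) (ki xi4 yi21 zi30) (ki xi7 yi8 zi17) (ki xi4 yi21 zi31) (ki xi7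 yi8 zi19) (ki xi5 yi0 zi2) (ki xi5 yi0 zi3) (ki xi7 yi8 zi22) (ki xi5 yi0 zi5) (ki xi6 yi2 zi17) (ki xi5 yi1 zi10) (ki xi5 yi1 zi11) (ki xi7 yi8 zi28) (ki xi7 yi8 zi29) (ki xi7 yi9 zi0) (ki xi5 yi0 zi9) (ki xi7 yi9 zi2) (ki xi7 yi9 zi4) (ki xi5 yi0 zi10) (ki xi7 yi9 zi7) (ki xi7 yi9 zi9) (ki xi7 yi9 zi12) (ki xi5 yi0 zi14) (ki xi5 yi0 zi15)) (@D3.rec (fun _ => Pt) (ki xi7 yi9 zi13) (ki xi5 yi0 zi16) (ki xi7 yi9 zi14) (ki xi5 yi0 zi18) (ki xi5 yi9 zi2) (ki xi7 yi9 zi17) (ki xi5 yi0 zi20) (ki xi7 yi9 zi19) (ki xi5 yi0 zi21) (ki xi7 yi9 zi21) (ki xi5 yi0 zi24) (ki xi7 yi9 zi23) (ki xi5 yi0 zi25) (ki xi7 yi9 zi25) (ki xi7 yi9 zi26) (ki xi5 yi0 zi26) (ki xi5 yi0 zi29) (ki xi5 yi0 zi31) (ki xi5 yi9 zi3) (ki xi7 yi9 zi30) (ki xi5 yi1 zi2) (ki xi7 yi10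 zi1) (ki xi5 yi1 zi4) (ki xi6 yi3 zi23) (ki xi6 yi3 zi24) (ki xi7 yi10 zi3) (ki xi5 yi1 zi7) (ki xi6 yi3 zi27) (ki xi7 yi8 zi24) (ki xi5 yi10 zi8) (ki xi7 yi10 zi10) (ki xi7 yi7 zi26)) (@D3.rec (fun _ => Pt) (ki xi7 yi10 zi13) (ki xi7 yi10 zi16) (ki xi5 yi1 zi12) (ki xi7 yi10 zi19) (ki xi5 yi1 zi13) (ki xi7 yi10 zi21) (ki xi7 yi10 zi23) (ki xi5 yi1 zi14) (ki xi7 yi10 zi27) (ki xi5 yi1 zi16) (ki xi7 yi10 zi30) (ki xi5 yi1 zi17) (ki xi5 yi9 zi16) (ki xi5 yi10 zi15) (ki xi7 yi11 zi2) (ki xi7 yi11 zi5) (ki xi5 yi1 zi20) (ki xi7 yi11 zi7) (ki xi7 yi11 zi10) (ki xi5 yi1 zi22) (ki xi7 yi11 zi13) (ki xi7 yi11 zi15) (ki xi5 yi1 zi23) (ki xi7 yi11 zi18) (ki xi5 yi1 zi25) (ki xi7 yi11 zi20) (ki xi5 yi1 zi27) (ki xi5 yi9 zi24) (ki xi7 yi11 zi22) (ki xi5 yi1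 zi29) (ki xi5 yi9 zi27) (ki xi5 yi2 zi0)) (@D3.rec (fun _ => Pt) (ki xi7 yi11 zi26) (ki xi5 yi2 zi1) (ki xi7 yi11 zi29) (ki xi5 yi2 zi3) (ki xi6 yi5 zi4) (ki xi7 yi12 zi0) (ki xi7 yi12 zi2) (ki xi5 yi2 zi6) (ki xi7 yi12 zi5) (ki xi7 yi12 zi7) (ki xi5 yi2 zi7) (ki xi7 yi12 zi10) (ki xi5 yi2 zi9) (ki xi7 yi12 zi12) (ki xi7 yi12 zi14) (ki xi5 yi2 zi10) (ki xi7 yi12 zi18) (ki xi7 yi12 zi20) (ki xi5 yi2 zi12) (ki xi7 yi12 zi23) (ki xi5 yi2 zi13) (ki xi7 yi12 zi8) (ki xi7 yi12 zi26) (ki xi5 yi2 zi15) (ki xi7 yi12 zi27) (ki xi5 yi2 zi17) (ki xi5 yi10 zi1) (ki xi5 yi2 zi20) (ki xi5 yi10 zi3) (ki xi5 yi10 zi4) (ki xi5 yi2 zi24) (ki xi6 yi5 zi31)) (@D3.rec (fun _ => Pt) (ki xi7 yi13 zi2) (ki xi5 yi2 zi26) (ki xi6 yi6 zi2) (ki xi5 yi2 zi30) (ki xi6 yi6 zi4)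 (ki xi5 yi4 zi8) (ki xi5 yi4 zi9) (ki xi7 yi13 zi9) (ki xi7 yi13 zi11) (ki xi7 yi13 zi14) (ki xi5 yi3 zi3) (ki xi7 yi13 zi16) (ki xi5 yi3 zi4) (ki xi7 yi13 zi18) (ki xi7 yi13 zi20) (ki xi5 yi3 zi5) (ki xi7 yi13 zi24) (ki xi5 yi3 zi7) (ki xi7 yi13 zi27) (ki xi5 yi3 zi8) (ki xi5 yi10 zi13) (ki xi7 yi13 zi30) (ki xi5 yi3 zi11) (ki xi7 yi13 zi31) (ki xi5 yi3 zi12) (ki xi7 yi14 zi2) (ki xi7 yi14 zi4) (ki xi5 yi3 zi13) (ki xi5 yi3 zi15) (ki xi7 yi14 zi6) (ki xi5 yi3 zi17) (ki xi5 yi9 zi17)) (@D3.rec (fun _ => Pt) (ki xi7 yi14 zi7) (ki xi5 yi3 zi19) (ki xi5 yi10 zi18) (ki xi7 yi14 zi10) (ki xi5 yi3 zi23) (ki xi7 yi14 zi11) (ki xi5 yi3 zi25) (ki xi5 yi3 zi27) (ki xi7 yi14 zi15) (ki xi5 yi3 zi29) (ki xi7 yi14 zi17) (ki xi5 yi3 zi30) (ki xi7 yi14 zi12)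 (ki xi5 yi4 zi1) (ki xi5 yi4 zi4) (ki xi5 yi10 zi20) (ki xi5 yi10 zi21) (ki xi7 yi13 zi6) (ki xi7 yi14 zi25) (ki xi7 yi7 zi23) (ki xi7 yi14 zi29) (ki xi7 yi15 zi0) (ki xi5 yi4 zi10) (ki xi7 yi15 zi3) (ki xi5 yi4 zi12) (ki xi7 yi15 zi6) (ki xi7 yi15 zi8) (ki xi5 yi4 zi13) (ki xi7 yi15 zi11) (ki xi7 yi15 zi13) (ki xi5 yi4 zi15) (ki xi7 yi15 zi17)) (@D3.rec (fun _ => Pt) (ki xi5 yi4 zi17) (ki xi7 yi15 zi20) (ki xi5 yi4 zi18) (ki xi5 yi11 zi3) (ki xi7 yi15 zi24) (ki xi7 yi15 zi26) (ki xi5 yi4 zi20) (ki xi5 yi11 zi7) (ki xi7 yi15 zi29) (ki xi5 yi4 zi22) (ki xi5 yi11 zi10) (ki xi5 yi9 zi0) (ki xi7 yi16 zi1) (ki xi7 yi16 zi3) (ki xi5 yi4 zi26) (ki xi7 yi16 zi6) (ki xi7 yi16 zi8) (ki xi5 yi4 zi27) (ki xi7 yi16 zi11) (ki xi5 yi4 zi29) (ki xi7 yi16 zi15)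 (ki xi7 yi16 zi17) (ki xi5 yi4 zi31) (ki xi7 yi16 zi20) (ki xi5 yi5 zi0) (ki xi7 yi16 zi9) (ki xi7 yi16 zi23) (ki xi5 yi5 zi2) (ki xi5 yi9 zi18) (ki xi7 yi16 zi25) (ki xi5 yi5 zi4) (ki xi5 yi11 zi18)) (@D3.rec (fun _ => Pt) (ki xi5 yi5 zi7) (ki xi5 yi11 zi20) (ki xi5 yi11 zi21) (ki xi7 yi16 zi31) (ki xi5 yi5 zi10) (ki xi7 yi9 zi28) (ki xi5 yi5 zi13) (ki xi7 yi12 zi29) (ki xi5 yi5 zi14) (ki xi7 yi17 zi4) (ki xi7 yi17 zi6) (ki xi5 yi5 zi16) (ki xi7 yi17 zi9) (ki xi5 yi5 zi17) (ki xi5 yi5 zi26) (ki xi7 yi17 zi12) (ki xi5 yi5 zi19) (ki xi7 yi17 zi1) (ki xi7 yi17 zi15) (ki xi7 yi17 zi17) (ki xi5 yi5 zi21) (ki xi7 yi17 zi20) (ki xi5 yi5 zi22) (ki xi7 yi17 zi7) (ki xi7 yi17 zi22) (ki xi5 yi5 zi24) (ki xi7 yi17 zi10) (ki xi7 yi17 zi25) (ki xi5 yi5 zi27)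 (ki xi5 yi9 zi28) (ki xi5 yi5 zi30) (ki xi5 yi11 zi27)) (@D3.rec (fun _ => Pt) (ki xi5 yi11 zi28) (ki xi5 yi11 zi29) (ki xi5 yi11 zi30) (ki xi5 yi11 zi31) (ki xi5 yi6 zi4) (ki xi5 yi6 zi21) (ki xi7 yi18 zi0) (ki xi7 yi18 zi1) (ki xi7 yi18 zi4) (ki xi5 yi6 zi9) (ki xi7 yi7 zi7) (ki xi7 yi7 zi8) (ki xi7 yi7 zi11) (ki xi5 yi6 zi14) (ki xi7 yi18 zi6) (ki xi5 yi6 zi15) (ki xi5 yi6 zi19) (ki xi7 yi18 zi8) (ki xi7 yi18 zi11) (ki xi5 yi6 zi22) (ki xi5 yi6 zi23) (ki xi7 yi18 zi13) (ki xi5 yi6 zi24) (ki xi7 yi3 zi24) (ki xi7 yi18 zi16) (ki xi5 yi6 zi28) (ki xi7 yi1 zi6) (ki xi7 yi18 zi17) (ki xi5 yi7 zi0) (ki xi7 yi18 zi20) (ki xi7 yi18 zi23) (ki xi5 yi7 zi3)) (@D3.rec (fun _ => Pt) (ki xi7 yi18 zi26) (ki xi5 yi7 zi4) (ki xi6 yi11 zi2) (ki xi7 yi18 zi30)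 (ki xi5 yi7 zi6) (ki xi7 yi19 zi1) (ki xi5 yi7 zi7) (ki xi5 yi13 zi1) (ki xi7 yi19 zi5) (ki xi7 yi19 zi7) (ki xi5 yi7 zi9) (ki xi5 yi13 zi5) (ki xi7 yi19 zi10) (ki xi5 yi7 zi11) (ki xi5 yi13 zi8) (ki xi7 yi19 zi16) (ki xi7 yi19 zi17) (ki xi5 yi7 zi14) (ki xi7 yi19 zi19) (ki xi5 yi7 zi15) (ki xi5 yi13 zi14) (ki xi5 yi13 zi15) (ki xi5 yi7 zi18) (ki xi5 yi13 zi17) (ki xi5 yi13 zi18) (ki xi7 yi19 zi27) (ki xi7 yi19 zi29) (ki xi5 yi7 zi21) (ki xi7 yi20 zi0) (ki xi5 yi7 zi22) (ki xi6 yi11 zi30) (ki xi7 yi20 zi2)) (@D3.rec (fun _ => Pt) (ki xi5 yi7 zi24) (ki xi6 yi12 zi1) (ki xi7 yi20 zi5) (ki xi5 yi7 zi27) (ki xi5 yi13 zi21) (ki xi5 yi7 zi30) (ki xi5 yi13 zi23) (ki xi5 yi13 zi24) (ki xi5 yi13 zi25) (ki xi5 yi13 zi26) (ki xi5 yi13 zi27) (ki xi5 yi8 zi4)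 (ki xi7 yi20 zi13) (ki xi5 yi8 zi6) (ki xi7 yi20 zi16) (ki xi5 yi8 zi7) (ki xi6 yi12 zi16) (ki xi7 yi20 zi18) (ki xi5 yi8 zi9) (ki xi6 yi12 zi19) (ki xi5 yi8 zi12) (ki xi6 yi12 zi21) (ki xi6 yi12 zi22) (ki xi5 yi8 zi15) (ki xi5 yi13 zi29) (ki xi5 yi13 zi30) (ki xi5 yi13 zi31) (ki xi5 yi14 zi0) (ki xi5 yi14 zi1) (ki xi5 yi12 zi19) (ki xi5 yi12 zi23) (ki xi5 yi9 zi4)) (@D3.rec (fun _ => Pt) (ki xi5 yi10 zi22) (ki xi7 yi20 zi30) (ki xi5 yi8 zi29) (ki xi7 yi14 zi26) (ki xi5 yi8 zi30) (ki xi7 yi9 zi5) (ki xi7 yi9 zi15) (ki xi7 yi9 zi29) (ki xi5 yi10 zi7) (ki xi7 yi21 zi4) (ki xi7 yi13 zi21) (ki xi7 yi15 zi14) (ki xi5 yi9 zi6) (ki xi5 yi10 zi29) (ki xi5 yi10 zi30) (ki xi5 yi10 zi27) (ki xi5 yi10 zi28) (ki xi7 yi21 zi13) (ki xi5 yi9 zi9) (ki xi7 yi21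 zi16) (ki xi5 yi9 zi10) (ki xi7 yi10 zi24) (ki xi7 yi21 zi20) (ki xi7 yi21 zi22) (ki xi5 yi9 zi12) (ki xi7 yi10 zi28) (ki xi7 yi21 zi25) (ki xi5 yi9 zi14) (ki xi7 yi10 zi31) (ki xi7 yi16 zi24) (ki xi5 yi11 zi15) (ki xi5 yi11 zi14)) (@D3.rec (fun _ => Pt) (ki xi7 yi21 zi31) (ki xi5 yi9 zi22) (ki xi7 yi11 zi21) (ki xi5 yi9 zi25) (ki xi7 yi11 zi23) (ki xi7 yi11 zi24) (ki xi7 yi17 zi26) (ki xi5 yi11 zi25) (ki xi5 yi11 zi24) (ki xi5 yi9 zi31) (ki xi7 yi12 zi28) (ki xi7 yi12 zi30) (ki xi7 yi12 zi31) (ki xi7 yi13 zi0) (ki xi8 yi0 zi7) (ki xi5 yi10 zi6) (ki xi7 yi10 zi5) (ki xi7 yi10 zi7) (ki xi8 yi0 zi12) (ki xi8 yi0 zi14) (ki xi5 yi10 zi9) (ki xi7 yi13 zi25) (ki xi8 yi0 zi17) (ki xi5 yi10 zi11) (ki xi7 yi13 zi28) (ki xi5 yi10 zi16) (ki xi7 yi14 zi8)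 (ki xi7 yi14 zi9) (ki xi7 yi14 zi19) (ki xi7 yi14 zi20) (ki xi7 yi14 zi21) (ki xi8 yi0 zi24)) (@D3.rec (fun _ => Pt) (ki xi8 yi0 zi27) (ki xi5 yi10 zi23) (ki xi5 yi10 zi24) (ki xi8 yi0 zi29) (ki xi8 yi0 zi31) (ki xi5 yi10 zi25) (ki xi7 yi21 zi9) (ki xi7 yi21 zi10) (ki xi7 yi21 zi7) (ki xi7 yi21 zi8) (ki xi8 yi1 zi8) (ki xi8 yi1 zi10) (ki xi5 yi10 zi31) (ki xi7 yi15 zi18) (ki xi8 yi1 zi13) (ki xi5 yi11 zi1) (ki xi7 yi15 zi21) (ki xi8 yi1 zi19) (ki xi8 yi1 zi20) (ki xi5 yi11 zi4) (ki xi8 yi1 zi22) (ki xi5 yi11 zi5) (ki xi7 yi15 zi27) (ki xi7 yi15 zi28) (ki xi5 yi11 zi8) (ki xi7 yi15 zi30) (ki xi7 yi15 zi31) (ki xi8 yi1 zi30) (ki xi5 yi11 zi12) (ki xi7 yi21 zi30) (ki xi7 yi21 zi29) (ki xi5 yi11 zi16)) (@D3.rec (fun _ => Pt) (ki xi7 yi16 zi26) (ki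 xi7 yi16 zi27) (ki xi7 yi16 zi28) (ki xi7 yi16 zi29) (ki xi7 yi16 zi30) (ki xi8 yi2 zi3) (ki xi5 yi11 zi22) (ki xi7 yi17 zi27) (ki xi7 yi17 zi28) (ki xi7 yi17 zi29) (ki xi8 yi2 zi5) (ki xi8 yi2 zi8) (ki xi5 yi12 zi1) (ki xi5 yi12 zi2) (ki xi8 yi2 zi9) (ki xi8 yi2 zi10) (ki xi5 yi12 zi3) (ki xi6 yi16 zi17) (ki xi8 yi2 zi11) (ki xi5 yi12 zi14) (ki xi5 yi12 zi17) (ki xi7 yi20 zi27) (ki xi8 yi2 zi12) (ki xi8 yi2 zi14) (ki xi5 yi12 zi20) (ki xi8 yi2 zi16) (ki xi5 yi12 zi21) (ki xi8 yi2 zi18) (ki xi5 yi12 zi24) (ki xi5 yi12 zi26) (ki xi8 yi2 zi21) (ki xi8 yi2 zi23)) (@D3.rec (fun _ => Pt) (ki xi5 yi12 zi29) (ki xi7 yi18 zi31) (ki xi8 yi2 zi26) (ki xi5 yi12 zi31) (ki xi7 yi19 zi2) (ki xi8 yi3 zi0) (ki xi8 yi3 zi1) (ki xi5 yi13 zi2) (ki xi8 yi3 zi3) (ki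 xi5 yi13 zi3) (ki xi7 yi19 zi8) (ki xi7 yi19 zi9) (ki xi5 yi13 zi6) (ki xi7 yi19 zi11) (ki xi7 yi19 zi12) (ki xi8 yi3 zi10) (ki xi8 yi3 zi11) (ki xi8 yi3 zi12) (ki xi5 yi13 zi9) (ki xi5 yi13 zi10) (ki xi8 yi3 zi14) (ki xi5 yi13 zi12) (ki xi7 yi19 zi20) (ki xi7 yi19 zi21) (ki xi7 yi19 zi22) (ki xi7 yi19 zi23) (ki xi7 yi19 zi24) (ki xi7 yi19 zi25) (ki xi5 yi13 zi19) (ki xi7 yi20 zi6) (ki xi7 yi20 zi7) (ki xi7 yi20 zi8)) (@D3.rec (fun _ => Pt) (ki xi7 yi20 zi9) (ki xi7 yi20 zi10) (ki xi7 yi20 zi11) (ki xi7 yi20 zi24) (ki xi7 yi20 zi25) (ki xi7 yi20 zi26) (ki xi5 yi14 zi2) (ki xi5 yi14 zi3) (ki xi5 yi14 zi4) (ki xi8 yi3 zi22) (ki xi5 yi14 zi7) (ki xi6 yi18 zi11) (ki xi5 yi14 zi18) (ki xi7 yi1 zi5) (ki xi8 yi3 zi25) (ki xi8 yi3 zi28) (ki xi5 yi14 zi20)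 (ki xi8 yi3 zi30) (ki xi8 yi4 zi0) (ki xi5 yi14 zi21) (ki xi8 yi4 zi4) (ki xi5 yi14 zi23) (ki xi8 yi4 zi7) (ki xi5 yi14 zi24) (ki xi6 yi18 zi24) (ki xi8 yi4 zi11) (ki xi5 yi14 zi26) (ki xi8 yi4 zi14) (ki xi8 yi4 zi16) (ki xi5 yi14 zi27) (ki xi8 yi4 zi19) (ki xi5 yi14 zi29)) (@D3.rec (fun _ => Pt) (ki xi6 yi19 zi0) (ki xi8 yi4 zi21) (ki xi5 yi14 zi31) (ki xi6 yi19 zi3) (ki xi8 yi4 zi24) (ki xi5 yi15 zi2) (ki xi6 yi19 zi6) (ki xi8 yi4 zi26) (ki xi8 yi4 zi27) (ki xi5 yi15 zi4) (ki xi8 yi4 zi29) (ki xi5 yi15 zi6) (ki xi8 yi4 zi31) (ki xi5 yi15 zi7) (ki xi8 yi4 zi28) (ki xi8 yi5 zi1) (ki xi5 yi15 zi9) (ki xi6 yi19 zi17) (ki xi5 yi15 zi12) (ki xi6 yi19 zi19) (ki xi6 yi19 zi20) (ki xi6 yi19 zi21) (ki xi8 yi5 zi9) (ki xi8 yi5 zi12) (ki xi5 yi15 zi18)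 (ki xi8 yi5 zi14) (ki xi8 yi5 zi16) (ki xi5 yi15 zi19) (ki xi8 yi5 zi20) (ki xi5 yi15 zi21) (ki xi8 yi5 zi23) (ki xi5 yi15 zi22)) (@D3.rec (fun _ => Pt) (ki xi6 yi20 zi0) (ki xi8 yi5 zi27) (ki xi8 yi5 zi29) (ki xi5 yi15 zi24) (ki xi6 yi20 zi4) (ki xi8 yi6 zi0) (ki xi5 yi15 zi26) (ki xi6 yi20 zi7) (ki xi8 yi6 zi4) (ki xi5 yi15 zi29) (ki xi8 yi6 zi7) (ki xi5 yi15 zi31) (ki xi8 yi6 zi5) (ki xi8 yi6 zi9) (ki xi5 yi16 zi1) (ki xi6 yi20 zi15) (ki xi5 yi16 zi4) (ki xi6 yi20 zi17) (ki xi6 yi20 zi18) (ki xi8 yi6 zi15) (ki xi5 yi16 zi7) (ki xi5 yi16 zi11) (ki xi8 yi6 zi17) (ki xi5 yi16 zi9) (ki xi8 yi6 zi16) (ki xi5 yi16 zi12) (ki xi6 yi20 zi26) (ki xi6 yi20 zi27) (ki xi6 yi20 zi28) (ki xi6 yi20 zi29) (ki xi6 yi20 zi30) (ki xi8 yi6 zi28)) (@D3.rec (fun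 _ => Pt) (ki xi5 yi16 zi18) (ki xi8 yi6 zi31) (ki xi8 yi7 zi1) (ki xi5 yi16 zi20) (ki xi6 yi21 zi4) (ki xi8 yi7 zi4) (ki xi5 yi16 zi22) (ki xi6 yi21 zi7) (ki xi8 yi7 zi10) (ki xi8 yi7 zi11) (ki xi5 yi16 zi25) (ki xi8 yi7 zi13) (ki xi5 yi16 zi26) (ki xi6 yi21 zi13) (ki xi6 yi21 zi14) (ki xi5 yi16 zi29) (ki xi6 yi21 zi16) (ki xi6 yi21 zi17) (ki xi5 yi17 zi0) (ki xi6 yi21 zi19) (ki xi6 yi21 zi20) (ki xi6 yi21 zi21) (ki xi6 yi21 zi22) (ki xi6 yi21 zi23) (ki xi6 yi21 zi24) (ki xi6 yi21 zi25) (ki xi6 yi21 zi26) (ki xi6 yi21 zi27) (ki xi6 yi21 zi28) (ki xi6 yi21 zi29) (ki xi6 yi21 zi30) (ki xi8 yi8 zi4))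
def f_i_7 : D2 → D3 → Pt := @D2.rec (fun _ => D3 → Pt) (@D3.rec (fun _ => Pt) (ki xi8 yi8 zi6) (ki xi5 yi17 zi13) (ki xi8 yi8 zi8) (ki xi8 yi8 zi10) (ki xi5 yi17 zi14) (ki xi5 yi17 zi16) (ki xi8 yi8 zi12) (ki xi5 yi17 zi17) (ki xi8 yi8 zi14) (ki xi5 yi17 zi18) (ki xi8 yi8 zi17) (ki xi5 yi17 zi20) (ki xi7 yi0 zi12) (ki xi8 yi8 zi19) (ki xi5 yi17 zi22) (ki xi8 yi8 zi21) (ki xi5 yi17 zi23) (ki xi5 yi17 zi27) (ki xi8 yi8 zi24) (ki xi5 yi17 zi29) (ki xi7 yi0 zi20) (ki xi8 yi8 zi26) (ki xi5 yi17 zi31) (ki xi7 yi0 zi23) (ki xi5 yi18 zi2) (ki xi8 yi8 zi31) (ki xi5 yi18 zi4) (ki xi7 yi0 zi27) (ki xi8 yi9 zi1) (ki xi8 yi9 zi2) (ki xi5 yi18 zi6) (ki xi8 yi9 zi5)) (@D3.rec (fun _ => Pt) (ki xi5 yi18 zi8) (ki xi7 yi1 zi1) (ki xi8 yi9 zi7) (ki xi5 yi18 zi10)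 (ki xi7 yi1 zi4) (ki xi6 yi18 zi13) (ki xi6 yi10 zi26) (ki xi8 yi9 zi14) (ki xi6 yi1 zi13) (ki xi8 yi9 zi17) (ki xi8 yi9 zi20) (ki xi5 yi18 zi15) (ki xi8 yi9 zi22) (ki xi5 yi18 zi16) (ki xi8 yi9 zi24) (ki xi8 yi9 zi26) (ki xi5 yi18 zi17) (ki xi8 yi9 zi30) (ki xi5 yi18 zi19) (ki xi8 yi10 zi1) (ki xi5 yi18 zi20) (ki xi7 yi1 zi21) (ki xi6 yi1 zi23) (ki xi8 yi10 zi5) (ki xi8 yi10 zi8) (ki xi5 yi18 zi23) (ki xi8 yi10 zi10) (ki xi8 yi10 zi13) (ki xi5 yi18 zi25) (ki xi8 yi10 zi16) (ki xi8 yi10 zi18) (ki xi5 yi18 zi26)) (@D3.rec (fun _ => Pt) (ki xi8 yi10 zi20) (ki xi5 yi18 zi28) (ki xi8 yi10 zi23) (ki xi5 yi18 zi30) (ki xi7 yi2 zi4) (ki xi8 yi10 zi25) (ki xi5 yi19 zi0) (ki xi7 yi2 zi7) (ki xi8 yi10 zi30) (ki xi5 yi19 zi3) (ki xi8 yi11 zi0) (ki xi5 yi19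 zi4) (ki xi8 yi11 zi3) (ki xi5 yi19 zi6) (ki xi7 yi2 zi14) (ki xi8 yi11 zi6) (ki xi8 yi11 zi9) (ki xi5 yi19 zi9) (ki xi8 yi11 zi12) (ki xi8 yi11 zi14) (ki xi5 yi19 zi10) (ki xi8 yi11 zi18) (ki xi5 yi19 zi12) (ki xi8 yi11 zi20) (ki xi8 yi11 zi21) (ki xi5 yi19 zi13) (ki xi8 yi11 zi25) (ki xi8 yi11 zi27) (ki xi5 yi19 zi15) (ki xi8 yi11 zi30) (ki xi5 yi19 zi16) (ki xi8 yi11 zi15)) (@D3.rec (fun _ => Pt) (ki xi5 yi19 zi18) (ki xi7 yi3 zi1) (ki xi8 yi12 zi1) (ki xi5 yi19 zi20) (ki xi7 yi3 zi4) (ki xi5 yi19 zi23) (ki xi7 yi3 zi6) (ki xi7 yi3 zi7) (ki xi8 yi12 zi7) (ki xi8 yi12 zi8) (ki xi5 yi19 zi26) (ki xi8 yi12 zi11) (ki xi5 yi19 zi28) (ki xi7 yi3 zi13) (ki xi8 yi12 zi13) (ki xi5 yi19 zi30) (ki xi7 yi3 zi16) (ki xi5 yi20 zi1) (ki xi7 yi3 zi18) (ki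 xi8 yi12 zi17) (ki xi5 yi20 zi3) (ki xi7 yi3 zi21) (ki xi5 yi20 zi6) (ki xi7 yi3 zi23) (ki xi6 yi10 zi23) (ki xi8 yi12 zi23) (ki xi6 yi1 zi10) (ki xi8 yi12 zi27) (ki xi8 yi12 zi30) (ki xi5 yi20 zi11) (ki xi8 yi13 zi0) (ki xi8 yi13 zi3)) (@D3.rec (fun _ => Pt) (ki xi5 yi20 zi13) (ki xi8 yi13 zi6) (ki xi8 yi13 zi8) (ki xi5 yi20 zi14) (ki xi8 yi13 zi11) (ki xi8 yi13 zi13) (ki xi5 yi20 zi16) (ki xi8 yi13 zi17) (ki xi5 yi20 zi18) (ki xi8 yi13 zi20) (ki xi5 yi20 zi19) (ki xi7 yi4 zi11) (ki xi8 yi13 zi24) (ki xi8 yi13 zi26) (ki xi5 yi20 zi21) (ki xi7 yi4 zi15) (ki xi8 yi13 zi29) (ki xi5 yi20 zi23) (ki xi7 yi4 zi18) (ki xi6 yi1 zi11) (ki xi8 yi14 zi2) (ki xi8 yi14 zi5) (ki xi5 yi20 zi27) (ki xi8 yi14 zi8) (ki xi8 yi14 zi10) (ki xi5 yi20 zi28) (ki xi8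 yi14 zi13) (ki xi5 yi20 zi30) (ki xi8 yi14 zi16) (ki xi8 yi14 zi18) (ki xi5 yi20 zi31) (ki xi8 yi14 zi22)) (@D3.rec (fun _ => Pt) (ki xi8 yi14 zi24) (ki xi5 yi21 zi1) (ki xi8 yi14 zi27) (ki xi5 yi21 zi2) (ki xi8 yi14 zi11) (ki xi8 yi14 zi30) (ki xi5 yi21 zi4) (ki xi7 yi5 zi7) (ki xi8 yi15 zi0) (ki xi5 yi21 zi6) (ki xi7 yi5 zi10) (ki xi5 yi21 zi9) (ki xi7 yi5 zi12) (ki xi7 yi5 zi13) (ki xi8 yi15 zi7) (ki xi5 yi21 zi13) (ki xi8 yi15 zi8) (ki xi5 yi21 zi15) (ki xi8 yi15 zi9) (ki xi8 yi15 zi10) (ki xi5 yi21 zi18) (ki xi8 yi15 zi11) (ki xi8 yi15 zi12) (ki xi5 yi21 zi19) (ki xi8 yi15 zi15) (ki xi8 yi15 zi17) (ki xi5 yi21 zi21) (ki xi8 yi15 zi20) (ki xi5 yi21 zi22) (ki xi6 yi0 zi2) (ki xi8 yi15 zi22) (ki xi5 yi21 zi24)) (@D3.rec (fun _ => Pt) (ki xi8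 yi15 zi25) (ki xi8 yi15 zi26) (ki xi5 yi21 zi26) (ki xi8 yi15 zi29) (ki xi5 yi21 zi27) (ki xi8 yi15 zi13) (ki xi8 yi16 zi0) (ki xi8 yi16 zi2) (ki xi5 yi21 zi29) (ki xi8 yi16 zi5) (ki xi5 yi21 zi30) (ki xi8 yi15 zi18) (ki xi8 yi16 zi7) (ki xi6 yi0 zi0) (ki xi8 yi15 zi21) (ki xi8 yi16 zi10) (ki xi6 yi0 zi3) (ki xi7 yi6 zi17) (ki xi6 yi0 zi6) (ki xi7 yi6 zi19) (ki xi7 yi6 zi20) (ki xi7 yi6 zi21) (ki xi7 yi6 zi22) (ki xi7 yi6 zi23) (ki xi8 yi16 zi16) (ki xi6 yi0 zi12) (ki xi6 yi0 zi14) (ki xi6 yi0 zi16) (ki xi6 yi0 zi26) (ki xi8 yi16 zi20) (ki xi8 yi16 zi23) (ki xi6 yi0 zi20)) (@D3.rec (fun _ => Pt) (ki xi6 yi0 zi27) (ki xi8 yi16 zi25) (ki xi8 yi16 zi28) (ki xi6 yi0 zi22) (ki xi8 yi16 zi31) (ki xi8 yi17 zi0) (ki xi6 yi0 zi23) (ki xi6 yi10 zi10) (ki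 xi6 yi10 zi11) (ki xi8 yi12 zi20) (ki xi8 yi16 zi17) (ki xi6 yi10 zi12) (ki xi8 yi3 zi21) (ki xi6 yi0 zi30) (ki xi8 yi17 zi6) (ki xi6 yi1 zi2) (ki xi8 yi17 zi8) (ki xi8 yi17 zi9) (ki xi6 yi1 zi3) (ki xi8 yi17 zi12) (ki xi8 yi17 zi13) (ki xi6 yi1 zi5) (ki xi6 yi1 zi6) (ki xi6 yi7 zi19) (ki xi8 yi9 zi11) (ki xi8 yi12 zi24) (ki xi6 yi3 zi31) (ki xi6 yi1 zi14) (ki xi6 yi1 zi16) (ki xi6 yi1 zi17) (ki xi8 yi17 zi14) (ki xi6 yi1 zi19)) (@D3.rec (fun _ => Pt) (ki xi6 yi1 zi20) (ki xi8 yi17 zi15) (ki xi6 yi1 zi26) (ki xi8 yi17 zi17) (ki xi8 yi17 zi18) (ki xi6 yi1 zi27) (ki xi6 yi1 zi29) (ki xi6 yi1 zi31) (ki xi8 yi17 zi20) (ki xi6 yi2 zi1) (ki xi8 yi17 zi22) (ki xi6 yi2 zi2) (ki xi8 yi17 zi24) (ki xi6 yi2 zi7) (ki xi8 yi17 zi25) (ki xi6 yi2 zi8) (ki xi8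 yi17 zi28) (ki xi6 yi2 zi10) (ki xi7 yi8 zi18) (ki xi6 yi2 zi12) (ki xi7 yi8 zi20) (ki xi8 yi17 zi31) (ki xi6 yi2 zi15) (ki xi7 yi8 zi23) (ki xi6 yi3 zi28) (ki xi8 yi18 zi4) (ki xi8 yi18 zi6) (ki xi8 yi18 zi9) (ki xi6 yi2 zi20) (ki xi6 yi2 zi21) (ki xi8 yi18 zi11) (ki xi8 yi18 zi12)) (@D3.rec (fun _ => Pt) (ki xi6 yi2 zi22) (ki xi8 yi18 zi15) (ki xi6 yi2 zi24) (ki xi8 yi18 zi17) (ki xi6 yi2 zi25) (ki xi6 yi13 zi5) (ki xi8 yi18 zi19) (ki xi6 yi2 zi27) (ki xi8 yi18 zi21) (ki xi6 yi2 zi28) (ki xi8 yi18 zi23) (ki xi8 yi18 zi24) (ki xi6 yi2 zi29) (ki xi6 yi3 zi0) (ki xi6 yi3 zi2) (ki xi6 yi13 zi6) (ki xi8 yi18 zi29) (ki xi6 yi3 zi5) (ki xi8 yi19 zi0) (ki xi6 yi3 zi7) (ki xi7 yi9 zi20) (ki xi6 yi3 zi9) (ki xi8 yi19 zi3) (ki xi6 yi3 zi11) (ki xi8 yi19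 zi6) (ki xi6 yi3 zi13) (ki xi6 yi3 zi14) (ki xi8 yi19 zi2) (ki xi6 yi9 zi5) (ki xi6 yi13 zi7) (ki xi6 yi3 zi19) (ki xi7 yi9 zi31)) (@D3.rec (fun _ => Pt) (ki xi8 yi19 zi10) (ki xi6 yi3 zi21) (ki xi7 yi10 zi2) (ki xi6 yi3 zi25) (ki xi7 yi10 zi4) (ki xi6 yi14 zi16) (ki xi8 yi19 zi17) (ki xi6 yi14 zi17) (ki xi8 yi19 zi20) (ki xi8 yi19 zi23) (ki xi6 yi3 zi30) (ki xi8 yi19 zi25) (ki xi8 yi19 zi28) (ki xi6 yi4 zi0) (ki xi8 yi19 zi31) (ki xi8 yi20 zi1) (ki xi6 yi4 zi1) (ki xi8 yi20 zi4) (ki xi8 yi20 zi6) (ki xi6 yi4 zi3) (ki xi8 yi20 zi9) (ki xi6 yi4 zi5) (ki xi8 yi20 zi12) (ki xi6 yi4 zi6) (ki xi6 yi13 zi21) (ki xi8 yi20 zi16) (ki xi8 yi20 zi18) (ki xi6 yi4 zi8) (ki xi6 yi13 zi25) (ki xi8 yi20 zi21) (ki xi6 yi4 zi10) (ki xi6 yi13 zi28)) (@D3.rec (fun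 _ => Pt) (ki xi8 yi20 zi25) (ki xi8 yi20 zi27) (ki xi6 yi4 zi14) (ki xi8 yi20 zi30) (ki xi8 yi21 zi0) (ki xi6 yi4 zi15) (ki xi8 yi21 zi3) (ki xi6 yi4 zi17) (ki xi8 yi21 zi6) (ki xi8 yi21 zi8) (ki xi6 yi4 zi18) (ki xi8 yi21 zi12) (ki xi8 yi21 zi14) (ki xi6 yi4 zi20) (ki xi8 yi21 zi17) (ki xi6 yi4 zi21) (ki xi8 yi21 zi1) (ki xi8 yi21 zi20) (ki xi6 yi4 zi23) (ki xi8 yi21 zi21) (ki xi6 yi4 zi25) (ki xi6 yi14 zi2) (ki xi6 yi4 zi28) (ki xi6 yi14 zi4) (ki xi6 yi14 zi5) (ki xi8 yi21 zi27) (ki xi6 yi5 zi0) (ki xi7 yi11 zi27) (ki xi8 yi21 zi29) (ki xi6 yi5 zi2) (ki xi7 yi11 zi30) (ki xi9 yi0 zi0)) (@D3.rec (fun _ => Pt) (ki xi6 yi5 zi5) (ki xi9 yi0 zi1) (ki xi6 yi5 zi6) (ki xi9 yi0 zi4) (ki xi9 yi0 zi5) (ki xi6 yi5 zi8) (ki xi9 yi0 zi7) (ki xi6 yi5 zi9)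 (ki xi6 yi5 zi21) (ki xi9 yi0 zi9) (ki xi6 yi5 zi11) (ki xi9 yi0 zi11) (ki xi6 yi5 zi13) (ki xi9 yi0 zi13) (ki xi6 yi5 zi14) (ki xi9 yi0 zi2) (ki xi9 yi0 zi16) (ki xi9 yi0 zi17) (ki xi6 yi5 zi16) (ki xi9 yi0 zi19) (ki xi6 yi5 zi17) (ki xi9 yi0 zi6) (ki xi9 yi0 zi22) (ki xi6 yi5 zi19) (ki xi9 yi0 zi8) (ki xi9 yi0 zi25) (ki xi6 yi5 zi22) (ki xi6 yi5 zi24) (ki xi6 yi14 zi10) (ki xi6 yi9 zi7) (ki xi6 yi14 zi11) (ki xi6 yi14 zi12)) (@D3.rec (fun _ => Pt) (ki xi6 yi14 zi13) (ki xi7 yi13 zi1) (ki xi6 yi6 zi0) (ki xi7 yi13 zi3) (ki xi7 yi13 zi4) (ki xi7 yi13 zi5) (ki xi6 yi7 zi17) (ki xi9 yi1 zi1) (ki xi9 yi1 zi3) (ki xi6 yi6 zi7) (ki xi9 yi1 zi5) (ki xi6 yi6 zi8) (ki xi9 yi1 zi8) (ki xi9 yi1 zi10) (ki xi6 yi6 zi9) (ki xi9 yi1 zi12) (ki xi6 yi6 zi11)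 (ki xi9 yi1 zi15) (ki xi6 yi6 zi13) (ki xi9 yi1 zi17) (ki xi6 yi6 zi14) (ki xi6 yi13 zi10) (ki xi9 yi1 zi20) (ki xi9 yi1 zi22) (ki xi6 yi6 zi16) (ki xi6 yi14 zi21) (ki xi9 yi1 zi25) (ki xi6 yi6 zi18) (ki xi6 yi14 zi24) (ki xi9 yi1 zi29) (ki xi6 yi6 zi21) (ki xi6 yi6 zi23)) (@D3.rec (fun _ => Pt) (ki xi9 yi2 zi1) (ki xi9 yi2 zi3) (ki xi6 yi6 zi25) (ki xi9 yi2 zi5) (ki xi6 yi6 zi26) (ki xi9 yi1 zi30) (ki xi6 yi6 zi29) (ki xi6 yi7 zi0) (ki xi6 yi14 zi26) (ki xi6 yi14 zi27) (ki xi6 yi7 zi3) (ki xi6 yi7 zi5) (ki xi6 yi7 zi12) (ki xi8 yi19 zi8) (ki xi9 yi2 zi11) (ki xi6 yi7 zi8) (ki xi9 yi2 zi10) (ki xi6 yi7 zi10) (ki xi8 yi19 zi4) (ki xi6 yi14 zi28) (ki xi6 yi14 zi29) (ki xi6 yi14 zi30) (ki xi8 yi17 zi1) (ki xi9 yi2 zi17) (ki xi9 yi2 zi20) (ki xi6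 yi7 zi18) (ki xi6 yi13 zi3) (ki xi9 yi2 zi22) (ki xi9 yi2 zi25) (ki xi6 yi7 zi20) (ki xi9 yi2 zi28) (ki xi9 yi2 zi30)) (@D3.rec (fun _ => Pt) (ki xi6 yi7 zi21) (ki xi9 yi3 zi1) (ki xi9 yi3 zi3) (ki xi6 yi7 zi23) (ki xi9 yi3 zi7) (ki xi9 yi3 zi10) (ki xi6 yi7 zi25) (ki xi9 yi3 zi13) (ki xi6 yi7 zi26) (ki xi9 yi2 zi31) (ki xi9 yi3 zi17) (ki xi6 yi7 zi28) (ki xi9 yi3 zi20) (ki xi6 yi7 zi29) (ki xi6 yi13 zi11) (ki xi9 yi3 zi24) (ki xi9 yi3 zi26) (ki xi6 yi7 zi31) (ki xi6 yi15 zi13) (ki xi9 yi3 zi29) (ki xi6 yi8 zi1) (ki xi6 yi15 zi16) (ki xi9 yi4 zi3) (ki xi9 yi4 zi4) (ki xi6 yi8 zi4) (ki xi9 yi4 zi6) (ki xi6 yi8 zi5) (ki xi6 yi15 zi22) (ki xi6 yi15 zi23) (ki xi6 yi8 zi8) (ki xi6 yi15 zi25) (ki xi6 yi15 zi26)) (@D3.rec (fun _ => Pt) (ki xi8 yi18 zi26)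 (ki xi6 yi8 zi12) (ki xi8 yi21 zi23) (ki xi6 yi8 zi13) (ki xi9 yi4 zi17) (ki xi9 yi4 zi19) (ki xi6 yi8 zi15) (ki xi9 yi4 zi22) (ki xi6 yi8 zi16) (ki xi6 yi8 zi25) (ki xi9 yi4 zi25) (ki xi6 yi8 zi18) (ki xi9 yi4 zi14) (ki xi9 yi4 zi28) (ki xi9 yi4 zi30) (ki xi6 yi8 zi20) (ki xi9 yi5 zi1) (ki xi6 yi8 zi21) (ki xi9 yi4 zi20) (ki xi9 yi5 zi3) (ki xi6 yi8 zi23) (ki xi9 yi4 zi23) (ki xi9 yi5 zi6) (ki xi6 yi8 zi26) (ki xi6 yi13 zi29) (ki xi6 yi8 zi29) (ki xi6 yi16 zi0) (ki xi6 yi16 zi1) (ki xi6 yi16 zi2) (ki xi6 yi16 zi3) (ki xi6 yi16 zi4) (ki xi6 yi9 zi3)) (@D3.rec (fun _ => Pt) (ki xi9 yi0 zi27) (ki xi6 yi9 zi17) (ki xi9 yi5 zi13) (ki xi9 yi5 zi14) (ki xi6 yi9 zi9) (ki xi9 yi5 zi16) (ki xi6 yi9 zi10) (ki xi6 yi9 zi23) (ki xi9 yi5 zi18) (ki xi6 yi9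 zi12) (ki xi6 yi9 zi26) (ki xi9 yi5 zi20) (ki xi6 yi9 zi15) (ki xi9 yi0 zi24) (ki xi9 yi5 zi23) (ki xi6 yi9 zi18) (ki xi9 yi5 zi25) (ki xi6 yi9 zi19) (ki xi9 yi5 zi15) (ki xi9 yi5 zi27) (ki xi6 yi9 zi21) (ki xi9 yi5 zi17) (ki xi6 yi9 zi24) (ki xi9 yi5 zi19) (ki xi9 yi0 zi14) (ki xi6 yi9 zi27) (ki xi6 yi14 zi6) (ki xi6 yi16 zi7) (ki xi6 yi16 zi8) (ki xi6 yi16 zi9) (ki xi9 yi6 zi3) (ki xi9 yi6 zi6)) (@D3.rec (fun _ => Pt) (ki xi6 yi10 zi6) (ki xi6 yi10 zi7) (ki xi9 yi6 zi7) (ki xi9 yi6 zi8) (ki xi6 yi10 zi8) (ki xi8 yi17 zi2) (ki xi6 yi10 zi14) (ki xi9 yi6 zi10) (ki xi6 yi10 zi17) (ki xi9 yi6 zi13) (ki xi9 yi6 zi15) (ki xi6 yi10 zi18) (ki xi9 yi6 zi18) (ki xi6 yi10 zi21) (ki xi8 yi0 zi8) (ki xi9 yi6 zi19) (ki xi6 yi10 zi24) (ki xi6 yi10 zi27) (ki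 xi9 yi6 zi21) (ki xi9 yi6 zi24) (ki xi6 yi10 zi29) (ki xi9 yi6 zi28) (ki xi9 yi6 zi30) (ki xi6 yi10 zi30) (ki xi7 yi18 zi24) (ki xi9 yi7 zi1) (ki xi6 yi11 zi0) (ki xi7 yi18 zi27) (ki xi9 yi7 zi6) (ki xi9 yi7 zi8) (ki xi6 yi11 zi3) (ki xi6 yi17 zi1)) (@D3.rec (fun _ => Pt) (ki xi9 yi7 zi11) (ki xi6 yi11 zi5) (ki xi6 yi17 zi4) (ki xi9 yi7 zi17) (ki xi9 yi7 zi18) (ki xi6 yi11 zi8) (ki xi9 yi7 zi20) (ki xi6 yi11 zi9) (ki xi6 yi17 zi10) (ki xi6 yi17 zi11) (ki xi6 yi11 zi12) (ki xi6 yi17 zi13) (ki xi6 yi17 zi14) (ki xi9 yi7 zi27) (ki xi9 yi7 zi28) (ki xi9 yi7 zi29) (ki xi6 yi11 zi15) (ki xi6 yi11 zi16) (ki xi9 yi7 zi31) (ki xi6 yi11 zi18) (ki xi6 yi17 zi22) (ki xi6 yi17 zi23) (ki xi6 yi17 zi24) (ki xi6 yi17 zi25) (ki xi6 yi17 zi26) (ki xi6 yi17 zi27)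 (ki xi9 yi8 zi4) (ki xi6 yi11 zi25) (ki xi9 yi8 zi7) (ki xi6 yi11 zi26) (ki xi7 yi19 zi30) (ki xi9 yi8 zi9)) (@D3.rec (fun _ => Pt) (ki xi6 yi11 zi28) (ki xi7 yi20 zi1) (ki xi6 yi11 zi31) (ki xi7 yi20 zi3) (ki xi7 yi20 zi4) (ki xi6 yi12 zi2) (ki xi6 yi17 zi29) (ki xi6 yi17 zi30) (ki xi6 yi17 zi31) (ki xi6 yi18 zi0) (ki xi6 yi18 zi1) (ki xi6 yi18 zi2) (ki xi9 yi8 zi20) (ki xi6 yi12 zi12) (ki xi7 yi20 zi14) (ki xi9 yi8 zi22) (ki xi6 yi12 zi14) (ki xi7 yi20 zi17) (ki xi6 yi12 zi17) (ki xi7 yi20 zi19) (ki xi7 yi20 zi20) (ki xi7 yi20 zi21) (ki xi7 yi20 zi22) (ki xi7 yi20 zi23) (ki xi6 yi18 zi3) (ki xi6 yi18 zi4) (ki xi6 yi18 zi5) (ki xi6 yi16 zi21) (ki xi8 yi1 zi21) (ki xi9 yi2 zi14) (ki xi6 yi13 zi1) (ki xi8 yi18 zi16)) (@D3.rec (fun _ => Pt) (ki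 xi8 yi18 zi18) (ki xi8 yi18 zi27) (ki xi9 yi1 zi16) (ki xi9 yi9 zi0) (ki xi6 yi13 zi9) (ki xi9 yi3 zi18) (ki xi9 yi3 zi21) (ki xi6 yi15 zi8) (ki xi6 yi15 zi9) (ki xi6 yi15 zi6) (ki xi6 yi15 zi7) (ki xi9 yi9 zi11) (ki xi9 yi9 zi13) (ki xi6 yi13 zi17) (ki xi8 yi20 zi10) (ki xi9 yi9 zi16) (ki xi6 yi13 zi19) (ki xi8 yi20 zi13) (ki xi9 yi9 zi21) (ki xi8 yi0 zi11) (ki xi6 yi13 zi22) (ki xi9 yi9 zi22) (ki xi6 yi13 zi23) (ki xi8 yi20 zi19) (ki xi8 yi20 zi20) (ki xi6 yi13 zi26) (ki xi8 yi20 zi22) (ki xi8 yi20 zi23) (ki xi9 yi5 zi7) (ki xi6 yi15 zi30) (ki xi6 yi15 zi29) (ki xi6 yi14 zi0))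
def f_i_8 : D2 → D3 → Pt := @D2.rec (fun _ => D3 → Pt) (@D3.rec (fun _ => Pt) (ki xi8 yi21 zi22) (ki xi8 yi21 zi24) (ki xi8 yi21 zi25) (ki xi8 yi21 zi26) (ki xi9 yi6 zi1) (ki xi9 yi0 zi26) (ki xi9 yi9 zi29) (ki xi6 yi14 zi14) (ki xi7 yi18 zi14) (ki xi8 yi19 zi14) (ki xi9 yi10 zi3) (ki xi7 yi21 zi19) (ki xi6 yi14 zi18) (ki xi9 yi10 zi4) (ki xi6 yi14 zi19) (ki xi9 yi1 zi23) (ki xi9 yi1 zi24) (ki xi6 yi14 zi22) (ki xi9 yi1 zi26) (ki xi9 yi1 zi27) (ki xi9 yi2 zi7) (ki xi9 yi2 zi8) (ki xi9 yi2 zi9) (ki xi9 yi10 zi9) (ki xi6 yi14 zi31) (ki xi9 yi10 zi11) (ki xi9 yi10 zi13) (ki xi6 yi15 zi0) (ki xi9 yi10 zi17) (ki xi6 yi15 zi3) (ki xi9 yi10 zi19) (ki xi6 yi15 zi4)) (@D3.rec (fun _ => Pt) (ki xi9 yi9 zi6) (ki xi9 yi9 zi7) (ki xi9 yi9 zi8) (ki xi9 yi9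 zi3) (ki xi9 yi9 zi4) (ki xi9 yi9 zi5) (ki xi9 yi10 zi29) (ki xi9 yi10 zi30) (ki xi6 yi15 zi10) (ki xi9 yi11 zi0) (ki xi6 yi15 zi11) (ki xi9 yi3 zi27) (ki xi9 yi3 zi28) (ki xi6 yi15 zi14) (ki xi9 yi3 zi30) (ki xi9 yi3 zi31) (ki xi9 yi11 zi7) (ki xi9 yi11 zi8) (ki xi9 yi11 zi9) (ki xi6 yi15 zi17) (ki xi6 yi15 zi18) (ki xi7 yi20 zi28) (ki xi6 yi15 zi20) (ki xi9 yi4 zi7) (ki xi9 yi4 zi8) (ki xi9 yi4 zi9) (ki xi9 yi4 zi10) (ki xi9 yi4 zi11) (ki xi9 yi4 zi12) (ki xi9 yi11 zi14) (ki xi6 yi15 zi27) (ki xi9 yi5 zi8)) (@D3.rec (fun _ => Pt) (ki xi9 yi5 zi9) (ki xi9 yi5 zi10) (ki xi9 yi5 zi11) (ki xi6 yi16 zi5) (ki xi9 yi11 zi17) (ki xi6 yi16 zi10) (ki xi9 yi11 zi18) (ki xi9 yi11 zi19) (ki xi6 yi16 zi11) (ki xi6 yi16 zi14) (ki xi6 yi16 zi15) (ki xi6 yi16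 zi18) (ki xi6 yi16 zi22) (ki xi9 yi11 zi21) (ki xi6 yi16 zi23) (ki xi9 yi11 zi24) (ki xi6 yi16 zi25) (ki xi8 yi2 zi17) (ki xi6 yi16 zi27) (ki xi9 yi11 zi29) (ki xi9 yi11 zi30) (ki xi6 yi16 zi30) (ki xi9 yi12 zi0) (ki xi6 yi16 zi31) (ki xi9 yi7 zi9) (ki xi9 yi7 zi10) (ki xi6 yi17 zi2) (ki xi9 yi7 zi12) (ki xi9 yi7 zi13) (ki xi9 yi12 zi7) (ki xi9 yi12 zi8) (ki xi9 yi12 zi9)) (@D3.rec (fun _ => Pt) (ki xi6 yi17 zi5) (ki xi6 yi17 zi6) (ki xi9 yi12 zi11) (ki xi6 yi17 zi8) (ki xi9 yi7 zi21) (ki xi9 yi7 zi22) (ki xi9 yi7 zi23) (ki xi9 yi7 zi24) (ki xi9 yi7 zi25) (ki xi9 yi7 zi26) (ki xi6 yi17 zi15) (ki xi6 yi17 zi16) (ki xi6 yi17 zi17) (ki xi9 yi12 zi19) (ki xi6 yi17 zi20) (ki xi9 yi8 zi1) (ki xi9 yi8 zi2) (ki xi9 yi8 zi15) (ki xi9 yi8 zi16) (ki xi9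 yi8 zi17) (ki xi9 yi8 zi18) (ki xi7 yi7 zi12) (ki xi6 yi18 zi9) (ki xi9 yi12 zi23) (ki xi9 yi12 zi26) (ki xi6 yi18 zi14) (ki xi9 yi12 zi29) (ki xi9 yi12 zi31) (ki xi6 yi18 zi15) (ki xi9 yi13 zi3) (ki xi6 yi18 zi17) (ki xi9 yi13 zi6)) (@D3.rec (fun _ => Pt) (ki xi6 yi18 zi18) (ki xi8 yi4 zi1) (ki xi9 yi13 zi10) (ki xi9 yi13 zi12) (ki xi6 yi18 zi20) (ki xi8 yi4 zi5) (ki xi9 yi13 zi15) (ki xi6 yi18 zi22) (ki xi8 yi4 zi8) (ki xi9 yi13 zi19) (ki xi9 yi13 zi20) (ki xi6 yi18 zi25) (ki xi9 yi13 zi23) (ki xi9 yi13 zi24) (ki xi6 yi18 zi27) (ki xi9 yi13 zi26) (ki xi6 yi18 zi28) (ki xi9 yi13 zi21) (ki xi9 yi13 zi28) (ki xi6 yi18 zi30) (ki xi8 yi4 zi20) (ki xi6 yi19 zi1) (ki xi8 yi4 zi22) (ki xi8 yi4 zi23) (ki xi6 yi19 zi4) (ki xi8 yi4 zi25) (ki xi6 yi19 zi7)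 (ki xi6 yi19 zi8) (ki xi6 yi19 zi14) (ki xi6 yi19 zi10) (ki xi9 yi14 zi4) (ki xi6 yi19 zi12)) (@D3.rec (fun _ => Pt) (ki xi9 yi14 zi5) (ki xi6 yi19 zi15) (ki xi8 yi5 zi2) (ki xi8 yi5 zi3) (ki xi8 yi5 zi4) (ki xi8 yi5 zi5) (ki xi8 yi5 zi6) (ki xi8 yi5 zi7) (ki xi9 yi14 zi16) (ki xi6 yi19 zi22) (ki xi9 yi14 zi18) (ki xi9 yi14 zi20) (ki xi6 yi19 zi23) (ki xi9 yi14 zi24) (ki xi6 yi19 zi25) (ki xi9 yi14 zi27) (ki xi6 yi19 zi26) (ki xi9 yi14 zi21) (ki xi9 yi14 zi31) (ki xi9 yi15 zi1) (ki xi6 yi19 zi28) (ki xi8 yi5 zi21) (ki xi9 yi15 zi4) (ki xi6 yi19 zi30) (ki xi8 yi5 zi24) (ki xi9 yi15 zi10) (ki xi9 yi15 zi11) (ki xi6 yi20 zi1) (ki xi9 yi15 zi13) (ki xi6 yi20 zi2) (ki xi8 yi5 zi30) (ki xi8 yi5 zi31)) (@D3.rec (fun _ => Pt) (ki xi6 yi20 zi5) (ki xi8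 yi6 zi1) (ki xi8 yi6 zi2) (ki xi9 yi15 zi20) (ki xi6 yi20 zi8) (ki xi6 yi20 zi12) (ki xi9 yi15 zi22) (ki xi6 yi20 zi10) (ki xi9 yi15 zi21) (ki xi6 yi20 zi13) (ki xi8 yi6 zi10) (ki xi8 yi6 zi11) (ki xi8 yi6 zi12) (ki xi8 yi6 zi13) (ki xi8 yi6 zi14) (ki xi6 yi20 zi19) (ki xi6 yi20 zi24) (ki xi6 yi20 zi22) (ki xi9 yi16 zi0) (ki xi9 yi16 zi1) (ki xi8 yi6 zi20) (ki xi8 yi6 zi21) (ki xi8 yi6 zi22) (ki xi8 yi6 zi23) (ki xi8 yi6 zi24) (ki xi8 yi6 zi25) (ki xi8 yi6 zi26) (ki xi9 yi16 zi11) (ki xi6 yi20 zi31) (ki xi9 yi16 zi16) (ki xi9 yi16 zi17) (ki xi6 yi21 zi1)) (@D3.rec (fun _ => Pt) (ki xi9 yi16 zi19) (ki xi6 yi21 zi2) (ki xi8 yi7 zi2) (ki xi8 yi7 zi3) (ki xi6 yi21 zi5) (ki xi8 yi7 zi5) (ki xi8 yi7 zi6) (ki xi9 yi16 zi26) (ki xi9 yi16 zi27) (ki xi9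 yi16 zi28) (ki xi6 yi21 zi8) (ki xi6 yi21 zi9) (ki xi9 yi16 zi30) (ki xi6 yi21 zi11) (ki xi8 yi7 zi14) (ki xi8 yi7 zi15) (ki xi8 yi7 zi16) (ki xi8 yi7 zi17) (ki xi8 yi7 zi18) (ki xi8 yi7 zi19) (ki xi8 yi7 zi20) (ki xi8 yi7 zi21) (ki xi8 yi7 zi22) (ki xi8 yi7 zi23) (ki xi8 yi7 zi24) (ki xi8 yi7 zi25) (ki xi8 yi7 zi26) (ki xi8 yi7 zi27) (ki xi8 yi7 zi28) (ki xi8 yi7 zi29) (ki xi8 yi7 zi30) (ki xi8 yi7 zi31)) (@D3.rec (fun _ => Pt) (ki xi8 yi8 zi0) (ki xi8 yi8 zi1) (ki xi8 yi8 zi2) (ki xi8 yi8 zi3) (ki xi6 yi21 zi31) (ki xi9 yi17 zi21) (ki xi7 yi0 zi0) (ki xi9 yi16 zi31) (ki xi7 yi0 zi2) (ki xi9 yi17 zi25) (ki xi7 yi0 zi3) (ki xi8 yi8 zi11) (ki xi7 yi0 zi6) (ki xi9 yi17 zi27) (ki xi7 yi0 zi8) (ki xi8 yi8 zi15) (ki xi9 yi17 zi29) (ki xi7 yi0 zi10)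 (ki xi8 yi8 zi18) (ki xi7 yi0 zi13) (ki xi9 yi18 zi1) (ki xi7 yi0 zi15) (ki xi8 yi8 zi22) (ki xi8 yi8 zi23) (ki xi7 yi0 zi18) (ki xi8 yi8 zi25) (ki xi7 yi0 zi21) (ki xi8 yi8 zi27) (ki xi8 yi8 zi28) (ki xi8 yi8 zi29) (ki xi9 yi18 zi3) (ki xi7 yi0 zi25)) (@D3.rec (fun _ => Pt) (ki xi8 yi9 zi0) (ki xi7 yi0 zi28) (ki xi7 yi0 zi29) (ki xi8 yi9 zi3) (ki xi9 yi18 zi5) (ki xi7 yi0 zi31) (ki xi8 yi9 zi6) (ki xi7 yi1 zi2) (ki xi8 yi9 zi8) (ki xi8 yi9 zi9) (ki xi9 yi18 zi9) (ki xi7 yi7 zi24) (ki xi9 yi18 zi12) (ki xi9 yi18 zi15) (ki xi7 yi1 zi7) (ki xi9 yi18 zi17) (ki xi9 yi18 zi20) (ki xi7 yi1 zi9) (ki xi9 yi18 zi23) (ki xi9 yi18 zi25) (ki xi7 yi1 zi10) (ki xi9 yi18 zi27) (ki xi7 yi1 zi12) (ki xi9 yi18 zi31) (ki xi7 yi1 zi14) (ki xi9 yi19 zi2) (ki xi7 yi1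 zi15) (ki xi8 yi9 zi27) (ki xi9 yi15 zi12) (ki xi9 yi19 zi6) (ki xi7 yi1 zi17) (ki xi8 yi9 zi31)) (@D3.rec (fun _ => Pt) (ki xi9 yi19 zi7) (ki xi7 yi1 zi19) (ki xi8 yi10 zi2) (ki xi9 yi19 zi10) (ki xi9 yi19 zi13) (ki xi7 yi1 zi23) (ki xi9 yi19 zi16) (ki xi9 yi19 zi18) (ki xi7 yi1 zi24) (ki xi9 yi19 zi22) (ki xi7 yi1 zi26) (ki xi9 yi19 zi24) (ki xi9 yi19 zi25) (ki xi7 yi1 zi27) (ki xi9 yi19 zi29) (ki xi9 yi19 zi31) (ki xi7 yi1 zi29) (ki xi9 yi20 zi2) (ki xi7 yi1 zi30) (ki xi9 yi19 zi19) (ki xi7 yi2 zi0) (ki xi8 yi10 zi21) (ki xi9 yi20 zi5) (ki xi7 yi2 zi2) (ki xi8 yi10 zi24) (ki xi7 yi2 zi5) (ki xi8 yi10 zi26) (ki xi8 yi10 zi27) (ki xi9 yi20 zi11) (ki xi9 yi20 zi12) (ki xi7 yi2 zi8) (ki xi9 yi20 zi15)) (@D3.rec (fun _ => Pt) (ki xi7 yi2 zi10) (ki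 xi8 yi11 zi1) (ki xi9 yi20 zi17) (ki xi7 yi2 zi12) (ki xi8 yi11 zi4) (ki xi9 yi20 zi20) (ki xi7 yi2 zi15) (ki xi9 yi20 zi21) (ki xi9 yi20 zi22) (ki xi7 yi2 zi16) (ki xi9 yi20 zi25) (ki xi9 yi20 zi26) (ki xi7 yi2 zi18) (ki xi9 yi20 zi28) (ki xi7 yi2 zi19) (ki xi7 yi2 zi31) (ki xi9 yi20 zi30) (ki xi9 yi20 zi31) (ki xi7 yi2 zi21) (ki xi9 yi21 zi2) (ki xi7 yi2 zi23) (ki xi7 yi2 zi24) (ki xi9 yi20 zi23) (ki xi9 yi21 zi6) (ki xi9 yi21 zi7) (ki xi7 yi2 zi26) (ki xi9 yi21 zi9) (ki xi7 yi2 zi27) (ki xi9 yi20 zi27) (ki xi9 yi21 zi12) (ki xi7 yi2 zi29) (ki xi9 yi20 zi29)) (@D3.rec (fun _ => Pt) (ki xi8 yi12 zi0) (ki xi7 yi3 zi2) (ki xi8 yi12 zi2) (ki xi8 yi12 zi3) (ki xi8 yi12 zi4) (ki xi8 yi12 zi5) (ki xi8 yi12 zi6) (ki xi7 yi3 zi8) (ki xi7 yi3 zi9) (ki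 xi8 yi12 zi9) (ki xi9 yi21 zi19) (ki xi7 yi3 zi11) (ki xi8 yi12 zi12) (ki xi7 yi3 zi14) (ki xi8 yi12 zi14) (ki xi8 yi12 zi15) (ki xi8 yi12 zi16) (ki xi7 yi3 zi19) (ki xi8 yi12 zi18) (ki xi8 yi12 zi19) (ki xi7 yi7 zi9) (ki xi9 yi21 zi28) (ki xi9 yi21 zi31) (ki xi7 yi3 zi25) (ki xi7 yi7 zi25) (ki xi10 yi0 zi2) (ki xi10 yi0 zi5) (ki xi7 yi3 zi27) (ki xi10 yi0 zi8) (ki xi10 yi0 zi10) (ki xi7 yi3 zi28) (ki xi10 yi0 zi14)) (@D3.rec (fun _ => Pt) (ki xi7 yi3 zi30) (ki xi10 yi0 zi17) (ki xi10 yi0 zi19) (ki xi7 yi3 zi31) (ki xi10 yi0 zi23) (ki xi10 yi0 zi26) (ki xi7 yi4 zi1) (ki xi10 yi0 zi29) (ki xi7 yi4 zi2) (ki xi10 yi0 zi11) (ki xi10 yi1 zi1) (ki xi7 yi4 zi4) (ki xi10 yi1 zi4) (ki xi7 yi4 zi5) (ki xi8 yi13 zi14) (ki xi10 yi1 zi8) (ki xi10 yi1 zi10)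 (ki xi7 yi4 zi7) (ki xi8 yi13 zi18) (ki xi10 yi1 zi13) (ki xi7 yi4 zi9) (ki xi8 yi13 zi21) (ki xi10 yi1 zi19) (ki xi9 yi13 zi9) (ki xi7 yi4 zi12) (ki xi10 yi1 zi20) (ki xi7 yi4 zi13) (ki xi8 yi13 zi27) (ki xi8 yi13 zi28) (ki xi7 yi4 zi16) (ki xi8 yi13 zi30) (ki xi8 yi13 zi31)) (@D3.rec (fun _ => Pt) (ki xi10 yi1 zi24) (ki xi10 yi1 zi25) (ki xi7 yi4 zi20) (ki xi10 yi1 zi27) (ki xi10 yi1 zi28) (ki xi7 yi4 zi21) (ki xi10 yi2 zi0) (ki xi10 yi2 zi2) (ki xi7 yi4 zi23) (ki xi10 yi2 zi5) (ki xi7 yi4 zi24) (ki xi7 yi5 zi4) (ki xi10 yi2 zi7) (ki xi7 yi4 zi26) (ki xi10 yi2 zi11) (ki xi10 yi2 zi12) (ki xi7 yi4 zi28) (ki xi10 yi2 zi15) (ki xi7 yi4 zi29) (ki xi10 yi1 zi29) (ki xi10 yi2 zi18) (ki xi10 yi2 zi20) (ki xi7 yi4 zi31) (ki xi10 yi2 zi23) (ki xi7 yi5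 zi0) (ki xi10 yi2 zi3) (ki xi10 yi2 zi25) (ki xi7 yi5 zi2) (ki xi10 yi2 zi6) (ki xi10 yi2 zi28) (ki xi7 yi5 zi5) (ki xi8 yi14 zi31)) (@D3.rec (fun _ => Pt) (ki xi7 yi5 zi8) (ki xi8 yi15 zi1) (ki xi8 yi15 zi2) (ki xi8 yi15 zi3) (ki xi8 yi15 zi4) (ki xi8 yi15 zi5) (ki xi10 yi3 zi2) (ki xi7 yi5 zi14) (ki xi7 yi5 zi16) (ki xi7 yi5 zi18) (ki xi7 yi5 zi19) (ki xi7 yi5 zi21) (ki xi7 yi5 zi22) (ki xi7 yi6 zi5) (ki xi10 yi3 zi6) (ki xi7 yi5 zi24) (ki xi10 yi3 zi8) (ki xi7 yi5 zi25) (ki xi7 yi6 zi11) (ki xi10 yi3 zi10) (ki xi7 yi5 zi27) (ki xi7 yi6 zi14) (ki xi7 yi5 zi30) (ki xi10 yi3 zi3) (ki xi10 yi3 zi14) (ki xi7 yi6 zi0) (ki xi7 yi6 zi1) (ki xi10 yi3 zi4) (ki xi10 yi3 zi17) (ki xi7 yi6 zi3) (ki xi10 yi3 zi5) (ki xi10 yi3 zi21)) (@D3.rec (fun _ => Pt)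 (ki xi7 yi6 zi6) (ki xi10 yi3 zi23) (ki xi7 yi6 zi7) (ki xi10 yi3 zi7) (ki xi10 yi3 zi25) (ki xi7 yi6 zi9) (ki xi10 yi3 zi9) (ki xi7 yi6 zi12) (ki xi10 yi3 zi11) (ki xi10 yi3 zi12) (ki xi7 yi6 zi15) (ki xi8 yi16 zi11) (ki xi8 yi16 zi12) (ki xi8 yi16 zi13) (ki xi8 yi16 zi14) (ki xi8 yi16 zi15) (ki xi7 yi6 zi24) (ki xi7 yi7 zi10) (ki xi10 yi4 zi4) (ki xi10 yi4 zi7) (ki xi7 yi6 zi29) (ki xi10 yi4 zi10) (ki xi10 yi4 zi12) (ki xi7 yi6 zi30) (ki xi10 yi4 zi14) (ki xi7 yi7 zi1) (ki xi10 yi4 zi17) (ki xi10 yi4 zi18) (ki xi7 yi7 zi2) (ki xi10 yi4 zi21) (ki xi10 yi4 zi23) (ki xi7 yi7 zi4)) (@D3.rec (fun _ => Pt) (ki xi7 yi7 zi5) (ki xi7 yi14 zi22) (ki xi7 yi18 zi5) (ki xi9 yi9 zi30) (ki xi9 yi21 zi25) (ki xi9 yi12 zi18) (ki xi7 yi7 zi14) (ki xi10 yi4 zi25)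 (ki xi7 yi7 zi16) (ki xi7 yi7 zi17) (ki xi10 yi4 zi26) (ki xi10 yi4 zi27) (ki xi7 yi7 zi19) (ki xi7 yi7 zi20) (ki xi7 yi7 zi30) (ki xi7 yi8 zi1) (ki xi9 yi8 zi0) (ki xi7 yi8 zi3) (ki xi7 yi8 zi4) (ki xi10 yi4 zi28) (ki xi7 yi8 zi8) (ki xi10 yi4 zi31) (ki xi7 yi8 zi10) (ki xi8 yi17 zi23) (ki xi7 yi8 zi12) (ki xi7 yi8 zi14) (ki xi8 yi17 zi26) (ki xi10 yi5 zi1) (ki xi7 yi8 zi16) (ki xi8 yi17 zi29) (ki xi8 yi17 zi30) (ki xi7 yi8 zi21)) (@D3.rec (fun _ => Pt) (ki xi8 yi18 zi0) (ki xi8 yi18 zi1) (ki xi10 yi5 zi4) (ki xi10 yi5 zi6) (ki xi7 yi8 zi25) (ki xi10 yi5 zi8) (ki xi7 yi8 zi26) (ki xi10 yi5 zi11) (ki xi10 yi5 zi12) (ki xi7 yi8 zi27) (ki xi10 yi5 zi15) (ki xi7 yi8 zi30) (ki xi7 yi8 zi31) (ki xi9 yi4 zi5) (ki xi10 yi5 zi17) (ki xi7 yi9 zi1) (ki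 xi7 yi20 zi31) (ki xi7 yi9 zi3) (ki xi7 yi21 zi0) (ki xi7 yi9 zi6) (ki xi10 yi5 zi21) (ki xi7 yi9 zi8) (ki xi10 yi5 zi24) (ki xi7 yi9 zi10) (ki xi7 yi9 zi11) (ki xi10 yi5 zi19) (ki xi7 yi16 zi0) (ki xi7 yi21 zi1) (ki xi10 yi5 zi27) (ki xi7 yi9 zi16) (ki xi8 yi18 zi30) (ki xi10 yi5 zi29)) (@D3.rec (fun _ => Pt) (ki xi7 yi9 zi18) (ki xi8 yi19 zi1) (ki xi7 yi9 zi27) (ki xi7 yi9 zi22) (ki xi7 yi14 zi18) (ki xi10 yi6 zi1) (ki xi7 yi9 zi24) (ki xi10 yi3 zi13) (ki xi7 yi14 zi13) (ki xi8 yi19 zi9) (ki xi7 yi10 zi0) (ki xi8 yi19 zi11) (ki xi8 yi19 zi12) (ki xi8 yi19 zi13) (ki xi8 yi0 zi9) (ki xi10 yi6 zi10) (ki xi10 yi6 zi13) (ki xi7 yi10 zi6) (ki xi10 yi6 zi15) (ki xi10 yi6 zi17) (ki xi7 yi10 zi8) (ki xi10 yi6 zi20) (ki xi10 yi6 zi22) (ki xi7 yi10 zi9)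 (ki xi10 yi6 zi26) (ki xi7 yi10 zi11) (ki xi10 yi6 zi29) (ki xi10 yi6 zi31) (ki xi7 yi10 zi12) (ki xi10 yi7 zi3) (ki xi10 yi7 zi6) (ki xi7 yi10 zi14)) (@D3.rec (fun _ => Pt) (ki xi10 yi7 zi9) (ki xi7 yi10 zi15) (ki xi10 yi6 zi23) (ki xi10 yi7 zi13) (ki xi7 yi10 zi17) (ki xi10 yi7 zi15) (ki xi7 yi10 zi18) (ki xi10 yi7 zi18) (ki xi10 yi7 zi20) (ki xi7 yi10 zi20) (ki xi7 yi21 zi14) (ki xi10 yi7 zi23) (ki xi7 yi10 zi22) (ki xi7 yi21 zi17) (ki xi10 yi7 zi29) (ki xi9 yi1 zi19) (ki xi7 yi10 zi25) (ki xi10 yi7 zi30) (ki xi7 yi10 zi26) (ki xi7 yi21 zi23) (ki xi7 yi21 zi24) (ki xi7 yi10 zi29) (ki xi7 yi21 zi26) (ki xi7 yi21 zi27) (ki xi10 yi8 zi2) (ki xi7 yi11 zi0) (ki xi10 yi8 zi4) (ki xi7 yi11 zi1) (ki xi10 yi8 zi8) (ki xi10 yi8 zi9) (ki xi7 yi11 zi3)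 (ki xi10 yi8 zi11)) (@D3.rec (fun _ => Pt) (ki xi7 yi11 zi4) (ki xi7 yi11 zi16) (ki xi10 yi8 zi13) (ki xi7 yi11 zi6) (ki xi10 yi8 zi16) (ki xi10 yi8 zi17) (ki xi7 yi11 zi8) (ki xi10 yi8 zi19) (ki xi7 yi11 zi9) (ki xi10 yi8 zi5) (ki xi10 yi8 zi22) (ki xi10 yi8 zi24) (ki xi7 yi11 zi11) (ki xi10 yi8 zi26) (ki xi7 yi11 zi12) (ki xi10 yi8 zi10) (ki xi10 yi8 zi29) (ki xi7 yi11 zi14) (ki xi10 yi8 zi12) (ki xi10 yi9 zi0) (ki xi7 yi11 zi17) (ki xi7 yi11 zi19) (ki xi8 yi0 zi0) (ki xi7 yi16 zi2) (ki xi8 yi0 zi1) (ki xi8 yi0 zi2) (ki xi8 yi0 zi3) (ki xi7 yi11 zi25) (ki xi8 yi21 zi28) (ki xi7 yi11 zi28) (ki xi8 yi21 zi30) (ki xi8 yi21 zi31))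
def f_i_9 : D2 → D3 → Pt := @D2.rec (fun _ => D3 → Pt) (@D3.rec (fun _ => Pt) (ki xi7 yi11 zi31) (ki xi7 yi12 zi1) (ki xi7 yi12 zi15) (ki xi10 yi9 zi10) (ki xi7 yi12 zi3) (ki xi7 yi12 zi4) (ki xi7 yi12 zi21) (ki xi7 yi12 zi6) (ki xi7 yi12 zi24) (ki xi7 yi12 zi9) (ki xi10 yi9 zi8) (ki xi7 yi12 zi11) (ki xi10 yi9 zi9) (ki xi7 yi12 zi13) (ki xi7 yi17 zi24) (ki xi10 yi9 zi19) (ki xi7 yi12 zi16) (ki xi7 yi12 zi17) (ki xi10 yi9 zi11) (ki xi7 yi12 zi19) (ki xi10 yi9 zi12) (ki xi10 yi9 zi13) (ki xi7 yi12 zi22) (ki xi10 yi9 zi14) (ki xi7 yi17 zi13) (ki xi7 yi12 zi25) (ki xi8 yi0 zi5) (ki xi7 yi17 zi0) (ki xi9 yi0 zi28) (ki xi9 yi0 zi29) (ki xi9 yi0 zi30) (ki xi9 yi0 zi31)) (@D3.rec (fun _ => Pt) (ki xi10 yi10 zi0) (ki xi7 yi13 zi7) (ki xi10 yi10 zi2) (ki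 xi7 yi13 zi8) (ki xi10 yi10 zi4) (ki xi7 yi13 zi10) (ki xi10 yi10 zi7) (ki xi10 yi10 zi10) (ki xi7 yi13 zi12) (ki xi10 yi10 zi12) (ki xi7 yi13 zi13) (ki xi10 yi10 zi3) (ki xi7 yi13 zi15) (ki xi10 yi10 zi16) (ki xi10 yi10 zi17) (ki xi7 yi13 zi17) (ki xi7 yi21 zi2) (ki xi7 yi13 zi19) (ki xi10 yi10 zi22) (ki xi8 yi20 zi15) (ki xi7 yi13 zi22) (ki xi10 yi10 zi23) (ki xi7 yi13 zi23) (ki xi8 yi0 zi15) (ki xi8 yi0 zi16) (ki xi7 yi13 zi26) (ki xi8 yi0 zi18) (ki xi8 yi0 zi19) (ki xi10 yi10 zi27) (ki xi7 yi13 zi29) (ki xi7 yi14 zi5) (ki xi10 yi5 zi26)) (@D3.rec (fun _ => Pt) (ki xi10 yi10 zi30) (ki xi7 yi14 zi0) (ki xi10 yi11 zi0) (ki xi7 yi14 zi1) (ki xi10 yi10 zi28) (ki xi7 yi14 zi3) (ki xi10 yi5 zi22) (ki xi8 yi0 zi20) (ki xi8 yi0 zi21) (ki xi8 yi0 zi22)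 (ki xi7 yi14 zi16) (ki xi7 yi14 zi14) (ki xi10 yi6 zi0) (ki xi10 yi3 zi15) (ki xi7 yi20 zi29) (ki xi10 yi11 zi6) (ki xi10 yi11 zi9) (ki xi7 yi14 zi23) (ki xi10 yi11 zi12) (ki xi10 yi11 zi14) (ki xi7 yi14 zi24) (ki xi10 yi5 zi18) (ki xi7 yi14 zi27) (ki xi10 yi11 zi17) (ki xi10 yi7 zi25) (ki xi7 yi14 zi28) (ki xi10 yi11 zi22) (ki xi10 yi11 zi25) (ki xi7 yi14 zi30) (ki xi10 yi11 zi28) (ki xi7 yi14 zi31) (ki xi7 yi15 zi9)) (@D3.rec (fun _ => Pt) (ki xi10 yi12 zi0) (ki xi7 yi15 zi1) (ki xi10 yi12 zi3) (ki xi7 yi15 zi2) (ki xi10 yi11 zi19) (ki xi10 yi12 zi6) (ki xi10 yi12 zi9) (ki xi7 yi15 zi4) (ki xi10 yi12 zi13) (ki xi10 yi12 zi15) (ki xi7 yi15 zi5) (ki xi10 yi11 zi26) (ki xi10 yi12 zi18) (ki xi7 yi15 zi7) (ki xi10 yi11 zi29) (ki xi10 yi12 zi23) (ki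 xi10 yi12 zi25) (ki xi7 yi15 zi10) (ki xi7 yi21 zi5) (ki xi10 yi12 zi28) (ki xi7 yi15 zi12) (ki xi7 yi21 zi6) (ki xi10 yi13 zi1) (ki xi10 yi13 zi2) (ki xi7 yi15 zi15) (ki xi10 yi13 zi4) (ki xi7 yi15 zi16) (ki xi8 yi1 zi11) (ki xi8 yi1 zi12) (ki xi7 yi15 zi19) (ki xi8 yi1 zi14) (ki xi8 yi1 zi15)) (@D3.rec (fun _ => Pt) (ki xi10 yi13 zi11) (ki xi10 yi13 zi12) (ki xi10 yi13 zi13) (ki xi7 yi15 zi22) (ki xi7 yi15 zi23) (ki xi8 yi18 zi13) (ki xi7 yi15 zi25) (ki xi8 yi1 zi23) (ki xi8 yi1 zi24) (ki xi8 yi1 zi25) (ki xi8 yi1 zi26) (ki xi8 yi1 zi27) (ki xi8 yi1 zi28) (ki xi10 yi9 zi2) (ki xi7 yi16 zi12) (ki xi10 yi13 zi19) (ki xi10 yi13 zi21) (ki xi7 yi16 zi4) (ki xi10 yi13 zi23) (ki xi7 yi16 zi5) (ki xi7 yi16 zi18) (ki xi10 yi13 zi25) (ki xi7 yi16 zi7)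 (ki xi7 yi16 zi21) (ki xi10 yi13 zi27) (ki xi7 yi16 zi10) (ki xi10 yi8 zi31) (ki xi10 yi13 zi30) (ki xi7 yi16 zi13) (ki xi10 yi14 zi1) (ki xi7 yi16 zi14) (ki xi10 yi13 zi22)) (@D3.rec (fun _ => Pt) (ki xi10 yi14 zi3) (ki xi7 yi16 zi16) (ki xi10 yi13 zi24) (ki xi7 yi16 zi19) (ki xi10 yi13 zi26) (ki xi10 yi8 zi20) (ki xi7 yi16 zi22) (ki xi7 yi21 zi28) (ki xi8 yi1 zi31) (ki xi8 yi2 zi0) (ki xi8 yi2 zi1) (ki xi8 yi2 zi2) (ki xi10 yi14 zi11) (ki xi7 yi17 zi2) (ki xi7 yi17 zi3) (ki xi7 yi17 zi18) (ki xi7 yi17 zi5) (ki xi7 yi17 zi21) (ki xi7 yi17 zi8) (ki xi7 yi17 zi23) (ki xi7 yi17 zi11) (ki xi10 yi9 zi27) (ki xi10 yi14 zi18) (ki xi7 yi17 zi14) (ki xi10 yi14 zi12) (ki xi7 yi17 zi16) (ki xi10 yi14 zi13) (ki xi7 yi17 zi19) (ki xi10 yi14 zi14) (ki xi10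 yi14 zi15) (ki xi10 yi14 zi16) (ki xi10 yi9 zi18)) (@D3.rec (fun _ => Pt) (ki xi10 yi9 zi16) (ki xi8 yi0 zi4) (ki xi10 yi14 zi26) (ki xi7 yi17 zi30) (ki xi10 yi14 zi27) (ki xi10 yi14 zi28) (ki xi7 yi17 zi31) (ki xi7 yi18 zi2) (ki xi7 yi18 zi3) (ki xi10 yi14 zi30) (ki xi7 yi18 zi7) (ki xi10 yi15 zi2) (ki xi10 yi15 zi4) (ki xi7 yi18 zi9) (ki xi10 yi15 zi7) (ki xi7 yi18 zi10) (ki xi9 yi16 zi12) (ki xi10 yi15 zi9) (ki xi7 yi18 zi12) (ki xi7 yi18 zi15) (ki xi10 yi15 zi12) (ki xi7 yi18 zi18) (ki xi10 yi15 zi16) (ki xi10 yi15 zi18) (ki xi7 yi18 zi19) (ki xi9 yi6 zi25) (ki xi10 yi15 zi24) (ki xi10 yi15 zi25) (ki xi7 yi18 zi21) (ki xi10 yi15 zi27) (ki xi7 yi18 zi22) (ki xi9 yi6 zi31)) (@D3.rec (fun _ => Pt) (ki xi9 yi7 zi0) (ki xi7 yi18 zi25) (ki xi9 yi7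 zi2) (ki xi9 yi7 zi3) (ki xi10 yi16 zi5) (ki xi10 yi16 zi6) (ki xi7 yi18 zi28) (ki xi10 yi16 zi8) (ki xi7 yi18 zi29) (ki xi8 yi2 zi24) (ki xi8 yi2 zi25) (ki xi7 yi19 zi0) (ki xi8 yi2 zi27) (ki xi8 yi2 zi28) (ki xi10 yi16 zi15) (ki xi10 yi16 zi16) (ki xi10 yi16 zi17) (ki xi7 yi19 zi3) (ki xi7 yi19 zi4) (ki xi10 yi16 zi19) (ki xi7 yi19 zi6) (ki xi8 yi3 zi4) (ki xi8 yi3 zi5) (ki xi8 yi3 zi6) (ki xi8 yi3 zi7) (ki xi8 yi3 zi8) (ki xi8 yi3 zi9) (ki xi7 yi19 zi13) (ki xi7 yi19 zi14) (ki xi7 yi19 zi15) (ki xi10 yi16 zi28) (ki xi7 yi19 zi18)) (@D3.rec (fun _ => Pt) (ki xi8 yi17 zi16) (ki xi8 yi3 zi15) (ki xi8 yi3 zi16) (ki xi10 yi17 zi0) (ki xi7 yi19 zi26) (ki xi9 yi8 zi5) (ki xi10 yi17 zi2) (ki xi7 yi19 zi28) (ki xi9 yi8 zi8) (ki xi7 yi19 zi31) (ki xi9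 yi8 zi10) (ki xi9 yi8 zi11) (ki xi9 yi8 zi12) (ki xi9 yi8 zi13) (ki xi9 yi8 zi14) (ki xi8 yi3 zi17) (ki xi8 yi3 zi18) (ki xi8 yi3 zi19) (ki xi8 yi3 zi20) (ki xi10 yi17 zi10) (ki xi7 yi20 zi12) (ki xi9 yi8 zi21) (ki xi7 yi20 zi15) (ki xi9 yi8 zi23) (ki xi9 yi8 zi24) (ki xi9 yi8 zi25) (ki xi9 yi8 zi26) (ki xi9 yi8 zi27) (ki xi9 yi11 zi10) (ki xi10 yi10 zi18) (ki xi10 yi12 zi27) (ki xi10 yi17 zi20)) (@D3.rec (fun _ => Pt) (ki xi7 yi21 zi3) (ki xi10 yi12 zi26) (ki xi10 yi12 zi29) (ki xi8 yi1 zi3) (ki xi8 yi1 zi4) (ki xi8 yi1 zi5) (ki xi8 yi1 zi0) (ki xi8 yi1 zi1) (ki xi8 yi1 zi2) (ki xi10 yi18 zi2) (ki xi10 yi18 zi3) (ki xi7 yi21 zi11) (ki xi10 yi18 zi5) (ki xi7 yi21 zi12) (ki xi10 yi7 zi21) (ki xi10 yi7 zi22) (ki xi7 yi21 zi15) (ki xi10 yi7 zi24)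 (ki xi10 yi18 zi10) (ki xi10 yi18 zi11) (ki xi9 yi10 zi2) (ki xi7 yi21 zi18) (ki xi7 yi21 zi21) (ki xi10 yi7 zi31) (ki xi10 yi8 zi0) (ki xi10 yi8 zi1) (ki xi10 yi14 zi9) (ki xi10 yi9 zi1) (ki xi10 yi18 zi13) (ki xi8 yi0 zi6) (ki xi8 yi17 zi3) (ki xi10 yi18 zi16)) (@D3.rec (fun _ => Pt) (ki xi9 yi10 zi1) (ki xi9 yi10 zi0) (ki xi9 yi9 zi20) (ki xi8 yi0 zi10) (ki xi8 yi0 zi13) (ki xi10 yi10 zi24) (ki xi10 yi10 zi25) (ki xi10 yi10 zi26) (ki xi10 yi18 zi18) (ki xi8 yi0 zi23) (ki xi10 yi18 zi22) (ki xi8 yi0 zi25) (ki xi10 yi18 zi25) (ki xi8 yi0 zi26) (ki xi9 yi10 zi14) (ki xi10 yi18 zi29) (ki xi10 yi18 zi31) (ki xi8 yi0 zi28) (ki xi10 yi19 zi0) (ki xi8 yi0 zi30) (ki xi10 yi17 zi28) (ki xi10 yi19 zi4) (ki xi10 yi17 zi30) (ki xi10 yi17 zi25) (ki xi10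 yi19 zi8) (ki xi10 yi17 zi27) (ki xi10 yi19 zi9) (ki xi10 yi19 zi10) (ki xi10 yi19 zi11) (ki xi8 yi1 zi6) (ki xi8 yi1 zi7) (ki xi10 yi19 zi13)) (@D3.rec (fun _ => Pt) (ki xi8 yi1 zi9) (ki xi10 yi13 zi5) (ki xi10 yi13 zi6) (ki xi10 yi13 zi7) (ki xi10 yi13 zi8) (ki xi10 yi13 zi9) (ki xi10 yi13 zi10) (ki xi8 yi1 zi16) (ki xi8 yi1 zi17) (ki xi8 yi1 zi18) (ki xi9 yi8 zi28) (ki xi10 yi13 zi15) (ki xi10 yi13 zi16) (ki xi10 yi13 zi17) (ki xi8 yi1 zi29) (ki xi10 yi14 zi10) (ki xi10 yi19 zi23) (ki xi8 yi2 zi4) (ki xi8 yi2 zi6) (ki xi8 yi2 zi7) (ki xi9 yi11 zi20) (ki xi8 yi2 zi13) (ki xi9 yi11 zi22) (ki xi10 yi19 zi28) (ki xi8 yi2 zi15) (ki xi9 yi11 zi25) (ki xi10 yi19 zi31) (ki xi10 yi20 zi0) (ki xi10 yi20 zi1) (ki xi8 yi2 zi19) (ki xi8 yi2 zi20) (ki xi10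 yi20 zi3)) (@D3.rec (fun _ => Pt) (ki xi8 yi2 zi22) (ki xi10 yi16 zi9) (ki xi10 yi16 zi10) (ki xi10 yi16 zi11) (ki xi10 yi16 zi12) (ki xi10 yi16 zi13) (ki xi10 yi16 zi14) (ki xi8 yi2 zi29) (ki xi8 yi2 zi30) (ki xi8 yi2 zi31) (ki xi10 yi20 zi12) (ki xi8 yi3 zi2) (ki xi10 yi20 zi13) (ki xi10 yi16 zi21) (ki xi10 yi16 zi22) (ki xi10 yi16 zi23) (ki xi10 yi16 zi24) (ki xi10 yi16 zi25) (ki xi8 yi17 zi5) (ki xi8 yi3 zi13) (ki xi10 yi16 zi30) (ki xi10 yi17 zi9) (ki xi10 yi20 zi18) (ki xi8 yi3 zi23) (ki xi10 yi20 zi21) (ki xi10 yi20 zi22) (ki xi8 yi3 zi24) (ki xi10 yi20 zi25) (ki xi10 yi20 zi28) (ki xi8 yi3 zi26) (ki xi10 yi20 zi30) (ki xi8 yi3 zi27)) (@D3.rec (fun _ => Pt) (ki xi10 yi20 zi23) (ki xi10 yi21 zi2) (ki xi10 yi21 zi4) (ki xi8 yi3 zi29) (ki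 xi9 yi13 zi4) (ki xi10 yi21 zi7) (ki xi8 yi3 zi31) (ki xi9 yi13 zi7) (ki xi10 yi21 zi13) (ki xi8 yi13 zi23) (ki xi8 yi4 zi2) (ki xi10 yi21 zi14) (ki xi8 yi4 zi3) (ki xi9 yi13 zi13) (ki xi9 yi13 zi14) (ki xi8 yi4 zi6) (ki xi9 yi13 zi16) (ki xi9 yi13 zi17) (ki xi10 yi21 zi18) (ki xi8 yi4 zi9) (ki xi8 yi4 zi10) (ki xi8 yi4 zi17) (ki xi10 yi21 zi21) (ki xi8 yi4 zi12) (ki xi8 yi4 zi13) (ki xi10 yi21 zi19) (ki xi8 yi4 zi15) (ki xi10 yi21 zi20) (ki xi8 yi4 zi18) (ki xi9 yi13 zi29) (ki xi9 yi13 zi30) (ki xi9 yi13 zi31)) (@D3.rec (fun _ => Pt) (ki xi9 yi14 zi0) (ki xi9 yi14 zi1) (ki xi9 yi14 zi2) (ki xi9 yi14 zi3) (ki xi8 yi4 zi30) (ki xi8 yi5 zi0) (ki xi10 yi3 zi18) (ki xi11 yi0 zi0) (ki xi10 yi3 zi16) (ki xi11 yi0 zi1) (ki xi9 yi14 zi10) (ki xi9 yi14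 zi11) (ki xi9 yi14 zi12) (ki xi9 yi14 zi13) (ki xi11 yi0 zi8) (ki xi11 yi0 zi10) (ki xi8 yi5 zi8) (ki xi11 yi0 zi14) (ki xi8 yi5 zi10) (ki xi11 yi0 zi16) (ki xi8 yi5 zi11) (ki xi8 yi5 zi17) (ki xi11 yi0 zi20) (ki xi11 yi0 zi22) (ki xi8 yi5 zi13) (ki xi11 yi0 zi15) (ki xi11 yi0 zi25) (ki xi8 yi5 zi15) (ki xi11 yi0 zi17) (ki xi11 yi0 zi31) (ki xi11 yi1 zi0) (ki xi8 yi5 zi18)) (@D3.rec (fun _ => Pt) (ki xi11 yi1 zi2) (ki xi8 yi5 zi19) (ki xi9 yi15 zi2) (ki xi9 yi15 zi3) (ki xi8 yi5 zi22) (ki xi9 yi15 zi5) (ki xi9 yi15 zi6) (ki xi11 yi1 zi9) (ki xi11 yi1 zi10) (ki xi11 yi1 zi11) (ki xi8 yi5 zi25) (ki xi8 yi5 zi26) (ki xi8 yi9 zi28) (ki xi8 yi5 zi28) (ki xi9 yi15 zi14) (ki xi9 yi15 zi15) (ki xi9 yi15 zi16) (ki xi9 yi15 zi17) (ki xi9 yi15 zi18) (ki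 xi9 yi15 zi19) (ki xi8 yi6 zi3) (ki xi8 yi6 zi8) (ki xi8 yi6 zi6) (ki xi11 yi1 zi18) (ki xi11 yi1 zi19) (ki xi9 yi15 zi25) (ki xi9 yi15 zi26) (ki xi9 yi15 zi27) (ki xi9 yi15 zi28) (ki xi9 yi15 zi29) (ki xi9 yi15 zi30) (ki xi9 yi15 zi31)) (@D3.rec (fun _ => Pt) (ki xi8 yi6 zi18) (ki xi8 yi6 zi19) (ki xi10 yi3 zi24) (ki xi11 yi1 zi28) (ki xi10 yi9 zi24) (ki xi9 yi16 zi5) (ki xi9 yi16 zi6) (ki xi9 yi16 zi7) (ki xi9 yi16 zi8) (ki xi9 yi16 zi9) (ki xi11 yi2 zi3) (ki xi8 yi6 zi27) (ki xi9 yi6 zi16) (ki xi11 yi2 zi5) (ki xi11 yi2 zi6) (ki xi11 yi2 zi7) (ki xi8 yi6 zi29) (ki xi8 yi6 zi30) (ki xi11 yi2 zi9) (ki xi8 yi7 zi0) (ki xi9 yi16 zi20) (ki xi9 yi16 zi21) (ki xi9 yi16 zi22) (ki xi9 yi16 zi23) (ki xi9 yi16 zi24) (ki xi9 yi16 zi25) (ki xi8 yi7 zi7)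 (ki xi8 yi7 zi8) (ki xi8 yi7 zi9) (ki xi11 yi2 zi21) (ki xi8 yi7 zi12) (ki xi8 yi8 zi7)) (@D3.rec (fun _ => Pt) (ki xi9 yi17 zi0) (ki xi9 yi17 zi1) (ki xi9 yi17 zi2) (ki xi9 yi17 zi3) (ki xi9 yi17 zi4) (ki xi9 yi17 zi5) (ki xi9 yi17 zi6) (ki xi9 yi17 zi7) (ki xi9 yi17 zi8) (ki xi9 yi17 zi9) (ki xi9 yi17 zi10) (ki xi9 yi17 zi11) (ki xi9 yi17 zi12) (ki xi9 yi17 zi13) (ki xi9 yi17 zi14) (ki xi9 yi17 zi15) (ki xi9 yi17 zi16) (ki xi9 yi17 zi17) (ki xi9 yi17 zi18) (ki xi9 yi17 zi19) (ki xi11 yi2 zi28) (ki xi8 yi8 zi5) (ki xi9 yi17 zi22) (ki xi11 yi2 zi22) (ki xi11 yi2 zi31) (ki xi8 yi8 zi9) (ki xi9 yi17 zi26) (ki xi8 yi8 zi13) (ki xi9 yi17 zi28) (ki xi8 yi8 zi16) (ki xi9 yi17 zi30) (ki xi9 yi17 zi31)) (@D3.rec (fun _ => Pt) (ki xi11 yi3 zi0) (ki xi8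 yi8 zi20) (ki xi9 yi18 zi2) (ki xi8 yi8 zi30) (ki xi9 yi18 zi4) (ki xi8 yi9 zi4) (ki xi9 yi18 zi6) (ki xi9 yi18 zi7) (ki xi11 yi3 zi5) (ki xi8 yi9 zi10) (ki xi11 yi3 zi7) (ki xi11 yi3 zi10) (ki xi8 yi9 zi12) (ki xi11 yi3 zi13) (ki xi11 yi3 zi15) (ki xi8 yi9 zi13) (ki xi11 yi3 zi19) (ki xi8 yi9 zi15) (ki xi11 yi3 zi22) (ki xi11 yi3 zi23) (ki xi8 yi9 zi16) (ki xi11 yi3 zi27) (ki xi11 yi3 zi30) (ki xi8 yi9 zi18) (ki xi11 yi4 zi1) (ki xi8 yi9 zi19) (ki xi11 yi3 zi16) (ki xi8 yi9 zi21) (ki xi9 yi18 zi28) (ki xi11 yi4 zi6) (ki xi11 yi4 zi8) (ki xi8 yi9 zi23)) (@D3.rec (fun _ => Pt) (ki xi9 yi19 zi0) (ki xi11 yi4 zi10) (ki xi8 yi9 zi25) (ki xi9 yi19 zi3) (ki xi11 yi1 zi12) (ki xi11 yi4 zi15) (ki xi8 yi9 zi29) (ki xi8 yi10 zi0) (ki xi9 yi19 zi8) (ki xi11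 yi4 zi17) (ki xi8 yi10 zi3) (ki xi11 yi4 zi19) (ki xi11 yi4 zi20) (ki xi8 yi10 zi4) (ki xi11 yi4 zi24) (ki xi11 yi4 zi25) (ki xi8 yi10 zi6) (ki xi11 yi4 zi27) (ki xi8 yi10 zi7) (ki xi8 yi10 zi19) (ki xi11 yi4 zi30) (ki xi11 yi4 zi31) (ki xi8 yi10 zi9) (ki xi11 yi5 zi2) (ki xi8 yi10 zi11) (ki xi8 yi10 zi12) (ki xi11 yi4 zi21) (ki xi11 yi5 zi6) (ki xi11 yi5 zi8) (ki xi8 yi10 zi14) (ki xi11 yi5 zi10) (ki xi8 yi10 zi15)) (@D3.rec (fun _ => Pt) (ki xi11 yi4 zi26) (ki xi11 yi5 zi13) (ki xi8 yi10 zi17) (ki xi11 yi4 zi28) (ki xi9 yi20 zi4) (ki xi8 yi10 zi22) (ki xi9 yi20 zi6) (ki xi9 yi20 zi7) (ki xi9 yi20 zi8) (ki xi9 yi20 zi9) (ki xi11 yi5 zi20) (ki xi8 yi10 zi28) (ki xi8 yi10 zi29) (ki xi9 yi20 zi13) (ki xi11 yi5 zi21) (ki xi8 yi10 zi31) (ki xi9 yi20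 zi16) (ki xi8 yi11 zi2) (ki xi9 yi20 zi18) (ki xi9 yi20 zi19) (ki xi8 yi11 zi5) (ki xi8 yi11 zi7) (ki xi8 yi11 zi8) (ki xi8 yi11 zi22) (ki xi11 yi5 zi30) (ki xi8 yi11 zi10) (ki xi8 yi11 zi11) (ki xi8 yi11 zi28) (ki xi8 yi11 zi13) (ki xi8 yi11 zi31) (ki xi8 yi11 zi16) (ki xi8 yi11 zi17)) (@D3.rec (fun _ => Pt) (ki xi11 yi5 zi27) (ki xi11 yi6 zi6) (ki xi8 yi11 zi19) (ki xi11 yi5 zi28) (ki xi11 yi5 zi29) (ki xi11 yi6 zi10) (ki xi8 yi11 zi23) (ki xi8 yi11 zi24) (ki xi11 yi5 zi31) (ki xi8 yi11 zi26) (ki xi11 yi6 zi0) (ki xi11 yi6 zi1) (ki xi8 yi11 zi29) (ki xi11 yi6 zi2) (ki xi11 yi6 zi3) (ki xi9 yi21 zi15) (ki xi9 yi21 zi16) (ki xi9 yi21 zi17) (ki xi9 yi21 zi18) (ki xi8 yi12 zi10) (ki xi9 yi21 zi20) (ki xi9 yi21 zi21) (ki xi9 yi21 zi22) (ki xi9 yi21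 zi23) (ki xi9 yi21 zi24) (ki xi8 yi17 zi4) (ki xi11 yi6 zi23) (ki xi11 yi6 zi25) (ki xi8 yi12 zi21) (ki xi11 yi6 zi28) (ki xi11 yi6 zi30) (ki xi8 yi12 zi22))
def f_i_10 : D2 → D3 → Pt := @D2.rec (fun _ => D3 → Pt) (@D3.rec (fun _ => Pt) (ki xi11 yi7 zi0) (ki xi11 yi7 zi2) (ki xi8 yi12 zi25) (ki xi11 yi7 zi5) (ki xi11 yi7 zi6) (ki xi8 yi12 zi26) (ki xi11 yi7 zi10) (ki xi11 yi7 zi13) (ki xi8 yi12 zi28) (ki xi11 yi7 zi16) (ki xi8 yi12 zi29) (ki xi8 yi13 zi9) (ki xi11 yi7 zi19) (ki xi11 yi7 zi20) (ki xi8 yi12 zi31) (ki xi11 yi7 zi24) (ki xi11 yi7 zi27) (ki xi8 yi13 zi1) (ki xi11 yi7 zi30) (ki xi8 yi13 zi2) (ki xi11 yi7 zi7) (ki xi11 yi8 zi1) (ki xi11 yi8 zi4) (ki xi8 yi13 zi4) (ki xi11 yi8 zi8) (ki xi11 yi8 zi10) (ki xi8 yi13 zi5) (ki xi11 yi7 zi14)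 (ki xi11 yi8 zi13) (ki xi8 yi13 zi7) (ki xi11 yi7 zi17) (ki xi11 yi8 zi17)) (@D3.rec (fun _ => Pt) (ki xi11 yi8 zi19) (ki xi8 yi13 zi10) (ki xi10 yi1 zi2) (ki xi11 yi8 zi21) (ki xi8 yi13 zi12) (ki xi10 yi1 zi5) (ki xi11 yi8 zi27) (ki xi11 yi8 zi28) (ki xi8 yi13 zi15) (ki xi11 yi8 zi30) (ki xi8 yi13 zi16) (ki xi10 yi1 zi11) (ki xi10 yi1 zi12) (ki xi8 yi13 zi19) (ki xi10 yi1 zi14) (ki xi10 yi1 zi15) (ki xi11 yi9 zi5) (ki xi11 yi9 zi6) (ki xi10 yi21 zi12) (ki xi8 yi13 zi22) (ki xi8 yi13 zi25) (ki xi10 yi1 zi21) (ki xi10 yi1 zi22) (ki xi10 yi1 zi23) (ki xi8 yi14 zi0) (ki xi8 yi14 zi1) (ki xi11 yi9 zi9) (ki xi8 yi14 zi3) (ki xi8 yi14 zi4) (ki xi8 yi14 zi19) (ki xi11 yi9 zi12) (ki xi11 yi9 zi14)) (@D3.rec (fun _ => Pt) (ki xi8 yi14 zi6) (ki xi11 yi9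 zi16) (ki xi8 yi14 zi7) (ki xi8 yi14 zi25) (ki xi11 yi9 zi18) (ki xi8 yi14 zi9) (ki xi8 yi14 zi28) (ki xi8 yi14 zi12) (ki xi11 yi9 zi8) (ki xi11 yi9 zi22) (ki xi11 yi9 zi23) (ki xi8 yi14 zi14) (ki xi8 yi14 zi15) (ki xi11 yi9 zi10) (ki xi11 yi9 zi26) (ki xi8 yi14 zi17) (ki xi11 yi9 zi11) (ki xi11 yi9 zi30) (ki xi8 yi14 zi20) (ki xi11 yi10 zi1) (ki xi8 yi14 zi21) (ki xi11 yi9 zi15) (ki xi11 yi10 zi3) (ki xi8 yi14 zi23) (ki xi11 yi9 zi17) (ki xi8 yi14 zi26) (ki xi11 yi9 zi19) (ki xi11 yi9 zi20) (ki xi8 yi14 zi29) (ki xi10 yi2 zi29) (ki xi10 yi2 zi30) (ki xi10 yi2 zi31)) (@D3.rec (fun _ => Pt) (ki xi10 yi3 zi0) (ki xi10 yi3 zi1) (ki xi8 yi15 zi6) (ki xi8 yi15 zi23) (ki xi8 yi15 zi27) (ki xi8 yi15 zi30) (ki xi8 yi15 zi14) (ki xi8 yi16 zi3) (ki xi8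 yi15 zi16) (ki xi8 yi16 zi6) (ki xi8 yi15 zi19) (ki xi8 yi16 zi8) (ki xi8 yi16 zi9) (ki xi8 yi19 zi7) (ki xi8 yi15 zi24) (ki xi9 yi2 zi13) (ki xi9 yi14 zi8) (ki xi8 yi15 zi28) (ki xi9 yi14 zi6) (ki xi11 yi10 zi13) (ki xi11 yi10 zi26) (ki xi8 yi15 zi31) (ki xi11 yi10 zi14) (ki xi8 yi16 zi1) (ki xi9 yi16 zi2) (ki xi8 yi16 zi4) (ki xi11 yi10 zi15) (ki xi11 yi10 zi16) (ki xi11 yi10 zi17) (ki xi11 yi10 zi18) (ki xi11 yi10 zi19) (ki xi10 yi3 zi31)) (@D3.rec (fun _ => Pt) (ki xi10 yi4 zi0) (ki xi10 yi4 zi1) (ki xi10 yi4 zi2) (ki xi11 yi11 zi6) (ki xi8 yi16 zi18) (ki xi11 yi11 zi9) (ki xi11 yi11 zi11) (ki xi8 yi16 zi19) (ki xi11 yi11 zi15) (ki xi11 yi11 zi16) (ki xi8 yi16 zi21) (ki xi11 yi11 zi19) (ki xi8 yi16 zi22) (ki xi10 yi14 zi29) (ki xi8 yi16 zi24)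 (ki xi11 yi11 zi21) (ki xi10 yi16 zi29) (ki xi8 yi16 zi26) (ki xi8 yi16 zi27) (ki xi11 yi11 zi22) (ki xi11 yi11 zi24) (ki xi8 yi16 zi29) (ki xi10 yi16 zi27) (ki xi8 yi16 zi30) (ki xi10 yi17 zi16) (ki xi8 yi17 zi7) (ki xi8 yi17 zi10) (ki xi8 yi17 zi11) (ki xi8 yi17 zi19) (ki xi10 yi4 zi29) (ki xi11 yi11 zi25) (ki xi8 yi17 zi21)) (@D3.rec (fun _ => Pt) (ki xi10 yi5 zi0) (ki xi8 yi17 zi27) (ki xi10 yi5 zi2) (ki xi11 yi11 zi28) (ki xi8 yi18 zi2) (ki xi11 yi11 zi29) (ki xi8 yi18 zi3) (ki xi11 yi12 zi0) (ki xi8 yi18 zi5) (ki xi11 yi12 zi3) (ki xi11 yi12 zi5) (ki xi8 yi18 zi7) (ki xi8 yi18 zi8) (ki xi11 yi11 zi30) (ki xi11 yi12 zi8) (ki xi8 yi18 zi10) (ki xi10 yi13 zi14) (ki xi8 yi18 zi14) (ki xi9 yi2 zi21) (ki xi8 yi18 zi25) (ki xi11 yi12 zi10) (ki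 xi8 yi18 zi20) (ki xi9 yi2 zi6) (ki xi11 yi12 zi12) (ki xi8 yi18 zi22) (ki xi11 yi9 zi21) (ki xi9 yi1 zi31) (ki xi8 yi18 zi28) (ki xi10 yi5 zi28) (ki xi8 yi18 zi31) (ki xi10 yi5 zi30) (ki xi10 yi5 zi31)) (@D3.rec (fun _ => Pt) (ki xi9 yi2 zi12) (ki xi8 yi19 zi5) (ki xi11 yi6 zi5) (ki xi11 yi10 zi20) (ki xi10 yi6 zi4) (ki xi10 yi6 zi5) (ki xi10 yi6 zi6) (ki xi10 yi6 zi7) (ki xi11 yi12 zi25) (ki xi11 yi12 zi28) (ki xi8 yi19 zi15) (ki xi11 yi12 zi31) (ki xi11 yi13 zi1) (ki xi8 yi19 zi16) (ki xi11 yi13 zi4) (ki xi8 yi19 zi18) (ki xi11 yi13 zi6) (ki xi8 yi19 zi19) (ki xi11 yi13 zi10) (ki xi11 yi13 zi13) (ki xi8 yi19 zi21) (ki xi11 yi13 zi15) (ki xi8 yi19 zi22) (ki xi8 yi20 zi2) (ki xi11 yi13 zi18) (ki xi11 yi13 zi19) (ki xi8 yi19 zi24) (ki xi11 yi13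 zi22) (ki xi11 yi13 zi25) (ki xi8 yi19 zi26) (ki xi11 yi13 zi27) (ki xi8 yi19 zi27)) (@D3.rec (fun _ => Pt) (ki xi11 yi13 zi7) (ki xi11 yi13 zi30) (ki xi11 yi14 zi1) (ki xi8 yi19 zi29) (ki xi11 yi14 zi5) (ki xi11 yi14 zi7) (ki xi8 yi19 zi30) (ki xi11 yi13 zi14) (ki xi11 yi14 zi10) (ki xi8 yi20 zi0) (ki xi11 yi13 zi16) (ki xi11 yi14 zi15) (ki xi11 yi14 zi17) (ki xi8 yi20 zi3) (ki xi11 yi14 zi18) (ki xi8 yi20 zi5) (ki xi11 yi14 zi22) (ki xi11 yi14 zi23) (ki xi8 yi20 zi7) (ki xi11 yi14 zi25) (ki xi8 yi20 zi8) (ki xi9 yi9 zi14) (ki xi9 yi9 zi15) (ki xi8 yi20 zi11) (ki xi9 yi9 zi17) (ki xi9 yi2 zi24) (ki xi11 yi15 zi0) (ki xi11 yi15 zi1) (ki xi10 yi10 zi21) (ki xi8 yi20 zi14) (ki xi8 yi20 zi17) (ki xi9 yi9 zi23)) (@D3.rec (fun _ => Pt) (ki xi9 yi9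 zi24) (ki xi9 yi9 zi25) (ki xi8 yi20 zi24) (ki xi11 yi15 zi4) (ki xi8 yi20 zi26) (ki xi8 yi21 zi9) (ki xi11 yi15 zi6) (ki xi11 yi15 zi7) (ki xi8 yi20 zi28) (ki xi8 yi20 zi29) (ki xi8 yi21 zi15) (ki xi8 yi20 zi31) (ki xi8 yi21 zi18) (ki xi8 yi21 zi2) (ki xi11 yi15 zi3) (ki xi11 yi15 zi13) (ki xi8 yi21 zi4) (ki xi8 yi21 zi5) (ki xi11 yi15 zi5) (ki xi8 yi21 zi7) (ki xi9 yi5 zi5) (ki xi11 yi15 zi18) (ki xi8 yi21 zi10) (ki xi11 yi15 zi20) (ki xi8 yi21 zi11) (ki xi11 yi15 zi8) (ki xi8 yi21 zi13) (ki xi11 yi15 zi9) (ki xi11 yi15 zi10) (ki xi8 yi21 zi16) (ki xi11 yi15 zi11) (ki xi9 yi4 zi26)) (@D3.rec (fun _ => Pt) (ki xi8 yi21 zi19) (ki xi9 yi9 zi27) (ki xi9 yi4 zi13) (ki xi10 yi9 zi3) (ki xi10 yi9 zi4) (ki xi10 yi9 zi5) (ki xi10 yi9 zi6) (ki xi10 yi9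 zi7) (ki xi9 yi0 zi10) (ki xi9 yi0 zi12) (ki xi9 yi0 zi3) (ki xi9 yi0 zi18) (ki xi9 yi0 zi20) (ki xi9 yi0 zi21) (ki xi9 yi0 zi23) (ki xi11 yi6 zi4) (ki xi9 yi6 zi0) (ki xi11 yi16 zi1) (ki xi9 yi5 zi31) (ki xi9 yi0 zi15) (ki xi11 yi16 zi2) (ki xi11 yi10 zi23) (ki xi11 yi16 zi3) (ki xi11 yi6 zi16) (ki xi9 yi16 zi4) (ki xi11 yi11 zi0) (ki xi11 yi6 zi14) (ki xi9 yi5 zi21) (ki xi10 yi9 zi28) (ki xi10 yi9 zi29) (ki xi11 yi16 zi13) (ki xi11 yi16 zi14)) (@D3.rec (fun _ => Pt) (ki xi9 yi1 zi0) (ki xi11 yi16 zi16) (ki xi9 yi1 zi2) (ki xi9 yi1 zi11) (ki xi9 yi1 zi4) (ki xi11 yi12 zi7) (ki xi11 yi16 zi21) (ki xi9 yi1 zi6) (ki xi11 yi16 zi25) (ki xi11 yi16 zi26) (ki xi9 yi1 zi7) (ki xi11 yi16 zi17) (ki xi9 yi1 zi9) (ki xi11 yi12 zi1) (ki xi11 yi17 zi0) (ki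 xi11 yi17 zi1) (ki xi9 yi1 zi13) (ki xi9 yi1 zi14) (ki xi9 yi8 zi29) (ki xi11 yi17 zi6) (ki xi11 yi17 zi8) (ki xi10 yi7 zi28) (ki xi9 yi1 zi18) (ki xi9 yi1 zi21) (ki xi9 yi10 zi5) (ki xi9 yi10 zi6) (ki xi9 yi10 zi7) (ki xi9 yi1 zi28) (ki xi9 yi2 zi4) (ki xi11 yi17 zi11) (ki xi9 yi2 zi0) (ki xi11 yi17 zi10)) (@D3.rec (fun _ => Pt) (ki xi9 yi2 zi2) (ki xi11 yi12 zi11) (ki xi11 yi10 zi21) (ki xi11 yi6 zi7) (ki xi11 yi12 zi20) (ki xi11 yi17 zi16) (ki xi9 yi2 zi15) (ki xi11 yi17 zi18) (ki xi11 yi17 zi19) (ki xi9 yi2 zi16) (ki xi11 yi17 zi23) (ki xi11 yi17 zi26) (ki xi9 yi2 zi18) (ki xi11 yi17 zi29) (ki xi9 yi2 zi19) (ki xi11 yi0 zi11) (ki xi11 yi14 zi31) (ki xi9 yi2 zi23) (ki xi11 yi14 zi30) (ki xi9 yi3 zi4) (ki xi11 yi18 zi3) (ki xi11 yi18 zi6) (ki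 xi9 yi2 zi26) (ki xi11 yi18 zi10) (ki xi11 yi18 zi12) (ki xi9 yi2 zi27) (ki xi9 yi3 zi11) (ki xi11 yi18 zi15) (ki xi9 yi2 zi29) (ki xi9 yi3 zi14) (ki xi11 yi18 zi19) (ki xi11 yi18 zi21)) (@D3.rec (fun _ => Pt) (ki xi9 yi3 zi0) (ki xi11 yi18 zi1) (ki xi11 yi18 zi24) (ki xi9 yi3 zi2) (ki xi11 yi14 zi12) (ki xi11 yi18 zi28) (ki xi9 yi3 zi5) (ki xi11 yi19 zi0) (ki xi11 yi19 zi2) (ki xi9 yi3 zi6) (ki xi11 yi18 zi7) (ki xi11 yi19 zi8) (ki xi11 yi19 zi9) (ki xi9 yi3 zi8) (ki xi11 yi19 zi11) (ki xi9 yi3 zi9) (ki xi11 yi18 zi13) (ki xi11 yi18 zi14) (ki xi9 yi3 zi12) (ki xi11 yi18 zi16) (ki xi11 yi13 zi28) (ki xi11 yi19 zi21) (ki xi11 yi19 zi22) (ki xi9 yi3 zi15) (ki xi11 yi19 zi24) (ki xi9 yi3 zi16) (ki xi9 yi9 zi1) (ki xi9 yi8 zi30) (ki xi9 yi3 zi19)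 (ki xi9 yi9 zi2) (ki xi11 yi19 zi29) (ki xi11 yi19 zi30)) (@D3.rec (fun _ => Pt) (ki xi11 yi19 zi31) (ki xi9 yi3 zi22) (ki xi9 yi3 zi23) (ki xi11 yi20 zi1) (ki xi9 yi3 zi25) (ki xi9 yi11 zi1) (ki xi9 yi11 zi2) (ki xi9 yi11 zi3) (ki xi9 yi11 zi4) (ki xi9 yi11 zi5) (ki xi9 yi11 zi6) (ki xi9 yi4 zi0) (ki xi9 yi4 zi1) (ki xi9 yi4 zi2) (ki xi10 yi5 zi16) (ki xi9 yi11 zi11) (ki xi9 yi11 zi12) (ki xi9 yi11 zi13) (ki xi11 yi20 zi12) (ki xi9 yi4 zi15) (ki xi11 yi20 zi14) (ki xi9 yi4 zi16) (ki xi9 yi4 zi31) (ki xi9 yi4 zi18) (ki xi9 yi5 zi2) (ki xi9 yi4 zi21) (ki xi9 yi5 zi4) (ki xi9 yi4 zi24) (ki xi11 yi15 zi27) (ki xi11 yi20 zi20) (ki xi9 yi4 zi27) (ki xi11 yi20 zi13)) (@D3.rec (fun _ => Pt) (ki xi11 yi20 zi22) (ki xi9 yi4 zi29) (ki xi11 yi20 zi15) (ki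 xi9 yi5 zi0) (ki xi11 yi20 zi16) (ki xi11 yi20 zi17) (ki xi11 yi20 zi18) (ki xi11 yi15 zi17) (ki xi11 yi15 zi15) (ki xi9 yi9 zi26) (ki xi9 yi11 zi15) (ki xi9 yi5 zi12) (ki xi9 yi5 zi24) (ki xi9 yi5 zi26) (ki xi9 yi5 zi28) (ki xi9 yi5 zi29) (ki xi9 yi5 zi30) (ki xi11 yi6 zi12) (ki xi9 yi5 zi22) (ki xi11 yi20 zi29) (ki xi11 yi10 zi30) (ki xi11 yi20 zi30) (ki xi11 yi10 zi28) (ki xi11 yi20 zi31) (ki xi11 yi16 zi5) (ki xi11 yi21 zi5) (ki xi9 yi6 zi2) (ki xi9 yi6 zi4) (ki xi9 yi6 zi5) (ki xi10 yi4 zi13) (ki xi9 yi6 zi9) (ki xi10 yi15 zi5)) (@D3.rec (fun _ => Pt) (ki xi11 yi21 zi11) (ki xi11 yi21 zi13) (ki xi9 yi6 zi11) (ki xi11 yi21 zi16) (ki xi9 yi6 zi12) (ki xi10 yi14 zi31) (ki xi11 yi21 zi18) (ki xi9 yi6 zi14) (ki xi11 yi2 zi4) (ki xi9 yi6 zi17)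 (ki xi11 yi21 zi23) (ki xi11 yi21 zi25) (ki xi9 yi6 zi20) (ki xi10 yi15 zi13) (ki xi11 yi21 zi30) (ki xi11 yi21 zi31) (ki xi9 yi6 zi22) (ki xi12 yi0 zi1) (ki xi9 yi6 zi23) (ki xi10 yi15 zi19) (ki xi10 yi15 zi20) (ki xi12 yi0 zi5) (ki xi12 yi0 zi6) (ki xi12 yi0 zi7) (ki xi9 yi6 zi26) (ki xi9 yi6 zi27) (ki xi12 yi0 zi9) (ki xi9 yi6 zi29) (ki xi10 yi15 zi28) (ki xi10 yi15 zi29) (ki xi10 yi15 zi30) (ki xi10 yi15 zi31)) (@D3.rec (fun _ => Pt) (ki xi10 yi16 zi0) (ki xi10 yi16 zi1) (ki xi12 yi0 zi17) (ki xi12 yi0 zi18) (ki xi12 yi0 zi19) (ki xi9 yi7 zi4) (ki xi9 yi7 zi5) (ki xi12 yi0 zi21) (ki xi9 yi7 zi7) (ki xi9 yi12 zi1) (ki xi9 yi12 zi2) (ki xi9 yi12 zi3) (ki xi9 yi12 zi4) (ki xi9 yi12 zi5) (ki xi9 yi12 zi6) (ki xi9 yi7 zi14) (ki xi9 yi7 zi15) (ki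 xi9 yi7 zi16) (ki xi12 yi0 zi31) (ki xi9 yi7 zi19) (ki xi12 yi1 zi1) (ki xi9 yi12 zi13) (ki xi9 yi12 zi14) (ki xi9 yi12 zi15) (ki xi9 yi12 zi16) (ki xi9 yi12 zi17) (ki xi10 yi20 zi11) (ki xi10 yi4 zi22) (ki xi9 yi7 zi30) (ki xi10 yi4 zi16) (ki xi9 yi12 zi20) (ki xi12 yi1 zi7)) (@D3.rec (fun _ => Pt) (ki xi9 yi8 zi3) (ki xi10 yi17 zi1) (ki xi9 yi8 zi6) (ki xi10 yi17 zi3) (ki xi10 yi17 zi4) (ki xi10 yi17 zi5) (ki xi10 yi17 zi6) (ki xi10 yi17 zi7) (ki xi10 yi17 zi8) (ki xi9 yi12 zi21) (ki xi9 yi8 zi19) (ki xi10 yi17 zi11) (ki xi10 yi17 zi12) (ki xi10 yi17 zi13) (ki xi10 yi17 zi14) (ki xi10 yi17 zi15) (ki xi10 yi4 zi24) (ki xi11 yi17 zi3) (ki xi11 yi19 zi27) (ki xi12 yi1 zi18) (ki xi9 yi8 zi31) (ki xi10 yi17 zi21) (ki xi11 yi19 zi26) (ki xi11 yi19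 zi25) (ki xi11 yi19 zi28) (ki xi9 yi10 zi23) (ki xi12 yi1 zi26) (ki xi9 yi10 zi25) (ki xi9 yi10 zi20) (ki xi12 yi1 zi30) (ki xi9 yi10 zi22) (ki xi11 yi17 zi7)) (@D3.rec (fun _ => Pt) (ki xi11 yi17 zi5) (ki xi12 yi1 zi31) (ki xi9 yi9 zi9) (ki xi9 yi9 zi10) (ki xi12 yi2 zi0) (ki xi9 yi9 zi12) (ki xi11 yi14 zi26) (ki xi11 yi14 zi27) (ki xi11 yi14 zi28) (ki xi11 yi14 zi29) (ki xi9 yi9 zi18) (ki xi9 yi9 zi19) (ki xi11 yi15 zi2) (ki xi9 yi9 zi28) (ki xi10 yi18 zi14) (ki xi12 yi2 zi6) (ki xi9 yi9 zi31) (ki xi11 yi17 zi9) (ki xi9 yi10 zi8) (ki xi10 yi18 zi19) (ki xi12 yi2 zi10) (ki xi12 yi2 zi11) (ki xi9 yi10 zi10) (ki xi10 yi18 zi23) (ki xi12 yi2 zi13) (ki xi9 yi10 zi12) (ki xi10 yi18 zi26) (ki xi12 yi2 zi19) (ki xi12 yi2 zi20) (ki xi9 yi10 zi15) (ki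 xi12 yi2 zi22) (ki xi9 yi10 zi16)) (@D3.rec (fun _ => Pt) (ki xi9 yi10 zi18) (ki xi12 yi1 zi27) (ki xi12 yi1 zi28) (ki xi12 yi2 zi23) (ki xi9 yi10 zi21) (ki xi12 yi1 zi23) (ki xi12 yi1 zi24) (ki xi12 yi2 zi24) (ki xi9 yi10 zi24) (ki xi9 yi10 zi26) (ki xi9 yi10 zi27) (ki xi9 yi10 zi28) (ki xi12 yi2 zi25) (ki xi9 yi10 zi31) (ki xi12 yi2 zi26) (ki xi11 yi20 zi3) (ki xi11 yi20 zi4) (ki xi11 yi20 zi5) (ki xi11 yi20 zi6) (ki xi11 yi20 zi7) (ki xi11 yi20 zi8) (ki xi11 yi20 zi11) (ki xi12 yi3 zi0) (ki xi9 yi11 zi16) (ki xi10 yi19 zi24) (ki xi10 yi19 zi25) (ki xi10 yi19 zi26) (ki xi10 yi19 zi27) (ki xi9 yi11 zi23) (ki xi10 yi19 zi29) (ki xi10 yi19 zi30) (ki xi9 yi11 zi26)) (@D3.rec (fun _ => Pt) (ki xi9 yi11 zi27) (ki xi9 yi11 zi28) (ki xi12 yi3 zi8) (ki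 xi9 yi11 zi31) (ki xi12 yi3 zi10) (ki xi12 yi0 zi23) (ki xi12 yi0 zi24) (ki xi12 yi0 zi25) (ki xi12 yi0 zi26) (ki xi12 yi0 zi27) (ki xi12 yi0 zi28) (ki xi10 yi16 zi26) (ki xi9 yi12 zi10) (ki xi9 yi12 zi12) (ki xi12 yi1 zi4) (ki xi12 yi1 zi5) (ki xi12 yi3 zi17) (ki xi12 yi3 zi19) (ki xi9 yi12 zi22) (ki xi12 yi3 zi21) (ki xi12 yi3 zi23) (ki xi9 yi12 zi24) (ki xi9 yi12 zi25) (ki xi9 yi13 zi0) (ki xi12 yi3 zi27) (ki xi9 yi12 zi27) (ki xi12 yi3 zi31) (ki xi12 yi4 zi0) (ki xi9 yi12 zi28) (ki xi12 yi3 zi24) (ki xi9 yi12 zi30) (ki xi12 yi3 zi25)) (@D3.rec (fun _ => Pt) (ki xi12 yi4 zi8) (ki xi12 yi4 zi9) (ki xi9 yi13 zi1) (ki xi12 yi4 zi11) (ki xi9 yi13 zi2) (ki xi10 yi21 zi5) (ki xi10 yi21 zi6) (ki xi9 yi13 zi5) (ki xi10 yi21 zi8) (ki xi10 yi21 zi9)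 (ki xi12 yi4 zi18) (ki xi12 yi4 zi19) (ki xi10 yi1 zi18) (ki xi9 yi13 zi8) (ki xi9 yi13 zi11) (ki xi10 yi21 zi15) (ki xi10 yi21 zi16) (ki xi10 yi21 zi17) (ki xi9 yi13 zi18) (ki xi9 yi13 zi25) (ki xi9 yi13 zi27) (ki xi9 yi13 zi22) (ki xi12 yi4 zi21) (ki xi11 yi9 zi27) (ki xi12 yi4 zi22) (ki xi11 yi9 zi25) (ki xi12 yi4 zi23) (ki xi10 yi21 zi27) (ki xi10 yi21 zi28) (ki xi10 yi21 zi29) (ki xi10 yi21 zi30) (ki xi10 yi21 zi31))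
def f_i_11 : D2 → D3 → Pt := @D2.rec (fun _ => D3 → Pt) (@D3.rec (fun _ => Pt) (ki xi9 yi14 zi7) (ki xi9 yi14 zi9) (ki xi11 yi10 zi24) (ki xi12 yi5 zi2) (ki xi11 yi10 zi22) (ki xi12 yi5 zi3) (ki xi11 yi0 zi6) (ki xi12 yi5 zi9) (ki xi9 yi14 zi14) (ki xi12 yi5 zi12) (ki xi9 yi14 zi15) (ki xi10 yi11 zi15) (ki xi12 yi5 zi16) (ki xi12 yi5 zi17) (ki xi9 yi14 zi17) (ki xi9 yi14 zi25) (ki xi9 yi14 zi19) (ki xi9 yi14 zi28) (ki xi12 yi5 zi25) (ki xi12 yi5 zi26) (ki xi9 yi14 zi22) (ki xi12 yi5 zi28) (ki xi9 yi14 zi23) (ki xi12 yi5 zi18) (ki xi12 yi5 zi19) (ki xi9 yi14 zi26) (ki xi12 yi5 zi20) (ki xi12 yi5 zi21) (ki xi12 yi6 zi3) (ki xi12 yi6 zi4) (ki xi12 yi6 zi5) (ki xi9 yi14 zi29)) (@D3.rec (fun _ => Pt) (ki xi9 yi14 zi30) (ki xi12 yi6 zi7) (ki xi9 yi15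 zi0) (ki xi11 yi1 zi3) (ki xi11 yi1 zi4) (ki xi11 yi1 zi5) (ki xi11 yi1 zi6) (ki xi11 yi1 zi7) (ki xi11 yi1 zi8) (ki xi9 yi15 zi7) (ki xi9 yi15 zi8) (ki xi9 yi15 zi9) (ki xi9 yi19 zi4) (ki xi11 yi1 zi13) (ki xi11 yi1 zi14) (ki xi11 yi1 zi15) (ki xi11 yi1 zi16) (ki xi11 yi1 zi17) (ki xi9 yi15 zi23) (ki xi9 yi15 zi24) (ki xi11 yi10 zi27) (ki xi12 yi6 zi23) (ki xi11 yi15 zi24) (ki xi11 yi1 zi23) (ki xi11 yi1 zi24) (ki xi11 yi1 zi25) (ki xi11 yi1 zi26) (ki xi11 yi1 zi27) (ki xi9 yi16 zi3) (ki xi11 yi10 zi29) (ki xi11 yi16 zi10) (ki xi11 yi16 zi4)) (@D3.rec (fun _ => Pt) (ki xi11 yi16 zi9) (ki xi11 yi2 zi1) (ki xi12 yi6 zi31) (ki xi9 yi16 zi10) (ki xi10 yi15 zi8) (ki xi9 yi16 zi13) (ki xi9 yi16 zi14) (ki xi9 yi16 zi15) (ki xi12 yi7 zi4) (ki xi9 yi16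 zi18) (ki xi12 yi7 zi6) (ki xi11 yi2 zi11) (ki xi11 yi2 zi12) (ki xi11 yi2 zi13) (ki xi11 yi2 zi14) (ki xi11 yi2 zi15) (ki xi11 yi2 zi16) (ki xi11 yi2 zi17) (ki xi11 yi2 zi18) (ki xi12 yi3 zi7) (ki xi12 yi3 zi6) (ki xi9 yi16 zi29) (ki xi9 yi17 zi23) (ki xi11 yi2 zi23) (ki xi11 yi2 zi24) (ki xi11 yi2 zi25) (ki xi11 yi2 zi26) (ki xi11 yi2 zi27) (ki xi9 yi17 zi20) (ki xi11 yi2 zi29) (ki xi12 yi7 zi17) (ki xi9 yi17 zi24)) (@D3.rec (fun _ => Pt) (ki xi9 yi18 zi0) (ki xi11 yi3 zi1) (ki xi11 yi3 zi2) (ki xi12 yi7 zi20) (ki xi12 yi7 zi22) (ki xi9 yi18 zi8) (ki xi12 yi7 zi25) (ki xi9 yi18 zi10) (ki xi12 yi7 zi28) (ki xi12 yi7 zi29) (ki xi9 yi18 zi11) (ki xi12 yi8 zi1) (ki xi12 yi8 zi4) (ki xi9 yi18 zi13) (ki xi12 yi8 zi6) (ki xi9 yi18 zi14) (ki xi9 yi18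 zi26) (ki xi12 yi8 zi10) (ki xi12 yi8 zi11) (ki xi9 yi18 zi16) (ki xi12 yi8 zi14) (ki xi12 yi8 zi15) (ki xi9 yi18 zi18) (ki xi9 yi18 zi19) (ki xi12 yi7 zi30) (ki xi12 yi8 zi19) (ki xi12 yi8 zi22) (ki xi9 yi18 zi21) (ki xi12 yi8 zi26) (ki xi12 yi8 zi28) (ki xi9 yi18 zi22) (ki xi12 yi8 zi5)) (@D3.rec (fun _ => Pt) (ki xi12 yi8 zi31) (ki xi9 yi18 zi24) (ki xi12 yi8 zi7) (ki xi11 yi4 zi3) (ki xi12 yi9 zi6) (ki xi12 yi9 zi7) (ki xi9 yi18 zi29) (ki xi12 yi9 zi9) (ki xi9 yi18 zi30) (ki xi11 yi4 zi9) (ki xi9 yi19 zi1) (ki xi11 yi4 zi11) (ki xi11 yi4 zi12) (ki xi12 yi6 zi17) (ki xi12 yi6 zi18) (ki xi9 yi19 zi5) (ki xi11 yi4 zi16) (ki xi9 yi19 zi9) (ki xi12 yi9 zi14) (ki xi9 yi19 zi11) (ki xi9 yi19 zi12) (ki xi9 yi19 zi26) (ki xi12 yi9 zi17) (ki xi12 yi9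 zi18) (ki xi9 yi19 zi14) (ki xi9 yi19 zi15) (ki xi9 yi20 zi0) (ki xi9 yi19 zi17) (ki xi9 yi20 zi3) (ki xi12 yi9 zi24) (ki xi9 yi19 zi20) (ki xi9 yi19 zi21)) (@D3.rec (fun _ => Pt) (ki xi12 yi9 zi13) (ki xi12 yi9 zi27) (ki xi9 yi19 zi23) (ki xi12 yi9 zi15) (ki xi12 yi9 zi16) (ki xi12 yi9 zi31) (ki xi9 yi19 zi27) (ki xi12 yi10 zi1) (ki xi9 yi19 zi28) (ki xi12 yi9 zi19) (ki xi9 yi19 zi30) (ki xi12 yi9 zi20) (ki xi12 yi9 zi21) (ki xi9 yi20 zi1) (ki xi12 yi9 zi22) (ki xi12 yi9 zi23) (ki xi11 yi5 zi16) (ki xi11 yi5 zi17) (ki xi11 yi5 zi18) (ki xi11 yi5 zi19) (ki xi9 yi20 zi10) (ki xi9 yi20 zi14) (ki xi11 yi5 zi22) (ki xi11 yi5 zi23) (ki xi11 yi5 zi24) (ki xi11 yi5 zi25) (ki xi11 yi5 zi26) (ki xi9 yi21 zi0) (ki xi9 yi21 zi3) (ki xi9 yi21 zi4) (ki xi9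 yi20 zi24) (ki xi9 yi21 zi8)) (@D3.rec (fun _ => Pt) (ki xi9 yi21 zi10) (ki xi9 yi21 zi11) (ki xi9 yi21 zi13) (ki xi9 yi21 zi14) (ki xi10 yi9 zi15) (ki xi10 yi6 zi2) (ki xi9 yi21 zi1) (ki xi10 yi11 zi3) (ki xi12 yi10 zi15) (ki xi12 yi10 zi16) (ki xi9 yi21 zi5) (ki xi12 yi10 zi17) (ki xi10 yi14 zi17) (ki xi12 yi10 zi18) (ki xi10 yi9 zi26) (ki xi12 yi10 zi19) (ki xi10 yi9 zi23) (ki xi12 yi10 zi20) (ki xi12 yi10 zi21) (ki xi11 yi6 zi19) (ki xi11 yi6 zi20) (ki xi11 yi6 zi21) (ki xi12 yi10 zi30) (ki xi9 yi21 zi26) (ki xi12 yi11 zi0) (ki xi9 yi21 zi27) (ki xi12 yi11 zi4) (ki xi12 yi11 zi7) (ki xi9 yi21 zi29) (ki xi12 yi11 zi10) (ki xi9 yi21 zi30) (ki xi11 yi16 zi15)) (@D3.rec (fun _ => Pt) (ki xi10 yi0 zi0) (ki xi12 yi11 zi12) (ki xi10 yi0 zi1) (ki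 xi12 yi11 zi14) (ki xi12 yi11 zi16) (ki xi10 yi0 zi3) (ki xi10 yi0 zi4) (ki xi10 yi0 zi20) (ki xi12 yi11 zi19) (ki xi12 yi11 zi22) (ki xi10 yi0 zi6) (ki xi12 yi11 zi26) (ki xi12 yi11 zi28) (ki xi10 yi0 zi7) (ki xi10 yi0 zi27) (ki xi12 yi11 zi31) (ki xi10 yi0 zi9) (ki xi10 yi0 zi30) (ki xi12 yi12 zi3) (ki xi10 yi0 zi12) (ki xi10 yi0 zi13) (ki xi12 yi11 zi13) (ki xi12 yi12 zi6) (ki xi12 yi12 zi8) (ki xi10 yi0 zi15) (ki xi12 yi12 zi11) (ki xi12 yi12 zi13) (ki xi10 yi0 zi16) (ki xi12 yi11 zi17) (ki xi12 yi12 zi16) (ki xi10 yi0 zi18) (ki xi12 yi11 zi18)) (@D3.rec (fun _ => Pt) (ki xi12 yi12 zi21) (ki xi10 yi0 zi21) (ki xi12 yi12 zi25) (ki xi12 yi12 zi27) (ki xi10 yi0 zi22) (ki xi12 yi11 zi23) (ki xi12 yi13 zi1) (ki xi12 yi13 zi2) (ki xi10 yi0 zi24)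 (ki xi12 yi13 zi4) (ki xi10 yi0 zi25) (ki xi12 yi11 zi29) (ki xi12 yi11 zi30) (ki xi10 yi0 zi28) (ki xi12 yi12 zi0) (ki xi12 yi12 zi1) (ki xi12 yi13 zi12) (ki xi10 yi0 zi31) (ki xi12 yi13 zi14) (ki xi10 yi1 zi0) (ki xi11 yi8 zi20) (ki xi10 yi1 zi3) (ki xi11 yi8 zi22) (ki xi11 yi8 zi23) (ki xi12 yi13 zi19) (ki xi12 yi13 zi20) (ki xi12 yi13 zi21) (ki xi10 yi1 zi6) (ki xi10 yi1 zi7) (ki xi12 yi13 zi23) (ki xi10 yi1 zi9) (ki xi11 yi8 zi31)) (@D3.rec (fun _ => Pt) (ki xi11 yi9 zi0) (ki xi11 yi9 zi1) (ki xi11 yi9 zi2) (ki xi11 yi9 zi3) (ki xi11 yi9 zi4) (ki xi10 yi1 zi16) (ki xi10 yi1 zi17) (ki xi11 yi9 zi7) (ki xi10 yi2 zi8) (ki xi10 yi1 zi26) (ki xi10 yi2 zi13) (ki xi10 yi2 zi16) (ki xi10 yi1 zi30) (ki xi12 yi14 zi2) (ki xi10 yi1 zi31) (ki xi10 yi2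 zi21) (ki xi10 yi2 zi1) (ki xi10 yi2 zi24) (ki xi10 yi2 zi4) (ki xi10 yi2 zi26) (ki xi10 yi2 zi27) (ki xi10 yi5 zi25) (ki xi10 yi2 zi9) (ki xi10 yi2 zi10) (ki xi12 yi13 zi31) (ki xi10 yi21 zi25) (ki xi10 yi2 zi14) (ki xi10 yi21 zi23) (ki xi12 yi14 zi0) (ki xi12 yi14 zi16) (ki xi10 yi2 zi17) (ki xi12 yi14 zi1)) (@D3.rec (fun _ => Pt) (ki xi12 yi14 zi18) (ki xi10 yi2 zi19) (ki xi12 yi14 zi3) (ki xi10 yi2 zi22) (ki xi12 yi14 zi4) (ki xi12 yi14 zi5) (ki xi12 yi14 zi6) (ki xi12 yi14 zi7) (ki xi12 yi14 zi8) (ki xi11 yi10 zi9) (ki xi11 yi10 zi10) (ki xi11 yi10 zi11) (ki xi11 yi10 zi12) (ki xi10 yi3 zi19) (ki xi10 yi3 zi22) (ki xi10 yi3 zi26) (ki xi10 yi3 zi27) (ki xi10 yi3 zi28) (ki xi10 yi3 zi29) (ki xi10 yi3 zi30) (ki xi10 yi6 zi3) (ki xi10 yi11 zi2)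 (ki xi11 yi0 zi4) (ki xi10 yi9 zi21) (ki xi11 yi0 zi2) (ki xi12 yi14 zi31) (ki xi10 yi3 zi20) (ki xi11 yi1 zi20) (ki xi10 yi14 zi22) (ki xi11 yi1 zi29) (ki xi10 yi14 zi20) (ki xi12 yi10 zi27)) (@D3.rec (fun _ => Pt) (ki xi10 yi9 zi25) (ki xi12 yi15 zi0) (ki xi12 yi15 zi1) (ki xi11 yi11 zi3) (ki xi11 yi11 zi4) (ki xi11 yi11 zi5) (ki xi10 yi4 zi3) (ki xi12 yi15 zi12) (ki xi12 yi1 zi6) (ki xi10 yi4 zi5) (ki xi12 yi15 zi15) (ki xi10 yi4 zi6) (ki xi11 yi21 zi6) (ki xi12 yi15 zi18) (ki xi12 yi15 zi19) (ki xi10 yi4 zi8) (ki xi10 yi4 zi9) (ki xi11 yi21 zi7) (ki xi12 yi15 zi22) (ki xi10 yi4 zi11) (ki xi11 yi21 zi8) (ki xi10 yi4 zi15) (ki xi10 yi4 zi19) (ki xi11 yi20 zi10) (ki xi10 yi4 zi20) (ki xi10 yi4 zi30) (ki xi11 yi11 zi26) (ki xi12 yi15 zi25) (ki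 xi10 yi5 zi3) (ki xi10 yi5 zi5) (ki xi10 yi5 zi13) (ki xi12 yi15 zi28)) (@D3.rec (fun _ => Pt) (ki xi10 yi5 zi7) (ki xi10 yi10 zi13) (ki xi12 yi15 zi30) (ki xi10 yi5 zi9) (ki xi12 yi16 zi0) (ki xi10 yi5 zi10) (ki xi12 yi15 zi27) (ki xi10 yi10 zi5) (ki xi10 yi5 zi14) (ki xi11 yi20 zi9) (ki xi10 yi5 zi20) (ki xi10 yi11 zi1) (ki xi10 yi5 zi23) (ki xi12 yi12 zi5) (ki xi12 yi14 zi9) (ki xi11 yi12 zi15) (ki xi11 yi12 zi16) (ki xi11 yi12 zi17) (ki xi11 yi12 zi18) (ki xi11 yi12 zi19) (ki xi10 yi11 zi4) (ki xi12 yi9 zi26) (ki xi12 yi10 zi22) (ki xi11 yi12 zi23) (ki xi12 yi16 zi14) (ki xi10 yi6 zi8) (ki xi12 yi16 zi17) (ki xi12 yi16 zi18) (ki xi10 yi6 zi9) (ki xi12 yi16 zi22) (ki xi12 yi16 zi25) (ki xi10 yi6 zi11)) (@D3.rec (fun _ => Pt) (ki xi12 yi16 zi27)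 (ki xi10 yi6 zi12) (ki xi12 yi3 zi20) (ki xi12 yi16 zi29) (ki xi10 yi6 zi14) (ki xi12 yi16 zi31) (ki xi10 yi6 zi16) (ki xi10 yi7 zi0) (ki xi12 yi17 zi1) (ki xi12 yi17 zi3) (ki xi10 yi6 zi18) (ki xi12 yi17 zi7) (ki xi12 yi17 zi8) (ki xi10 yi6 zi19) (ki xi10 yi7 zi7) (ki xi10 yi6 zi21) (ki xi10 yi7 zi10) (ki xi12 yi17 zi13) (ki xi10 yi6 zi24) (ki xi10 yi6 zi25) (ki xi12 yi16 zi30) (ki xi12 yi17 zi17) (ki xi10 yi6 zi27) (ki xi12 yi17 zi21) (ki xi12 yi17 zi22) (ki xi10 yi6 zi28) (ki xi12 yi17 zi0) (ki xi10 yi6 zi30) (ki xi10 yi12 zi20) (ki xi12 yi17 zi27) (ki xi10 yi7 zi1) (ki xi12 yi17 zi31)) (@D3.rec (fun _ => Pt) (ki xi12 yi18 zi0) (ki xi10 yi7 zi2) (ki xi12 yi17 zi4) (ki xi12 yi18 zi6) (ki xi12 yi18 zi7) (ki xi10 yi7 zi4) (ki xi12 yi18 zi9) (ki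 xi10 yi7 zi5) (ki xi12 yi17 zi9) (ki xi12 yi17 zi10) (ki xi10 yi7 zi8) (ki xi12 yi17 zi11) (ki xi10 yi12 zi4) (ki xi12 yi18 zi19) (ki xi12 yi18 zi20) (ki xi10 yi7 zi11) (ki xi12 yi18 zi22) (ki xi10 yi7 zi12) (ki xi10 yi7 zi14) (ki xi12 yi18 zi23) (ki xi12 yi18 zi24) (ki xi12 yi18 zi25) (ki xi10 yi7 zi16) (ki xi10 yi7 zi17) (ki xi12 yi18 zi27) (ki xi10 yi7 zi19) (ki xi10 yi18 zi6) (ki xi10 yi18 zi7) (ki xi10 yi18 zi8) (ki xi10 yi18 zi9) (ki xi10 yi11 zi18) (ki xi10 yi11 zi16)) (@D3.rec (fun _ => Pt) (ki xi10 yi7 zi26) (ki xi10 yi7 zi27) (ki xi10 yi18 zi12) (ki xi10 yi8 zi14) (ki xi10 yi8 zi3) (ki xi10 yi8 zi18) (ki xi10 yi8 zi6) (ki xi10 yi8 zi7) (ki xi10 yi8 zi25) (ki xi10 yi8 zi27) (ki xi10 yi8 zi28) (ki xi10 yi8 zi30) (ki xi12 yi9 zi25) (ki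 xi10 yi8 zi15) (ki xi12 yi19 zi2) (ki xi10 yi14 zi8) (ki xi12 yi19 zi3) (ki xi10 yi14 zi7) (ki xi10 yi8 zi21) (ki xi12 yi19 zi4) (ki xi10 yi8 zi23) (ki xi12 yi19 zi5) (ki xi12 yi19 zi6) (ki xi12 yi10 zi6) (ki xi11 yi1 zi22) (ki xi12 yi14 zi23) (ki xi12 yi10 zi4) (ki xi10 yi13 zi28) (ki xi11 yi15 zi28) (ki xi11 yi15 zi29) (ki xi11 yi15 zi30) (ki xi11 yi15 zi31)) (@D3.rec (fun _ => Pt) (ki xi11 yi16 zi0) (ki xi10 yi9 zi17) (ki xi10 yi9 zi20) (ki xi10 yi9 zi22) (ki xi11 yi1 zi31) (ki xi10 yi14 zi24) (ki xi12 yi15 zi2) (ki xi12 yi14 zi13) (ki xi12 yi19 zi23) (ki xi11 yi2 zi0) (ki xi11 yi1 zi30) (ki xi12 yi19 zi25) (ki xi12 yi19 zi26) (ki xi10 yi9 zi30) (ki xi10 yi9 zi31) (ki xi11 yi6 zi31) (ki xi10 yi10 zi1) (ki xi10 yi10 zi11) (ki xi12 yi16 zi1)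 (ki xi12 yi20 zi2) (ki xi12 yi20 zi3) (ki xi10 yi10 zi6) (ki xi12 yi19 zi29) (ki xi12 yi20 zi8) (ki xi12 yi20 zi9) (ki xi10 yi10 zi8) (ki xi10 yi10 zi9) (ki xi12 yi15 zi29) (ki xi12 yi19 zi30) (ki xi12 yi14 zi10) (ki xi12 yi20 zi15) (ki xi12 yi20 zi16)) (@D3.rec (fun _ => Pt) (ki xi10 yi10 zi14) (ki xi10 yi10 zi15) (ki xi12 yi20 zi18) (ki xi10 yi17 zi17) (ki xi12 yi20 zi19) (ki xi10 yi18 zi0) (ki xi10 yi10 zi19) (ki xi10 yi17 zi31) (ki xi10 yi10 zi20) (ki xi10 yi18 zi17) (ki xi10 yi10 zi31) (ki xi10 yi10 zi29) (ki xi12 yi16 zi4) (ki xi12 yi10 zi23) (ki xi12 yi16 zi5) (ki xi12 yi10 zi24) (ki xi10 yi11 zi5) (ki xi12 yi20 zi25) (ki xi10 yi11 zi7) (ki xi10 yi11 zi8) (ki xi11 yi21 zi14) (ki xi12 yi20 zi29) (ki xi12 yi21 zi0) (ki xi10 yi11 zi10) (ki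 xi12 yi21 zi4) (ki xi12 yi21 zi6) (ki xi10 yi11 zi11) (ki xi12 yi5 zi10) (ki xi12 yi21 zi9) (ki xi10 yi11 zi13) (ki xi12 yi5 zi13) (ki xi12 yi18 zi31)) (@D3.rec (fun _ => Pt) (ki xi12 yi19 zi1) (ki xi10 yi12 zi1) (ki xi12 yi21 zi16) (ki xi10 yi11 zi20) (ki xi12 yi21 zi20) (ki xi12 yi21 zi21) (ki xi10 yi11 zi21) (ki xi10 yi12 zi10) (ki xi12 yi21 zi27) (ki xi12 yi21 zi28) (ki xi10 yi11 zi23) (ki xi12 yi21 zi30) (ki xi10 yi11 zi24) (ki xi10 yi12 zi16) (ki xi10 yi12 zi17) (ki xi10 yi11 zi27) (ki xi10 yi12 zi19) (ki xi13 yi0 zi6) (ki xi13 yi0 zi7) (ki xi10 yi11 zi30) (ki xi13 yi0 zi9) (ki xi10 yi11 zi31) (ki xi12 yi18 zi15) (ki xi12 yi21 zi14) (ki xi10 yi12 zi2) (ki xi12 yi18 zi14) (ki xi13 yi0 zi16) (ki xi13 yi0 zi17) (ki xi10 yi12 zi5) (ki xi12 yi21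 zi17) (ki xi13 yi0 zi23) (ki xi13 yi0 zi24)) (@D3.rec (fun _ => Pt) (ki xi10 yi12 zi7) (ki xi13 yi0 zi26) (ki xi10 yi12 zi8) (ki xi12 yi21 zi22) (ki xi12 yi21 zi23) (ki xi13 yi0 zi30) (ki xi13 yi0 zi31) (ki xi13 yi1 zi0) (ki xi10 yi12 zi11) (ki xi10 yi12 zi12) (ki xi13 yi1 zi2) (ki xi10 yi12 zi14) (ki xi12 yi21 zi31) (ki xi13 yi0 zi0) (ki xi13 yi0 zi1) (ki xi13 yi0 zi2) (ki xi12 yi17 zi25) (ki xi12 yi17 zi23) (ki xi13 yi1 zi11) (ki xi13 yi1 zi12) (ki xi13 yi1 zi13) (ki xi10 yi12 zi21) (ki xi10 yi12 zi22) (ki xi13 yi1 zi15) (ki xi10 yi12 zi24) (ki xi10 yi17 zi23) (ki xi10 yi17 zi22) (ki xi10 yi17 zi18) (ki xi10 yi17 zi24) (ki xi10 yi12 zi30) (ki xi10 yi12 zi31) (ki xi10 yi13 zi0)) (@D3.rec (fun _ => Pt) (ki xi13 yi1 zi22) (ki xi10 yi13 zi3) (ki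 xi13 yi1 zi24) (ki xi10 yi19 zi15) (ki xi10 yi19 zi16) (ki xi10 yi19 zi17) (ki xi10 yi19 zi18) (ki xi10 yi19 zi19) (ki xi10 yi19 zi20) (ki xi11 yi12 zi9) (ki xi11 yi11 zi23) (ki xi10 yi19 zi21) (ki xi10 yi13 zi18) (ki xi10 yi13 zi31) (ki xi10 yi13 zi20) (ki xi10 yi14 zi2) (ki xi10 yi14 zi4) (ki xi10 yi14 zi5) (ki xi10 yi14 zi6) (ki xi12 yi10 zi25) (ki xi10 yi13 zi29) (ki xi13 yi2 zi0) (ki xi10 yi14 zi0) (ki xi13 yi2 zi1) (ki xi13 yi2 zi2) (ki xi12 yi15 zi5) (ki xi13 yi2 zi3) (ki xi12 yi19 zi10) (ki xi12 yi19 zi8) (ki xi10 yi14 zi19) (ki xi10 yi14 zi21) (ki xi10 yi14 zi23)) (@D3.rec (fun _ => Pt) (ki xi12 yi14 zi21) (ki xi13 yi2 zi11) (ki xi12 yi15 zi7) (ki xi13 yi2 zi12) (ki xi13 yi2 zi14) (ki xi10 yi14 zi25) (ki xi11 yi11 zi12) (ki xi11 yi11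 zi17) (ki xi11 yi11 zi20) (ki xi11 yi21 zi17) (ki xi13 yi2 zi19) (ki xi10 yi15 zi0) (ki xi13 yi2 zi22) (ki xi10 yi15 zi1) (ki xi11 yi17 zi20) (ki xi13 yi2 zi24) (ki xi10 yi15 zi3) (ki xi11 yi21 zi9) (ki xi10 yi15 zi6) (ki xi12 yi7 zi0) (ki xi12 yi7 zi1) (ki xi13 yi3 zi1) (ki xi13 yi3 zi2) (ki xi10 yi15 zi10) (ki xi13 yi3 zi4) (ki xi10 yi15 zi11) (ki xi11 yi21 zi26) (ki xi13 yi3 zi7) (ki xi13 yi3 zi8) (ki xi13 yi3 zi9) (ki xi10 yi15 zi14) (ki xi10 yi15 zi15))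
def f_i_12 : D2 → D3 → Pt := @D2.rec (fun _ => D3 → Pt) (@D3.rec (fun _ => Pt) (ki xi13 yi3 zi11) (ki xi10 yi15 zi17) (ki xi12 yi0 zi2) (ki xi12 yi0 zi3) (ki xi12 yi0 zi4) (ki xi10 yi15 zi21) (ki xi10 yi15 zi22) (ki xi10 yi15 zi23) (ki xi13 yi3 zi20) (ki xi10 yi15 zi26) (ki xi13 yi3 zi22) (ki xi12 yi0 zi11) (ki xi12 yi0 zi12) (ki xi12 yi0 zi13) (ki xi12 yi0 zi14) (ki xi12 yi0 zi15) (ki xi12 yi0 zi16) (ki xi10 yi16 zi2) (ki xi10 yi16 zi3) (ki xi10 yi16 zi4) (ki xi13 yi3 zi31) (ki xi10 yi16 zi7) (ki xi13 yi4 zi1) (ki xi10 yi20 zi5) (ki xi10 yi20 zi6) (ki xi10 yi20 zi7) (ki xi10 yi20 zi8) (ki xi10 yi20 zi9) (ki xi10 yi20 zi10) (ki xi12 yi0 zi30) (ki xi12 yi0 zi29) (ki xi10 yi16 zi18)) (@D3.rec (fun _ => Pt) (ki xi12 yi15 zi21) (ki xi10 yi16 zi20)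 (ki xi12 yi15 zi23) (ki xi13 yi2 zi25) (ki xi10 yi20 zi14) (ki xi10 yi20 zi15) (ki xi11 yi11 zi8) (ki xi10 yi16 zi31) (ki xi12 yi1 zi8) (ki xi12 yi1 zi9) (ki xi12 yi1 zi10) (ki xi12 yi1 zi11) (ki xi12 yi1 zi12) (ki xi12 yi1 zi13) (ki xi12 yi1 zi14) (ki xi12 yi1 zi15) (ki xi12 yi1 zi16) (ki xi13 yi1 zi19) (ki xi10 yi17 zi19) (ki xi12 yi1 zi19) (ki xi13 yi1 zi18) (ki xi13 yi4 zi22) (ki xi13 yi1 zi17) (ki xi10 yi19 zi5) (ki xi10 yi19 zi6) (ki xi13 yi4 zi23) (ki xi10 yi17 zi26) (ki xi10 yi19 zi1) (ki xi10 yi19 zi2) (ki xi13 yi4 zi24) (ki xi10 yi17 zi29) (ki xi10 yi18 zi1)) (@D3.rec (fun _ => Pt) (ki xi10 yi18 zi4) (ki xi13 yi4 zi25) (ki xi12 yi18 zi29) (ki xi12 yi18 zi30) (ki xi12 yi19 zi0) (ki xi12 yi2 zi5) (ki xi10 yi18 zi15) (ki xi12 yi2 zi7) (ki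 xi13 yi4 zi30) (ki xi13 yi4 zi31) (ki xi10 yi18 zi20) (ki xi10 yi18 zi21) (ki xi12 yi2 zi12) (ki xi10 yi18 zi24) (ki xi12 yi2 zi14) (ki xi12 yi2 zi15) (ki xi13 yi5 zi5) (ki xi13 yi5 zi6) (ki xi13 yi5 zi7) (ki xi10 yi18 zi27) (ki xi10 yi18 zi28) (ki xi13 yi5 zi9) (ki xi10 yi18 zi30) (ki xi10 yi19 zi3) (ki xi10 yi19 zi7) (ki xi10 yi19 zi12) (ki xi10 yi19 zi14) (ki xi13 yi5 zi10) (ki xi13 yi1 zi27) (ki xi13 yi1 zi28) (ki xi13 yi1 zi29) (ki xi13 yi1 zi30)) (@D3.rec (fun _ => Pt) (ki xi10 yi19 zi22) (ki xi12 yi3 zi1) (ki xi12 yi3 zi2) (ki xi12 yi3 zi3) (ki xi12 yi3 zi4) (ki xi12 yi3 zi5) (ki xi11 yi2 zi20) (ki xi11 yi2 zi19) (ki xi10 yi20 zi2) (ki xi13 yi5 zi16) (ki xi10 yi20 zi4) (ki xi13 yi4 zi4) (ki xi13 yi4 zi5) (ki xi13 yi4 zi6) (ki xi13 yi4 zi7)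 (ki xi13 yi5 zi18) (ki xi13 yi5 zi21) (ki xi10 yi20 zi16) (ki xi13 yi5 zi23) (ki xi10 yi20 zi17) (ki xi11 yi13 zi2) (ki xi10 yi20 zi19) (ki xi13 yi5 zi27) (ki xi10 yi20 zi20) (ki xi10 yi20 zi29) (ki xi10 yi20 zi31) (ki xi13 yi6 zi0) (ki xi10 yi20 zi24) (ki xi13 yi5 zi25) (ki xi13 yi6 zi5) (ki xi13 yi6 zi6) (ki xi10 yi20 zi26)) (@D3.rec (fun _ => Pt) (ki xi10 yi20 zi27) (ki xi13 yi5 zi28) (ki xi13 yi5 zi29) (ki xi12 yi14 zi11) (ki xi13 yi5 zi30) (ki xi13 yi6 zi13) (ki xi13 yi6 zi14) (ki xi13 yi6 zi15) (ki xi10 yi21 zi0) (ki xi10 yi21 zi1) (ki xi13 yi6 zi17) (ki xi10 yi21 zi3) (ki xi12 yi4 zi12) (ki xi12 yi4 zi13) (ki xi12 yi4 zi14) (ki xi12 yi4 zi15) (ki xi12 yi4 zi16) (ki xi12 yi4 zi17) (ki xi10 yi21 zi10) (ki xi10 yi21 zi11) (ki xi12 yi4 zi20)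 (ki xi10 yi21 zi22) (ki xi10 yi21 zi24) (ki xi10 yi21 zi26) (ki xi12 yi12 zi17) (ki xi13 yi6 zi25) (ki xi12 yi14 zi14) (ki xi13 yi6 zi26) (ki xi12 yi14 zi12) (ki xi13 yi6 zi27) (ki xi12 yi4 zi30) (ki xi12 yi4 zi31)) (@D3.rec (fun _ => Pt) (ki xi12 yi5 zi0) (ki xi12 yi5 zi1) (ki xi11 yi0 zi3) (ki xi11 yi0 zi5) (ki xi12 yi15 zi3) (ki xi12 yi15 zi4) (ki xi12 yi15 zi8) (ki xi13 yi7 zi7) (ki xi13 yi7 zi9) (ki xi11 yi0 zi7) (ki xi11 yi17 zi27) (ki xi13 yi7 zi12) (ki xi11 yi0 zi9) (ki xi11 yi17 zi30) (ki xi13 yi7 zi17) (ki xi13 yi7 zi18) (ki xi11 yi0 zi12) (ki xi11 yi0 zi13) (ki xi11 yi0 zi23) (ki xi11 yi0 zi24) (ki xi11 yi0 zi26) (ki xi11 yi0 zi27) (ki xi13 yi7 zi25) (ki xi13 yi7 zi26) (ki xi13 yi7 zi27) (ki xi11 yi0 zi18) (ki xi11 yi0 zi19) (ki xi13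 yi7 zi29) (ki xi11 yi0 zi21) (ki xi13 yi7 zi20) (ki xi13 yi7 zi21) (ki xi13 yi7 zi22)) (@D3.rec (fun _ => Pt) (ki xi12 yi14 zi17) (ki xi13 yi7 zi23) (ki xi13 yi7 zi24) (ki xi11 yi0 zi28) (ki xi11 yi0 zi29) (ki xi11 yi0 zi30) (ki xi13 yi8 zi10) (ki xi11 yi1 zi1) (ki xi13 yi8 zi12) (ki xi12 yi6 zi9) (ki xi12 yi6 zi10) (ki xi12 yi6 zi11) (ki xi12 yi6 zi12) (ki xi12 yi6 zi13) (ki xi12 yi6 zi14) (ki xi12 yi6 zi15) (ki xi12 yi6 zi16) (ki xi11 yi4 zi13) (ki xi11 yi4 zi14) (ki xi12 yi6 zi19) (ki xi12 yi6 zi20) (ki xi12 yi6 zi21) (ki xi12 yi6 zi22) (ki xi11 yi1 zi21) (ki xi12 yi15 zi6) (ki xi12 yi19 zi18) (ki xi12 yi19 zi7) (ki xi12 yi19 zi15) (ki xi12 yi6 zi28) (ki xi12 yi6 zi29) (ki xi12 yi19 zi24) (ki xi11 yi2 zi2)) (@D3.rec (fun _ => Pt) (ki xi11 yi21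 zi19) (ki xi11 yi21 zi20) (ki xi13 yi3 zi30) (ki xi13 yi3 zi29) (ki xi11 yi2 zi8) (ki xi13 yi9 zi1) (ki xi11 yi2 zi10) (ki xi13 yi9 zi4) (ki xi13 yi9 zi5) (ki xi12 yi7 zi9) (ki xi12 yi7 zi10) (ki xi12 yi7 zi11) (ki xi12 yi7 zi12) (ki xi12 yi7 zi13) (ki xi12 yi7 zi14) (ki xi12 yi7 zi15) (ki xi12 yi15 zi13) (ki xi11 yi2 zi30) (ki xi13 yi9 zi13) (ki xi13 yi9 zi16) (ki xi11 yi3 zi3) (ki xi13 yi9 zi18) (ki xi11 yi3 zi4) (ki xi12 yi15 zi26) (ki xi13 yi9 zi20) (ki xi11 yi3 zi6) (ki xi13 yi9 zi22) (ki xi13 yi9 zi24) (ki xi11 yi3 zi8) (ki xi11 yi3 zi9) (ki xi11 yi3 zi24) (ki xi13 yi9 zi27)) (@D3.rec (fun _ => Pt) (ki xi13 yi9 zi29) (ki xi11 yi3 zi11) (ki xi13 yi10 zi1) (ki xi13 yi10 zi2) (ki xi11 yi3 zi12) (ki xi11 yi3 zi31) (ki xi11 yi3 zi14) (ki xi11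 yi4 zi2) (ki xi13 yi10 zi7) (ki xi13 yi10 zi8) (ki xi11 yi3 zi17) (ki xi11 yi3 zi18) (ki xi13 yi9 zi21) (ki xi13 yi10 zi11) (ki xi11 yi3 zi20) (ki xi11 yi3 zi21) (ki xi13 yi9 zi25) (ki xi13 yi9 zi26) (ki xi13 yi10 zi17) (ki xi11 yi3 zi25) (ki xi13 yi10 zi21) (ki xi13 yi10 zi22) (ki xi11 yi3 zi26) (ki xi13 yi9 zi30) (ki xi13 yi10 zi28) (ki xi13 yi10 zi29) (ki xi11 yi3 zi28) (ki xi13 yi10 zi31) (ki xi11 yi3 zi29) (ki xi13 yi10 zi3) (ki xi13 yi10 zi4) (ki xi11 yi4 zi0)) (@D3.rec (fun _ => Pt) (ki xi13 yi10 zi5) (ki xi13 yi10 zi6) (ki xi12 yi9 zi2) (ki xi13 yi8 zi24) (ki xi13 yi11 zi7) (ki xi13 yi11 zi8) (ki xi11 yi4 zi4) (ki xi11 yi4 zi5) (ki xi13 yi11 zi10) (ki xi11 yi4 zi7) (ki xi12 yi9 zi10) (ki xi12 yi9 zi11) (ki xi12 yi9 zi12) (ki xi11 yi5 zi0)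 (ki xi11 yi4 zi18) (ki xi11 yi5 zi3) (ki xi11 yi5 zi4) (ki xi11 yi4 zi22) (ki xi11 yi4 zi23) (ki xi11 yi5 zi9) (ki xi11 yi5 zi11) (ki xi11 yi5 zi12) (ki xi11 yi5 zi14) (ki xi11 yi5 zi15) (ki xi11 yi4 zi29) (ki xi11 yi15 zi12) (ki xi11 yi12 zi21) (ki xi11 yi5 zi1) (ki xi13 yi11 zi15) (ki xi13 yi11 zi16) (ki xi13 yi11 zi17) (ki xi11 yi5 zi5)) (@D3.rec (fun _ => Pt) (ki xi13 yi11 zi18) (ki xi11 yi5 zi7) (ki xi13 yi11 zi19) (ki xi13 yi11 zi20) (ki xi11 yi15 zi26) (ki xi13 yi11 zi21) (ki xi11 yi15 zi23) (ki xi13 yi11 zi22) (ki xi13 yi11 zi23) (ki xi12 yi10 zi9) (ki xi12 yi10 zi10) (ki xi12 yi10 zi11) (ki xi12 yi10 zi12) (ki xi12 yi10 zi13) (ki xi12 yi10 zi14) (ki xi11 yi6 zi8) (ki xi11 yi6 zi9) (ki xi11 yi6 zi11) (ki xi11 yi6 zi13) (ki xi11 yi6 zi15)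 (ki xi11 yi6 zi17) (ki xi11 yi6 zi18) (ki xi11 yi12 zi22) (ki xi11 yi17 zi13) (ki xi11 yi17 zi15) (ki xi11 yi20 zi19) (ki xi13 yi12 zi7) (ki xi11 yi10 zi31) (ki xi12 yi10 zi28) (ki xi13 yi12 zi9) (ki xi11 yi6 zi22) (ki xi13 yi12 zi11)) (@D3.rec (fun _ => Pt) (ki xi11 yi6 zi24) (ki xi12 yi16 zi3) (ki xi13 yi12 zi14) (ki xi13 yi12 zi16) (ki xi11 yi6 zi26) (ki xi13 yi12 zi19) (ki xi13 yi12 zi21) (ki xi11 yi6 zi27) (ki xi12 yi19 zi27) (ki xi13 yi12 zi24) (ki xi11 yi6 zi29) (ki xi12 yi19 zi28) (ki xi11 yi7 zi1) (ki xi11 yi7 zi21) (ki xi11 yi7 zi3) (ki xi13 yi12 zi29) (ki xi11 yi7 zi4) (ki xi11 yi7 zi28) (ki xi11 yi7 zi31) (ki xi11 yi7 zi8) (ki xi13 yi13 zi4) (ki xi13 yi13 zi5) (ki xi11 yi7 zi9) (ki xi11 yi8 zi5) (ki xi13 yi13 zi11) (ki xi13 yi13 zi12)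 (ki xi11 yi7 zi11) (ki xi13 yi13 zi14) (ki xi11 yi7 zi12) (ki xi11 yi8 zi11) (ki xi11 yi8 zi12) (ki xi11 yi7 zi15)) (@D3.rec (fun _ => Pt) (ki xi11 yi8 zi14) (ki xi11 yi8 zi15) (ki xi13 yi13 zi21) (ki xi11 yi7 zi18) (ki xi13 yi12 zi27) (ki xi11 yi12 zi13) (ki xi11 yi7 zi22) (ki xi13 yi13 zi26) (ki xi11 yi7 zi23) (ki xi13 yi12 zi28) (ki xi13 yi13 zi30) (ki xi11 yi7 zi25) (ki xi13 yi14 zi0) (ki xi11 yi7 zi26) (ki xi13 yi12 zi30) (ki xi13 yi12 zi31) (ki xi11 yi7 zi29) (ki xi12 yi4 zi24) (ki xi13 yi13 zi0) (ki xi13 yi14 zi9) (ki xi13 yi14 zi10) (ki xi11 yi8 zi0) (ki xi13 yi13 zi1) (ki xi13 yi14 zi16) (ki xi13 yi14 zi17) (ki xi11 yi8 zi2) (ki xi13 yi14 zi19) (ki xi11 yi8 zi3) (ki xi13 yi13 zi6) (ki xi13 yi13 zi7) (ki xi13 yi14 zi23) (ki xi13 yi14 zi24))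 (@D3.rec (fun _ => Pt) (ki xi13 yi14 zi25) (ki xi11 yi8 zi6) (ki xi11 yi8 zi7) (ki xi13 yi14 zi27) (ki xi11 yi8 zi9) (ki xi13 yi13 zi15) (ki xi13 yi13 zi16) (ki xi13 yi13 zi17) (ki xi13 yi13 zi18) (ki xi13 yi13 zi19) (ki xi13 yi13 zi20) (ki xi13 yi15 zi4) (ki xi11 yi8 zi16) (ki xi13 yi9 zi19) (ki xi11 yi8 zi18) (ki xi12 yi13 zi15) (ki xi12 yi13 zi16) (ki xi12 yi13 zi17) (ki xi12 yi13 zi18) (ki xi11 yi8 zi24) (ki xi11 yi8 zi25) (ki xi11 yi8 zi26) (ki xi13 yi15 zi14) (ki xi11 yi8 zi29) (ki xi13 yi15 zi16) (ki xi12 yi13 zi25) (ki xi12 yi13 zi26) (ki xi12 yi13 zi27) (ki xi12 yi13 zi28) (ki xi12 yi13 zi29) (ki xi12 yi13 zi30) (ki xi11 yi9 zi24)) (@D3.rec (fun _ => Pt) (ki xi11 yi9 zi28) (ki xi11 yi9 zi31) (ki xi11 yi9 zi13) (ki xi11 yi10 zi2) (ki xi11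 yi10 zi4) (ki xi11 yi10 zi5) (ki xi11 yi10 zi6) (ki xi11 yi10 zi7) (ki xi11 yi10 zi8) (ki xi11 yi12 zi14) (ki xi11 yi16 zi29) (ki xi12 yi4 zi3) (ki xi12 yi4 zi28) (ki xi11 yi16 zi7) (ki xi12 yi4 zi26) (ki xi13 yi15 zi25) (ki xi11 yi9 zi29) (ki xi12 yi6 zi0) (ki xi11 yi10 zi0) (ki xi13 yi15 zi26) (ki xi13 yi15 zi27) (ki xi11 yi21 zi0) (ki xi13 yi12 zi8) (ki xi11 yi15 zi25) (ki xi13 yi15 zi28) (ki xi13 yi15 zi29) (ki xi12 yi14 zi26) (ki xi12 yi14 zi27) (ki xi12 yi14 zi28) (ki xi12 yi14 zi29) (ki xi12 yi14 zi30) (ki xi11 yi10 zi25)) (@D3.rec (fun _ => Pt) (ki xi11 yi11 zi1) (ki xi11 yi11 zi2) (ki xi11 yi16 zi6) (ki xi12 yi5 zi4) (ki xi12 yi5 zi5) (ki xi11 yi20 zi25) (ki xi12 yi6 zi24) (ki xi11 yi21 zi2) (ki xi12 yi5 zi6) (ki xi13 yi16 zi9) (ki xi12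 yi15 zi14) (ki xi13 yi1 zi31) (ki xi11 yi11 zi7) (ki xi12 yi7 zi16) (ki xi12 yi15 zi10) (ki xi11 yi11 zi10) (ki xi13 yi2 zi15) (ki xi13 yi16 zi18) (ki xi11 yi11 zi13) (ki xi11 yi11 zi14) (ki xi12 yi20 zi23) (ki xi12 yi1 zi0) (ki xi11 yi11 zi18) (ki xi12 yi1 zi2) (ki xi13 yi2 zi16) (ki xi11 yi11 zi27) (ki xi12 yi7 zi23) (ki xi11 yi12 zi6) (ki xi11 yi11 zi31) (ki xi11 yi16 zi27) (ki xi11 yi12 zi2) (ki xi13 yi13 zi22)) (@D3.rec (fun _ => Pt) (ki xi11 yi12 zi4) (ki xi11 yi16 zi18) (ki xi13 yi16 zi25) (ki xi12 yi11 zi1) (ki xi11 yi17 zi12) (ki xi11 yi17 zi14) (ki xi13 yi10 zi10) (ki xi13 yi13 zi24) (ki xi12 yi16 zi8) (ki xi12 yi16 zi9) (ki xi12 yi16 zi10) (ki xi12 yi16 zi11) (ki xi13 yi11 zi25) (ki xi13 yi17 zi7) (ki xi11 yi12 zi24) (ki xi13 yi17 zi9)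 (ki xi13 yi17 zi10) (ki xi11 yi12 zi26) (ki xi11 yi12 zi27) (ki xi13 yi2 zi20) (ki xi13 yi17 zi14) (ki xi13 yi17 zi16) (ki xi11 yi12 zi29) (ki xi13 yi17 zi19) (ki xi13 yi17 zi20) (ki xi11 yi12 zi30) (ki xi13 yi5 zi22) (ki xi11 yi13 zi0) (ki xi13 yi5 zi24) (ki xi11 yi13 zi3) (ki xi11 yi13 zi20) (ki xi11 yi13 zi5)) (@D3.rec (fun _ => Pt) (ki xi11 yi13 zi26) (ki xi11 yi13 zi8) (ki xi13 yi17 zi29) (ki xi11 yi13 zi9) (ki xi11 yi14 zi2) (ki xi13 yi18 zi2) (ki xi13 yi18 zi3) (ki xi11 yi13 zi11) (ki xi11 yi13 zi12) (ki xi11 yi14 zi8) (ki xi11 yi14 zi9) (ki xi11 yi14 zi11) (ki xi13 yi18 zi8) (ki xi11 yi13 zi17) (ki xi13 yi17 zi25) (ki xi13 yi11 zi24) (ki xi13 yi18 zi12) (ki xi11 yi13 zi21) (ki xi13 yi17 zi26) (ki xi13 yi18 zi15) (ki xi13 yi18 zi16) (ki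 xi11 yi13 zi23) (ki xi11 yi13 zi24) (ki xi11 yi19 zi17) (ki xi13 yi17 zi27) (ki xi11 yi19 zi16) (ki xi13 yi18 zi22) (ki xi11 yi13 zi29) (ki xi13 yi17 zi28) (ki xi13 yi18 zi27) (ki xi13 yi18 zi28) (ki xi11 yi13 zi31)) (@D3.rec (fun _ => Pt) (ki xi11 yi14 zi0) (ki xi13 yi17 zi30) (ki xi13 yi17 zi31) (ki xi13 yi19 zi2) (ki xi13 yi19 zi3) (ki xi13 yi19 zi4) (ki xi11 yi14 zi3) (ki xi11 yi14 zi4) (ki xi13 yi19 zi6) (ki xi11 yi14 zi6) (ki xi13 yi18 zi5) (ki xi13 yi18 zi6) (ki xi13 yi18 zi7) (ki xi13 yi11 zi30) (ki xi11 yi18 zi25) (ki xi11 yi18 zi22) (ki xi13 yi19 zi14) (ki xi13 yi19 zi15) (ki xi13 yi19 zi16) (ki xi11 yi14 zi13) (ki xi11 yi14 zi14) (ki xi13 yi19 zi18) (ki xi11 yi14 zi16) (ki xi11 yi14 zi19) (ki xi11 yi14 zi20) (ki xi11 yi14 zi21) (ki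 xi13 yi19 zi21) (ki xi11 yi14 zi24) (ki xi13 yi19 zi23) (ki xi12 yi2 zi2) (ki xi12 yi2 zi3) (ki xi11 yi17 zi31)) (@D3.rec (fun _ => Pt) (ki xi12 yi2 zi4) (ki xi11 yi18 zi0) (ki xi11 yi15 zi14) (ki xi11 yi15 zi16) (ki xi11 yi15 zi19) (ki xi11 yi15 zi21) (ki xi11 yi15 zi22) (ki xi12 yi6 zi26) (ki xi11 yi20 zi28) (ki xi13 yi19 zi29) (ki xi11 yi20 zi27) (ki xi13 yi15 zi31) (ki xi13 yi14 zi4) (ki xi13 yi19 zi30) (ki xi13 yi11 zi3) (ki xi12 yi6 zi27) (ki xi13 yi19 zi31) (ki xi13 yi16 zi11) (ki xi12 yi6 zi25) (ki xi12 yi19 zi19) (ki xi12 yi19 zi20) (ki xi12 yi19 zi21) (ki xi12 yi19 zi22) (ki xi11 yi16 zi8) (ki xi12 yi6 zi30) (ki xi11 yi16 zi11) (ki xi11 yi16 zi12) (ki xi12 yi11 zi8) (ki xi12 yi11 zi11) (ki xi11 yi16 zi22) (ki xi11 yi16 zi28) (ki xi13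 yi16 zi31)) (@D3.rec (fun _ => Pt) (ki xi13 yi20 zi17) (ki xi13 yi20 zi18) (ki xi11 yi16 zi19) (ki xi11 yi16 zi20) (ki xi13 yi16 zi26) (ki xi13 yi20 zi14) (ki xi13 yi20 zi23) (ki xi13 yi20 zi24) (ki xi11 yi16 zi23) (ki xi11 yi16 zi24) (ki xi13 yi20 zi26) (ki xi13 yi13 zi25) (ki xi13 yi16 zi27) (ki xi13 yi20 zi15) (ki xi13 yi19 zi26) (ki xi11 yi16 zi30) (ki xi11 yi16 zi31) (ki xi13 yi21 zi0) (ki xi11 yi17 zi2) (ki xi11 yi17 zi4) (ki xi13 yi11 zi26) (ki xi13 yi17 zi1) (ki xi13 yi12 zi1) (ki xi12 yi15 zi20) (ki xi13 yi19 zi28) (ki xi11 yi17 zi17) (ki xi12 yi21 zi1) (ki xi13 yi2 zi23) (ki xi13 yi21 zi8) (ki xi11 yi17 zi21) (ki xi13 yi21 zi12) (ki xi13 yi21 zi13)) (@D3.rec (fun _ => Pt) (ki xi11 yi17 zi22) (ki xi12 yi20 zi26) (ki xi13 yi21 zi18) (ki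 xi13 yi21 zi19) (ki xi11 yi17 zi24) (ki xi13 yi21 zi21) (ki xi11 yi17 zi25) (ki xi13 yi7 zi10) (ki xi13 yi7 zi11) (ki xi11 yi17 zi28) (ki xi13 yi7 zi13) (ki xi13 yi7 zi14) (ki xi13 yi19 zi27) (ki xi13 yi21 zi28) (ki xi11 yi18 zi23) (ki xi13 yi21 zi31) (ki xi11 yi18 zi2) (ki xi11 yi18 zi29) (ki xi14 yi0 zi4) (ki xi14 yi0 zi5) (ki xi11 yi18 zi4) (ki xi11 yi18 zi5) (ki xi11 yi19 zi3) (ki xi11 yi19 zi4) (ki xi14 yi0 zi10) (ki xi14 yi0 zi11) (ki xi14 yi0 zi12) (ki xi11 yi18 zi8) (ki xi11 yi18 zi9) (ki xi14 yi0 zi14) (ki xi11 yi18 zi11) (ki xi11 yi19 zi12))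
def f_i_13 : D2 → D3 → Pt := @D2.rec (fun _ => D3 → Pt) (@D3.rec (fun _ => Pt) (ki xi11 yi19 zi13) (ki xi11 yi19 zi14) (ki xi11 yi19 zi15) (ki xi14 yi0 zi20) (ki xi14 yi0 zi21) (ki xi14 yi0 zi22) (ki xi11 yi18 zi17) (ki xi11 yi18 zi18) (ki xi14 yi0 zi24) (ki xi11 yi18 zi20) (ki xi13 yi19 zi13) (ki xi13 yi19 zi10) (ki xi13 yi21 zi29) (ki xi13 yi11 zi28) (ki xi14 yi1 zi0) (ki xi14 yi1 zi1) (ki xi11 yi18 zi26) (ki xi11 yi18 zi27) (ki xi14 yi0 zi0) (ki xi14 yi0 zi1) (ki xi14 yi1 zi6) (ki xi14 yi1 zi7) (ki xi14 yi1 zi8) (ki xi11 yi18 zi30) (ki xi11 yi18 zi31) (ki xi14 yi1 zi10) (ki xi11 yi19 zi1) (ki xi14 yi0 zi7) (ki xi14 yi0 zi8) (ki xi14 yi0 zi9) (ki xi11 yi19 zi5) (ki xi11 yi19 zi6)) (@D3.rec (fun _ => Pt) (ki xi11 yi19 zi7) (ki xi14 yi1 zi19)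 (ki xi11 yi19 zi10) (ki xi14 yi1 zi21) (ki xi14 yi0 zi16) (ki xi14 yi0 zi17) (ki xi13 yi18 zi19) (ki xi14 yi0 zi18) (ki xi14 yi0 zi19) (ki xi13 yi18 zi18) (ki xi13 yi18 zi13) (ki xi11 yi19 zi18) (ki xi11 yi19 zi19) (ki xi11 yi19 zi20) (ki xi14 yi2 zi1) (ki xi11 yi19 zi23) (ki xi14 yi2 zi3) (ki xi12 yi1 zi22) (ki xi12 yi1 zi20) (ki xi12 yi1 zi17) (ki xi13 yi1 zi21) (ki xi13 yi1 zi20) (ki xi11 yi20 zi0) (ki xi13 yi16 zi20) (ki xi11 yi20 zi2) (ki xi14 yi2 zi10) (ki xi14 yi2 zi11) (ki xi12 yi2 zi28) (ki xi12 yi2 zi29) (ki xi12 yi2 zi30) (ki xi12 yi2 zi31) (ki xi12 yi15 zi11)) (@D3.rec (fun _ => Pt) (ki xi11 yi20 zi21) (ki xi11 yi20 zi23) (ki xi11 yi20 zi24) (ki xi11 yi20 zi26) (ki xi13 yi16 zi5) (ki xi14 yi2 zi15) (ki xi13 yi16 zi3) (ki xi14 yi2 zi16)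 (ki xi14 yi2 zi17) (ki xi14 yi2 zi18) (ki xi13 yi20 zi0) (ki xi11 yi21 zi1) (ki xi11 yi21 zi3) (ki xi13 yi16 zi8) (ki xi11 yi21 zi4) (ki xi12 yi15 zi16) (ki xi12 yi15 zi24) (ki xi13 yi2 zi26) (ki xi14 yi2 zi27) (ki xi11 yi21 zi10) (ki xi12 yi16 zi19) (ki xi14 yi2 zi29) (ki xi11 yi21 zi12) (ki xi12 yi20 zi27) (ki xi11 yi21 zi15) (ki xi12 yi1 zi3) (ki xi13 yi2 zi17) (ki xi13 yi8 zi28) (ki xi13 yi8 zi29) (ki xi13 yi8 zi30) (ki xi14 yi3 zi5) (ki xi14 yi3 zi6)) (@D3.rec (fun _ => Pt) (ki xi14 yi3 zi7) (ki xi11 yi21 zi21) (ki xi11 yi21 zi22) (ki xi14 yi3 zi9) (ki xi11 yi21 zi24) (ki xi13 yi3 zi5) (ki xi13 yi3 zi6) (ki xi11 yi21 zi27) (ki xi11 yi21 zi28) (ki xi11 yi21 zi29) (ki xi14 yi3 zi16) (ki xi12 yi0 zi0) (ki xi14 yi3 zi18) (ki xi13 yi3 zi13) (ki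 xi13 yi3 zi14) (ki xi13 yi3 zi15) (ki xi13 yi3 zi16) (ki xi13 yi3 zi17) (ki xi13 yi3 zi19) (ki xi13 yi3 zi18) (ki xi12 yi0 zi8) (ki xi13 yi16 zi23) (ki xi12 yi0 zi10) (ki xi13 yi16 zi22) (ki xi14 yi3 zi28) (ki xi13 yi3 zi25) (ki xi13 yi3 zi26) (ki xi13 yi3 zi27) (ki xi13 yi3 zi28) (ki xi12 yi7 zi3) (ki xi12 yi7 zi2) (ki xi12 yi0 zi20)) (@D3.rec (fun _ => Pt) (ki xi14 yi4 zi2) (ki xi12 yi0 zi22) (ki xi13 yi16 zi21) (ki xi14 yi2 zi31) (ki xi12 yi3 zi11) (ki xi12 yi3 zi12) (ki xi12 yi3 zi13) (ki xi12 yi3 zi14) (ki xi13 yi4 zi9) (ki xi13 yi4 zi8) (ki xi13 yi12 zi25) (ki xi13 yi4 zi11) (ki xi13 yi4 zi12) (ki xi13 yi4 zi13) (ki xi13 yi4 zi14) (ki xi13 yi4 zi15) (ki xi13 yi4 zi16) (ki xi13 yi4 zi17) (ki xi13 yi4 zi18) (ki xi14 yi2 zi6) (ki xi14 yi2 zi5)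 (ki xi14 yi4 zi10) (ki xi12 yi1 zi21) (ki xi12 yi1 zi25) (ki xi12 yi1 zi29) (ki xi12 yi2 zi1) (ki xi13 yi4 zi26) (ki xi13 yi4 zi27) (ki xi14 yi4 zi13) (ki xi14 yi4 zi14) (ki xi12 yi2 zi8) (ki xi12 yi2 zi9)) (@D3.rec (fun _ => Pt) (ki xi14 yi4 zi16) (ki xi13 yi5 zi1) (ki xi13 yi5 zi2) (ki xi13 yi5 zi3) (ki xi13 yi5 zi4) (ki xi12 yi2 zi16) (ki xi12 yi2 zi17) (ki xi12 yi2 zi18) (ki xi14 yi4 zi25) (ki xi12 yi2 zi21) (ki xi12 yi2 zi27) (ki xi13 yi5 zi11) (ki xi13 yi5 zi12) (ki xi13 yi5 zi13) (ki xi13 yi5 zi14) (ki xi13 yi5 zi15) (ki xi12 yi3 zi9) (ki xi14 yi4 zi29) (ki xi12 yi3 zi15) (ki xi14 yi4 zi31) (ki xi14 yi5 zi0) (ki xi12 yi3 zi16) (ki xi12 yi16 zi26) (ki xi12 yi3 zi18) (ki xi12 yi16 zi28) (ki xi12 yi3 zi28) (ki xi14 yi5 zi6) (ki xi12 yi3 zi22)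 (ki xi12 yi4 zi1) (ki xi12 yi4 zi2) (ki xi12 yi4 zi4) (ki xi14 yi5 zi11)) (@D3.rec (fun _ => Pt) (ki xi12 yi3 zi26) (ki xi13 yi14 zi1) (ki xi14 yi5 zi5) (ki xi14 yi5 zi16) (ki xi14 yi5 zi17) (ki xi12 yi3 zi29) (ki xi12 yi3 zi30) (ki xi14 yi5 zi19) (ki xi13 yi13 zi27) (ki xi14 yi5 zi8) (ki xi14 yi5 zi9) (ki xi13 yi15 zi30) (ki xi14 yi5 zi10) (ki xi12 yi4 zi5) (ki xi12 yi4 zi6) (ki xi12 yi4 zi7) (ki xi14 yi5 zi29) (ki xi12 yi4 zi10) (ki xi14 yi5 zi31) (ki xi13 yi6 zi19) (ki xi13 yi6 zi20) (ki xi13 yi6 zi21) (ki xi13 yi6 zi22) (ki xi13 yi6 zi23) (ki xi13 yi6 zi24) (ki xi12 yi4 zi25) (ki xi12 yi4 zi27) (ki xi12 yi4 zi29) (ki xi13 yi14 zi5) (ki xi14 yi6 zi7) (ki xi14 yi6 zi8) (ki xi13 yi16 zi0)) (@D3.rec (fun _ => Pt) (ki xi13 yi16 zi1) (ki xi13 yi16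 zi10) (ki xi14 yi6 zi9) (ki xi13 yi7 zi3) (ki xi13 yi7 zi4) (ki xi14 yi6 zi16) (ki xi14 yi6 zi17) (ki xi12 yi5 zi7) (ki xi14 yi6 zi19) (ki xi12 yi5 zi8) (ki xi12 yi21 zi7) (ki xi12 yi21 zi8) (ki xi12 yi5 zi11) (ki xi12 yi21 zi10) (ki xi12 yi21 zi11) (ki xi14 yi6 zi26) (ki xi14 yi6 zi27) (ki xi12 yi5 zi14) (ki xi12 yi5 zi15) (ki xi14 yi6 zi29) (ki xi12 yi5 zi29) (ki xi12 yi5 zi30) (ki xi12 yi5 zi31) (ki xi12 yi6 zi1) (ki xi12 yi6 zi2) (ki xi12 yi5 zi22) (ki xi12 yi5 zi23) (ki xi12 yi5 zi24) (ki xi14 yi7 zi6) (ki xi12 yi5 zi27) (ki xi14 yi7 zi8) (ki xi13 yi14 zi11)) (@D3.rec (fun _ => Pt) (ki xi14 yi6 zi31) (ki xi14 yi7 zi0) (ki xi14 yi7 zi1) (ki xi14 yi7 zi2) (ki xi13 yi16 zi4) (ki xi14 yi7 zi3) (ki xi13 yi18 zi11) (ki xi13 yi20 zi6) (ki xi14 yi2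 zi0) (ki xi14 yi1 zi31) (ki xi12 yi6 zi6) (ki xi14 yi7 zi24) (ki xi12 yi6 zi8) (ki xi14 yi7 zi27) (ki xi14 yi7 zi28) (ki xi13 yi8 zi15) (ki xi13 yi8 zi16) (ki xi13 yi8 zi17) (ki xi13 yi8 zi18) (ki xi13 yi8 zi19) (ki xi13 yi8 zi20) (ki xi13 yi8 zi21) (ki xi13 yi8 zi22) (ki xi13 yi8 zi23) (ki xi12 yi9 zi3) (ki xi13 yi8 zi25) (ki xi13 yi20 zi5) (ki xi13 yi20 zi3) (ki xi13 yi2 zi27) (ki xi13 yi2 zi28) (ki xi13 yi2 zi29) (ki xi14 yi4 zi1)) (@D3.rec (fun _ => Pt) (ki xi14 yi4 zi0) (ki xi12 yi7 zi5) (ki xi14 yi8 zi11) (ki xi14 yi8 zi12) (ki xi12 yi7 zi7) (ki xi12 yi7 zi8) (ki xi14 yi8 zi14) (ki xi14 yi8 zi15) (ki xi13 yi9 zi8) (ki xi13 yi9 zi9) (ki xi13 yi9 zi10) (ki xi14 yi8 zi19) (ki xi14 yi8 zi20) (ki xi12 yi7 zi18) (ki xi14 yi8 zi22) (ki xi14 yi8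 zi23) (ki xi12 yi7 zi19) (ki xi13 yi16 zi24) (ki xi12 yi7 zi21) (ki xi12 yi13 zi13) (ki xi12 yi7 zi24) (ki xi12 yi8 zi12) (ki xi12 yi7 zi26) (ki xi14 yi8 zi30) (ki xi12 yi7 zi27) (ki xi12 yi8 zi16) (ki xi12 yi8 zi17) (ki xi12 yi7 zi31) (ki xi14 yi9 zi3) (ki xi12 yi8 zi0) (ki xi12 yi8 zi23) (ki xi14 yi9 zi6)) (@D3.rec (fun _ => Pt) (ki xi14 yi9 zi7) (ki xi12 yi8 zi2) (ki xi12 yi8 zi3) (ki xi12 yi8 zi29) (ki xi12 yi8 zi30) (ki xi12 yi9 zi0) (ki xi12 yi9 zi1) (ki xi12 yi8 zi8) (ki xi12 yi8 zi9) (ki xi14 yi8 zi28) (ki xi12 yi16 zi6) (ki xi12 yi8 zi13) (ki xi14 yi8 zi29) (ki xi14 yi8 zi31) (ki xi14 yi9 zi0) (ki xi14 yi9 zi1) (ki xi14 yi9 zi23) (ki xi12 yi8 zi18) (ki xi14 yi9 zi2) (ki xi14 yi9 zi26) (ki xi14 yi2 zi14) (ki xi12 yi8 zi20) (ki xi12 yi8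 zi21) (ki xi14 yi9 zi4) (ki xi14 yi9 zi5) (ki xi14 yi8 zi5) (ki xi14 yi10 zi0) (ki xi14 yi10 zi1) (ki xi12 yi8 zi24) (ki xi12 yi8 zi25) (ki xi14 yi10 zi3) (ki xi12 yi8 zi27)) (@D3.rec (fun _ => Pt) (ki xi14 yi9 zi9) (ki xi14 yi9 zi10) (ki xi14 yi9 zi11) (ki xi12 yi19 zi14) (ki xi14 yi9 zi12) (ki xi14 yi9 zi13) (ki xi13 yi11 zi6) (ki xi12 yi9 zi4) (ki xi12 yi9 zi5) (ki xi14 yi10 zi13) (ki xi12 yi9 zi8) (ki xi14 yi10 zi14) (ki xi13 yi11 zi12) (ki xi13 yi11 zi13) (ki xi13 yi11 zi14) (ki xi12 yi9 zi28) (ki xi12 yi9 zi29) (ki xi12 yi9 zi30) (ki xi12 yi10 zi0) (ki xi12 yi10 zi2) (ki xi12 yi10 zi3) (ki xi12 yi10 zi5) (ki xi12 yi10 zi7) (ki xi12 yi10 zi8) (ki xi12 yi17 zi15) (ki xi12 yi16 zi12) (ki xi12 yi20 zi20) (ki xi14 yi10 zi18) (ki xi13 yi0 zi13)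 (ki xi14 yi10 zi19) (ki xi12 yi18 zi13) (ki xi14 yi10 zi20)) (@D3.rec (fun _ => Pt) (ki xi14 yi10 zi21) (ki xi12 yi20 zi22) (ki xi14 yi10 zi22) (ki xi13 yi12 zi3) (ki xi13 yi12 zi4) (ki xi13 yi12 zi5) (ki xi13 yi12 zi6) (ki xi12 yi10 zi26) (ki xi12 yi14 zi22) (ki xi12 yi10 zi29) (ki xi13 yi16 zi15) (ki xi12 yi10 zi31) (ki xi13 yi16 zi30) (ki xi14 yi10 zi31) (ki xi12 yi11 zi2) (ki xi14 yi11 zi1) (ki xi12 yi11 zi3) (ki xi13 yi20 zi10) (ki xi14 yi11 zi4) (ki xi12 yi11 zi5) (ki xi14 yi11 zi6) (ki xi12 yi11 zi6) (ki xi13 yi20 zi11) (ki xi13 yi20 zi12) (ki xi12 yi11 zi9) (ki xi13 yi4 zi10) (ki xi13 yi20 zi13) (ki xi12 yi12 zi4) (ki xi12 yi12 zi9) (ki xi12 yi11 zi15) (ki xi12 yi12 zi14) (ki xi12 yi12 zi15)) (@D3.rec (fun _ => Pt) (ki xi12 yi12 zi18)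 (ki xi12 yi12 zi22) (ki xi14 yi11 zi20) (ki xi14 yi11 zi21) (ki xi12 yi11 zi20) (ki xi12 yi11 zi21) (ki xi12 yi12 zi28) (ki xi12 yi12 zi29) (ki xi14 yi11 zi26) (ki xi14 yi11 zi27) (ki xi14 yi11 zi28) (ki xi12 yi11 zi24) (ki xi12 yi11 zi25) (ki xi14 yi11 zi30) (ki xi12 yi11 zi27) (ki xi12 yi13 zi5) (ki xi12 yi13 zi6) (ki xi12 yi13 zi7) (ki xi12 yi13 zi8) (ki xi12 yi13 zi9) (ki xi12 yi13 zi10) (ki xi12 yi12 zi2) (ki xi12 yi15 zi31) (ki xi14 yi11 zi13) (ki xi12 yi16 zi7) (ki xi12 yi20 zi11) (ki xi12 yi12 zi7) (ki xi13 yi6 zi8) (ki xi14 yi11 zi14) (ki xi14 yi12 zi15) (ki xi12 yi12 zi10) (ki xi14 yi8 zi24)) (@D3.rec (fun _ => Pt) (ki xi12 yi12 zi12) (ki xi13 yi6 zi1) (ki xi14 yi11 zi16) (ki xi14 yi11 zi17) (ki xi12 yi19 zi12) (ki xi13 yi6 zi28) (ki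 xi14 yi11 zi18) (ki xi14 yi12 zi26) (ki xi14 yi12 zi27) (ki xi12 yi12 zi19) (ki xi12 yi12 zi20) (ki xi13 yi7 zi31) (ki xi14 yi11 zi19) (ki xi14 yi13 zi0) (ki xi14 yi13 zi1) (ki xi14 yi13 zi2) (ki xi12 yi12 zi23) (ki xi12 yi12 zi24) (ki xi14 yi13 zi4) (ki xi12 yi12 zi26) (ki xi14 yi11 zi23) (ki xi14 yi11 zi24) (ki xi14 yi11 zi25) (ki xi12 yi12 zi30) (ki xi12 yi12 zi31) (ki xi12 yi13 zi0) (ki xi14 yi13 zi13) (ki xi12 yi13 zi3) (ki xi14 yi13 zi15) (ki xi14 yi12 zi0) (ki xi14 yi12 zi1) (ki xi14 yi12 zi2)) (@D3.rec (fun _ => Pt) (ki xi14 yi12 zi3) (ki xi14 yi12 zi4) (ki xi14 yi12 zi5) (ki xi14 yi12 zi6) (ki xi12 yi13 zi11) (ki xi14 yi8 zi26) (ki xi14 yi8 zi27) (ki xi13 yi15 zi7) (ki xi13 yi15 zi8) (ki xi13 yi15 zi9) (ki xi13 yi15 zi10) (ki xi13 yi15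 zi11) (ki xi14 yi4 zi24) (ki xi14 yi4 zi23) (ki xi12 yi13 zi22) (ki xi14 yi14 zi4) (ki xi12 yi13 zi24) (ki xi14 yi14 zi6) (ki xi14 yi14 zi7) (ki xi13 yi15 zi19) (ki xi13 yi15 zi20) (ki xi13 yi15 zi21) (ki xi13 yi15 zi22) (ki xi13 yi15 zi23) (ki xi13 yi15 zi24) (ki xi12 yi14 zi15) (ki xi12 yi14 zi19) (ki xi12 yi14 zi20) (ki xi12 yi14 zi24) (ki xi12 yi14 zi25) (ki xi13 yi6 zi11) (ki xi12 yi19 zi11)) (@D3.rec (fun _ => Pt) (ki xi13 yi6 zi31) (ki xi13 yi7 zi0) (ki xi14 yi14 zi13) (ki xi13 yi2 zi6) (ki xi13 yi8 zi4) (ki xi13 yi2 zi4) (ki xi14 yi10 zi26) (ki xi14 yi14 zi14) (ki xi13 yi2 zi13) (ki xi12 yi15 zi9) (ki xi13 yi7 zi1) (ki xi12 yi19 zi17) (ki xi14 yi14 zi15) (ki xi14 yi14 zi16) (ki xi13 yi16 zi14) (ki xi13 yi12 zi10) (ki xi14 yi2 zi24) (ki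 xi14 yi2 zi25) (ki xi12 yi15 zi17) (ki xi13 yi17 zi8) (ki xi13 yi1 zi23) (ki xi13 yi4 zi2) (ki xi13 yi3 zi23) (ki xi13 yi3 zi21) (ki xi13 yi9 zi17) (ki xi12 yi16 zi2) (ki xi12 yi20 zi4) (ki xi12 yi20 zi12) (ki xi14 yi9 zi15) (ki xi14 yi12 zi8) (ki xi13 yi12 zi12) (ki xi12 yi19 zi31)) (@D3.rec (fun _ => Pt) (ki xi14 yi14 zi29) (ki xi12 yi20 zi21) (ki xi14 yi9 zi17) (ki xi14 yi12 zi10) (ki xi13 yi17 zi4) (ki xi13 yi17 zi5) (ki xi13 yi17 zi6) (ki xi12 yi16 zi13) (ki xi13 yi16 zi19) (ki xi12 yi16 zi15) (ki xi12 yi16 zi16) (ki xi13 yi21 zi9) (ki xi14 yi2 zi28) (ki xi14 yi15 zi13) (ki xi12 yi16 zi20) (ki xi14 yi15 zi15) (ki xi12 yi16 zi21) (ki xi14 yi4 zi30) (ki xi14 yi15 zi18) (ki xi12 yi16 zi23) (ki xi12 yi16 zi24) (ki xi14 yi5 zi1) (ki xi14 yi5 zi2)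 (ki xi14 yi5 zi3) (ki xi14 yi5 zi4) (ki xi12 yi17 zi14) (ki xi12 yi17 zi18) (ki xi12 yi17 zi24) (ki xi12 yi17 zi28) (ki xi12 yi17 zi2) (ki xi12 yi18 zi1) (ki xi12 yi18 zi2)) (@D3.rec (fun _ => Pt) (ki xi14 yi16 zi1) (ki xi14 yi16 zi2) (ki xi12 yi17 zi5) (ki xi12 yi17 zi6) (ki xi14 yi16 zi4) (ki xi12 yi18 zi10) (ki xi12 yi18 zi11) (ki xi12 yi18 zi12) (ki xi12 yi17 zi12) (ki xi14 yi9 zi14) (ki xi14 yi15 zi25) (ki xi13 yi8 zi6) (ki xi12 yi17 zi16) (ki xi13 yi1 zi10) (ki xi14 yi15 zi26) (ki xi12 yi17 zi19) (ki xi12 yi17 zi20) (ki xi14 yi16 zi18) (ki xi13 yi1 zi9) (ki xi13 yi1 zi6) (ki xi14 yi15 zi27) (ki xi14 yi16 zi23) (ki xi12 yi17 zi26) (ki xi14 yi12 zi18) (ki xi14 yi15 zi28) (ki xi14 yi16 zi28) (ki xi14 yi16 zi29) (ki xi12 yi17 zi29) (ki xi12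 yi17 zi30) (ki xi14 yi16 zi31) (ki xi14 yi10 zi5) (ki xi14 yi15 zi30)) (@D3.rec (fun _ => Pt) (ki xi14 yi15 zi31) (ki xi14 yi16 zi0) (ki xi12 yi18 zi3) (ki xi12 yi18 zi4) (ki xi12 yi18 zi5) (ki xi14 yi17 zi8) (ki xi12 yi18 zi8) (ki xi14 yi17 zi10) (ki xi14 yi9 zi28) (ki xi14 yi16 zi6) (ki xi13 yi0 zi11) (ki xi14 yi16 zi7) (ki xi14 yi16 zi8) (ki xi13 yi0 zi10) (ki xi12 yi18 zi16) (ki xi12 yi18 zi17) (ki xi12 yi18 zi18) (ki xi14 yi17 zi21) (ki xi12 yi18 zi21) (ki xi13 yi19 zi20) (ki xi13 yi19 zi19) (ki xi12 yi18 zi26) (ki xi14 yi14 zi25) (ki xi12 yi18 zi28) (ki xi14 yi17 zi24) (ki xi14 yi17 zi25) (ki xi12 yi20 zi14) (ki xi12 yi21 zi12) (ki xi12 yi20 zi24) (ki xi12 yi19 zi9) (ki xi12 yi19 zi13) (ki xi12 yi19 zi16)) (@D3.rec (fun _ => Pt) (ki xi13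 yi2 zi10) (ki xi14 yi17 zi27) (ki xi14 yi14 zi18) (ki xi13 yi8 zi27) (ki xi14 yi17 zi28) (ki xi13 yi8 zi26) (ki xi13 yi8 zi7) (ki xi14 yi14 zi24) (ki xi13 yi20 zi8) (ki xi13 yi20 zi9) (ki xi13 yi12 zi17) (ki xi13 yi12 zi22) (ki xi13 yi12 zi23) (ki xi13 yi12 zi26) (ki xi12 yi20 zi5) (ki xi12 yi20 zi13) (ki xi14 yi15 zi4) (ki xi12 yi20 zi0) (ki xi12 yi20 zi1) (ki xi14 yi18 zi12) (ki xi14 yi9 zi18) (ki xi14 yi14 zi30) (ki xi14 yi18 zi8) (ki xi12 yi20 zi6) (ki xi12 yi20 zi7) (ki xi14 yi18 zi19) (ki xi12 yi20 zi10) (ki xi14 yi18 zi21) (ki xi14 yi12 zi11) (ki xi14 yi14 zi31) (ki xi14 yi18 zi9) (ki xi14 yi17 zi22)) (@D3.rec (fun _ => Pt) (ki xi12 yi20 zi17) (ki xi14 yi8 zi6) (ki xi14 yi15 zi6) (ki xi14 yi18 zi27) (ki xi13 yi21 zi14) (ki xi13 yi21 zi15)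 (ki xi14 yi2 zi30) (ki xi14 yi18 zi31) (ki xi12 yi20 zi28) (ki xi13 yi17 zi11) (ki xi14 yi19 zi2) (ki xi14 yi19 zi3) (ki xi12 yi20 zi30) (ki xi12 yi20 zi31) (ki xi13 yi21 zi4) (ki xi13 yi21 zi5) (ki xi14 yi19 zi8) (ki xi14 yi19 zi9) (ki xi12 yi21 zi2) (ki xi12 yi21 zi3) (ki xi14 yi19 zi11) (ki xi12 yi21 zi5) (ki xi14 yi6 zi20) (ki xi14 yi6 zi21) (ki xi14 yi6 zi22) (ki xi14 yi6 zi23) (ki xi14 yi6 zi24) (ki xi14 yi6 zi25) (ki xi12 yi21 zi13) (ki xi13 yi0 zi12) (ki xi14 yi19 zi23) (ki xi12 yi21 zi15))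
def f_i_14 : D2 → D3 → Pt := @D2.rec (fun _ => D3 → Pt) (@D3.rec (fun _ => Pt) (ki xi13 yi0 zi18) (ki xi13 yi0 zi19) (ki xi14 yi19 zi27) (ki xi14 yi19 zi28) (ki xi12 yi21 zi18) (ki xi12 yi21 zi19) (ki xi14 yi19 zi30) (ki xi13 yi0 zi27) (ki xi13 yi0 zi28) (ki xi13 yi0 zi29) (ki xi12 yi21 zi24) (ki xi12 yi21 zi25) (ki xi12 yi21 zi26) (ki xi14 yi20 zi6) (ki xi12 yi21 zi29) (ki xi14 yi20 zi8) (ki xi13 yi1 zi4) (ki xi13 yi1 zi5) (ki xi13 yi1 zi7) (ki xi13 yi1 zi8) (ki xi13 yi0 zi3) (ki xi13 yi0 zi4) (ki xi13 yi0 zi5) (ki xi14 yi20 zi16) (ki xi13 yi0 zi8) (ki xi14 yi20 zi18) (ki xi14 yi9 zi24) (ki xi14 yi17 zi14) (ki xi14 yi17 zi16) (ki xi14 yi19 zi22) (ki xi14 yi20 zi24) (ki xi14 yi20 zi25)) (@D3.rec (fun _ => Pt) (ki xi13 yi0 zi14) (ki xi13 yi0 zi15)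 (ki xi14 yi20 zi27) (ki xi14 yi13 zi6) (ki xi14 yi19 zi25) (ki xi14 yi19 zi26) (ki xi13 yi0 zi20) (ki xi13 yi0 zi21) (ki xi13 yi0 zi22) (ki xi14 yi21 zi3) (ki xi13 yi0 zi25) (ki xi14 yi21 zi5) (ki xi14 yi12 zi29) (ki xi14 yi20 zi0) (ki xi14 yi20 zi1) (ki xi14 yi20 zi2) (ki xi14 yi20 zi3) (ki xi14 yi1 zi18) (ki xi14 yi1 zi17) (ki xi13 yi1 zi1) (ki xi14 yi21 zi17) (ki xi13 yi1 zi3) (ki xi14 yi21 zi20) (ki xi14 yi21 zi21) (ki xi14 yi20 zi10) (ki xi14 yi16 zi20) (ki xi14 yi20 zi11) (ki xi14 yi16 zi14) (ki xi14 yi16 zi21) (ki xi14 yi20 zi12) (ki xi14 yi20 zi13) (ki xi13 yi8 zi9)) (@D3.rec (fun _ => Pt) (ki xi13 yi8 zi8) (ki xi13 yi1 zi14) (ki xi15 yi0 zi1) (ki xi13 yi1 zi16) (ki xi15 yi0 zi3) (ki xi13 yi4 zi20) (ki xi13 yi4 zi19) (ki xi14 yi2 zi8)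 (ki xi14 yi2 zi7) (ki xi14 yi11 zi2) (ki xi13 yi1 zi25) (ki xi13 yi1 zi26) (ki xi14 yi11 zi7) (ki xi14 yi19 zi5) (ki xi13 yi10 zi20) (ki xi13 yi2 zi5) (ki xi13 yi2 zi7) (ki xi13 yi2 zi8) (ki xi13 yi2 zi9) (ki xi14 yi14 zi21) (ki xi15 yi0 zi6) (ki xi15 yi0 zi7) (ki xi15 yi0 zi8) (ki xi14 yi17 zi29) (ki xi13 yi16 zi16) (ki xi13 yi16 zi17) (ki xi14 yi3 zi0) (ki xi13 yi2 zi18) (ki xi13 yi17 zi12) (ki xi13 yi2 zi21) (ki xi13 yi21 zi6) (ki xi13 yi4 zi3)) (@D3.rec (fun _ => Pt) (ki xi14 yi2 zi26) (ki xi14 yi8 zi7) (ki xi14 yi8 zi8) (ki xi14 yi8 zi9) (ki xi14 yi8 zi10) (ki xi13 yi2 zi30) (ki xi13 yi2 zi31) (ki xi13 yi3 zi0) (ki xi15 yi0 zi18) (ki xi13 yi3 zi3) (ki xi15 yi0 zi20) (ki xi14 yi3 zi11) (ki xi14 yi3 zi12) (ki xi14 yi3 zi13) (ki xi14 yi3 zi15)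 (ki xi14 yi3 zi14) (ki xi13 yi3 zi10) (ki xi14 yi14 zi27) (ki xi13 yi3 zi12) (ki xi15 yi0 zi28) (ki xi15 yi0 zi29) (ki xi14 yi3 zi21) (ki xi14 yi3 zi22) (ki xi14 yi3 zi23) (ki xi14 yi3 zi24) (ki xi14 yi3 zi25) (ki xi14 yi3 zi27) (ki xi14 yi3 zi26) (ki xi13 yi3 zi24) (ki xi14 yi11 zi11) (ki xi14 yi14 zi26) (ki xi14 yi3 zi31)) (@D3.rec (fun _ => Pt) (ki xi13 yi9 zi0) (ki xi13 yi8 zi31) (ki xi13 yi4 zi0) (ki xi14 yi4 zi4) (ki xi14 yi4 zi3) (ki xi14 yi11 zi10) (ki xi14 yi4 zi6) (ki xi14 yi4 zi7) (ki xi14 yi4 zi8) (ki xi14 yi4 zi9) (ki xi13 yi4 zi21) (ki xi14 yi4 zi11) (ki xi14 yi4 zi12) (ki xi13 yi4 zi28) (ki xi13 yi4 zi29) (ki xi15 yi1 zi8) (ki xi13 yi5 zi0) (ki xi15 yi1 zi10) (ki xi14 yi4 zi18) (ki xi14 yi4 zi19) (ki xi14 yi4 zi20) (ki xi14 yi4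 zi21) (ki xi14 yi4 zi22) (ki xi13 yi15 zi13) (ki xi13 yi15 zi12) (ki xi13 yi5 zi8) (ki xi14 yi4 zi26) (ki xi14 yi4 zi27) (ki xi14 yi4 zi28) (ki xi13 yi5 zi17) (ki xi13 yi17 zi17) (ki xi13 yi5 zi19)) (@D3.rec (fun _ => Pt) (ki xi13 yi5 zi20) (ki xi13 yi17 zi21) (ki xi13 yi17 zi22) (ki xi13 yi17 zi23) (ki xi13 yi17 zi24) (ki xi13 yi6 zi2) (ki xi13 yi5 zi26) (ki xi15 yi1 zi30) (ki xi13 yi6 zi9) (ki xi13 yi6 zi10) (ki xi13 yi6 zi12) (ki xi13 yi5 zi31) (ki xi15 yi2 zi4) (ki xi14 yi12 zi19) (ki xi15 yi1 zi28) (ki xi15 yi1 zi29) (ki xi13 yi6 zi3) (ki xi13 yi6 zi4) (ki xi15 yi2 zi11) (ki xi13 yi6 zi7) (ki xi15 yi2 zi13) (ki xi14 yi12 zi13) (ki xi15 yi2 zi0) (ki xi15 yi2 zi1) (ki xi15 yi2 zi2) (ki xi14 yi14 zi17) (ki xi15 yi2 zi3) (ki xi14 yi17 zi20) (ki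 xi14 yi17 zi19) (ki xi13 yi6 zi16) (ki xi15 yi2 zi24) (ki xi13 yi6 zi18)) (@D3.rec (fun _ => Pt) (ki xi15 yi2 zi26) (ki xi15 yi2 zi27) (ki xi14 yi6 zi2) (ki xi14 yi6 zi3) (ki xi14 yi6 zi4) (ki xi14 yi6 zi5) (ki xi14 yi6 zi6) (ki xi13 yi6 zi29) (ki xi13 yi6 zi30) (ki xi13 yi7 zi2) (ki xi14 yi12 zi23) (ki xi14 yi12 zi24) (ki xi15 yi3 zi0) (ki xi14 yi14 zi23) (ki xi14 yi14 zi19) (ki xi14 yi6 zi15) (ki xi13 yi7 zi5) (ki xi13 yi7 zi6) (ki xi15 yi3 zi6) (ki xi13 yi7 zi8) (ki xi13 yi21 zi22) (ki xi13 yi21 zi23) (ki xi13 yi21 zi24) (ki xi13 yi21 zi25) (ki xi13 yi21 zi26) (ki xi13 yi21 zi27) (ki xi13 yi7 zi15) (ki xi13 yi7 zi16) (ki xi15 yi3 zi18) (ki xi13 yi7 zi19) (ki xi15 yi3 zi20) (ki xi13 yi8 zi0)) (@D3.rec (fun _ => Pt) (ki xi13 yi8 zi1) (ki xi13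 yi8 zi2) (ki xi13 yi8 zi3) (ki xi13 yi8 zi5) (ki xi14 yi20 zi15) (ki xi14 yi20 zi14) (ki xi13 yi7 zi28) (ki xi15 yi3 zi30) (ki xi13 yi7 zi30) (ki xi15 yi4 zi1) (ki xi15 yi4 zi2) (ki xi14 yi12 zi30) (ki xi15 yi3 zi23) (ki xi15 yi3 zi24) (ki xi14 yi17 zi2) (ki xi15 yi3 zi25) (ki xi15 yi3 zi26) (ki xi15 yi3 zi27) (ki xi14 yi14 zi20) (ki xi14 yi18 zi0) (ki xi14 yi16 zi12) (ki xi14 yi17 zi31) (ki xi15 yi0 zi0) (ki xi14 yi21 zi31) (ki xi13 yi8 zi11) (ki xi15 yi4 zi18) (ki xi15 yi4 zi19) (ki xi13 yi8 zi13) (ki xi13 yi8 zi14) (ki xi15 yi4 zi22) (ki xi15 yi4 zi23) (ki xi14 yi7 zi31)) (@D3.rec (fun _ => Pt) (ki xi14 yi8 zi0) (ki xi14 yi8 zi1) (ki xi14 yi8 zi2) (ki xi14 yi8 zi3) (ki xi14 yi8 zi4) (ki xi13 yi10 zi25) (ki xi13 yi21 zi1) (ki xi14 yi3 zi1) (ki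 xi14 yi3 zi2) (ki xi14 yi3 zi3) (ki xi14 yi3 zi4) (ki xi13 yi9 zi2) (ki xi13 yi9 zi3) (ki xi15 yi4 zi31) (ki xi13 yi9 zi6) (ki xi13 yi9 zi7) (ki xi15 yi5 zi0) (ki xi15 yi5 zi1) (ki xi14 yi8 zi18) (ki xi13 yi9 zi11) (ki xi13 yi9 zi12) (ki xi14 yi12 zi7) (ki xi13 yi9 zi14) (ki xi13 yi9 zi15) (ki xi13 yi13 zi31) (ki xi14 yi14 zi28) (ki xi13 yi15 zi5) (ki xi13 yi15 zi6) (ki xi13 yi10 zi9) (ki xi13 yi10 zi12) (ki xi13 yi9 zi23) (ki xi13 yi10 zi13)) (@D3.rec (fun _ => Pt) (ki xi13 yi10 zi14) (ki xi13 yi10 zi15) (ki xi13 yi10 zi18) (ki xi13 yi9 zi28) (ki xi13 yi10 zi23) (ki xi13 yi10 zi24) (ki xi13 yi9 zi31) (ki xi13 yi10 zi0) (ki xi15 yi5 zi24) (ki xi13 yi11 zi0) (ki xi13 yi11 zi1) (ki xi13 yi11 zi2) (ki xi13 yi11 zi4) (ki xi13 yi11 zi5) (ki xi13 yi18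 zi9) (ki xi13 yi16 zi28) (ki xi15 yi5 zi12) (ki xi13 yi17 zi2) (ki xi13 yi20 zi20) (ki xi15 yi5 zi13) (ki xi15 yi5 zi15) (ki xi15 yi5 zi16) (ki xi15 yi5 zi17) (ki xi13 yi10 zi16) (ki xi14 yi0 zi26) (ki xi15 yi5 zi18) (ki xi13 yi10 zi19) (ki xi15 yi0 zi4) (ki xi13 yi19 zi8) (ki xi15 yi5 zi20) (ki xi15 yi5 zi21) (ki xi15 yi5 zi22)) (@D3.rec (fun _ => Pt) (ki xi13 yi10 zi26) (ki xi13 yi10 zi27) (ki xi15 yi6 zi21) (ki xi13 yi10 zi30) (ki xi15 yi6 zi23) (ki xi13 yi18 zi30) (ki xi15 yi5 zi26) (ki xi15 yi5 zi27) (ki xi15 yi5 zi28) (ki xi15 yi5 zi29) (ki xi15 yi5 zi30) (ki xi15 yi5 zi31) (ki xi15 yi0 zi2) (ki xi13 yi11 zi9) (ki xi13 yi11 zi11) (ki xi15 yi7 zi2) (ki xi14 yi10 zi16) (ki xi14 yi10 zi17) (ki xi13 yi11 zi27) (ki xi13 yi11 zi29) (ki xi13 yi11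 zi31) (ki xi13 yi12 zi0) (ki xi13 yi12 zi2) (ki xi15 yi7 zi5) (ki xi15 yi7 zi6) (ki xi15 yi7 zi7) (ki xi13 yi16 zi6) (ki xi14 yi10 zi27) (ki xi14 yi10 zi29) (ki xi14 yi10 zi28) (ki xi14 yi15 zi3) (ki xi13 yi12 zi13)) (@D3.rec (fun _ => Pt) (ki xi14 yi15 zi9) (ki xi13 yi12 zi15) (ki xi14 yi2 zi9) (ki xi14 yi18 zi4) (ki xi13 yi12 zi18) (ki xi15 yi5 zi14) (ki xi13 yi12 zi20) (ki xi14 yi2 zi12) (ki xi14 yi18 zi5) (ki xi14 yi18 zi6) (ki xi14 yi4 zi5) (ki xi14 yi3 zi29) (ki xi14 yi18 zi7) (ki xi13 yi13 zi23) (ki xi13 yi13 zi28) (ki xi15 yi5 zi6) (ki xi13 yi14 zi2) (ki xi13 yi14 zi3) (ki xi13 yi14 zi6) (ki xi13 yi14 zi12) (ki xi13 yi13 zi2) (ki xi13 yi13 zi3) (ki xi15 yi8 zi5) (ki xi13 yi14 zi20) (ki xi13 yi14 zi21) (ki xi13 yi14 zi22) (ki xi13 yi13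 zi8) (ki xi13 yi13 zi9) (ki xi13 yi13 zi10) (ki xi15 yi8 zi13) (ki xi13 yi13 zi13) (ki xi15 yi8 zi15)) (@D3.rec (fun _ => Pt) (ki xi13 yi14 zi29) (ki xi13 yi14 zi30) (ki xi13 yi14 zi31) (ki xi13 yi15 zi0) (ki xi13 yi15 zi1) (ki xi13 yi15 zi2) (ki xi13 yi15 zi3) (ki xi14 yi8 zi21) (ki xi13 yi16 zi29) (ki xi15 yi7 zi28) (ki xi13 yi17 zi3) (ki xi13 yi20 zi28) (ki xi15 yi5 zi4) (ki xi14 yi5 zi21) (ki xi15 yi7 zi29) (ki xi13 yi13 zi29) (ki xi15 yi5 zi7) (ki xi15 yi5 zi8) (ki xi13 yi18 zi23) (ki xi14 yi5 zi13) (ki xi15 yi7 zi31) (ki xi15 yi8 zi0) (ki xi15 yi8 zi1) (ki xi14 yi6 zi10) (ki xi14 yi6 zi11) (ki xi15 yi8 zi2) (ki xi13 yi14 zi7) (ki xi13 yi14 zi8) (ki xi15 yi9 zi18) (ki xi14 yi1 zi12) (ki xi14 yi7 zi11) (ki xi15 yi8 zi3)) (@D3.rec (fun _ =>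 Pt) (ki xi13 yi14 zi13) (ki xi13 yi14 zi14) (ki xi13 yi14 zi15) (ki xi15 yi9 zi26) (ki xi13 yi14 zi18) (ki xi15 yi9 zi28) (ki xi14 yi1 zi3) (ki xi15 yi8 zi7) (ki xi15 yi8 zi8) (ki xi15 yi8 zi9) (ki xi15 yi8 zi10) (ki xi14 yi20 zi5) (ki xi14 yi20 zi4) (ki xi13 yi14 zi26) (ki xi15 yi10 zi8) (ki xi13 yi14 zi28) (ki xi15 yi10 zi11) (ki xi15 yi10 zi12) (ki xi15 yi8 zi18) (ki xi15 yi8 zi19) (ki xi15 yi8 zi20) (ki xi15 yi8 zi21) (ki xi15 yi8 zi22) (ki xi15 yi8 zi23) (ki xi15 yi8 zi24) (ki xi15 yi8 zi25) (ki xi15 yi8 zi26) (ki xi15 yi1 zi7) (ki xi15 yi5 zi10) (ki xi15 yi5 zi11) (ki xi14 yi13 zi30) (ki xi14 yi13 zi31)) (@D3.rec (fun _ => Pt) (ki xi14 yi14 zi0) (ki xi14 yi14 zi1) (ki xi14 yi14 zi2) (ki xi15 yi1 zi18) (ki xi13 yi15 zi15) (ki xi15 yi10 zi30)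 (ki xi13 yi15 zi17) (ki xi13 yi15 zi18) (ki xi15 yi11 zi0) (ki xi15 yi11 zi1) (ki xi14 yi14 zi10) (ki xi14 yi14 zi11) (ki xi14 yi14 zi12) (ki xi13 yi16 zi2) (ki xi13 yi16 zi7) (ki xi13 yi16 zi12) (ki xi13 yi16 zi13) (ki xi14 yi5 zi25) (ki xi13 yi20 zi2) (ki xi14 yi6 zi14) (ki xi14 yi7 zi18) (ki xi14 yi2 zi19) (ki xi15 yi7 zi1) (ki xi14 yi6 zi13) (ki xi13 yi20 zi7) (ki xi13 yi19 zi22) (ki xi14 yi3 zi30) (ki xi14 yi3 zi17) (ki xi14 yi8 zi25) (ki xi13 yi17 zi0) (ki xi13 yi20 zi21) (ki xi13 yi20 zi29)) (@D3.rec (fun _ => Pt) (ki xi15 yi6 zi1) (ki xi15 yi8 zi28) (ki xi15 yi8 zi29) (ki xi14 yi10 zi30) (ki xi13 yi20 zi16) (ki xi15 yi11 zi11) (ki xi13 yi21 zi2) (ki xi15 yi6 zi3) (ki xi14 yi15 zi8) (ki xi14 yi11 zi0) (ki xi14 yi15 zi14) (ki xi14 yi19 zi0)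 (ki xi14 yi19 zi1) (ki xi13 yi17 zi13) (ki xi14 yi15 zi10) (ki xi13 yi17 zi15) (ki xi15 yi1 zi20) (ki xi15 yi1 zi21) (ki xi13 yi17 zi18) (ki xi15 yi12 zi1) (ki xi15 yi1 zi23) (ki xi15 yi1 zi24) (ki xi15 yi1 zi25) (ki xi15 yi1 zi26) (ki xi15 yi1 zi27) (ki xi13 yi18 zi10) (ki xi13 yi18 zi14) (ki xi13 yi18 zi20) (ki xi13 yi18 zi24) (ki xi15 yi7 zi20) (ki xi13 yi18 zi31) (ki xi13 yi19 zi0)) (@D3.rec (fun _ => Pt) (ki xi13 yi19 zi1) (ki xi13 yi18 zi0) (ki xi13 yi18 zi1) (ki xi15 yi12 zi21) (ki xi13 yi18 zi4) (ki xi15 yi12 zi23) (ki xi13 yi19 zi9) (ki xi13 yi19 zi11) (ki xi13 yi19 zi12) (ki xi14 yi18 zi11) (ki xi15 yi6 zi0) (ki xi15 yi12 zi10) (ki xi14 yi7 zi20) (ki xi15 yi7 zi18) (ki xi14 yi1 zi27) (ki xi15 yi12 zi11) (ki xi15 yi12 zi12) (ki xi15 yi7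 zi15) (ki xi13 yi18 zi17) (ki xi15 yi13 zi6) (ki xi14 yi1 zi25) (ki xi14 yi1 zi28) (ki xi15 yi12 zi13) (ki xi13 yi18 zi21) (ki xi15 yi13 zi11) (ki xi15 yi9 zi8) (ki xi15 yi12 zi14) (ki xi15 yi12 zi15) (ki xi13 yi18 zi25) (ki xi13 yi18 zi26) (ki xi15 yi13 zi18) (ki xi13 yi18 zi29)) (@D3.rec (fun _ => Pt) (ki xi15 yi13 zi20) (ki xi15 yi6 zi26) (ki xi14 yi7 zi14) (ki xi15 yi12 zi17) (ki xi15 yi12 zi18) (ki xi15 yi12 zi19) (ki xi14 yi17 zi7) (ki xi14 yi17 zi6) (ki xi13 yi19 zi5) (ki xi15 yi14 zi0) (ki xi13 yi19 zi7) (ki xi15 yi14 zi3) (ki xi15 yi14 zi4) (ki xi15 yi6 zi16) (ki xi14 yi0 zi27) (ki xi15 yi12 zi25) (ki xi14 yi0 zi28) (ki xi15 yi12 zi26) (ki xi15 yi12 zi27) (ki xi14 yi5 zi28) (ki xi14 yi5 zi27) (ki xi13 yi19 zi17) (ki xi13 yi20 zi31) (ki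 xi15 yi7 zi13) (ki xi13 yi19 zi24) (ki xi13 yi19 zi25) (ki xi15 yi14 zi13) (ki xi13 yi20 zi1) (ki xi13 yi20 zi4) (ki xi14 yi2 zi23) (ki xi15 yi11 zi6) (ki xi14 yi7 zi21)) (@D3.rec (fun _ => Pt) (ki xi14 yi7 zi19) (ki xi15 yi10 zi2) (ki xi14 yi18 zi2) (ki xi15 yi14 zi18) (ki xi14 yi11 zi3) (ki xi14 yi11 zi8) (ki xi14 yi11 zi9) (ki xi14 yi11 zi12) (ki xi13 yi20 zi22) (ki xi13 yi20 zi30) (ki xi15 yi11 zi20) (ki xi14 yi16 zi9) (ki xi13 yi20 zi19) (ki xi15 yi14 zi27) (ki xi15 yi6 zi4) (ki xi15 yi11 zi12) (ki xi15 yi11 zi13) (ki xi15 yi14 zi23) (ki xi15 yi6 zi10) (ki xi13 yi20 zi25) (ki xi15 yi15 zi4) (ki xi13 yi20 zi27) (ki xi15 yi15 zi6) (ki xi15 yi8 zi31) (ki xi15 yi11 zi14) (ki xi15 yi14 zi24) (ki xi15 yi4 zi28) (ki xi13 yi21 zi3) (ki xi14 yi19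 zi6) (ki xi14 yi19 zi7) (ki xi15 yi0 zi12) (ki xi13 yi21 zi7)) (@D3.rec (fun _ => Pt) (ki xi14 yi15 zi11) (ki xi14 yi15 zi12) (ki xi13 yi21 zi10) (ki xi13 yi21 zi11) (ki xi15 yi15 zi18) (ki xi14 yi2 zi13) (ki xi14 yi18 zi28) (ki xi14 yi18 zi29) (ki xi13 yi21 zi16) (ki xi13 yi21 zi17) (ki xi15 yi15 zi25) (ki xi13 yi21 zi20) (ki xi15 yi15 zi27) (ki xi15 yi3 zi8) (ki xi15 yi3 zi9) (ki xi15 yi3 zi10) (ki xi15 yi3 zi11) (ki xi15 yi3 zi12) (ki xi15 yi3 zi13) (ki xi15 yi3 zi14) (ki xi15 yi3 zi15) (ki xi15 yi3 zi16) (ki xi14 yi0 zi29) (ki xi13 yi21 zi30) (ki xi15 yi16 zi10) (ki xi14 yi1 zi4) (ki xi14 yi1 zi5) (ki xi14 yi0 zi2) (ki xi14 yi0 zi3) (ki xi15 yi16 zi16) (ki xi14 yi0 zi6) (ki xi15 yi16 zi18)) (@D3.rec (fun _ => Pt) (ki xi14 yi1 zi13) (ki xi14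 yi1 zi14) (ki xi14 yi1 zi15) (ki xi14 yi1 zi16) (ki xi14 yi13 zi12) (ki xi14 yi13 zi11) (ki xi14 yi0 zi13) (ki xi15 yi16 zi28) (ki xi14 yi0 zi15) (ki xi15 yi16 zi30) (ki xi14 yi1 zi24) (ki xi14 yi1 zi26) (ki xi14 yi1 zi29) (ki xi14 yi1 zi30) (ki xi14 yi7 zi5) (ki xi14 yi7 zi4) (ki xi14 yi0 zi23) (ki xi15 yi17 zi5) (ki xi14 yi0 zi25) (ki xi15 yi17 zi7) (ki xi15 yi6 zi11) (ki xi15 yi14 zi8) (ki xi15 yi14 zi10) (ki xi15 yi16 zi9) (ki xi14 yi0 zi30) (ki xi14 yi0 zi31) (ki xi15 yi17 zi13) (ki xi14 yi1 zi2) (ki xi15 yi17 zi15) (ki xi15 yi9 zi31) (ki xi15 yi16 zi12) (ki xi15 yi16 zi13)) (@D3.rec (fun _ => Pt) (ki xi15 yi16 zi14) (ki xi14 yi21 zi2) (ki xi14 yi21 zi1) (ki xi14 yi1 zi9) (ki xi15 yi17 zi26) (ki xi14 yi1 zi11) (ki xi15 yi17 zi29) (ki xi15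 yi17 zi30) (ki xi15 yi9 zi20) (ki xi15 yi16 zi21) (ki xi15 yi16 zi22) (ki xi15 yi13 zi1) (ki xi15 yi16 zi23) (ki xi15 yi16 zi24) (ki xi15 yi16 zi25) (ki xi14 yi21 zi16) (ki xi14 yi21 zi15) (ki xi14 yi1 zi20) (ki xi15 yi7 zi16) (ki xi15 yi18 zi11) (ki xi14 yi1 zi22) (ki xi14 yi1 zi23) (ki xi15 yi7 zi21) (ki xi15 yi18 zi14) (ki xi15 yi18 zi15) (ki xi15 yi17 zi0) (ki xi15 yi13 zi8) (ki xi15 yi17 zi1) (ki xi15 yi13 zi2) (ki xi15 yi13 zi9) (ki xi15 yi17 zi2) (ki xi14 yi7 zi23))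
def f_i_15 : D2 → D3 → Pt := @D2.rec (fun _ => D3 → Pt) (@D3.rec (fun _ => Pt) (ki xi14 yi7 zi22) (ki xi14 yi2 zi2) (ki xi14 yi10 zi12) (ki xi14 yi2 zi4) (ki xi14 yi9 zi27) (ki xi15 yi15 zi20) (ki xi14 yi2 zi20) (ki xi14 yi2 zi21) (ki xi14 yi2 zi22) (ki xi15 yi11 zi7) (ki xi15 yi18 zi26) (ki xi15 yi0 zi13) (ki xi14 yi18 zi30) (ki xi15 yi0 zi11) (ki xi15 yi4 zi29) (ki xi15 yi4 zi30) (ki xi15 yi0 zi17) (ki xi15 yi0 zi16) (ki xi14 yi3 zi8) (ki xi15 yi11 zi9) (ki xi14 yi3 zi10) (ki xi15 yi19 zi2) (ki xi15 yi0 zi22) (ki xi15 yi0 zi23) (ki xi15 yi0 zi24) (ki xi15 yi0 zi26) (ki xi15 yi0 zi25) (ki xi15 yi7 zi27) (ki xi14 yi3 zi19) (ki xi14 yi3 zi20) (ki xi15 yi7 zi25) (ki xi15 yi19 zi5)) (@D3.rec (fun _ => Pt) (ki xi15 yi1 zi0) (ki xi15 yi1 zi1) (ki xi15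 yi7 zi26) (ki xi15 yi1 zi3) (ki xi15 yi1 zi4) (ki xi15 yi1 zi5) (ki xi15 yi1 zi6) (ki xi14 yi13 zi27) (ki xi14 yi4 zi15) (ki xi15 yi19 zi12) (ki xi14 yi4 zi17) (ki xi15 yi19 zi14) (ki xi15 yi1 zi12) (ki xi15 yi1 zi13) (ki xi15 yi1 zi14) (ki xi15 yi1 zi15) (ki xi15 yi1 zi16) (ki xi15 yi1 zi17) (ki xi14 yi14 zi3) (ki xi15 yi1 zi19) (ki xi14 yi15 zi16) (ki xi14 yi15 zi17) (ki xi15 yi11 zi29) (ki xi14 yi15 zi20) (ki xi14 yi15 zi21) (ki xi14 yi15 zi22) (ki xi14 yi15 zi23) (ki xi14 yi15 zi24) (ki xi14 yi5 zi14) (ki xi14 yi5 zi15) (ki xi14 yi5 zi7) (ki xi15 yi20 zi1)) (@D3.rec (fun _ => Pt) (ki xi14 yi5 zi22) (ki xi14 yi5 zi23) (ki xi14 yi5 zi24) (ki xi14 yi5 zi26) (ki xi14 yi5 zi12) (ki xi15 yi20 zi8) (ki xi15 yi9 zi9) (ki xi15 yi9 zi10) (ki xi15 yi19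 zi31) (ki xi15 yi20 zi0) (ki xi15 yi5 zi19) (ki xi14 yi5 zi18) (ki xi15 yi20 zi18) (ki xi14 yi5 zi20) (ki xi15 yi20 zi21) (ki xi15 yi20 zi22) (ki xi15 yi9 zi1) (ki xi15 yi9 zi2) (ki xi15 yi20 zi4) (ki xi15 yi20 zi5) (ki xi15 yi20 zi6) (ki xi15 yi20 zi7) (ki xi15 yi11 zi8) (ki xi15 yi14 zi12) (ki xi14 yi5 zi30) (ki xi15 yi21 zi0) (ki xi14 yi6 zi0) (ki xi14 yi6 zi1) (ki xi15 yi21 zi1) (ki xi15 yi21 zi2) (ki xi15 yi2 zi30) (ki xi15 yi2 zi31)) (@D3.rec (fun _ => Pt) (ki xi14 yi6 zi12) (ki xi15 yi9 zi15) (ki xi15 yi9 zi16) (ki xi15 yi21 zi7) (ki xi15 yi21 zi10) (ki xi15 yi11 zi27) (ki xi14 yi6 zi18) (ki xi15 yi21 zi12) (ki xi14 yi19 zi13) (ki xi14 yi19 zi14) (ki xi14 yi19 zi15) (ki xi14 yi19 zi16) (ki xi14 yi19 zi17) (ki xi14 yi19 zi18) (ki xi14 yi19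 zi19) (ki xi14 yi19 zi20) (ki xi14 yi19 zi21) (ki xi15 yi5 zi3) (ki xi14 yi6 zi28) (ki xi15 yi21 zi27) (ki xi14 yi6 zi30) (ki xi15 yi21 zi30) (ki xi15 yi21 zi31) (ki xi14 yi7 zi12) (ki xi14 yi7 zi13) (ki xi14 yi7 zi15) (ki xi14 yi7 zi16) (ki xi14 yi7 zi17) (ki xi15 yi17 zi4) (ki xi15 yi17 zi3) (ki xi14 yi7 zi7) (ki xi16 yi0 zi10)) (@D3.rec (fun _ => Pt) (ki xi16 yi0 zi11) (ki xi14 yi7 zi9) (ki xi14 yi7 zi10) (ki xi16 yi0 zi15) (ki xi16 yi0 zi16) (ki xi16 yi0 zi17) (ki xi15 yi9 zi21) (ki xi15 yi9 zi22) (ki xi15 yi13 zi23) (ki xi16 yi0 zi2) (ki xi16 yi0 zi3) (ki xi15 yi13 zi13) (ki xi15 yi13 zi25) (ki xi16 yi0 zi4) (ki xi16 yi0 zi5) (ki xi15 yi12 zi29) (ki xi15 yi6 zi14) (ki xi15 yi18 zi25) (ki xi14 yi7 zi25) (ki xi14 yi7 zi26) (ki xi16 yi1 zi1)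 (ki xi16 yi1 zi2) (ki xi14 yi7 zi29) (ki xi14 yi7 zi30) (ki xi16 yi1 zi4) (ki xi16 yi1 zi5) (ki xi16 yi1 zi6) (ki xi15 yi4 zi27) (ki xi14 yi18 zi26) (ki xi15 yi0 zi14) (ki xi15 yi0 zi15) (ki xi14 yi8 zi13)) (@D3.rec (fun _ => Pt) (ki xi14 yi8 zi16) (ki xi14 yi8 zi17) (ki xi16 yi1 zi10) (ki xi15 yi3 zi17) (ki xi14 yi12 zi12) (ki xi15 yi8 zi27) (ki xi14 yi11 zi15) (ki xi14 yi12 zi16) (ki xi14 yi12 zi17) (ki xi15 yi11 zi10) (ki xi14 yi13 zi28) (ki xi14 yi13 zi29) (ki xi14 yi9 zi16) (ki xi14 yi9 zi19) (ki xi14 yi11 zi5) (ki xi14 yi9 zi20) (ki xi14 yi9 zi21) (ki xi14 yi9 zi22) (ki xi14 yi9 zi25) (ki xi15 yi2 zi10) (ki xi14 yi9 zi29) (ki xi14 yi9 zi30) (ki xi14 yi9 zi31) (ki xi15 yi13 zi17) (ki xi14 yi9 zi8) (ki xi16 yi2 zi5) (ki xi14 yi10 zi6) (ki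 xi14 yi10 zi7) (ki xi14 yi10 zi8) (ki xi14 yi10 zi9) (ki xi14 yi10 zi10) (ki xi14 yi10 zi11)) (@D3.rec (fun _ => Pt) (ki xi14 yi16 zi10) (ki xi14 yi15 zi0) (ki xi16 yi1 zi23) (ki xi14 yi15 zi7) (ki xi14 yi18 zi14) (ki xi16 yi1 zi24) (ki xi16 yi1 zi25) (ki xi16 yi1 zi27) (ki xi16 yi1 zi28) (ki xi16 yi1 zi29) (ki xi14 yi18 zi18) (ki xi14 yi20 zi20) (ki xi16 yi1 zi30) (ki xi16 yi1 zi31) (ki xi15 yi4 zi16) (ki xi15 yi18 zi8) (ki xi14 yi17 zi13) (ki xi16 yi2 zi1) (ki xi16 yi2 zi2) (ki xi16 yi2 zi3) (ki xi15 yi12 zi20) (ki xi14 yi10 zi2) (ki xi16 yi3 zi4) (ki xi14 yi10 zi4) (ki xi16 yi3 zi6) (ki xi16 yi3 zi7) (ki xi14 yi17 zi1) (ki xi16 yi2 zi8) (ki xi16 yi2 zi9) (ki xi16 yi2 zi10) (ki xi16 yi2 zi11) (ki xi16 yi2 zi12)) (@D3.rec (fun _ => Pt) (ki xi16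 yi2 zi13) (ki xi14 yi14 zi22) (ki xi14 yi10 zi15) (ki xi15 yi19 zi4) (ki xi15 yi7 zi4) (ki xi14 yi10 zi23) (ki xi14 yi10 zi24) (ki xi14 yi10 zi25) (ki xi16 yi3 zi19) (ki xi15 yi19 zi19) (ki xi15 yi7 zi11) (ki xi15 yi7 zi10) (ki xi15 yi11 zi19) (ki xi14 yi17 zi23) (ki xi15 yi11 zi23) (ki xi14 yi16 zi17) (ki xi14 yi21 zi18) (ki xi15 yi14 zi19) (ki xi14 yi16 zi13) (ki xi16 yi1 zi26) (ki xi14 yi15 zi29) (ki xi14 yi21 zi22) (ki xi15 yi14 zi20) (ki xi15 yi14 zi21) (ki xi15 yi14 zi22) (ki xi15 yi0 zi30) (ki xi15 yi1 zi2) (ki xi15 yi0 zi27) (ki xi14 yi12 zi9) (ki xi14 yi12 zi14) (ki xi16 yi1 zi15) (ki xi14 yi12 zi20)) (@D3.rec (fun _ => Pt) (ki xi14 yi12 zi21) (ki xi14 yi12 zi22) (ki xi14 yi12 zi25) (ki xi14 yi12 zi31) (ki xi15 yi17 zi12) (ki xi14 yi11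 zi22) (ki xi16 yi4 zi19) (ki xi14 yi13 zi7) (ki xi14 yi13 zi8) (ki xi14 yi13 zi9) (ki xi14 yi13 zi10) (ki xi15 yi8 zi12) (ki xi15 yi8 zi11) (ki xi14 yi11 zi29) (ki xi16 yi4 zi28) (ki xi14 yi11 zi31) (ki xi16 yi4 zi31) (ki xi16 yi5 zi0) (ki xi14 yi13 zi18) (ki xi14 yi13 zi19) (ki xi14 yi13 zi20) (ki xi14 yi13 zi21) (ki xi14 yi13 zi22) (ki xi14 yi13 zi23) (ki xi14 yi13 zi24) (ki xi14 yi13 zi25) (ki xi14 yi13 zi26) (ki xi15 yi5 zi5) (ki xi14 yi15 zi1) (ki xi14 yi15 zi2) (ki xi16 yi4 zi9) (ki xi14 yi18 zi23)) (@D3.rec (fun _ => Pt) (ki xi16 yi1 zi12) (ki xi15 yi2 zi16) (ki xi15 yi2 zi17) (ki xi16 yi4 zi10) (ki xi15 yi15 zi24) (ki xi16 yi1 zi16) (ki xi16 yi1 zi17) (ki xi16 yi1 zi18) (ki xi14 yi16 zi25) (ki xi15 yi2 zi6) (ki xi15 yi2 zi7) (ki xi16 yi4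 zi13) (ki xi16 yi4 zi14) (ki xi16 yi4 zi15) (ki xi16 yi4 zi16) (ki xi15 yi3 zi1) (ki xi15 yi3 zi2) (ki xi15 yi9 zi24) (ki xi14 yi12 zi28) (ki xi16 yi6 zi7) (ki xi14 yi21 zi8) (ki xi15 yi4 zi6) (ki xi15 yi4 zi7) (ki xi16 yi4 zi17) (ki xi15 yi9 zi17) (ki xi15 yi16 zi15) (ki xi14 yi13 zi3) (ki xi16 yi6 zi16) (ki xi14 yi13 zi5) (ki xi16 yi6 zi19) (ki xi16 yi6 zi20) (ki xi14 yi20 zi29)) (@D3.rec (fun _ => Pt) (ki xi16 yi3 zi14) (ki xi16 yi4 zi22) (ki xi14 yi18 zi1) (ki xi16 yi4 zi23) (ki xi16 yi4 zi24) (ki xi16 yi4 zi25) (ki xi15 yi16 zi27) (ki xi15 yi16 zi26) (ki xi14 yi13 zi14) (ki xi16 yi7 zi1) (ki xi16 yi7 zi2) (ki xi14 yi13 zi16) (ki xi14 yi13 zi17) (ki xi16 yi7 zi6) (ki xi16 yi7 zi7) (ki xi16 yi7 zi8) (ki xi16 yi5 zi4) (ki xi16 yi5 zi5) (ki xi16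 yi5 zi6) (ki xi16 yi5 zi7) (ki xi16 yi5 zi8) (ki xi16 yi5 zi9) (ki xi16 yi5 zi10) (ki xi16 yi5 zi11) (ki xi16 yi1 zi20) (ki xi16 yi1 zi21) (ki xi16 yi1 zi22) (ki xi15 yi10 zi27) (ki xi15 yi10 zi28) (ki xi15 yi10 zi29) (ki xi14 yi14 zi5) (ki xi16 yi7 zi24)) (@D3.rec (fun _ => Pt) (ki xi14 yi14 zi8) (ki xi14 yi14 zi9) (ki xi16 yi7 zi25) (ki xi16 yi7 zi26) (ki xi16 yi7 zi27) (ki xi15 yi11 zi5) (ki xi14 yi17 zi30) (ki xi15 yi0 zi9) (ki xi15 yi2 zi22) (ki xi15 yi0 zi19) (ki xi15 yi5 zi9) (ki xi14 yi15 zi5) (ki xi14 yi18 zi15) (ki xi14 yi18 zi16) (ki xi14 yi18 zi24) (ki xi16 yi2 zi15) (ki xi16 yi2 zi16) (ki xi16 yi5 zi14) (ki xi16 yi5 zi15) (ki xi15 yi7 zi12) (ki xi14 yi18 zi10) (ki xi16 yi8 zi0) (ki xi16 yi8 zi10) (ki xi15 yi7 zi14) (ki xi15 yi11 zi28)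 (ki xi15 yi15 zi15) (ki xi15 yi15 zi16) (ki xi15 yi3 zi5) (ki xi15 yi11 zi24) (ki xi15 yi1 zi22) (ki xi15 yi19 zi20) (ki xi15 yi19 zi21)) (@D3.rec (fun _ => Pt) (ki xi15 yi19 zi22) (ki xi14 yi15 zi19) (ki xi16 yi8 zi24) (ki xi15 yi19 zi24) (ki xi15 yi19 zi25) (ki xi15 yi19 zi26) (ki xi15 yi19 zi27) (ki xi15 yi19 zi28) (ki xi15 yi19 zi29) (ki xi15 yi19 zi30) (ki xi14 yi16 zi11) (ki xi14 yi16 zi15) (ki xi14 yi16 zi16) (ki xi14 yi16 zi22) (ki xi14 yi16 zi26) (ki xi14 yi16 zi27) (ki xi16 yi4 zi0) (ki xi14 yi17 zi3) (ki xi14 yi17 zi4) (ki xi14 yi17 zi5) (ki xi15 yi6 zi20) (ki xi14 yi16 zi3) (ki xi16 yi9 zi14) (ki xi14 yi16 zi5) (ki xi16 yi9 zi16) (ki xi14 yi17 zi15) (ki xi14 yi17 zi17) (ki xi14 yi17 zi18) (ki xi15 yi14 zi26) (ki xi15 yi4 zi15) (ki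 xi16 yi2 zi14) (ki xi16 yi9 zi3)) (@D3.rec (fun _ => Pt) (ki xi16 yi3 zi29) (ki xi14 yi21 zi11) (ki xi14 yi21 zi28) (ki xi16 yi9 zi4) (ki xi16 yi9 zi5) (ki xi16 yi3 zi26) (ki xi14 yi16 zi19) (ki xi16 yi10 zi1) (ki xi14 yi21 zi26) (ki xi14 yi21 zi29) (ki xi16 yi9 zi6) (ki xi14 yi16 zi24) (ki xi16 yi10 zi5) (ki xi15 yi4 zi11) (ki xi16 yi5 zi30) (ki xi16 yi9 zi7) (ki xi16 yi9 zi8) (ki xi15 yi5 zi23) (ki xi14 yi16 zi30) (ki xi16 yi10 zi13) (ki xi14 yi17 zi0) (ki xi16 yi10 zi16) (ki xi16 yi10 zi17) (ki xi15 yi4 zi8) (ki xi16 yi3 zi11) (ki xi15 yi4 zi12) (ki xi16 yi9 zi10) (ki xi16 yi6 zi28) (ki xi16 yi9 zi11) (ki xi16 yi9 zi12) (ki xi15 yi13 zi31) (ki xi15 yi13 zi30)) (@D3.rec (fun _ => Pt) (ki xi14 yi17 zi9) (ki xi16 yi3 zi24) (ki xi16 yi10 zi29)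 (ki xi14 yi17 zi11) (ki xi14 yi17 zi12) (ki xi16 yi11 zi0) (ki xi16 yi11 zi1) (ki xi16 yi2 zi30) (ki xi14 yi20 zi21) (ki xi16 yi9 zi18) (ki xi14 yi20 zi22) (ki xi16 yi9 zi19) (ki xi15 yi2 zi23) (ki xi14 yi17 zi26) (ki xi16 yi11 zi9) (ki xi16 yi5 zi20) (ki xi16 yi11 zi11) (ki xi16 yi11 zi12) (ki xi14 yi18 zi3) (ki xi15 yi7 zi17) (ki xi15 yi7 zi22) (ki xi15 yi7 zi23) (ki xi15 yi7 zi24) (ki xi14 yi18 zi17) (ki xi14 yi18 zi25) (ki xi16 yi8 zi9) (ki xi15 yi12 zi28) (ki xi14 yi18 zi13) (ki xi16 yi11 zi20) (ki xi16 yi11 zi21) (ki xi16 yi1 zi0) (ki xi16 yi2 zi18)) (@D3.rec (fun _ => Pt) (ki xi16 yi8 zi1) (ki xi16 yi8 zi2) (ki xi16 yi11 zi17) (ki xi16 yi2 zi24) (ki xi14 yi18 zi20) (ki xi16 yi11 zi29) (ki xi14 yi18 zi22) (ki xi16 yi11 zi31) (ki xi16 yi5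 zi17) (ki xi16 yi8 zi3) (ki xi15 yi15 zi21) (ki xi15 yi15 zi22) (ki xi15 yi15 zi23) (ki xi15 yi18 zi28) (ki xi15 yi15 zi17) (ki xi15 yi11 zi25) (ki xi15 yi11 zi26) (ki xi15 yi15 zi14) (ki xi14 yi19 zi4) (ki xi16 yi12 zi11) (ki xi15 yi0 zi5) (ki xi15 yi15 zi10) (ki xi15 yi15 zi11) (ki xi15 yi15 zi12) (ki xi15 yi9 zi4) (ki xi14 yi19 zi10) (ki xi16 yi12 zi20) (ki xi14 yi19 zi12) (ki xi16 yi12 zi23) (ki xi16 yi12 zi24) (ki xi15 yi21 zi15) (ki xi15 yi21 zi16)) (@D3.rec (fun _ => Pt) (ki xi15 yi21 zi17) (ki xi15 yi21 zi18) (ki xi15 yi21 zi19) (ki xi15 yi21 zi20) (ki xi15 yi21 zi21) (ki xi15 yi21 zi22) (ki xi15 yi21 zi23) (ki xi15 yi21 zi24) (ki xi15 yi21 zi25) (ki xi14 yi20 zi23) (ki xi14 yi19 zi24) (ki xi16 yi13 zi7) (ki xi14 yi20 zi30) (ki xi14 yi20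 zi31) (ki xi14 yi21 zi0) (ki xi15 yi9 zi25) (ki xi14 yi19 zi29) (ki xi16 yi13 zi15) (ki xi14 yi19 zi31) (ki xi16 yi13 zi18) (ki xi16 yi13 zi19) (ki xi14 yi21 zi9) (ki xi14 yi21 zi10) (ki xi14 yi21 zi12) (ki xi14 yi21 zi13) (ki xi14 yi21 zi14) (ki xi15 yi10 zi7) (ki xi15 yi10 zi6) (ki xi14 yi20 zi7) (ki xi16 yi13 zi29) (ki xi14 yi20 zi9) (ki xi16 yi13 zi31)) (@D3.rec (fun _ => Pt) (ki xi14 yi21 zi25) (ki xi14 yi21 zi27) (ki xi14 yi21 zi30) (ki xi15 yi3 zi29) (ki xi15 yi3 zi28) (ki xi14 yi20 zi17) (ki xi16 yi14 zi6) (ki xi14 yi20 zi19) (ki xi16 yi14 zi8) (ki xi16 yi2 zi25) (ki xi16 yi11 zi6) (ki xi16 yi11 zi8) (ki xi15 yi8 zi4) (ki xi14 yi20 zi26) (ki xi16 yi14 zi13) (ki xi14 yi20 zi28) (ki xi16 yi14 zi16) (ki xi16 yi14 zi17) (ki xi16 yi6 zi24)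 (ki xi16 yi6 zi25) (ki xi16 yi13 zi10) (ki xi16 yi13 zi11) (ki xi16 yi13 zi12) (ki xi16 yi13 zi13) (ki xi15 yi17 zi25) (ki xi15 yi17 zi24) (ki xi14 yi21 zi4) (ki xi16 yi4 zi3) (ki xi16 yi14 zi29) (ki xi14 yi21 zi6) (ki xi14 yi21 zi7) (ki xi16 yi4 zi1)) (@D3.rec (fun _ => Pt) (ki xi16 yi15 zi0) (ki xi16 yi15 zi1) (ki xi16 yi6 zi10) (ki xi16 yi13 zi22) (ki xi16 yi13 zi23) (ki xi16 yi9 zi27) (ki xi16 yi13 zi24) (ki xi16 yi13 zi25) (ki xi15 yi6 zi15) (ki xi15 yi18 zi10) (ki xi15 yi18 zi9) (ki xi14 yi21 zi19) (ki xi16 yi3 zi27) (ki xi16 yi15 zi14) (ki xi14 yi21 zi23) (ki xi14 yi21 zi24) (ki xi16 yi4 zi2) (ki xi16 yi12 zi14) (ki xi16 yi15 zi17) (ki xi16 yi15 zi18) (ki xi16 yi14 zi1) (ki xi16 yi10 zi3) (ki xi16 yi14 zi2) (ki xi16 yi9 zi28) (ki xi16 yi10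 zi4) (ki xi15 yi4 zi17) (ki xi15 yi0 zi10) (ki xi15 yi18 zi29) (ki xi15 yi15 zi13) (ki xi15 yi18 zi27) (ki xi16 yi1 zi9) (ki xi15 yi19 zi0)) (@D3.rec (fun _ => Pt) (ki xi15 yi18 zi31) (ki xi16 yi4 zi8) (ki xi15 yi0 zi21) (ki xi16 yi15 zi27) (ki xi15 yi7 zi3) (ki xi15 yi0 zi31) (ki xi16 yi4 zi7) (ki xi16 yi15 zi28) (ki xi15 yi19 zi8) (ki xi15 yi19 zi9) (ki xi15 yi19 zi10) (ki xi15 yi19 zi11) (ki xi15 yi1 zi9) (ki xi16 yi16 zi0) (ki xi15 yi1 zi11) (ki xi16 yi16 zi2) (ki xi15 yi19 zi16) (ki xi15 yi19 zi17) (ki xi15 yi19 zi18) (ki xi15 yi7 zi9) (ki xi15 yi11 zi30) (ki xi15 yi11 zi31) (ki xi15 yi12 zi0) (ki xi16 yi8 zi19) (ki xi15 yi12 zi3) (ki xi15 yi12 zi4) (ki xi15 yi12 zi5) (ki xi15 yi12 zi6) (ki xi15 yi12 zi7) (ki xi15 yi12 zi8) (ki xi15 yi12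 zi9) (ki xi15 yi2 zi8)) (@D3.rec (fun _ => Pt) (ki xi15 yi2 zi9) (ki xi15 yi1 zi31) (ki xi16 yi16 zi22) (ki xi16 yi16 zi23) (ki xi15 yi2 zi18) (ki xi15 yi2 zi19) (ki xi15 yi2 zi20) (ki xi15 yi2 zi21) (ki xi15 yi2 zi5) (ki xi16 yi16 zi30) (ki xi16 yi16 zi31) (ki xi16 yi5 zi31) (ki xi16 yi6 zi0) (ki xi16 yi6 zi1) (ki xi16 yi16 zi19) (ki xi16 yi16 zi20) (ki xi16 yi16 zi21) (ki xi16 yi2 zi0) (ki xi15 yi2 zi12) (ki xi16 yi17 zi11) (ki xi16 yi17 zi12) (ki xi15 yi2 zi14) (ki xi15 yi2 zi15) (ki xi16 yi17 zi15) (ki xi16 yi17 zi16) (ki xi16 yi17 zi17) (ki xi16 yi5 zi21) (ki xi16 yi5 zi22) (ki xi16 yi7 zi30) (ki xi16 yi16 zi27) (ki xi16 yi16 zi28) (ki xi16 yi16 zi29)) (@D3.rec (fun _ => Pt) (ki xi15 yi2 zi25) (ki xi15 yi2 zi28) (ki xi15 yi2 zi29) (ki xi16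 yi17 zi28) (ki xi16 yi17 zi29) (ki xi16 yi17 zi30) (ki xi15 yi21 zi6) (ki xi15 yi3 zi3) (ki xi16 yi6 zi2) (ki xi16 yi18 zi3) (ki xi15 yi3 zi4) (ki xi16 yi8 zi16) (ki xi15 yi3 zi7) (ki xi16 yi18 zi6) (ki xi16 yi18 zi7) (ki xi15 yi15 zi30) (ki xi15 yi15 zi31) (ki xi15 yi16 zi0) (ki xi15 yi16 zi1) (ki xi15 yi16 zi2) (ki xi15 yi16 zi3) (ki xi15 yi16 zi4) (ki xi15 yi16 zi5) (ki xi15 yi16 zi6) (ki xi15 yi16 zi7) (ki xi15 yi16 zi8) (ki xi16 yi1 zi11) (ki xi15 yi3 zi19) (ki xi16 yi18 zi24) (ki xi16 yi18 zi25) (ki xi15 yi3 zi21) (ki xi15 yi3 zi22))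
def f_i_16 : D2 → D3 → Pt := @D2.rec (fun _ => D3 → Pt) (@D3.rec (fun _ => Pt) (ki xi16 yi18 zi28) (ki xi16 yi18 zi29) (ki xi15 yi4 zi9) (ki xi15 yi4 zi10) (ki xi15 yi4 zi13) (ki xi15 yi4 zi14) (ki xi16 yi2 zi28) (ki xi16 yi14 zi5) (ki xi16 yi14 zi3) (ki xi16 yi14 zi4) (ki xi15 yi3 zi31) (ki xi15 yi4 zi0) (ki xi16 yi19 zi8) (ki xi16 yi19 zi9) (ki xi16 yi19 zi10) (ki xi15 yi4 zi3) (ki xi15 yi4 zi4) (ki xi15 yi4 zi5) (ki xi16 yi19 zi15) (ki xi16 yi19 zi16) (ki xi16 yi19 zi17) (ki xi16 yi19 zi18) (ki xi16 yi19 zi19) (ki xi16 yi6 zi11) (ki xi16 yi6 zi12) (ki xi16 yi10 zi20) (ki xi16 yi9 zi22) (ki xi16 yi19 zi1) (ki xi16 yi19 zi2) (ki xi16 yi10 zi8) (ki xi16 yi10 zi22) (ki xi16 yi19 zi3)) (@D3.rec (fun _ => Pt) (ki xi15 yi14 zi30) (ki xi15 yi4 zi20)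 (ki xi15 yi4 zi21) (ki xi16 yi20 zi1) (ki xi15 yi4 zi24) (ki xi15 yi4 zi25) (ki xi15 yi4 zi26) (ki xi16 yi20 zi2) (ki xi16 yi20 zi3) (ki xi15 yi18 zi30) (ki xi15 yi5 zi2) (ki xi15 yi21 zi26) (ki xi15 yi9 zi0) (ki xi16 yi5 zi12) (ki xi16 yi5 zi13) (ki xi15 yi7 zi30) (ki xi15 yi9 zi5) (ki xi15 yi9 zi6) (ki xi15 yi9 zi7) (ki xi16 yi7 zi31) (ki xi15 yi10 zi24) (ki xi15 yi10 zi25) (ki xi15 yi10 zi26) (ki xi15 yi6 zi2) (ki xi15 yi6 zi5) (ki xi15 yi6 zi6) (ki xi15 yi7 zi19) (ki xi15 yi6 zi7) (ki xi15 yi6 zi8) (ki xi15 yi6 zi9) (ki xi15 yi6 zi12) (ki xi15 yi6 zi13)) (@D3.rec (fun _ => Pt) (ki xi15 yi20 zi17) (ki xi15 yi6 zi17) (ki xi15 yi6 zi18) (ki xi15 yi6 zi19) (ki xi16 yi10 zi12) (ki xi15 yi5 zi25) (ki xi16 yi21 zi8) (ki xi16 yi21 zi9) (ki xi15 yi6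 zi27) (ki xi15 yi6 zi28) (ki xi15 yi6 zi29) (ki xi15 yi6 zi30) (ki xi15 yi6 zi31) (ki xi15 yi7 zi0) (ki xi15 yi12 zi30) (ki xi15 yi11 zi15) (ki xi15 yi11 zi16) (ki xi16 yi20 zi23) (ki xi15 yi14 zi31) (ki xi16 yi20 zi24) (ki xi16 yi20 zi25) (ki xi16 yi20 zi28) (ki xi16 yi20 zi29) (ki xi16 yi20 zi30) (ki xi15 yi15 zi3) (ki xi15 yi17 zi9) (ki xi16 yi20 zi31) (ki xi16 yi21 zi0) (ki xi16 yi0 zi6) (ki xi16 yi15 zi11) (ki xi15 yi14 zi7) (ki xi16 yi21 zi2)) (@D3.rec (fun _ => Pt) (ki xi16 yi21 zi3) (ki xi16 yi21 zi4) (ki xi16 yi21 zi5) (ki xi16 yi9 zi13) (ki xi15 yi6 zi22) (ki xi17 yi0 zi7) (ki xi15 yi6 zi24) (ki xi15 yi6 zi25) (ki xi16 yi14 zi26) (ki xi17 yi0 zi9) (ki xi17 yi0 zi10) (ki xi15 yi13 zi24) (ki xi16 yi21 zi13) (ki xi16 yi21 zi14) (ki xi15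 yi10 zi0) (ki xi16 yi21 zi15) (ki xi16 yi21 zi16) (ki xi16 yi21 zi17) (ki xi16 yi15 zi26) (ki xi15 yi7 zi8) (ki xi16 yi13 zi26) (ki xi16 yi3 zi22) (ki xi16 yi3 zi21) (ki xi16 yi8 zi8) (ki xi15 yi14 zi1) (ki xi16 yi8 zi11) (ki xi15 yi13 zi5) (ki xi15 yi18 zi12) (ki xi16 yi11 zi13) (ki xi15 yi13 zi0) (ki xi16 yi20 zi26) (ki xi16 yi20 zi27)) (@D3.rec (fun _ => Pt) (ki xi15 yi12 zi16) (ki xi15 yi17 zi31) (ki xi15 yi18 zi16) (ki xi15 yi17 zi27) (ki xi16 yi11 zi14) (ki xi16 yi11 zi15) (ki xi16 yi11 zi16) (ki xi15 yi19 zi6) (ki xi15 yi19 zi1) (ki xi15 yi8 zi30) (ki xi15 yi9 zi3) (ki xi16 yi20 zi12) (ki xi16 yi20 zi13) (ki xi15 yi9 zi11) (ki xi15 yi9 zi12) (ki xi15 yi9 zi13) (ki xi15 yi9 zi14) (ki xi15 yi9 zi23) (ki xi16 yi14 zi12) (ki xi15 yi8 zi6) (ki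 xi17 yi1 zi21) (ki xi17 yi1 zi22) (ki xi15 yi10 zi1) (ki xi15 yi10 zi3) (ki xi15 yi10 zi4) (ki xi15 yi10 zi5) (ki xi16 yi4 zi27) (ki xi16 yi4 zi26) (ki xi15 yi8 zi14) (ki xi17 yi1 zi31) (ki xi17 yi2 zi0) (ki xi15 yi8 zi16)) (@D3.rec (fun _ => Pt) (ki xi15 yi8 zi17) (ki xi17 yi2 zi4) (ki xi17 yi2 zi5) (ki xi17 yi2 zi6) (ki xi15 yi10 zi16) (ki xi15 yi10 zi17) (ki xi15 yi10 zi18) (ki xi15 yi10 zi19) (ki xi15 yi10 zi20) (ki xi15 yi10 zi21) (ki xi15 yi10 zi22) (ki xi15 yi10 zi23) (ki xi16 yi1 zi13) (ki xi16 yi1 zi14) (ki xi15 yi11 zi17) (ki xi15 yi11 zi18) (ki xi17 yi1 zi11) (ki xi15 yi15 zi8) (ki xi16 yi20 zi8) (ki xi16 yi20 zi9) (ki xi15 yi14 zi15) (ki xi15 yi20 zi26) (ki xi15 yi20 zi27) (ki xi17 yi1 zi12) (ki xi16 yi12 zi19) (ki xi16 yi20 zi14)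 (ki xi16 yi20 zi15) (ki xi16 yi20 zi16) (ki xi16 yi20 zi17) (ki xi16 yi20 zi18) (ki xi15 yi13 zi14) (ki xi15 yi20 zi11)) (@D3.rec (fun _ => Pt) (ki xi15 yi20 zi12) (ki xi15 yi20 zi13) (ki xi15 yi21 zi8) (ki xi17 yi1 zi16) (ki xi17 yi1 zi17) (ki xi17 yi1 zi18) (ki xi16 yi6 zi14) (ki xi15 yi9 zi19) (ki xi17 yi3 zi14) (ki xi17 yi3 zi15) (ki xi15 yi18 zi2) (ki xi16 yi0 zi23) (ki xi16 yi0 zi24) (ki xi17 yi1 zi19) (ki xi16 yi6 zi6) (ki xi16 yi13 zi14) (ki xi15 yi9 zi27) (ki xi17 yi3 zi25) (ki xi17 yi3 zi26) (ki xi15 yi9 zi29) (ki xi15 yi9 zi30) (ki xi17 yi3 zi29) (ki xi17 yi3 zi30) (ki xi17 yi3 zi31) (ki xi15 yi17 zi18) (ki xi15 yi17 zi19) (ki xi17 yi0 zi18) (ki xi17 yi1 zi25) (ki xi15 yi13 zi27) (ki xi17 yi1 zi26) (ki xi17 yi1 zi27) (ki xi16 yi13 zi28))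 (@D3.rec (fun _ => Pt) (ki xi16 yi13 zi27) (ki xi15 yi10 zi9) (ki xi15 yi10 zi10) (ki xi17 yi4 zi13) (ki xi17 yi4 zi14) (ki xi17 yi4 zi15) (ki xi15 yi10 zi13) (ki xi15 yi10 zi14) (ki xi15 yi10 zi15) (ki xi17 yi4 zi19) (ki xi17 yi4 zi20) (ki xi17 yi4 zi21) (ki xi17 yi4 zi22) (ki xi17 yi4 zi23) (ki xi17 yi2 zi12) (ki xi17 yi2 zi13) (ki xi17 yi2 zi14) (ki xi17 yi2 zi15) (ki xi17 yi2 zi16) (ki xi17 yi2 zi17) (ki xi17 yi2 zi18) (ki xi16 yi20 zi20) (ki xi16 yi20 zi21) (ki xi16 yi20 zi22) (ki xi15 yi10 zi31) (ki xi15 yi11 zi2) (ki xi15 yi11 zi3) (ki xi15 yi11 zi4) (ki xi17 yi5 zi3) (ki xi17 yi5 zi4) (ki xi15 yi20 zi28) (ki xi16 yi1 zi19)) (@D3.rec (fun _ => Pt) (ki xi15 yi11 zi21) (ki xi15 yi15 zi0) (ki xi15 yi15 zi1) (ki xi15 yi15 zi9) (ki xi16 yi21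 zi19) (ki xi16 yi21 zi20) (ki xi17 yi2 zi21) (ki xi17 yi2 zi22) (ki xi16 yi3 zi23) (ki xi15 yi14 zi25) (ki xi15 yi11 zi22) (ki xi16 yi3 zi25) (ki xi16 yi8 zi17) (ki xi16 yi8 zi18) (ki xi16 yi12 zi8) (ki xi16 yi12 zi9) (ki xi15 yi21 zi11) (ki xi16 yi8 zi12) (ki xi16 yi8 zi13) (ki xi15 yi19 zi23) (ki xi16 yi16 zi4) (ki xi16 yi16 zi5) (ki xi16 yi16 zi6) (ki xi16 yi16 zi7) (ki xi15 yi12 zi2) (ki xi17 yi6 zi1) (ki xi16 yi16 zi10) (ki xi16 yi16 zi11) (ki xi16 yi16 zi12) (ki xi16 yi16 zi13) (ki xi16 yi16 zi14) (ki xi16 yi16 zi15)) (@D3.rec (fun _ => Pt) (ki xi16 yi16 zi16) (ki xi16 yi16 zi17) (ki xi16 yi16 zi18) (ki xi15 yi12 zi31) (ki xi15 yi13 zi3) (ki xi15 yi13 zi4) (ki xi15 yi13 zi10) (ki xi15 yi13 zi15) (ki xi15 yi13 zi16) (ki xi17 yi1 zi3) (ki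 xi15 yi13 zi26) (ki xi15 yi13 zi28) (ki xi15 yi13 zi29) (ki xi16 yi3 zi3) (ki xi15 yi12 zi22) (ki xi17 yi6 zi22) (ki xi15 yi12 zi24) (ki xi17 yi6 zi24) (ki xi15 yi14 zi9) (ki xi15 yi14 zi11) (ki xi16 yi11 zi18) (ki xi16 yi11 zi19) (ki xi16 yi0 zi26) (ki xi16 yi21 zi18) (ki xi17 yi6 zi13) (ki xi17 yi0 zi30) (ki xi17 yi0 zi31) (ki xi15 yi18 zi5) (ki xi15 yi18 zi23) (ki xi17 yi2 zi27) (ki xi17 yi6 zi14) (ki xi17 yi6 zi15)) (@D3.rec (fun _ => Pt) (ki xi17 yi0 zi27) (ki xi15 yi13 zi7) (ki xi17 yi7 zi7) (ki xi15 yi18 zi21) (ki xi15 yi18 zi24) (ki xi15 yi13 zi12) (ki xi17 yi7 zi10) (ki xi17 yi7 zi11) (ki xi16 yi0 zi29) (ki xi17 yi3 zi6) (ki xi17 yi6 zi16) (ki xi17 yi6 zi17) (ki xi16 yi2 zi4) (ki xi15 yi13 zi19) (ki xi17 yi7 zi19) (ki xi17 yi7 zi20) (ki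 xi15 yi13 zi21) (ki xi15 yi13 zi22) (ki xi17 yi7 zi23) (ki xi17 yi7 zi24) (ki xi16 yi0 zi25) (ki xi17 yi0 zi15) (ki xi16 yi0 zi30) (ki xi17 yi6 zi19) (ki xi17 yi4 zi9) (ki xi17 yi8 zi1) (ki xi17 yi6 zi20) (ki xi16 yi10 zi28) (ki xi16 yi10 zi27) (ki xi15 yi14 zi2) (ki xi17 yi0 zi25) (ki xi17 yi8 zi4)) (@D3.rec (fun _ => Pt) (ki xi15 yi14 zi5) (ki xi15 yi14 zi6) (ki xi17 yi8 zi7) (ki xi17 yi8 zi8) (ki xi17 yi8 zi9) (ki xi17 yi0 zi1) (ki xi15 yi17 zi10) (ki xi17 yi6 zi26) (ki xi15 yi17 zi11) (ki xi15 yi14 zi14) (ki xi17 yi8 zi14) (ki xi15 yi14 zi16) (ki xi15 yi14 zi17) (ki xi16 yi3 zi28) (ki xi16 yi4 zi4) (ki xi16 yi4 zi5) (ki xi16 yi4 zi6) (ki xi15 yi15 zi2) (ki xi16 yi9 zi20) (ki xi16 yi9 zi21) (ki xi15 yi14 zi28) (ki xi15 yi14 zi29) (ki xi17 yi8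 zi20) (ki xi17 yi8 zi21) (ki xi16 yi19 zi29) (ki xi16 yi21 zi22) (ki xi17 yi5 zi10) (ki xi17 yi5 zi11) (ki xi16 yi21 zi27) (ki xi15 yi15 zi5) (ki xi17 yi8 zi29) (ki xi15 yi15 zi7)) (@D3.rec (fun _ => Pt) (ki xi17 yi8 zi31) (ki xi17 yi2 zi23) (ki xi16 yi12 zi15) (ki xi16 yi12 zi16) (ki xi16 yi12 zi17) (ki xi16 yi12 zi18) (ki xi16 yi15 zi25) (ki xi16 yi12 zi10) (ki xi16 yi8 zi14) (ki xi16 yi8 zi15) (ki xi16 yi12 zi7) (ki xi15 yi15 zi19) (ki xi17 yi9 zi8) (ki xi17 yi9 zi9) (ki xi15 yi18 zi17) (ki xi16 yi12 zi2) (ki xi16 yi12 zi3) (ki xi16 yi12 zi4) (ki xi16 yi12 zi5) (ki xi16 yi5 zi24) (ki xi15 yi15 zi26) (ki xi17 yi9 zi19) (ki xi17 yi9 zi20) (ki xi15 yi15 zi28) (ki xi15 yi15 zi29) (ki xi17 yi9 zi24) (ki xi17 yi9 zi25) (ki xi17 yi9 zi26) (ki xi16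 yi18 zi11) (ki xi16 yi18 zi12) (ki xi16 yi18 zi13) (ki xi16 yi18 zi14)) (@D3.rec (fun _ => Pt) (ki xi16 yi18 zi15) (ki xi16 yi18 zi16) (ki xi16 yi18 zi17) (ki xi16 yi18 zi18) (ki xi16 yi18 zi19) (ki xi16 yi18 zi20) (ki xi16 yi18 zi21) (ki xi15 yi16 zi11) (ki xi17 yi10 zi9) (ki xi17 yi10 zi10) (ki xi15 yi17 zi20) (ki xi15 yi17 zi21) (ki xi15 yi17 zi22) (ki xi15 yi17 zi23) (ki xi16 yi6 zi15) (ki xi15 yi16 zi17) (ki xi17 yi1 zi0) (ki xi17 yi10 zi19) (ki xi15 yi16 zi19) (ki xi15 yi16 zi20) (ki xi17 yi10 zi22) (ki xi17 yi10 zi23) (ki xi15 yi18 zi3) (ki xi15 yi18 zi4) (ki xi15 yi18 zi6) (ki xi15 yi18 zi7) (ki xi16 yi3 zi20) (ki xi16 yi7 zi0) (ki xi16 yi6 zi31) (ki xi15 yi16 zi29) (ki xi17 yi11 zi1) (ki xi15 yi16 zi31)) (@D3.rec (fun _ => Pt) (ki xi17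 yi11 zi3) (ki xi15 yi18 zi20) (ki xi15 yi18 zi22) (ki xi16 yi0 zi8) (ki xi16 yi0 zi9) (ki xi16 yi0 zi7) (ki xi15 yi17 zi6) (ki xi17 yi11 zi8) (ki xi15 yi17 zi8) (ki xi17 yi11 zi10) (ki xi16 yi21 zi28) (ki xi17 yi8 zi13) (ki xi16 yi4 zi18) (ki xi15 yi17 zi14) (ki xi17 yi1 zi6) (ki xi17 yi11 zi14) (ki xi15 yi17 zi16) (ki xi15 yi17 zi17) (ki xi17 yi11 zi17) (ki xi17 yi11 zi18) (ki xi17 yi11 zi19) (ki xi17 yi4 zi4) (ki xi17 yi4 zi5) (ki xi17 yi10 zi14) (ki xi17 yi10 zi15) (ki xi17 yi10 zi16) (ki xi16 yi3 zi8) (ki xi16 yi14 zi28) (ki xi16 yi14 zi27) (ki xi15 yi17 zi28) (ki xi17 yi1 zi7) (ki xi17 yi11 zi30)) (@D3.rec (fun _ => Pt) (ki xi15 yi18 zi0) (ki xi15 yi18 zi1) (ki xi17 yi1 zi4) (ki xi17 yi12 zi1) (ki xi17 yi12 zi2) (ki xi17 yi12 zi3) (ki xi17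 yi3 zi18) (ki xi17 yi10 zi27) (ki xi17 yi10 zi28) (ki xi17 yi7 zi1) (ki xi17 yi10 zi29) (ki xi16 yi2 zi29) (ki xi16 yi15 zi13) (ki xi16 yi15 zi12) (ki xi15 yi18 zi13) (ki xi17 yi0 zi28) (ki xi17 yi12 zi14) (ki xi15 yi18 zi18) (ki xi15 yi18 zi19) (ki xi17 yi1 zi5) (ki xi17 yi9 zi13) (ki xi17 yi12 zi16) (ki xi17 yi11 zi4) (ki xi17 yi7 zi9) (ki xi17 yi7 zi2) (ki xi16 yi12 zi6) (ki xi16 yi3 zi18) (ki xi15 yi19 zi3) (ki xi15 yi19 zi7) (ki xi17 yi1 zi10) (ki xi16 yi15 zi30) (ki xi16 yi15 zi31)) (@D3.rec (fun _ => Pt) (ki xi15 yi19 zi13) (ki xi17 yi12 zi19) (ki xi15 yi19 zi15) (ki xi17 yi12 zi20) (ki xi16 yi8 zi20) (ki xi16 yi8 zi21) (ki xi16 yi8 zi22) (ki xi16 yi8 zi23) (ki xi17 yi5 zi25) (ki xi17 yi5 zi26) (ki xi16 yi8 zi26) (ki xi16 yi8 zi27) (ki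 xi16 yi8 zi28) (ki xi16 yi8 zi29) (ki xi16 yi8 zi30) (ki xi16 yi8 zi31) (ki xi16 yi9 zi0) (ki xi16 yi9 zi1) (ki xi16 yi9 zi2) (ki xi15 yi20 zi14) (ki xi15 yi20 zi15) (ki xi15 yi20 zi16) (ki xi15 yi20 zi2) (ki xi15 yi20 zi3) (ki xi17 yi13 zi11) (ki xi17 yi13 zi12) (ki xi17 yi13 zi13) (ki xi15 yi20 zi29) (ki xi15 yi20 zi30) (ki xi15 yi20 zi31) (ki xi15 yi20 zi9) (ki xi15 yi20 zi10)) (@D3.rec (fun _ => Pt) (ki xi17 yi13 zi20) (ki xi17 yi13 zi21) (ki xi17 yi13 zi22) (ki xi17 yi3 zi7) (ki xi17 yi3 zi8) (ki xi17 yi3 zi9) (ki xi17 yi3 zi10) (ki xi17 yi13 zi8) (ki xi17 yi14 zi2) (ki xi17 yi13 zi10) (ki xi16 yi21 zi1) (ki xi15 yi20 zi19) (ki xi15 yi20 zi20) (ki xi17 yi14 zi4) (ki xi17 yi14 zi5) (ki xi15 yi20 zi23) (ki xi15 yi20 zi24) (ki xi15 yi20 zi25)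 (ki xi17 yi14 zi8) (ki xi17 yi14 zi9) (ki xi17 yi14 zi10) (ki xi17 yi14 zi11) (ki xi17 yi14 zi12) (ki xi17 yi2 zi28) (ki xi17 yi2 zi29) (ki xi17 yi4 zi6) (ki xi17 yi13 zi18) (ki xi17 yi13 zi19) (ki xi15 yi21 zi3) (ki xi15 yi21 zi4) (ki xi15 yi21 zi5) (ki xi17 yi14 zi20)) (@D3.rec (fun _ => Pt) (ki xi17 yi14 zi21) (ki xi17 yi14 zi23) (ki xi17 yi14 zi24) (ki xi15 yi21 zi9) (ki xi17 yi5 zi21) (ki xi17 yi5 zi22) (ki xi15 yi21 zi13) (ki xi15 yi21 zi14) (ki xi17 yi14 zi27) (ki xi17 yi14 zi28) (ki xi17 yi14 zi29) (ki xi16 yi12 zi28) (ki xi16 yi12 zi29) (ki xi16 yi12 zi30) (ki xi16 yi12 zi31) (ki xi16 yi13 zi0) (ki xi16 yi13 zi1) (ki xi16 yi13 zi2) (ki xi16 yi13 zi3) (ki xi16 yi13 zi4) (ki xi16 yi13 zi5) (ki xi16 yi13 zi6) (ki xi16 yi20 zi6) (ki xi16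 yi20 zi7) (ki xi15 yi21 zi28) (ki xi15 yi21 zi29) (ki xi17 yi15 zi15) (ki xi17 yi15 zi16) (ki xi16 yi0 zi0) (ki xi16 yi0 zi1) (ki xi17 yi15 zi20) (ki xi17 yi15 zi21)) (@D3.rec (fun _ => Pt) (ki xi17 yi15 zi22) (ki xi16 yi0 zi27) (ki xi16 yi0 zi28) (ki xi16 yi0 zi31) (ki xi16 yi21 zi31) (ki xi17 yi11 zi7) (ki xi17 yi11 zi5) (ki xi17 yi11 zi6) (ki xi16 yi0 zi12) (ki xi16 yi0 zi13) (ki xi16 yi0 zi14) (ki xi17 yi15 zi30) (ki xi17 yi15 zi31) (ki xi17 yi16 zi0) (ki xi17 yi16 zi1) (ki xi16 yi0 zi18) (ki xi16 yi0 zi19) (ki xi16 yi0 zi20) (ki xi16 yi0 zi21) (ki xi16 yi0 zi22) (ki xi17 yi16 zi5) (ki xi17 yi16 zi6) (ki xi17 yi16 zi7) (ki xi17 yi16 zi8) (ki xi17 yi16 zi10) (ki xi17 yi3 zi19) (ki xi17 yi3 zi20) (ki xi17 yi7 zi28) (ki xi17 yi6 zi29) (ki xi16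 yi11 zi24) (ki xi17 yi15 zi25) (ki xi17 yi7 zi14)) (@D3.rec (fun _ => Pt) (ki xi17 yi7 zi30) (ki xi16 yi1 zi3) (ki xi16 yi1 zi7) (ki xi16 yi1 zi8) (ki xi17 yi5 zi5) (ki xi17 yi16 zi21) (ki xi16 yi18 zi22) (ki xi16 yi18 zi23) (ki xi16 yi5 zi18) (ki xi16 yi5 zi19) (ki xi17 yi2 zi19) (ki xi17 yi2 zi20) (ki xi16 yi4 zi11) (ki xi16 yi4 zi12) (ki xi16 yi5 zi25) (ki xi16 yi5 zi26) (ki xi16 yi5 zi27) (ki xi16 yi5 zi28) (ki xi16 yi5 zi29) (ki xi17 yi5 zi9) (ki xi16 yi7 zi21) (ki xi16 yi7 zi22) (ki xi16 yi7 zi23) (ki xi16 yi2 zi17) (ki xi16 yi2 zi19) (ki xi16 yi2 zi20) (ki xi16 yi3 zi30) (ki xi16 yi3 zi31) (ki xi16 yi2 zi21) (ki xi16 yi2 zi22) (ki xi16 yi2 zi23) (ki xi16 yi2 zi26)) (@D3.rec (fun _ => Pt) (ki xi16 yi2 zi27) (ki xi16 yi17 zi10) (ki xi16 yi2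 zi31) (ki xi16 yi3 zi0) (ki xi16 yi3 zi1) (ki xi16 yi3 zi2) (ki xi17 yi7 zi17) (ki xi17 yi7 zi18) (ki xi16 yi2 zi6) (ki xi16 yi2 zi7) (ki xi17 yi3 zi21) (ki xi17 yi17 zi26) (ki xi17 yi17 zi27) (ki xi16 yi3 zi12) (ki xi16 yi3 zi13) (ki xi16 yi3 zi15) (ki xi16 yi3 zi16) (ki xi16 yi3 zi17) (ki xi16 yi9 zi23) (ki xi16 yi8 zi4) (ki xi16 yi8 zi5) (ki xi17 yi17 zi10) (ki xi16 yi11 zi25) (ki xi17 yi17 zi11) (ki xi17 yi17 zi12) (ki xi17 yi17 zi15) (ki xi17 yi17 zi16) (ki xi16 yi11 zi28) (ki xi16 yi14 zi10) (ki xi17 yi17 zi17) (ki xi17 yi17 zi18) (ki xi16 yi19 zi4))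
def f_i_17 : D2 → D3 → Pt := @D2.rec (fun _ => D3 → Pt) (@D3.rec (fun _ => Pt) (ki xi17 yi12 zi11) (ki xi16 yi11 zi5) (ki xi17 yi17 zi20) (ki xi17 yi17 zi21) (ki xi17 yi10 zi30) (ki xi17 yi17 zi23) (ki xi17 yi6 zi21) (ki xi16 yi3 zi5) (ki xi17 yi18 zi19) (ki xi16 yi3 zi9) (ki xi16 yi3 zi10) (ki xi17 yi11 zi12) (ki xi17 yi11 zi27) (ki xi17 yi18 zi21) (ki xi17 yi18 zi22) (ki xi16 yi10 zi21) (ki xi17 yi18 zi0) (ki xi17 yi18 zi1) (ki xi16 yi6 zi26) (ki xi17 yi18 zi2) (ki xi17 yi18 zi3) (ki xi17 yi1 zi28) (ki xi17 yi0 zi23) (ki xi17 yi0 zi22) (ki xi17 yi5 zi15) (ki xi16 yi10 zi30) (ki xi17 yi5 zi16) (ki xi16 yi10 zi0) (ki xi16 yi15 zi15) (ki xi17 yi8 zi15) (ki xi16 yi9 zi25) (ki xi16 yi9 zi26)) (@D3.rec (fun _ => Pt) (ki xi16 yi13 zi16) (ki xi17 yi17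 zi13) (ki xi17 yi17 zi14) (ki xi16 yi9 zi9) (ki xi16 yi15 zi2) (ki xi16 yi15 zi19) (ki xi16 yi14 zi14) (ki xi16 yi14 zi30) (ki xi17 yi8 zi16) (ki xi17 yi8 zi17) (ki xi16 yi15 zi29) (ki xi16 yi5 zi16) (ki xi16 yi5 zi23) (ki xi17 yi16 zi31) (ki xi17 yi17 zi0) (ki xi17 yi17 zi1) (ki xi16 yi6 zi3) (ki xi16 yi6 zi4) (ki xi16 yi6 zi5) (ki xi16 yi6 zi13) (ki xi17 yi11 zi13) (ki xi16 yi4 zi20) (ki xi16 yi4 zi21) (ki xi17 yi19 zi25) (ki xi17 yi19 zi26) (ki xi16 yi6 zi27) (ki xi16 yi6 zi29) (ki xi16 yi6 zi30) (ki xi17 yi0 zi21) (ki xi17 yi1 zi30) (ki xi17 yi1 zi29) (ki xi16 yi4 zi29)) (@D3.rec (fun _ => Pt) (ki xi16 yi4 zi30) (ki xi17 yi20 zi2) (ki xi17 yi20 zi3) (ki xi17 yi20 zi4) (ki xi16 yi5 zi1) (ki xi16 yi5 zi2) (ki xi16 yi5 zi3) (ki xi17 yi20 zi9)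 (ki xi17 yi20 zi10) (ki xi17 yi20 zi11) (ki xi17 yi20 zi12) (ki xi17 yi20 zi13) (ki xi16 yi7 zi14) (ki xi16 yi7 zi15) (ki xi16 yi7 zi16) (ki xi16 yi7 zi17) (ki xi16 yi7 zi18) (ki xi16 yi7 zi19) (ki xi16 yi7 zi20) (ki xi16 yi20 zi10) (ki xi16 yi20 zi11) (ki xi16 yi8 zi6) (ki xi16 yi8 zi7) (ki xi16 yi12 zi1) (ki xi17 yi16 zi25) (ki xi17 yi16 zi26) (ki xi17 yi16 zi27) (ki xi16 yi9 zi29) (ki xi16 yi17 zi23) (ki xi16 yi17 zi24) (ki xi17 yi9 zi18) (ki xi17 yi17 zi2)) (@D3.rec (fun _ => Pt) (ki xi17 yi17 zi3) (ki xi17 yi17 zi4) (ki xi17 yi17 zi5) (ki xi17 yi17 zi6) (ki xi17 yi17 zi7) (ki xi17 yi17 zi8) (ki xi16 yi10 zi9) (ki xi16 yi17 zi3) (ki xi16 yi17 zi4) (ki xi16 yi17 zi5) (ki xi16 yi17 zi6) (ki xi17 yi19 zi22) (ki xi17 yi19 zi23) (ki xi17 yi3 zi22)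 (ki xi16 yi6 zi8) (ki xi16 yi6 zi9) (ki xi17 yi21 zi16) (ki xi17 yi21 zi17) (ki xi16 yi15 zi6) (ki xi16 yi19 zi25) (ki xi16 yi19 zi26) (ki xi16 yi21 zi10) (ki xi17 yi3 zi13) (ki xi17 yi10 zi17) (ki xi17 yi10 zi18) (ki xi16 yi6 zi17) (ki xi16 yi6 zi18) (ki xi17 yi21 zi27) (ki xi17 yi21 zi28) (ki xi16 yi6 zi21) (ki xi16 yi6 zi22) (ki xi16 yi6 zi23)) (@D3.rec (fun _ => Pt) (ki xi18 yi0 zi0) (ki xi18 yi0 zi1) (ki xi18 yi0 zi2) (ki xi18 yi0 zi3) (ki xi16 yi14 zi21) (ki xi16 yi14 zi22) (ki xi16 yi17 zi25) (ki xi17 yi18 zi28) (ki xi17 yi19 zi29) (ki xi16 yi10 zi24) (ki xi17 yi19 zi30) (ki xi17 yi11 zi0) (ki xi17 yi10 zi31) (ki xi16 yi7 zi3) (ki xi16 yi7 zi4) (ki xi16 yi7 zi5) (ki xi18 yi0 zi16) (ki xi18 yi0 zi17) (ki xi18 yi0 zi18) (ki xi16 yi7 zi9)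 (ki xi16 yi7 zi10) (ki xi16 yi7 zi11) (ki xi16 yi7 zi12) (ki xi16 yi7 zi13) (ki xi18 yi0 zi21) (ki xi18 yi0 zi22) (ki xi18 yi0 zi23) (ki xi18 yi0 zi24) (ki xi18 yi0 zi26) (ki xi17 yi20 zi19) (ki xi17 yi20 zi20) (ki xi17 yi20 zi21)) (@D3.rec (fun _ => Pt) (ki xi17 yi20 zi22) (ki xi17 yi20 zi23) (ki xi17 yi17 zi9) (ki xi16 yi7 zi28) (ki xi16 yi7 zi29) (ki xi16 yi20 zi4) (ki xi18 yi1 zi3) (ki xi18 yi1 zi4) (ki xi18 yi1 zi7) (ki xi16 yi20 zi19) (ki xi16 yi11 zi26) (ki xi16 yi11 zi27) (ki xi17 yi18 zi5) (ki xi17 yi18 zi6) (ki xi17 yi20 zi27) (ki xi17 yi0 zi24) (ki xi17 yi0 zi26) (ki xi17 yi5 zi23) (ki xi17 yi5 zi24) (ki xi17 yi9 zi5) (ki xi17 yi9 zi6) (ki xi16 yi18 zi4) (ki xi16 yi18 zi5) (ki xi17 yi5 zi17) (ki xi17 yi5 zi18) (ki xi16 yi16 zi8) (ki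 xi16 yi16 zi9) (ki xi17 yi12 zi21) (ki xi17 yi12 zi22) (ki xi17 yi12 zi23) (ki xi17 yi12 zi24) (ki xi17 yi12 zi25)) (@D3.rec (fun _ => Pt) (ki xi17 yi12 zi26) (ki xi16 yi8 zi25) (ki xi18 yi1 zi29) (ki xi17 yi12 zi30) (ki xi17 yi12 zi31) (ki xi17 yi13 zi0) (ki xi17 yi13 zi1) (ki xi17 yi13 zi2) (ki xi17 yi13 zi3) (ki xi17 yi13 zi4) (ki xi17 yi13 zi5) (ki xi17 yi13 zi6) (ki xi17 yi13 zi7) (ki xi16 yi9 zi24) (ki xi16 yi9 zi30) (ki xi16 yi9 zi31) (ki xi16 yi10 zi10) (ki xi16 yi10 zi11) (ki xi17 yi19 zi10) (ki xi16 yi10 zi23) (ki xi16 yi10 zi26) (ki xi17 yi0 zi6) (ki xi16 yi9 zi15) (ki xi18 yi2 zi12) (ki xi16 yi9 zi17) (ki xi18 yi2 zi14) (ki xi16 yi11 zi7) (ki xi17 yi8 zi18) (ki xi17 yi8 zi19) (ki xi16 yi19 zi28) (ki xi17 yi18 zi4) (ki xi17 yi19 zi4))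 (@D3.rec (fun _ => Pt) (ki xi17 yi19 zi5) (ki xi16 yi15 zi9) (ki xi16 yi15 zi24) (ki xi17 yi21 zi0) (ki xi18 yi2 zi25) (ki xi18 yi2 zi8) (ki xi17 yi19 zi2) (ki xi16 yi10 zi2) (ki xi18 yi2 zi27) (ki xi16 yi15 zi23) (ki xi16 yi10 zi6) (ki xi16 yi10 zi7) (ki xi18 yi2 zi28) (ki xi18 yi2 zi29) (ki xi16 yi19 zi31) (ki xi17 yi21 zi10) (ki xi18 yi2 zi9) (ki xi16 yi21 zi6) (ki xi16 yi21 zi7) (ki xi16 yi10 zi14) (ki xi16 yi10 zi15) (ki xi18 yi3 zi4) (ki xi18 yi3 zi5) (ki xi16 yi10 zi18) (ki xi16 yi10 zi19) (ki xi18 yi3 zi9) (ki xi18 yi3 zi10) (ki xi18 yi3 zi11) (ki xi16 yi19 zi27) (ki xi17 yi18 zi26) (ki xi16 yi20 zi0) (ki xi18 yi0 zi13)) (@D3.rec (fun _ => Pt) (ki xi18 yi3 zi16) (ki xi16 yi10 zi25) (ki xi17 yi8 zi3) (ki xi17 yi8 zi2) (ki xi16 yi10 zi31)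 (ki xi17 yi19 zi0) (ki xi18 yi3 zi19) (ki xi16 yi11 zi2) (ki xi16 yi11 zi3) (ki xi16 yi11 zi4) (ki xi18 yi3 zi21) (ki xi18 yi3 zi22) (ki xi17 yi18 zi15) (ki xi16 yi14 zi11) (ki xi16 yi11 zi10) (ki xi17 yi0 zi29) (ki xi17 yi1 zi8) (ki xi17 yi1 zi9) (ki xi17 yi6 zi27) (ki xi17 yi6 zi28) (ki xi16 yi11 zi22) (ki xi16 yi11 zi23) (ki xi18 yi3 zi28) (ki xi18 yi3 zi29) (ki xi18 yi3 zi30) (ki xi17 yi16 zi19) (ki xi17 yi18 zi7) (ki xi18 yi1 zi8) (ki xi17 yi18 zi10) (ki xi16 yi11 zi30) (ki xi18 yi4 zi3) (ki xi16 yi12 zi0)) (@D3.rec (fun _ => Pt) (ki xi17 yi9 zi14) (ki xi17 yi9 zi15) (ki xi17 yi9 zi16) (ki xi17 yi9 zi17) (ki xi17 yi9 zi7) (ki xi17 yi5 zi19) (ki xi17 yi5 zi20) (ki xi17 yi9 zi4) (ki xi16 yi12 zi12) (ki xi16 yi12 zi13) (ki xi18 yi4 zi10) (ki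 xi18 yi4 zi11) (ki xi18 yi4 zi12) (ki xi16 yi15 zi20) (ki xi17 yi9 zi0) (ki xi17 yi9 zi1) (ki xi17 yi9 zi2) (ki xi17 yi9 zi3) (ki xi17 yi2 zi30) (ki xi16 yi12 zi21) (ki xi16 yi12 zi22) (ki xi18 yi4 zi23) (ki xi18 yi4 zi24) (ki xi18 yi4 zi25) (ki xi16 yi12 zi25) (ki xi16 yi12 zi26) (ki xi16 yi12 zi27) (ki xi18 yi4 zi30) (ki xi18 yi4 zi31) (ki xi18 yi5 zi0) (ki xi18 yi5 zi1) (ki xi17 yi15 zi3)) (@D3.rec (fun _ => Pt) (ki xi17 yi15 zi4) (ki xi17 yi15 zi5) (ki xi17 yi15 zi6) (ki xi17 yi15 zi7) (ki xi17 yi15 zi8) (ki xi17 yi15 zi9) (ki xi17 yi15 zi10) (ki xi17 yi15 zi11) (ki xi17 yi15 zi12) (ki xi16 yi13 zi8) (ki xi16 yi13 zi9) (ki xi18 yi5 zi12) (ki xi18 yi5 zi13) (ki xi18 yi5 zi14) (ki xi16 yi14 zi23) (ki xi16 yi14 zi24) (ki xi16 yi14 zi25) (ki xi17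 yi3 zi23) (ki xi17 yi3 zi24) (ki xi16 yi13 zi17) (ki xi17 yi19 zi6) (ki xi18 yi5 zi23) (ki xi16 yi13 zi20) (ki xi16 yi13 zi21) (ki xi18 yi5 zi27) (ki xi18 yi5 zi28) (ki xi18 yi5 zi29) (ki xi16 yi15 zi7) (ki xi16 yi15 zi8) (ki xi16 yi15 zi10) (ki xi17 yi0 zi4) (ki xi17 yi4 zi12)) (@D3.rec (fun _ => Pt) (ki xi17 yi4 zi11) (ki xi16 yi13 zi30) (ki xi18 yi6 zi4) (ki xi16 yi14 zi0) (ki xi16 yi15 zi22) (ki xi16 yi19 zi6) (ki xi16 yi19 zi7) (ki xi16 yi19 zi5) (ki xi16 yi14 zi7) (ki xi18 yi6 zi8) (ki xi16 yi14 zi9) (ki xi17 yi18 zi11) (ki xi17 yi0 zi11) (ki xi17 yi1 zi20) (ki xi16 yi14 zi15) (ki xi17 yi19 zi14) (ki xi18 yi6 zi11) (ki xi16 yi14 zi18) (ki xi16 yi14 zi19) (ki xi16 yi14 zi20) (ki xi18 yi6 zi14) (ki xi18 yi6 zi15) (ki xi18 yi6 zi16) (ki xi18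 yi0 zi8) (ki xi18 yi0 zi9) (ki xi18 yi5 zi19) (ki xi18 yi5 zi20) (ki xi17 yi0 zi12) (ki xi17 yi11 zi29) (ki xi17 yi11 zi28) (ki xi16 yi14 zi31) (ki xi17 yi19 zi15)) (@D3.rec (fun _ => Pt) (ki xi18 yi6 zi24) (ki xi16 yi15 zi3) (ki xi16 yi15 zi4) (ki xi16 yi15 zi5) (ki xi17 yi19 zi11) (ki xi17 yi19 zi12) (ki xi18 yi6 zi26) (ki xi18 yi6 zi27) (ki xi17 yi21 zi21) (ki xi18 yi6 zi0) (ki xi18 yi2 zi22) (ki xi17 yi0 zi0) (ki xi17 yi12 zi13) (ki xi17 yi12 zi12) (ki xi16 yi15 zi16) (ki xi17 yi19 zi3) (ki xi16 yi15 zi21) (ki xi17 yi19 zi13) (ki xi18 yi4 zi18) (ki xi16 yi16 zi1) (ki xi16 yi16 zi3) (ki xi17 yi5 zi27) (ki xi17 yi5 zi28) (ki xi17 yi5 zi29) (ki xi17 yi5 zi30) (ki xi17 yi5 zi31) (ki xi17 yi6 zi0) (ki xi17 yi19 zi17) (ki xi18 yi1 zi20) (ki xi18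 yi1 zi21) (ki xi17 yi6 zi3) (ki xi17 yi6 zi4)) (@D3.rec (fun _ => Pt) (ki xi17 yi6 zi5) (ki xi17 yi6 zi6) (ki xi17 yi6 zi7) (ki xi17 yi6 zi8) (ki xi17 yi6 zi9) (ki xi17 yi6 zi10) (ki xi17 yi6 zi11) (ki xi17 yi6 zi12) (ki xi16 yi17 zi7) (ki xi18 yi7 zi24) (ki xi16 yi17 zi9) (ki xi16 yi16 zi24) (ki xi16 yi16 zi25) (ki xi16 yi16 zi26) (ki xi18 yi7 zi25) (ki xi18 yi7 zi26) (ki xi18 yi7 zi27) (ki xi18 yi7 zi28) (ki xi16 yi17 zi26) (ki xi16 yi17 zi27) (ki xi16 yi17 zi0) (ki xi16 yi17 zi1) (ki xi16 yi17 zi2) (ki xi18 yi8 zi2) (ki xi18 yi8 zi3) (ki xi18 yi8 zi4) (ki xi18 yi8 zi5) (ki xi17 yi21 zi11) (ki xi17 yi21 zi12) (ki xi18 yi8 zi14) (ki xi17 yi21 zi13) (ki xi18 yi0 zi10)) (@D3.rec (fun _ => Pt) (ki xi18 yi7 zi22) (ki xi18 yi8 zi18) (ki xi16 yi17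 zi8) (ki xi17 yi17 zi19) (ki xi16 yi17 zi13) (ki xi16 yi17 zi14) (ki xi18 yi8 zi20) (ki xi18 yi8 zi21) (ki xi16 yi17 zi18) (ki xi16 yi17 zi19) (ki xi16 yi17 zi20) (ki xi16 yi17 zi21) (ki xi16 yi17 zi22) (ki xi18 yi8 zi23) (ki xi18 yi8 zi24) (ki xi18 yi8 zi25) (ki xi18 yi8 zi26) (ki xi18 yi8 zi27) (ki xi17 yi21 zi1) (ki xi18 yi8 zi1) (ki xi16 yi17 zi31) (ki xi16 yi18 zi0) (ki xi18 yi9 zi0) (ki xi16 yi18 zi1) (ki xi16 yi18 zi2) (ki xi18 yi1 zi15) (ki xi18 yi1 zi16) (ki xi16 yi18 zi8) (ki xi16 yi18 zi9) (ki xi16 yi18 zi10) (ki xi18 yi9 zi4) (ki xi18 yi9 zi5)) (@D3.rec (fun _ => Pt) (ki xi18 yi9 zi6) (ki xi18 yi9 zi7) (ki xi18 yi9 zi8) (ki xi17 yi9 zi31) (ki xi17 yi10 zi0) (ki xi17 yi10 zi1) (ki xi17 yi10 zi2) (ki xi17 yi10 zi3) (ki xi17 yi10 zi4)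 (ki xi17 yi10 zi5) (ki xi17 yi10 zi6) (ki xi17 yi10 zi7) (ki xi17 yi10 zi8) (ki xi17 yi16 zi23) (ki xi17 yi16 zi24) (ki xi16 yi18 zi26) (ki xi16 yi18 zi27) (ki xi18 yi9 zi25) (ki xi18 yi9 zi26) (ki xi18 yi9 zi27) (ki xi16 yi18 zi30) (ki xi16 yi18 zi31) (ki xi16 yi19 zi0) (ki xi18 yi9 zi30) (ki xi18 yi10 zi0) (ki xi16 yi19 zi30) (ki xi17 yi18 zi13) (ki xi18 yi6 zi7) (ki xi18 yi6 zi5) (ki xi18 yi6 zi6) (ki xi16 yi19 zi11) (ki xi16 yi19 zi12)) (@D3.rec (fun _ => Pt) (ki xi16 yi19 zi13) (ki xi16 yi19 zi14) (ki xi18 yi10 zi5) (ki xi18 yi10 zi6) (ki xi18 yi10 zi7) (ki xi16 yi19 zi20) (ki xi16 yi19 zi21) (ki xi16 yi19 zi22) (ki xi16 yi19 zi23) (ki xi18 yi0 zi25) (ki xi16 yi19 zi24) (ki xi18 yi10 zi10) (ki xi18 yi10 zi11) (ki xi18 yi10 zi12) (ki xi18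 yi10 zi14) (ki xi18 yi10 zi15) (ki xi17 yi21 zi22) (ki xi18 yi3 zi14) (ki xi18 yi2 zi18) (ki xi17 yi8 zi25) (ki xi18 yi3 zi1) (ki xi16 yi20 zi5) (ki xi18 yi1 zi5) (ki xi17 yi15 zi13) (ki xi17 yi15 zi14) (ki xi17 yi2 zi24) (ki xi17 yi2 zi25) (ki xi17 yi2 zi26) (ki xi17 yi20 zi24) (ki xi17 yi20 zi25) (ki xi17 yi20 zi26) (ki xi17 yi1 zi13)) (@D3.rec (fun _ => Pt) (ki xi17 yi1 zi14) (ki xi17 yi1 zi15) (ki xi17 yi2 zi31) (ki xi17 yi3 zi0) (ki xi17 yi3 zi1) (ki xi17 yi3 zi2) (ki xi17 yi3 zi3) (ki xi17 yi3 zi4) (ki xi17 yi3 zi5) (ki xi17 yi5 zi2) (ki xi16 yi21 zi21) (ki xi16 yi21 zi23) (ki xi16 yi21 zi24) (ki xi17 yi1 zi1) (ki xi17 yi1 zi2) (ki xi16 yi21 zi25) (ki xi16 yi21 zi26) (ki xi16 yi21 zi29) (ki xi16 yi21 zi30) (ki xi17 yi14 zi3) (ki xi17 yi0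 zi2) (ki xi17 yi0 zi3) (ki xi17 yi19 zi31) (ki xi17 yi0 zi5) (ki xi18 yi3 zi2) (ki xi18 yi3 zi3) (ki xi16 yi21 zi11) (ki xi16 yi21 zi12) (ki xi17 yi21 zi23) (ki xi18 yi11 zi24) (ki xi18 yi11 zi25) (ki xi18 yi11 zi26)) (@D3.rec (fun _ => Pt) (ki xi17 yi0 zi16) (ki xi17 yi0 zi17) (ki xi17 yi0 zi19) (ki xi17 yi0 zi20) (ki xi17 yi6 zi30) (ki xi17 yi5 zi12) (ki xi17 yi5 zi13) (ki xi17 yi8 zi26) (ki xi18 yi11 zi12) (ki xi18 yi11 zi16) (ki xi17 yi8 zi28) (ki xi17 yi11 zi11) (ki xi18 yi11 zi17) (ki xi17 yi15 zi26) (ki xi18 yi6 zi31) (ki xi17 yi8 zi12) (ki xi18 yi11 zi19) (ki xi18 yi6 zi1) (ki xi18 yi2 zi11) (ki xi17 yi0 zi8) (ki xi18 yi12 zi6) (ki xi17 yi0 zi13) (ki xi17 yi0 zi14) (ki xi18 yi6 zi9) (ki xi18 yi6 zi21) (ki xi18 yi12 zi7) (ki xi17 yi7 zi29)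 (ki xi18 yi11 zi31) (ki xi17 yi4 zi7) (ki xi18 yi12 zi0) (ki xi17 yi18 zi31) (ki xi17 yi18 zi30)) (@D3.rec (fun _ => Pt) (ki xi17 yi8 zi5) (ki xi18 yi1 zi10) (ki xi17 yi7 zi6) (ki xi17 yi12 zi15) (ki xi17 yi6 zi31) (ki xi17 yi7 zi0) (ki xi17 yi10 zi20) (ki xi18 yi11 zi13) (ki xi18 yi11 zi14) (ki xi18 yi11 zi15) (ki xi17 yi6 zi18) (ki xi17 yi12 zi4) (ki xi17 yi12 zi5) (ki xi17 yi12 zi17) (ki xi17 yi11 zi15) (ki xi17 yi11 zi31) (ki xi18 yi3 zi24) (ki xi17 yi12 zi27) (ki xi18 yi11 zi0) (ki xi18 yi11 zi1) (ki xi18 yi11 zi2) (ki xi18 yi11 zi3) (ki xi17 yi3 zi11) (ki xi17 yi3 zi12) (ki xi18 yi6 zi10) (ki xi17 yi1 zi23) (ki xi17 yi1 zi24) (ki xi18 yi13 zi0) (ki xi18 yi13 zi1) (ki xi17 yi4 zi8) (ki xi17 yi4 zi10) (ki xi17 yi17 zi22)) (@D3.rec (fun _ =>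 Pt) (ki xi17 yi20 zi1) (ki xi17 yi20 zi0) (ki xi17 yi2 zi1) (ki xi17 yi2 zi2) (ki xi17 yi2 zi3) (ki xi18 yi13 zi7) (ki xi18 yi13 zi8) (ki xi18 yi13 zi9) (ki xi18 yi13 zi10) (ki xi17 yi2 zi7) (ki xi17 yi2 zi8) (ki xi17 yi2 zi9) (ki xi17 yi2 zi10) (ki xi17 yi2 zi11) (ki xi18 yi13 zi15) (ki xi18 yi13 zi16) (ki xi18 yi13 zi17) (ki xi18 yi13 zi18) (ki xi18 yi13 zi20) (ki xi17 yi4 zi29) (ki xi17 yi4 zi30) (ki xi17 yi4 zi31) (ki xi17 yi5 zi0) (ki xi17 yi5 zi1) (ki xi17 yi16 zi28) (ki xi17 yi16 zi29) (ki xi17 yi16 zi30) (ki xi17 yi5 zi14) (ki xi18 yi10 zi25) (ki xi18 yi10 zi26) (ki xi18 yi10 zi27) (ki xi18 yi10 zi28)) (@D3.rec (fun _ => Pt) (ki xi17 yi7 zi3) (ki xi17 yi14 zi18) (ki xi18 yi4 zi22) (ki xi18 yi11 zi4) (ki xi18 yi11 zi5) (ki xi18 yi11 zi6)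 (ki xi18 yi11 zi7) (ki xi18 yi11 zi8) (ki xi18 yi11 zi9) (ki xi18 yi11 zi10) (ki xi17 yi7 zi15) (ki xi17 yi13 zi27) (ki xi17 yi13 zi28) (ki xi17 yi13 zi30) (ki xi18 yi12 zi30) (ki xi17 yi21 zi24) (ki xi17 yi3 zi16) (ki xi17 yi3 zi17) (ki xi18 yi14 zi13) (ki xi18 yi14 zi14) (ki xi18 yi14 zi15) (ki xi17 yi12 zi8) (ki xi17 yi16 zi16) (ki xi17 yi17 zi28) (ki xi17 yi21 zi15) (ki xi18 yi5 zi21) (ki xi18 yi5 zi22) (ki xi17 yi3 zi27) (ki xi17 yi3 zi28) (ki xi18 yi14 zi24) (ki xi18 yi14 zi25) (ki xi18 yi14 zi26))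
def f_i_18 : D2 → D3 → Pt := @D2.rec (fun _ => D3 → Pt) (@D3.rec (fun _ => Pt) (ki xi17 yi4 zi0) (ki xi17 yi4 zi1) (ki xi17 yi4 zi2) (ki xi17 yi4 zi3) (ki xi18 yi14 zi30) (ki xi18 yi14 zi31) (ki xi18 yi15 zi0) (ki xi18 yi15 zi1) (ki xi17 yi11 zi23) (ki xi17 yi11 zi24) (ki xi17 yi13 zi31) (ki xi18 yi15 zi10) (ki xi18 yi12 zi10) (ki xi17 yi7 zi31) (ki xi18 yi6 zi3) (ki xi18 yi6 zi2) (ki xi17 yi4 zi16) (ki xi17 yi4 zi17) (ki xi17 yi4 zi18) (ki xi18 yi15 zi11) (ki xi18 yi15 zi12) (ki xi17 yi4 zi24) (ki xi17 yi4 zi25) (ki xi17 yi4 zi26) (ki xi17 yi4 zi27) (ki xi17 yi16 zi9) (ki xi17 yi4 zi28) (ki xi18 yi15 zi14) (ki xi18 yi15 zi15) (ki xi18 yi15 zi16) (ki xi18 yi15 zi17) (ki xi18 yi15 zi19)) (@D3.rec (fun _ => Pt) (ki xi18 yi15 zi20) (ki xi18 yi13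 zi27) (ki xi18 yi13 zi28) (ki xi17 yi5 zi6) (ki xi17 yi5 zi7) (ki xi17 yi16 zi22) (ki xi18 yi15 zi27) (ki xi17 yi5 zi8) (ki xi17 yi8 zi27) (ki xi18 yi12 zi1) (ki xi17 yi19 zi1) (ki xi18 yi1 zi17) (ki xi18 yi1 zi18) (ki xi18 yi1 zi19) (ki xi18 yi4 zi8) (ki xi17 yi14 zi25) (ki xi17 yi14 zi26) (ki xi18 yi1 zi11) (ki xi18 yi1 zi12) (ki xi18 yi1 zi13) (ki xi17 yi12 zi28) (ki xi17 yi12 zi29) (ki xi18 yi7 zi0) (ki xi18 yi7 zi1) (ki xi18 yi7 zi2) (ki xi18 yi7 zi3) (ki xi18 yi7 zi4) (ki xi18 yi7 zi5) (ki xi18 yi7 zi7) (ki xi17 yi6 zi2) (ki xi18 yi16 zi14) (ki xi18 yi7 zi13)) (@D3.rec (fun _ => Pt) (ki xi18 yi7 zi14) (ki xi18 yi7 zi15) (ki xi18 yi7 zi16) (ki xi18 yi7 zi17) (ki xi18 yi7 zi18) (ki xi18 yi7 zi19) (ki xi18 yi7 zi20) (ki xi18 yi7 zi21) (ki xi17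 yi7 zi5) (ki xi17 yi7 zi16) (ki xi18 yi12 zi20) (ki xi17 yi18 zi18) (ki xi17 yi6 zi23) (ki xi18 yi16 zi23) (ki xi17 yi6 zi25) (ki xi18 yi3 zi25) (ki xi18 yi3 zi26) (ki xi18 yi3 zi27) (ki xi17 yi16 zi18) (ki xi18 yi12 zi13) (ki xi18 yi12 zi14) (ki xi18 yi12 zi15) (ki xi17 yi12 zi10) (ki xi18 yi14 zi3) (ki xi18 yi16 zi29) (ki xi17 yi7 zi4) (ki xi18 yi12 zi12) (ki xi17 yi7 zi8) (ki xi17 yi7 zi12) (ki xi17 yi7 zi13) (ki xi18 yi16 zi30) (ki xi18 yi16 zi31)) (@D3.rec (fun _ => Pt) (ki xi18 yi17 zi0) (ki xi17 yi16 zi20) (ki xi17 yi17 zi24) (ki xi17 yi17 zi25) (ki xi17 yi7 zi21) (ki xi17 yi7 zi22) (ki xi18 yi17 zi6) (ki xi18 yi17 zi7) (ki xi18 yi17 zi8) (ki xi17 yi7 zi25) (ki xi17 yi7 zi26) (ki xi17 yi7 zi27) (ki xi18 yi17 zi11) (ki xi18 yi17 zi13) (ki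 xi17 yi16 zi17) (ki xi18 yi17 zi16) (ki xi17 yi8 zi0) (ki xi18 yi3 zi18) (ki xi18 yi3 zi17) (ki xi17 yi8 zi6) (ki xi18 yi12 zi11) (ki xi17 yi8 zi10) (ki xi17 yi8 zi11) (ki xi18 yi17 zi17) (ki xi17 yi19 zi16) (ki xi18 yi2 zi15) (ki xi18 yi2 zi16) (ki xi18 yi2 zi17) (ki xi17 yi8 zi22) (ki xi17 yi8 zi23) (ki xi17 yi8 zi24) (ki xi18 yi17 zi20)) (@D3.rec (fun _ => Pt) (ki xi18 yi17 zi21) (ki xi18 yi10 zi20) (ki xi18 yi12 zi2) (ki xi17 yi8 zi30) (ki xi18 yi4 zi19) (ki xi18 yi4 zi20) (ki xi18 yi4 zi21) (ki xi18 yi4 zi9) (ki xi18 yi1 zi14) (ki xi18 yi4 zi7) (ki xi17 yi9 zi10) (ki xi17 yi9 zi11) (ki xi17 yi9 zi12) (ki xi18 yi17 zi28) (ki xi18 yi17 zi29) (ki xi18 yi17 zi30) (ki xi18 yi17 zi31) (ki xi18 yi18 zi0) (ki xi17 yi12 zi18) (ki xi18 yi4 zi4) (ki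 xi18 yi4 zi5) (ki xi18 yi4 zi6) (ki xi17 yi21 zi2) (ki xi17 yi9 zi21) (ki xi17 yi9 zi22) (ki xi17 yi9 zi23) (ki xi18 yi18 zi9) (ki xi18 yi9 zi16) (ki xi18 yi18 zi10) (ki xi18 yi18 zi11) (ki xi17 yi9 zi27) (ki xi17 yi9 zi28)) (@D3.rec (fun _ => Pt) (ki xi17 yi9 zi29) (ki xi17 yi9 zi30) (ki xi18 yi18 zi15) (ki xi18 yi18 zi16) (ki xi18 yi18 zi17) (ki xi18 yi9 zi14) (ki xi18 yi9 zi15) (ki xi18 yi9 zi17) (ki xi18 yi9 zi18) (ki xi18 yi9 zi19) (ki xi18 yi9 zi20) (ki xi18 yi9 zi21) (ki xi17 yi10 zi11) (ki xi17 yi10 zi12) (ki xi17 yi10 zi13) (ki xi18 yi18 zi24) (ki xi18 yi18 zi25) (ki xi18 yi18 zi26) (ki xi18 yi18 zi27) (ki xi17 yi11 zi25) (ki xi17 yi11 zi26) (ki xi17 yi21 zi25) (ki xi17 yi21 zi26) (ki xi17 yi10 zi21) (ki xi18 yi12 zi16) (ki xi18 yi12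 zi17) (ki xi18 yi19 zi4) (ki xi17 yi10 zi24) (ki xi17 yi10 zi25) (ki xi17 yi10 zi26) (ki xi18 yi19 zi7) (ki xi18 yi19 zi8)) (@D3.rec (fun _ => Pt) (ki xi17 yi12 zi9) (ki xi17 yi18 zi17) (ki xi18 yi0 zi15) (ki xi18 yi0 zi14) (ki xi17 yi11 zi2) (ki xi17 yi15 zi28) (ki xi17 yi15 zi29) (ki xi17 yi15 zi27) (ki xi17 yi11 zi9) (ki xi17 yi18 zi23) (ki xi17 yi19 zi24) (ki xi17 yi11 zi16) (ki xi18 yi12 zi24) (ki xi18 yi19 zi15) (ki xi17 yi11 zi20) (ki xi17 yi11 zi21) (ki xi17 yi11 zi22) (ki xi18 yi19 zi17) (ki xi18 yi19 zi18) (ki xi18 yi15 zi7) (ki xi18 yi19 zi0) (ki xi17 yi18 zi24) (ki xi18 yi6 zi23) (ki xi18 yi6 zi22) (ki xi17 yi12 zi0) (ki xi18 yi12 zi25) (ki xi17 yi12 zi6) (ki xi17 yi12 zi7) (ki xi18 yi12 zi21) (ki xi18 yi12 zi23) (ki xi18 yi19 zi21)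 (ki xi17 yi18 zi14)) (@D3.rec (fun _ => Pt) (ki xi18 yi1 zi22) (ki xi18 yi1 zi23) (ki xi18 yi1 zi24) (ki xi18 yi1 zi25) (ki xi18 yi1 zi26) (ki xi18 yi1 zi27) (ki xi18 yi20 zi0) (ki xi18 yi1 zi28) (ki xi18 yi11 zi11) (ki xi18 yi12 zi22) (ki xi18 yi16 zi4) (ki xi18 yi16 zi5) (ki xi18 yi16 zi6) (ki xi18 yi1 zi31) (ki xi18 yi2 zi0) (ki xi18 yi2 zi1) (ki xi18 yi2 zi2) (ki xi18 yi2 zi3) (ki xi18 yi2 zi4) (ki xi18 yi2 zi5) (ki xi18 yi2 zi6) (ki xi18 yi2 zi7) (ki xi17 yi14 zi0) (ki xi18 yi20 zi14) (ki xi17 yi13 zi9) (ki xi17 yi13 zi14) (ki xi17 yi13 zi15) (ki xi17 yi13 zi16) (ki xi17 yi13 zi17) (ki xi18 yi20 zi15) (ki xi18 yi20 zi16) (ki xi18 yi20 zi17)) (@D3.rec (fun _ => Pt) (ki xi18 yi20 zi18) (ki xi17 yi14 zi19) (ki xi17 yi13 zi23) (ki xi17 yi13 zi24)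 (ki xi17 yi13 zi25) (ki xi17 yi13 zi26) (ki xi18 yi20 zi24) (ki xi18 yi20 zi25) (ki xi18 yi20 zi26) (ki xi18 yi21 zi2) (ki xi18 yi20 zi28) (ki xi18 yi14 zi10) (ki xi18 yi14 zi11) (ki xi18 yi21 zi4) (ki xi17 yi13 zi29) (ki xi18 yi15 zi8) (ki xi18 yi21 zi7) (ki xi18 yi21 zi8) (ki xi17 yi14 zi1) (ki xi18 yi11 zi18) (ki xi17 yi14 zi6) (ki xi17 yi14 zi7) (ki xi18 yi21 zi9) (ki xi17 yi14 zi13) (ki xi17 yi14 zi14) (ki xi17 yi14 zi15) (ki xi17 yi14 zi16) (ki xi17 yi14 zi17) (ki xi18 yi21 zi10) (ki xi18 yi21 zi11) (ki xi18 yi21 zi12) (ki xi18 yi21 zi13)) (@D3.rec (fun _ => Pt) (ki xi17 yi14 zi22) (ki xi18 yi15 zi31) (ki xi18 yi16 zi0) (ki xi18 yi16 zi1) (ki xi17 yi14 zi30) (ki xi17 yi14 zi31) (ki xi17 yi15 zi0) (ki xi17 yi15 zi1) (ki xi17 yi15 zi2) (ki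 xi18 yi21 zi17) (ki xi18 yi21 zi18) (ki xi18 yi21 zi19) (ki xi18 yi21 zi20) (ki xi18 yi21 zi21) (ki xi18 yi5 zi5) (ki xi18 yi5 zi6) (ki xi18 yi4 zi27) (ki xi18 yi5 zi7) (ki xi18 yi5 zi8) (ki xi18 yi5 zi9) (ki xi18 yi5 zi10) (ki xi18 yi5 zi11) (ki xi18 yi10 zi22) (ki xi18 yi10 zi23) (ki xi18 yi10 zi24) (ki xi17 yi15 zi17) (ki xi17 yi15 zi18) (ki xi17 yi15 zi19) (ki xi19 yi0 zi3) (ki xi19 yi0 zi4) (ki xi17 yi15 zi23) (ki xi18 yi13 zi19)) (@D3.rec (fun _ => Pt) (ki xi17 yi15 zi24) (ki xi19 yi0 zi7) (ki xi19 yi0 zi8) (ki xi18 yi12 zi3) (ki xi18 yi19 zi12) (ki xi17 yi16 zi2) (ki xi17 yi16 zi3) (ki xi17 yi16 zi4) (ki xi19 yi0 zi11) (ki xi19 yi0 zi12) (ki xi17 yi16 zi11) (ki xi17 yi16 zi12) (ki xi17 yi16 zi13) (ki xi18 yi15 zi18) (ki xi17 yi16 zi14)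 (ki xi17 yi16 zi15) (ki xi18 yi15 zi21) (ki xi19 yi0 zi13) (ki xi19 yi0 zi15) (ki xi19 yi0 zi16) (ki xi18 yi4 zi1) (ki xi18 yi15 zi28) (ki xi18 yi9 zi22) (ki xi18 yi9 zi23) (ki xi18 yi9 zi24) (ki xi17 yi20 zi28) (ki xi17 yi20 zi29) (ki xi17 yi20 zi30) (ki xi17 yi20 zi31) (ki xi18 yi13 zi29) (ki xi18 yi13 zi3) (ki xi18 yi13 zi30)) (@D3.rec (fun _ => Pt) (ki xi17 yi19 zi18) (ki xi17 yi19 zi19) (ki xi17 yi19 zi20) (ki xi17 yi19 zi21) (ki xi17 yi21 zi3) (ki xi17 yi21 zi4) (ki xi17 yi21 zi5) (ki xi17 yi21 zi6) (ki xi17 yi21 zi7) (ki xi17 yi21 zi8) (ki xi17 yi21 zi9) (ki xi18 yi7 zi8) (ki xi17 yi18 zi8) (ki xi17 yi19 zi7) (ki xi17 yi19 zi8) (ki xi17 yi19 zi9) (ki xi17 yi18 zi9) (ki xi17 yi18 zi12) (ki xi18 yi8 zi19) (ki xi17 yi18 zi16) (ki xi18 yi13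 zi4) (ki xi18 yi17 zi3) (ki xi18 yi17 zi4) (ki xi18 yi17 zi5) (ki xi17 yi17 zi29) (ki xi17 yi17 zi30) (ki xi17 yi17 zi31) (ki xi18 yi14 zi18) (ki xi18 yi14 zi19) (ki xi19 yi1 zi12) (ki xi19 yi1 zi13) (ki xi17 yi18 zi27)) (@D3.rec (fun _ => Pt) (ki xi17 yi18 zi29) (ki xi18 yi1 zi9) (ki xi18 yi4 zi2) (ki xi18 yi10 zi3) (ki xi18 yi19 zi11) (ki xi18 yi16 zi22) (ki xi17 yi18 zi20) (ki xi17 yi18 zi25) (ki xi18 yi19 zi13) (ki xi18 yi19 zi20) (ki xi18 yi0 zi12) (ki xi18 yi3 zi20) (ki xi18 yi2 zi26) (ki xi18 yi2 zi19) (ki xi18 yi2 zi20) (ki xi18 yi2 zi21) (ki xi18 yi5 zi24) (ki xi18 yi5 zi25) (ki xi19 yi1 zi7) (ki xi19 yi1 zi8) (ki xi18 yi2 zi10) (ki xi18 yi6 zi28) (ki xi18 yi7 zi9) (ki xi18 yi6 zi29) (ki xi18 yi6 zi12) (ki xi18 yi6 zi25) (ki xi19 yi0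 zi29) (ki xi19 yi0 zi30) (ki xi19 yi0 zi31) (ki xi19 yi1 zi0) (ki xi17 yi21 zi14) (ki xi18 yi19 zi14)) (@D3.rec (fun _ => Pt) (ki xi17 yi19 zi27) (ki xi17 yi19 zi28) (ki xi19 yi2 zi1) (ki xi18 yi10 zi30) (ki xi18 yi11 zi20) (ki xi18 yi13 zi6) (ki xi18 yi13 zi5) (ki xi17 yi20 zi5) (ki xi17 yi20 zi6) (ki xi17 yi20 zi7) (ki xi17 yi20 zi8) (ki xi19 yi2 zi4) (ki xi19 yi2 zi5) (ki xi19 yi2 zi6) (ki xi19 yi2 zi7) (ki xi17 yi20 zi14) (ki xi17 yi20 zi15) (ki xi17 yi20 zi16) (ki xi17 yi20 zi17) (ki xi18 yi9 zi31) (ki xi17 yi20 zi18) (ki xi19 yi2 zi13) (ki xi19 yi2 zi14) (ki xi19 yi2 zi15) (ki xi19 yi2 zi17) (ki xi19 yi2 zi18) (ki xi19 yi2 zi19) (ki xi18 yi1 zi1) (ki xi18 yi1 zi2) (ki xi18 yi10 zi29) (ki xi18 yi10 zi31) (ki xi19 yi0 zi22)) (@D3.rec (fun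 _ => Pt) (ki xi19 yi0 zi23) (ki xi19 yi0 zi24) (ki xi19 yi0 zi25) (ki xi18 yi2 zi23) (ki xi18 yi18 zi8) (ki xi19 yi1 zi1) (ki xi19 yi1 zi2) (ki xi19 yi1 zi4) (ki xi19 yi1 zi5) (ki xi19 yi1 zi6) (ki xi18 yi8 zi11) (ki xi18 yi8 zi12) (ki xi18 yi14 zi20) (ki xi17 yi21 zi18) (ki xi17 yi21 zi19) (ki xi17 yi21 zi20) (ki xi19 yi3 zi3) (ki xi19 yi3 zi4) (ki xi18 yi11 zi27) (ki xi18 yi11 zi28) (ki xi18 yi14 zi12) (ki xi18 yi19 zi1) (ki xi18 yi19 zi2) (ki xi18 yi19 zi3) (ki xi17 yi21 zi29) (ki xi17 yi21 zi30) (ki xi17 yi21 zi31) (ki xi19 yi3 zi11) (ki xi19 yi3 zi16) (ki xi19 yi3 zi12) (ki xi18 yi0 zi4) (ki xi18 yi0 zi5)) (@D3.rec (fun _ => Pt) (ki xi18 yi0 zi6) (ki xi18 yi0 zi7) (ki xi19 yi3 zi17) (ki xi19 yi3 zi18) (ki xi19 yi3 zi19) (ki xi19 yi3 zi20)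 (ki xi19 yi3 zi21) (ki xi18 yi6 zi19) (ki xi18 yi8 zi15) (ki xi19 yi3 zi27) (ki xi18 yi0 zi11) (ki xi18 yi0 zi19) (ki xi18 yi0 zi20) (ki xi19 yi3 zi28) (ki xi18 yi0 zi27) (ki xi18 yi0 zi28) (ki xi18 yi0 zi29) (ki xi18 yi0 zi30) (ki xi18 yi10 zi13) (ki xi18 yi0 zi31) (ki xi18 yi1 zi0) (ki xi18 yi10 zi16) (ki xi19 yi3 zi29) (ki xi19 yi3 zi30) (ki xi19 yi4 zi0) (ki xi19 yi4 zi1) (ki xi19 yi4 zi2) (ki xi18 yi1 zi6) (ki xi18 yi10 zi21) (ki xi18 yi16 zi2) (ki xi18 yi16 zi3) (ki xi18 yi9 zi1)) (@D3.rec (fun _ => Pt) (ki xi18 yi9 zi2) (ki xi18 yi9 zi3) (ki xi18 yi15 zi29) (ki xi18 yi15 zi30) (ki xi18 yi7 zi10) (ki xi18 yi7 zi11) (ki xi18 yi7 zi12) (ki xi18 yi19 zi23) (ki xi18 yi19 zi24) (ki xi18 yi19 zi25) (ki xi18 yi19 zi26) (ki xi18 yi19 zi28) (ki xi18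 yi19 zi29) (ki xi18 yi19 zi30) (ki xi18 yi1 zi30) (ki xi18 yi20 zi6) (ki xi18 yi20 zi7) (ki xi18 yi20 zi8) (ki xi18 yi20 zi9) (ki xi18 yi20 zi10) (ki xi18 yi20 zi11) (ki xi18 yi20 zi12) (ki xi18 yi12 zi5) (ki xi18 yi2 zi13) (ki xi18 yi17 zi18) (ki xi18 yi17 zi19) (ki xi19 yi1 zi19) (ki xi19 yi1 zi21) (ki xi19 yi4 zi31) (ki xi18 yi2 zi24) (ki xi18 yi2 zi30) (ki xi18 yi2 zi31)) (@D3.rec (fun _ => Pt) (ki xi18 yi3 zi0) (ki xi19 yi5 zi0) (ki xi19 yi5 zi2) (ki xi18 yi11 zi21) (ki xi18 yi11 zi22) (ki xi18 yi11 zi23) (ki xi18 yi3 zi6) (ki xi18 yi3 zi7) (ki xi18 yi3 zi8) (ki xi19 yi5 zi7) (ki xi19 yi5 zi8) (ki xi18 yi3 zi12) (ki xi19 yi2 zi16) (ki xi18 yi3 zi13) (ki xi19 yi5 zi11) (ki xi19 yi5 zi12) (ki xi18 yi3 zi15) (ki xi18 yi3 zi23) (ki xi18 yi16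 zi24) (ki xi18 yi16 zi25) (ki xi18 yi3 zi31) (ki xi18 yi4 zi0) (ki xi19 yi5 zi17) (ki xi19 yi5 zi18) (ki xi18 yi18 zi6) (ki xi18 yi18 zi7) (ki xi18 yi17 zi27) (ki xi18 yi17 zi26) (ki xi18 yi4 zi13) (ki xi18 yi4 zi14) (ki xi18 yi4 zi15) (ki xi18 yi4 zi16)) (@D3.rec (fun _ => Pt) (ki xi18 yi4 zi17) (ki xi19 yi5 zi21) (ki xi19 yi5 zi22) (ki xi19 yi5 zi23) (ki xi19 yi5 zi24) (ki xi19 yi5 zi25) (ki xi18 yi17 zi24) (ki xi18 yi17 zi25) (ki xi18 yi14 zi4) (ki xi18 yi4 zi26) (ki xi18 yi4 zi28) (ki xi18 yi4 zi29) (ki xi19 yi6 zi0) (ki xi18 yi21 zi29) (ki xi19 yi6 zi1) (ki xi18 yi5 zi2) (ki xi18 yi5 zi3) (ki xi18 yi5 zi4) (ki xi19 yi6 zi4) (ki xi19 yi6 zi5) (ki xi18 yi21 zi28) (ki xi18 yi21 zi30) (ki xi18 yi21 zi31) (ki xi19 yi0 zi0) (ki xi18 yi5 zi15) (ki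 xi18 yi5 zi16) (ki xi18 yi5 zi17) (ki xi18 yi5 zi18) (ki xi19 yi6 zi7) (ki xi19 yi6 zi8) (ki xi19 yi6 zi9) (ki xi19 yi6 zi10)) (@D3.rec (fun _ => Pt) (ki xi18 yi6 zi20) (ki xi18 yi14 zi21) (ki xi18 yi14 zi22) (ki xi18 yi14 zi23) (ki xi18 yi5 zi26) (ki xi19 yi1 zi22) (ki xi19 yi1 zi23) (ki xi18 yi5 zi30) (ki xi18 yi5 zi31) (ki xi19 yi6 zi19) (ki xi19 yi6 zi20) (ki xi18 yi12 zi4) (ki xi18 yi10 zi4) (ki xi18 yi12 zi8) (ki xi18 yi12 zi31) (ki xi18 yi6 zi13) (ki xi19 yi1 zi28) (ki xi18 yi6 zi17) (ki xi18 yi6 zi18) (ki xi19 yi6 zi23) (ki xi18 yi12 zi9) (ki xi18 yi6 zi30) (ki xi19 yi1 zi26) (ki xi18 yi16 zi7) (ki xi18 yi16 zi8) (ki xi18 yi16 zi9) (ki xi18 yi16 zi10) (ki xi19 yi6 zi24) (ki xi18 yi16 zi11) (ki xi18 yi16 zi12) (ki xi18 yi16 zi13) (ki xi19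 yi7 zi3)) (@D3.rec (fun _ => Pt) (ki xi18 yi7 zi6) (ki xi19 yi1 zi3) (ki xi19 yi1 zi20) (ki xi19 yi1 zi27) (ki xi19 yi4 zi14) (ki xi19 yi4 zi15) (ki xi18 yi16 zi15) (ki xi18 yi16 zi16) (ki xi18 yi16 zi17) (ki xi18 yi16 zi18) (ki xi18 yi16 zi19) (ki xi18 yi16 zi20) (ki xi18 yi16 zi21) (ki xi19 yi7 zi16) (ki xi18 yi7 zi23) (ki xi18 yi7 zi29) (ki xi18 yi7 zi30) (ki xi18 yi7 zi31) (ki xi18 yi8 zi0) (ki xi19 yi7 zi17) (ki xi19 yi7 zi18) (ki xi19 yi7 zi19) (ki xi19 yi7 zi20) (ki xi19 yi7 zi21) (ki xi18 yi8 zi6) (ki xi18 yi8 zi7) (ki xi18 yi8 zi8) (ki xi19 yi7 zi4) (ki xi18 yi8 zi10) (ki xi19 yi7 zi26) (ki xi19 yi7 zi28) (ki xi19 yi7 zi29)) (@D3.rec (fun _ => Pt) (ki xi19 yi7 zi30) (ki xi19 yi8 zi5) (ki xi18 yi8 zi9) (ki xi19 yi8 zi6) (ki xi18 yi8 zi13)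 (ki xi19 yi8 zi8) (ki xi19 yi8 zi9) (ki xi18 yi8 zi16) (ki xi18 yi8 zi17) (ki xi18 yi8 zi22) (ki xi18 yi8 zi28) (ki xi18 yi8 zi29) (ki xi18 yi8 zi30) (ki xi18 yi8 zi31) (ki xi19 yi8 zi10) (ki xi19 yi4 zi10) (ki xi19 yi4 zi11) (ki xi18 yi9 zi9) (ki xi18 yi9 zi10) (ki xi18 yi9 zi11) (ki xi18 yi9 zi12) (ki xi18 yi9 zi13) (ki xi19 yi7 zi27) (ki xi19 yi8 zi13) (ki xi19 yi8 zi14) (ki xi19 yi8 zi15) (ki xi19 yi8 zi16) (ki xi19 yi8 zi17) (ki xi18 yi18 zi20) (ki xi18 yi18 zi13) (ki xi18 yi18 zi21) (ki xi18 yi18 zi22))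
def f_i_19 : D2 → D3 → Pt := @D2.rec (fun _ => D3 → Pt) (@D3.rec (fun _ => Pt) (ki xi18 yi18 zi23) (ki xi19 yi0 zi20) (ki xi19 yi0 zi21) (ki xi18 yi9 zi28) (ki xi18 yi9 zi29) (ki xi19 yi8 zi26) (ki xi19 yi8 zi27) (ki xi18 yi10 zi1) (ki xi18 yi10 zi2) (ki xi19 yi2 zi20) (ki xi19 yi8 zi29) (ki xi18 yi10 zi8) (ki xi18 yi10 zi9) (ki xi18 yi10 zi17) (ki xi19 yi3 zi31) (ki xi18 yi10 zi18) (ki xi18 yi10 zi19) (ki xi19 yi4 zi3) (ki xi19 yi4 zi4) (ki xi19 yi9 zi1) (ki xi19 yi0 zi1) (ki xi19 yi0 zi2) (ki xi18 yi13 zi31) (ki xi18 yi14 zi0) (ki xi18 yi14 zi1) (ki xi18 yi14 zi2) (ki xi19 yi2 zi26) (ki xi19 yi2 zi27) (ki xi19 yi2 zi2) (ki xi18 yi12 zi26) (ki xi18 yi12 zi27) (ki xi18 yi12 zi28)) (@D3.rec (fun _ => Pt) (ki xi18 yi12 zi29) (ki xi18 yi14 zi5) (ki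 xi18 yi14 zi6) (ki xi18 yi20 zi1) (ki xi18 yi14 zi7) (ki xi18 yi14 zi8) (ki xi18 yi14 zi9) (ki xi18 yi12 zi18) (ki xi18 yi12 zi19) (ki xi19 yi2 zi3) (ki xi19 yi5 zi5) (ki xi19 yi5 zi6) (ki xi18 yi11 zi29) (ki xi18 yi11 zi30) (ki xi19 yi3 zi7) (ki xi19 yi3 zi8) (ki xi19 yi9 zi25) (ki xi19 yi9 zi26) (ki xi19 yi6 zi22) (ki xi18 yi16 zi26) (ki xi18 yi20 zi2) (ki xi18 yi16 zi27) (ki xi18 yi19 zi5) (ki xi18 yi19 zi6) (ki xi19 yi9 zi21) (ki xi19 yi9 zi22) (ki xi18 yi19 zi22) (ki xi18 yi20 zi3) (ki xi18 yi19 zi16) (ki xi19 yi9 zi13) (ki xi19 yi9 zi14) (ki xi19 yi9 zi15)) (@D3.rec (fun _ => Pt) (ki xi19 yi9 zi16) (ki xi18 yi13 zi2) (ki xi19 yi0 zi28) (ki xi19 yi1 zi9) (ki xi18 yi13 zi11) (ki xi18 yi13 zi12) (ki xi18 yi13 zi13) (ki xi18 yi13 zi14) (ki xi19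 yi6 zi27) (ki xi19 yi10 zi10) (ki xi19 yi10 zi11) (ki xi19 yi10 zi12) (ki xi19 yi10 zi13) (ki xi18 yi13 zi21) (ki xi18 yi13 zi22) (ki xi18 yi13 zi23) (ki xi18 yi17 zi12) (ki xi18 yi13 zi24) (ki xi18 yi13 zi25) (ki xi18 yi13 zi26) (ki xi19 yi0 zi9) (ki xi19 yi10 zi18) (ki xi19 yi10 zi19) (ki xi19 yi10 zi20) (ki xi19 yi10 zi21) (ki xi19 yi10 zi23) (ki xi19 yi0 zi26) (ki xi19 yi0 zi27) (ki xi19 yi9 zi6) (ki xi19 yi9 zi7) (ki xi19 yi9 zi8) (ki xi19 yi9 zi9)) (@D3.rec (fun _ => Pt) (ki xi19 yi9 zi17) (ki xi19 yi9 zi18) (ki xi19 yi9 zi20) (ki xi18 yi14 zi16) (ki xi18 yi14 zi17) (ki xi19 yi11 zi2) (ki xi19 yi11 zi3) (ki xi19 yi1 zi14) (ki xi19 yi1 zi15) (ki xi19 yi6 zi15) (ki xi19 yi6 zi16) (ki xi18 yi14 zi27) (ki xi18 yi14 zi29) (ki xi19 yi11 zi9) (ki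 xi19 yi11 zi10) (ki xi19 yi11 zi14) (ki xi18 yi14 zi28) (ki xi18 yi15 zi2) (ki xi18 yi15 zi3) (ki xi18 yi15 zi4) (ki xi18 yi15 zi5) (ki xi18 yi15 zi6) (ki xi19 yi11 zi15) (ki xi19 yi11 zi16) (ki xi19 yi11 zi17) (ki xi19 yi11 zi18) (ki xi19 yi11 zi23) (ki xi18 yi15 zi9) (ki xi18 yi15 zi13) (ki xi18 yi15 zi22) (ki xi18 yi15 zi23) (ki xi19 yi0 zi14)) (@D3.rec (fun _ => Pt) (ki xi18 yi15 zi24) (ki xi18 yi15 zi25) (ki xi18 yi15 zi26) (ki xi19 yi0 zi17) (ki xi19 yi0 zi18) (ki xi19 yi11 zi24) (ki xi19 yi11 zi25) (ki xi19 yi11 zi27) (ki xi19 yi4 zi12) (ki xi19 yi4 zi13) (ki xi18 yi21 zi15) (ki xi18 yi21 zi16) (ki xi19 yi4 zi8) (ki xi19 yi4 zi9) (ki xi18 yi20 zi4) (ki xi18 yi20 zi5) (ki xi19 yi6 zi25) (ki xi19 yi6 zi26) (ki xi19 yi6 zi28) (ki xi19 yi6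 zi29) (ki xi19 yi6 zi30) (ki xi19 yi7 zi0) (ki xi19 yi7 zi11) (ki xi19 yi7 zi12) (ki xi19 yi7 zi13) (ki xi19 yi7 zi14) (ki xi19 yi7 zi15) (ki xi19 yi5 zi15) (ki xi19 yi5 zi16) (ki xi19 yi9 zi30) (ki xi19 yi9 zi31) (ki xi18 yi16 zi28)) (@D3.rec (fun _ => Pt) (ki xi18 yi17 zi1) (ki xi19 yi7 zi6) (ki xi18 yi17 zi2) (ki xi19 yi12 zi13) (ki xi19 yi12 zi14) (ki xi19 yi1 zi10) (ki xi19 yi1 zi11) (ki xi18 yi17 zi9) (ki xi18 yi17 zi10) (ki xi19 yi12 zi19) (ki xi19 yi12 zi20) (ki xi18 yi17 zi14) (ki xi18 yi17 zi15) (ki xi19 yi10 zi22) (ki xi19 yi12 zi22) (ki xi19 yi4 zi27) (ki xi19 yi4 zi28) (ki xi18 yi17 zi22) (ki xi18 yi17 zi23) (ki xi19 yi12 zi27) (ki xi19 yi5 zi31) (ki xi18 yi18 zi1) (ki xi18 yi18 zi2) (ki xi18 yi18 zi3) (ki xi18 yi18 zi4) (ki xi18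 yi18 zi5) (ki xi19 yi12 zi29) (ki xi19 yi12 zi30) (ki xi19 yi12 zi31) (ki xi19 yi13 zi0) (ki xi19 yi13 zi1) (ki xi19 yi5 zi20)) (@D3.rec (fun _ => Pt) (ki xi18 yi18 zi12) (ki xi18 yi18 zi14) (ki xi19 yi13 zi6) (ki xi19 yi8 zi23) (ki xi18 yi18 zi18) (ki xi18 yi18 zi19) (ki xi19 yi13 zi7) (ki xi18 yi18 zi28) (ki xi18 yi18 zi29) (ki xi18 yi18 zi30) (ki xi18 yi18 zi31) (ki xi19 yi13 zi8) (ki xi19 yi13 zi9) (ki xi19 yi13 zi10) (ki xi19 yi13 zi11) (ki xi19 yi3 zi9) (ki xi19 yi3 zi10) (ki xi19 yi10 zi1) (ki xi19 yi10 zi2) (ki xi18 yi19 zi9) (ki xi18 yi19 zi10) (ki xi19 yi13 zi18) (ki xi19 yi1 zi18) (ki xi18 yi19 zi19) (ki xi18 yi19 zi27) (ki xi19 yi4 zi16) (ki xi19 yi4 zi17) (ki xi19 yi2 zi8) (ki xi19 yi4 zi18) (ki xi19 yi4 zi19) (ki xi19 yi4 zi20) (ki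 xi19 yi13 zi20)) (@D3.rec (fun _ => Pt) (ki xi19 yi4 zi21) (ki xi19 yi13 zi30) (ki xi19 yi13 zi31) (ki xi18 yi19 zi31) (ki xi18 yi20 zi27) (ki xi19 yi9 zi19) (ki xi19 yi5 zi1) (ki xi19 yi10 zi0) (ki xi19 yi10 zi4) (ki xi19 yi12 zi2) (ki xi19 yi12 zi3) (ki xi19 yi4 zi22) (ki xi19 yi4 zi23) (ki xi19 yi4 zi24) (ki xi19 yi4 zi25) (ki xi19 yi4 zi26) (ki xi18 yi20 zi13) (ki xi18 yi20 zi19) (ki xi18 yi20 zi20) (ki xi18 yi20 zi21) (ki xi18 yi20 zi22) (ki xi18 yi20 zi23) (ki xi19 yi14 zi8) (ki xi19 yi14 zi9) (ki xi19 yi14 zi10) (ki xi19 yi14 zi11) (ki xi18 yi20 zi29) (ki xi18 yi21 zi22) (ki xi18 yi20 zi30) (ki xi18 yi20 zi31) (ki xi18 yi21 zi0) (ki xi19 yi14 zi0)) (@D3.rec (fun _ => Pt) (ki xi19 yi14 zi16) (ki xi19 yi14 zi17) (ki xi19 yi14 zi19) (ki xi19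 yi14 zi25) (ki xi19 yi14 zi26) (ki xi18 yi21 zi1) (ki xi18 yi21 zi3) (ki xi19 yi14 zi27) (ki xi18 yi21 zi5) (ki xi18 yi21 zi6) (ki xi18 yi21 zi14) (ki xi19 yi11 zi31) (ki xi19 yi12 zi0) (ki xi18 yi21 zi23) (ki xi18 yi21 zi24) (ki xi18 yi21 zi25) (ki xi18 yi21 zi26) (ki xi18 yi21 zi27) (ki xi19 yi14 zi18) (ki xi19 yi14 zi29) (ki xi19 yi14 zi30) (ki xi19 yi14 zi31) (ki xi19 yi15 zi0) (ki xi19 yi6 zi3) (ki xi19 yi9 zi4) (ki xi19 yi9 zi5) (ki xi19 yi0 zi5) (ki xi19 yi0 zi6) (ki xi19 yi15 zi6) (ki xi19 yi0 zi10) (ki xi19 yi10 zi24) (ki xi19 yi10 zi25)) (@D3.rec (fun _ => Pt) (ki xi19 yi15 zi8) (ki xi19 yi0 zi19) (ki xi19 yi11 zi26) (ki xi19 yi11 zi28) (ki xi19 yi8 zi24) (ki xi19 yi8 zi25) (ki xi19 yi2 zi28) (ki xi19 yi2 zi29) (ki xi19 yi2 zi30) (ki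 xi19 yi2 zi31) (ki xi19 yi10 zi30) (ki xi19 yi10 zi8) (ki xi19 yi10 zi9) (ki xi19 yi1 zi29) (ki xi19 yi1 zi30) (ki xi19 yi1 zi31) (ki xi19 yi2 zi0) (ki xi19 yi3 zi0) (ki xi19 yi3 zi1) (ki xi19 yi7 zi5) (ki xi19 yi3 zi2) (ki xi19 yi1 zi24) (ki xi19 yi1 zi25) (ki xi19 yi12 zi17) (ki xi19 yi12 zi18) (ki xi19 yi1 zi16) (ki xi19 yi1 zi17) (ki xi19 yi11 zi5) (ki xi19 yi11 zi6) (ki xi19 yi15 zi23) (ki xi19 yi4 zi29) (ki xi19 yi4 zi30)) (@D3.rec (fun _ => Pt) (ki xi19 yi7 zi7) (ki xi19 yi6 zi17) (ki xi19 yi6 zi18) (ki xi19 yi15 zi21) (ki xi19 yi7 zi8) (ki xi19 yi15 zi17) (ki xi19 yi15 zi18) (ki xi19 yi15 zi19) (ki xi19 yi9 zi11) (ki xi19 yi9 zi12) (ki xi19 yi2 zi9) (ki xi19 yi2 zi10) (ki xi19 yi2 zi11) (ki xi19 yi2 zi12) (ki xi19 yi13 zi24) (ki xi19 yi16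 zi2) (ki xi19 yi16 zi3) (ki xi19 yi16 zi4) (ki xi19 yi2 zi21) (ki xi19 yi2 zi22) (ki xi19 yi2 zi23) (ki xi19 yi2 zi24) (ki xi19 yi5 zi13) (ki xi19 yi2 zi25) (ki xi19 yi8 zi30) (ki xi19 yi8 zi31) (ki xi19 yi16 zi9) (ki xi19 yi16 zi10) (ki xi19 yi16 zi11) (ki xi19 yi16 zi14) (ki xi19 yi9 zi10) (ki xi19 yi15 zi12)) (@D3.rec (fun _ => Pt) (ki xi19 yi15 zi13) (ki xi19 yi15 zi14) (ki xi19 yi3 zi5) (ki xi19 yi3 zi6) (ki xi19 yi16 zi21) (ki xi19 yi9 zi27) (ki xi19 yi9 zi28) (ki xi19 yi13 zi15) (ki xi19 yi13 zi16) (ki xi19 yi3 zi13) (ki xi19 yi3 zi14) (ki xi19 yi16 zi25) (ki xi19 yi16 zi28) (ki xi19 yi16 zi29) (ki xi19 yi3 zi15) (ki xi19 yi3 zi22) (ki xi19 yi3 zi23) (ki xi19 yi3 zi24) (ki xi19 yi3 zi25) (ki xi19 yi16 zi30) (ki xi19 yi16 zi31) (ki xi19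 yi17 zi0) (ki xi19 yi17 zi1) (ki xi19 yi3 zi26) (ki xi19 yi4 zi5) (ki xi19 yi4 zi6) (ki xi19 yi9 zi2) (ki xi19 yi4 zi7) (ki xi19 yi9 zi3) (ki xi19 yi17 zi4) (ki xi19 yi12 zi1) (ki xi19 yi8 zi11)) (@D3.rec (fun _ => Pt) (ki xi19 yi8 zi12) (ki xi19 yi11 zi30) (ki xi19 yi7 zi9) (ki xi19 yi7 zi10) (ki xi19 yi13 zi21) (ki xi19 yi13 zi22) (ki xi19 yi13 zi23) (ki xi19 yi13 zi25) (ki xi19 yi13 zi28) (ki xi19 yi14 zi6) (ki xi19 yi14 zi7) (ki xi19 yi12 zi26) (ki xi19 yi15 zi26) (ki xi19 yi5 zi3) (ki xi19 yi5 zi4) (ki xi19 yi14 zi2) (ki xi19 yi17 zi14) (ki xi19 yi9 zi23) (ki xi19 yi9 zi24) (ki xi19 yi5 zi9) (ki xi19 yi5 zi10) (ki xi19 yi17 zi19) (ki xi19 yi5 zi14) (ki xi19 yi16 zi12) (ki xi19 yi16 zi13) (ki xi19 yi17 zi21) (ki xi19 yi12 zi11) (ki xi19 yi5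 zi19) (ki xi19 yi17 zi24) (ki xi19 yi5 zi26) (ki xi19 yi5 zi27) (ki xi19 yi5 zi28)) (@D3.rec (fun _ => Pt) (ki xi19 yi5 zi29) (ki xi19 yi5 zi30) (ki xi19 yi17 zi25) (ki xi19 yi17 zi26) (ki xi19 yi17 zi27) (ki xi19 yi17 zi28) (ki xi19 yi6 zi2) (ki xi19 yi6 zi6) (ki xi19 yi6 zi11) (ki xi19 yi6 zi12) (ki xi19 yi6 zi13) (ki xi19 yi6 zi14) (ki xi19 yi17 zi31) (ki xi19 yi18 zi0) (ki xi19 yi18 zi1) (ki xi19 yi11 zi7) (ki xi19 yi11 zi8) (ki xi19 yi15 zi29) (ki xi19 yi6 zi21) (ki xi19 yi18 zi6) (ki xi19 yi6 zi31) (ki xi19 yi12 zi4) (ki xi19 yi12 zi5) (ki xi19 yi12 zi6) (ki xi19 yi10 zi14) (ki xi19 yi12 zi7) (ki xi19 yi18 zi7) (ki xi19 yi18 zi8) (ki xi19 yi12 zi8) (ki xi19 yi18 zi15) (ki xi19 yi7 zi1) (ki xi19 yi7 zi2)) (@D3.rec (fun _ => Pt) (ki xi19 yi7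 zi31) (ki xi19 yi15 zi20) (ki xi19 yi12 zi15) (ki xi19 yi15 zi27) (ki xi19 yi15 zi28) (ki xi19 yi17 zi9) (ki xi19 yi12 zi9) (ki xi19 yi12 zi10) (ki xi19 yi7 zi22) (ki xi19 yi7 zi23) (ki xi19 yi7 zi24) (ki xi19 yi7 zi25) (ki xi19 yi18 zi22) (ki xi19 yi18 zi23) (ki xi19 yi18 zi24) (ki xi19 yi18 zi25) (ki xi19 yi8 zi0) (ki xi19 yi8 zi1) (ki xi19 yi8 zi18) (ki xi19 yi8 zi2) (ki xi19 yi18 zi16) (ki xi19 yi18 zi17) (ki xi19 yi18 zi28) (ki xi19 yi18 zi31) (ki xi19 yi19 zi3) (ki xi19 yi8 zi3) (ki xi19 yi8 zi4) (ki xi19 yi8 zi7) (ki xi19 yi17 zi7) (ki xi19 yi8 zi19) (ki xi19 yi8 zi20) (ki xi19 yi8 zi21)) (@D3.rec (fun _ => Pt) (ki xi19 yi8 zi22) (ki xi19 yi18 zi29) (ki xi19 yi18 zi30) (ki xi19 yi19 zi5) (ki xi19 yi19 zi6) (ki xi19 yi15 zi11) (ki xi19 yi8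 zi28) (ki xi19 yi19 zi10) (ki xi19 yi9 zi0) (ki xi19 yi16 zi15) (ki xi19 yi17 zi5) (ki xi19 yi15 zi5) (ki xi19 yi10 zi31) (ki xi19 yi11 zi0) (ki xi19 yi11 zi1) (ki xi19 yi16 zi18) (ki xi19 yi16 zi1) (ki xi19 yi10 zi5) (ki xi19 yi10 zi6) (ki xi19 yi10 zi7) (ki xi19 yi14 zi1) (ki xi19 yi10 zi3) (ki xi19 yi17 zi18) (ki xi19 yi9 zi29) (ki xi19 yi16 zi23) (ki xi19 yi19 zi20) (ki xi19 yi12 zi12) (ki xi19 yi14 zi3) (ki xi19 yi14 zi4) (ki xi19 yi13 zi17) (ki xi19 yi19 zi18) (ki xi19 yi19 zi16)) (@D3.rec (fun _ => Pt) (ki xi19 yi19 zi17) (ki xi19 yi15 zi16) (ki xi19 yi10 zi15) (ki xi19 yi10 zi16) (ki xi19 yi10 zi17) (ki xi19 yi18 zi10) (ki xi19 yi18 zi11) (ki xi19 yi19 zi27) (ki xi19 yi19 zi28) (ki xi19 yi10 zi26) (ki xi19 yi10 zi27) (ki xi19 yi10 zi28)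 (ki xi19 yi12 zi23) (ki xi19 yi12 zi24) (ki xi19 yi10 zi29) (ki xi19 yi15 zi9) (ki xi19 yi19 zi31) (ki xi19 yi20 zi0) (ki xi19 yi15 zi15) (ki xi19 yi19 zi13) (ki xi19 yi19 zi14) (ki xi19 yi11 zi4) (ki xi19 yi20 zi5) (ki xi19 yi15 zi24) (ki xi19 yi18 zi4) (ki xi19 yi11 zi11) (ki xi19 yi20 zi8) (ki xi19 yi20 zi10) (ki xi19 yi11 zi12) (ki xi19 yi11 zi13) (ki xi19 yi11 zi19) (ki xi19 yi11 zi20)) (@D3.rec (fun _ => Pt) (ki xi19 yi11 zi21) (ki xi19 yi11 zi22) (ki xi19 yi20 zi11) (ki xi19 yi20 zi12) (ki xi19 yi11 zi29) (ki xi19 yi15 zi10) (ki xi19 yi17 zi8) (ki xi19 yi14 zi28) (ki xi19 yi17 zi6) (ki xi19 yi14 zi5) (ki xi19 yi18 zi9) (ki xi19 yi18 zi12) (ki xi19 yi17 zi23) (ki xi19 yi19 zi22) (ki xi19 yi12 zi16) (ki xi19 yi18 zi18) (ki xi19 yi18 zi19)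 (ki xi19 yi20 zi17) (ki xi19 yi15 zi22) (ki xi19 yi12 zi21) (ki xi19 yi20 zi20) (ki xi19 yi12 zi25) (ki xi19 yi20 zi1) (ki xi19 yi17 zi12) (ki xi19 yi12 zi28) (ki xi19 yi13 zi2) (ki xi19 yi13 zi3) (ki xi19 yi13 zi4) (ki xi19 yi13 zi5) (ki xi19 yi20 zi22) (ki xi19 yi20 zi23) (ki xi19 yi13 zi12)) (@D3.rec (fun _ => Pt) (ki xi19 yi13 zi13) (ki xi19 yi13 zi14) (ki xi19 yi20 zi25) (ki xi19 yi20 zi26) (ki xi19 yi16 zi24) (ki xi19 yi19 zi24) (ki xi19 yi13 zi19) (ki xi19 yi13 zi26) (ki xi19 yi13 zi27) (ki xi19 yi17 zi10) (ki xi19 yi16 zi5) (ki xi19 yi16 zi6) (ki xi19 yi17 zi11) (ki xi19 yi20 zi29) (ki xi19 yi21 zi1) (ki xi19 yi13 zi29) (ki xi19 yi14 zi20) (ki xi19 yi14 zi21) (ki xi19 yi17 zi15) (ki xi19 yi17 zi16) (ki xi19 yi19 zi23) (ki xi19 yi20 zi15)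 (ki xi19 yi14 zi12) (ki xi19 yi14 zi13) (ki xi19 yi14 zi14) (ki xi19 yi14 zi15) (ki xi19 yi21 zi5) (ki xi19 yi21 zi6) (ki xi19 yi14 zi22) (ki xi19 yi15 zi1) (ki xi19 yi15 zi2) (ki xi19 yi14 zi23)) (@D3.rec (fun _ => Pt) (ki xi19 yi21 zi2) (ki xi19 yi21 zi8) (ki xi19 yi21 zi11) (ki xi19 yi14 zi24) (ki xi19 yi20 zi14) (ki xi19 yi15 zi3) (ki xi19 yi15 zi4) (ki xi19 yi21 zi9) (ki xi19 yi21 zi12) (ki xi19 yi19 zi12) (ki xi19 yi15 zi7) (ki xi19 yi20 zi2) (ki xi19 yi19 zi9) (ki xi19 yi16 zi19) (ki xi19 yi16 zi20) (ki xi19 yi19 zi26) (ki xi19 yi15 zi31) (ki xi19 yi16 zi0) (ki xi19 yi15 zi30) (ki xi19 yi20 zi19) (ki xi19 yi15 zi25) (ki xi19 yi20 zi6) (ki xi19 yi17 zi13) (ki xi19 yi18 zi20) (ki xi19 yi18 zi5) (ki xi19 yi21 zi15) (ki xi19 yi19 zi15) (ki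 xi19 yi16 zi7) (ki xi19 yi16 zi8) (ki xi19 yi20 zi31) (ki xi19 yi21 zi17) (ki xi19 yi16 zi16)) (@D3.rec (fun _ => Pt) (ki xi19 yi16 zi17) (ki xi19 yi17 zi22) (ki xi19 yi19 zi11) (ki xi19 yi21 zi19) (ki xi19 yi21 zi14) (ki xi19 yi16 zi22) (ki xi19 yi19 zi21) (ki xi19 yi20 zi28) (ki xi19 yi16 zi26) (ki xi19 yi21 zi21) (ki xi19 yi16 zi27) (ki xi19 yi17 zi2) (ki xi19 yi17 zi3) (ki xi19 yi21 zi22) (ki xi19 yi19 zi4) (ki xi19 yi18 zi21) (ki xi19 yi20 zi30) (ki xi19 yi17 zi17) (ki xi19 yi21 zi3) (ki xi19 yi19 zi19) (ki xi19 yi17 zi20) (ki xi19 yi21 zi20) (ki xi19 yi17 zi29) (ki xi19 yi17 zi30) (ki xi19 yi21 zi24) (ki xi19 yi18 zi2) (ki xi19 yi18 zi3) (ki xi19 yi21 zi25) (ki xi19 yi20 zi7) (ki xi19 yi18 zi13) (ki xi19 yi20 zi16) (ki xi19 yi19 zi29)) (@D3.rec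 (fun _ => Pt) (ki xi19 yi21 zi26) (ki xi19 yi18 zi14) (ki xi19 yi19 zi0) (ki xi19 yi20 zi18) (ki xi19 yi21 zi16) (ki xi19 yi18 zi26) (ki xi19 yi18 zi27) (ki xi19 yi21 zi30) (ki xi19 yi19 zi1) (ki xi19 yi19 zi7) (ki xi19 yi21 zi28) (ki xi19 yi19 zi2) (ki xi19 yi19 zi8) (ki xi19 yi21 zi31) (ki xi19 yi20 zi4) (ki xi19 yi19 zi25) (ki xi19 yi21 zi4) (ki xi19 yi19 zi30) (ki xi19 yi21 zi27) (ki xi19 yi20 zi3) (ki xi19 yi20 zi21) (ki xi19 yi20 zi9) (ki xi19 yi20 zi13) (ki xi19 yi21 zi29) (ki xi19 yi20 zi24) (ki xi19 yi20 zi27) (ki xi19 yi21 zi0) (ki xi19 yi21 zi18) (ki xi19 yi21 zi10) (ki xi19 yi21 zi23) (ki xi19 yi21 zi7) (ki xi19 yi21 zi13))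
def f_i : Pt → Pt := @Pt.rec (fun _ => Pt) (@D1.rec (fun _ => D2 → D3 → Pt) f_i_0 f_i_1 f_i_2 f_i_3 f_i_4 f_i_5 f_i_6 f_i_7 f_i_8 f_i_9 f_i_10 f_i_11 f_i_12 f_i_13 f_i_14 f_i_15 f_i_16 f_i_17 f_i_18 f_i_19)
def fi_i : Pt → Pt := f_i

theorem inv_chk_i : chkInv allPts beqPt f_i fi_i = true := by decide +kernel

end

end Cfsg.Agent.Helper28.S1685
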