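import Cfsg.Agent.Lib.Helper28.S1685.Tree

set_option autoImplicit false
set_option maxRecDepth 100000
set_option linter.all false

namespace Cfsg.Agent.Helper28.S1685

open Cfsg.Agent.Helper28
open Cfsg.Spor.Fi22 (Gen)

noncomputable section

def lv_b_0 : D2 → D3 → Nat := @D2.rec (fun _ => D3 → Nat) (@D3.rec (fun _ => Nat) 1 0 1 3 4 5 5 6 6 6 7 7 7 7 8 8 8 0 8 9 9 0 9 9 1 2 9 0 10 10 1 2) (@D3.rec (fun _ => Nat) 2 10 10 9 2 3 1 2 2 11 11 11 10 2 2 3 3 3 11 10 3 4 11 2 2 3 3 3 3 12 12 11) (@D3.rec (fun _ => Nat) 11 3 3 3 4 4 4 4 12 11 4 5 12 12 3 3 3 3 4 4 4 4 4 4 13 13 12 12 12 10 4 4) (@D3.rec (fun _ => Nat) 4 4 5 5 5 5 0 12 10 5 6 13 13 13 13 11 4 4 4 4 4 4 5 5 5 5 5 5 5 5 14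 0) (@D3.rec (fun _ => Nat) 13 13 13 11 5 5 5 11 5 6 6 0 6 6 1 6 7 14 14 14 14 14 12 12 5 5 5 5 5 5 5 12) (@D3.rec (fun _ => Nat) 5 6 6 6 6 6 6 6 0 6 6 0 15 1 14 14 14 12 6 6 0 6 12 6 7 0 7 1 2 7 7 14) (@D3.rec (fun _ => Nat) 7 15 15 15 15 15 15 13 13 13 6 6 6 6 6 6 6 0 6 13 6 7 7 7 7 7 7 0 7 0 7 1) (@D3.rec (fun _ => Nat) 2 7 7 1 2 15 15 0 15 13 7 0 7 1 2 7 13 7 0 8 1 2 8 15 2 3 8 16 16 16 16 0) (@D3.rec (fun _ => Nat) 16 16 14 14 14 14 7 7 7 7 7 7 0 7 0 7 1 2 7 14 14 7 15 8 8 8 8 0 8 0 8 1) (@D3.rec (fun _ => Nat) 2 8 1 2 8 16 2 3 8 16 2 3 0 16 1 2 0 14 0 8 1 2 8 7 2 3 3 8 14 1 2 9) (@D3.rec (fun _ => Nat) 16 2 3 3 9 16 3 4 17 17 0 17 0 17 1 2 17 15 15 15 0 15 8 8 8 8 0 8 0 8 1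 2) (@D3.rec (fun _ => Nat) 8 1 2 8 7 2 3 3 8 15 15 16 9 9 0 9 0 9 1 2 9 1 2 9 17 2 3 3 9 17 2 3) (@D3.rec (fun _ => Nat) 3 9 17 3 4 17 3 4 1 2 7 2 1 2 15 1 2 9 8 2 3 3 9 8 3 3 4 4 17 2 3 3) (@D3.rec (fun _ => Nat) 10 17 3 3 4 4 17 4 18 0 18 1 2 18 1 2 18 7 2 3 16 16 0 16 1 2 16 9 9 0 9 0) (@D3.rec (fun _ => Nat) 9 1 2 9 1 2 9 8 2 3 3 9 8 2 3 3 9 8 3 3 4 4 4 16 16 16 17 10 0 10 1 2) (@D3.rec (fun _ => Nat) 10 1 2 10 18 2 3 3 10 18 2 3 3 10 18 3 3 4 4 18 3 3 4 4 4 18 4 18 15 4 5 8) (@D3.rec (fun _ => Nat) 2 3 8 19 2 3 3 20 2 3 3 10 9 3 3 4 4 4 61 62 4 4 18 3 3 4 4 4 18 18 14 4) (@D3.rec (fun _ => Nat) 4 5 5 18 0 19 1 2 19 8 2 3 3 8 2 3 3 8 3 17 0 17 1 2 17 21 2 3 3 17 10 0) (@D3.rec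 (fun _ => Nat) 10 1 2 10 1 2 10 9 2 3 3 10 20 2 3 3 10 9 3 3 4 4 4 9 3 3 4 4 4 61 9 4) (@D3.rec (fun _ => Nat) 4 4 5 5 5 17 18 0 11 1 2 11 19 2 3 3 11 19 2 3 3 11 19 3 3 4 4 4 19 3 3 4) (@D3.rec (fun _ => Nat) 4 4 19 19 15 4 4 5 5 19 19 16 4 4 4 5 5 5 19 0 19 20 5 9 3 21 3 3 4 4 20 3) (@D3.rec (fun _ => Nat) 3 4 4 4 10 60 15 4 4 4 5 59 62 19 19 15 4 4 4 5 5 5 0 19 19 15 5 5 6 1 2 20)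
def lv_b_1 : D2 → D3 → Nat := @D2.rec (fun _ => D3 → Nat) (@D3.rec (fun _ => Nat) 9 2 3 3 9 3 3 4 9 3 3 4 4 9 0 18 1 2 18 21 2 3 3 18 21 3 3 4 4 4 0 11) (@D3.rec (fun _ => Nat) 1 2 11 10 2 3 3 11 22 2 3 3 11 10 3 3 4 4 4 37 3 3 4 4 4 10 10 16 4 4 4 5) (@D3.rec (fun _ => Nat) 5 5 5 10 10 17 4 4 4 5 5 5 5 63 61 62 5 5 5 6 18 0 19 1 2 12 20 2 3 3 12 20) (@D3.rec (fun _ => Nat) 3 3 4 4 4 20 3 3 4 4 4 20 20 6 4 4 4 5 5 5 5 20 20 16 4 4 4 5 5 5 0 20) (@D3.rec (fun _ => Nat) 20 16 5 5 6 0 20 20 20 17 19 5 5 5 6 6 1 2 20 21 21 10 16 21 21 16 4 4 5 5 22 22) (@D3.rec (fun _ => Nat) 16 4 4 4 5 0 60 61 60 16 16 5 0 20 20 20 16 16 5 5 5 6 6 6 1 2 20 20 16 16 6 7) (@D3.rec (fun _ => Nat) 10 2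 3 3 10 3 3 4 4 10 10 17 4 5 10 10 18 4 4 5 5 1 2 19 23 2 3 3 19 23 3 3) (@D3.rec (fun _ => Nat) 4 4 4 23 23 17 4 4 4 5 5 5 5 1 2 12 22 2 3 3 12 11 3 3 4 4 4 22 3 3 4 4) (@D3.rec (fun _ => Nat) 4 11 11 6 4 4 4 5 5 5 5 22 22 17 4 4 4 5 5 5 5 0 11 61 62 17 17 5 5 5 5 6) (@D3.rec (fun _ => Nat) 6 0 11 11 64 18 20 5 5 5 5 6 6 6 63 61 61 6 7 0 1 2 20 21 2 3 3 13 21 3 3 4) (@D3.rec (fun _ => Nat) 4 4 21 21 6 4 4 4 5 5 5 5 21 21 7 4 4 4 5 5 5 5 0 21 21 21 7 7 5 5 5 5) (@D3.rec (fun _ => Nat) 6 6 6 6 0 21 21 21 17 17 5 5 5 6 6 6 1 2 21 21 17 17 6 7 1 2 2 21 21 21 18 20) (@D3.rec (fun _ => Nat) 20 20 6 6 7 2 3 3 22 22 0 0 23 23 17 17 5 5 0 22 22 62 17 17 5 1 2 2 62 17 1 2) (@D3.rec (fun _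 => Nat) 2 21 21 21 17 17 17 17 6 6 6 7 7 7 2 3 3 21 17 17 7 11 3 3 4 4 11 11 6 4 4 5) (@D3.rec (fun _ => Nat) 5 5 0 11 18 5 0 11 11 19 21 5 5 6 24 2 3 3 20 23 3 3 4 4 4 23 23 6 4 4 4 5) (@D3.rec (fun _ => Nat) 5 5 5 0 23 23 23 18 18 5 5 5 5 6 6 6 6 23 2 3 3 13 24 3 3 4 4 4 12 12 6 4) (@D3.rec (fun _ => Nat) 4 4 5 5 5 5 24 24 7 4 4 4 5 5 5 5 0 12 12 73 7 7 5 5 5 5 6 6 6 6 0 24) (@D3.rec (fun _ => Nat) 24 24 18 18 5 5 5 5 6 6 1 2 2 12 65 66 63 18 18 18 18 6 6 7 1 2 2 68 69 12 12 19) (@D3.rec (fun _ => Nat) 19 21 21 21 6 6 6 7 7 7 72 7 0 1 22 2 3 3 21 22 3 3 4 4 4 22 22 7 4 4 4 5) (@D3.rec (fun _ => Nat) 5 5 5 0 22 22 22 7 7 5 5 5 5 6 6 6 6 0 22 22 22 8 8 5 5 5 5 1 2 2 22 22) (@D3.rec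 (fun _ => Nat) 22 22 8 8 8 8 8 6 6 6 6 1 2 2 22 22 22 18 18 18 18 6 6 6 2 3 3 22 18 18 7 2) (@D3.rec (fun _ => Nat) 2 3 4 3 3 22 22 21 21 21 21 21 7 3 3 4 4 23 23 23 1 1 2 2 64 65 18 18 18 1 2 2)
def lv_b_2 : D2 → D3 → Nat := @D2.rec (fun _ => D3 → Nat) (@D3.rec (fun _ => Nat) 62 18 18 2 2 3 2 2 3 3 4 3 22 22 22 18 18 18 18 18 18 7 7 7 3 3 4 4 22 18 18 12) (@D3.rec (fun _ => Nat) 12 6 4 4 5 5 5 0 12 12 7 7 5 5 5 6 6 1 2 12 19 1 2 2 12 12 22 22 22 6 24 3) (@D3.rec (fun _ => Nat) 3 4 4 4 37 25 6 4 4 4 5 5 5 5 0 25 23 25 7 7 5 5 5 5 6 6 6 6 1 2 2 25) (@D3.rec (fun _ => Nat) 25 25 25 19 19 19 19 19 6 6 6 6 7 7 7 25 3 3 4 4 4 36 24 7 4 4 4 5 5 5 5 0) (@D3.rec (fun _ => Nat) 13 13 71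 7 7 5 5 5 5 6 6 6 6 0 24 22 24 8 8 5 5 5 5 6 6 6 6 1 2 2 13 71) (@D3.rec (fun _ => Nat) 13 13 8 8 8 8 8 6 6 6 6 7 7 7 7 7 1 2 2 24 24 24 24 19 19 19 19 19 6 6 2 2) (@D3.rec (fun _ => Nat) 3 3 4 3 64 63 19 19 19 7 0 2 2 3 3 4 3 3 72 71 13 22 22 22 22 22 22 7 7 7 0 8) (@D3.rec (fun _ => Nat) 72 0 1 72 23 3 3 23 23 18 4 4 4 0 23 23 23 8 8 5 5 5 5 1 2 2 23 23 23 23 8 8) (@D3.rec (fun _ => Nat) 8 8 8 6 6 6 6 1 2 2 23 23 23 23 9 9 9 9 9 2 2 3 3 4 3 3 23 23 23 23 9 9) (@D3.rec (fun _ => Nat) 9 9 9 9 9 9 2 2 3 3 4 3 23 23 23 19 19 19 19 19 19 3 3 4 4 23 19 19 19 3 4 3) (@D3.rec (fun _ => Nat) 3 5 5 5 4 4 23 22 22 22 22 22 22 22 19 4 4 5 5 5 24 24 24 2 2 3 4 3 19 19 2 2) (@D3.rec (fun _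 => Nat) 3 3 3 3 3 4 3 4 4 5 5 5 4 23 23 23 19 19 19 19 4 4 5 5 19 0 13 13 7 7 5 5) (@D3.rec (fun _ => Nat) 5 6 6 1 2 2 13 13 13 8 8 8 8 6 6 7 2 3 20 2 2 4 3 3 13 23 23 23 23 26 25 19) (@D3.rec (fun _ => Nat) 4 4 4 5 5 5 5 0 35 35 25 7 7 5 5 5 5 6 6 6 6 1 2 2 25 25 25 23 8 8 8 8) (@D3.rec (fun _ => Nat) 8 6 6 6 6 7 7 7 7 7 2 2 3 3 4 3 3 25 25 66 67 20 20 20 20 20 20 20 7 7 7 8) (@D3.rec (fun _ => Nat) 0 25 26 19 4 4 4 5 5 5 5 0 26 36 26 8 8 5 5 5 5 6 6 6 6 1 2 2 14 71 14 14) (@D3.rec (fun _ => Nat) 8 8 8 8 8 6 6 6 6 7 7 7 7 7 1 2 2 26 26 26 24 9 9 9 9 9 6 6 6 6 7 7) (@D3.rec (fun _ => Nat) 7 7 2 2 3 3 4 3 3 64 14 71 14 9 9 9 9 9 9 9 9 7 7 7 7 7 8 0 8 2 2 3) (@D3.rec (fun _ => Nat)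 3 4 3 3 26 26 20 20 20 20 20 3 3 4 3 4 4 5 70 20 20 20 0 1 3 3 4 3 3 5 5 5) (@D3.rec (fun _ => Nat) 5 4 4 70 72 73 23 23 23 23 23 23 23 23 23 0 8 1 2 0 1 70 24 24 19 0 24 24 24 19 19 1) (@D3.rec (fun _ => Nat) 2 2 24 24 24 24 9 9 9 9 9 2 2 3 3 4 3 3 24 24 24 24 9 9 9 9 9 9 9 9 2 2) (@D3.rec (fun _ => Nat) 3 3 4 3 3 10 10 10 10 3 3 4 3 3 4 4 5 5 5 5 4 4 10 10 10 10 10 10 10 10 10 3)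
def lv_b_3 : D2 → D3 → Nat := @D2.rec (fun _ => D3 → Nat) (@D3.rec (fun _ => Nat) 3 4 3 4 4 5 5 5 4 20 20 20 20 20 20 4 4 5 5 5 20 20 20 5 5 5 11 4 4 6 6 6) (@D3.rec (fun _ => Nat) 6 5 5 5 23 23 23 23 23 23 23 23 20 20 5 5 5 6 6 6 25 25 25 3 4 3 4 5 3 3 4 4) (@D3.rec (fun _ => Nat) 5 5 5 19 4 5 5 6 6 20 19 5 5 6 20 1 2 2 14 14 14 8 8 8 8 6 6 7 7 2 2 3) (@D3.rec (fun _ => Nat) 4 3 3 14 14 9 9 9 9 9 9 7 3 4 21 4 3 3 5 5 4 4 24 24 24 24 24 0 27 25 27 20) (@D3.rec (fun _ => Nat) 20 5 5 5 5 6 6 6 6 1 2 2 27 27 27 37 8 8 8 8 8 6 6 6 6 7 7 7 7 7 2 2) (@D3.rec (fun _ => Nat) 3 3 4 3 3 27 31 27 27 9 9 9 9 9 9 9 9 7 7 7 7 7 8 8 8 0 8 3 3 4 3 3) (@D3.rec (fun _ => Nat) 4 4 5 5 5 5 4 65 66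 68 21 21 21 21 21 21 21 21 8 0 0 1 0 26 24 26 20 20 5 5 5 5) (@D3.rec (fun _ => Nat) 6 6 6 6 1 2 2 34 36 34 36 9 9 9 9 9 6 6 6 6 7 7 7 7 2 2 3 3 4 3 3 69) (@D3.rec (fun _ => Nat) 15 69 15 9 9 9 9 9 9 9 9 7 7 7 7 7 8 8 8 0 8 2 2 3 3 4 3 3 26 26 26 28) (@D3.rec (fun _ => Nat) 10 10 10 10 10 10 10 10 7 7 7 7 8 8 3 3 4 3 3 4 4 5 5 5 5 4 4 71 69 68 15 71) (@D3.rec (fun _ => Nat) 10 10 10 10 10 10 10 10 10 10 10 10 10 8 0 8 1 2 3 3 4 3 3 4 4 5 5 4 21 21 21 21) (@D3.rec (fun _ => Nat) 4 4 5 5 5 6 0 21 21 21 0 1 70 5 5 5 5 11 4 4 6 6 6 6 6 6 5 5 5 0 72 0) (@D3.rec (fun _ => Nat) 24 24 24 24 24 24 24 24 24 24 1 2 70 2 1 9 0 1 2 2 20 2 2 3 3 4 3 3 10 10 10 10) (@D3.rec (fun _ => Nat) 3 3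 4 3 3 4 4 5 5 5 5 4 4 10 10 10 10 10 10 10 10 10 3 3 4 3 3 4 5 4 4 70) (@D3.rec (fun _ => Nat) 73 11 11 11 4 4 5 5 5 5 11 4 4 5 5 6 6 6 6 5 5 5 11 11 11 11 11 11 11 11 11 11) (@D3.rec (fun _ => Nat) 11 4 4 5 5 5 20 4 5 5 6 6 6 5 21 21 21 21 21 21 11 5 5 5 6 6 6 21 21 21 6 6) (@D3.rec (fun _ => Nat) 12 6 6 12 12 5 5 5 7 7 7 7 7 6 6 6 24 24 24 24 24 24 24 24 24 21 21 21 21 6 6 6) (@D3.rec (fun _ => Nat) 7 7 7 26 26 77 4 5 20 20 20 5 5 6 6 20 20 6 21 20 6 7 2 2 3 4 3 3 15 15 9 9) (@D3.rec (fun _ => Nat) 9 9 9 9 7 7 8 3 4 3 3 4 5 5 5 4 4 15 10 10 10 10 10 10 10 10 4 5 22 5 5 11) (@D3.rec (fun _ => Nat) 4 4 6 6 5 5 5 25 25 25 25 25 25 1 2 2 27 27 27 25 21 21 21 21 21 6 6 6 6 76 7 7)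 (@D3.rec (fun _ => Nat) 7 7 2 2 3 3 4 3 3 35 33 35 35 9 9 9 9 9 9 9 9 7 7 7 7 7 8 8 8 0 8 3) (@D3.rec (fun _ => Nat) 3 4 3 3 4 4 5 5 5 5 4 4 67 27 27 29 29 10 10 10 10 10 10 10 10 10 10 10 10 10 8 8)
def lv_b_4 : D2 → D3 → Nat := @D2.rec (fun _ => D3 → Nat) (@D3.rec (fun _ => Nat) 8 0 8 9 0 9 1 2 4 4 5 5 5 5 21 4 5 5 5 6 6 6 6 6 72 0 22 22 22 22 22 0) (@D3.rec (fun _ => Nat) 22 22 22 0 1 1 70 1 2 2 28 28 28 26 21 21 21 21 6 6 6 6 7 7 7 7 7 2 2 3 3 4) (@D3.rec (fun _ => Nat) 3 3 28 28 28 28 10 10 10 10 10 10 10 10 7 7 7 7 8 8 0 8 3 3 4 3 3 4 4 5 5 5) (@D3.rec (fun _ => Nat) 5 4 4 71 67 16 16 71 10 10 10 10 10 10 10 10 10 10 10 10 10 8 8 8 0 8 9 9 1 2 9 3) (@D3.rec (fun _ => Nat)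 3 4 3 3 4 4 5 5 5 5 4 4 28 32 28 28 70 11 11 11 11 69 11 11 11 11 11 11 8 65 8 4) (@D3.rec (fun _ => Nat) 4 5 5 5 5 11 4 4 5 5 5 6 6 6 6 6 6 6 5 5 5 69 0 70 11 11 11 11 11 11 0 11) (@D3.rec (fun _ => Nat) 11 11 11 11 11 11 11 11 11 1 2 68 2 4 4 5 5 21 4 5 5 6 6 22 22 22 22 11 5 5 6 6) (@D3.rec (fun _ => Nat) 7 6 0 1 22 0 22 1 9 6 6 6 6 12 6 6 12 12 5 5 5 0 7 7 7 7 7 7 7 6 6 6) (@D3.rec (fun _ => Nat) 1 2 1 2 2 25 25 25 25 25 25 25 25 25 25 25 25 9 2 70 9 1 2 2 3 21 3 3 4 3 3 4) (@D3.rec (fun _ => Nat) 5 4 4 11 11 11 4 4 5 5 5 5 21 4 4 5 5 6 6 6 6 5 5 5 11 11 11 11 11 11 11 11) (@D3.rec (fun _ => Nat) 11 11 11 4 5 21 4 4 5 6 5 5 5 70 71 66 77 12 11 5 5 6 6 12 6 6 12 12 5 5 5 6) (@D3.rec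 (fun _ => Nat) 7 6 7 7 7 7 7 6 6 6 71 12 76 12 12 12 12 12 12 12 12 13 5 5 6 6 21 6 21 5 6 7) (@D3.rec (fun _ => Nat) 6 7 7 7 22 22 22 22 12 12 6 6 6 7 7 7 22 22 13 7 7 13 13 7 7 7 13 13 13 13 6 6) (@D3.rec (fun _ => Nat) 6 8 8 8 8 8 8 7 7 7 25 25 25 25 25 25 25 25 74 22 22 22 22 22 22 22 7 7 7 8 8 0) (@D3.rec (fun _ => Nat) 21 21 21 6 21 21 7 21 7 3 4 3 3 4 5 5 5 4 4 16 16 10 10 10 10 10 10 10 10 64 8 9) (@D3.rec (fun _ => Nat) 4 5 5 5 11 4 4 5 6 6 6 6 5 5 5 11 11 11 11 11 11 11 11 11 11 11 5 6 12 6 6 12) (@D3.rec (fun _ => Nat) 12 5 5 5 7 7 7 6 6 6 26 26 26 26 26 26 2 2 3 67 4 3 3 29 29 29 29 22 22 22 22 22) (@D3.rec (fun _ => Nat) 22 7 7 7 7 75 8 8 0 8 3 3 4 3 3 4 4 5 5 5 5 4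 4 71 29 35 29 29 10 10 10 10) (@D3.rec (fun _ => Nat) 10 10 10 10 10 10 10 10 10 8 8 8 0 8 9 9 0 9 1 2 9 4 4 5 5 5 5 22 4 4 5 5) (@D3.rec (fun _ => Nat) 5 6 6 6 6 6 6 6 5 5 5 71 66 29 0 29 11 11 11 11 11 11 11 0 11 11 11 11 11 11 11 11) (@D3.rec (fun _ => Nat) 11 11 9 0 9 1 2 1 2 65 2 11 5 5 5 6 6 6 22 6 6 22 6 6 7 6 7 0 7 7 7 0) (@D3.rec (fun _ => Nat) 1 23 23 23 23 0 23 23 72 23 1 65 1 9 72 2 2 3 4 3 3 28 28 28 30 22 22 22 22 7 7 7)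
def lv_b_5 : D2 → D3 → Nat := @D2.rec (fun _ => D3 → Nat) (@D3.rec (fun _ => Nat) 7 7 8 8 8 0 8 3 3 4 3 3 4 4 5 5 5 5 4 4 34 34 34 36 11 11 11 11 11 11 11 11) (@D3.rec (fun _ => Nat) 11 11 8 8 0 8 9 1 2 9 4 4 5 5 5 5 22 4 4 5 5 5 6 6 6 6 6 6 6 5 5 5) (@D3.rec (fun _ => Nat) 64 67 69 0 17 11 11 11 11 66 11 11 0 11 11 11 11 11 11 11 11 11 11 9 63 9 1 2 9 10 68 2) (@D3.rec (fun _ => Nat) 3 4 4 5 5 5 5 22 4 4 5 5 6 6 6 6 6 6 6 5 5 5 30 0 30 12 12 12 12 66 12 12) (@D3.rec (fun _ => Nat) 71 73 12 70 70 12 12 68 11 5 5 5 6 6 6 6 6 12 6 6 12 12 5 5 5 6 6 7 6 7 7 0) (@D3.rec (fun _ => Nat) 7 7 7 7 7 7 7 6 6 6 1 2 79 12 12 12 0 12 12 12 12 1 2 2 12 12 12 12 12 73 12 12) (@D3.rec (fun _ =>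 Nat) 12 12 12 12 9 2 68 13 5 5 6 22 6 22 6 7 6 7 23 23 23 12 12 6 7 6 0 7 0 8 1 9) (@D3.rec (fun _ => Nat) 1 2 10 0 7 7 13 7 7 13 13 7 7 7 13 13 13 13 6 6 6 1 2 2 8 8 8 8 8 8 8 8) (@D3.rec (fun _ => Nat) 8 7 7 7 9 2 10 2 2 3 3 3 26 26 26 26 26 26 26 26 26 26 26 73 10 3 4 4 5 10 4 4) (@D3.rec (fun _ => Nat) 5 5 5 12 21 5 5 6 6 22 6 6 22 22 5 5 5 6 7 6 7 7 7 7 7 6 6 6 12 12 12 12) (@D3.rec (fun _ => Nat) 12 12 12 12 12 12 5 22 6 22 22 5 5 5 6 7 6 6 6 72 75 13 12 12 6 7 6 21 7 13 7 13) (@D3.rec (fun _ => Nat) 13 7 7 7 13 13 13 13 6 6 6 7 8 8 8 8 8 8 8 7 7 7 13 74 13 13 13 13 76 13 13 77) (@D3.rec (fun _ => Nat) 69 13 6 7 6 66 7 22 7 22 7 22 22 7 8 8 78 23 23 80 13 13 13 7 7 7 8 8 23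 14 77 8) (@D3.rec (fun _ => Nat) 8 8 14 14 14 14 8 8 8 14 14 14 14 14 14 14 7 7 7 9 9 9 9 9 9 8 8 0 26 26 26 26) (@D3.rec (fun _ => Nat) 26 77 23 23 23 23 23 23 23 23 23 23 8 8 77 1 22 7 22 4 5 5 5 23 4 4 5 6 6 6 6 5) (@D3.rec (fun _ => Nat) 5 5 0 17 11 11 62 11 11 11 11 11 11 11 11 64 9 11 5 6 6 12 6 6 12 12 5 5 5 7 6 7) (@D3.rec (fun _ => Nat) 7 7 7 7 6 6 6 12 12 12 12 12 12 12 12 12 12 12 12 6 13 13 7 7 7 13 13 13 13 6 6 6) (@D3.rec (fun _ => Nat) 8 8 8 7 7 7 27 27 27 27 27 0 3 4 3 3 5 73 5 5 4 4 29 35 31 31 23 23 23 23 23 23) (@D3.rec (fun _ => Nat) 23 23 8 8 0 8 78 74 0 9 1 2 9 4 4 5 5 5 5 10 4 4 5 5 5 6 6 6 6 6 6 6) (@D3.rec (fun _ => Nat) 5 5 5 71 35 35 0 35 11 11 11 11 11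 11 11 0 11 11 11 11 11 11 11 11 11 11 9 9 0 9 1 2) (@D3.rec (fun _ => Nat) 9 10 10 1 2 10 29 2 3 11 5 5 5 6 6 6 6 6 23 6 6 23 23 5 5 5 6 6 7 6 7 7) (@D3.rec (fun _ => Nat) 7 0 7 7 7 7 7 7 7 6 6 6 67 0 72 1 2 71 12 12 12 0 12 12 12 12 0 12 12 1 2 2)
def lv_b_6 : D2 → D3 → Nat := @D2.rec (fun _ => D3 → Nat) (@D3.rec (fun _ => Nat) 12 12 12 79 12 12 12 12 12 12 12 12 1 2 9 2 70 2 70 12 12 6 6 7 6 7 0 7 23 7 23 23) (@D3.rec (fun _ => Nat) 7 7 7 8 7 0 8 8 0 8 1 2 1 9 24 24 72 24 24 1 69 2 24 10 10 3 4 3 3 5 5 4) (@D3.rec (fun _ => Nat) 4 30 36 30 30 23 23 8 8 8 0 8 9 9 9 1 2 9 4 4 5 5 5 5 10 4 4 5 6 6 6 6) (@D3.rec (fun _ => Nat) 6 6 5 5 5 36 30 0 36 12 12 12 12 0 12 12 12 12 12 66 9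 1 2 9 10 30 2 3 22 5 5 5) (@D3.rec (fun _ => Nat) 6 6 6 6 6 23 6 6 23 23 5 5 5 6 6 7 6 7 7 7 0 7 7 7 7 7 7 7 6 6 6 71) (@D3.rec (fun _ => Nat) 0 69 1 2 18 12 12 12 0 12 12 65 67 63 12 12 1 2 2 12 12 12 12 12 12 12 12 12 12 12 65 10) (@D3.rec (fun _ => Nat) 9 2 3 68 3 12 5 5 6 6 6 6 6 23 6 6 23 23 5 5 5 7 6 7 7 0 7 7 7 7 7 7) (@D3.rec (fun _ => Nat) 6 6 6 1 2 66 13 13 66 66 68 13 13 73 70 13 13 12 12 6 6 7 6 7 7 0 7 7 13 7 7 13) (@D3.rec (fun _ => Nat) 13 7 7 7 13 13 13 13 6 6 6 7 7 8 7 0 8 8 8 8 1 2 2 8 8 8 8 8 8 8 8 8) (@D3.rec (fun _ => Nat) 7 7 7 9 2 76 13 74 13 1 2 2 13 13 13 13 13 13 10 2 2 3 3 3 13 13 13 13 13 75 13 13) (@D3.rec (fun _ => Nat) 13 13 13 76 10 13 13 6 7 6 73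 7 23 7 8 8 24 13 13 13 7 0 8 1 1 2 10 11 2 1 2 2) (@D3.rec (fun _ => Nat) 8 8 8 14 14 8 8 8 14 14 14 14 8 8 8 14 14 14 14 14 14 14 7 7 7 10 2 2 3 3 3 9) (@D3.rec (fun _ => Nat) 9 9 9 9 9 9 9 9 8 8 0 10 11 11 3 3 3 4 4 4 27 27 27 27 27 27 27 27 73 10 4 22) (@D3.rec (fun _ => Nat) 70 11 76 5 5 5 6 13 22 22 6 7 6 75 7 23 7 23 23 7 7 7 23 23 23 23 6 6 6 8 8 8) (@D3.rec (fun _ => Nat) 8 8 8 7 7 7 13 13 13 13 13 13 13 79 14 6 23 7 23 23 23 23 6 6 6 7 7 7 75 72 75 13) (@D3.rec (fun _ => Nat) 13 13 7 22 8 8 22 8 14 8 14 14 14 14 8 8 8 14 14 14 14 14 14 14 7 7 7 9 9 9 9 9) (@D3.rec (fun _ => Nat) 9 9 8 8 0 14 76 14 71 75 69 15 15 7 71 8 8 23 77 9 24 77 78 14 14 14 14 8 8 9 15 15) (@D3.rec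 (fun _ => Nat) 79 80 9 9 9 15 15 15 15 15 15 15 9 9 9 15 15 15 15 15 15 15 15 15 15 8 8 77 10 10 10 10) (@D3.rec (fun _ => Nat) 10 0 1 27 27 79 24 24 24 24 24 24 23 23 5 6 6 24 6 6 24 24 5 5 5 7 6 0 7 7 7 7) (@D3.rec (fun _ => Nat) 7 6 6 6 1 2 18 64 12 12 64 64 12 12 12 12 12 12 12 12 12 66 12 7 6 66 7 7 13 13 7 7) (@D3.rec (fun _ => Nat) 7 13 13 13 13 6 6 6 8 8 8 8 8 8 8 8 7 7 7 70 13 13 68 13 13 13 13 13 13 13 0 13) (@D3.rec (fun _ => Nat) 13 14 14 14 14 8 8 8 14 14 14 14 14 14 14 7 7 7 9 9 9 8 8 0 28 28 0 28 0 28 1 5)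
def lv_b_7 : D2 → D3 → Nat := @D2.rec (fun _ => D3 → Nat) (@D3.rec (fun _ => Nat) 5 5 10 4 4 6 72 72 6 6 5 5 5 37 31 0 37 24 24 24 24 24 24 24 9 1 2 9 78 76 77 1) (@D3.rec (fun _ => Nat) 2 10 31 2 3 23 5 5 5 6 6 6 6 6 70 6 6 11 11 5 5 5 6 6 7 6 7 7 7 0 7 7) (@D3.rec (fun _ => Nat) 7 7 7 7 7 6 6 6 71 71 0 37 1 2 31 12 12 12 0 12 12 12 12 0 12 12 1 2 2 12 12 12) (@D3.rec (fun _ => Nat) 12 12 12 12 12 12 12 12 67 10 10 1 2 10 9 2 3 11 11 72 2 3 31 3 12 12 6 6 7 6 7 7) (@D3.rec (fun _ => Nat) 7 0 7 7 24 7 7 24 24 7 7 7 24 24 24 24 6 6 6 7 7 8 7 0 8 8 8 8 0 8 8 1) (@D3.rec (fun _ => Nat) 2 2 8 8 8 8 8 8 8 8 8 7 7 7 1 2 9 2 75 13 13 69 13 13 1 67 2 13 13 13 13 13) (@D3.rec (fun _ => Nat)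 1 69 2 77 13 13 10 2 2 3 3 3 13 13 13 74 72 13 13 13 13 13 13 78 10 2 10 72 13 13 13 13) (@D3.rec (fun _ => Nat) 7 7 8 7 0 8 8 0 8 1 2 24 24 24 8 8 0 9 9 1 2 2 9 1 10 2 10 25 74 25 11 2) (@D3.rec (fun _ => Nat) 71 5 5 10 4 4 6 5 36 32 0 36 9 9 76 9 1 2 9 10 10 30 2 3 23 5 6 6 6 6 68 6) (@D3.rec (fun _ => Nat) 6 11 11 5 5 5 7 6 7 7 0 7 7 7 6 6 0 36 1 2 30 13 69 13 1 2 13 13 13 13 68 10) (@D3.rec (fun _ => Nat) 9 2 3 32 3 23 23 6 6 7 6 7 7 7 0 7 7 24 7 7 24 24 7 7 7 24 24 24 24 6 6 6) (@D3.rec (fun _ => Nat) 7 8 7 0 8 8 8 8 0 8 8 1 2 2 8 8 8 8 8 8 8 8 7 7 7 1 2 69 9 2 3 67) (@D3.rec (fun _ => Nat) 13 63 13 1 25 2 13 13 13 67 67 63 63 13 13 13 10 2 2 30 3 3 13 13 13 13 13 13 13 13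 13 13) (@D3.rec (fun _ => Nat) 76 65 10 3 4 70 14 14 7 6 7 7 0 7 7 24 7 24 24 7 7 7 24 24 24 24 6 6 6 0 8 8) (@D3.rec (fun _ => Nat) 1 2 2 8 8 8 8 7 7 7 2 68 14 14 66 68 68 70 14 78 76 78 74 13 13 13 7 7 8 7 0 8) (@D3.rec (fun _ => Nat) 8 65 8 8 1 2 2 8 8 8 14 14 8 8 8 14 14 14 14 8 8 8 14 14 14 14 14 14 14 7 7 7) (@D3.rec (fun _ => Nat) 8 8 9 9 1 2 2 9 9 9 9 9 9 10 2 2 3 3 3 9 9 9 9 9 9 9 9 9 8 8 0 10) (@D3.rec (fun _ => Nat) 76 14 11 2 2 27 3 3 29 14 14 25 14 14 11 11 3 3 3 28 4 4 14 14 14 14 75 14 14 75 69 15) (@D3.rec (fun _ => Nat) 15 7 73 8 8 70 9 14 14 0 14 14 1 2 23 11 2 12 24 2 2 3 3 3 3 9 9 9 15 15 15 15) (@D3.rec (fun _ => Nat) 9 9 9 15 15 15 15 15 15 15 9 9 9 15 15 15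 15 15 15 15 15 15 15 8 8 77 11 11 3 3 3 4) (@D3.rec (fun _ => Nat) 4 4 10 10 10 10 10 10 10 10 0 1 12 12 12 4 4 4 5 5 5 28 28 71 28 28 75 11 69 73 78 79) (@D3.rec (fun _ => Nat) 6 80 23 23 23 75 8 78 8 24 8 24 24 24 24 8 8 8 24 24 24 24 24 24 24 7 7 7 9 9 9 9)
def lv_b_8 : D2 → D3 → Nat := @D2.rec (fun _ => D3 → Nat) (@D3.rec (fun _ => Nat) 9 8 8 74 14 14 14 14 24 24 24 24 24 24 24 24 24 7 7 7 8 8 73 14 14 23 14 14 23 23 9 9) (@D3.rec (fun _ => Nat) 23 23 9 15 15 9 15 15 15 15 15 15 15 9 9 9 15 15 15 15 15 15 15 15 15 15 8 8 75 10 10 10) (@D3.rec (fun _ => Nat) 10 0 1 72 69 69 74 15 15 74 9 76 73 15 15 15 15 15 9 16 16 79 16 75 76 76 10 10 10 16 16 16) (@D3.rec (fun _ => Nat) 16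 16 16 16 16 16 16 10 10 0 16 16 16 16 70 16 16 11 11 0 1 25 25 24 7 6 0 7 7 25 25 7) (@D3.rec (fun _ => Nat) 7 7 25 25 25 25 6 6 6 0 8 8 1 2 2 8 8 8 8 8 8 7 7 7 2 3 64 13 13 64 64 13) (@D3.rec (fun _ => Nat) 13 13 13 13 13 13 78 66 13 13 66 8 8 66 66 8 8 8 14 14 14 14 8 8 8 14 14 14 14 14 14 14) (@D3.rec (fun _ => Nat) 7 7 7 9 9 9 9 9 9 9 9 9 8 8 0 70 14 68 14 14 14 14 0 73 75 72 1 14 14 15 15 15) (@D3.rec (fun _ => Nat) 15 15 15 15 9 9 9 15 15 15 15 15 15 15 15 15 15 8 8 0 10 10 0 9 0 9 1 29 78 29 1 80) (@D3.rec (fun _ => Nat) 29 1 77 12 6 6 6 11 11 5 5 5 75 7 7 7 6 6 82 37 1 2 31 25 25 25 25 25 25 10 9 2) (@D3.rec (fun _ => Nat) 3 75 77 77 72 2 3 33 3 76 24 6 6 7 6 7 7 7 0 7 7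 7 7 70 70 7 7 7 71 12 80 81) (@D3.rec (fun _ => Nat) 6 6 6 7 8 7 0 8 8 8 8 0 8 8 1 2 2 8 8 8 8 8 8 8 8 7 7 85 0 73 70 1) (@D3.rec (fun _ => Nat) 2 33 9 2 3 13 13 67 13 13 1 26 2 13 13 13 70 13 13 1 2 13 13 10 2 2 28 3 3 13 13 13) (@D3.rec (fun _ => Nat) 13 13 13 13 13 13 80 67 11 11 10 2 77 10 3 4 76 72 3 31 13 13 13 13 7 7 8 7 0 8 8 8) (@D3.rec (fun _ => Nat) 8 0 8 8 1 2 2 8 8 8 25 25 8 8 8 25 25 25 25 8 8 8 25 25 25 25 25 25 25 7 7 7) (@D3.rec (fun _ => Nat) 8 9 8 0 9 9 1 2 2 9 9 9 9 9 1 2 2 9 9 9 10 2 2 3 3 3 9 9 9 9 9 9) (@D3.rec (fun _ => Nat) 9 9 9 8 8 79 10 2 10 77 14 69 14 14 11 2 28 69 3 29 14 14 14 14 11 2 71 3 24 74 14 11) (@D3.rec (fun _ => Nat) 11 3 3 3 28 4 4 14 14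 14 76 72 14 79 14 0 11 14 14 14 14 0 14 14 8 8 0 9 9 1 2 2) (@D3.rec (fun _ => Nat) 9 1 74 24 2 3 9 1 2 10 11 2 2 3 12 6 11 11 5 71 38 1 2 32 10 76 10 9 2 74 79 32) (@D3.rec (fun _ => Nat) 3 76 24 7 6 7 7 0 7 7 68 70 7 73 70 78 78 6 6 8 0 8 1 2 8 8 7 75 1 2 32 9) (@D3.rec (fun _ => Nat) 2 3 14 71 14 10 2 3 14 71 10 3 4 32 24 24 24 24 7 8 7 0 8 8 8 8 0 8 8 1 2 2) (@D3.rec (fun _ => Nat) 8 8 8 25 25 8 8 25 25 25 25 8 8 8 25 25 25 25 25 25 25 7 7 7 9 8 0 9 1 2 2 9) (@D3.rec (fun _ => Nat) 9 9 9 9 1 2 2 9 9 9 10 2 2 3 3 3 9 9 9 9 9 9 9 9 8 8 74 2 3 10 3 4)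
def lv_b_9 : D2 → D3 → Nat := @D2.rec (fun _ => D3 → Nat) (@D3.rec (fun _ => Nat) 67 65 14 11 2 25 3 14 14 67 67 65 65 14 14 11 11 3 3 28 4 4 14 14 14 14 14 14 67 11 4 81) (@D3.rec (fun _ => Nat) 14 14 0 8 70 8 1 2 2 8 8 8 25 25 25 25 25 8 25 25 25 25 25 25 25 7 7 7 1 2 9 9) (@D3.rec (fun _ => Nat) 2 2 3 3 3 9 9 8 8 75 68 68 68 70 66 72 14 14 0 14 14 8 8 67 9 9 1 2 2 9 9 9) (@D3.rec (fun _ => Nat) 67 67 9 9 9 13 2 2 3 3 3 3 9 9 9 15 15 15 15 9 9 9 15 15 15 15 15 15 15 9 9 9) (@D3.rec (fun _ => Nat) 15 15 15 15 15 15 15 15 15 15 8 8 76 10 10 11 2 2 3 3 3 10 10 10 10 10 10 11 11 3 3 3) (@D3.rec (fun _ => Nat) 4 4 4 10 10 10 10 10 10 10 0 1 12 12 3 3 29 4 27 15 27 15 12 12 12 4 4 29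 5 5 15 15) (@D3.rec (fun _ => Nat) 74 71 69 69 73 15 15 73 9 15 15 1 2 2 15 15 15 24 2 12 25 25 3 3 3 3 4 4 4 4 4 4) (@D3.rec (fun _ => Nat) 4 10 10 10 16 16 16 16 16 16 16 10 10 10 16 16 16 16 16 16 16 16 16 16 10 10 0 16 16 16 16 74) (@D3.rec (fun _ => Nat) 77 16 16 12 12 12 4 4 4 5 5 5 11 11 0 11 11 0 1 13 13 13 5 5 5 6 6 73 75 24 81 24) (@D3.rec (fun _ => Nat) 24 77 9 80 79 9 25 25 9 25 25 25 25 25 25 25 9 9 25 25 25 25 25 25 8 8 10 10 16 16 25 25) (@D3.rec (fun _ => Nat) 25 25 25 25 25 25 8 8 15 15 24 24 15 15 15 24 24 24 10 10 24 24 24 16 16 16 16 16 16 16 16 16) (@D3.rec (fun _ => Nat) 16 16 16 16 10 10 0 16 16 16 16 16 16 74 11 1 71 71 73 17 17 16 16 16 16 16 17 17 17 78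 17 81) (@D3.rec (fun _ => Nat) 75 77 78 82 11 11 0 17 17 17 17 17 17 17 17 0 17 1 76 75 17 1 25 25 0 8 8 1 2 2 8 8) (@D3.rec (fun _ => Nat) 8 26 26 26 26 8 8 8 26 26 26 26 26 26 26 7 7 7 1 2 9 9 2 2 3 3 9 9 9 9 9 8) (@D3.rec (fun _ => Nat) 8 80 3 4 66 14 66 66 14 14 14 14 0 68 70 14 14 68 68 9 9 9 66 68 68 68 9 9 9 15 15 15) (@D3.rec (fun _ => Nat) 15 15 15 15 9 9 9 15 15 15 15 15 15 15 15 15 15 8 8 84 10 10 10 10 10 10 10 0 9 0 9 1) (@D3.rec (fun _ => Nat) 72 15 70 15 0 81 80 70 1 77 15 15 15 16 16 16 16 16 16 16 16 16 16 10 10 0 16 16 16 16 72 79) (@D3.rec (fun _ => Nat) 16 16 81 82 9 84 9 1 11 0 11 1 82 82 1 81 12 13 81 82 7 7 7 12 6 6 74 8 8 7 82 33) (@D3.rec (fun _ => Nat)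 9 2 3 10 3 72 3 33 25 25 7 8 7 0 8 8 8 8 0 8 8 1 2 2 8 8 8 8 8 70 72 72) (@D3.rec (fun _ => Nat) 72 8 8 8 73 13 79 7 7 9 8 0 9 9 1 2 2 9 9 9 0 9 9 1 2 9 9 10 2 2 3 3) (@D3.rec (fun _ => Nat) 3 9 9 9 9 9 9 9 8 84 1 2 73 73 10 2 3 10 3 4 14 67 14 14 11 2 26 3 14 14 70 14) (@D3.rec (fun _ => Nat) 14 11 2 3 14 11 11 3 3 28 4 4 14 14 14 14 14 0 72 11 79 11 4 80 74 14 14 14 14 0 14 14)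
def lv_b_10 : D2 → D3 → Nat := @D2.rec (fun _ => D3 → Nat) (@D3.rec (fun _ => Nat) 8 9 8 0 9 9 1 2 2 9 9 9 71 9 9 1 2 2 9 9 9 13 2 2 3 3 3 3 9 9 9 26) (@D3.rec (fun _ => Nat) 26 26 26 9 9 9 26 26 26 26 26 26 26 9 9 9 26 26 26 26 26 26 8 8 9 10 1 2 10 10 11 2) (@D3.rec (fun _ => Nat) 2 3 3 3 10 10 10 10 10 11 2 2 3 3 10 10 10 11 11 3 3 3 4 4 4 10 10 10 10 10 10 10) (@D3.rec (fun _ => Nat) 10 0 11 15 71 15 12 3 29 69 26 15 15 15 12 3 71 26 75 15 12 12 12 4 4 28 5 5 15 15 0 72) (@D3.rec (fun _ => Nat) 81 82 1 15 15 0 71 15 1 2 2 15 15 15 9 1 74 2 10 25 2 2 3 3 3 2 12 3 75 34 9 2) (@D3.rec (fun _ => Nat) 3 10 32 25 25 71 8 0 8 1 68 2 8 8 70 70 78 78 7 9 1 2 9 10 2 3 9 2 3 10 3 4) (@D3.rec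 (fun _ => Nat) 71 11 3 4 71 11 4 78 25 25 25 0 25 25 9 8 0 9 1 2 2 9 9 9 67 9 9 1 2 2 9 9) (@D3.rec (fun _ => Nat) 9 13 2 2 3 3 3 3 9 9 9 26 26 26 9 9 26 26 26 26 26 26 26 9 9 9 26 26 26 26 26 26) (@D3.rec (fun _ => Nat) 8 8 10 1 2 10 11 2 2 3 3 10 10 10 10 2 2 3 3 10 10 11 11 3 3 3 4 4 4 10 10 10) (@D3.rec (fun _ => Nat) 10 10 10 3 4 11 4 5 69 65 12 3 27 4 15 69 65 65 15 12 12 4 4 28 5 83 15 15 67 12 0 16) (@D3.rec (fun _ => Nat) 16 1 2 9 72 9 2 2 3 3 3 3 9 9 26 26 26 26 26 26 26 26 26 26 26 8 8 2 3 3 3 3) (@D3.rec (fun _ => Nat) 4 4 10 68 70 74 74 69 15 15 1 2 2 15 15 15 67 67 10 10 14 2 2 3 3 3 3 10 10 10 69 69) (@D3.rec (fun _ => Nat) 67 67 10 10 10 14 14 3 3 3 3 4 4 4 4 4 4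 4 10 10 10 16 16 16 16 16 16 16 10 10 16 16) (@D3.rec (fun _ => Nat) 16 16 16 16 16 16 16 16 10 10 0 16 16 16 16 16 16 74 12 12 3 3 3 4 4 11 11 11 11 12 12 12) (@D3.rec (fun _ => Nat) 4 4 4 5 5 5 11 11 0 11 1 13 13 4 29 5 27 27 13 13 5 5 30 6 74 71 71 75 17 17 16 16) (@D3.rec (fun _ => Nat) 25 2 2 3 3 3 16 16 16 25 26 26 26 26 4 4 4 4 4 4 4 5 5 5 5 5 5 5 5 5 5 11) (@D3.rec (fun _ => Nat) 11 0 17 17 17 17 17 17 17 17 17 17 11 11 0 17 17 17 17 17 17 17 17 0 17 1 17 17 79 77 17 13) (@D3.rec (fun _ => Nat) 13 13 5 5 5 6 6 0 1 1 14 14 14 6 6 76 76 25 77 25 25 25 80 75 10 79 80 73 26 26 26 26) (@D3.rec (fun _ => Nat) 26 26 26 26 26 26 26 26 26 10 26 26 26 16 16 26 26 26 16 16 25 25 25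 25 16 16 16 25 25 25 25 25) (@D3.rec (fun _ => Nat) 11 25 25 25 25 17 17 17 17 17 17 17 17 17 17 17 17 0 17 75 1 17 71 71 71 76 17 17 17 17 17 80) (@D3.rec (fun _ => Nat) 70 18 80 81 81 76 79 0 84 75 1 79 18 18 18 1 0 26 26 1 68 2 9 9 2 2 3 68 3 3 9 9) (@D3.rec (fun _ => Nat) 27 27 27 27 27 27 27 9 9 9 27 27 27 27 27 27 8 8 2 3 10 3 3 4 4 10 10 10 10 0 4 5)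
def lv_b_11 : D2 → D3 → Nat := @D2.rec (fun _ => D3 → Nat) (@D3.rec (fun _ => Nat) 66 15 66 66 15 80 1 70 68 15 15 15 68 68 78 68 10 10 70 70 68 68 70 68 68 10 10 10 16 16 16 16) (@D3.rec (fun _ => Nat) 16 16 16 16 16 16 10 10 0 16 16 16 16 16 16 9 83 9 11 11 11 11 0 11 0 11 1 1 72 70 78 76) (@D3.rec (fun _ => Nat) 1 13 16 16 16 17 17 17 17 17 17 17 17 0 17 11 0 11 1 17 17 72 76 17 81 17 1 13 8 8 13 7) (@D3.rec (fun _ => Nat) 10 3 82 0 26 26 9 8 0 9 9 1 2 2 9 9 9 0 9 9 1 72 2 9 9 13 2 2 3 3 3 3) (@D3.rec (fun _ => Nat) 9 9 9 9 74 72 72 76 72 72 9 9 9 71 81 80 8 10 1 2 10 10 11 2 2 3 3 10 10 1 2 10) (@D3.rec (fun _ => Nat) 10 11 2 3 10 11 11 3 3 3 4 4 4 10 10 10 10 10 0 84 2 11 3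 4 11 4 5 15 69 15 12 3) (@D3.rec (fun _ => Nat) 28 4 15 15 72 15 12 3 4 15 12 12 4 4 28 79 15 15 0 77 1 12 15 15 0 15 1 2 2 15 15 15) (@D3.rec (fun _ => Nat) 9 69 10 1 67 2 10 10 14 2 2 3 3 3 3 10 10 10 67 71 10 10 14 2 2 3 70 3 3 10 10 10) (@D3.rec (fun _ => Nat) 14 14 3 3 3 3 4 4 4 4 4 4 4 10 10 10 27 27 27 27 27 10 10 10 27 27 27 27 27 27 27 27) (@D3.rec (fun _ => Nat) 27 27 10 10 0 27 27 27 11 2 3 11 12 3 3 3 4 4 11 11 11 11 12 3 3 4 11 11 11 12 12 12) (@D3.rec (fun _ => Nat) 4 4 4 5 5 5 11 11 0 11 0 0 1 16 13 30 71 26 16 0 16 13 73 26 73 82 13 13 5 5 30 77) (@D3.rec (fun _ => Nat) 75 80 1 75 78 13 16 1 2 2 73 73 16 26 2 2 3 3 16 16 16 2 26 3 3 10 3 68 26 68 9 1) (@D3.rec (fun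 _ => Nat) 2 9 66 2 72 70 3 9 70 80 2 3 11 3 4 3 4 11 4 5 77 12 4 12 26 26 0 26 26 1 2 2) (@D3.rec (fun _ => Nat) 26 26 26 32 10 1 2 10 14 2 2 3 30 3 3 10 10 31 67 10 10 2 2 3 27 3 3 10 10 14 14 3) (@D3.rec (fun _ => Nat) 3 3 3 4 4 4 29 4 4 4 10 10 10 27 27 27 27 27 10 27 27 27 27 27 27 27 27 27 27 10 10 77) (@D3.rec (fun _ => Nat) 27 27 27 11 2 3 12 3 3 4 4 11 11 3 3 4 4 11 12 12 4 4 4 5 5 5 11 11 4 5 12 14) (@D3.rec (fun _ => Nat) 5 67 13 4 69 67 67 13 13 5 75 1 75 2 16 16 2 3 72 3 3 3 3 4 4 4 4 4 4 10 27 27) (@D3.rec (fun _ => Nat) 27 27 27 27 27 27 27 27 27 27 3 4 4 5 5 70 74 71 69 16 16 15 2 2 3 3 3 3 16 16 16 69) (@D3.rec (fun _ => Nat) 69 69 30 15 3 3 3 3 4 4 4 29 4 4 4 11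 11 69 71 69 69 69 69 69 11 11 15 29 15 15 4 4) (@D3.rec (fun _ => Nat) 4 4 4 4 4 5 5 5 5 5 5 5 5 5 5 11 11 0 17 17 17 17 17 17 17 17 17 17 11 17 17 17) (@D3.rec (fun _ => Nat) 17 17 17 17 17 0 17 73 1 17 17 17 13 13 4 4 5 5 12 12 13 13 5 5 5 6 6 0 1 14 5 31) (@D3.rec (fun _ => Nat) 14 14 6 74 71 71 71 74 17 17 26 26 3 3 3 4 4 4 17 17 17 27 27 27 27 27 27 5 5 5 5 5)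
def lv_b_12 : D2 → D3 → Nat := @D2.rec (fun _ => D3 → Nat) (@D3.rec (fun _ => Nat) 5 5 5 5 5 6 6 6 6 6 6 6 6 0 6 6 1 18 18 18 18 18 18 18 18 0 18 77 1 18 18 18) (@D3.rec (fun _ => Nat) 18 18 0 18 18 1 18 14 14 14 6 6 0 7 1 15 15 79 26 26 78 79 74 79 71 79 82 27 27 27 27 27) (@D3.rec (fun _ => Nat) 27 27 27 27 27 18 27 17 26 26 26 26 26 17 17 17 26 26 26 26 26 26 26 26 18 18 18 77 18 74 1 76) (@D3.rec (fun _ => Nat) 73 73 19 18 18 0 80 72 80 79 76 75 77 79 1 1 2 2 27 27 27 2 78 70 3 10 3 3 3 68 4 4) (@D3.rec (fun _ => Nat) 68 4 4 10 10 28 28 28 28 28 28 28 28 28 28 10 10 0 28 28 28 3 4 11 4 4 5 5 11 0 1 32) (@D3.rec (fun _ => Nat) 5 78 76 78 80 75 82 70 75 70 70 16 16 16 70 70 76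 74 78 70 11 11 70 70 71 70 72 70 70 70 70 70) (@D3.rec (fun _ => Nat) 11 11 0 17 17 17 17 17 17 17 17 0 17 11 0 11 1 17 17 17 17 81 78 12 12 0 12 1 1 13 14 17) (@D3.rec (fun _ => Nat) 17 17 18 18 18 18 18 0 18 18 0 18 1 2 1 30 18 79 1 2 2 27 27 27 32 10 1 28 2 10 10 14) (@D3.rec (fun _ => Nat) 2 2 3 29 3 3 10 10 1 31 2 10 10 14 2 74 3 10 14 14 3 3 3 3 4 4 4 28 4 4 4 10) (@D3.rec (fun _ => Nat) 10 10 10 74 78 72 72 72 72 76 85 10 0 11 2 3 11 12 3 3 4 4 11 11 2 3 11 12 3 4 11 12) (@D3.rec (fun _ => Nat) 12 4 4 4 5 5 11 11 0 80 1 4 12 33 5 69 16 13 4 70 16 78 16 13 4 13 13 1 13 73 16 1) (@D3.rec (fun _ => Nat) 2 16 15 2 2 3 78 3 3 16 16 16 69 11 2 69 69 3 11 15 3 3 3 3 4 4 4 28 4 4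 4 11) (@D3.rec (fun _ => Nat) 11 11 72 69 73 11 15 3 3 3 77 4 26 69 4 4 11 11 11 15 30 15 15 4 4 4 4 4 4 4 5 5) (@D3.rec (fun _ => Nat) 5 5 5 5 5 5 5 5 11 11 0 28 28 28 28 28 28 11 0 28 28 28 28 28 28 28 28 0 28 0 1 3) (@D3.rec (fun _ => Nat) 12 13 4 4 5 5 12 12 0 12 13 4 5 12 12 0 13 13 5 5 5 6 6 0 0 1 0 12 1 1 13 82) (@D3.rec (fun _ => Nat) 71 1 77 75 77 14 14 30 79 14 17 2 2 73 3 73 73 27 27 3 3 4 17 17 17 70 27 70 2 3 68 3) (@D3.rec (fun _ => Nat) 72 70 4 72 3 4 12 4 4 12 14 5 13 69 27 1 69 2 27 27 15 2 2 71 3 3 3 27 27 32 11 2) (@D3.rec (fun _ => Nat) 3 15 3 3 3 29 80 4 29 4 4 11 73 31 69 11 3 3 3 29 69 4 29 4 4 11 15 15 15 4 4 4) (@D3.rec (fun _ => Nat) 4 4 4 5 31 5 5 5 5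 30 5 5 5 11 11 79 28 28 28 28 28 28 28 28 28 28 28 28 28 28 28 77) (@D3.rec (fun _ => Nat) 28 75 3 4 13 4 4 12 4 4 5 5 13 13 5 5 15 5 6 15 5 72 15 14 14 2 74 3 18 3 4 74) (@D3.rec (fun _ => Nat) 4 4 4 4 4 4 35 74 5 5 5 5 5 5 28 28 28 28 28 28 5 5 6 73 69 69 69 17 16 16 3 3) (@D3.rec (fun _ => Nat) 3 3 4 4 4 81 4 4 4 17 17 17 69 69 69 27 27 16 4 4 4 4 4 4 5 31 5 5 5 5 31 5)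
def lv_b_13 : D2 → D3 → Nat := @D2.rec (fun _ => D3 → Nat) (@D3.rec (fun _ => Nat) 5 5 12 71 69 70 71 71 69 69 71 69 69 12 33 16 16 29 16 16 5 5 5 5 5 5 5 5 5 5 6 6) (@D3.rec (fun _ => Nat) 6 6 6 6 6 6 0 6 6 75 1 18 18 18 18 18 18 18 18 18 18 18 18 18 18 0 18 18 75 1 77 18) (@D3.rec (fun _ => Nat) 14 5 5 6 14 14 6 6 0 7 1 15 81 15 73 73 19 18 27 27 27 4 4 4 5 84 5 18 18 0 28 28) (@D3.rec (fun _ => Nat) 28 28 28 28 28 28 28 6 6 6 6 6 6 6 6 0 6 6 7 7 7 7 7 0 7 7 1 2 7 19 19 19) (@D3.rec (fun _ => Nat) 19 19 0 19 19 79 19 1 19 19 1 15 15 0 77 7 1 27 27 80 77 80 75 81 28 28 18 18 27 27 27 27) (@D3.rec (fun _ => Nat) 27 27 27 18 0 27 27 27 27 27 77 86 0 0 19 1 80 2 2 41 40 3 3 28 28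 3 39 70 70 4 11 4) (@D3.rec (fun _ => Nat) 4 4 4 35 35 70 5 5 70 5 5 11 0 29 29 29 29 29 29 29 29 0 29 74 1 4 5 0 5 34 5 0) (@D3.rec (fun _ => Nat) 6 6 1 79 34 68 70 78 70 78 70 70 17 17 17 70 35 76 70 78 76 76 70 12 85 72 70 71 72 72 70 70) (@D3.rec (fun _ => Nat) 72 0 70 74 12 0 12 1 18 18 18 18 18 0 18 18 0 18 1 2 79 1 81 16 18 81 1 14 18 18 0 19) (@D3.rec (fun _ => Nat) 19 19 0 19 0 19 1 2 1 31 2 15 2 2 36 38 3 3 28 28 32 11 2 28 28 3 11 15 3 3 3 30) (@D3.rec (fun _ => Nat) 30 4 30 4 4 11 11 2 33 3 11 15 3 74 4 11 15 15 15 4 4 4 4 4 4 29 30 30 5 77 5 31) (@D3.rec (fun _ => Nat) 5 5 5 11 11 0 74 78 74 74 74 74 0 78 1 3 4 12 13 4 4 5 12 0 3 12 13 4 13 13 5 33) (@D3.rec (fun _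 => Nat) 5 83 1 13 73 82 33 14 14 71 17 2 3 36 16 3 3 3 70 4 79 78 4 4 17 17 17 71 3 69 69 4) (@D3.rec (fun _ => Nat) 12 16 4 4 4 4 4 4 27 32 32 5 5 5 30 5 5 5 12 12 0 69 69 73 12 16 4 4 4 28 71 5) (@D3.rec (fun _ => Nat) 31 71 5 5 12 12 0 30 34 16 30 16 16 5 5 5 5 5 5 5 5 5 5 6 6 6 6 6 6 6 6 0) (@D3.rec (fun _ => Nat) 6 6 0 1 29 29 29 29 0 0 12 1 29 29 29 29 29 0 29 29 0 1 2 1 16 0 5 5 0 1 5 0) (@D3.rec (fun _ => Nat) 0 13 1 14 14 6 6 0 7 86 7 1 1 14 1 3 75 75 28 28 4 18 18 0 70 70 3 4 68 4 72 72) (@D3.rec (fun _ => Nat) 5 4 13 15 15 82 15 71 28 2 69 3 28 16 16 3 3 3 76 71 4 4 4 28 28 34 3 4 16 4 4 4) (@D3.rec (fun _ => Nat) 37 38 31 71 5 32 5 5 69 33 69 12 4 4 4 29 71 5 29 5 5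 16 16 16 16 5 5 5 5 5 5 5) (@D3.rec (fun _ => Nat) 16 5 6 31 6 6 6 6 31 6 75 6 6 73 29 29 29 29 29 29 29 29 29 29 77 29 29 75 79 4 14 70) (@D3.rec (fun _ => Nat) 5 16 5 14 74 6 86 79 75 16 3 76 4 18 4 5 74 5 5 5 5 5 5 37 70 6 6 6 6 6 6 29) (@D3.rec (fun _ => Nat) 29 6 79 71 71 71 18 30 17 17 4 4 4 4 4 4 29 36 5 5 5 72 5 5 5 18 18 0 71 71 30 29)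
def lv_b_14 : D2 → D3 → Nat := @D2.rec (fun _ => D3 → Nat) (@D3.rec (fun _ => Nat) 32 17 5 5 5 5 5 5 5 5 6 31 6 6 6 6 31 6 6 6 71 71 72 71 73 71 71 71 71 73 33 28) (@D3.rec (fun _ => Nat) 33 17 17 29 17 17 6 6 6 6 6 6 6 6 0 6 6 7 7 7 7 7 0 7 7 76 7 1 2 7 7 19) (@D3.rec (fun _ => Nat) 19 19 19 19 19 19 19 19 19 75 77 81 1 79 76 15 6 79 7 15 0 75 7 1 73 73 0 28 28 5 5 82) (@D3.rec (fun _ => Nat) 0 19 0 19 1 29 29 29 29 29 29 29 29 0 7 7 7 7 7 0 7 7 84 1 2 7 8 8 8 1 2 2) (@D3.rec (fun _ => Nat) 20 20 20 79 20 1 80 1 28 0 80 83 0 28 28 28 28 28 28 0 0 19 1 28 28 28 1 1 28 3 3 41) (@D3.rec (fun _ => Nat) 42 4 4 29 29 4 39 72 72 5 0 5 5 5 34 5 31 37 70 6 6 70 0 6 6 76 1 30 30 30 30 30)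 (@D3.rec (fun _ => Nat) 0 30 30 76 1 2 16 34 5 1 0 6 34 6 1 34 70 72 80 72 78 72 72 18 18 0 70 37 76 78 76 74) (@D3.rec (fun _ => Nat) 75 81 74 74 72 72 73 72 74 0 72 72 0 72 1 2 72 74 79 1 78 17 19 19 19 0 19 0 19 1 2 82) (@D3.rec (fun _ => Nat) 1 83 17 2 81 76 82 19 0 19 1 0 20 1 1 2 32 2 32 16 3 3 36 40 4 4 29 29 32 3 30 30) (@D3.rec (fun _ => Nat) 4 12 16 4 4 4 32 36 5 31 5 5 12 0 3 33 4 12 16 4 79 5 76 16 16 16 5 5 5 5 35 5) (@D3.rec (fun _ => Nat) 30 75 6 77 6 30 6 0 6 6 80 1 80 74 74 0 1 16 4 14 35 5 1 77 81 35 14 35 71 3 4 36) (@D3.rec (fun _ => Nat) 17 4 4 4 70 5 73 78 5 5 18 18 0 71 4 71 71 5 0 17 5 5 5 5 5 5 29 34 34 6 6 6) (@D3.rec (fun _ => Nat) 30 6 0 6 6 0 1 71 71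 75 71 17 5 5 5 28 71 6 28 71 0 6 6 0 13 1 32 38 17 30 17 17) (@D3.rec (fun _ => Nat) 6 6 6 6 6 6 6 6 0 6 6 7 7 7 7 7 0 7 7 0 7 1 2 7 7 1 17 30 30 0 0 30) (@D3.rec (fun _ => Nat) 1 1 81 30 30 0 0 30 1 2 1 17 2 1 80 1 81 0 1 1 72 7 77 7 1 29 19 1 72 72 4 5) (@D3.rec (fun _ => Nat) 70 16 5 72 72 6 16 83 16 69 3 71 4 17 17 4 4 4 74 73 5 5 5 29 0 34 4 5 17 5 5 82) (@D3.rec (fun _ => Nat) 5 39 38 31 74 6 31 6 6 71 33 71 77 5 5 17 5 31 71 6 31 6 6 17 17 17 76 17 6 6 6 6) (@D3.rec (fun _ => Nat) 6 6 76 6 17 6 7 35 7 7 7 82 7 32 80 7 82 7 7 30 30 30 30 77 79 30 79 80 76 78 75 84) (@D3.rec (fun _ => Nat) 75 82 75 17 4 81 5 83 5 6 76 6 6 6 6 81 6 6 36 72 7 7 7 7 7 7 79 71 71 71 0 37) (@D3.rec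 (fun _ => Nat) 18 18 5 5 5 5 5 5 31 36 6 6 6 75 6 0 6 6 19 0 19 1 73 30 29 29 18 6 6 6 6 6) (@D3.rec (fun _ => Nat) 6 80 6 6 7 33 7 7 7 7 31 7 7 7 73 71 72 73 73 71 71 73 71 75 33 28 35 18 18 31 0 18) (@D3.rec (fun _ => Nat) 18 7 7 7 7 7 0 7 7 77 7 1 2 7 7 8 8 8 82 8 79 8 1 2 8 8 84 8 2 3 8 20)
def lv_b_15 : D2 → D3 → Nat := @D2.rec (fun _ => D3 → Nat) (@D3.rec (fun _ => Nat) 20 20 20 81 80 79 0 77 7 83 1 1 0 1 1 29 30 30 30 30 30 0 30 82 1 8 8 82 83 8 1 2) (@D3.rec (fun _ => Nat) 2 82 2 0 29 1 1 29 29 29 29 0 0 29 1 1 81 19 29 29 4 4 43 42 5 5 30 0 36 5 41 72) (@D3.rec (fun _ => Nat) 0 72 6 1 6 6 0 6 36 6 35 37 72 7 0 7 76 72 1 2 7 7 17 31 31 76 0 31 1 2 17 2) (@D3.rec (fun _ =>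 Nat) 36 1 83 36 36 70 82 80 72 80 0 72 74 19 0 19 1 70 37 76 78 77 80 83 76 83 78 74 74 72 73 0) (@D3.rec (fun _ => Nat) 74 0 74 1 2 72 83 72 1 2 74 18 2 3 74 81 76 80 0 20 1 81 1 2 18 2 3 18 84 1 30 1) (@D3.rec (fun _ => Nat) 33 2 33 17 4 4 38 40 5 5 30 0 34 4 30 30 5 76 17 5 5 35 5 32 36 6 32 0 6 6 74 1) (@D3.rec (fun _ => Nat) 4 35 5 78 17 73 5 78 83 6 17 17 82 17 6 6 6 6 35 6 32 77 7 81 0 7 33 84 7 1 2 7) (@D3.rec (fun _ => Nat) 7 17 77 1 17 75 76 35 35 35 73 4 5 38 18 5 5 5 72 6 72 78 0 6 6 82 19 1 73 5 71 0) (@D3.rec (fun _ => Nat) 71 6 1 18 6 6 6 6 83 6 6 38 34 38 7 7 0 7 30 0 7 1 2 7 7 1 75 71 81 71 77 18) (@D3.rec (fun _ => Nat) 6 0 6 6 30 73 0 7 33 0 73 1 2 7 7 1 84 32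 37 18 32 75 18 18 7 7 7 7 7 0 7 7) (@D3.rec (fun _ => Nat) 76 7 1 2 7 7 8 8 8 0 8 0 8 1 2 8 8 1 2 8 18 2 3 8 0 31 1 1 87 83 0 1) (@D3.rec (fun _ => Nat) 1 2 18 2 3 83 1 82 81 30 72 72 17 5 6 85 70 17 6 74 76 7 17 71 4 71 5 18 18 5 5 80) (@D3.rec (fun _ => Nat) 5 73 75 6 0 6 6 0 30 1 36 80 5 6 74 18 6 6 72 6 37 38 33 73 7 34 7 7 71 75 35 71) (@D3.rec (fun _ => Nat) 6 81 6 18 6 31 73 7 31 7 7 18 18 82 18 74 18 7 7 7 7 81 7 84 7 82 7 81 18 7 8 33) (@D3.rec (fun _ => Nat) 8 75 8 77 8 81 8 33 75 8 79 8 31 81 81 77 84 77 18 5 81 79 6 6 7 78 7 7 78 7 79 7) (@D3.rec (fun _ => Nat) 78 7 7 39 70 8 8 8 8 8 0 73 75 1 37 19 19 6 6 6 6 0 6 6 31 38 7 7 0 7 76 0) (@D3.rec (fun _ => Nat) 7 1 2 7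 7 81 1 82 19 75 32 31 0 34 19 7 7 7 7 80 7 79 7 82 7 7 8 33 8 8 8 8) (@D3.rec (fun _ => Nat) 33 8 8 73 73 74 73 75 73 73 73 73 37 38 31 19 0 19 79 31 1 2 19 19 8 8 8 82 8 79 8 1) (@D3.rec (fun _ => Nat) 2 8 8 79 8 2 3 8 78 9 9 9 78 9 79 9 2 80 3 9 9 78 9 3 4 82 1 30 1 30 30 33) (@D3.rec (fun _ => Nat) 31 79 0 1 77 83 2 3 1 2 19 84 30 0 0 1 1 86 86 84 5 36 5 43 44 0 6 6 0 31 1 36) (@D3.rec (fun _ => Nat) 6 41 0 74 1 2 74 7 7 0 7 1 2 7 36 36 7 37 39 78 72 0 8 1 2 8 80 72 18 2 3 8) (@D3.rec (fun _ => Nat) 80 1 2 18 2 3 18 36 83 36 87 72 82 0 82 74 0 82 1 2 74 76 81 1 82 19 70 39 82 76 78 78)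
def lv_b_16 : D2 → D3 → Nat := @D2.rec (fun _ => D3 → Nat) (@D3.rec (fun _ => Nat) 82 78 76 76 80 78 76 74 80 74 0 75 1 2 74 1 2 76 19 2 3 3 74 79 74 2 83 3 76 19 3 4) (@D3.rec (fun _ => Nat) 84 1 81 79 19 2 3 19 3 31 34 18 5 37 5 38 42 0 6 6 0 31 1 34 75 5 32 78 32 6 76 18) (@D3.rec (fun _ => Nat) 6 6 37 6 36 36 0 7 73 33 1 2 7 7 5 80 35 6 18 77 6 78 79 7 18 18 82 18 7 7 7 7) (@D3.rec (fun _ => Nat) 37 37 7 32 75 8 84 80 1 2 8 32 79 8 18 2 3 8 18 37 37 73 5 6 40 19 6 6 6 72 0 7) (@D3.rec (fun _ => Nat) 72 80 80 1 2 7 7 84 19 75 6 0 73 1 2 71 7 19 7 7 83 7 7 82 7 7 41 32 38 0 8 0) (@D3.rec (fun _ => Nat) 8 1 2 8 32 1 2 8 78 2 3 8 79 73 73 71 77 19 0 7 1 2 7 7 30 0 73 1 2 8 30 1)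 (@D3.rec (fun _ => Nat) 2 73 78 2 3 8 32 38 74 19 32 74 19 19 8 8 8 79 8 0 8 1 2 8 83 8 81 8 2 3 8 9) (@D3.rec (fun _ => Nat) 9 0 9 1 2 9 1 2 9 19 2 3 3 9 9 2 3 9 19 3 4 1 87 80 1 81 2 3 90 3 81 74) (@D3.rec (fun _ => Nat) 72 18 6 7 85 70 18 7 76 76 18 71 77 5 73 6 19 76 19 6 0 6 74 6 75 75 0 7 1 2 7 7) (@D3.rec (fun _ => Nat) 1 2 19 36 77 6 7 76 19 7 7 72 7 39 38 33 73 8 36 8 77 71 77 35 71 80 7 80 7 81 19 7) (@D3.rec (fun _ => Nat) 33 73 8 33 8 19 82 19 82 19 72 19 8 8 81 8 79 8 81 8 77 8 79 8 83 83 19 9 37 9 80 9) (@D3.rec (fun _ => Nat) 79 9 81 79 9 33 77 9 85 83 77 81 79 6 79 79 7 7 78 8 75 8 78 8 81 8 78 8 39 72 9 9) (@D3.rec (fun _ => Nat) 9 9 1 2 73 75 81 39 20 20 7 7 0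 7 7 1 2 7 7 33 38 0 8 0 8 1 2 8 81 76 1 2) (@D3.rec (fun _ => Nat) 8 20 2 3 8 20 80 32 0 31 1 2 36 20 8 8 81 8 81 8 81 8 79 8 81 8 84 9 33 9 9 9) (@D3.rec (fun _ => Nat) 9 33 9 80 75 73 74 75 75 75 75 77 39 40 81 33 0 20 1 2 20 81 31 2 3 20 81 9 9 9 80 9) (@D3.rec (fun _ => Nat) 81 9 2 3 3 9 9 79 9 3 4 81 10 10 10 80 10 83 10 3 82 4 10 80 4 86 79 1 82 3 89 2) (@D3.rec (fun _ => Nat) 0 1 1 87 0 6 38 6 0 45 0 44 1 2 7 7 1 2 19 38 38 7 0 45 1 2 74 2 3 74 0 8) (@D3.rec (fun _ => Nat) 1 2 8 2 84 3 8 38 38 38 37 80 39 82 72 1 2 9 19 2 3 3 9 82 72 19 3 4 19 2 3 19) (@D3.rec (fun _ => Nat) 3 38 84 89 85 72 0 84 1 2 82 83 76 1 2 81 20 2 3 75 20 82 79 72 78 41 81 78 80 82 82 80) (@D3.rec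 (fun _ => Nat) 80 78 78 80 86 76 80 76 1 2 75 2 81 3 78 20 2 3 3 78 20 3 3 4 4 82 76 3 83 86 4 86) (@D3.rec (fun _ => Nat) 4 81 20 3 4 20 76 19 0 6 37 6 0 40 0 44 1 2 7 7 1 85 19 34 75 6 79 32 80 34 7 76) (@D3.rec (fun _ => Nat) 19 7 7 37 37 7 76 34 80 38 1 2 8 76 38 2 3 8 6 80 35 7 19 73 7 80 79 19 19 84 19 8)
def lv_b_17 : D2 → D3 → Nat := @D2.rec (fun _ => D3 → Nat) (@D3.rec (fun _ => Nat) 8 8 8 37 37 37 34 82 9 83 82 19 2 3 9 32 84 9 19 3 4 37 77 6 7 40 20 7 7 7 81 74) (@D3.rec (fun _ => Nat) 1 2 8 74 80 85 20 2 3 8 83 77 7 1 2 73 2 3 73 20 8 82 8 82 8 8 82 8 81 41 32 0) (@D3.rec (fun _ => Nat) 40 1 2 9 1 2 9 77 2 3 3 9 32 2 3 9 79 3 4 73 75 73 73 20 1 2 8 2 3 8 32 1) (@D3.rec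 (fun _ => Nat) 2 75 80 2 3 9 32 2 83 3 75 3 4 34 77 38 77 20 32 77 20 83 9 84 9 84 9 80 9 1 2 9) (@D3.rec (fun _ => Nat) 2 3 3 9 84 9 83 78 9 3 4 10 10 1 2 10 2 3 10 78 2 3 3 10 20 3 3 4 4 10 3 4) (@D3.rec (fun _ => Nat) 20 4 84 84 3 4 82 84 83 76 19 7 87 72 19 78 71 79 6 73 7 85 20 76 20 81 7 1 2 7 80 76) (@D3.rec (fun _ => Nat) 7 77 77 1 2 8 20 2 3 8 20 2 3 36 79 7 76 20 8 8 74 39 40 33 75 9 33 77 73 77 35 84) (@D3.rec (fun _ => Nat) 8 84 8 81 81 20 35 75 9 35 84 20 84 20 84 20 74 75 9 83 9 77 9 79 9 83 79 9 77 9 79 83) (@D3.rec (fun _ => Nat) 83 83 10 37 10 77 10 83 81 10 83 79 39 77 81 7 81 81 80 9 77 9 80 80 9 81 9 78 39 72 10 10) (@D3.rec (fun _ => Nat) 85 2 3 76 39 21 21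 8 0 8 1 2 8 8 85 2 3 8 33 0 38 1 2 9 1 2 9 83 2 3 9 81) (@D3.rec (fun _ => Nat) 78 21 2 82 3 9 21 3 4 0 34 1 2 33 2 3 33 85 9 9 80 9 82 9 85 81 9 81 9 83 86 10) (@D3.rec (fun _ => Nat) 33 10 10 10 33 85 75 75 76 77 77 75 80 39 42 81 33 1 2 21 2 3 21 82 33 3 4 84 10 10 10 80) (@D3.rec (fun _ => Nat) 10 82 81 10 3 3 4 4 10 81 4 81 11 11 11 80 81 4 82 1 88 1 2 7 38 38 7 1 2 45 1 2) (@D3.rec (fun _ => Nat) 46 20 2 3 8 20 2 3 38 38 38 1 2 43 2 3 3 76 3 4 1 2 9 2 3 3 9 3 85 85 4 81) (@D3.rec (fun _ => Nat) 38 38 87 39 82 41 82 74 20 2 3 3 10 20 3 3 4 4 82 4 20 3 20 84 85 83 74 1 2 80 21 2) (@D3.rec (fun _ => Nat) 3 3 84 83 76 21 2 84 3 83 21 3 4 79 72 84 41 78 78 78 85 80 82 84 80 78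 83 76 79 76 2 81) (@D3.rec (fun _ => Nat) 3 77 3 78 4 21 3 3 4 4 4 21 82 4 4 5 77 4 85 86 82 21 4 78 20 1 2 7 39 39 7 1) (@D3.rec (fun _ => Nat) 2 42 1 2 44 20 2 3 8 82 36 77 7 82 34 80 34 78 20 8 8 39 39 39 75 34 83 38 2 3 3 9) (@D3.rec (fun _ => Nat) 75 34 3 4 7 82 37 20 73 80 20 20 84 9 9 9 39 39 37 85 10 79 82 20 3 4 37 83 20 4 77 7) (@D3.rec (fun _ => Nat) 42 21 8 8 82 76 2 3 3 9 74 81 84 80 21 3 4 80 2 3 3 73 3 4 9 84 9 84 9 9 84 83) (@D3.rec (fun _ => Nat) 45 32 1 2 40 2 3 3 10 85 2 3 3 10 82 3 3 4 4 32 3 4 80 4 79 75 75 73 2 3 3 9) (@D3.rec (fun _ => Nat) 3 4 34 2 82 3 75 82 3 4 37 3 80 4 4 34 76 40 76 76 21 34 76 82 10 85 10 84 10 86 81 10)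
def lv_b_18 : D2 → D3 → Nat := @D2.rec (fun _ => D3 → Nat) (@D3.rec (fun _ => Nat) 2 3 3 10 3 3 4 4 85 10 83 83 81 4 11 11 2 3 11 3 4 81 3 3 4 4 4 85 21 84 4 4) (@D3.rec (fun _ => Nat) 5 4 21 79 84 4 89 83 20 87 73 79 79 7 75 83 21 78 78 21 79 8 88 2 3 3 8 76 76 77 77 21) (@D3.rec (fun _ => Nat) 2 3 3 9 21 3 4 3 77 75 9 41 40 38 75 79 84 73 79 82 80 9 82 83 83 83 35 77 84 21 87 84) (@D3.rec (fun _ => Nat) 21 84 78 10 79 10 82 79 10 84 81 10 83 81 79 85 85 11 35 11 79 81 81 83 81 80 80 10 77 77 10 80) (@D3.rec (fun _ => Nat) 83 83 41 74 88 3 4 39 22 9 1 2 9 89 2 3 3 9 9 89 3 4 42 1 2 40 2 87 3 10 83 2) (@D3.rec (fun _ => Nat) 3 10 83 3 4 80 78 3 79 4 22 4 1 2 41 2 3 3 35 3 4 86 10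 10 83 83 10 83 83 10 81 83) (@D3.rec (fun _ => Nat) 81 89 11 35 11 79 77 77 76 79 41 44 83 33 2 3 22 3 4 81 4 81 11 11 11 82 82 85 4 4 5 83) (@D3.rec (fun _ => Nat) 88 2 3 3 8 40 40 40 21 2 3 3 47 21 2 3 3 46 21 3 4 3 40 40 82 2 3 3 45 3 3 4) (@D3.rec (fun _ => Nat) 4 4 2 3 3 10 3 3 4 86 4 4 86 86 86 87 88 40 90 39 84 43 84 21 3 3 4 4 21 4 4 5) (@D3.rec (fun _ => Nat) 21 85 85 76 81 2 3 3 84 22 3 3 4 4 85 78 22 3 84 4 22 4 81 81 72 80 80 43 80 80 87 81) (@D3.rec (fun _ => Nat) 82 83 85 83 79 3 84 4 4 80 22 82 4 4 4 5 5 88 86 5 88 86 78 85 21 2 3 3 8 39 39 39) (@D3.rec (fun _ => Nat) 2 3 3 42 2 82 3 44 21 3 4 82 74 81 83 36 82 78 9 39 39 78 78 38 83 80 40 3 3 4 4 78) (@D3.rec (fun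 _ => Nat) 4 82 21 10 39 34 84 82 21 4 21 42 9 84 83 76 3 3 4 4 76 83 80 82 22 4 3 3 4 4 4 10) (@D3.rec (fun _ => Nat) 84 10 84 85 83 43 34 2 3 3 42 3 3 4 4 83 3 3 4 4 4 85 79 4 4 5 5 4 79 77 77 3) (@D3.rec (fun _ => Nat) 3 4 4 4 34 3 84 4 84 4 4 83 34 79 79 40 79 79 84 78 11 81 86 11 84 80 11 86 85 80 3 3) (@D3.rec (fun _ => Nat) 4 4 84 4 4 5 5 86 85 85 85 3 4 4 84 80 84 4 4 4 5 5 87 84 22 84 5 88 89 81 82 85) (@D3.rec (fun _ => Nat) 85 22 78 77 81 81 9 85 3 3 4 4 76 78 79 89 3 3 4 4 22 4 41 42 86 79 82 83 83 83 87 86) (@D3.rec (fun _ => Nat) 22 87 86 77 77 11 81 85 11 79 79 85 82 81 88 85 85 83 82 82 79 78 82 83 85 4 41 10 87 2 3 3) (@D3.rec (fun _ => Nat) 10 88 3 3 4 4 88 4 42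 2 3 40 3 85 4 81 3 4 83 4 84 4 83 23 2 3 3 43 3 3 4 4) (@D3.rec (fun _ => Nat) 4 86 87 11 11 84 82 85 84 83 83 89 85 82 41 44 84 3 4 4 80 84 5 88 3 3 4 4 4 40 40 40) (@D3.rec (fun _ => Nat) 84 22 3 3 4 4 22 3 3 4 4 22 4 40 78 3 3 4 4 9 4 4 5 5 3 3 4 4 4 4 4 5) (@D3.rec (fun _ => Nat) 5 80 82 87 87 83 92 83 89 84 22 4 4 5 5 85 85 81 3 3 4 4 23 23 4 4 5 5 85 23 4 86)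
def lv_b_19 : D2 → D3 → Nat := @D2.rec (fun _ => D3 → Nat) (@D3.rec (fun _ => Nat) 23 81 81 82 81 80 80 84 86 85 89 4 80 84 87 84 5 5 6 87 85 80 3 3 4 4 41 41 41 3 3 4) (@D3.rec (fun _ => Nat) 4 3 82 80 4 22 4 84 84 41 77 77 85 79 4 4 5 5 22 84 80 84 4 4 5 5 83 80 23 4 4 5) (@D3.rec (fun _ => Nat) 5 86 83 79 3 3 4 4 91 4 4 5 5 85 82 4 4 4 5 5 5 87 82 5 5 6 77 77 4 4 5 5) (@D3.rec (fun _ => Nat) 4 84 83 78 78 78 78 84 81 86 87 86 83 89 88 85 89 84 4 4 5 5 86 5 5 6 85 85 4 90 81 89) (@D3.rec (fun _ => Nat) 83 84 5 5 6 85 84 86 81 84 85 85 80 79 85 81 88 4 4 5 5 78 86 4 4 5 23 86 81 82 84 85) (@D3.rec (fun _ => Nat) 89 88 86 88 87 80 80 81 81 81 81 86 86 88 85 82 82 79 78 85 83 84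 3 3 4 4 90 4 4 5 5 80) (@D3.rec (fun _ => Nat) 3 4 4 87 83 4 85 3 3 4 4 4 4 5 5 81 88 85 85 85 85 85 81 4 88 85 4 4 4 5 5 5) (@D3.rec (fun _ => Nat) 42 42 42 78 23 23 9 4 4 5 5 23 4 4 5 23 84 87 4 4 5 5 10 5 5 6 4 4 4 5 5 5) (@D3.rec (fun _ => Nat) 5 5 6 87 87 85 88 87 89 83 5 89 87 81 4 4 5 5 24 24 5 5 6 24 83 83 82 82 82 90 92 87) (@D3.rec (fun _ => Nat) 90 90 91 6 87 80 4 4 5 5 41 41 41 4 4 5 5 4 84 82 23 85 83 80 80 86 85 5 5 6 86 86) (@D3.rec (fun _ => Nat) 82 5 5 6 82 5 5 6 91 79 4 4 5 5 90 5 5 6 85 81 5 5 5 6 6 6 89 87 6 7 77 5) (@D3.rec (fun _ => Nat) 5 6 81 81 81 87 86 88 81 87 86 85 87 88 86 86 5 5 6 88 86 6 7 87 87 81 90 86 6 88 84 93) (@D3.rec (fun _ => Nat) 87 79 84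 83 92 5 5 6 78 88 5 81 84 88 88 91 90 79 79 83 82 81 89 93 90 91 84 80 85 86 4 4) (@D3.rec (fun _ => Nat) 5 5 90 5 5 6 4 83 4 4 5 5 5 5 6 91 83 84 87 87 85 87 5 5 5 6 6 6 42 42 90 84) (@D3.rec (fun _ => Nat) 24 24 10 5 5 6 24 5 90 5 5 6 11 11 6 7 5 5 5 6 6 6 6 7 82 91 82 85 91 83 5 5) (@D3.rec (fun _ => Nat) 6 25 25 6 7 83 84 82 86 91 81 82 5 5 6 43 43 5 5 6 82 86 79 88 6 7 86 86 86 6 7 6) (@D3.rec (fun _ => Nat) 7 89 5 5 6 92 90 6 7 90 87 6 6 6 7 7 88 7 79 6 7 80 80 87 89 89 89 89 89 92 92 86) (@D3.rec (fun _ => Nat) 6 7 89 7 88 81 86 81 81 86 6 7 83 86 91 91 89 89 82 83 83 85 90 84 80 85 5 5 6 6 7 5) (@D3.rec (fun _ => Nat) 5 6 6 7 83 87 87 93 91 6 6 6 7 7 44 90 25 25 11 11 6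 7 84 88 6 7 12 7 6 6 6 7) (@D3.rec (fun _ => Nat) 7 7 88 84 86 6 7 26 7 85 84 95 82 6 7 43 6 7 85 82 88 7 88 87 7 7 88 6 7 92 7 88) (@D3.rec (fun _ => Nat) 7 7 8 88 7 83 89 81 89 90 90 80 7 87 81 93 7 92 87 81 85 89 6 7 7 6 7 7 89 93 7 7) (@D3.rec (fun _ => Nat) 8 89 26 12 7 86 7 13 7 7 8 89 7 27 7 7 94 7 91 90 8 89 82 90 7 7 89 8 27 13 92 8)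
def lv_b : Pt → Nat := @Pt.rec (fun _ => Nat) (@D1.rec (fun _ => D2 → D3 → Nat) lv_b_0 lv_b_1 lv_b_2 lv_b_3 lv_b_4 lv_b_5 lv_b_6 lv_b_7 lv_b_8 lv_b_9 lv_b_10 lv_b_11 lv_b_12 lv_b_13 lv_b_14 lv_b_15 lv_b_16 lv_b_17 lv_b_18 lv_b_19)
abbrev lc_b_Cert_tree : Cert rels S Gen.b := Cert.tree
abbrev lc_b_rc_10_0 : Cert rels S Gen.b := rc_10_0
abbrev lc_b_rc_10_2 : Cert rels S Gen.b := rc_10_2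
abbrev lc_b_rc_10_4 : Cert rels S Gen.b := rc_10_4
abbrev lc_b_rc_11_0 : Cert rels S Gen.b := rc_11_0
abbrev lc_b_rc_11_2 : Cert rels S Gen.b := rc_11_2
abbrev lc_b_rc_12_0 : Cert rels S Gen.b := rc_12_0
abbrev lc_b_rc_12_2 : Cert rels S Gen.b := rc_12_2
abbrev lc_b_rc_13_0 : Cert rels S Gen.b := rc_13_0
abbrev lc_b_rc_13_2 : Cert rels S Gen.b := rc_13_2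
abbrev lc_b_rc_14_0 : Cert rels S Gen.b := rc_14_0
abbrev lc_b_rc_14_2 : Cert rels S Gen.b := rc_14_2
abbrev lc_b_rc_15_0 : Cert rels S Gen.b := rc_15_0
abbrev lc_b_rc_15_2 : Cert rels S Gen.b := rc_15_2
abbrev lc_b_rc_16_0 : Cert rels S Gen.b := rc_16_0
abbrev lc_b_rc_16_2 : Cert rels S Gen.b := rc_16_2
abbrev lc_b_rc_1_1 : Cert rels S Gen.b := rc_1_1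
abbrev lc_b_rc_1_3 : Cert rels S Gen.b := rc_1_3
abbrev lc_b_rc_1_5 : Cert rels S Gen.b := rc_1_5
abbrev lc_b_rc_45_11 : Cert rels S Gen.b := rc_45_11
abbrev lc_b_rc_45_20 : Cert rels S Gen.b := rc_45_20
abbrev lc_b_rc_45_29 : Cert rels S Gen.b := rc_45_29
abbrev lc_b_rc_45_38 : Cert rels S Gen.b := rc_45_38
abbrev lc_b_rc_45_47 : Cert rels S Gen.b := rc_45_47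
abbrev lc_b_rc_45_56 : Cert rels S Gen.b := rc_45_56
abbrev lc_b_rc_45_65 : Cert rels S Gen.b := rc_45_65
abbrev lc_b_rc_45_74 : Cert rels S Gen.b := rc_45_74
abbrev lc_b_rc_46_1 : Cert rels S Gen.b := rc_46_1
abbrev lc_b_rc_46_15 : Cert rels S Gen.b := rc_46_15
abbrev lc_b_rc_46_22 : Cert rels S Gen.b := rc_46_22
abbrev lc_b_rc_46_29 : Cert rels S Gen.b := rc_46_29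
abbrev lc_b_rc_46_36 : Cert rels S Gen.b := rc_46_36
abbrev lc_b_rc_46_43 : Cert rels S Gen.b := rc_46_43
abbrev lc_b_rc_46_50 : Cert rels S Gen.b := rc_46_50
abbrev lc_b_rc_46_8 : Cert rels S Gen.b := rc_46_8
abbrev lc_b_rc_47_14 : Cert rels S Gen.b := rc_47_14
abbrev lc_b_rc_47_21 : Cert rels S Gen.b := rc_47_21
abbrev lc_b_rc_47_28 : Cert rels S Gen.b := rc_47_28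
abbrev lc_b_rc_47_35 : Cert rels S Gen.b := rc_47_35
abbrev lc_b_rc_47_42 : Cert rels S Gen.b := rc_47_42
abbrev lc_b_rc_47_49 : Cert rels S Gen.b := rc_47_49
abbrev lc_b_rc_47_56 : Cert rels S Gen.b := rc_47_56
abbrev lc_b_rc_47_7 : Cert rels S Gen.b := rc_47_7
abbrev lc_b_rc_9_0 : Cert rels S Gen.b := rc_9_0
abbrev lc_b_rc_9_1 : Cert rels S Gen.b := rc_9_1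
abbrev lc_b_sc_0_0 : Cert rels S Gen.b := sc_0_0
def ce_b_0 : D2 → D3 → (Cert rels S Gen.b) := @D2.rec (fun _ => D3 → (Cert rels S Gen.b)) (@D3.rec (fun _ => (Cert rels S Gen.b)) lc_b_sc_0_0 lc_b_Cert_tree lc_b_rc_9_0 lc_b_rc_10_2 lc_b_rc_11_2 lc_b_rc_12_2 lc_b_rc_13_2 lc_b_rc_14_2 lc_b_rc_13_2 lc_b_rc_16_2 lc_b_rc_15_2 lc_b_rc_14_2 lc_b_rc_11_2 lc_b_rc_16_2 lc_b_rc_15_2 lc_b_rc_11_2 lc_b_rc_16_2 lc_b_Cert_tree lc_b_rc_11_2 lc_b_rc_11_2 lc_b_rc_16_2 lc_b_Cert_tree lc_b_rc_12_2 lc_b_rc_11_2 lc_b_rc_9_0 lc_b_rc_16_2 lc_b_rc_13_2 lc_b_Cert_tree lc_b_rc_12_2 lc_b_rc_11_2 lc_b_rc_9_0 lc_b_rc_12_2) (@D3.rec (fun _ => (Cert rels S Gen.b)) lc_b_rc_16_2 lc_b_rc_12_2 lc_b_rc_13_2 lc_b_rc_1_3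 lc_b_rc_16_2 lc_b_rc_13_2 lc_b_rc_9_0 lc_b_rc_12_2 lc_b_rc_16_2 lc_b_rc_14_2 lc_b_rc_12_2 lc_b_rc_13_2 lc_b_rc_1_3 lc_b_rc_12_2 lc_b_rc_16_2 lc_b_rc_11_2 lc_b_rc_16_2 lc_b_rc_13_2 lc_b_rc_13_2 lc_b_rc_1_3 lc_b_rc_13_2 lc_b_rc_11_2 lc_b_rc_1_3 lc_b_rc_12_2 lc_b_rc_16_2 lc_b_rc_11_2 lc_b_rc_14_2 lc_b_rc_16_2 lc_b_rc_13_2 lc_b_rc_14_2 lc_b_rc_13_2 lc_b_rc_1_3) (@D3.rec (fun _ => (Cert rels S Gen.b)) lc_b_rc_1_3 lc_b_rc_11_2 lc_b_rc_16_2 lc_b_rc_13_2 lc_b_rc_13_2 lc_b_rc_11_2 lc_b_rc_13_2 lc_b_rc_11_2 lc_b_rc_11_2 lc_b_rc_1_3 lc_b_rc_11_2 lc_b_rc_12_2 lc_b_rc_1_3 lc_b_rc_1_3 lc_b_rc_11_2 lc_b_rc_14_2 lc_b_rc_16_2 lc_b_rc_13_2 lc_b_rc_11_2 lc_b_rc_13_2 lc_b_rc_11_2 lc_b_rc_16_2 lc_b_rc_13_2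 lc_b_rc_11_2 lc_b_rc_13_2 lc_b_rc_11_2 lc_b_rc_1_3 lc_b_rc_1_3 lc_b_rc_1_3 lc_b_rc_10_2 lc_b_rc_13_2 lc_b_rc_11_2) (@D3.rec (fun _ => (Cert rels S Gen.b)) lc_b_rc_13_2 lc_b_rc_11_2 lc_b_rc_16_2 lc_b_rc_13_2 lc_b_rc_11_2 lc_b_rc_12_2 lc_b_Cert_tree lc_b_rc_1_3 lc_b_rc_10_2 lc_b_rc_12_2 lc_b_rc_14_2 lc_b_rc_1_3 lc_b_rc_1_3 lc_b_rc_1_3 lc_b_rc_1_3 lc_b_rc_10_2 lc_b_rc_11_2 lc_b_rc_13_2 lc_b_rc_11_2 lc_b_rc_16_2 lc_b_rc_13_2 lc_b_rc_11_2 lc_b_rc_12_2 lc_b_rc_13_2 lc_b_rc_11_2 lc_b_rc_16_2 lc_b_rc_13_2 lc_b_rc_13_2 lc_b_rc_11_2 lc_b_rc_12_2 lc_b_rc_11_2 lc_b_Cert_tree) (@D3.rec (fun _ => (Cert rels S Gen.b)) lc_b_rc_1_3 lc_b_rc_1_3 lc_b_rc_1_3 lc_b_rc_10_2 lc_b_rc_16_2 lc_b_rc_13_2 lc_b_rc_11_2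 lc_b_rc_10_2 lc_b_rc_12_2 lc_b_rc_16_2 lc_b_rc_11_2 lc_b_Cert_tree lc_b_rc_12_2 lc_b_rc_14_2 lc_b_rc_9_0 lc_b_rc_14_2 lc_b_rc_15_2 lc_b_rc_1_3 lc_b_rc_1_3 lc_b_rc_1_3 lc_b_rc_1_3 lc_b_rc_1_3 lc_b_rc_10_2 lc_b_rc_10_2 lc_b_rc_12_2 lc_b_rc_13_2 lc_b_rc_11_2 lc_b_rc_16_2 lc_b_rc_13_2 lc_b_rc_13_2 lc_b_rc_11_2 lc_b_rc_10_2) (@D3.rec (fun _ => (Cert rels S Gen.b)) lc_b_rc_12_2 lc_b_rc_13_2 lc_b_rc_12_2 lc_b_rc_16_2 lc_b_rc_13_2 lc_b_rc_16_2 lc_b_rc_11_2 lc_b_rc_11_2 lc_b_Cert_tree lc_b_rc_12_2 lc_b_rc_14_2 lc_b_Cert_tree lc_b_rc_12_2 lc_b_rc_9_0 lc_b_rc_1_3 lc_b_rc_1_3 lc_b_rc_1_3 lc_b_rc_10_2 lc_b_rc_16_2 lc_b_rc_11_2 lc_b_Cert_tree lc_b_rc_12_2 lc_b_rc_10_2 lc_b_rc_14_2 lc_b_rc_11_2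 lc_b_Cert_tree lc_b_rc_12_2 lc_b_rc_9_0 lc_b_rc_12_2 lc_b_rc_14_2 lc_b_rc_15_2 lc_b_rc_1_3) (@D3.rec (fun _ => (Cert rels S Gen.b)) lc_b_rc_15_2 lc_b_rc_1_3 lc_b_rc_1_3 lc_b_rc_1_3 lc_b_rc_1_3 lc_b_rc_1_3 lc_b_rc_1_3 lc_b_rc_10_2 lc_b_rc_10_2 lc_b_rc_10_2 lc_b_rc_13_2 lc_b_rc_12_2 lc_b_rc_16_2 lc_b_rc_13_2 lc_b_rc_16_2 lc_b_rc_11_2 lc_b_rc_11_2 lc_b_Cert_tree lc_b_rc_12_2 lc_b_rc_10_2 lc_b_rc_14_2 lc_b_rc_11_2 lc_b_rc_16_2 lc_b_rc_13_2 lc_b_rc_16_2 lc_b_rc_11_2 lc_b_rc_11_2 lc_b_Cert_tree lc_b_rc_12_2 lc_b_Cert_tree lc_b_rc_12_2 lc_b_rc_9_0) (@D3.rec (fun _ => (Cert rels S Gen.b)) lc_b_rc_12_2 lc_b_rc_14_2 lc_b_rc_15_2 lc_b_rc_9_0 lc_b_rc_12_2 lc_b_rc_1_3 lc_b_rc_1_3 lc_b_Cert_tree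 lc_b_rc_1_3 lc_b_rc_11_2 lc_b_rc_11_2 lc_b_Cert_tree lc_b_rc_12_2 lc_b_rc_9_0 lc_b_rc_12_2 lc_b_rc_14_2 lc_b_rc_11_2 lc_b_rc_15_2 lc_b_Cert_tree lc_b_rc_12_2 lc_b_rc_9_0 lc_b_rc_12_2 lc_b_rc_14_2 lc_b_rc_1_3 lc_b_rc_12_2 lc_b_rc_14_2 lc_b_rc_15_2 lc_b_rc_1_3 lc_b_rc_1_3 lc_b_rc_1_3 lc_b_rc_11_2 lc_b_Cert_tree) (@D3.rec (fun _ => (Cert rels S Gen.b)) lc_b_rc_1_3 lc_b_rc_1_3 lc_b_rc_11_2 lc_b_rc_10_2 lc_b_rc_10_2 lc_b_rc_11_2 lc_b_rc_11_2 lc_b_rc_16_2 lc_b_rc_13_2 lc_b_rc_16_2 lc_b_rc_11_2 lc_b_rc_11_2 lc_b_Cert_tree lc_b_rc_12_2 lc_b_Cert_tree lc_b_rc_12_2 lc_b_rc_9_0 lc_b_rc_12_2 lc_b_rc_14_2 lc_b_rc_11_2 lc_b_rc_10_2 lc_b_rc_15_2 lc_b_rc_10_4 lc_b_rc_11_2 lc_b_rc_16_2 lc_b_rc_11_2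 lc_b_rc_11_2 lc_b_Cert_tree lc_b_rc_12_2 lc_b_Cert_tree lc_b_rc_12_2 lc_b_rc_9_0) (@D3.rec (fun _ => (Cert rels S Gen.b)) lc_b_rc_12_2 lc_b_rc_14_2 lc_b_rc_9_0 lc_b_rc_12_2 lc_b_rc_14_2 lc_b_rc_1_3 lc_b_rc_12_2 lc_b_rc_14_2 lc_b_rc_15_2 lc_b_rc_1_3 lc_b_rc_12_2 lc_b_rc_11_2 lc_b_Cert_tree lc_b_rc_1_3 lc_b_rc_9_0 lc_b_rc_12_2 lc_b_Cert_tree lc_b_rc_12_2 lc_b_Cert_tree lc_b_rc_12_2 lc_b_rc_9_0 lc_b_rc_12_2 lc_b_rc_14_2 lc_b_rc_1_3 lc_b_rc_12_2 lc_b_rc_11_2 lc_b_rc_14_2 lc_b_rc_15_2 lc_b_rc_13_2 lc_b_rc_9_0 lc_b_rc_12_2 lc_b_rc_14_2) (@D3.rec (fun _ => (Cert rels S Gen.b)) lc_b_rc_1_3 lc_b_rc_12_2 lc_b_rc_11_2 lc_b_rc_14_2 lc_b_rc_15_2 lc_b_rc_1_3 lc_b_rc_14_2 lc_b_rc_15_2 lc_b_rc_1_3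 lc_b_rc_11_2 lc_b_Cert_tree lc_b_rc_1_3 lc_b_Cert_tree lc_b_rc_12_2 lc_b_rc_9_0 lc_b_rc_12_2 lc_b_rc_1_3 lc_b_rc_11_2 lc_b_rc_10_2 lc_b_rc_11_2 lc_b_Cert_tree lc_b_rc_12_2 lc_b_rc_11_2 lc_b_rc_16_2 lc_b_rc_11_2 lc_b_rc_11_2 lc_b_Cert_tree lc_b_rc_12_2 lc_b_Cert_tree lc_b_rc_12_2 lc_b_rc_9_0 lc_b_rc_12_2) (@D3.rec (fun _ => (Cert rels S Gen.b)) lc_b_rc_14_2 lc_b_rc_9_0 lc_b_rc_12_2 lc_b_rc_14_2 lc_b_rc_1_3 lc_b_rc_12_2 lc_b_rc_11_2 lc_b_rc_14_2 lc_b_rc_15_2 lc_b_rc_11_2 lc_b_rc_13_2 lc_b_rc_16_2 lc_b_rc_13_2 lc_b_rc_11_2 lc_b_Cert_tree lc_b_rc_12_2 lc_b_Cert_tree lc_b_rc_12_2 lc_b_rc_9_0 lc_b_rc_12_2 lc_b_rc_14_2 lc_b_rc_9_0 lc_b_rc_12_2 lc_b_rc_14_2 lc_b_rc_1_3 lc_b_rc_12_2 lc_b_rc_11_2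 lc_b_rc_14_2 lc_b_rc_15_2 lc_b_rc_1_3 lc_b_rc_12_2 lc_b_rc_11_2) (@D3.rec (fun _ => (Cert rels S Gen.b)) lc_b_rc_14_2 lc_b_rc_15_2 lc_b_rc_1_3 lc_b_rc_14_2 lc_b_rc_15_2 lc_b_rc_1_3 lc_b_rc_11_2 lc_b_rc_13_2 lc_b_rc_9_0 lc_b_rc_12_2 lc_b_rc_1_3 lc_b_rc_12_2 lc_b_rc_9_0 lc_b_rc_12_2 lc_b_rc_14_2 lc_b_rc_9_0 lc_b_rc_12_2 lc_b_rc_14_2 lc_b_rc_1_3 lc_b_rc_12_2 lc_b_rc_11_2 lc_b_rc_14_2 lc_b_rc_15_2 lc_b_rc_1_3 lc_b_rc_11_2 lc_b_rc_14_2 lc_b_rc_13_2 lc_b_rc_15_2 lc_b_rc_1_3 lc_b_rc_12_2 lc_b_rc_11_2 lc_b_rc_14_2) (@D3.rec (fun _ => (Cert rels S Gen.b)) lc_b_rc_15_2 lc_b_rc_1_3 lc_b_rc_11_2 lc_b_rc_14_2 lc_b_rc_11_2 lc_b_rc_15_2 lc_b_rc_1_3 lc_b_rc_15_2 lc_b_rc_11_2 lc_b_Cert_tree lc_b_rc_12_2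 lc_b_rc_9_0 lc_b_rc_12_2 lc_b_rc_1_3 lc_b_rc_9_0 lc_b_rc_12_2 lc_b_rc_12_2 lc_b_rc_1_3 lc_b_rc_12_2 lc_b_rc_14_2 lc_b_rc_13_2 lc_b_rc_11_2 lc_b_Cert_tree lc_b_rc_12_2 lc_b_rc_9_0 lc_b_rc_12_2 lc_b_rc_14_2 lc_b_rc_13_2 lc_b_rc_11_2 lc_b_Cert_tree lc_b_rc_12_2 lc_b_Cert_tree) (@D3.rec (fun _ => (Cert rels S Gen.b)) lc_b_rc_12_2 lc_b_rc_9_0 lc_b_rc_12_2 lc_b_rc_14_2 lc_b_rc_9_0 lc_b_rc_12_2 lc_b_rc_14_2 lc_b_rc_1_3 lc_b_rc_12_2 lc_b_rc_11_2 lc_b_rc_14_2 lc_b_rc_15_2 lc_b_rc_1_3 lc_b_rc_12_2 lc_b_rc_11_2 lc_b_rc_14_2 lc_b_rc_15_2 lc_b_rc_1_3 lc_b_rc_11_2 lc_b_rc_14_2 lc_b_rc_11_2 lc_b_rc_13_2 lc_b_rc_15_2 lc_b_rc_12_2 lc_b_rc_13_2 lc_b_rc_16_2 lc_b_rc_13_2 lc_b_rc_13_2 lc_b_Cert_tree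 lc_b_rc_12_2 lc_b_rc_9_0 lc_b_rc_12_2) (@D3.rec (fun _ => (Cert rels S Gen.b)) lc_b_rc_14_2 lc_b_rc_9_0 lc_b_rc_12_2 lc_b_rc_14_2 lc_b_rc_1_3 lc_b_rc_12_2 lc_b_rc_11_2 lc_b_rc_14_2 lc_b_rc_15_2 lc_b_rc_1_3 lc_b_rc_12_2 lc_b_rc_11_2 lc_b_rc_14_2 lc_b_rc_15_2 lc_b_rc_1_3 lc_b_rc_11_2 lc_b_rc_14_2 lc_b_rc_11_2 lc_b_rc_15_2 lc_b_rc_1_3 lc_b_rc_11_2 lc_b_rc_14_2 lc_b_rc_11_2 lc_b_rc_13_2 lc_b_rc_15_2 lc_b_rc_1_3 lc_b_rc_15_2 lc_b_rc_1_3 lc_b_rc_10_2 lc_b_rc_13_2 lc_b_rc_16_2 lc_b_rc_1_3) (@D3.rec (fun _ => (Cert rels S Gen.b)) lc_b_rc_12_2 lc_b_rc_11_2 lc_b_rc_1_3 lc_b_rc_1_3 lc_b_rc_12_2 lc_b_rc_11_2 lc_b_rc_14_2 lc_b_rc_1_3 lc_b_rc_12_2 lc_b_rc_11_2 lc_b_rc_14_2 lc_b_rc_15_2 lc_b_rc_1_3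 lc_b_rc_11_2 lc_b_rc_14_2 lc_b_rc_11_2 lc_b_rc_13_2 lc_b_rc_15_2 lc_b_rc_1_3 lc_b_rc_46_50 lc_b_rc_13_2 lc_b_rc_15_2 lc_b_rc_1_3 lc_b_rc_11_2 lc_b_rc_14_2 lc_b_rc_11_2 lc_b_rc_13_2 lc_b_rc_15_2 lc_b_rc_1_3 lc_b_rc_1_3 lc_b_rc_10_2 lc_b_rc_11_2) (@D3.rec (fun _ => (Cert rels S Gen.b)) lc_b_rc_15_2 lc_b_rc_12_2 lc_b_rc_11_2 lc_b_rc_1_3 lc_b_Cert_tree lc_b_rc_12_2 lc_b_rc_9_0 lc_b_rc_12_2 lc_b_rc_12_2 lc_b_rc_1_3 lc_b_rc_12_2 lc_b_rc_11_2 lc_b_rc_14_2 lc_b_rc_1_3 lc_b_rc_12_2 lc_b_rc_11_2 lc_b_rc_14_2 lc_b_rc_1_3 lc_b_rc_14_2 lc_b_rc_13_2 lc_b_Cert_tree lc_b_rc_12_2 lc_b_rc_9_0 lc_b_rc_12_2 lc_b_rc_14_2 lc_b_rc_1_3 lc_b_rc_12_2 lc_b_rc_11_2 lc_b_rc_14_2 lc_b_rc_15_2 lc_b_rc_13_2 lc_b_Cert_tree)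 (@D3.rec (fun _ => (Cert rels S Gen.b)) lc_b_rc_12_2 lc_b_rc_9_0 lc_b_rc_12_2 lc_b_rc_14_2 lc_b_rc_9_0 lc_b_rc_12_2 lc_b_rc_14_2 lc_b_rc_1_3 lc_b_rc_12_2 lc_b_rc_11_2 lc_b_rc_14_2 lc_b_rc_15_2 lc_b_rc_1_3 lc_b_rc_12_2 lc_b_rc_11_2 lc_b_rc_14_2 lc_b_rc_15_2 lc_b_rc_1_3 lc_b_rc_11_2 lc_b_rc_14_2 lc_b_rc_11_2 lc_b_rc_13_2 lc_b_rc_15_2 lc_b_rc_1_3 lc_b_rc_11_2 lc_b_rc_14_2 lc_b_rc_11_2 lc_b_rc_13_2 lc_b_rc_15_2 lc_b_rc_1_3 lc_b_rc_1_3 lc_b_rc_11_2) (@D3.rec (fun _ => (Cert rels S Gen.b)) lc_b_rc_13_2 lc_b_rc_15_2 lc_b_rc_12_2 lc_b_rc_13_2 lc_b_rc_16_2 lc_b_rc_13_2 lc_b_rc_11_2 lc_b_Cert_tree lc_b_rc_13_2 lc_b_rc_9_0 lc_b_rc_12_2 lc_b_rc_14_2 lc_b_rc_1_3 lc_b_rc_12_2 lc_b_rc_11_2 lc_b_rc_14_2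 lc_b_rc_15_2 lc_b_rc_1_3 lc_b_rc_12_2 lc_b_rc_11_2 lc_b_rc_14_2 lc_b_rc_15_2 lc_b_rc_1_3 lc_b_rc_11_2 lc_b_rc_14_2 lc_b_rc_11_2 lc_b_rc_13_2 lc_b_rc_15_2 lc_b_rc_1_3 lc_b_rc_11_2 lc_b_rc_14_2 lc_b_rc_11_2) (@D3.rec (fun _ => (Cert rels S Gen.b)) lc_b_rc_13_2 lc_b_rc_15_2 lc_b_rc_1_3 lc_b_rc_1_3 lc_b_rc_10_2 lc_b_rc_11_2 lc_b_rc_15_2 lc_b_rc_12_2 lc_b_rc_11_2 lc_b_rc_1_3 lc_b_rc_1_3 lc_b_rc_10_2 lc_b_rc_11_2 lc_b_rc_13_2 lc_b_rc_15_2 lc_b_rc_11_2 lc_b_rc_13_2 lc_b_rc_16_2 lc_b_rc_1_3 lc_b_Cert_tree lc_b_rc_1_3 lc_b_rc_10_2 lc_b_rc_16_2 lc_b_rc_1_3 lc_b_rc_11_2 lc_b_rc_1_3 lc_b_rc_11_2 lc_b_rc_14_2 lc_b_rc_11_2 lc_b_rc_13_2 lc_b_rc_1_3 lc_b_rc_11_2) (@D3.rec (fun _ => (Cert rels S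 Gen.b)) lc_b_rc_14_2 lc_b_rc_11_2 lc_b_rc_13_2 lc_b_rc_15_2 lc_b_rc_1_3 lc_b_rc_1_3 lc_b_rc_10_2 lc_b_rc_11_2 lc_b_rc_13_2 lc_b_rc_15_2 lc_b_rc_11_2 lc_b_rc_1_3 lc_b_rc_1_3 lc_b_rc_1_3 lc_b_rc_1_3 lc_b_rc_10_2 lc_b_rc_11_2 lc_b_rc_13_2 lc_b_rc_15_2 lc_b_rc_12_2 lc_b_rc_11_2 lc_b_rc_13_2 lc_b_Cert_tree lc_b_rc_1_3 lc_b_rc_1_3 lc_b_rc_10_2 lc_b_rc_12_2 lc_b_rc_11_2 lc_b_rc_12_2 lc_b_rc_9_0 lc_b_rc_12_2 lc_b_rc_14_2)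
def ce_b_1 : D2 → D3 → (Cert rels S Gen.b) := @D2.rec (fun _ => D3 → (Cert rels S Gen.b)) (@D3.rec (fun _ => (Cert rels S Gen.b)) lc_b_rc_1_3 lc_b_rc_12_2 lc_b_rc_11_2 lc_b_rc_14_2 lc_b_rc_1_3 lc_b_rc_11_2 lc_b_rc_14_2 lc_b_rc_11_2 lc_b_rc_1_3 lc_b_rc_11_2 lc_b_rc_14_2 lc_b_rc_11_2 lc_b_rc_13_2 lc_b_rc_1_3 lc_b_Cert_tree lc_b_rc_13_2 lc_b_rc_9_0 lc_b_rc_12_2 lc_b_rc_14_2 lc_b_rc_1_3 lc_b_rc_12_2 lc_b_rc_11_2 lc_b_rc_14_2 lc_b_rc_15_2 lc_b_rc_1_3 lc_b_rc_11_2 lc_b_rc_14_2 lc_b_rc_11_2 lc_b_rc_13_2 lc_b_rc_15_2 lc_b_Cert_tree lc_b_rc_13_2) (@D3.rec (fun _ => (Cert rels S Gen.b)) lc_b_rc_9_0 lc_b_rc_12_2 lc_b_rc_14_2 lc_b_rc_1_3 lc_b_rc_12_2 lc_b_rc_11_2 lc_b_rc_14_2 lc_b_rc_15_2 lc_b_rc_1_3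 lc_b_rc_12_2 lc_b_rc_11_2 lc_b_rc_14_2 lc_b_rc_15_2 lc_b_rc_1_3 lc_b_rc_11_2 lc_b_rc_14_2 lc_b_rc_11_2 lc_b_rc_13_2 lc_b_rc_15_2 lc_b_rc_46_1 lc_b_rc_11_2 lc_b_rc_14_2 lc_b_rc_11_2 lc_b_rc_13_2 lc_b_rc_15_2 lc_b_rc_1_3 lc_b_rc_1_3 lc_b_rc_10_2 lc_b_rc_11_2 lc_b_rc_13_2 lc_b_rc_15_2 lc_b_rc_12_2) (@D3.rec (fun _ => (Cert rels S Gen.b)) lc_b_rc_11_2 lc_b_rc_13_2 lc_b_rc_16_2 lc_b_rc_1_3 lc_b_rc_1_3 lc_b_rc_10_2 lc_b_rc_11_2 lc_b_rc_13_2 lc_b_rc_15_2 lc_b_rc_12_2 lc_b_rc_11_2 lc_b_rc_13_2 lc_b_rc_16_2 lc_b_rc_14_2 lc_b_rc_1_3 lc_b_rc_14_2 lc_b_rc_12_2 lc_b_rc_13_2 lc_b_rc_16_2 lc_b_rc_13_2 lc_b_rc_11_2 lc_b_Cert_tree lc_b_rc_12_2 lc_b_rc_9_0 lc_b_rc_12_2 lc_b_rc_14_2 lc_b_rc_1_3 lc_b_rc_12_2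 lc_b_rc_11_2 lc_b_rc_14_2 lc_b_rc_15_2 lc_b_rc_1_3) (@D3.rec (fun _ => (Cert rels S Gen.b)) lc_b_rc_11_2 lc_b_rc_14_2 lc_b_rc_11_2 lc_b_rc_13_2 lc_b_rc_15_2 lc_b_rc_1_3 lc_b_rc_11_2 lc_b_rc_14_2 lc_b_rc_11_2 lc_b_rc_13_2 lc_b_rc_15_2 lc_b_rc_1_3 lc_b_rc_1_3 lc_b_rc_10_2 lc_b_rc_11_2 lc_b_rc_13_2 lc_b_rc_15_2 lc_b_rc_12_2 lc_b_rc_11_2 lc_b_rc_13_2 lc_b_rc_16_2 lc_b_rc_1_3 lc_b_rc_1_3 lc_b_rc_10_2 lc_b_rc_11_2 lc_b_rc_13_2 lc_b_rc_15_2 lc_b_rc_12_2 lc_b_rc_11_2 lc_b_rc_13_2 lc_b_Cert_tree lc_b_rc_1_3) (@D3.rec (fun _ => (Cert rels S Gen.b)) lc_b_rc_1_3 lc_b_rc_10_2 lc_b_rc_12_2 lc_b_rc_11_2 lc_b_rc_12_2 lc_b_Cert_tree lc_b_rc_1_3 lc_b_rc_1_3 lc_b_rc_1_3 lc_b_rc_10_2 lc_b_rc_10_2 lc_b_rc_11_2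 lc_b_rc_13_2 lc_b_rc_16_2 lc_b_rc_13_2 lc_b_rc_16_2 lc_b_rc_9_0 lc_b_rc_13_2 lc_b_rc_1_3 lc_b_rc_11_2 lc_b_rc_10_2 lc_b_rc_1_3 lc_b_rc_10_2 lc_b_rc_1_3 lc_b_rc_1_3 lc_b_rc_10_2 lc_b_rc_11_2 lc_b_rc_13_2 lc_b_rc_12_2 lc_b_rc_13_2 lc_b_rc_1_3 lc_b_rc_1_3) (@D3.rec (fun _ => (Cert rels S Gen.b)) lc_b_rc_10_2 lc_b_rc_11_2 lc_b_rc_13_2 lc_b_rc_15_2 lc_b_rc_11_2 lc_b_Cert_tree lc_b_rc_1_3 lc_b_rc_1_3 lc_b_rc_1_3 lc_b_rc_10_2 lc_b_rc_10_2 lc_b_rc_11_2 lc_b_Cert_tree lc_b_rc_1_3 lc_b_rc_1_3 lc_b_rc_1_3 lc_b_rc_10_2 lc_b_rc_10_2 lc_b_rc_12_2 lc_b_rc_11_2 lc_b_rc_13_2 lc_b_rc_12_2 lc_b_rc_13_2 lc_b_rc_13_2 lc_b_rc_9_0 lc_b_rc_14_2 lc_b_rc_1_3 lc_b_rc_1_3 lc_b_rc_10_2 lc_b_rc_10_2 lc_b_rc_12_2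 lc_b_rc_14_2) (@D3.rec (fun _ => (Cert rels S Gen.b)) lc_b_rc_1_3 lc_b_rc_12_2 lc_b_rc_11_2 lc_b_rc_14_2 lc_b_rc_1_3 lc_b_rc_11_2 lc_b_rc_14_2 lc_b_rc_11_2 lc_b_rc_13_2 lc_b_rc_1_3 lc_b_rc_1_3 lc_b_rc_10_2 lc_b_rc_11_2 lc_b_rc_12_2 lc_b_rc_1_3 lc_b_rc_1_3 lc_b_rc_10_2 lc_b_rc_11_2 lc_b_rc_13_2 lc_b_rc_13_2 lc_b_rc_16_2 lc_b_rc_9_0 lc_b_rc_12_2 lc_b_rc_14_2 lc_b_rc_1_3 lc_b_rc_12_2 lc_b_rc_11_2 lc_b_rc_14_2 lc_b_rc_15_2 lc_b_rc_1_3 lc_b_rc_11_2 lc_b_rc_14_2) (@D3.rec (fun _ => (Cert rels S Gen.b)) lc_b_rc_11_2 lc_b_rc_13_2 lc_b_rc_15_2 lc_b_rc_1_3 lc_b_rc_1_3 lc_b_rc_10_2 lc_b_rc_11_2 lc_b_rc_13_2 lc_b_rc_15_2 lc_b_rc_12_2 lc_b_rc_11_2 lc_b_rc_13_2 lc_b_rc_16_2 lc_b_rc_9_0 lc_b_rc_12_2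 lc_b_rc_14_2 lc_b_rc_1_3 lc_b_rc_12_2 lc_b_rc_11_2 lc_b_rc_14_2 lc_b_rc_15_2 lc_b_rc_1_3 lc_b_rc_11_2 lc_b_rc_14_2 lc_b_rc_11_2 lc_b_rc_13_2 lc_b_rc_15_2 lc_b_rc_1_3 lc_b_rc_11_2 lc_b_rc_14_2 lc_b_rc_11_2 lc_b_rc_13_2) (@D3.rec (fun _ => (Cert rels S Gen.b)) lc_b_rc_15_2 lc_b_rc_1_3 lc_b_rc_1_3 lc_b_rc_10_2 lc_b_rc_11_2 lc_b_rc_13_2 lc_b_rc_15_2 lc_b_rc_12_2 lc_b_rc_11_2 lc_b_rc_13_2 lc_b_rc_16_2 lc_b_rc_1_3 lc_b_rc_1_3 lc_b_rc_10_2 lc_b_rc_11_2 lc_b_rc_13_2 lc_b_rc_15_2 lc_b_rc_12_2 lc_b_rc_11_2 lc_b_rc_13_2 lc_b_rc_16_2 lc_b_Cert_tree lc_b_rc_1_3 lc_b_rc_1_3 lc_b_rc_14_2 lc_b_rc_10_2 lc_b_rc_10_2 lc_b_rc_12_2 lc_b_rc_11_2 lc_b_rc_13_2 lc_b_rc_16_2 lc_b_rc_12_2) (@D3.rec (fun _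 => (Cert rels S Gen.b)) lc_b_rc_13_2 lc_b_Cert_tree lc_b_rc_1_3 lc_b_rc_1_3 lc_b_rc_12_2 lc_b_rc_10_2 lc_b_rc_10_2 lc_b_rc_12_2 lc_b_rc_11_2 lc_b_rc_13_2 lc_b_rc_16_2 lc_b_rc_13_2 lc_b_rc_13_2 lc_b_rc_16_2 lc_b_rc_12_2 lc_b_rc_14_2 lc_b_rc_1_3 lc_b_rc_13_2 lc_b_rc_11_2 lc_b_Cert_tree lc_b_rc_9_0 lc_b_rc_12_2 lc_b_rc_14_2 lc_b_rc_1_3 lc_b_rc_12_2 lc_b_rc_11_2 lc_b_rc_14_2 lc_b_rc_15_2 lc_b_rc_1_3 lc_b_rc_11_2 lc_b_rc_14_2 lc_b_rc_11_2) (@D3.rec (fun _ => (Cert rels S Gen.b)) lc_b_rc_13_2 lc_b_rc_15_2 lc_b_rc_1_3 lc_b_rc_1_3 lc_b_rc_10_2 lc_b_rc_11_2 lc_b_rc_13_2 lc_b_rc_15_2 lc_b_rc_12_2 lc_b_rc_11_2 lc_b_rc_13_2 lc_b_rc_16_2 lc_b_rc_1_3 lc_b_rc_1_3 lc_b_rc_10_2 lc_b_rc_11_2 lc_b_rc_13_2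 lc_b_rc_15_2 lc_b_rc_12_2 lc_b_rc_11_2 lc_b_rc_13_2 lc_b_rc_16_2 lc_b_Cert_tree lc_b_rc_1_3 lc_b_rc_1_3 lc_b_rc_1_3 lc_b_rc_10_2 lc_b_rc_10_2 lc_b_rc_12_2 lc_b_rc_11_2 lc_b_rc_13_2 lc_b_rc_16_2) (@D3.rec (fun _ => (Cert rels S Gen.b)) lc_b_rc_12_2 lc_b_rc_13_2 lc_b_rc_13_2 lc_b_rc_16_2 lc_b_Cert_tree lc_b_rc_1_3 lc_b_rc_1_3 lc_b_rc_1_3 lc_b_rc_10_2 lc_b_rc_10_2 lc_b_rc_12_2 lc_b_rc_11_2 lc_b_rc_13_2 lc_b_rc_12_2 lc_b_rc_13_2 lc_b_rc_13_2 lc_b_rc_9_0 lc_b_rc_14_2 lc_b_rc_1_3 lc_b_rc_1_3 lc_b_rc_10_2 lc_b_rc_10_2 lc_b_rc_12_2 lc_b_rc_14_2 lc_b_rc_9_0 lc_b_rc_14_2 lc_b_rc_13_2 lc_b_rc_1_3 lc_b_rc_1_3 lc_b_rc_1_3 lc_b_rc_10_2 lc_b_rc_10_2) (@D3.rec (fun _ => (Cert rels S Gen.b)) lc_b_rc_10_0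 lc_b_rc_10_2 lc_b_rc_13_2 lc_b_rc_16_2 lc_b_rc_16_2 lc_b_rc_13_2 lc_b_rc_11_2 lc_b_rc_16_2 lc_b_rc_11_0 lc_b_rc_11_2 lc_b_Cert_tree lc_b_Cert_tree lc_b_rc_1_3 lc_b_rc_1_3 lc_b_rc_10_2 lc_b_rc_10_2 lc_b_rc_12_2 lc_b_rc_13_2 lc_b_Cert_tree lc_b_rc_1_3 lc_b_rc_1_3 lc_b_rc_1_3 lc_b_rc_10_2 lc_b_rc_10_2 lc_b_rc_11_2 lc_b_rc_9_0 lc_b_rc_14_2 lc_b_rc_13_2 lc_b_rc_1_3 lc_b_rc_10_2 lc_b_rc_9_0 lc_b_rc_14_2) (@D3.rec (fun _ => (Cert rels S Gen.b)) lc_b_rc_13_2 lc_b_rc_1_3 lc_b_rc_1_3 lc_b_rc_1_3 lc_b_rc_10_2 lc_b_rc_10_2 lc_b_rc_10_2 lc_b_rc_11_2 lc_b_rc_12_2 lc_b_rc_13_2 lc_b_rc_13_2 lc_b_rc_14_2 lc_b_rc_13_2 lc_b_rc_11_2 lc_b_rc_14_2 lc_b_rc_12_2 lc_b_rc_15_2 lc_b_rc_1_3 lc_b_rc_11_2 lc_b_rc_10_2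 lc_b_rc_14_2 lc_b_rc_1_3 lc_b_rc_11_2 lc_b_rc_14_2 lc_b_rc_11_2 lc_b_rc_13_2 lc_b_rc_1_3 lc_b_rc_1_3 lc_b_rc_10_2 lc_b_rc_11_2 lc_b_rc_13_2 lc_b_rc_12_2) (@D3.rec (fun _ => (Cert rels S Gen.b)) lc_b_rc_13_2 lc_b_rc_16_2 lc_b_Cert_tree lc_b_rc_1_3 lc_b_rc_10_2 lc_b_rc_12_2 lc_b_Cert_tree lc_b_rc_1_3 lc_b_rc_1_3 lc_b_rc_10_2 lc_b_rc_10_2 lc_b_rc_13_2 lc_b_rc_16_2 lc_b_rc_16_2 lc_b_rc_1_3 lc_b_rc_12_2 lc_b_rc_11_2 lc_b_rc_14_2 lc_b_rc_15_2 lc_b_rc_1_3 lc_b_rc_11_2 lc_b_rc_14_2 lc_b_rc_11_2 lc_b_rc_13_2 lc_b_rc_15_2 lc_b_rc_1_3 lc_b_rc_1_3 lc_b_rc_10_2 lc_b_rc_11_2 lc_b_rc_13_2 lc_b_rc_15_2 lc_b_rc_12_2) (@D3.rec (fun _ => (Cert rels S Gen.b)) lc_b_rc_11_2 lc_b_rc_13_2 lc_b_rc_16_2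 lc_b_Cert_tree lc_b_rc_1_3 lc_b_rc_1_3 lc_b_rc_1_3 lc_b_rc_10_2 lc_b_rc_10_2 lc_b_rc_12_2 lc_b_rc_11_2 lc_b_rc_13_2 lc_b_rc_16_2 lc_b_rc_12_2 lc_b_rc_13_2 lc_b_rc_13_2 lc_b_rc_16_2 lc_b_rc_1_3 lc_b_rc_12_2 lc_b_rc_11_2 lc_b_rc_14_2 lc_b_rc_15_2 lc_b_rc_1_3 lc_b_rc_11_2 lc_b_rc_14_2 lc_b_rc_11_2 lc_b_rc_13_2 lc_b_rc_15_2 lc_b_rc_1_3 lc_b_rc_1_3 lc_b_rc_10_2 lc_b_rc_11_2) (@D3.rec (fun _ => (Cert rels S Gen.b)) lc_b_rc_13_2 lc_b_rc_15_2 lc_b_rc_12_2 lc_b_rc_11_2 lc_b_rc_13_2 lc_b_rc_16_2 lc_b_rc_1_3 lc_b_rc_1_3 lc_b_rc_10_2 lc_b_rc_11_2 lc_b_rc_13_2 lc_b_rc_15_2 lc_b_rc_12_2 lc_b_rc_11_2 lc_b_rc_13_2 lc_b_rc_16_2 lc_b_Cert_tree lc_b_rc_1_3 lc_b_rc_1_3 lc_b_rc_11_0 lc_b_rc_10_2 lc_b_rc_10_2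 lc_b_rc_12_2 lc_b_rc_11_2 lc_b_rc_13_2 lc_b_rc_16_2 lc_b_rc_12_2 lc_b_rc_13_2 lc_b_rc_13_2 lc_b_rc_16_2 lc_b_Cert_tree lc_b_rc_1_3) (@D3.rec (fun _ => (Cert rels S Gen.b)) lc_b_rc_1_3 lc_b_rc_1_3 lc_b_rc_10_2 lc_b_rc_10_2 lc_b_rc_12_2 lc_b_rc_11_2 lc_b_rc_13_2 lc_b_rc_16_2 lc_b_rc_12_2 lc_b_rc_13_2 lc_b_rc_9_0 lc_b_rc_14_2 lc_b_rc_13_2 lc_b_rc_1_3 lc_b_rc_13_2 lc_b_rc_13_2 lc_b_rc_1_3 lc_b_rc_10_2 lc_b_rc_10_2 lc_b_rc_10_2 lc_b_rc_10_2 lc_b_rc_12_2 lc_b_rc_13_2 lc_b_rc_11_2 lc_b_rc_9_0 lc_b_rc_14_2 lc_b_rc_13_2 lc_b_rc_12_2 lc_b_rc_12_2 lc_b_rc_1_3 lc_b_rc_1_3 lc_b_rc_10_2) (@D3.rec (fun _ => (Cert rels S Gen.b)) lc_b_rc_10_2 lc_b_rc_10_2 lc_b_rc_10_0 lc_b_rc_10_2 lc_b_rc_13_2 lc_b_rc_13_2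 lc_b_rc_16_2 lc_b_rc_11_2 lc_b_rc_16_2 lc_b_rc_16_2 lc_b_rc_11_0 lc_b_rc_11_2 lc_b_Cert_tree lc_b_rc_9_0 lc_b_rc_1_3 lc_b_rc_12_2 lc_b_rc_11_2 lc_b_rc_14_2 lc_b_rc_15_2 lc_b_rc_1_3 lc_b_rc_11_2 lc_b_rc_14_2 lc_b_rc_11_2 lc_b_rc_13_2 lc_b_rc_15_2 lc_b_rc_1_3 lc_b_rc_1_3 lc_b_rc_10_2 lc_b_rc_11_2 lc_b_rc_13_2 lc_b_rc_15_2 lc_b_rc_12_2) (@D3.rec (fun _ => (Cert rels S Gen.b)) lc_b_rc_11_2 lc_b_rc_13_2 lc_b_rc_16_2 lc_b_Cert_tree lc_b_rc_1_3 lc_b_rc_1_3 lc_b_rc_1_3 lc_b_rc_10_2 lc_b_rc_10_2 lc_b_rc_12_2 lc_b_rc_11_2 lc_b_rc_13_2 lc_b_rc_16_2 lc_b_rc_12_2 lc_b_rc_13_2 lc_b_rc_13_2 lc_b_rc_16_2 lc_b_Cert_tree lc_b_rc_1_3 lc_b_rc_1_3 lc_b_rc_1_3 lc_b_rc_10_2 lc_b_rc_10_2 lc_b_rc_12_2 lc_b_rc_11_2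 lc_b_rc_13_2 lc_b_rc_16_2 lc_b_rc_9_0 lc_b_rc_14_2 lc_b_rc_13_2 lc_b_rc_1_3 lc_b_rc_1_3) (@D3.rec (fun _ => (Cert rels S Gen.b)) lc_b_rc_1_3 lc_b_rc_1_3 lc_b_rc_10_2 lc_b_rc_10_2 lc_b_rc_10_2 lc_b_rc_11_2 lc_b_rc_10_2 lc_b_rc_12_2 lc_b_rc_13_2 lc_b_rc_13_2 lc_b_rc_16_2 lc_b_rc_9_0 lc_b_rc_14_2 lc_b_rc_13_2 lc_b_rc_1_3 lc_b_rc_1_3 lc_b_rc_1_3 lc_b_rc_10_2 lc_b_rc_10_2 lc_b_rc_10_2 lc_b_rc_11_2 lc_b_rc_12_2 lc_b_rc_13_2 lc_b_rc_13_2 lc_b_rc_14_2 lc_b_rc_12_2 lc_b_rc_15_2 lc_b_rc_1_3 lc_b_rc_11_2 lc_b_rc_10_2 lc_b_rc_14_2 lc_b_rc_14_2) (@D3.rec (fun _ => (Cert rels S Gen.b)) lc_b_rc_13_2 lc_b_rc_15_2 lc_b_rc_14_2 lc_b_rc_11_2 lc_b_rc_16_2 lc_b_rc_1_3 lc_b_rc_1_3 lc_b_rc_10_2 lc_b_rc_10_0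 lc_b_rc_10_2 lc_b_rc_10_0 lc_b_rc_10_0 lc_b_rc_16_2 lc_b_rc_11_2 lc_b_rc_16_2 lc_b_rc_12_2 lc_b_rc_11_2 lc_b_rc_11_0 lc_b_rc_11_0 lc_b_rc_13_2 lc_b_rc_9_0 lc_b_rc_9_0 lc_b_rc_14_2 lc_b_rc_13_2 lc_b_rc_12_2 lc_b_rc_12_2 lc_b_rc_10_2 lc_b_rc_10_2 lc_b_rc_11_2 lc_b_rc_9_0 lc_b_rc_14_2 lc_b_rc_13_2)
def ce_b_2 : D2 → D3 → (Cert rels S Gen.b) := @D2.rec (fun _ => D3 → (Cert rels S Gen.b)) (@D3.rec (fun _ => (Cert rels S Gen.b)) lc_b_rc_1_3 lc_b_rc_10_2 lc_b_rc_11_2 lc_b_rc_14_2 lc_b_rc_13_2 lc_b_rc_15_2 lc_b_rc_14_2 lc_b_rc_13_2 lc_b_rc_12_2 lc_b_rc_15_2 lc_b_rc_14_2 lc_b_rc_11_2 lc_b_rc_1_3 lc_b_rc_1_3 lc_b_rc_1_3 lc_b_rc_11_2 lc_b_rc_10_2 lc_b_rc_10_2 lc_b_rc_10_2 lc_b_rc_11_2 lc_b_rc_12_2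 lc_b_rc_14_2 lc_b_rc_13_2 lc_b_rc_11_2 lc_b_rc_12_2 lc_b_rc_15_2 lc_b_rc_11_2 lc_b_rc_12_2 lc_b_rc_1_3 lc_b_rc_11_2 lc_b_rc_10_2 lc_b_rc_1_3) (@D3.rec (fun _ => (Cert rels S Gen.b)) lc_b_rc_1_3 lc_b_rc_10_2 lc_b_rc_11_2 lc_b_rc_13_2 lc_b_rc_12_2 lc_b_rc_13_2 lc_b_rc_16_2 lc_b_Cert_tree lc_b_rc_1_3 lc_b_rc_1_3 lc_b_rc_10_2 lc_b_rc_10_2 lc_b_rc_12_2 lc_b_rc_13_2 lc_b_rc_16_2 lc_b_rc_13_2 lc_b_rc_16_2 lc_b_rc_9_0 lc_b_rc_14_2 lc_b_rc_1_3 lc_b_rc_10_2 lc_b_rc_9_0 lc_b_rc_14_2 lc_b_rc_13_2 lc_b_rc_1_3 lc_b_rc_1_3 lc_b_rc_10_2 lc_b_rc_10_0 lc_b_rc_10_2 lc_b_rc_16_2 lc_b_rc_1_3 lc_b_rc_11_2) (@D3.rec (fun _ => (Cert rels S Gen.b)) lc_b_rc_14_2 lc_b_rc_11_2 lc_b_rc_13_2 lc_b_rc_15_2 lc_b_rc_15_2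 lc_b_rc_1_3 lc_b_rc_10_2 lc_b_rc_11_2 lc_b_rc_13_2 lc_b_rc_15_2 lc_b_rc_12_2 lc_b_rc_11_2 lc_b_rc_13_2 lc_b_rc_16_2 lc_b_Cert_tree lc_b_rc_1_3 lc_b_rc_1_3 lc_b_rc_1_3 lc_b_rc_10_2 lc_b_rc_10_2 lc_b_rc_12_2 lc_b_rc_11_2 lc_b_rc_13_2 lc_b_rc_16_2 lc_b_rc_12_2 lc_b_rc_13_2 lc_b_rc_13_2 lc_b_rc_16_2 lc_b_rc_9_0 lc_b_rc_14_2 lc_b_rc_13_2 lc_b_rc_1_3) (@D3.rec (fun _ => (Cert rels S Gen.b)) lc_b_rc_1_3 lc_b_rc_1_3 lc_b_rc_1_3 lc_b_rc_10_2 lc_b_rc_10_2 lc_b_rc_10_2 lc_b_rc_11_2 lc_b_rc_10_2 lc_b_rc_12_2 lc_b_rc_13_2 lc_b_rc_13_2 lc_b_rc_16_2 lc_b_rc_14_2 lc_b_rc_13_2 lc_b_rc_11_2 lc_b_rc_1_3 lc_b_rc_11_2 lc_b_rc_14_2 lc_b_rc_11_2 lc_b_rc_13_2 lc_b_rc_15_2 lc_b_rc_14_0 lc_b_rc_1_3 lc_b_rc_10_2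 lc_b_rc_11_2 lc_b_rc_13_2 lc_b_rc_15_2 lc_b_rc_12_2 lc_b_rc_11_2 lc_b_rc_13_2 lc_b_rc_16_2 lc_b_Cert_tree) (@D3.rec (fun _ => (Cert rels S Gen.b)) lc_b_rc_1_3 lc_b_rc_1_3 lc_b_rc_11_0 lc_b_rc_10_2 lc_b_rc_10_2 lc_b_rc_12_2 lc_b_rc_11_2 lc_b_rc_13_2 lc_b_rc_16_2 lc_b_rc_12_2 lc_b_rc_13_2 lc_b_rc_13_2 lc_b_rc_16_2 lc_b_Cert_tree lc_b_rc_1_3 lc_b_rc_1_3 lc_b_rc_1_3 lc_b_rc_10_2 lc_b_rc_10_2 lc_b_rc_12_2 lc_b_rc_11_2 lc_b_rc_13_2 lc_b_rc_16_2 lc_b_rc_12_2 lc_b_rc_13_2 lc_b_rc_13_2 lc_b_rc_16_2 lc_b_rc_9_0 lc_b_rc_14_2 lc_b_rc_13_2 lc_b_rc_1_3 lc_b_rc_10_0) (@D3.rec (fun _ => (Cert rels S Gen.b)) lc_b_rc_1_3 lc_b_rc_1_3 lc_b_rc_10_2 lc_b_rc_10_2 lc_b_rc_10_2 lc_b_rc_11_2 lc_b_rc_10_2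 lc_b_rc_12_2 lc_b_rc_13_2 lc_b_rc_13_2 lc_b_rc_16_2 lc_b_rc_14_2 lc_b_rc_13_2 lc_b_rc_11_2 lc_b_rc_16_2 lc_b_rc_16_2 lc_b_rc_9_0 lc_b_rc_14_2 lc_b_rc_13_2 lc_b_rc_1_3 lc_b_rc_1_3 lc_b_rc_1_3 lc_b_rc_1_3 lc_b_rc_10_2 lc_b_rc_10_2 lc_b_rc_10_2 lc_b_rc_11_2 lc_b_rc_10_2 lc_b_rc_12_2 lc_b_rc_13_2 lc_b_rc_14_2 lc_b_rc_13_2) (@D3.rec (fun _ => (Cert rels S Gen.b)) lc_b_rc_12_2 lc_b_rc_15_2 lc_b_rc_14_2 lc_b_rc_16_2 lc_b_rc_9_1 lc_b_rc_14_0 lc_b_rc_11_2 lc_b_rc_10_2 lc_b_rc_10_2 lc_b_rc_11_2 lc_b_Cert_tree lc_b_rc_14_2 lc_b_rc_13_2 lc_b_rc_12_2 lc_b_rc_15_2 lc_b_rc_14_2 lc_b_rc_11_2 lc_b_rc_16_2 lc_b_rc_11_0 lc_b_rc_11_0 lc_b_rc_1_3 lc_b_rc_10_2 lc_b_rc_10_2 lc_b_rc_10_0 lc_b_rc_10_2 lc_b_rc_10_0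 lc_b_rc_10_0 lc_b_rc_11_2 lc_b_rc_16_2 lc_b_rc_16_2 lc_b_Cert_tree lc_b_rc_11_2) (@D3.rec (fun _ => (Cert rels S Gen.b)) lc_b_rc_10_0 lc_b_Cert_tree lc_b_rc_9_0 lc_b_rc_11_0 lc_b_rc_1_3 lc_b_rc_11_2 lc_b_rc_14_2 lc_b_rc_1_3 lc_b_rc_1_3 lc_b_rc_10_2 lc_b_rc_11_2 lc_b_rc_13_2 lc_b_rc_15_2 lc_b_Cert_tree lc_b_rc_1_3 lc_b_rc_1_3 lc_b_rc_1_3 lc_b_rc_10_2 lc_b_rc_10_2 lc_b_rc_12_2 lc_b_rc_11_2 lc_b_rc_13_2 lc_b_rc_16_2 lc_b_rc_9_0 lc_b_rc_14_2 lc_b_rc_13_2 lc_b_rc_1_3 lc_b_rc_1_3 lc_b_rc_1_3 lc_b_rc_1_3 lc_b_rc_10_2 lc_b_rc_10_2) (@D3.rec (fun _ => (Cert rels S Gen.b)) lc_b_rc_10_2 lc_b_rc_11_2 lc_b_rc_10_2 lc_b_rc_12_2 lc_b_rc_13_2 lc_b_rc_13_2 lc_b_rc_16_2 lc_b_rc_9_0 lc_b_rc_14_2 lc_b_rc_13_2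 lc_b_rc_1_3 lc_b_rc_1_3 lc_b_rc_1_3 lc_b_rc_1_3 lc_b_rc_10_2 lc_b_rc_10_2 lc_b_rc_10_2 lc_b_rc_11_2 lc_b_rc_10_2 lc_b_rc_14_2 lc_b_rc_13_2 lc_b_rc_12_2 lc_b_rc_15_2 lc_b_rc_14_2 lc_b_rc_11_2 lc_b_rc_16_2 lc_b_rc_1_3 lc_b_rc_1_3 lc_b_rc_1_3 lc_b_rc_1_3 lc_b_rc_11_2 lc_b_rc_10_2) (@D3.rec (fun _ => (Cert rels S Gen.b)) lc_b_rc_10_2 lc_b_rc_10_2 lc_b_rc_11_2 lc_b_rc_10_2 lc_b_rc_12_2 lc_b_rc_11_2 lc_b_rc_14_2 lc_b_rc_13_2 lc_b_rc_12_2 lc_b_rc_15_2 lc_b_rc_14_2 lc_b_rc_11_2 lc_b_rc_1_3 lc_b_rc_1_3 lc_b_rc_1_3 lc_b_rc_11_2 lc_b_rc_10_2 lc_b_rc_10_2 lc_b_rc_10_2 lc_b_rc_11_2 lc_b_rc_12_2 lc_b_rc_12_2 lc_b_rc_15_2 lc_b_rc_11_2 lc_b_rc_12_2 lc_b_rc_1_3 lc_b_rc_11_2 lc_b_rc_13_2 lc_b_rc_10_2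 lc_b_rc_15_2 lc_b_rc_14_2 lc_b_rc_11_2) (@D3.rec (fun _ => (Cert rels S Gen.b)) lc_b_rc_16_2 lc_b_rc_15_2 lc_b_rc_11_2 lc_b_rc_16_2 lc_b_rc_12_2 lc_b_rc_11_2 lc_b_rc_1_3 lc_b_rc_10_0 lc_b_rc_10_2 lc_b_rc_10_0 lc_b_rc_10_0 lc_b_rc_10_0 lc_b_rc_10_0 lc_b_rc_10_0 lc_b_rc_10_2 lc_b_rc_12_2 lc_b_rc_11_2 lc_b_rc_14_2 lc_b_rc_12_2 lc_b_rc_13_2 lc_b_rc_11_0 lc_b_rc_11_0 lc_b_rc_13_2 lc_b_rc_14_2 lc_b_rc_13_2 lc_b_rc_12_2 lc_b_rc_14_2 lc_b_rc_11_2 lc_b_rc_11_2 lc_b_rc_11_2 lc_b_rc_14_2 lc_b_rc_13_2) (@D3.rec (fun _ => (Cert rels S Gen.b)) lc_b_rc_15_2 lc_b_rc_11_2 lc_b_rc_15_2 lc_b_rc_12_2 lc_b_rc_15_2 lc_b_rc_14_2 lc_b_rc_11_2 lc_b_rc_11_2 lc_b_rc_12_2 lc_b_rc_12_2 lc_b_rc_15_2 lc_b_rc_11_2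 lc_b_rc_12_2 lc_b_rc_1_3 lc_b_rc_1_3 lc_b_rc_11_2 lc_b_rc_11_2 lc_b_rc_10_2 lc_b_rc_10_2 lc_b_rc_11_2 lc_b_rc_11_2 lc_b_rc_12_2 lc_b_rc_11_2 lc_b_rc_14_2 lc_b_rc_11_2 lc_b_Cert_tree lc_b_rc_1_3 lc_b_rc_1_3 lc_b_rc_10_2 lc_b_rc_10_2 lc_b_rc_12_2 lc_b_rc_13_2) (@D3.rec (fun _ => (Cert rels S Gen.b)) lc_b_rc_16_2 lc_b_rc_13_2 lc_b_rc_16_2 lc_b_rc_9_0 lc_b_rc_14_2 lc_b_rc_13_2 lc_b_rc_1_3 lc_b_rc_1_3 lc_b_rc_1_3 lc_b_rc_10_2 lc_b_rc_10_2 lc_b_rc_11_2 lc_b_rc_10_2 lc_b_rc_13_2 lc_b_rc_16_2 lc_b_rc_16_2 lc_b_rc_14_2 lc_b_rc_12_2 lc_b_rc_11_2 lc_b_rc_14_2 lc_b_rc_13_2 lc_b_rc_14_2 lc_b_rc_11_2 lc_b_rc_16_2 lc_b_rc_1_3 lc_b_rc_10_0 lc_b_rc_10_2 lc_b_rc_10_0 lc_b_rc_10_0 lc_b_rc_1_3 lc_b_rc_1_3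 lc_b_rc_10_2) (@D3.rec (fun _ => (Cert rels S Gen.b)) lc_b_rc_11_2 lc_b_rc_13_2 lc_b_rc_15_2 lc_b_rc_12_2 lc_b_rc_11_2 lc_b_rc_13_2 lc_b_rc_16_2 lc_b_Cert_tree lc_b_rc_13_0 lc_b_rc_14_0 lc_b_rc_1_3 lc_b_rc_10_2 lc_b_rc_10_2 lc_b_rc_12_2 lc_b_rc_11_2 lc_b_rc_13_2 lc_b_rc_16_2 lc_b_rc_12_2 lc_b_rc_13_2 lc_b_rc_13_2 lc_b_rc_16_2 lc_b_rc_9_0 lc_b_rc_14_2 lc_b_rc_13_2 lc_b_rc_1_3 lc_b_rc_1_3 lc_b_rc_1_3 lc_b_rc_1_3 lc_b_rc_10_2 lc_b_rc_10_2 lc_b_rc_10_2 lc_b_rc_11_2) (@D3.rec (fun _ => (Cert rels S Gen.b)) lc_b_rc_10_2 lc_b_rc_12_2 lc_b_rc_13_2 lc_b_rc_13_2 lc_b_rc_16_2 lc_b_rc_14_2 lc_b_rc_13_2 lc_b_rc_11_2 lc_b_rc_16_2 lc_b_rc_16_2 lc_b_rc_14_2 lc_b_rc_13_2 lc_b_rc_12_2 lc_b_rc_15_2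 lc_b_rc_14_2 lc_b_rc_11_2 lc_b_rc_16_2 lc_b_rc_1_3 lc_b_rc_1_3 lc_b_rc_12_0 lc_b_rc_12_0 lc_b_rc_11_2 lc_b_rc_10_2 lc_b_rc_10_2 lc_b_rc_10_2 lc_b_rc_11_2 lc_b_rc_10_2 lc_b_rc_11_2 lc_b_rc_14_2 lc_b_rc_13_2 lc_b_rc_11_2 lc_b_rc_11_2) (@D3.rec (fun _ => (Cert rels S Gen.b)) lc_b_Cert_tree lc_b_rc_1_3 lc_b_rc_1_3 lc_b_rc_10_2 lc_b_rc_11_2 lc_b_rc_13_2 lc_b_rc_15_2 lc_b_rc_12_2 lc_b_rc_11_2 lc_b_rc_13_2 lc_b_rc_16_2 lc_b_Cert_tree lc_b_rc_1_3 lc_b_rc_15_0 lc_b_rc_1_3 lc_b_rc_10_2 lc_b_rc_10_2 lc_b_rc_12_2 lc_b_rc_11_2 lc_b_rc_13_2 lc_b_rc_16_2 lc_b_rc_12_2 lc_b_rc_13_2 lc_b_rc_13_2 lc_b_rc_16_2 lc_b_rc_9_0 lc_b_rc_14_2 lc_b_rc_13_2 lc_b_rc_1_3 lc_b_rc_10_0 lc_b_rc_1_3 lc_b_rc_1_3) (@D3.rec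 (fun _ => (Cert rels S Gen.b)) lc_b_rc_10_2 lc_b_rc_10_2 lc_b_rc_10_2 lc_b_rc_11_2 lc_b_rc_10_2 lc_b_rc_12_2 lc_b_rc_13_2 lc_b_rc_13_2 lc_b_rc_16_2 lc_b_rc_14_2 lc_b_rc_13_2 lc_b_rc_11_2 lc_b_rc_16_2 lc_b_rc_16_2 lc_b_rc_9_0 lc_b_rc_14_2 lc_b_rc_13_2 lc_b_rc_1_3 lc_b_rc_1_3 lc_b_rc_1_3 lc_b_rc_1_3 lc_b_rc_10_2 lc_b_rc_10_2 lc_b_rc_10_2 lc_b_rc_11_2 lc_b_rc_10_2 lc_b_rc_12_2 lc_b_rc_13_2 lc_b_rc_13_2 lc_b_rc_16_2 lc_b_rc_13_2 lc_b_rc_11_2) (@D3.rec (fun _ => (Cert rels S Gen.b)) lc_b_rc_16_2 lc_b_rc_16_2 lc_b_rc_14_2 lc_b_rc_13_2 lc_b_rc_12_2 lc_b_rc_15_2 lc_b_rc_14_2 lc_b_rc_11_2 lc_b_rc_16_2 lc_b_rc_11_2 lc_b_rc_1_3 lc_b_rc_10_0 lc_b_rc_1_3 lc_b_rc_11_2 lc_b_rc_10_2 lc_b_rc_10_2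 lc_b_rc_10_2 lc_b_rc_11_2 lc_b_rc_10_2 lc_b_rc_12_2 lc_b_rc_11_2 lc_b_rc_14_2 lc_b_rc_13_2 lc_b_rc_11_2 lc_b_rc_16_2 lc_b_rc_16_2 lc_b_rc_16_2 lc_b_Cert_tree lc_b_rc_11_2 lc_b_rc_14_2 lc_b_rc_13_2 lc_b_rc_12_2) (@D3.rec (fun _ => (Cert rels S Gen.b)) lc_b_rc_15_2 lc_b_rc_14_2 lc_b_rc_11_2 lc_b_rc_16_2 lc_b_rc_1_3 lc_b_rc_1_3 lc_b_rc_11_2 lc_b_rc_10_2 lc_b_rc_10_2 lc_b_rc_11_2 lc_b_rc_11_2 lc_b_rc_12_2 lc_b_rc_15_2 lc_b_rc_14_2 lc_b_rc_16_2 lc_b_rc_11_2 lc_b_rc_12_2 lc_b_rc_12_2 lc_b_rc_10_0 lc_b_rc_11_2 lc_b_rc_13_2 lc_b_rc_11_2 lc_b_Cert_tree lc_b_rc_9_0 lc_b_rc_12_2 lc_b_rc_15_2 lc_b_rc_14_2 lc_b_rc_11_2 lc_b_rc_16_2 lc_b_rc_12_2 lc_b_rc_15_2 lc_b_rc_11_2) (@D3.rec (fun _ => (Cert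 rels S Gen.b)) lc_b_rc_16_2 lc_b_rc_12_2 lc_b_rc_11_2 lc_b_rc_10_0 lc_b_rc_11_0 lc_b_rc_11_0 lc_b_rc_11_2 lc_b_rc_10_2 lc_b_rc_10_0 lc_b_rc_10_2 lc_b_rc_10_0 lc_b_rc_10_0 lc_b_rc_10_0 lc_b_rc_10_0 lc_b_rc_10_0 lc_b_Cert_tree lc_b_rc_11_2 lc_b_rc_9_0 lc_b_rc_16_2 lc_b_Cert_tree lc_b_rc_9_0 lc_b_rc_10_0 lc_b_rc_1_3 lc_b_rc_1_3 lc_b_rc_10_2 lc_b_Cert_tree lc_b_rc_1_3 lc_b_rc_1_3 lc_b_rc_1_3 lc_b_rc_10_2 lc_b_rc_10_2 lc_b_rc_9_0) (@D3.rec (fun _ => (Cert rels S Gen.b)) lc_b_rc_14_2 lc_b_rc_13_2 lc_b_rc_1_3 lc_b_rc_1_3 lc_b_rc_1_3 lc_b_rc_1_3 lc_b_rc_10_2 lc_b_rc_10_2 lc_b_rc_10_2 lc_b_rc_11_2 lc_b_rc_10_2 lc_b_rc_14_2 lc_b_rc_13_2 lc_b_rc_12_2 lc_b_rc_15_2 lc_b_rc_14_2 lc_b_rc_11_2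 lc_b_rc_16_2 lc_b_rc_1_3 lc_b_rc_1_3 lc_b_rc_1_3 lc_b_rc_1_3 lc_b_rc_11_2 lc_b_rc_10_2 lc_b_rc_10_2 lc_b_rc_10_2 lc_b_rc_11_2 lc_b_rc_10_2 lc_b_rc_12_2 lc_b_rc_11_2 lc_b_rc_14_2 lc_b_rc_13_2) (@D3.rec (fun _ => (Cert rels S Gen.b)) lc_b_rc_12_2 lc_b_rc_15_2 lc_b_rc_14_2 lc_b_rc_11_2 lc_b_rc_16_2 lc_b_rc_11_2 lc_b_rc_11_2 lc_b_rc_12_2 lc_b_rc_11_2 lc_b_rc_12_2 lc_b_rc_15_2 lc_b_rc_14_2 lc_b_rc_11_2 lc_b_rc_16_2 lc_b_rc_11_2 lc_b_rc_12_2 lc_b_rc_12_2 lc_b_rc_15_2 lc_b_rc_11_2 lc_b_rc_16_2 lc_b_rc_12_2 lc_b_rc_11_2 lc_b_rc_11_2 lc_b_rc_13_2 lc_b_rc_11_2 lc_b_rc_11_2 lc_b_rc_12_2 lc_b_rc_11_2 lc_b_rc_14_2 lc_b_rc_12_2 lc_b_rc_13_2 lc_b_rc_12_2)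
def ce_b_3 : D2 → D3 → (Cert rels S Gen.b) := @D2.rec (fun _ => D3 → (Cert rels S Gen.b)) (@D3.rec (fun _ => (Cert rels S Gen.b)) lc_b_rc_15_2 lc_b_rc_14_2 lc_b_rc_11_2 lc_b_rc_11_2 lc_b_rc_12_2 lc_b_rc_12_2 lc_b_rc_15_2 lc_b_rc_11_2 lc_b_rc_12_2 lc_b_rc_11_2 lc_b_rc_13_2 lc_b_rc_11_2 lc_b_rc_11_2 lc_b_rc_12_2 lc_b_rc_14_2 lc_b_rc_11_2 lc_b_rc_12_2 lc_b_rc_11_2 lc_b_rc_13_2 lc_b_rc_14_2 lc_b_rc_11_2 lc_b_rc_13_2 lc_b_rc_16_2 lc_b_rc_15_2 lc_b_rc_11_2 lc_b_rc_16_2 lc_b_rc_10_2 lc_b_rc_12_2 lc_b_rc_11_2 lc_b_rc_11_2 lc_b_rc_16_2 lc_b_rc_12_2) (@D3.rec (fun _ => (Cert rels S Gen.b)) lc_b_rc_11_2 lc_b_rc_14_2 lc_b_rc_12_2 lc_b_rc_13_2 lc_b_rc_10_0 lc_b_rc_11_2 lc_b_rc_10_0 lc_b_rc_10_0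 lc_b_rc_10_0 lc_b_rc_10_0 lc_b_rc_10_0 lc_b_rc_10_0 lc_b_rc_10_2 lc_b_rc_10_2 lc_b_rc_14_2 lc_b_rc_12_2 lc_b_rc_13_2 lc_b_rc_15_2 lc_b_rc_14_2 lc_b_rc_13_2 lc_b_rc_11_0 lc_b_rc_13_2 lc_b_rc_13_0 lc_b_rc_12_2 lc_b_rc_14_2 lc_b_rc_11_2 lc_b_rc_11_2 lc_b_rc_11_2 lc_b_rc_15_2 lc_b_rc_11_2 lc_b_rc_11_2 lc_b_rc_12_2) (@D3.rec (fun _ => (Cert rels S Gen.b)) lc_b_rc_12_2 lc_b_rc_15_2 lc_b_rc_11_2 lc_b_rc_10_2 lc_b_rc_12_2 lc_b_rc_11_2 lc_b_rc_14_2 lc_b_rc_12_2 lc_b_rc_11_2 lc_b_rc_11_2 lc_b_rc_10_2 lc_b_rc_11_2 lc_b_rc_14_2 lc_b_rc_11_2 lc_b_rc_12_2 lc_b_rc_9_0 lc_b_rc_14_2 lc_b_rc_13_2 lc_b_rc_1_3 lc_b_rc_1_3 lc_b_rc_1_3 lc_b_rc_10_2 lc_b_rc_10_2 lc_b_rc_11_2 lc_b_rc_10_2 lc_b_rc_13_2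 lc_b_rc_16_2 lc_b_rc_11_2 lc_b_rc_16_2 lc_b_rc_14_2 lc_b_rc_13_2 lc_b_rc_12_2) (@D3.rec (fun _ => (Cert rels S Gen.b)) lc_b_rc_14_2 lc_b_rc_11_2 lc_b_rc_16_2 lc_b_rc_1_3 lc_b_rc_1_3 lc_b_rc_11_2 lc_b_rc_10_2 lc_b_rc_11_2 lc_b_rc_10_2 lc_b_rc_12_2 lc_b_rc_11_2 lc_b_rc_16_2 lc_b_rc_12_2 lc_b_rc_11_2 lc_b_rc_13_2 lc_b_rc_14_2 lc_b_rc_11_2 lc_b_rc_16_2 lc_b_rc_11_2 lc_b_rc_16_2 lc_b_rc_12_2 lc_b_rc_11_2 lc_b_rc_10_0 lc_b_rc_10_0 lc_b_rc_10_0 lc_b_rc_10_0 lc_b_rc_10_0 lc_b_Cert_tree lc_b_rc_1_3 lc_b_rc_1_3 lc_b_rc_1_3 lc_b_rc_10_2) (@D3.rec (fun _ => (Cert rels S Gen.b)) lc_b_rc_10_2 lc_b_rc_12_2 lc_b_rc_11_2 lc_b_rc_13_2 lc_b_rc_16_2 lc_b_rc_12_2 lc_b_rc_13_2 lc_b_rc_13_2 lc_b_rc_16_2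 lc_b_rc_9_0 lc_b_rc_14_2 lc_b_rc_13_2 lc_b_rc_1_3 lc_b_rc_1_3 lc_b_rc_1_3 lc_b_rc_16_2 lc_b_rc_10_2 lc_b_rc_10_2 lc_b_rc_10_2 lc_b_rc_11_2 lc_b_rc_10_2 lc_b_rc_12_2 lc_b_rc_13_2 lc_b_rc_13_2 lc_b_rc_16_2 lc_b_rc_14_2 lc_b_rc_13_2 lc_b_rc_11_2 lc_b_rc_16_2 lc_b_rc_16_2 lc_b_rc_14_2 lc_b_rc_13_2) (@D3.rec (fun _ => (Cert rels S Gen.b)) lc_b_rc_12_2 lc_b_rc_15_2 lc_b_rc_14_2 lc_b_rc_11_2 lc_b_rc_16_2 lc_b_rc_1_3 lc_b_rc_46_15 lc_b_rc_1_3 lc_b_rc_1_3 lc_b_rc_11_2 lc_b_rc_10_2 lc_b_rc_10_2 lc_b_rc_10_2 lc_b_rc_11_2 lc_b_rc_10_2 lc_b_rc_12_2 lc_b_rc_11_2 lc_b_rc_14_2 lc_b_rc_13_2 lc_b_rc_11_2 lc_b_rc_16_2 lc_b_rc_16_2 lc_b_rc_14_2 lc_b_rc_11_2 lc_b_rc_16_2 lc_b_Cert_tree lc_b_rc_11_2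 lc_b_rc_12_2 lc_b_rc_15_2 lc_b_rc_14_2 lc_b_rc_11_2 lc_b_rc_16_2) (@D3.rec (fun _ => (Cert rels S Gen.b)) lc_b_rc_11_2 lc_b_rc_12_2 lc_b_rc_12_2 lc_b_rc_15_2 lc_b_rc_11_2 lc_b_rc_16_2 lc_b_rc_11_2 lc_b_rc_13_2 lc_b_rc_9_0 lc_b_rc_11_2 lc_b_rc_11_2 lc_b_rc_13_2 lc_b_rc_10_2 lc_b_rc_10_2 lc_b_rc_11_2 lc_b_rc_11_2 lc_b_rc_12_2 lc_b_rc_11_2 lc_b_rc_11_2 lc_b_Cert_tree lc_b_Cert_tree lc_b_rc_9_0 lc_b_Cert_tree lc_b_rc_1_3 lc_b_rc_1_3 lc_b_rc_1_3 lc_b_rc_10_2 lc_b_rc_10_2 lc_b_rc_12_2 lc_b_rc_11_2 lc_b_rc_13_2 lc_b_rc_16_2) (@D3.rec (fun _ => (Cert rels S Gen.b)) lc_b_rc_12_2 lc_b_rc_13_2 lc_b_rc_13_2 lc_b_rc_16_2 lc_b_rc_9_0 lc_b_rc_14_2 lc_b_rc_13_2 lc_b_rc_13_0 lc_b_rc_15_2 lc_b_rc_12_0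 lc_b_rc_16_2 lc_b_rc_10_2 lc_b_rc_10_2 lc_b_rc_10_2 lc_b_rc_11_2 lc_b_rc_10_2 lc_b_rc_12_2 lc_b_rc_13_2 lc_b_rc_13_2 lc_b_rc_16_2 lc_b_rc_13_2 lc_b_rc_11_2 lc_b_rc_16_2 lc_b_rc_16_2 lc_b_rc_14_2 lc_b_rc_13_2 lc_b_rc_12_2 lc_b_rc_15_2 lc_b_rc_14_2 lc_b_rc_11_2 lc_b_rc_16_2 lc_b_rc_10_0) (@D3.rec (fun _ => (Cert rels S Gen.b)) lc_b_rc_1_3 lc_b_rc_10_0 lc_b_rc_1_3 lc_b_rc_11_2 lc_b_rc_10_2 lc_b_rc_10_2 lc_b_rc_10_2 lc_b_rc_11_2 lc_b_rc_10_2 lc_b_rc_12_2 lc_b_rc_11_2 lc_b_rc_14_2 lc_b_rc_13_2 lc_b_rc_11_2 lc_b_rc_16_2 lc_b_rc_16_2 lc_b_rc_14_2 lc_b_rc_11_2 lc_b_rc_16_2 lc_b_Cert_tree lc_b_rc_11_2 lc_b_rc_14_2 lc_b_rc_13_2 lc_b_rc_12_2 lc_b_rc_15_2 lc_b_rc_14_2 lc_b_rc_11_2 lc_b_rc_16_2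 lc_b_rc_1_3 lc_b_rc_1_3 lc_b_rc_1_3 lc_b_rc_1_3) (@D3.rec (fun _ => (Cert rels S Gen.b)) lc_b_rc_11_2 lc_b_rc_10_2 lc_b_rc_10_2 lc_b_rc_10_2 lc_b_rc_11_2 lc_b_rc_10_2 lc_b_rc_12_2 lc_b_rc_11_2 lc_b_rc_13_2 lc_b_rc_11_2 lc_b_rc_16_2 lc_b_rc_16_2 lc_b_rc_16_2 lc_b_rc_11_2 lc_b_rc_12_2 lc_b_rc_15_2 lc_b_rc_14_2 lc_b_rc_11_2 lc_b_rc_16_2 lc_b_rc_11_2 lc_b_rc_12_2 lc_b_rc_12_2 lc_b_rc_15_2 lc_b_rc_11_2 lc_b_rc_16_2 lc_b_rc_12_2 lc_b_rc_11_2 lc_b_rc_10_0 lc_b_rc_10_0 lc_b_rc_10_0 lc_b_rc_1_3 lc_b_rc_10_0) (@D3.rec (fun _ => (Cert rels S Gen.b)) lc_b_rc_11_2 lc_b_rc_13_2 lc_b_rc_10_2 lc_b_rc_10_2 lc_b_rc_11_2 lc_b_rc_10_2 lc_b_rc_11_2 lc_b_rc_10_2 lc_b_rc_12_2 lc_b_rc_11_2 lc_b_rc_14_2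 lc_b_rc_12_2 lc_b_rc_13_2 lc_b_rc_16_2 lc_b_Cert_tree lc_b_rc_11_2 lc_b_rc_9_0 lc_b_rc_16_2 lc_b_rc_12_2 lc_b_rc_15_2 lc_b_rc_14_2 lc_b_rc_11_2 lc_b_rc_16_2 lc_b_rc_11_2 lc_b_rc_12_2 lc_b_rc_12_2 lc_b_rc_11_2 lc_b_rc_11_2 lc_b_rc_11_2 lc_b_rc_13_2 lc_b_rc_11_2 lc_b_rc_12_2) (@D3.rec (fun _ => (Cert rels S Gen.b)) lc_b_rc_11_2 lc_b_rc_12_2 lc_b_rc_12_2 lc_b_rc_11_2 lc_b_rc_13_2 lc_b_rc_11_2 lc_b_Cert_tree lc_b_rc_13_2 lc_b_rc_13_2 lc_b_rc_16_2 lc_b_Cert_tree lc_b_rc_9_0 lc_b_rc_11_0 lc_b_rc_12_2 lc_b_rc_15_2 lc_b_rc_11_2 lc_b_rc_16_2 lc_b_rc_10_2 lc_b_rc_12_2 lc_b_rc_11_2 lc_b_rc_11_2 lc_b_rc_12_2 lc_b_rc_11_2 lc_b_rc_16_2 lc_b_rc_12_2 lc_b_rc_11_2 lc_b_rc_14_2 lc_b_rc_12_2 lc_b_rc_13_2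 lc_b_Cert_tree lc_b_rc_10_0 lc_b_Cert_tree) (@D3.rec (fun _ => (Cert rels S Gen.b)) lc_b_rc_11_2 lc_b_rc_11_2 lc_b_rc_10_0 lc_b_rc_10_0 lc_b_rc_10_0 lc_b_rc_10_0 lc_b_rc_10_0 lc_b_rc_10_0 lc_b_rc_10_0 lc_b_rc_10_0 lc_b_rc_9_0 lc_b_rc_16_2 lc_b_rc_10_0 lc_b_rc_16_2 lc_b_rc_9_0 lc_b_rc_1_3 lc_b_Cert_tree lc_b_rc_9_0 lc_b_rc_14_2 lc_b_rc_13_2 lc_b_rc_10_2 lc_b_rc_14_2 lc_b_rc_13_2 lc_b_rc_12_2 lc_b_rc_15_2 lc_b_rc_14_2 lc_b_rc_11_2 lc_b_rc_16_2 lc_b_rc_11_2 lc_b_rc_11_2 lc_b_rc_12_2 lc_b_rc_11_2) (@D3.rec (fun _ => (Cert rels S Gen.b)) lc_b_rc_12_2 lc_b_rc_15_2 lc_b_rc_14_2 lc_b_rc_11_2 lc_b_rc_16_2 lc_b_rc_11_2 lc_b_rc_12_2 lc_b_rc_12_2 lc_b_rc_15_2 lc_b_rc_11_2 lc_b_rc_16_2 lc_b_rc_12_2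 lc_b_rc_11_2 lc_b_rc_11_2 lc_b_rc_13_2 lc_b_rc_11_2 lc_b_rc_11_2 lc_b_rc_12_2 lc_b_rc_11_2 lc_b_rc_14_2 lc_b_rc_12_2 lc_b_rc_13_2 lc_b_rc_12_2 lc_b_rc_15_2 lc_b_rc_14_2 lc_b_rc_11_2 lc_b_rc_16_2 lc_b_rc_11_2 lc_b_rc_11_2 lc_b_rc_12_2 lc_b_rc_11_2 lc_b_rc_14_2) (@D3.rec (fun _ => (Cert rels S Gen.b)) lc_b_rc_47_42 lc_b_rc_14_2 lc_b_rc_12_2 lc_b_rc_13_2 lc_b_rc_11_2 lc_b_rc_12_2 lc_b_rc_12_2 lc_b_rc_15_2 lc_b_rc_11_2 lc_b_rc_16_2 lc_b_rc_10_2 lc_b_rc_12_2 lc_b_rc_11_2 lc_b_rc_11_2 lc_b_rc_13_2 lc_b_rc_11_2 lc_b_rc_11_2 lc_b_rc_12_2 lc_b_rc_11_2 lc_b_rc_14_2 lc_b_rc_12_2 lc_b_rc_13_2 lc_b_rc_13_2 lc_b_rc_13_2 lc_b_rc_16_2 lc_b_rc_12_2 lc_b_rc_12_2 lc_b_rc_14_2 lc_b_rc_12_2 lc_b_rc_13_2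 lc_b_rc_15_2 lc_b_rc_14_2) (@D3.rec (fun _ => (Cert rels S Gen.b)) lc_b_rc_13_2 lc_b_rc_11_2 lc_b_rc_12_2 lc_b_rc_12_2 lc_b_rc_15_2 lc_b_rc_11_2 lc_b_rc_10_2 lc_b_rc_12_2 lc_b_rc_11_2 lc_b_rc_13_2 lc_b_rc_11_2 lc_b_rc_11_2 lc_b_rc_12_2 lc_b_rc_14_2 lc_b_rc_13_2 lc_b_rc_13_2 lc_b_rc_16_2 lc_b_rc_12_2 lc_b_rc_12_2 lc_b_rc_14_2 lc_b_rc_10_2 lc_b_rc_11_2 lc_b_rc_13_2 lc_b_rc_14_2 lc_b_rc_11_2 lc_b_rc_13_2 lc_b_rc_16_2 lc_b_rc_12_2 lc_b_rc_13_2 lc_b_rc_16_2 lc_b_rc_11_2 lc_b_rc_16_2) (@D3.rec (fun _ => (Cert rels S Gen.b)) lc_b_rc_10_2 lc_b_rc_12_2 lc_b_rc_11_2 lc_b_rc_10_2 lc_b_rc_10_2 lc_b_rc_14_2 lc_b_rc_12_2 lc_b_rc_13_2 lc_b_rc_12_2 lc_b_rc_11_2 lc_b_rc_14_2 lc_b_rc_12_2 lc_b_rc_13_2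 lc_b_rc_15_2 lc_b_rc_14_2 lc_b_rc_13_2 lc_b_rc_10_0 lc_b_rc_12_2 lc_b_rc_13_2 lc_b_rc_10_0 lc_b_rc_10_0 lc_b_rc_10_0 lc_b_rc_10_0 lc_b_rc_10_0 lc_b_rc_11_2 lc_b_rc_11_2 lc_b_rc_10_2 lc_b_rc_10_2 lc_b_rc_10_2 lc_b_rc_15_2 lc_b_rc_14_2 lc_b_rc_13_2) (@D3.rec (fun _ => (Cert rels S Gen.b)) lc_b_rc_15_2 lc_b_rc_13_2 lc_b_rc_11_2 lc_b_rc_13_2 lc_b_rc_13_0 lc_b_rc_1_5 lc_b_rc_11_2 lc_b_rc_11_2 lc_b_rc_10_2 lc_b_rc_10_2 lc_b_rc_10_2 lc_b_rc_11_2 lc_b_rc_14_2 lc_b_rc_12_2 lc_b_rc_11_2 lc_b_rc_10_2 lc_b_rc_10_2 lc_b_rc_11_2 lc_b_rc_12_2 lc_b_rc_10_2 lc_b_rc_11_2 lc_b_rc_12_2 lc_b_rc_14_2 lc_b_rc_13_2 lc_b_rc_12_2 lc_b_rc_14_2 lc_b_rc_11_2 lc_b_rc_16_2 lc_b_rc_1_3 lc_b_rc_1_3 lc_b_rc_11_2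 lc_b_rc_10_2) (@D3.rec (fun _ => (Cert rels S Gen.b)) lc_b_rc_11_2 lc_b_rc_10_2 lc_b_rc_12_2 lc_b_rc_11_2 lc_b_rc_11_2 lc_b_rc_16_2 lc_b_rc_11_2 lc_b_rc_12_2 lc_b_rc_14_2 lc_b_rc_11_2 lc_b_rc_16_2 lc_b_rc_11_2 lc_b_rc_12_2 lc_b_rc_11_2 lc_b_rc_16_2 lc_b_rc_12_2 lc_b_rc_11_2 lc_b_rc_1_3 lc_b_rc_13_2 lc_b_rc_11_2 lc_b_rc_10_2 lc_b_rc_12_2 lc_b_rc_11_2 lc_b_rc_14_2 lc_b_rc_12_2 lc_b_rc_13_2 lc_b_rc_11_2 lc_b_rc_13_2 lc_b_rc_16_2 lc_b_rc_11_2 lc_b_rc_16_2 lc_b_rc_10_2) (@D3.rec (fun _ => (Cert rels S Gen.b)) lc_b_rc_12_2 lc_b_rc_11_2 lc_b_rc_12_2 lc_b_rc_11_2 lc_b_rc_14_2 lc_b_rc_12_2 lc_b_rc_13_2 lc_b_rc_10_0 lc_b_rc_10_0 lc_b_rc_10_0 lc_b_rc_10_0 lc_b_rc_10_0 lc_b_rc_10_0 lc_b_rc_9_0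 lc_b_rc_14_2 lc_b_rc_13_2 lc_b_rc_1_3 lc_b_rc_1_3 lc_b_rc_1_3 lc_b_rc_1_3 lc_b_rc_10_2 lc_b_rc_10_2 lc_b_rc_10_2 lc_b_rc_10_2 lc_b_rc_10_2 lc_b_rc_12_2 lc_b_rc_13_2 lc_b_rc_13_2 lc_b_rc_16_2 lc_b_rc_1_5 lc_b_rc_13_2 lc_b_rc_11_2) (@D3.rec (fun _ => (Cert rels S Gen.b)) lc_b_rc_16_2 lc_b_rc_16_2 lc_b_rc_14_2 lc_b_rc_13_2 lc_b_rc_12_2 lc_b_rc_15_2 lc_b_rc_14_2 lc_b_rc_11_2 lc_b_rc_16_2 lc_b_rc_15_2 lc_b_rc_10_0 lc_b_rc_15_2 lc_b_rc_16_2 lc_b_rc_11_2 lc_b_rc_10_2 lc_b_rc_10_2 lc_b_rc_10_2 lc_b_rc_11_2 lc_b_rc_10_2 lc_b_rc_12_2 lc_b_rc_11_2 lc_b_rc_14_2 lc_b_rc_13_2 lc_b_rc_11_2 lc_b_rc_16_2 lc_b_rc_16_2 lc_b_rc_14_2 lc_b_rc_11_2 lc_b_rc_16_2 lc_b_Cert_tree lc_b_rc_11_2 lc_b_rc_12_2)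 (@D3.rec (fun _ => (Cert rels S Gen.b)) lc_b_rc_15_2 lc_b_rc_14_2 lc_b_rc_11_2 lc_b_rc_16_2 lc_b_rc_11_2 lc_b_rc_12_2 lc_b_rc_12_2 lc_b_rc_15_2 lc_b_rc_11_2 lc_b_rc_16_2 lc_b_rc_12_2 lc_b_rc_11_2 lc_b_rc_11_2 lc_b_rc_1_3 lc_b_rc_11_2 lc_b_rc_1_3 lc_b_rc_1_3 lc_b_rc_11_2 lc_b_rc_13_2 lc_b_rc_10_2 lc_b_rc_10_2 lc_b_rc_11_2 lc_b_rc_10_2 lc_b_rc_11_2 lc_b_rc_10_2 lc_b_rc_12_2 lc_b_rc_11_2 lc_b_rc_14_2 lc_b_rc_12_2 lc_b_rc_13_2 lc_b_rc_14_2 lc_b_rc_11_2)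
def ce_b_4 : D2 → D3 → (Cert rels S Gen.b) := @D2.rec (fun _ => D3 → (Cert rels S Gen.b)) (@D3.rec (fun _ => (Cert rels S Gen.b)) lc_b_rc_16_2 lc_b_Cert_tree lc_b_rc_11_2 lc_b_rc_16_2 lc_b_Cert_tree lc_b_rc_11_2 lc_b_rc_9_0 lc_b_rc_16_2 lc_b_rc_11_2 lc_b_rc_12_2 lc_b_rc_12_2 lc_b_rc_15_2 lc_b_rc_11_2 lc_b_rc_16_2 lc_b_rc_10_2 lc_b_rc_11_2 lc_b_rc_11_2 lc_b_rc_13_2 lc_b_rc_14_2 lc_b_rc_12_2 lc_b_rc_11_2 lc_b_rc_11_2 lc_b_rc_12_2 lc_b_rc_11_2 lc_b_rc_10_0 lc_b_Cert_tree lc_b_rc_11_2 lc_b_rc_13_2 lc_b_rc_13_2 lc_b_rc_16_2 lc_b_rc_11_2 lc_b_Cert_tree) (@D3.rec (fun _ => (Cert rels S Gen.b)) lc_b_rc_12_2 lc_b_rc_12_2 lc_b_rc_12_2 lc_b_Cert_tree lc_b_rc_9_0 lc_b_rc_9_0 lc_b_rc_10_0 lc_b_rc_9_0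 lc_b_rc_14_2 lc_b_rc_13_2 lc_b_rc_1_3 lc_b_rc_1_3 lc_b_rc_1_3 lc_b_rc_1_3 lc_b_rc_10_2 lc_b_rc_10_2 lc_b_rc_10_2 lc_b_rc_10_2 lc_b_rc_12_2 lc_b_rc_13_2 lc_b_rc_13_2 lc_b_rc_16_2 lc_b_rc_14_2 lc_b_rc_13_2 lc_b_rc_11_2 lc_b_rc_16_2 lc_b_rc_16_2 lc_b_rc_14_2 lc_b_rc_13_2 lc_b_rc_12_2 lc_b_rc_15_2 lc_b_rc_14_2) (@D3.rec (fun _ => (Cert rels S Gen.b)) lc_b_rc_11_2 lc_b_rc_16_2 lc_b_rc_1_3 lc_b_rc_1_3 lc_b_rc_1_3 lc_b_rc_1_3 lc_b_rc_11_2 lc_b_rc_10_2 lc_b_rc_10_2 lc_b_rc_10_2 lc_b_rc_11_2 lc_b_rc_10_2 lc_b_rc_12_2 lc_b_rc_11_2 lc_b_rc_13_2 lc_b_rc_11_2 lc_b_rc_16_2 lc_b_rc_16_2 lc_b_rc_11_2 lc_b_rc_16_2 lc_b_Cert_tree lc_b_rc_11_2 lc_b_rc_12_2 lc_b_rc_15_2 lc_b_rc_14_2 lc_b_rc_11_2 lc_b_rc_16_2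 lc_b_rc_11_2 lc_b_rc_12_2 lc_b_rc_12_2 lc_b_rc_15_2 lc_b_rc_11_2) (@D3.rec (fun _ => (Cert rels S Gen.b)) lc_b_rc_16_2 lc_b_rc_12_2 lc_b_rc_11_2 lc_b_rc_11_0 lc_b_rc_10_0 lc_b_rc_11_2 lc_b_rc_1_3 lc_b_rc_10_0 lc_b_rc_11_2 lc_b_rc_13_2 lc_b_rc_10_2 lc_b_rc_10_2 lc_b_rc_11_2 lc_b_rc_10_2 lc_b_rc_11_2 lc_b_rc_10_2 lc_b_rc_12_2 lc_b_rc_11_2 lc_b_rc_14_2 lc_b_rc_12_2 lc_b_rc_13_2 lc_b_rc_14_2 lc_b_rc_11_2 lc_b_rc_16_2 lc_b_Cert_tree lc_b_rc_11_2 lc_b_rc_16_2 lc_b_rc_11_2 lc_b_rc_9_0 lc_b_rc_16_2 lc_b_rc_13_2 lc_b_rc_12_2) (@D3.rec (fun _ => (Cert rels S Gen.b)) lc_b_rc_15_2 lc_b_rc_14_2 lc_b_rc_11_2 lc_b_rc_16_2 lc_b_rc_11_2 lc_b_rc_12_2 lc_b_rc_12_2 lc_b_rc_15_2 lc_b_rc_11_2 lc_b_rc_16_2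 lc_b_rc_12_2 lc_b_rc_11_2 lc_b_rc_1_3 lc_b_rc_11_2 lc_b_rc_1_3 lc_b_rc_1_3 lc_b_rc_13_0 lc_b_rc_13_2 lc_b_rc_10_2 lc_b_rc_11_2 lc_b_rc_10_2 lc_b_rc_11_2 lc_b_rc_10_2 lc_b_rc_12_2 lc_b_rc_11_2 lc_b_rc_14_2 lc_b_rc_12_2 lc_b_rc_13_2 lc_b_rc_16_2 lc_b_rc_10_2 lc_b_rc_11_2 lc_b_rc_11_2) (@D3.rec (fun _ => (Cert rels S Gen.b)) lc_b_rc_12_2 lc_b_rc_12_2 lc_b_rc_15_2 lc_b_rc_11_2 lc_b_rc_16_2 lc_b_rc_10_2 lc_b_rc_12_2 lc_b_rc_11_2 lc_b_rc_11_2 lc_b_rc_13_2 lc_b_rc_14_2 lc_b_rc_12_2 lc_b_rc_11_2 lc_b_rc_12_2 lc_b_rc_11_2 lc_b_rc_16_2 lc_b_rc_12_2 lc_b_rc_11_2 lc_b_rc_14_2 lc_b_rc_12_2 lc_b_rc_13_2 lc_b_rc_10_0 lc_b_Cert_tree lc_b_rc_10_0 lc_b_rc_11_2 lc_b_rc_13_2 lc_b_rc_13_2 lc_b_rc_16_2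 lc_b_rc_11_2 lc_b_rc_10_2 lc_b_Cert_tree lc_b_rc_12_2) (@D3.rec (fun _ => (Cert rels S Gen.b)) lc_b_rc_11_2 lc_b_rc_12_2 lc_b_rc_11_2 lc_b_rc_14_2 lc_b_rc_12_2 lc_b_rc_13_2 lc_b_rc_15_2 lc_b_rc_14_2 lc_b_rc_13_2 lc_b_rc_9_0 lc_b_rc_16_2 lc_b_rc_10_0 lc_b_rc_16_2 lc_b_rc_11_2 lc_b_rc_12_2 lc_b_rc_12_2 lc_b_rc_11_2 lc_b_rc_10_2 lc_b_rc_11_2 lc_b_rc_11_2 lc_b_rc_13_2 lc_b_rc_11_2 lc_b_rc_12_2 lc_b_rc_13_2 lc_b_rc_13_2 lc_b_rc_16_2 lc_b_rc_12_2 lc_b_rc_10_2 lc_b_rc_11_2 lc_b_rc_13_2 lc_b_rc_11_2 lc_b_rc_13_2) (@D3.rec (fun _ => (Cert rels S Gen.b)) lc_b_rc_13_2 lc_b_rc_16_2 lc_b_Cert_tree lc_b_rc_9_0 lc_b_rc_16_2 lc_b_Cert_tree lc_b_rc_16_2 lc_b_rc_9_0 lc_b_rc_1_3 lc_b_rc_11_2 lc_b_rc_12_2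 lc_b_rc_11_2 lc_b_rc_16_2 lc_b_rc_10_2 lc_b_rc_12_2 lc_b_rc_11_2 lc_b_rc_10_2 lc_b_rc_10_2 lc_b_rc_14_2 lc_b_rc_12_2 lc_b_rc_13_2 lc_b_Cert_tree lc_b_rc_11_2 lc_b_rc_11_2 lc_b_rc_12_2 lc_b_rc_11_2 lc_b_rc_14_2 lc_b_rc_12_2 lc_b_rc_13_2 lc_b_rc_15_2 lc_b_rc_14_2 lc_b_rc_13_2) (@D3.rec (fun _ => (Cert rels S Gen.b)) lc_b_rc_9_0 lc_b_rc_16_2 lc_b_rc_9_0 lc_b_rc_12_2 lc_b_rc_16_2 lc_b_rc_11_2 lc_b_rc_11_2 lc_b_rc_13_2 lc_b_rc_10_0 lc_b_rc_10_0 lc_b_rc_13_2 lc_b_rc_10_0 lc_b_rc_10_0 lc_b_rc_10_0 lc_b_rc_10_0 lc_b_rc_10_0 lc_b_rc_11_2 lc_b_rc_1_3 lc_b_rc_16_2 lc_b_rc_10_0 lc_b_rc_1_3 lc_b_rc_9_0 lc_b_rc_14_2 lc_b_rc_13_2 lc_b_rc_11_2 lc_b_rc_10_2 lc_b_rc_12_2 lc_b_rc_15_2 lc_b_rc_14_2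 lc_b_rc_11_2 lc_b_rc_16_2 lc_b_rc_11_2) (@D3.rec (fun _ => (Cert rels S Gen.b)) lc_b_rc_11_2 lc_b_rc_12_2 lc_b_rc_11_2 lc_b_rc_14_2 lc_b_rc_12_2 lc_b_rc_13_2 lc_b_rc_11_2 lc_b_rc_12_2 lc_b_rc_12_2 lc_b_rc_15_2 lc_b_rc_11_2 lc_b_rc_16_2 lc_b_rc_10_2 lc_b_rc_12_2 lc_b_rc_11_2 lc_b_rc_11_2 lc_b_rc_13_2 lc_b_rc_11_2 lc_b_rc_11_2 lc_b_rc_12_2 lc_b_rc_11_2 lc_b_rc_14_2 lc_b_rc_12_2 lc_b_rc_13_2 lc_b_rc_13_2 lc_b_rc_13_2 lc_b_rc_16_2 lc_b_rc_12_2 lc_b_rc_12_2 lc_b_rc_14_2 lc_b_rc_12_2 lc_b_rc_13_2) (@D3.rec (fun _ => (Cert rels S Gen.b)) lc_b_rc_15_2 lc_b_rc_14_2 lc_b_rc_13_2 lc_b_rc_11_2 lc_b_rc_11_2 lc_b_rc_10_2 lc_b_rc_12_2 lc_b_rc_11_2 lc_b_rc_13_2 lc_b_rc_12_2 lc_b_rc_14_2 lc_b_rc_12_2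 lc_b_rc_13_2 lc_b_rc_16_2 lc_b_rc_1_5 lc_b_rc_9_1 lc_b_rc_12_2 lc_b_rc_13_2 lc_b_rc_10_2 lc_b_rc_11_2 lc_b_rc_13_2 lc_b_rc_11_2 lc_b_rc_11_2 lc_b_rc_10_2 lc_b_rc_12_2 lc_b_rc_11_2 lc_b_rc_10_2 lc_b_rc_10_2 lc_b_rc_14_2 lc_b_rc_12_2 lc_b_rc_13_2 lc_b_rc_13_2) (@D3.rec (fun _ => (Cert rels S Gen.b)) lc_b_rc_13_2 lc_b_rc_16_2 lc_b_rc_11_2 lc_b_rc_12_2 lc_b_rc_14_2 lc_b_rc_12_2 lc_b_rc_13_2 lc_b_rc_15_2 lc_b_rc_14_2 lc_b_rc_13_2 lc_b_rc_13_2 lc_b_rc_13_2 lc_b_rc_12_0 lc_b_rc_14_2 lc_b_rc_14_2 lc_b_rc_15_2 lc_b_rc_14_2 lc_b_rc_13_2 lc_b_rc_15_2 lc_b_rc_14_2 lc_b_rc_11_2 lc_b_rc_10_2 lc_b_rc_11_2 lc_b_rc_13_2 lc_b_rc_11_2 lc_b_rc_11_2 lc_b_rc_10_2 lc_b_rc_12_2 lc_b_rc_10_2 lc_b_rc_14_2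 lc_b_rc_13_2 lc_b_rc_13_2) (@D3.rec (fun _ => (Cert rels S Gen.b)) lc_b_rc_16_2 lc_b_rc_11_2 lc_b_rc_12_2 lc_b_rc_14_2 lc_b_rc_16_2 lc_b_rc_13_2 lc_b_rc_16_2 lc_b_rc_14_2 lc_b_rc_10_2 lc_b_rc_10_2 lc_b_rc_11_2 lc_b_rc_13_2 lc_b_rc_16_2 lc_b_rc_12_2 lc_b_rc_13_2 lc_b_rc_16_2 lc_b_rc_13_2 lc_b_rc_16_2 lc_b_rc_10_2 lc_b_rc_12_2 lc_b_rc_11_2 lc_b_rc_10_2 lc_b_rc_10_2 lc_b_rc_14_2 lc_b_rc_12_2 lc_b_rc_13_2 lc_b_rc_11_2 lc_b_rc_10_2 lc_b_rc_10_2 lc_b_rc_10_2 lc_b_rc_15_2 lc_b_rc_14_2) (@D3.rec (fun _ => (Cert rels S Gen.b)) lc_b_rc_13_2 lc_b_rc_14_2 lc_b_rc_12_2 lc_b_rc_13_2 lc_b_rc_15_2 lc_b_rc_14_2 lc_b_rc_13_2 lc_b_rc_15_2 lc_b_rc_13_2 lc_b_rc_11_2 lc_b_rc_10_0 lc_b_rc_14_2 lc_b_rc_13_2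 lc_b_rc_10_0 lc_b_rc_10_0 lc_b_rc_11_2 lc_b_rc_10_0 lc_b_rc_11_2 lc_b_rc_47_35 lc_b_rc_11_2 lc_b_rc_13_2 lc_b_rc_11_2 lc_b_rc_10_2 lc_b_rc_10_2 lc_b_rc_10_2 lc_b_rc_11_2 lc_b_rc_15_2 lc_b_rc_13_2 lc_b_rc_11_2 lc_b_rc_13_2 lc_b_rc_11_2 lc_b_Cert_tree) (@D3.rec (fun _ => (Cert rels S Gen.b)) lc_b_rc_10_2 lc_b_rc_10_2 lc_b_rc_10_2 lc_b_rc_11_2 lc_b_rc_10_2 lc_b_rc_11_2 lc_b_rc_12_2 lc_b_rc_10_2 lc_b_rc_12_2 lc_b_rc_12_2 lc_b_rc_14_2 lc_b_rc_11_2 lc_b_rc_16_2 lc_b_rc_11_2 lc_b_rc_12_2 lc_b_rc_11_2 lc_b_rc_16_2 lc_b_rc_12_2 lc_b_rc_11_2 lc_b_rc_11_2 lc_b_rc_1_3 lc_b_rc_13_2 lc_b_rc_11_2 lc_b_rc_10_2 lc_b_rc_12_2 lc_b_rc_11_2 lc_b_rc_14_2 lc_b_rc_12_2 lc_b_rc_13_2 lc_b_rc_11_0 lc_b_rc_11_2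 lc_b_rc_13_2) (@D3.rec (fun _ => (Cert rels S Gen.b)) lc_b_rc_11_2 lc_b_rc_12_2 lc_b_rc_11_2 lc_b_rc_16_2 lc_b_rc_10_2 lc_b_rc_12_2 lc_b_rc_11_2 lc_b_rc_13_2 lc_b_rc_11_2 lc_b_rc_12_2 lc_b_rc_12_2 lc_b_rc_11_2 lc_b_rc_14_2 lc_b_rc_12_2 lc_b_rc_13_2 lc_b_rc_13_2 lc_b_rc_16_2 lc_b_rc_12_2 lc_b_rc_11_2 lc_b_rc_14_2 lc_b_rc_12_2 lc_b_rc_13_2 lc_b_rc_15_2 lc_b_rc_14_2 lc_b_rc_13_2 lc_b_rc_10_2 lc_b_rc_13_2 lc_b_rc_16_2 lc_b_rc_10_2 lc_b_rc_12_2 lc_b_rc_11_2 lc_b_rc_10_2) (@D3.rec (fun _ => (Cert rels S Gen.b)) lc_b_rc_10_2 lc_b_rc_14_2 lc_b_rc_12_2 lc_b_rc_13_2 lc_b_rc_14_2 lc_b_rc_12_2 lc_b_rc_13_2 lc_b_rc_15_2 lc_b_rc_14_2 lc_b_rc_13_2 lc_b_rc_10_0 lc_b_rc_10_0 lc_b_rc_10_0 lc_b_rc_10_0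 lc_b_rc_10_0 lc_b_rc_11_2 lc_b_rc_14_2 lc_b_rc_13_2 lc_b_rc_12_2 lc_b_rc_11_2 lc_b_rc_14_2 lc_b_rc_11_2 lc_b_rc_16_2 lc_b_rc_1_3 lc_b_rc_1_3 lc_b_rc_1_3 lc_b_rc_1_3 lc_b_rc_10_2 lc_b_rc_10_2 lc_b_rc_10_2 lc_b_rc_10_2 lc_b_rc_10_2) (@D3.rec (fun _ => (Cert rels S Gen.b)) lc_b_rc_10_2 lc_b_rc_13_2 lc_b_rc_11_2 lc_b_rc_16_2 lc_b_rc_16_2 lc_b_rc_9_0 lc_b_rc_11_2 lc_b_rc_16_2 lc_b_Cert_tree lc_b_rc_11_2 lc_b_rc_12_2 lc_b_rc_15_2 lc_b_rc_14_2 lc_b_rc_11_2 lc_b_rc_16_2 lc_b_rc_11_2 lc_b_rc_12_2 lc_b_rc_12_2 lc_b_rc_15_2 lc_b_rc_11_2 lc_b_rc_16_2 lc_b_rc_12_2 lc_b_rc_11_2 lc_b_rc_10_0 lc_b_rc_1_3 lc_b_rc_13_2 lc_b_rc_1_3 lc_b_rc_1_3 lc_b_rc_11_2 lc_b_rc_13_2 lc_b_rc_10_2 lc_b_rc_10_2) (@D3.rec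 (fun _ => (Cert rels S Gen.b)) lc_b_rc_11_2 lc_b_rc_10_2 lc_b_rc_11_2 lc_b_rc_10_2 lc_b_rc_12_2 lc_b_rc_11_2 lc_b_rc_14_2 lc_b_rc_12_2 lc_b_rc_13_2 lc_b_rc_14_2 lc_b_rc_11_2 lc_b_rc_16_2 lc_b_Cert_tree lc_b_rc_11_2 lc_b_rc_11_2 lc_b_rc_16_2 lc_b_Cert_tree lc_b_rc_11_2 lc_b_rc_9_0 lc_b_rc_16_2 lc_b_rc_13_2 lc_b_rc_11_2 lc_b_rc_12_2 lc_b_rc_12_2 lc_b_rc_15_2 lc_b_rc_11_2 lc_b_rc_16_2 lc_b_rc_10_2 lc_b_rc_12_2 lc_b_rc_11_2 lc_b_rc_11_2 lc_b_rc_13_2) (@D3.rec (fun _ => (Cert rels S Gen.b)) lc_b_rc_14_2 lc_b_rc_12_2 lc_b_rc_11_2 lc_b_rc_12_2 lc_b_rc_11_2 lc_b_rc_16_2 lc_b_rc_12_2 lc_b_rc_11_2 lc_b_rc_14_2 lc_b_rc_12_2 lc_b_rc_13_2 lc_b_rc_10_0 lc_b_rc_11_2 lc_b_rc_1_3 lc_b_Cert_tree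 lc_b_rc_11_2 lc_b_rc_11_2 lc_b_rc_13_2 lc_b_rc_13_2 lc_b_rc_16_2 lc_b_rc_10_2 lc_b_rc_11_2 lc_b_rc_10_2 lc_b_Cert_tree lc_b_rc_12_2 lc_b_rc_11_2 lc_b_rc_12_2 lc_b_rc_11_2 lc_b_rc_14_2 lc_b_rc_12_2 lc_b_rc_13_2 lc_b_rc_15_2) (@D3.rec (fun _ => (Cert rels S Gen.b)) lc_b_rc_14_2 lc_b_rc_13_2 lc_b_rc_16_2 lc_b_Cert_tree lc_b_rc_11_2 lc_b_rc_9_0 lc_b_rc_16_2 lc_b_rc_9_0 lc_b_rc_16_2 lc_b_rc_1_3 lc_b_rc_16_2 lc_b_rc_10_2 lc_b_rc_11_2 lc_b_rc_13_2 lc_b_rc_14_2 lc_b_rc_12_2 lc_b_rc_11_2 lc_b_rc_11_2 lc_b_rc_10_2 lc_b_rc_12_2 lc_b_rc_11_2 lc_b_rc_10_2 lc_b_rc_11_2 lc_b_rc_13_2 lc_b_rc_13_2 lc_b_rc_16_2 lc_b_rc_11_2 lc_b_Cert_tree lc_b_rc_11_2 lc_b_rc_12_2 lc_b_rc_12_2 lc_b_Cert_tree) (@D3.rec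 (fun _ => (Cert rels S Gen.b)) lc_b_rc_9_0 lc_b_rc_12_2 lc_b_rc_13_2 lc_b_rc_13_2 lc_b_rc_16_2 lc_b_Cert_tree lc_b_rc_13_2 lc_b_rc_16_2 lc_b_rc_1_5 lc_b_rc_12_2 lc_b_rc_9_0 lc_b_rc_47_35 lc_b_rc_9_0 lc_b_rc_1_3 lc_b_rc_11_0 lc_b_rc_14_2 lc_b_rc_13_2 lc_b_rc_12_2 lc_b_rc_14_2 lc_b_rc_11_2 lc_b_rc_16_2 lc_b_rc_1_3 lc_b_rc_1_3 lc_b_rc_1_3 lc_b_rc_1_3 lc_b_rc_10_2 lc_b_rc_10_2 lc_b_rc_10_2 lc_b_rc_10_2 lc_b_rc_14_2 lc_b_rc_13_2 lc_b_rc_11_2)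
def ce_b_5 : D2 → D3 → (Cert rels S Gen.b) := @D2.rec (fun _ => D3 → (Cert rels S Gen.b)) (@D3.rec (fun _ => (Cert rels S Gen.b)) lc_b_rc_16_2 lc_b_rc_16_2 lc_b_rc_14_2 lc_b_rc_11_2 lc_b_rc_16_2 lc_b_Cert_tree lc_b_rc_11_2 lc_b_rc_12_2 lc_b_rc_15_2 lc_b_rc_14_2 lc_b_rc_11_2 lc_b_rc_16_2 lc_b_rc_11_2 lc_b_rc_12_2 lc_b_rc_12_2 lc_b_rc_15_2 lc_b_rc_11_2 lc_b_rc_16_2 lc_b_rc_12_2 lc_b_rc_11_2 lc_b_rc_15_2 lc_b_rc_11_2 lc_b_rc_16_2 lc_b_rc_16_2 lc_b_rc_13_2 lc_b_rc_10_2 lc_b_rc_11_2 lc_b_rc_10_2 lc_b_rc_10_2 lc_b_rc_12_2 lc_b_rc_11_2 lc_b_rc_14_2) (@D3.rec (fun _ => (Cert rels S Gen.b)) lc_b_rc_12_2 lc_b_rc_13_2 lc_b_rc_11_2 lc_b_rc_16_2 lc_b_Cert_tree lc_b_rc_11_2 lc_b_rc_11_2 lc_b_rc_9_0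 lc_b_rc_16_2 lc_b_rc_13_2 lc_b_rc_11_2 lc_b_rc_12_2 lc_b_rc_12_2 lc_b_rc_15_2 lc_b_rc_11_2 lc_b_rc_16_2 lc_b_rc_10_2 lc_b_rc_12_2 lc_b_rc_11_2 lc_b_rc_11_2 lc_b_rc_13_2 lc_b_rc_14_2 lc_b_rc_12_2 lc_b_rc_11_2 lc_b_rc_12_2 lc_b_rc_11_2 lc_b_rc_16_2 lc_b_rc_12_2 lc_b_rc_11_2 lc_b_rc_14_2 lc_b_rc_12_2 lc_b_rc_13_2) (@D3.rec (fun _ => (Cert rels S Gen.b)) lc_b_rc_1_3 lc_b_rc_10_0 lc_b_rc_10_0 lc_b_Cert_tree lc_b_rc_11_2 lc_b_rc_11_2 lc_b_rc_13_2 lc_b_rc_13_2 lc_b_rc_16_2 lc_b_rc_10_2 lc_b_rc_11_2 lc_b_rc_10_2 lc_b_Cert_tree lc_b_rc_12_2 lc_b_rc_11_2 lc_b_rc_12_2 lc_b_rc_11_2 lc_b_rc_14_2 lc_b_rc_12_2 lc_b_rc_13_2 lc_b_rc_15_2 lc_b_rc_14_2 lc_b_rc_13_2 lc_b_rc_16_2 lc_b_rc_11_0 lc_b_rc_11_2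 lc_b_rc_9_0 lc_b_rc_16_2 lc_b_rc_13_2 lc_b_rc_13_2 lc_b_rc_10_0 lc_b_rc_16_2) (@D3.rec (fun _ => (Cert rels S Gen.b)) lc_b_rc_13_2 lc_b_rc_11_2 lc_b_rc_12_2 lc_b_rc_12_2 lc_b_rc_15_2 lc_b_rc_11_2 lc_b_rc_16_2 lc_b_rc_10_2 lc_b_rc_12_2 lc_b_rc_11_2 lc_b_rc_11_2 lc_b_rc_13_2 lc_b_rc_12_2 lc_b_rc_11_2 lc_b_rc_12_2 lc_b_rc_11_2 lc_b_rc_16_2 lc_b_rc_12_2 lc_b_rc_11_2 lc_b_rc_14_2 lc_b_rc_12_2 lc_b_rc_13_2 lc_b_rc_1_3 lc_b_Cert_tree lc_b_rc_11_2 lc_b_rc_13_2 lc_b_rc_16_2 lc_b_rc_11_2 lc_b_rc_10_2 lc_b_rc_10_4 lc_b_rc_12_2 lc_b_rc_11_2) (@D3.rec (fun _ => (Cert rels S Gen.b)) lc_b_rc_16_2 lc_b_rc_13_2 lc_b_rc_12_2 lc_b_rc_13_2 lc_b_rc_9_1 lc_b_rc_14_2 lc_b_rc_13_2 lc_b_rc_11_0 lc_b_rc_10_2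 lc_b_rc_11_2 lc_b_rc_13_2 lc_b_rc_14_2 lc_b_rc_12_2 lc_b_rc_11_2 lc_b_rc_12_2 lc_b_rc_11_2 lc_b_rc_16_2 lc_b_rc_10_2 lc_b_rc_12_2 lc_b_rc_11_2 lc_b_rc_10_2 lc_b_rc_10_2 lc_b_rc_14_2 lc_b_rc_12_2 lc_b_rc_13_2 lc_b_rc_11_2 lc_b_rc_13_2 lc_b_rc_13_2 lc_b_rc_16_2 lc_b_rc_11_2 lc_b_rc_12_2 lc_b_Cert_tree) (@D3.rec (fun _ => (Cert rels S Gen.b)) lc_b_rc_11_2 lc_b_rc_11_2 lc_b_rc_12_2 lc_b_rc_11_2 lc_b_rc_14_2 lc_b_rc_12_2 lc_b_rc_13_2 lc_b_rc_15_2 lc_b_rc_14_2 lc_b_rc_13_2 lc_b_rc_9_0 lc_b_rc_16_2 lc_b_rc_12_2 lc_b_rc_13_2 lc_b_rc_13_2 lc_b_rc_16_2 lc_b_Cert_tree lc_b_rc_13_2 lc_b_rc_16_2 lc_b_rc_12_2 lc_b_rc_11_2 lc_b_rc_9_0 lc_b_rc_12_2 lc_b_rc_16_2 lc_b_rc_14_2 lc_b_rc_12_2 lc_b_rc_13_2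 lc_b_rc_14_2 lc_b_rc_12_2 lc_b_rc_13_2 lc_b_rc_15_2 lc_b_rc_14_2) (@D3.rec (fun _ => (Cert rels S Gen.b)) lc_b_rc_13_2 lc_b_rc_15_2 lc_b_rc_14_2 lc_b_rc_11_2 lc_b_rc_1_3 lc_b_rc_16_2 lc_b_rc_10_0 lc_b_rc_10_2 lc_b_rc_11_2 lc_b_rc_13_2 lc_b_rc_11_2 lc_b_rc_10_2 lc_b_rc_12_2 lc_b_rc_10_2 lc_b_rc_13_2 lc_b_rc_13_2 lc_b_rc_16_2 lc_b_rc_11_2 lc_b_rc_16_2 lc_b_rc_13_2 lc_b_rc_16_2 lc_b_rc_10_2 lc_b_rc_10_2 lc_b_rc_13_2 lc_b_rc_13_2 lc_b_rc_16_2 lc_b_Cert_tree lc_b_rc_16_2 lc_b_Cert_tree lc_b_rc_16_2 lc_b_rc_9_0 lc_b_rc_1_3) (@D3.rec (fun _ => (Cert rels S Gen.b)) lc_b_rc_9_0 lc_b_rc_16_2 lc_b_rc_1_3 lc_b_Cert_tree lc_b_rc_11_2 lc_b_rc_11_2 lc_b_rc_10_2 lc_b_rc_12_2 lc_b_rc_11_2 lc_b_rc_10_2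 lc_b_rc_10_2 lc_b_rc_14_2 lc_b_rc_12_2 lc_b_rc_13_2 lc_b_rc_11_2 lc_b_rc_10_2 lc_b_rc_10_2 lc_b_rc_10_2 lc_b_rc_15_2 lc_b_rc_14_2 lc_b_rc_13_2 lc_b_rc_9_0 lc_b_rc_12_2 lc_b_rc_16_2 lc_b_rc_11_2 lc_b_rc_11_2 lc_b_rc_13_2 lc_b_rc_14_2 lc_b_rc_12_2 lc_b_rc_13_2 lc_b_rc_15_2 lc_b_rc_14_2) (@D3.rec (fun _ => (Cert rels S Gen.b)) lc_b_rc_13_2 lc_b_rc_15_2 lc_b_rc_13_2 lc_b_rc_11_2 lc_b_rc_1_3 lc_b_rc_16_2 lc_b_rc_1_3 lc_b_rc_12_2 lc_b_rc_16_2 lc_b_rc_14_2 lc_b_rc_16_2 lc_b_rc_13_2 lc_b_rc_11_2 lc_b_rc_11_2 lc_b_rc_13_2 lc_b_rc_10_0 lc_b_rc_10_0 lc_b_rc_13_2 lc_b_rc_10_0 lc_b_rc_10_0 lc_b_rc_11_2 lc_b_rc_10_0 lc_b_rc_11_2 lc_b_rc_47_7 lc_b_rc_1_3 lc_b_rc_11_2 lc_b_rc_12_2 lc_b_rc_11_2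 lc_b_rc_11_2 lc_b_rc_10_2 lc_b_rc_12_2 lc_b_rc_11_2) (@D3.rec (fun _ => (Cert rels S Gen.b)) lc_b_rc_14_2 lc_b_rc_12_2 lc_b_rc_13_2 lc_b_rc_13_2 lc_b_rc_10_2 lc_b_rc_11_2 lc_b_rc_13_2 lc_b_rc_11_2 lc_b_rc_11_2 lc_b_rc_10_2 lc_b_rc_12_2 lc_b_rc_11_2 lc_b_rc_10_2 lc_b_rc_10_2 lc_b_rc_14_2 lc_b_rc_12_2 lc_b_rc_13_2 lc_b_rc_13_2 lc_b_rc_13_2 lc_b_rc_16_2 lc_b_rc_11_2 lc_b_rc_12_2 lc_b_rc_14_2 lc_b_rc_12_2 lc_b_rc_13_2 lc_b_rc_15_2 lc_b_rc_14_2 lc_b_rc_13_2 lc_b_rc_13_2 lc_b_rc_14_2 lc_b_rc_14_2 lc_b_rc_15_2) (@D3.rec (fun _ => (Cert rels S Gen.b)) lc_b_rc_14_2 lc_b_rc_13_2 lc_b_rc_15_2 lc_b_rc_14_2 lc_b_rc_11_2 lc_b_rc_10_2 lc_b_rc_13_2 lc_b_rc_10_2 lc_b_rc_12_2 lc_b_rc_10_2 lc_b_rc_10_2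 lc_b_rc_14_2 lc_b_rc_12_2 lc_b_rc_13_2 lc_b_rc_16_2 lc_b_rc_14_2 lc_b_rc_15_2 lc_b_rc_14_2 lc_b_rc_13_2 lc_b_rc_9_1 lc_b_rc_47_21 lc_b_rc_11_2 lc_b_rc_10_2 lc_b_rc_10_2 lc_b_rc_13_2 lc_b_rc_13_2 lc_b_rc_16_2 lc_b_rc_10_2 lc_b_rc_11_2 lc_b_rc_10_2 lc_b_rc_12_2 lc_b_rc_10_2) (@D3.rec (fun _ => (Cert rels S Gen.b)) lc_b_rc_10_2 lc_b_rc_14_2 lc_b_rc_12_2 lc_b_rc_13_2 lc_b_rc_11_2 lc_b_rc_10_2 lc_b_rc_10_2 lc_b_rc_10_2 lc_b_rc_15_2 lc_b_rc_14_2 lc_b_rc_13_2 lc_b_rc_16_2 lc_b_rc_13_2 lc_b_rc_16_2 lc_b_rc_11_2 lc_b_rc_14_2 lc_b_rc_15_2 lc_b_rc_14_2 lc_b_rc_13_2 lc_b_rc_15_2 lc_b_rc_13_2 lc_b_rc_11_2 lc_b_rc_14_2 lc_b_rc_13_2 lc_b_rc_15_2 lc_b_rc_15_2 lc_b_rc_15_2 lc_b_rc_14_2 lc_b_rc_47_28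 lc_b_rc_15_2 lc_b_rc_11_2 lc_b_rc_47_35) (@D3.rec (fun _ => (Cert rels S Gen.b)) lc_b_rc_13_0 lc_b_rc_10_2 lc_b_rc_13_2 lc_b_rc_13_2 lc_b_rc_16_2 lc_b_rc_10_2 lc_b_rc_11_2 lc_b_rc_10_2 lc_b_rc_12_2 lc_b_rc_10_2 lc_b_rc_14_2 lc_b_rc_11_2 lc_b_rc_10_2 lc_b_rc_16_2 lc_b_rc_13_2 lc_b_rc_16_2 lc_b_rc_10_2 lc_b_rc_14_2 lc_b_rc_16_2 lc_b_rc_46_43 lc_b_rc_10_2 lc_b_rc_11_2 lc_b_rc_10_2 lc_b_rc_12_2 lc_b_rc_13_2 lc_b_rc_16_2 lc_b_rc_13_2 lc_b_rc_16_2 lc_b_rc_16_2 lc_b_rc_10_2 lc_b_rc_10_2 lc_b_rc_14_2) (@D3.rec (fun _ => (Cert rels S Gen.b)) lc_b_rc_12_2 lc_b_rc_13_2 lc_b_rc_11_2 lc_b_rc_10_2 lc_b_rc_10_2 lc_b_rc_10_2 lc_b_rc_15_2 lc_b_rc_14_2 lc_b_rc_13_2 lc_b_rc_11_2 lc_b_rc_13_2 lc_b_rc_11_2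 lc_b_rc_10_2 lc_b_rc_10_2 lc_b_rc_10_2 lc_b_rc_11_2 lc_b_rc_15_2 lc_b_rc_13_2 lc_b_rc_11_2 lc_b_rc_15_2 lc_b_rc_14_2 lc_b_rc_13_2 lc_b_rc_15_2 lc_b_rc_13_2 lc_b_rc_11_2 lc_b_rc_13_2 lc_b_rc_11_2 lc_b_Cert_tree lc_b_rc_14_2 lc_b_rc_14_2 lc_b_rc_15_2 lc_b_rc_10_0) (@D3.rec (fun _ => (Cert rels S Gen.b)) lc_b_rc_11_2 lc_b_rc_46_29 lc_b_rc_12_2 lc_b_rc_11_2 lc_b_rc_13_2 lc_b_rc_11_2 lc_b_rc_16_2 lc_b_rc_13_2 lc_b_rc_10_2 lc_b_rc_10_2 lc_b_rc_11_2 lc_b_rc_12_2 lc_b_rc_13_2 lc_b_rc_11_2 lc_b_rc_10_4 lc_b_rc_9_0 lc_b_rc_10_2 lc_b_rc_12_2 lc_b_rc_10_2 lc_b_rc_11_2 lc_b_rc_12_2 lc_b_rc_11_2 lc_b_rc_16_2 lc_b_rc_10_2 lc_b_rc_12_2 lc_b_rc_11_2 lc_b_rc_13_2 lc_b_rc_11_2 lc_b_rc_12_2 lc_b_rc_12_2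 lc_b_rc_11_2 lc_b_rc_14_2) (@D3.rec (fun _ => (Cert rels S Gen.b)) lc_b_rc_12_2 lc_b_rc_13_2 lc_b_Cert_tree lc_b_rc_11_2 lc_b_rc_13_2 lc_b_rc_16_2 lc_b_rc_47_42 lc_b_rc_12_2 lc_b_rc_11_2 lc_b_rc_14_2 lc_b_rc_12_2 lc_b_rc_13_2 lc_b_rc_15_2 lc_b_rc_14_2 lc_b_rc_13_2 lc_b_rc_16_2 lc_b_rc_13_2 lc_b_rc_10_2 lc_b_rc_13_2 lc_b_rc_11_2 lc_b_rc_12_2 lc_b_rc_10_2 lc_b_rc_12_2 lc_b_rc_11_2 lc_b_rc_10_2 lc_b_rc_10_2 lc_b_rc_14_2 lc_b_rc_12_2 lc_b_rc_13_2 lc_b_rc_13_2 lc_b_rc_16_2 lc_b_rc_11_2) (@D3.rec (fun _ => (Cert rels S Gen.b)) lc_b_rc_11_2 lc_b_rc_14_2 lc_b_rc_12_2 lc_b_rc_13_2 lc_b_rc_15_2 lc_b_rc_14_2 lc_b_rc_13_2 lc_b_rc_13_2 lc_b_rc_16_2 lc_b_rc_14_2 lc_b_rc_12_2 lc_b_rc_13_2 lc_b_rc_15_2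 lc_b_rc_14_2 lc_b_rc_13_2 lc_b_rc_15_2 lc_b_rc_14_2 lc_b_rc_11_2 lc_b_rc_10_2 lc_b_rc_16_2 lc_b_rc_10_2 lc_b_rc_10_2 lc_b_rc_14_2 lc_b_rc_12_2 lc_b_rc_13_2 lc_b_rc_11_2 lc_b_rc_10_2 lc_b_rc_10_2 lc_b_rc_10_2 lc_b_rc_15_2 lc_b_rc_14_2 lc_b_rc_13_2) (@D3.rec (fun _ => (Cert rels S Gen.b)) lc_b_rc_15_2 lc_b_rc_14_2 lc_b_rc_13_2 lc_b_rc_15_2 lc_b_rc_13_2 lc_b_rc_11_2 lc_b_rc_10_0 lc_b_rc_10_0 lc_b_rc_11_2 lc_b_rc_10_0 lc_b_rc_11_2 lc_b_Cert_tree lc_b_rc_12_2 lc_b_rc_14_2 lc_b_rc_11_2 lc_b_rc_16_2 lc_b_rc_12_2 lc_b_rc_10_2 lc_b_rc_11_2 lc_b_rc_16_2 lc_b_rc_12_2 lc_b_rc_11_2 lc_b_rc_1_3 lc_b_rc_12_2 lc_b_rc_1_3 lc_b_rc_1_3 lc_b_rc_10_2 lc_b_rc_10_2 lc_b_rc_10_2 lc_b_rc_10_2 lc_b_rc_10_2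 lc_b_rc_10_2) (@D3.rec (fun _ => (Cert rels S Gen.b)) lc_b_rc_10_2 lc_b_rc_10_2 lc_b_rc_11_2 lc_b_rc_16_2 lc_b_Cert_tree lc_b_rc_11_2 lc_b_rc_9_0 lc_b_rc_9_0 lc_b_Cert_tree lc_b_rc_11_2 lc_b_rc_9_0 lc_b_rc_16_2 lc_b_rc_13_2 lc_b_rc_11_2 lc_b_rc_12_2 lc_b_rc_12_2 lc_b_rc_15_2 lc_b_rc_11_2 lc_b_rc_16_2 lc_b_rc_10_2 lc_b_rc_12_2 lc_b_rc_11_2 lc_b_rc_11_2 lc_b_rc_13_2 lc_b_rc_14_2 lc_b_rc_12_2 lc_b_rc_11_2 lc_b_rc_12_2 lc_b_rc_11_2 lc_b_rc_16_2 lc_b_rc_12_2 lc_b_rc_11_2) (@D3.rec (fun _ => (Cert rels S Gen.b)) lc_b_rc_14_2 lc_b_rc_12_2 lc_b_rc_13_2 lc_b_rc_12_2 lc_b_rc_15_2 lc_b_rc_16_2 lc_b_Cert_tree lc_b_rc_16_2 lc_b_rc_11_2 lc_b_rc_13_2 lc_b_rc_13_2 lc_b_rc_16_2 lc_b_rc_10_2 lc_b_rc_11_2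 lc_b_rc_10_2 lc_b_Cert_tree lc_b_rc_12_2 lc_b_rc_11_2 lc_b_rc_12_2 lc_b_rc_11_2 lc_b_rc_14_2 lc_b_rc_12_2 lc_b_rc_13_2 lc_b_rc_15_2 lc_b_rc_14_2 lc_b_rc_13_2 lc_b_rc_11_2 lc_b_rc_16_2 lc_b_Cert_tree lc_b_rc_11_2 lc_b_rc_9_0 lc_b_rc_16_2) (@D3.rec (fun _ => (Cert rels S Gen.b)) lc_b_rc_13_2 lc_b_rc_12_2 lc_b_rc_11_2 lc_b_rc_9_0 lc_b_rc_16_2 lc_b_rc_13_2 lc_b_rc_1_3 lc_b_rc_16_2 lc_b_rc_13_2 lc_b_rc_10_2 lc_b_rc_11_2 lc_b_rc_13_2 lc_b_rc_14_2 lc_b_rc_12_2 lc_b_rc_11_2 lc_b_rc_12_2 lc_b_rc_11_2 lc_b_rc_16_2 lc_b_rc_10_2 lc_b_rc_12_2 lc_b_rc_11_2 lc_b_rc_10_2 lc_b_rc_10_2 lc_b_rc_14_2 lc_b_rc_12_2 lc_b_rc_13_2 lc_b_rc_11_2 lc_b_rc_13_2 lc_b_rc_13_2 lc_b_rc_16_2 lc_b_rc_14_2 lc_b_rc_11_2)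 (@D3.rec (fun _ => (Cert rels S Gen.b)) lc_b_rc_12_2 lc_b_Cert_tree lc_b_rc_11_2 lc_b_rc_11_2 lc_b_rc_12_2 lc_b_rc_11_2 lc_b_rc_14_2 lc_b_rc_12_2 lc_b_rc_13_2 lc_b_rc_15_2 lc_b_rc_14_2 lc_b_rc_13_2 lc_b_rc_11_2 lc_b_Cert_tree lc_b_rc_10_0 lc_b_rc_9_0 lc_b_rc_16_2 lc_b_rc_47_42 lc_b_rc_13_2 lc_b_rc_13_2 lc_b_rc_16_2 lc_b_Cert_tree lc_b_rc_13_2 lc_b_rc_16_2 lc_b_rc_11_2 lc_b_rc_10_2 lc_b_Cert_tree lc_b_rc_12_2 lc_b_rc_11_2 lc_b_rc_9_0 lc_b_rc_12_2 lc_b_rc_16_2)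
def ce_b_6 : D2 → D3 → (Cert rels S Gen.b) := @D2.rec (fun _ => D3 → (Cert rels S Gen.b)) (@D3.rec (fun _ => (Cert rels S Gen.b)) lc_b_rc_14_2 lc_b_rc_12_2 lc_b_rc_13_2 lc_b_rc_45_65 lc_b_rc_12_2 lc_b_rc_13_2 lc_b_rc_15_2 lc_b_rc_14_2 lc_b_rc_13_2 lc_b_rc_15_2 lc_b_rc_14_2 lc_b_rc_11_2 lc_b_rc_9_0 lc_b_rc_16_2 lc_b_rc_1_3 lc_b_rc_16_2 lc_b_rc_10_0 lc_b_rc_16_2 lc_b_rc_10_0 lc_b_rc_10_2 lc_b_rc_10_2 lc_b_rc_11_2 lc_b_rc_13_2 lc_b_rc_13_2 lc_b_rc_16_2 lc_b_rc_11_2 lc_b_Cert_tree lc_b_rc_11_2 lc_b_rc_10_2 lc_b_rc_12_2 lc_b_rc_10_2 lc_b_rc_10_2) (@D3.rec (fun _ => (Cert rels S Gen.b)) lc_b_rc_12_2 lc_b_rc_12_2 lc_b_rc_13_2 lc_b_rc_13_2 lc_b_rc_16_2 lc_b_Cert_tree lc_b_rc_13_2 lc_b_rc_16_2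 lc_b_Cert_tree lc_b_rc_11_2 lc_b_rc_9_0 lc_b_rc_12_2 lc_b_rc_9_0 lc_b_rc_1_3 lc_b_rc_13_2 lc_b_rc_16_2 lc_b_rc_13_2 lc_b_rc_13_2 lc_b_rc_16_2 lc_b_rc_9_0 lc_b_rc_47_35 lc_b_rc_16_2 lc_b_rc_16_2 lc_b_rc_1_3 lc_b_rc_1_3 lc_b_rc_12_2 lc_b_rc_14_2 lc_b_rc_11_2 lc_b_rc_16_2 lc_b_rc_12_2 lc_b_rc_16_2 lc_b_rc_12_2) (@D3.rec (fun _ => (Cert rels S Gen.b)) lc_b_rc_11_2 lc_b_rc_1_3 lc_b_rc_13_0 lc_b_rc_1_3 lc_b_rc_1_3 lc_b_rc_10_2 lc_b_rc_10_2 lc_b_rc_14_2 lc_b_rc_11_2 lc_b_rc_16_2 lc_b_Cert_tree lc_b_rc_11_2 lc_b_rc_11_2 lc_b_rc_16_2 lc_b_rc_11_2 lc_b_rc_9_0 lc_b_rc_16_2 lc_b_rc_13_2 lc_b_rc_11_2 lc_b_rc_12_2 lc_b_rc_12_2 lc_b_rc_15_2 lc_b_rc_11_2 lc_b_rc_16_2 lc_b_rc_10_2 lc_b_rc_12_2 lc_b_rc_11_2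 lc_b_rc_13_2 lc_b_rc_12_2 lc_b_rc_11_2 lc_b_rc_12_2 lc_b_rc_16_2) (@D3.rec (fun _ => (Cert rels S Gen.b)) lc_b_rc_12_2 lc_b_rc_11_2 lc_b_rc_14_2 lc_b_rc_12_2 lc_b_rc_13_2 lc_b_rc_15_2 lc_b_rc_1_3 lc_b_Cert_tree lc_b_rc_16_2 lc_b_rc_13_2 lc_b_rc_16_2 lc_b_rc_11_2 lc_b_rc_10_2 lc_b_Cert_tree lc_b_rc_12_2 lc_b_rc_11_2 lc_b_rc_12_2 lc_b_rc_14_2 lc_b_rc_13_2 lc_b_rc_14_0 lc_b_rc_11_2 lc_b_rc_9_0 lc_b_rc_16_2 lc_b_rc_13_2 lc_b_rc_13_2 lc_b_rc_1_3 lc_b_rc_16_2 lc_b_rc_13_2 lc_b_rc_10_2 lc_b_rc_11_2 lc_b_rc_13_2 lc_b_rc_14_2) (@D3.rec (fun _ => (Cert rels S Gen.b)) lc_b_rc_12_2 lc_b_rc_11_2 lc_b_rc_12_2 lc_b_rc_11_2 lc_b_rc_16_2 lc_b_rc_10_2 lc_b_rc_12_2 lc_b_rc_11_2 lc_b_rc_10_2 lc_b_rc_10_2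 lc_b_rc_14_2 lc_b_rc_12_2 lc_b_rc_13_2 lc_b_rc_11_2 lc_b_rc_13_2 lc_b_rc_13_2 lc_b_rc_16_2 lc_b_rc_14_2 lc_b_rc_11_2 lc_b_rc_12_2 lc_b_Cert_tree lc_b_rc_11_2 lc_b_rc_11_2 lc_b_rc_12_2 lc_b_rc_11_2 lc_b_rc_14_2 lc_b_rc_12_2 lc_b_rc_13_2 lc_b_rc_15_2 lc_b_rc_14_2 lc_b_rc_13_2 lc_b_rc_11_0) (@D3.rec (fun _ => (Cert rels S Gen.b)) lc_b_Cert_tree lc_b_rc_10_0 lc_b_rc_9_0 lc_b_rc_16_2 lc_b_rc_13_2 lc_b_rc_13_2 lc_b_rc_13_2 lc_b_rc_16_2 lc_b_Cert_tree lc_b_rc_13_2 lc_b_rc_16_2 lc_b_rc_10_2 lc_b_rc_11_0 lc_b_rc_9_0 lc_b_rc_12_2 lc_b_rc_11_2 lc_b_rc_9_0 lc_b_rc_12_2 lc_b_rc_16_2 lc_b_rc_14_2 lc_b_rc_12_2 lc_b_rc_13_2 lc_b_rc_14_2 lc_b_rc_12_2 lc_b_rc_15_2 lc_b_rc_14_2 lc_b_rc_13_2 lc_b_rc_15_2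 lc_b_rc_14_2 lc_b_rc_11_2 lc_b_rc_16_2 lc_b_rc_13_2) (@D3.rec (fun _ => (Cert rels S Gen.b)) lc_b_rc_1_3 lc_b_rc_16_2 lc_b_rc_13_2 lc_b_rc_10_0 lc_b_rc_13_2 lc_b_rc_10_2 lc_b_rc_11_2 lc_b_rc_13_2 lc_b_rc_12_2 lc_b_rc_11_2 lc_b_rc_12_2 lc_b_rc_11_2 lc_b_rc_16_2 lc_b_rc_10_2 lc_b_rc_12_2 lc_b_rc_11_2 lc_b_rc_10_2 lc_b_rc_10_2 lc_b_rc_14_2 lc_b_rc_12_2 lc_b_rc_13_2 lc_b_rc_13_2 lc_b_rc_16_2 lc_b_rc_11_2 lc_b_rc_12_2 lc_b_Cert_tree lc_b_rc_11_2 lc_b_rc_11_2 lc_b_rc_11_2 lc_b_rc_14_2 lc_b_rc_12_2 lc_b_rc_13_2) (@D3.rec (fun _ => (Cert rels S Gen.b)) lc_b_rc_15_2 lc_b_rc_14_2 lc_b_rc_13_2 lc_b_rc_9_0 lc_b_rc_16_2 lc_b_rc_10_4 lc_b_rc_16_2 lc_b_rc_11_2 lc_b_rc_12_2 lc_b_rc_10_4 lc_b_rc_12_2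 lc_b_rc_12_2 lc_b_rc_13_2 lc_b_rc_16_2 lc_b_rc_16_2 lc_b_rc_14_2 lc_b_rc_11_2 lc_b_rc_10_2 lc_b_rc_10_2 lc_b_rc_11_2 lc_b_rc_13_2 lc_b_rc_13_2 lc_b_rc_16_2 lc_b_rc_11_2 lc_b_rc_12_2 lc_b_Cert_tree lc_b_rc_11_2 lc_b_rc_11_2 lc_b_rc_10_2 lc_b_rc_12_2 lc_b_rc_11_2 lc_b_rc_10_2) (@D3.rec (fun _ => (Cert rels S Gen.b)) lc_b_rc_10_2 lc_b_rc_14_2 lc_b_rc_12_2 lc_b_rc_13_2 lc_b_rc_11_2 lc_b_rc_10_2 lc_b_rc_10_2 lc_b_rc_10_2 lc_b_rc_15_2 lc_b_rc_14_2 lc_b_rc_13_2 lc_b_rc_12_2 lc_b_rc_13_2 lc_b_rc_13_2 lc_b_rc_16_2 lc_b_Cert_tree lc_b_rc_13_2 lc_b_rc_16_2 lc_b_rc_11_2 lc_b_rc_11_2 lc_b_rc_9_0 lc_b_rc_12_2 lc_b_rc_16_2 lc_b_rc_11_2 lc_b_rc_11_2 lc_b_rc_13_2 lc_b_rc_14_2 lc_b_rc_12_2 lc_b_rc_13_2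 lc_b_rc_15_2 lc_b_rc_14_2 lc_b_rc_13_2) (@D3.rec (fun _ => (Cert rels S Gen.b)) lc_b_rc_15_2 lc_b_rc_13_2 lc_b_rc_11_2 lc_b_rc_1_3 lc_b_rc_16_2 lc_b_rc_9_0 lc_b_rc_16_2 lc_b_rc_46_36 lc_b_rc_16_2 lc_b_rc_9_0 lc_b_rc_12_2 lc_b_rc_16_2 lc_b_rc_14_2 lc_b_rc_16_2 lc_b_rc_16_2 lc_b_rc_14_2 lc_b_rc_12_2 lc_b_rc_13_2 lc_b_rc_1_3 lc_b_rc_12_2 lc_b_rc_16_2 lc_b_rc_14_2 lc_b_rc_16_2 lc_b_rc_13_2 lc_b_rc_15_2 lc_b_rc_14_2 lc_b_rc_13_2 lc_b_rc_15_2 lc_b_rc_14_2 lc_b_rc_11_0 lc_b_rc_15_2 lc_b_rc_14_2) (@D3.rec (fun _ => (Cert rels S Gen.b)) lc_b_rc_11_2 lc_b_rc_15_2 lc_b_rc_11_2 lc_b_rc_10_4 lc_b_rc_1_3 lc_b_rc_10_2 lc_b_rc_10_2 lc_b_rc_13_2 lc_b_rc_13_2 lc_b_rc_16_2 lc_b_rc_13_0 lc_b_rc_11_2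 lc_b_rc_10_2 lc_b_rc_16_2 lc_b_rc_13_2 lc_b_rc_16_2 lc_b_rc_16_2 lc_b_rc_10_2 lc_b_rc_11_2 lc_b_rc_10_2 lc_b_rc_16_2 lc_b_Cert_tree lc_b_rc_16_2 lc_b_rc_9_0 lc_b_rc_9_0 lc_b_rc_16_2 lc_b_rc_1_3 lc_b_rc_1_3 lc_b_rc_16_2 lc_b_rc_9_0 lc_b_rc_12_2 lc_b_rc_16_2) (@D3.rec (fun _ => (Cert rels S Gen.b)) lc_b_rc_11_2 lc_b_rc_11_2 lc_b_rc_13_2 lc_b_rc_10_2 lc_b_rc_10_2 lc_b_rc_14_2 lc_b_rc_12_2 lc_b_rc_13_2 lc_b_rc_11_2 lc_b_rc_10_2 lc_b_rc_10_2 lc_b_rc_10_2 lc_b_rc_15_2 lc_b_rc_14_2 lc_b_rc_13_2 lc_b_rc_11_2 lc_b_rc_13_2 lc_b_rc_11_2 lc_b_rc_10_2 lc_b_rc_10_2 lc_b_rc_10_2 lc_b_rc_11_2 lc_b_rc_15_2 lc_b_rc_13_2 lc_b_rc_11_2 lc_b_rc_1_3 lc_b_rc_12_2 lc_b_rc_16_2 lc_b_rc_14_2 lc_b_rc_16_2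 lc_b_rc_13_2 lc_b_rc_11_2) (@D3.rec (fun _ => (Cert rels S Gen.b)) lc_b_rc_11_2 lc_b_rc_13_2 lc_b_rc_15_2 lc_b_rc_14_2 lc_b_rc_13_2 lc_b_rc_15_2 lc_b_rc_13_2 lc_b_rc_11_2 lc_b_rc_13_2 lc_b_rc_11_2 lc_b_Cert_tree lc_b_rc_1_3 lc_b_rc_1_3 lc_b_rc_1_3 lc_b_rc_14_2 lc_b_rc_16_2 lc_b_rc_13_2 lc_b_rc_15_2 lc_b_rc_16_2 lc_b_rc_13_2 lc_b_rc_11_2 lc_b_rc_13_2 lc_b_rc_13_2 lc_b_rc_10_0 lc_b_rc_13_2 lc_b_rc_15_2 lc_b_rc_10_0 lc_b_rc_11_2 lc_b_rc_13_0 lc_b_rc_10_2 lc_b_rc_12_2 lc_b_rc_10_2) (@D3.rec (fun _ => (Cert rels S Gen.b)) lc_b_rc_13_0 lc_b_rc_10_2 lc_b_rc_47_49 lc_b_rc_14_2 lc_b_rc_12_2 lc_b_rc_13_2 lc_b_rc_13_2 lc_b_rc_11_2 lc_b_rc_10_2 lc_b_rc_10_2 lc_b_rc_13_2 lc_b_rc_13_2 lc_b_rc_16_2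 lc_b_rc_10_2 lc_b_rc_11_2 lc_b_rc_10_2 lc_b_rc_12_2 lc_b_rc_10_2 lc_b_rc_10_2 lc_b_rc_14_2 lc_b_rc_12_2 lc_b_rc_13_2 lc_b_rc_11_2 lc_b_rc_10_2 lc_b_rc_10_2 lc_b_rc_10_2 lc_b_rc_15_2 lc_b_rc_14_2 lc_b_rc_13_2 lc_b_rc_13_2 lc_b_rc_11_2 lc_b_rc_14_2) (@D3.rec (fun _ => (Cert rels S Gen.b)) lc_b_rc_15_2 lc_b_rc_14_2 lc_b_rc_13_2 lc_b_rc_15_2 lc_b_rc_13_2 lc_b_rc_11_2 lc_b_rc_14_2 lc_b_rc_15_2 lc_b_rc_15_2 lc_b_rc_15_2 lc_b_rc_14_2 lc_b_rc_15_2 lc_b_rc_11_2 lc_b_rc_10_4 lc_b_rc_10_2 lc_b_rc_16_2 lc_b_rc_10_2 lc_b_rc_14_2 lc_b_rc_11_2 lc_b_rc_10_2 lc_b_rc_10_2 lc_b_rc_10_2 lc_b_rc_15_2 lc_b_rc_14_2 lc_b_rc_13_2 lc_b_rc_15_2 lc_b_rc_13_2 lc_b_rc_11_2 lc_b_rc_1_5 lc_b_rc_47_49 lc_b_rc_47_35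 lc_b_rc_10_2) (@D3.rec (fun _ => (Cert rels S Gen.b)) lc_b_rc_11_2 lc_b_rc_10_2 lc_b_rc_16_2 lc_b_rc_10_2 lc_b_rc_13_2 lc_b_rc_16_2 lc_b_rc_10_2 lc_b_rc_11_2 lc_b_rc_10_2 lc_b_rc_14_2 lc_b_rc_11_2 lc_b_rc_10_2 lc_b_rc_10_2 lc_b_rc_10_2 lc_b_rc_15_2 lc_b_rc_14_2 lc_b_rc_13_2 lc_b_rc_11_2 lc_b_rc_13_2 lc_b_rc_11_2 lc_b_rc_10_2 lc_b_rc_10_2 lc_b_rc_10_2 lc_b_rc_11_2 lc_b_rc_15_2 lc_b_rc_13_2 lc_b_rc_11_2 lc_b_rc_13_2 lc_b_rc_16_2 lc_b_rc_11_2 lc_b_rc_15_2 lc_b_rc_15_2) (@D3.rec (fun _ => (Cert rels S Gen.b)) lc_b_rc_13_2 lc_b_rc_11_2 lc_b_rc_13_2 lc_b_rc_11_2 lc_b_Cert_tree lc_b_rc_15_2 lc_b_rc_12_2 lc_b_rc_15_2 lc_b_rc_46_29 lc_b_rc_10_4 lc_b_rc_12_0 lc_b_rc_11_2 lc_b_rc_10_2 lc_b_rc_16_2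 lc_b_rc_10_2 lc_b_rc_13_2 lc_b_rc_16_2 lc_b_rc_10_2 lc_b_rc_10_2 lc_b_rc_16_2 lc_b_rc_16_2 lc_b_rc_12_2 lc_b_rc_46_8 lc_b_rc_11_2 lc_b_rc_10_2 lc_b_rc_12_2 lc_b_rc_11_2 lc_b_rc_13_2 lc_b_rc_16_2 lc_b_rc_16_2 lc_b_rc_11_2 lc_b_rc_10_2) (@D3.rec (fun _ => (Cert rels S Gen.b)) lc_b_rc_1_1 lc_b_rc_10_2 lc_b_rc_15_2 lc_b_rc_14_2 lc_b_rc_13_2 lc_b_rc_11_2 lc_b_rc_13_2 lc_b_rc_11_2 lc_b_rc_10_2 lc_b_rc_10_2 lc_b_rc_10_2 lc_b_rc_11_2 lc_b_rc_15_2 lc_b_rc_13_2 lc_b_rc_11_2 lc_b_rc_12_2 lc_b_rc_11_2 lc_b_rc_13_2 lc_b_rc_11_2 lc_b_rc_16_2 lc_b_rc_13_2 lc_b_rc_10_2 lc_b_rc_10_2 lc_b_rc_11_2 lc_b_rc_12_2 lc_b_rc_13_2 lc_b_rc_11_2 lc_b_rc_11_0 lc_b_rc_15_2 lc_b_rc_13_2 lc_b_rc_11_2 lc_b_rc_13_2)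 (@D3.rec (fun _ => (Cert rels S Gen.b)) lc_b_rc_11_2 lc_b_Cert_tree lc_b_rc_9_0 lc_b_rc_14_2 lc_b_rc_11_2 lc_b_rc_1_5 lc_b_rc_12_2 lc_b_rc_11_2 lc_b_rc_16_2 lc_b_rc_13_2 lc_b_rc_16_2 lc_b_rc_10_2 lc_b_rc_10_2 lc_b_rc_10_2 lc_b_rc_13_2 lc_b_rc_11_2 lc_b_rc_12_2 lc_b_rc_10_2 lc_b_rc_12_2 lc_b_rc_11_2 lc_b_rc_10_2 lc_b_rc_10_2 lc_b_rc_14_2 lc_b_rc_12_2 lc_b_rc_13_2 lc_b_rc_13_2 lc_b_rc_16_2 lc_b_Cert_tree lc_b_rc_11_2 lc_b_rc_11_2 lc_b_rc_14_2 lc_b_rc_12_2) (@D3.rec (fun _ => (Cert rels S Gen.b)) lc_b_rc_13_2 lc_b_rc_15_2 lc_b_rc_14_2 lc_b_rc_13_2 lc_b_rc_9_0 lc_b_rc_16_2 lc_b_rc_13_2 lc_b_rc_13_2 lc_b_rc_13_2 lc_b_rc_16_2 lc_b_rc_12_2 lc_b_rc_16_2 lc_b_rc_14_2 lc_b_rc_12_2 lc_b_rc_13_2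 lc_b_rc_15_2 lc_b_rc_14_2 lc_b_rc_13_2 lc_b_rc_15_2 lc_b_rc_14_2 lc_b_rc_11_2 lc_b_rc_13_2 lc_b_rc_10_2 lc_b_rc_13_2 lc_b_rc_16_2 lc_b_rc_1_5 lc_b_rc_11_2 lc_b_rc_11_2 lc_b_rc_10_2 lc_b_rc_10_2 lc_b_rc_14_2 lc_b_rc_12_2) (@D3.rec (fun _ => (Cert rels S Gen.b)) lc_b_rc_13_2 lc_b_rc_11_2 lc_b_rc_10_2 lc_b_rc_10_2 lc_b_rc_10_2 lc_b_rc_15_2 lc_b_rc_14_2 lc_b_rc_13_2 lc_b_rc_13_2 lc_b_rc_16_2 lc_b_rc_11_2 lc_b_rc_11_2 lc_b_rc_13_2 lc_b_rc_15_2 lc_b_rc_14_2 lc_b_rc_13_2 lc_b_rc_15_2 lc_b_rc_13_2 lc_b_rc_11_2 lc_b_rc_12_2 lc_b_rc_16_2 lc_b_rc_16_2 lc_b_rc_10_2 lc_b_rc_14_2 lc_b_rc_13_2 lc_b_rc_15_2 lc_b_rc_14_2 lc_b_rc_11_2 lc_b_rc_15_2 lc_b_rc_11_2 lc_b_Cert_tree lc_b_rc_11_2) (@D3.rec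 (fun _ => (Cert rels S Gen.b)) lc_b_rc_10_2 lc_b_rc_11_2 lc_b_rc_10_2 lc_b_rc_10_2 lc_b_rc_10_2 lc_b_rc_15_2 lc_b_rc_14_2 lc_b_rc_13_2 lc_b_rc_11_2 lc_b_rc_13_2 lc_b_rc_11_2 lc_b_rc_10_2 lc_b_rc_10_2 lc_b_rc_10_2 lc_b_rc_11_2 lc_b_rc_15_2 lc_b_rc_13_2 lc_b_rc_11_2 lc_b_rc_15_2 lc_b_rc_13_2 lc_b_rc_11_2 lc_b_rc_13_2 lc_b_rc_11_2 lc_b_Cert_tree lc_b_rc_10_0 lc_b_rc_11_2 lc_b_Cert_tree lc_b_rc_11_2 lc_b_Cert_tree lc_b_rc_12_2 lc_b_rc_9_0 lc_b_rc_12_2)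
def ce_b_7 : D2 → D3 → (Cert rels S Gen.b) := @D2.rec (fun _ => D3 → (Cert rels S Gen.b)) (@D3.rec (fun _ => (Cert rels S Gen.b)) lc_b_rc_11_2 lc_b_rc_16_2 lc_b_rc_10_2 lc_b_rc_12_2 lc_b_rc_11_2 lc_b_rc_12_2 lc_b_rc_11_2 lc_b_rc_16_2 lc_b_rc_12_2 lc_b_rc_11_2 lc_b_rc_14_2 lc_b_rc_12_2 lc_b_rc_13_2 lc_b_rc_15_2 lc_b_rc_1_3 lc_b_Cert_tree lc_b_rc_16_2 lc_b_rc_10_2 lc_b_rc_10_2 lc_b_rc_10_2 lc_b_rc_10_2 lc_b_rc_10_2 lc_b_rc_10_2 lc_b_rc_10_2 lc_b_rc_11_2 lc_b_rc_9_0 lc_b_rc_16_2 lc_b_rc_13_2 lc_b_rc_10_2 lc_b_rc_9_0 lc_b_rc_10_2 lc_b_rc_9_0) (@D3.rec (fun _ => (Cert rels S Gen.b)) lc_b_rc_16_2 lc_b_rc_13_2 lc_b_rc_1_3 lc_b_rc_16_2 lc_b_rc_13_2 lc_b_rc_10_2 lc_b_rc_11_2 lc_b_rc_13_2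 lc_b_rc_14_2 lc_b_rc_12_2 lc_b_rc_11_2 lc_b_rc_12_2 lc_b_rc_11_2 lc_b_rc_16_2 lc_b_rc_13_2 lc_b_rc_12_2 lc_b_rc_11_2 lc_b_rc_10_2 lc_b_rc_10_2 lc_b_rc_14_2 lc_b_rc_12_2 lc_b_rc_13_2 lc_b_rc_11_2 lc_b_rc_13_2 lc_b_rc_13_2 lc_b_rc_16_2 lc_b_rc_14_2 lc_b_rc_11_2 lc_b_rc_12_2 lc_b_Cert_tree lc_b_rc_11_2 lc_b_rc_11_2) (@D3.rec (fun _ => (Cert rels S Gen.b)) lc_b_rc_12_2 lc_b_rc_11_2 lc_b_rc_14_2 lc_b_rc_12_2 lc_b_rc_13_2 lc_b_rc_15_2 lc_b_rc_14_2 lc_b_rc_13_2 lc_b_rc_11_2 lc_b_rc_10_0 lc_b_Cert_tree lc_b_rc_16_2 lc_b_rc_9_0 lc_b_rc_16_2 lc_b_rc_1_3 lc_b_rc_13_2 lc_b_rc_13_2 lc_b_rc_16_2 lc_b_Cert_tree lc_b_rc_13_2 lc_b_rc_16_2 lc_b_rc_11_2 lc_b_rc_10_2 lc_b_Cert_tree lc_b_rc_12_2 lc_b_rc_11_2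 lc_b_rc_9_0 lc_b_rc_12_2 lc_b_rc_16_2 lc_b_rc_14_2 lc_b_rc_12_2 lc_b_rc_13_2) (@D3.rec (fun _ => (Cert rels S Gen.b)) lc_b_rc_12_2 lc_b_rc_13_2 lc_b_rc_15_2 lc_b_rc_14_2 lc_b_rc_13_2 lc_b_rc_15_2 lc_b_rc_14_2 lc_b_rc_11_2 lc_b_rc_14_2 lc_b_rc_12_2 lc_b_rc_11_2 lc_b_rc_9_0 lc_b_rc_16_2 lc_b_rc_13_2 lc_b_rc_1_3 lc_b_rc_16_2 lc_b_rc_13_2 lc_b_rc_12_2 lc_b_rc_13_2 lc_b_rc_13_0 lc_b_rc_16_2 lc_b_rc_13_2 lc_b_rc_1_3 lc_b_rc_13_2 lc_b_rc_10_2 lc_b_rc_10_2 lc_b_rc_11_2 lc_b_rc_13_2 lc_b_rc_13_2 lc_b_rc_16_2 lc_b_rc_14_2 lc_b_rc_11_2) (@D3.rec (fun _ => (Cert rels S Gen.b)) lc_b_rc_12_2 lc_b_Cert_tree lc_b_rc_11_2 lc_b_rc_11_2 lc_b_rc_10_2 lc_b_rc_12_2 lc_b_rc_11_2 lc_b_rc_10_2 lc_b_rc_10_2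 lc_b_rc_14_2 lc_b_rc_12_2 lc_b_rc_13_2 lc_b_rc_11_2 lc_b_rc_10_2 lc_b_rc_10_2 lc_b_rc_10_2 lc_b_rc_15_2 lc_b_rc_14_2 lc_b_rc_13_2 lc_b_rc_12_2 lc_b_rc_13_2 lc_b_rc_13_2 lc_b_rc_16_2 lc_b_Cert_tree lc_b_rc_13_2 lc_b_rc_16_2 lc_b_rc_11_2 lc_b_rc_14_2 lc_b_Cert_tree lc_b_rc_11_2 lc_b_rc_11_2 lc_b_rc_9_0) (@D3.rec (fun _ => (Cert rels S Gen.b)) lc_b_rc_12_2 lc_b_rc_16_2 lc_b_rc_11_2 lc_b_rc_11_2 lc_b_rc_13_2 lc_b_rc_14_2 lc_b_rc_12_2 lc_b_rc_13_2 lc_b_rc_15_2 lc_b_rc_14_2 lc_b_rc_13_2 lc_b_rc_15_2 lc_b_rc_13_2 lc_b_rc_11_2 lc_b_rc_9_0 lc_b_rc_16_2 lc_b_rc_1_3 lc_b_rc_16_2 lc_b_rc_46_36 lc_b_rc_13_2 lc_b_rc_16_2 lc_b_rc_12_0 lc_b_rc_13_2 lc_b_rc_16_2 lc_b_rc_9_0 lc_b_rc_10_4 lc_b_rc_16_2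 lc_b_rc_14_2 lc_b_rc_16_2 lc_b_rc_16_2 lc_b_rc_12_2 lc_b_rc_11_2) (@D3.rec (fun _ => (Cert rels S Gen.b)) lc_b_rc_9_0 lc_b_rc_12_2 lc_b_rc_16_2 lc_b_rc_10_2 lc_b_rc_12_2 lc_b_rc_13_2 lc_b_rc_1_3 lc_b_rc_12_2 lc_b_rc_16_2 lc_b_rc_14_2 lc_b_rc_16_2 lc_b_rc_13_2 lc_b_rc_15_2 lc_b_rc_14_2 lc_b_rc_13_2 lc_b_rc_47_35 lc_b_rc_13_0 lc_b_rc_13_2 lc_b_rc_15_2 lc_b_rc_14_2 lc_b_rc_11_2 lc_b_rc_15_2 lc_b_rc_11_2 lc_b_rc_13_2 lc_b_rc_1_3 lc_b_rc_16_2 lc_b_rc_1_3 lc_b_rc_12_0 lc_b_rc_10_2 lc_b_rc_10_2 lc_b_rc_11_2 lc_b_rc_10_2) (@D3.rec (fun _ => (Cert rels S Gen.b)) lc_b_rc_12_2 lc_b_rc_13_2 lc_b_rc_13_2 lc_b_rc_16_2 lc_b_Cert_tree lc_b_rc_13_2 lc_b_rc_16_2 lc_b_Cert_tree lc_b_rc_11_2 lc_b_rc_9_0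 lc_b_rc_12_2 lc_b_rc_10_2 lc_b_rc_11_2 lc_b_rc_10_2 lc_b_rc_13_2 lc_b_rc_16_2 lc_b_Cert_tree lc_b_rc_13_2 lc_b_rc_16_2 lc_b_rc_9_0 lc_b_rc_12_2 lc_b_rc_16_2 lc_b_rc_16_2 lc_b_rc_9_0 lc_b_rc_1_3 lc_b_rc_12_2 lc_b_rc_1_3 lc_b_rc_16_2 lc_b_rc_16_2 lc_b_rc_16_2 lc_b_rc_1_3 lc_b_rc_16_2) (@D3.rec (fun _ => (Cert rels S Gen.b)) lc_b_rc_16_2 lc_b_rc_12_2 lc_b_rc_16_2 lc_b_rc_10_2 lc_b_rc_12_2 lc_b_rc_11_2 lc_b_rc_12_2 lc_b_rc_12_2 lc_b_rc_15_2 lc_b_rc_1_3 lc_b_Cert_tree lc_b_rc_16_2 lc_b_rc_11_2 lc_b_rc_16_2 lc_b_rc_47_49 lc_b_rc_11_2 lc_b_rc_9_0 lc_b_rc_16_2 lc_b_rc_13_2 lc_b_rc_11_2 lc_b_rc_13_2 lc_b_rc_1_3 lc_b_rc_16_2 lc_b_rc_13_2 lc_b_rc_10_2 lc_b_rc_13_2 lc_b_rc_12_2 lc_b_rc_11_2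 lc_b_rc_12_2 lc_b_rc_16_2 lc_b_rc_10_2 lc_b_rc_12_2) (@D3.rec (fun _ => (Cert rels S Gen.b)) lc_b_rc_11_2 lc_b_rc_10_2 lc_b_rc_10_2 lc_b_rc_14_2 lc_b_rc_12_2 lc_b_rc_13_2 lc_b_rc_13_2 lc_b_rc_16_2 lc_b_rc_11_2 lc_b_rc_12_2 lc_b_Cert_tree lc_b_rc_11_2 lc_b_rc_11_2 lc_b_rc_12_2 lc_b_rc_14_2 lc_b_rc_13_2 lc_b_Cert_tree lc_b_rc_16_2 lc_b_rc_9_0 lc_b_rc_16_2 lc_b_rc_1_3 lc_b_rc_16_2 lc_b_rc_12_2 lc_b_rc_11_2 lc_b_rc_9_0 lc_b_rc_16_2 lc_b_rc_12_2 lc_b_rc_13_2 lc_b_rc_14_2 lc_b_rc_11_2 lc_b_rc_14_0 lc_b_rc_13_2) (@D3.rec (fun _ => (Cert rels S Gen.b)) lc_b_rc_1_3 lc_b_rc_16_2 lc_b_rc_13_2 lc_b_rc_1_3 lc_b_rc_13_2 lc_b_rc_10_2 lc_b_rc_10_2 lc_b_rc_11_2 lc_b_rc_13_2 lc_b_rc_13_2 lc_b_rc_16_2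 lc_b_rc_14_2 lc_b_rc_11_2 lc_b_rc_12_2 lc_b_Cert_tree lc_b_rc_11_2 lc_b_rc_11_2 lc_b_rc_10_2 lc_b_rc_12_2 lc_b_rc_11_2 lc_b_rc_10_2 lc_b_rc_10_2 lc_b_rc_14_2 lc_b_rc_12_2 lc_b_rc_13_2 lc_b_rc_11_2 lc_b_rc_10_2 lc_b_rc_10_2 lc_b_rc_10_2 lc_b_rc_15_2 lc_b_rc_14_2 lc_b_rc_13_2) (@D3.rec (fun _ => (Cert rels S Gen.b)) lc_b_rc_13_2 lc_b_rc_13_2 lc_b_rc_16_2 lc_b_Cert_tree lc_b_rc_13_2 lc_b_rc_16_2 lc_b_rc_11_2 lc_b_rc_14_2 lc_b_Cert_tree lc_b_rc_11_2 lc_b_rc_11_2 lc_b_rc_9_0 lc_b_rc_12_2 lc_b_rc_16_2 lc_b_rc_11_2 lc_b_rc_11_2 lc_b_rc_13_2 lc_b_rc_14_2 lc_b_rc_12_2 lc_b_rc_15_2 lc_b_rc_14_2 lc_b_rc_13_2 lc_b_rc_15_2 lc_b_rc_13_2 lc_b_rc_11_2 lc_b_rc_9_0 lc_b_rc_16_2 lc_b_rc_13_2 lc_b_rc_1_3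 lc_b_rc_16_2 lc_b_rc_13_2 lc_b_rc_10_2) (@D3.rec (fun _ => (Cert rels S Gen.b)) lc_b_rc_16_2 lc_b_rc_13_2 lc_b_rc_16_2 lc_b_rc_9_0 lc_b_rc_9_1 lc_b_rc_16_2 lc_b_rc_14_2 lc_b_rc_16_2 lc_b_rc_16_2 lc_b_rc_12_2 lc_b_rc_10_2 lc_b_rc_12_2 lc_b_rc_16_2 lc_b_rc_14_2 lc_b_rc_12_2 lc_b_rc_13_2 lc_b_rc_1_3 lc_b_rc_12_2 lc_b_rc_16_2 lc_b_rc_12_2 lc_b_rc_16_2 lc_b_rc_13_2 lc_b_rc_15_2 lc_b_rc_14_2 lc_b_rc_13_2 lc_b_rc_15_2 lc_b_rc_14_2 lc_b_rc_15_2 lc_b_rc_14_2 lc_b_rc_11_2 lc_b_rc_15_2 lc_b_rc_11_2) (@D3.rec (fun _ => (Cert rels S Gen.b)) lc_b_rc_9_1 lc_b_rc_13_2 lc_b_rc_1_3 lc_b_rc_13_2 lc_b_rc_11_2 lc_b_rc_13_2 lc_b_rc_10_2 lc_b_rc_10_2 lc_b_rc_13_2 lc_b_rc_16_2 lc_b_rc_11_2 lc_b_rc_12_2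 lc_b_Cert_tree lc_b_rc_11_2 lc_b_rc_11_2 lc_b_rc_10_2 lc_b_rc_11_2 lc_b_rc_10_2 lc_b_rc_10_2 lc_b_rc_14_2 lc_b_rc_12_2 lc_b_rc_13_2 lc_b_rc_11_2 lc_b_rc_10_2 lc_b_rc_10_2 lc_b_rc_10_2 lc_b_rc_15_2 lc_b_rc_14_2 lc_b_rc_13_2 lc_b_Cert_tree lc_b_rc_16_2 lc_b_rc_11_2) (@D3.rec (fun _ => (Cert rels S Gen.b)) lc_b_rc_9_0 lc_b_rc_12_2 lc_b_rc_16_2 lc_b_rc_11_2 lc_b_rc_11_2 lc_b_rc_13_2 lc_b_rc_14_2 lc_b_rc_15_2 lc_b_rc_13_2 lc_b_rc_11_2 lc_b_rc_16_2 lc_b_rc_10_4 lc_b_rc_16_2 lc_b_rc_13_2 lc_b_rc_12_2 lc_b_rc_12_2 lc_b_rc_13_2 lc_b_rc_12_2 lc_b_rc_13_2 lc_b_rc_12_2 lc_b_rc_11_2 lc_b_rc_12_2 lc_b_rc_1_1 lc_b_rc_10_2 lc_b_rc_11_2 lc_b_rc_10_2 lc_b_rc_12_2 lc_b_rc_13_2 lc_b_rc_13_2 lc_b_rc_16_2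 lc_b_Cert_tree lc_b_rc_13_2) (@D3.rec (fun _ => (Cert rels S Gen.b)) lc_b_rc_16_2 lc_b_rc_1_5 lc_b_rc_11_2 lc_b_rc_11_2 lc_b_rc_9_0 lc_b_rc_12_2 lc_b_rc_16_2 lc_b_rc_11_2 lc_b_rc_11_2 lc_b_rc_13_2 lc_b_rc_10_2 lc_b_rc_10_2 lc_b_rc_14_2 lc_b_rc_12_2 lc_b_rc_13_2 lc_b_rc_11_2 lc_b_rc_10_2 lc_b_rc_10_2 lc_b_rc_10_2 lc_b_rc_15_2 lc_b_rc_14_2 lc_b_rc_13_2 lc_b_rc_11_2 lc_b_rc_13_2 lc_b_rc_11_2 lc_b_rc_10_2 lc_b_rc_10_2 lc_b_rc_10_2 lc_b_rc_11_2 lc_b_rc_15_2 lc_b_rc_13_2 lc_b_rc_11_2) (@D3.rec (fun _ => (Cert rels S Gen.b)) lc_b_rc_13_2 lc_b_rc_16_2 lc_b_rc_13_2 lc_b_rc_16_2 lc_b_rc_9_0 lc_b_rc_12_2 lc_b_rc_16_2 lc_b_rc_13_2 lc_b_rc_16_2 lc_b_rc_16_2 lc_b_rc_11_2 lc_b_rc_11_2 lc_b_rc_13_2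 lc_b_rc_1_3 lc_b_rc_12_2 lc_b_rc_16_2 lc_b_rc_14_2 lc_b_rc_16_2 lc_b_rc_13_2 lc_b_rc_11_2 lc_b_rc_11_2 lc_b_rc_13_2 lc_b_rc_15_2 lc_b_rc_14_2 lc_b_rc_13_2 lc_b_rc_15_2 lc_b_rc_13_2 lc_b_rc_11_2 lc_b_rc_13_2 lc_b_rc_11_2 lc_b_Cert_tree lc_b_rc_1_3) (@D3.rec (fun _ => (Cert rels S Gen.b)) lc_b_rc_47_14 lc_b_rc_16_2 lc_b_rc_1_3 lc_b_rc_12_2 lc_b_rc_16_2 lc_b_rc_10_4 lc_b_rc_16_2 lc_b_rc_13_2 lc_b_rc_11_2 lc_b_rc_16_2 lc_b_rc_16_2 lc_b_rc_13_0 lc_b_rc_14_2 lc_b_rc_13_2 lc_b_rc_1_3 lc_b_rc_1_3 lc_b_rc_14_2 lc_b_rc_16_2 lc_b_rc_13_2 lc_b_rc_12_0 lc_b_rc_16_2 lc_b_rc_13_2 lc_b_rc_15_2 lc_b_rc_14_2 lc_b_rc_11_2 lc_b_rc_15_2 lc_b_rc_11_0 lc_b_rc_15_2 lc_b_rc_11_2 lc_b_rc_12_0 lc_b_rc_12_2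 lc_b_rc_11_2) (@D3.rec (fun _ => (Cert rels S Gen.b)) lc_b_rc_10_2 lc_b_rc_16_2 lc_b_rc_1_5 lc_b_rc_13_2 lc_b_rc_16_2 lc_b_rc_10_2 lc_b_rc_16_2 lc_b_rc_11_2 lc_b_rc_10_2 lc_b_Cert_tree lc_b_rc_12_2 lc_b_rc_11_2 lc_b_rc_9_0 lc_b_rc_16_2 lc_b_rc_1_3 lc_b_rc_1_3 lc_b_rc_16_2 lc_b_rc_1_3 lc_b_rc_10_2 lc_b_rc_12_2 lc_b_rc_16_2 lc_b_rc_11_2 lc_b_rc_14_2 lc_b_rc_16_2 lc_b_rc_13_2 lc_b_rc_11_2 lc_b_rc_11_2 lc_b_rc_13_2 lc_b_rc_11_2 lc_b_rc_10_2 lc_b_rc_10_2 lc_b_rc_10_2) (@D3.rec (fun _ => (Cert rels S Gen.b)) lc_b_rc_15_2 lc_b_rc_14_2 lc_b_rc_13_2 lc_b_rc_11_2 lc_b_rc_13_2 lc_b_rc_11_2 lc_b_rc_10_2 lc_b_rc_10_2 lc_b_rc_10_2 lc_b_rc_11_2 lc_b_rc_15_2 lc_b_rc_13_2 lc_b_rc_11_2 lc_b_rc_12_2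 lc_b_rc_11_2 lc_b_rc_13_2 lc_b_rc_11_2 lc_b_rc_16_2 lc_b_rc_13_2 lc_b_rc_10_2 lc_b_rc_10_2 lc_b_rc_11_2 lc_b_rc_12_2 lc_b_rc_13_2 lc_b_rc_11_2 lc_b_rc_12_2 lc_b_rc_1_3 lc_b_rc_1_3 lc_b_rc_14_2 lc_b_rc_16_2 lc_b_rc_13_2 lc_b_rc_15_2) (@D3.rec (fun _ => (Cert rels S Gen.b)) lc_b_rc_16_2 lc_b_rc_13_2 lc_b_rc_11_2 lc_b_rc_13_2 lc_b_rc_13_2 lc_b_rc_15_2 lc_b_rc_13_2 lc_b_rc_11_2 lc_b_rc_13_2 lc_b_rc_11_2 lc_b_Cert_tree lc_b_rc_9_0 lc_b_rc_1_3 lc_b_rc_1_3 lc_b_rc_1_3 lc_b_rc_15_2 lc_b_rc_16_2 lc_b_rc_13_2 lc_b_rc_16_2 lc_b_rc_13_2 lc_b_rc_11_2 lc_b_rc_13_2 lc_b_rc_13_2 lc_b_rc_47_56 lc_b_rc_13_2 lc_b_rc_11_2 lc_b_rc_14_2 lc_b_rc_10_2 lc_b_rc_46_36 lc_b_rc_12_2 lc_b_rc_10_2 lc_b_rc_47_21)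 (@D3.rec (fun _ => (Cert rels S Gen.b)) lc_b_rc_13_2 lc_b_rc_10_2 lc_b_rc_10_2 lc_b_rc_11_2 lc_b_rc_10_2 lc_b_rc_10_2 lc_b_rc_13_2 lc_b_rc_47_35 lc_b_rc_11_2 lc_b_rc_10_2 lc_b_rc_14_2 lc_b_rc_11_2 lc_b_rc_10_2 lc_b_rc_10_2 lc_b_rc_10_2 lc_b_rc_15_2 lc_b_rc_14_2 lc_b_rc_13_2 lc_b_rc_11_2 lc_b_rc_13_2 lc_b_rc_11_2 lc_b_rc_10_2 lc_b_rc_10_2 lc_b_rc_10_2 lc_b_rc_11_2 lc_b_rc_15_2 lc_b_rc_13_2 lc_b_rc_11_2 lc_b_rc_13_2 lc_b_rc_11_2 lc_b_rc_15_2 lc_b_rc_15_2)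
def ce_b_8 : D2 → D3 → (Cert rels S Gen.b) := @D2.rec (fun _ => D3 → (Cert rels S Gen.b)) (@D3.rec (fun _ => (Cert rels S Gen.b)) lc_b_rc_13_2 lc_b_rc_13_2 lc_b_rc_11_2 lc_b_rc_9_1 lc_b_rc_15_2 lc_b_rc_15_2 lc_b_rc_11_2 lc_b_rc_10_2 lc_b_rc_11_2 lc_b_rc_10_2 lc_b_rc_11_2 lc_b_rc_13_2 lc_b_rc_11_2 lc_b_rc_10_2 lc_b_rc_10_2 lc_b_rc_10_2 lc_b_rc_11_2 lc_b_rc_15_2 lc_b_rc_13_2 lc_b_rc_11_2 lc_b_rc_13_2 lc_b_rc_11_2 lc_b_rc_46_29 lc_b_rc_11_2 lc_b_rc_10_2 lc_b_rc_10_2 lc_b_rc_12_2 lc_b_rc_11_2 lc_b_rc_10_2 lc_b_rc_10_2 lc_b_rc_13_2 lc_b_rc_16_2) (@D3.rec (fun _ => (Cert rels S Gen.b)) lc_b_rc_10_2 lc_b_rc_10_2 lc_b_rc_11_2 lc_b_rc_11_2 lc_b_rc_10_2 lc_b_rc_15_2 lc_b_rc_11_2 lc_b_rc_13_2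 lc_b_rc_11_2 lc_b_rc_10_2 lc_b_rc_10_2 lc_b_rc_10_2 lc_b_rc_11_2 lc_b_rc_15_2 lc_b_rc_13_2 lc_b_rc_11_2 lc_b_rc_12_2 lc_b_rc_11_2 lc_b_rc_13_2 lc_b_rc_11_2 lc_b_rc_16_2 lc_b_rc_13_2 lc_b_rc_10_2 lc_b_rc_10_2 lc_b_rc_11_2 lc_b_rc_12_2 lc_b_rc_13_2 lc_b_rc_11_2 lc_b_rc_10_4 lc_b_rc_13_2 lc_b_rc_16_2 lc_b_rc_13_2) (@D3.rec (fun _ => (Cert rels S Gen.b)) lc_b_rc_11_2 lc_b_Cert_tree lc_b_rc_9_0 lc_b_rc_13_2 lc_b_rc_11_2 lc_b_rc_16_2 lc_b_rc_11_2 lc_b_rc_12_2 lc_b_rc_11_2 lc_b_rc_16_2 lc_b_rc_16_2 lc_b_rc_10_2 lc_b_rc_14_2 lc_b_rc_12_2 lc_b_rc_11_2 lc_b_rc_14_2 lc_b_rc_12_2 lc_b_rc_13_2 lc_b_rc_16_2 lc_b_rc_11_2 lc_b_rc_13_2 lc_b_rc_11_2 lc_b_rc_10_2 lc_b_rc_10_2 lc_b_rc_12_2 lc_b_rc_11_2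 lc_b_rc_15_2 lc_b_rc_13_2 lc_b_rc_11_2 lc_b_rc_12_2 lc_b_rc_11_2 lc_b_rc_13_2) (@D3.rec (fun _ => (Cert rels S Gen.b)) lc_b_rc_11_2 lc_b_rc_16_2 lc_b_rc_13_2 lc_b_rc_10_2 lc_b_rc_10_2 lc_b_rc_11_2 lc_b_rc_12_2 lc_b_rc_13_2 lc_b_rc_11_2 lc_b_Cert_tree lc_b_rc_12_2 lc_b_rc_11_2 lc_b_rc_16_2 lc_b_rc_13_2 lc_b_rc_1_1 lc_b_rc_10_2 lc_b_rc_11_2 lc_b_rc_13_2 lc_b_rc_11_2 lc_b_Cert_tree lc_b_rc_9_0 lc_b_rc_13_2 lc_b_rc_16_2 lc_b_rc_10_2 lc_b_rc_13_2 lc_b_rc_16_2 lc_b_Cert_tree lc_b_rc_11_2 lc_b_rc_11_2 lc_b_rc_10_2 lc_b_rc_10_2 lc_b_rc_14_2) (@D3.rec (fun _ => (Cert rels S Gen.b)) lc_b_rc_12_2 lc_b_rc_13_2 lc_b_rc_11_2 lc_b_rc_10_2 lc_b_rc_10_2 lc_b_rc_10_2 lc_b_rc_15_2 lc_b_rc_14_2 lc_b_rc_13_2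 lc_b_Cert_tree lc_b_rc_13_2 lc_b_rc_16_2 lc_b_rc_9_0 lc_b_rc_12_2 lc_b_rc_16_2 lc_b_rc_11_2 lc_b_rc_11_2 lc_b_rc_13_2 lc_b_rc_15_2 lc_b_rc_14_2 lc_b_rc_13_2 lc_b_rc_15_2 lc_b_rc_13_2 lc_b_rc_11_2 lc_b_rc_16_2 lc_b_rc_13_2 lc_b_rc_16_2 lc_b_rc_16_2 lc_b_rc_16_2 lc_b_rc_16_2 lc_b_rc_13_2 lc_b_rc_14_2) (@D3.rec (fun _ => (Cert rels S Gen.b)) lc_b_rc_13_2 lc_b_rc_15_2 lc_b_rc_14_2 lc_b_rc_11_2 lc_b_rc_15_2 lc_b_rc_11_2 lc_b_rc_47_49 lc_b_rc_11_2 lc_b_rc_11_2 lc_b_rc_10_2 lc_b_rc_1_5 lc_b_rc_13_2 lc_b_rc_16_2 lc_b_rc_1_5 lc_b_rc_1_5 lc_b_rc_11_2 lc_b_rc_11_2 lc_b_rc_13_2 lc_b_rc_11_2 lc_b_rc_10_2 lc_b_rc_10_2 lc_b_rc_10_2 lc_b_rc_15_2 lc_b_rc_14_2 lc_b_rc_13_2 lc_b_rc_11_2 lc_b_rc_13_2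 lc_b_rc_11_2 lc_b_rc_10_2 lc_b_rc_10_2 lc_b_rc_10_2 lc_b_rc_11_2) (@D3.rec (fun _ => (Cert rels S Gen.b)) lc_b_rc_15_2 lc_b_rc_13_2 lc_b_rc_11_2 lc_b_rc_13_2 lc_b_rc_16_2 lc_b_rc_16_2 lc_b_rc_11_2 lc_b_rc_11_2 lc_b_rc_13_2 lc_b_rc_15_2 lc_b_rc_13_2 lc_b_rc_11_2 lc_b_rc_13_2 lc_b_rc_11_2 lc_b_Cert_tree lc_b_rc_12_2 lc_b_rc_16_2 lc_b_rc_10_2 lc_b_rc_14_2 lc_b_rc_11_2 lc_b_rc_15_2 lc_b_rc_11_2 lc_b_Cert_tree lc_b_rc_11_2 lc_b_rc_10_4 lc_b_rc_11_0 lc_b_rc_9_0 lc_b_rc_12_2 lc_b_rc_11_2 lc_b_rc_11_2 lc_b_rc_13_2 lc_b_rc_11_2) (@D3.rec (fun _ => (Cert rels S Gen.b)) lc_b_rc_10_2 lc_b_rc_10_2 lc_b_rc_10_2 lc_b_rc_11_2 lc_b_rc_15_2 lc_b_rc_13_2 lc_b_rc_11_2 lc_b_rc_12_2 lc_b_rc_11_2 lc_b_rc_13_2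 lc_b_rc_11_2 lc_b_rc_16_2 lc_b_rc_13_2 lc_b_rc_10_2 lc_b_rc_10_2 lc_b_rc_11_2 lc_b_rc_12_2 lc_b_rc_13_2 lc_b_rc_11_2 lc_b_Cert_tree lc_b_rc_13_2 lc_b_rc_11_2 lc_b_Cert_tree lc_b_rc_11_2 lc_b_Cert_tree lc_b_rc_12_2 lc_b_rc_9_0 lc_b_rc_11_2 lc_b_rc_45_65 lc_b_rc_12_2 lc_b_rc_9_0 lc_b_rc_45_38) (@D3.rec (fun _ => (Cert rels S Gen.b)) lc_b_rc_12_2 lc_b_rc_9_0 lc_b_rc_9_1 lc_b_rc_1_3 lc_b_rc_12_2 lc_b_rc_12_2 lc_b_rc_11_2 lc_b_rc_10_2 lc_b_rc_10_2 lc_b_rc_14_2 lc_b_rc_12_2 lc_b_rc_13_2 lc_b_rc_16_2 lc_b_rc_14_2 lc_b_rc_12_2 lc_b_rc_13_2 lc_b_rc_15_2 lc_b_rc_14_2 lc_b_rc_1_3 lc_b_rc_16_2 lc_b_rc_9_0 lc_b_rc_16_2 lc_b_rc_1_3 lc_b_rc_10_2 lc_b_rc_10_2 lc_b_rc_10_2 lc_b_rc_10_2 lc_b_rc_10_2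 lc_b_rc_11_2 lc_b_rc_13_2 lc_b_rc_1_3 lc_b_rc_16_2) (@D3.rec (fun _ => (Cert rels S Gen.b)) lc_b_rc_13_2 lc_b_rc_45_74 lc_b_rc_12_2 lc_b_rc_13_2 lc_b_rc_12_2 lc_b_rc_16_2 lc_b_rc_13_2 lc_b_rc_1_3 lc_b_rc_13_2 lc_b_rc_45_20 lc_b_rc_10_2 lc_b_rc_11_2 lc_b_rc_13_2 lc_b_rc_13_2 lc_b_rc_16_2 lc_b_rc_14_2 lc_b_rc_11_2 lc_b_rc_12_2 lc_b_Cert_tree lc_b_rc_11_2 lc_b_rc_11_2 lc_b_rc_12_2 lc_b_rc_11_2 lc_b_rc_12_2 lc_b_rc_16_2 lc_b_rc_14_2 lc_b_rc_12_2 lc_b_rc_13_2 lc_b_rc_46_36 lc_b_rc_10_2 lc_b_rc_1_3 lc_b_rc_10_2) (@D3.rec (fun _ => (Cert rels S Gen.b)) lc_b_rc_15_2 lc_b_rc_14_2 lc_b_rc_13_2 lc_b_rc_13_2 lc_b_rc_13_2 lc_b_rc_16_2 lc_b_Cert_tree lc_b_rc_13_2 lc_b_rc_16_2 lc_b_rc_11_2 lc_b_rc_14_2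 lc_b_Cert_tree lc_b_rc_11_2 lc_b_rc_11_2 lc_b_rc_9_0 lc_b_rc_12_2 lc_b_rc_16_2 lc_b_rc_11_2 lc_b_rc_11_2 lc_b_rc_13_2 lc_b_rc_12_2 lc_b_rc_13_2 lc_b_rc_15_2 lc_b_rc_14_2 lc_b_rc_13_2 lc_b_rc_15_2 lc_b_rc_13_2 lc_b_rc_9_1 lc_b_Cert_tree lc_b_rc_13_0 lc_b_rc_14_2 lc_b_rc_9_0) (@D3.rec (fun _ => (Cert rels S Gen.b)) lc_b_rc_16_2 lc_b_rc_1_3 lc_b_rc_1_3 lc_b_rc_16_2 lc_b_rc_13_2 lc_b_rc_13_2 lc_b_rc_16_2 lc_b_rc_12_2 lc_b_rc_13_2 lc_b_rc_16_2 lc_b_rc_9_0 lc_b_rc_9_0 lc_b_rc_16_2 lc_b_rc_14_2 lc_b_rc_16_2 lc_b_rc_16_2 lc_b_rc_12_0 lc_b_rc_12_2 lc_b_rc_11_2 lc_b_rc_9_0 lc_b_rc_16_2 lc_b_rc_12_2 lc_b_rc_13_2 lc_b_rc_1_3 lc_b_rc_12_2 lc_b_rc_16_2 lc_b_rc_13_2 lc_b_rc_16_2 lc_b_rc_13_2 lc_b_rc_15_2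 lc_b_rc_14_2 lc_b_rc_13_2) (@D3.rec (fun _ => (Cert rels S Gen.b)) lc_b_rc_13_2 lc_b_rc_15_2 lc_b_rc_14_2 lc_b_rc_11_2 lc_b_rc_15_2 lc_b_rc_11_2 lc_b_rc_46_15 lc_b_rc_14_2 lc_b_rc_12_2 lc_b_rc_13_2 lc_b_rc_1_3 lc_b_rc_16_2 lc_b_rc_45_20 lc_b_rc_1_3 lc_b_rc_13_2 lc_b_rc_11_2 lc_b_rc_16_0 lc_b_rc_11_2 lc_b_rc_13_2 lc_b_rc_1_3 lc_b_rc_10_2 lc_b_rc_10_2 lc_b_rc_11_2 lc_b_rc_10_2 lc_b_rc_12_2 lc_b_rc_13_2 lc_b_rc_13_2 lc_b_rc_16_2 lc_b_Cert_tree lc_b_rc_13_2 lc_b_rc_16_2 lc_b_rc_11_2) (@D3.rec (fun _ => (Cert rels S Gen.b)) lc_b_rc_14_2 lc_b_Cert_tree lc_b_rc_11_2 lc_b_rc_11_2 lc_b_rc_9_0 lc_b_rc_12_2 lc_b_rc_16_2 lc_b_rc_11_2 lc_b_rc_11_2 lc_b_rc_13_2 lc_b_rc_10_2 lc_b_rc_10_2 lc_b_rc_14_2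 lc_b_rc_12_2 lc_b_rc_13_2 lc_b_rc_11_2 lc_b_rc_10_2 lc_b_rc_10_2 lc_b_rc_10_2 lc_b_rc_15_2 lc_b_rc_14_2 lc_b_rc_13_2 lc_b_rc_11_2 lc_b_rc_13_2 lc_b_rc_11_2 lc_b_rc_10_2 lc_b_rc_10_2 lc_b_rc_10_2 lc_b_rc_11_2 lc_b_rc_15_2 lc_b_rc_13_2 lc_b_rc_11_2) (@D3.rec (fun _ => (Cert rels S Gen.b)) lc_b_rc_13_2 lc_b_rc_13_2 lc_b_rc_16_2 lc_b_Cert_tree lc_b_rc_13_2 lc_b_rc_16_2 lc_b_rc_9_0 lc_b_rc_12_2 lc_b_rc_16_2 lc_b_rc_13_2 lc_b_rc_16_2 lc_b_rc_16_2 lc_b_rc_12_2 lc_b_rc_11_2 lc_b_rc_9_0 lc_b_rc_12_2 lc_b_rc_16_2 lc_b_rc_11_2 lc_b_rc_11_2 lc_b_rc_13_2 lc_b_rc_1_3 lc_b_rc_12_2 lc_b_rc_16_2 lc_b_rc_14_2 lc_b_rc_16_2 lc_b_rc_13_2 lc_b_rc_11_2 lc_b_rc_11_2 lc_b_rc_13_2 lc_b_rc_15_2 lc_b_rc_14_2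 lc_b_rc_13_2) (@D3.rec (fun _ => (Cert rels S Gen.b)) lc_b_rc_15_2 lc_b_rc_13_2 lc_b_rc_11_2 lc_b_rc_13_2 lc_b_rc_11_2 lc_b_rc_1_1 lc_b_rc_1_3 lc_b_rc_16_2 lc_b_rc_1_3 lc_b_rc_12_2 lc_b_rc_16_2 lc_b_rc_12_0 lc_b_rc_16_2 lc_b_rc_16_2 lc_b_rc_1_3 lc_b_rc_16_2 lc_b_rc_10_4 lc_b_rc_10_4 lc_b_rc_13_2 lc_b_rc_13_2 lc_b_rc_16_2 lc_b_rc_16_2 lc_b_rc_12_2 lc_b_rc_13_2 lc_b_rc_1_3 lc_b_rc_16_2 lc_b_rc_12_2 lc_b_rc_13_2 lc_b_rc_13_0 lc_b_rc_12_0 lc_b_rc_13_2 lc_b_rc_1_3) (@D3.rec (fun _ => (Cert rels S Gen.b)) lc_b_rc_1_3 lc_b_rc_14_2 lc_b_rc_16_2 lc_b_rc_13_2 lc_b_rc_11_0 lc_b_rc_16_2 lc_b_rc_13_2 lc_b_rc_15_2 lc_b_rc_14_2 lc_b_rc_11_2 lc_b_rc_14_2 lc_b_rc_9_0 lc_b_rc_11_2 lc_b_rc_45_65 lc_b_rc_11_2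 lc_b_Cert_tree lc_b_rc_1_3 lc_b_rc_10_2 lc_b_rc_10_2 lc_b_rc_11_2 lc_b_rc_10_2 lc_b_Cert_tree lc_b_rc_12_2 lc_b_rc_11_2 lc_b_rc_13_2 lc_b_rc_16_2 lc_b_Cert_tree lc_b_rc_13_2 lc_b_rc_16_2 lc_b_rc_9_0 lc_b_rc_12_2 lc_b_rc_16_2) (@D3.rec (fun _ => (Cert rels S Gen.b)) lc_b_rc_16_2 lc_b_rc_9_0 lc_b_rc_12_2 lc_b_rc_1_3 lc_b_rc_12_2 lc_b_rc_11_2 lc_b_rc_16_2 lc_b_rc_9_0 lc_b_rc_16_2 lc_b_rc_16_2 lc_b_rc_1_3 lc_b_rc_12_2 lc_b_rc_16_2 lc_b_rc_16_2 lc_b_rc_1_3 lc_b_rc_12_2 lc_b_rc_10_2 lc_b_rc_10_2 lc_b_rc_12_2 lc_b_rc_10_2 lc_b_rc_16_2 lc_b_rc_9_0 lc_b_rc_16_2 lc_b_rc_1_3 lc_b_rc_11_2 lc_b_rc_12_2 lc_b_rc_13_2 lc_b_rc_1_3 lc_b_rc_16_2 lc_b_rc_14_0 lc_b_rc_9_0 lc_b_rc_1_3) (@D3.rec (fun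 _ => (Cert rels S Gen.b)) lc_b_rc_13_2 lc_b_rc_45_74 lc_b_rc_10_2 lc_b_rc_13_2 lc_b_rc_16_2 lc_b_rc_11_2 lc_b_rc_12_2 lc_b_Cert_tree lc_b_rc_11_2 lc_b_rc_11_2 lc_b_rc_10_2 lc_b_rc_16_2 lc_b_rc_12_2 lc_b_rc_46_36 lc_b_rc_10_2 lc_b_rc_1_3 lc_b_rc_10_2 lc_b_rc_14_2 lc_b_rc_13_2 lc_b_rc_16_2 lc_b_Cert_tree lc_b_rc_11_2 lc_b_rc_9_0 lc_b_rc_16_2 lc_b_rc_11_2 lc_b_rc_13_2 lc_b_rc_13_2 lc_b_rc_14_0 lc_b_rc_9_0 lc_b_rc_16_2 lc_b_rc_1_3 lc_b_rc_1_3) (@D3.rec (fun _ => (Cert rels S Gen.b)) lc_b_rc_16_2 lc_b_rc_13_2 lc_b_rc_16_2 lc_b_rc_12_2 lc_b_rc_13_2 lc_b_rc_1_3 lc_b_rc_16_2 lc_b_rc_13_2 lc_b_rc_13_2 lc_b_rc_11_0 lc_b_rc_1_3 lc_b_rc_13_2 lc_b_rc_11_2 lc_b_rc_1_3 lc_b_rc_10_2 lc_b_rc_10_2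 lc_b_rc_11_2 lc_b_rc_10_2 lc_b_rc_13_2 lc_b_rc_13_2 lc_b_rc_16_2 lc_b_Cert_tree lc_b_rc_13_2 lc_b_rc_16_2 lc_b_rc_11_2 lc_b_rc_14_2 lc_b_Cert_tree lc_b_rc_11_2 lc_b_rc_11_2 lc_b_rc_9_0 lc_b_rc_12_2 lc_b_rc_16_2) (@D3.rec (fun _ => (Cert rels S Gen.b)) lc_b_rc_11_2 lc_b_rc_11_2 lc_b_rc_13_2 lc_b_rc_10_2 lc_b_rc_10_2 lc_b_rc_14_2 lc_b_rc_12_2 lc_b_rc_11_2 lc_b_rc_10_2 lc_b_rc_10_2 lc_b_rc_10_2 lc_b_rc_15_2 lc_b_rc_14_2 lc_b_rc_13_2 lc_b_rc_11_2 lc_b_rc_13_2 lc_b_rc_11_2 lc_b_rc_10_2 lc_b_rc_10_2 lc_b_rc_10_2 lc_b_rc_11_2 lc_b_rc_15_2 lc_b_rc_13_2 lc_b_rc_11_2 lc_b_rc_13_2 lc_b_rc_16_2 lc_b_Cert_tree lc_b_rc_16_2 lc_b_rc_9_0 lc_b_rc_12_2 lc_b_rc_16_2 lc_b_rc_13_2) (@D3.rec (fun _ =>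 (Cert rels S Gen.b)) lc_b_rc_16_2 lc_b_rc_16_2 lc_b_rc_12_2 lc_b_rc_11_2 lc_b_rc_9_0 lc_b_rc_12_2 lc_b_rc_16_2 lc_b_rc_11_2 lc_b_rc_11_2 lc_b_rc_13_2 lc_b_rc_1_3 lc_b_rc_12_2 lc_b_rc_16_2 lc_b_rc_14_2 lc_b_rc_16_2 lc_b_rc_13_2 lc_b_rc_11_2 lc_b_rc_11_2 lc_b_rc_13_2 lc_b_rc_15_2 lc_b_rc_14_2 lc_b_rc_15_2 lc_b_rc_13_2 lc_b_rc_11_2 lc_b_rc_13_2 lc_b_rc_11_2 lc_b_rc_16_2 lc_b_rc_16_2 lc_b_rc_13_2 lc_b_rc_1_3 lc_b_rc_13_2 lc_b_rc_11_2)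
def ce_b_9 : D2 → D3 → (Cert rels S Gen.b) := @D2.rec (fun _ => D3 → (Cert rels S Gen.b)) (@D3.rec (fun _ => (Cert rels S Gen.b)) lc_b_rc_10_2 lc_b_rc_16_2 lc_b_rc_16_2 lc_b_rc_1_3 lc_b_rc_16_2 lc_b_rc_16_2 lc_b_rc_13_2 lc_b_rc_16_2 lc_b_rc_16_2 lc_b_rc_12_2 lc_b_rc_13_2 lc_b_rc_16_2 lc_b_rc_13_2 lc_b_rc_14_2 lc_b_rc_13_2 lc_b_rc_1_3 lc_b_rc_1_3 lc_b_rc_16_2 lc_b_rc_13_2 lc_b_rc_14_2 lc_b_rc_13_2 lc_b_rc_11_2 lc_b_rc_15_2 lc_b_rc_14_2 lc_b_rc_11_2 lc_b_rc_15_2 lc_b_rc_15_2 lc_b_rc_11_2 lc_b_rc_11_2 lc_b_rc_1_3 lc_b_rc_11_2 lc_b_rc_47_14) (@D3.rec (fun _ => (Cert rels S Gen.b)) lc_b_rc_11_2 lc_b_rc_10_2 lc_b_Cert_tree lc_b_rc_16_2 lc_b_rc_11_2 lc_b_rc_11_2 lc_b_rc_9_0 lc_b_rc_12_2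 lc_b_rc_16_2 lc_b_rc_11_2 lc_b_rc_11_2 lc_b_rc_13_2 lc_b_rc_10_2 lc_b_rc_11_2 lc_b_rc_10_2 lc_b_rc_10_2 lc_b_rc_10_2 lc_b_rc_14_2 lc_b_rc_11_2 lc_b_rc_13_2 lc_b_rc_11_2 lc_b_rc_10_2 lc_b_rc_10_2 lc_b_rc_10_2 lc_b_rc_11_2 lc_b_rc_15_2 lc_b_rc_13_2 lc_b_rc_11_2 lc_b_rc_9_0 lc_b_rc_16_2 lc_b_rc_16_2 lc_b_rc_13_2) (@D3.rec (fun _ => (Cert rels S Gen.b)) lc_b_rc_12_2 lc_b_rc_16_2 lc_b_rc_14_2 lc_b_rc_16_2 lc_b_rc_13_2 lc_b_rc_11_2 lc_b_rc_13_2 lc_b_rc_13_2 lc_b_rc_11_2 lc_b_rc_16_2 lc_b_rc_13_2 lc_b_rc_12_2 lc_b_rc_13_2 lc_b_rc_13_2 lc_b_rc_10_2 lc_b_rc_10_2 lc_b_rc_11_2 lc_b_rc_10_2 lc_b_Cert_tree lc_b_rc_12_2 lc_b_rc_11_2 lc_b_rc_13_2 lc_b_rc_16_2 lc_b_rc_1_5 lc_b_rc_13_2 lc_b_rc_16_2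 lc_b_rc_9_0 lc_b_rc_12_2 lc_b_rc_16_2 lc_b_rc_13_2 lc_b_rc_16_2 lc_b_rc_16_2) (@D3.rec (fun _ => (Cert rels S Gen.b)) lc_b_rc_1_5 lc_b_rc_1_5 lc_b_rc_11_2 lc_b_rc_11_2 lc_b_rc_13_2 lc_b_rc_1_3 lc_b_rc_12_2 lc_b_rc_16_2 lc_b_rc_11_2 lc_b_rc_14_2 lc_b_rc_16_2 lc_b_rc_13_2 lc_b_rc_11_2 lc_b_rc_11_2 lc_b_rc_13_2 lc_b_rc_11_2 lc_b_rc_10_2 lc_b_rc_10_2 lc_b_rc_10_2 lc_b_rc_15_2 lc_b_rc_14_2 lc_b_rc_13_2 lc_b_rc_11_2 lc_b_rc_13_2 lc_b_rc_11_2 lc_b_rc_10_2 lc_b_rc_10_2 lc_b_rc_10_2 lc_b_rc_11_2 lc_b_rc_15_2 lc_b_rc_13_2 lc_b_rc_11_2) (@D3.rec (fun _ => (Cert rels S Gen.b)) lc_b_rc_12_2 lc_b_rc_11_2 lc_b_rc_13_2 lc_b_rc_11_2 lc_b_rc_16_2 lc_b_rc_13_2 lc_b_rc_10_2 lc_b_rc_10_2 lc_b_rc_11_2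 lc_b_rc_12_2 lc_b_rc_13_2 lc_b_rc_11_2 lc_b_rc_15_0 lc_b_rc_13_2 lc_b_rc_16_2 lc_b_rc_1_3 lc_b_rc_12_2 lc_b_rc_16_2 lc_b_rc_14_2 lc_b_rc_16_2 lc_b_rc_13_2 lc_b_rc_13_2 lc_b_rc_16_2 lc_b_rc_16_2 lc_b_rc_11_2 lc_b_rc_11_2 lc_b_rc_13_2 lc_b_rc_1_3 lc_b_rc_1_3 lc_b_rc_14_2 lc_b_rc_16_2 lc_b_rc_13_2) (@D3.rec (fun _ => (Cert rels S Gen.b)) lc_b_rc_15_2 lc_b_rc_16_2 lc_b_rc_13_2 lc_b_rc_11_2 lc_b_rc_13_2 lc_b_rc_13_2 lc_b_rc_15_2 lc_b_rc_13_2 lc_b_rc_13_2 lc_b_rc_11_2 lc_b_Cert_tree lc_b_rc_9_0 lc_b_rc_1_3 lc_b_rc_1_3 lc_b_rc_16_2 lc_b_rc_13_2 lc_b_rc_11_2 lc_b_rc_13_2 lc_b_rc_14_2 lc_b_rc_16_2 lc_b_rc_9_1 lc_b_rc_14_2 lc_b_rc_1_3 lc_b_rc_1_3 lc_b_rc_1_3 lc_b_rc_16_2 lc_b_rc_13_2 lc_b_rc_10_4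 lc_b_rc_13_2 lc_b_rc_11_2 lc_b_rc_15_2 lc_b_rc_11_2) (@D3.rec (fun _ => (Cert rels S Gen.b)) lc_b_rc_11_0 lc_b_rc_13_2 lc_b_rc_11_2 lc_b_rc_16_2 lc_b_rc_11_2 lc_b_rc_12_2 lc_b_rc_11_2 lc_b_rc_16_2 lc_b_rc_16_2 lc_b_rc_12_2 lc_b_rc_11_2 lc_b_rc_9_0 lc_b_rc_12_2 lc_b_rc_16_2 lc_b_rc_14_2 lc_b_rc_12_2 lc_b_rc_13_2 lc_b_rc_1_3 lc_b_rc_16_2 lc_b_rc_1_3 lc_b_rc_10_2 lc_b_rc_10_2 lc_b_rc_11_2 lc_b_rc_14_2 lc_b_rc_16_2 lc_b_rc_13_2 lc_b_rc_11_2 lc_b_rc_13_2 lc_b_rc_11_2 lc_b_rc_15_2 lc_b_rc_16_2 lc_b_rc_13_2) (@D3.rec (fun _ => (Cert rels S Gen.b)) lc_b_rc_11_2 lc_b_rc_11_2 lc_b_rc_13_2 lc_b_rc_13_2 lc_b_rc_11_2 lc_b_rc_13_2 lc_b_rc_11_2 lc_b_rc_10_2 lc_b_rc_10_2 lc_b_rc_10_2 lc_b_rc_11_2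 lc_b_rc_15_2 lc_b_rc_13_2 lc_b_rc_11_2 lc_b_rc_12_2 lc_b_rc_11_2 lc_b_rc_13_2 lc_b_rc_11_2 lc_b_rc_16_2 lc_b_rc_13_2 lc_b_rc_10_2 lc_b_rc_10_2 lc_b_rc_11_2 lc_b_rc_12_2 lc_b_rc_13_2 lc_b_rc_11_2 lc_b_Cert_tree lc_b_rc_12_2 lc_b_rc_11_2 lc_b_rc_16_2 lc_b_rc_13_2 lc_b_rc_1_1) (@D3.rec (fun _ => (Cert rels S Gen.b)) lc_b_rc_45_11 lc_b_rc_10_2 lc_b_rc_11_2 lc_b_rc_1_3 lc_b_rc_1_3 lc_b_rc_1_3 lc_b_rc_15_2 lc_b_rc_16_2 lc_b_rc_13_2 lc_b_rc_16_2 lc_b_rc_13_2 lc_b_rc_11_2 lc_b_rc_13_2 lc_b_rc_11_2 lc_b_Cert_tree lc_b_rc_13_2 lc_b_rc_11_2 lc_b_Cert_tree lc_b_rc_9_0 lc_b_rc_1_3 lc_b_rc_1_3 lc_b_rc_1_3 lc_b_rc_16_2 lc_b_rc_13_2 lc_b_rc_11_2 lc_b_rc_13_2 lc_b_rc_11_2 lc_b_rc_11_2 lc_b_rc_11_2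 lc_b_rc_11_2 lc_b_rc_11_2 lc_b_rc_12_2) (@D3.rec (fun _ => (Cert rels S Gen.b)) lc_b_rc_11_2 lc_b_rc_10_2 lc_b_rc_13_2 lc_b_rc_11_2 lc_b_rc_11_0 lc_b_rc_11_2 lc_b_rc_11_2 lc_b_rc_10_2 lc_b_rc_15_2 lc_b_rc_11_2 lc_b_rc_13_2 lc_b_rc_11_2 lc_b_rc_10_2 lc_b_rc_10_2 lc_b_rc_10_2 lc_b_rc_11_2 lc_b_rc_15_2 lc_b_rc_13_2 lc_b_rc_12_2 lc_b_rc_11_2 lc_b_rc_13_2 lc_b_rc_11_2 lc_b_rc_10_2 lc_b_rc_10_2 lc_b_rc_13_2 lc_b_rc_11_2 lc_b_rc_13_2 lc_b_rc_13_2 lc_b_rc_12_2 lc_b_rc_11_2 lc_b_rc_11_2 lc_b_rc_13_2) (@D3.rec (fun _ => (Cert rels S Gen.b)) lc_b_rc_12_2 lc_b_rc_11_2 lc_b_rc_13_2 lc_b_rc_11_2 lc_b_rc_10_2 lc_b_rc_10_2 lc_b_rc_13_2 lc_b_rc_11_2 lc_b_rc_12_2 lc_b_rc_11_2 lc_b_rc_10_2 lc_b_rc_10_2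 lc_b_rc_14_2 lc_b_rc_12_2 lc_b_rc_13_2 lc_b_rc_11_2 lc_b_rc_10_2 lc_b_rc_10_2 lc_b_rc_13_2 lc_b_rc_16_2 lc_b_rc_10_2 lc_b_rc_10_2 lc_b_rc_10_2 lc_b_rc_11_2 lc_b_rc_13_2 lc_b_rc_10_2 lc_b_rc_12_2 lc_b_rc_11_2 lc_b_rc_13_2 lc_b_rc_11_2 lc_b_rc_16_2 lc_b_rc_13_2) (@D3.rec (fun _ => (Cert rels S Gen.b)) lc_b_rc_10_2 lc_b_rc_10_2 lc_b_rc_11_2 lc_b_rc_12_2 lc_b_rc_13_2 lc_b_rc_11_2 lc_b_Cert_tree lc_b_rc_12_2 lc_b_rc_11_2 lc_b_rc_16_2 lc_b_rc_13_2 lc_b_rc_10_2 lc_b_rc_11_2 lc_b_rc_10_2 lc_b_rc_16_2 lc_b_rc_9_0 lc_b_rc_13_0 lc_b_rc_16_2 lc_b_rc_16_2 lc_b_rc_12_2 lc_b_rc_13_2 lc_b_rc_12_2 lc_b_rc_13_2 lc_b_rc_15_2 lc_b_rc_14_2 lc_b_rc_13_2 lc_b_rc_12_2 lc_b_rc_11_2 lc_b_rc_13_2 lc_b_rc_47_28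 lc_b_rc_16_2 lc_b_rc_13_2) (@D3.rec (fun _ => (Cert rels S Gen.b)) lc_b_rc_10_2 lc_b_rc_10_2 lc_b_rc_11_2 lc_b_rc_12_2 lc_b_rc_13_2 lc_b_rc_11_2 lc_b_Cert_tree lc_b_rc_12_2 lc_b_rc_11_2 lc_b_rc_16_2 lc_b_rc_13_2 lc_b_rc_16_2 lc_b_rc_13_2 lc_b_rc_10_2 lc_b_rc_11_2 lc_b_Cert_tree lc_b_rc_12_2 lc_b_rc_9_0 lc_b_rc_12_2 lc_b_rc_11_2 lc_b_rc_11_2 lc_b_rc_9_0 lc_b_rc_11_2 lc_b_rc_10_2 lc_b_Cert_tree lc_b_rc_13_2 lc_b_rc_16_2 lc_b_rc_9_0 lc_b_rc_12_2 lc_b_rc_16_2 lc_b_rc_11_2 lc_b_rc_11_2) (@D3.rec (fun _ => (Cert rels S Gen.b)) lc_b_rc_13_2 lc_b_rc_11_2 lc_b_rc_10_2 lc_b_rc_10_2 lc_b_rc_10_2 lc_b_rc_15_2 lc_b_rc_14_2 lc_b_rc_13_2 lc_b_rc_11_2 lc_b_rc_13_2 lc_b_rc_11_2 lc_b_rc_10_2 lc_b_rc_10_2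 lc_b_rc_10_2 lc_b_rc_11_2 lc_b_rc_15_2 lc_b_rc_13_2 lc_b_rc_11_2 lc_b_rc_9_0 lc_b_rc_16_2 lc_b_rc_16_2 lc_b_rc_16_2 lc_b_rc_12_2 lc_b_rc_16_2 lc_b_rc_16_2 lc_b_rc_13_2 lc_b_rc_11_2 lc_b_rc_13_2 lc_b_rc_15_2 lc_b_rc_13_2 lc_b_rc_11_2 lc_b_rc_13_2) (@D3.rec (fun _ => (Cert rels S Gen.b)) lc_b_rc_11_2 lc_b_rc_1_1 lc_b_rc_13_2 lc_b_rc_11_2 lc_b_rc_13_2 lc_b_rc_16_2 lc_b_rc_13_2 lc_b_rc_11_2 lc_b_rc_14_2 lc_b_rc_11_2 lc_b_rc_15_2 lc_b_rc_11_2 lc_b_Cert_tree lc_b_rc_12_2 lc_b_rc_1_5 lc_b_rc_12_2 lc_b_rc_11_2 lc_b_rc_10_2 lc_b_rc_1_5 lc_b_rc_13_2 lc_b_rc_16_2 lc_b_rc_16_2 lc_b_rc_1_5 lc_b_rc_1_5 lc_b_rc_1_5 lc_b_rc_13_2 lc_b_rc_11_2 lc_b_rc_11_2 lc_b_rc_13_2 lc_b_rc_11_2 lc_b_rc_13_2 lc_b_rc_11_2)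 (@D3.rec (fun _ => (Cert rels S Gen.b)) lc_b_rc_10_2 lc_b_rc_10_2 lc_b_rc_10_2 lc_b_rc_11_2 lc_b_rc_15_2 lc_b_rc_13_2 lc_b_rc_11_2 lc_b_rc_12_2 lc_b_rc_11_2 lc_b_rc_13_2 lc_b_rc_11_2 lc_b_rc_16_2 lc_b_rc_13_2 lc_b_rc_10_2 lc_b_rc_10_2 lc_b_rc_11_2 lc_b_rc_12_2 lc_b_rc_13_2 lc_b_rc_11_2 lc_b_rc_46_43 lc_b_rc_16_2 lc_b_rc_16_2 lc_b_rc_11_2 lc_b_rc_13_2 lc_b_rc_13_2 lc_b_rc_13_2 lc_b_rc_11_2 lc_b_Cert_tree lc_b_rc_11_2 lc_b_Cert_tree lc_b_rc_12_2 lc_b_rc_9_0) (@D3.rec (fun _ => (Cert rels S Gen.b)) lc_b_rc_13_2 lc_b_rc_11_2 lc_b_rc_13_2 lc_b_rc_11_2 lc_b_Cert_tree lc_b_rc_45_29 lc_b_rc_45_47 lc_b_rc_45_29 lc_b_rc_9_0 lc_b_rc_45_74 lc_b_rc_14_2 lc_b_rc_12_2 lc_b_rc_13_2 lc_b_rc_12_2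 lc_b_rc_11_2 lc_b_rc_13_2 lc_b_rc_11_2 lc_b_rc_16_2 lc_b_rc_13_2 lc_b_rc_10_2 lc_b_rc_10_2 lc_b_rc_11_2 lc_b_rc_12_2 lc_b_rc_13_2 lc_b_rc_11_2 lc_b_Cert_tree lc_b_rc_12_2 lc_b_rc_11_2 lc_b_rc_16_2 lc_b_rc_13_2 lc_b_rc_1_1 lc_b_rc_45_20) (@D3.rec (fun _ => (Cert rels S Gen.b)) lc_b_rc_10_2 lc_b_rc_11_2 lc_b_rc_46_29 lc_b_rc_10_2 lc_b_rc_11_2 lc_b_rc_10_4 lc_b_rc_12_2 lc_b_rc_9_0 lc_b_rc_11_2 lc_b_Cert_tree lc_b_rc_12_2 lc_b_rc_9_0 lc_b_rc_9_1 lc_b_rc_11_0 lc_b_rc_9_0 lc_b_rc_1_1 lc_b_rc_1_3 lc_b_rc_1_3 lc_b_rc_45_29 lc_b_rc_9_0 lc_b_rc_14_2 lc_b_rc_12_2 lc_b_rc_13_2 lc_b_rc_10_2 lc_b_rc_15_2 lc_b_rc_14_2 lc_b_rc_13_2 lc_b_rc_14_2 lc_b_rc_13_2 lc_b_rc_15_2 lc_b_rc_1_3 lc_b_rc_1_3)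 (@D3.rec (fun _ => (Cert rels S Gen.b)) lc_b_rc_1_3 lc_b_rc_16_2 lc_b_rc_13_2 lc_b_rc_1_3 lc_b_rc_13_2 lc_b_rc_15_2 lc_b_rc_13_2 lc_b_rc_1_3 lc_b_rc_11_2 lc_b_rc_10_2 lc_b_rc_13_2 lc_b_rc_13_2 lc_b_rc_16_2 lc_b_Cert_tree lc_b_rc_13_2 lc_b_rc_16_2 lc_b_rc_11_2 lc_b_rc_14_2 lc_b_Cert_tree lc_b_rc_11_2 lc_b_rc_11_2 lc_b_rc_9_0 lc_b_rc_12_2 lc_b_rc_16_2 lc_b_rc_11_2 lc_b_rc_11_2 lc_b_rc_13_2 lc_b_rc_12_2 lc_b_rc_13_2 lc_b_rc_12_2 lc_b_rc_14_2 lc_b_rc_16_2) (@D3.rec (fun _ => (Cert rels S Gen.b)) lc_b_rc_13_2 lc_b_rc_15_2 lc_b_rc_14_2 lc_b_rc_13_2 lc_b_rc_14_2 lc_b_rc_10_2 lc_b_rc_11_2 lc_b_rc_15_2 lc_b_rc_13_2 lc_b_rc_13_2 lc_b_rc_16_2 lc_b_Cert_tree lc_b_rc_13_2 lc_b_rc_16_2 lc_b_rc_9_0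 lc_b_rc_12_2 lc_b_rc_16_2 lc_b_rc_13_2 lc_b_rc_16_2 lc_b_rc_16_2 lc_b_Cert_tree lc_b_rc_12_2 lc_b_rc_11_2 lc_b_rc_9_0 lc_b_rc_16_2 lc_b_rc_11_2 lc_b_rc_13_2 lc_b_rc_1_3 lc_b_rc_12_2 lc_b_rc_16_2 lc_b_rc_14_2 lc_b_rc_16_2) (@D3.rec (fun _ => (Cert rels S Gen.b)) lc_b_rc_13_2 lc_b_rc_11_2 lc_b_rc_11_2 lc_b_rc_13_2 lc_b_rc_13_2 lc_b_rc_15_2 lc_b_rc_13_2 lc_b_rc_11_2 lc_b_rc_13_2 lc_b_rc_9_1 lc_b_rc_9_0 lc_b_rc_16_2 lc_b_rc_12_2 lc_b_rc_13_2 lc_b_rc_1_3 lc_b_rc_16_2 lc_b_rc_13_2 lc_b_rc_1_3 lc_b_rc_13_2 lc_b_rc_11_2 lc_b_rc_16_2 lc_b_rc_12_2 lc_b_rc_16_2 lc_b_rc_16_2 lc_b_rc_1_3 lc_b_rc_16_2 lc_b_rc_16_2 lc_b_rc_13_2 lc_b_rc_16_2 lc_b_rc_16_2 lc_b_rc_12_0 lc_b_rc_12_2) (@D3.rec (fun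 _ => (Cert rels S Gen.b)) lc_b_rc_13_2 lc_b_rc_1_3 lc_b_rc_16_2 lc_b_rc_13_2 lc_b_rc_13_2 lc_b_rc_1_3 lc_b_rc_1_3 lc_b_rc_16_2 lc_b_rc_13_2 lc_b_rc_14_2 lc_b_rc_13_2 lc_b_rc_11_2 lc_b_rc_15_2 lc_b_rc_14_2 lc_b_rc_11_2 lc_b_rc_11_2 lc_b_rc_11_2 lc_b_Cert_tree lc_b_rc_45_38 lc_b_rc_1_3 lc_b_rc_47_42 lc_b_rc_1_3 lc_b_rc_11_2 lc_b_rc_47_21 lc_b_rc_16_0 lc_b_rc_10_2 lc_b_rc_10_2 lc_b_rc_11_2 lc_b_rc_10_2 lc_b_Cert_tree lc_b_rc_12_2 lc_b_rc_11_2)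
def ce_b_10 : D2 → D3 → (Cert rels S Gen.b) := @D2.rec (fun _ => D3 → (Cert rels S Gen.b)) (@D3.rec (fun _ => (Cert rels S Gen.b)) lc_b_rc_13_2 lc_b_rc_13_2 lc_b_rc_16_2 lc_b_Cert_tree lc_b_rc_13_2 lc_b_rc_16_2 lc_b_rc_9_0 lc_b_rc_12_2 lc_b_rc_16_2 lc_b_rc_13_2 lc_b_rc_16_2 lc_b_rc_16_2 lc_b_rc_11_0 lc_b_rc_12_2 lc_b_rc_11_2 lc_b_rc_9_0 lc_b_rc_12_2 lc_b_rc_16_2 lc_b_rc_11_2 lc_b_rc_11_2 lc_b_rc_13_2 lc_b_rc_1_3 lc_b_rc_12_2 lc_b_rc_16_2 lc_b_rc_11_2 lc_b_rc_14_2 lc_b_rc_16_2 lc_b_rc_13_2 lc_b_rc_11_2 lc_b_rc_11_2 lc_b_rc_13_2 lc_b_rc_11_2) (@D3.rec (fun _ => (Cert rels S Gen.b)) lc_b_rc_10_2 lc_b_rc_10_2 lc_b_rc_10_2 lc_b_rc_15_2 lc_b_rc_14_2 lc_b_rc_13_2 lc_b_rc_11_2 lc_b_rc_13_2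 lc_b_rc_11_2 lc_b_rc_10_2 lc_b_rc_10_2 lc_b_rc_10_2 lc_b_rc_11_2 lc_b_rc_15_2 lc_b_rc_13_2 lc_b_rc_11_2 lc_b_rc_12_2 lc_b_rc_11_2 lc_b_rc_13_2 lc_b_rc_11_2 lc_b_rc_10_2 lc_b_rc_10_2 lc_b_rc_13_2 lc_b_rc_11_2 lc_b_rc_16_2 lc_b_rc_16_2 lc_b_rc_9_0 lc_b_rc_16_2 lc_b_rc_16_2 lc_b_rc_16_2 lc_b_rc_1_3 lc_b_rc_12_2) (@D3.rec (fun _ => (Cert rels S Gen.b)) lc_b_rc_16_2 lc_b_rc_14_2 lc_b_rc_16_2 lc_b_rc_13_2 lc_b_rc_13_2 lc_b_rc_16_2 lc_b_rc_16_2 lc_b_rc_12_2 lc_b_rc_13_2 lc_b_rc_1_3 lc_b_rc_12_2 lc_b_rc_16_2 lc_b_rc_16_2 lc_b_rc_13_2 lc_b_rc_11_2 lc_b_rc_11_2 lc_b_rc_13_2 lc_b_rc_1_3 lc_b_rc_1_3 lc_b_rc_14_2 lc_b_rc_16_2 lc_b_rc_13_2 lc_b_rc_15_2 lc_b_rc_16_2 lc_b_rc_13_2 lc_b_rc_11_2 lc_b_rc_13_2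 lc_b_rc_13_2 lc_b_rc_15_2 lc_b_rc_13_2 lc_b_rc_11_2 lc_b_rc_13_2) (@D3.rec (fun _ => (Cert rels S Gen.b)) lc_b_rc_11_2 lc_b_Cert_tree lc_b_rc_1_3 lc_b_rc_16_2 lc_b_rc_13_2 lc_b_rc_16_2 lc_b_rc_1_3 lc_b_rc_13_2 lc_b_rc_12_2 lc_b_rc_13_2 lc_b_rc_14_2 lc_b_rc_16_2 lc_b_rc_11_2 lc_b_rc_13_2 lc_b_rc_1_3 lc_b_rc_13_2 lc_b_rc_13_2 lc_b_rc_9_0 lc_b_rc_11_0 lc_b_rc_11_2 lc_b_rc_1_3 lc_b_rc_1_3 lc_b_rc_1_3 lc_b_rc_16_2 lc_b_rc_13_2 lc_b_rc_10_4 lc_b_rc_13_2 lc_b_rc_11_2 lc_b_rc_15_2 lc_b_rc_11_2 lc_b_Cert_tree lc_b_rc_11_2) (@D3.rec (fun _ => (Cert rels S Gen.b)) lc_b_rc_46_22 lc_b_rc_45_47 lc_b_rc_9_0 lc_b_rc_11_2 lc_b_rc_10_2 lc_b_Cert_tree lc_b_rc_13_2 lc_b_rc_11_2 lc_b_rc_9_0 lc_b_rc_12_2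 lc_b_rc_16_2 lc_b_rc_14_2 lc_b_rc_12_2 lc_b_rc_13_2 lc_b_rc_16_2 lc_b_rc_9_0 lc_b_rc_13_2 lc_b_rc_16_2 lc_b_rc_16_2 lc_b_rc_1_3 lc_b_rc_12_2 lc_b_rc_16_2 lc_b_rc_11_2 lc_b_rc_16_2 lc_b_rc_11_2 lc_b_rc_16_2 lc_b_rc_1_3 lc_b_rc_16_2 lc_b_rc_16_2 lc_b_rc_1_3 lc_b_rc_1_3 lc_b_rc_16_2) (@D3.rec (fun _ => (Cert rels S Gen.b)) lc_b_rc_13_2 lc_b_rc_1_3 lc_b_rc_1_3 lc_b_rc_11_2 lc_b_rc_10_2 lc_b_rc_1_5 lc_b_rc_16_2 lc_b_Cert_tree lc_b_rc_11_2 lc_b_rc_9_0 lc_b_rc_12_2 lc_b_rc_16_2 lc_b_rc_11_2 lc_b_rc_13_2 lc_b_rc_1_3 lc_b_rc_16_2 lc_b_rc_47_7 lc_b_rc_10_2 lc_b_rc_13_2 lc_b_rc_16_2 lc_b_rc_9_0 lc_b_rc_16_2 lc_b_rc_13_2 lc_b_rc_1_3 lc_b_rc_16_2 lc_b_rc_13_2 lc_b_rc_13_2 lc_b_rc_16_2 lc_b_rc_13_2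 lc_b_rc_1_3 lc_b_rc_13_2 lc_b_rc_11_2) (@D3.rec (fun _ => (Cert rels S Gen.b)) lc_b_rc_13_2 lc_b_rc_1_3 lc_b_rc_13_2 lc_b_rc_11_2 lc_b_rc_9_0 lc_b_rc_1_3 lc_b_rc_11_2 lc_b_rc_45_20 lc_b_rc_10_2 lc_b_rc_11_2 lc_b_rc_10_2 lc_b_Cert_tree lc_b_rc_12_2 lc_b_rc_11_2 lc_b_rc_13_2 lc_b_rc_16_2 lc_b_Cert_tree lc_b_rc_16_2 lc_b_rc_9_0 lc_b_rc_12_2 lc_b_rc_16_2 lc_b_rc_13_2 lc_b_rc_16_2 lc_b_rc_16_2 lc_b_rc_9_1 lc_b_rc_12_2 lc_b_rc_11_2 lc_b_rc_9_0 lc_b_rc_12_2 lc_b_rc_16_2 lc_b_rc_11_2 lc_b_rc_11_2) (@D3.rec (fun _ => (Cert rels S Gen.b)) lc_b_rc_13_2 lc_b_rc_1_3 lc_b_rc_12_2 lc_b_rc_16_2 lc_b_rc_11_2 lc_b_rc_14_2 lc_b_rc_16_2 lc_b_rc_13_2 lc_b_rc_11_2 lc_b_rc_11_2 lc_b_rc_13_2 lc_b_rc_11_2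 lc_b_rc_10_2 lc_b_rc_10_2 lc_b_rc_15_2 lc_b_rc_14_2 lc_b_rc_11_2 lc_b_rc_13_2 lc_b_rc_11_2 lc_b_rc_10_2 lc_b_rc_10_2 lc_b_rc_10_2 lc_b_rc_11_2 lc_b_rc_15_2 lc_b_rc_13_2 lc_b_rc_11_2 lc_b_rc_12_2 lc_b_rc_11_2 lc_b_rc_13_2 lc_b_rc_11_2 lc_b_rc_10_2 lc_b_rc_10_2) (@D3.rec (fun _ => (Cert rels S Gen.b)) lc_b_rc_13_2 lc_b_rc_11_2 lc_b_rc_16_2 lc_b_rc_9_0 lc_b_rc_16_2 lc_b_rc_16_2 lc_b_rc_1_3 lc_b_rc_12_2 lc_b_rc_16_2 lc_b_rc_16_2 lc_b_rc_13_2 lc_b_rc_16_2 lc_b_rc_16_2 lc_b_rc_12_2 lc_b_rc_13_2 lc_b_rc_12_2 lc_b_rc_16_2 lc_b_rc_16_2 lc_b_rc_13_2 lc_b_rc_11_2 lc_b_rc_13_2 lc_b_rc_1_3 lc_b_rc_1_3 lc_b_rc_14_2 lc_b_rc_16_2 lc_b_rc_13_2 lc_b_rc_16_2 lc_b_rc_13_2 lc_b_rc_11_2 lc_b_rc_11_2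 lc_b_rc_13_2 lc_b_rc_13_2) (@D3.rec (fun _ => (Cert rels S Gen.b)) lc_b_rc_15_2 lc_b_rc_13_2 lc_b_rc_11_2 lc_b_rc_13_2 lc_b_rc_11_2 lc_b_rc_1_3 lc_b_rc_11_2 lc_b_rc_12_2 lc_b_rc_13_2 lc_b_rc_13_2 lc_b_rc_1_3 lc_b_rc_13_2 lc_b_rc_13_2 lc_b_rc_11_2 lc_b_rc_16_2 lc_b_rc_13_2 lc_b_rc_13_2 lc_b_rc_11_2 lc_b_rc_14_2 lc_b_rc_1_3 lc_b_rc_1_3 lc_b_rc_13_2 lc_b_rc_11_2 lc_b_rc_14_2 lc_b_rc_11_2 lc_b_rc_47_21 lc_b_rc_15_2 lc_b_rc_11_2 lc_b_rc_12_2 lc_b_rc_1_3 lc_b_Cert_tree lc_b_rc_12_2) (@D3.rec (fun _ => (Cert rels S Gen.b)) lc_b_rc_11_2 lc_b_rc_9_0 lc_b_rc_16_2 lc_b_rc_16_2 lc_b_rc_11_2 lc_b_rc_13_2 lc_b_rc_12_2 lc_b_rc_16_2 lc_b_rc_11_2 lc_b_rc_14_2 lc_b_rc_16_2 lc_b_rc_13_2 lc_b_rc_11_2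 lc_b_rc_13_2 lc_b_rc_11_2 lc_b_rc_13_2 lc_b_rc_11_2 lc_b_rc_10_2 lc_b_rc_11_2 lc_b_rc_12_2 lc_b_rc_11_2 lc_b_rc_13_2 lc_b_rc_11_2 lc_b_rc_10_2 lc_b_rc_10_2 lc_b_rc_13_2 lc_b_rc_11_2 lc_b_rc_16_2 lc_b_rc_13_2 lc_b_rc_14_2 lc_b_rc_16_2 lc_b_rc_13_2) (@D3.rec (fun _ => (Cert rels S Gen.b)) lc_b_rc_16_2 lc_b_rc_13_2 lc_b_rc_13_2 lc_b_rc_13_2 lc_b_rc_11_2 lc_b_rc_46_36 lc_b_rc_1_1 lc_b_rc_1_5 lc_b_rc_12_2 lc_b_rc_11_2 lc_b_rc_9_0 lc_b_rc_12_2 lc_b_rc_16_2 lc_b_rc_14_2 lc_b_rc_12_2 lc_b_rc_13_2 lc_b_rc_10_2 lc_b_rc_1_5 lc_b_rc_13_2 lc_b_rc_16_2 lc_b_rc_1_3 lc_b_rc_12_2 lc_b_rc_16_2 lc_b_rc_11_2 lc_b_rc_14_2 lc_b_rc_16_2 lc_b_rc_13_2 lc_b_rc_13_2 lc_b_rc_16_2 lc_b_rc_16_2 lc_b_rc_1_5 lc_b_rc_9_0)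 (@D3.rec (fun _ => (Cert rels S Gen.b)) lc_b_rc_1_5 lc_b_rc_13_2 lc_b_rc_11_2 lc_b_rc_11_2 lc_b_rc_13_2 lc_b_rc_1_3 lc_b_rc_1_3 lc_b_rc_11_2 lc_b_rc_14_2 lc_b_rc_16_2 lc_b_rc_13_2 lc_b_rc_11_2 lc_b_rc_13_2 lc_b_rc_11_2 lc_b_rc_15_2 lc_b_rc_16_2 lc_b_rc_13_2 lc_b_rc_11_2 lc_b_rc_11_2 lc_b_rc_13_2 lc_b_rc_13_2 lc_b_rc_11_2 lc_b_rc_13_2 lc_b_rc_11_2 lc_b_rc_10_2 lc_b_rc_10_2 lc_b_rc_10_2 lc_b_rc_11_2 lc_b_rc_15_2 lc_b_rc_13_2 lc_b_rc_12_2 lc_b_rc_11_2) (@D3.rec (fun _ => (Cert rels S Gen.b)) lc_b_rc_13_2 lc_b_rc_11_2 lc_b_rc_16_2 lc_b_rc_13_2 lc_b_rc_10_2 lc_b_rc_10_2 lc_b_rc_11_2 lc_b_rc_12_2 lc_b_rc_13_2 lc_b_rc_11_2 lc_b_Cert_tree lc_b_rc_12_2 lc_b_rc_11_2 lc_b_rc_16_2 lc_b_rc_13_2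 lc_b_rc_10_2 lc_b_rc_11_2 lc_b_rc_10_2 lc_b_rc_1_3 lc_b_rc_1_3 lc_b_rc_14_2 lc_b_rc_16_2 lc_b_rc_13_2 lc_b_rc_16_2 lc_b_rc_13_2 lc_b_rc_16_2 lc_b_rc_16_2 lc_b_rc_11_2 lc_b_rc_13_2 lc_b_rc_1_3 lc_b_rc_1_3 lc_b_rc_1_3) (@D3.rec (fun _ => (Cert rels S Gen.b)) lc_b_rc_15_2 lc_b_rc_16_2 lc_b_rc_13_2 lc_b_rc_16_2 lc_b_rc_13_2 lc_b_rc_11_2 lc_b_rc_13_2 lc_b_rc_11_2 lc_b_Cert_tree lc_b_rc_13_2 lc_b_rc_9_0 lc_b_rc_1_3 lc_b_rc_1_3 lc_b_rc_13_2 lc_b_rc_13_2 lc_b_rc_11_2 lc_b_rc_14_2 lc_b_rc_13_2 lc_b_rc_1_3 lc_b_rc_1_3 lc_b_rc_13_2 lc_b_rc_11_2 lc_b_rc_13_2 lc_b_rc_11_2 lc_b_rc_9_1 lc_b_rc_1_1 lc_b_rc_1_1 lc_b_rc_1_5 lc_b_rc_12_2 lc_b_rc_13_2 lc_b_rc_12_2 lc_b_rc_13_2) (@D3.rec (fun _ => (Cert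 rels S Gen.b)) lc_b_rc_1_3 lc_b_rc_12_2 lc_b_rc_16_2 lc_b_rc_14_2 lc_b_rc_16_2 lc_b_rc_13_2 lc_b_rc_15_2 lc_b_rc_14_2 lc_b_rc_13_2 lc_b_rc_1_3 lc_b_rc_11_2 lc_b_rc_10_2 lc_b_rc_10_2 lc_b_rc_10_2 lc_b_rc_11_2 lc_b_rc_13_2 lc_b_rc_11_2 lc_b_rc_15_2 lc_b_rc_16_2 lc_b_rc_13_2 lc_b_rc_11_2 lc_b_rc_12_2 lc_b_rc_11_2 lc_b_rc_13_2 lc_b_rc_11_2 lc_b_rc_16_2 lc_b_rc_13_2 lc_b_rc_16_2 lc_b_rc_13_2 lc_b_rc_11_2 lc_b_rc_12_2 lc_b_rc_13_2) (@D3.rec (fun _ => (Cert rels S Gen.b)) lc_b_rc_11_2 lc_b_Cert_tree lc_b_rc_12_2 lc_b_rc_11_2 lc_b_rc_13_2 lc_b_rc_11_2 lc_b_rc_16_2 lc_b_rc_13_2 lc_b_rc_10_2 lc_b_rc_10_2 lc_b_rc_11_2 lc_b_rc_12_2 lc_b_rc_13_2 lc_b_rc_11_2 lc_b_Cert_tree lc_b_rc_12_2 lc_b_rc_11_2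 lc_b_rc_16_2 lc_b_rc_13_2 lc_b_rc_16_2 lc_b_rc_13_2 lc_b_rc_10_2 lc_b_rc_11_2 lc_b_Cert_tree lc_b_rc_12_2 lc_b_rc_9_0 lc_b_rc_13_2 lc_b_rc_13_2 lc_b_rc_1_1 lc_b_rc_10_2 lc_b_rc_11_2 lc_b_rc_1_3) (@D3.rec (fun _ => (Cert rels S Gen.b)) lc_b_rc_1_3 lc_b_rc_1_3 lc_b_rc_16_2 lc_b_rc_13_2 lc_b_rc_11_2 lc_b_rc_13_2 lc_b_rc_11_2 lc_b_Cert_tree lc_b_rc_9_0 lc_b_rc_9_0 lc_b_rc_1_3 lc_b_rc_1_3 lc_b_rc_1_3 lc_b_rc_13_2 lc_b_rc_11_2 lc_b_rc_13_0 lc_b_rc_12_2 lc_b_rc_12_2 lc_b_rc_12_2 lc_b_rc_14_2 lc_b_rc_12_2 lc_b_rc_13_2 lc_b_rc_14_0 lc_b_rc_10_2 lc_b_rc_13_2 lc_b_rc_1_3 lc_b_rc_13_2 lc_b_rc_10_2 lc_b_rc_11_2 lc_b_rc_13_2 lc_b_rc_10_2 lc_b_rc_12_2) (@D3.rec (fun _ => (Cert rels S Gen.b)) lc_b_rc_11_2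 lc_b_rc_13_2 lc_b_rc_11_2 lc_b_rc_16_2 lc_b_rc_13_2 lc_b_rc_10_2 lc_b_rc_10_2 lc_b_rc_11_2 lc_b_rc_12_2 lc_b_rc_13_2 lc_b_rc_12_2 lc_b_rc_11_2 lc_b_rc_10_2 lc_b_rc_12_2 lc_b_rc_13_2 lc_b_rc_13_2 lc_b_rc_16_2 lc_b_rc_10_2 lc_b_rc_12_2 lc_b_rc_13_2 lc_b_rc_11_2 lc_b_rc_10_2 lc_b_rc_10_2 lc_b_rc_10_2 lc_b_rc_15_2 lc_b_rc_14_2 lc_b_rc_13_2 lc_b_rc_11_2 lc_b_rc_11_2 lc_b_rc_11_2 lc_b_rc_10_2 lc_b_rc_10_2) (@D3.rec (fun _ => (Cert rels S Gen.b)) lc_b_rc_16_2 lc_b_rc_10_2 lc_b_rc_10_2 lc_b_rc_10_2 lc_b_rc_10_2 lc_b_rc_12_2 lc_b_rc_11_2 lc_b_rc_13_2 lc_b_rc_16_2 lc_b_rc_12_2 lc_b_rc_11_2 lc_b_rc_16_2 lc_b_rc_13_2 lc_b_rc_16_2 lc_b_rc_13_2 lc_b_rc_10_2 lc_b_rc_11_2 lc_b_Cert_tree lc_b_rc_12_2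 lc_b_rc_1_1 lc_b_rc_9_0 lc_b_rc_11_2 lc_b_rc_14_2 lc_b_rc_16_2 lc_b_rc_13_2 lc_b_rc_13_2 lc_b_rc_13_2 lc_b_rc_13_2 lc_b_rc_15_2 lc_b_rc_14_2 lc_b_rc_11_2 lc_b_rc_12_2) (@D3.rec (fun _ => (Cert rels S Gen.b)) lc_b_rc_46_15 lc_b_rc_16_2 lc_b_rc_13_2 lc_b_rc_16_2 lc_b_rc_14_0 lc_b_rc_10_2 lc_b_rc_10_0 lc_b_Cert_tree lc_b_rc_46_15 lc_b_rc_47_28 lc_b_rc_9_0 lc_b_rc_12_2 lc_b_rc_16_2 lc_b_rc_16_2 lc_b_rc_11_2 lc_b_rc_9_0 lc_b_Cert_tree lc_b_rc_12_2 lc_b_rc_11_2 lc_b_rc_9_0 lc_b_rc_12_2 lc_b_rc_16_2 lc_b_rc_16_2 lc_b_rc_16_2 lc_b_rc_12_2 lc_b_rc_16_2 lc_b_rc_11_2 lc_b_rc_9_1 lc_b_rc_16_2 lc_b_rc_13_2 lc_b_rc_11_2 lc_b_rc_13_2) (@D3.rec (fun _ => (Cert rels S Gen.b)) lc_b_rc_11_2 lc_b_rc_13_2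 lc_b_rc_11_2 lc_b_rc_10_2 lc_b_rc_10_2 lc_b_rc_10_2 lc_b_rc_11_2 lc_b_rc_15_2 lc_b_rc_13_2 lc_b_rc_11_2 lc_b_rc_12_2 lc_b_rc_11_2 lc_b_rc_13_2 lc_b_rc_11_2 lc_b_rc_10_2 lc_b_rc_10_2 lc_b_rc_13_2 lc_b_rc_11_2 lc_b_rc_16_2 lc_b_rc_13_2 lc_b_rc_16_2 lc_b_rc_16_2 lc_b_rc_13_2 lc_b_rc_13_2 lc_b_rc_11_2 lc_b_rc_13_2 lc_b_rc_13_2 lc_b_rc_13_2 lc_b_rc_11_2 lc_b_Cert_tree lc_b_rc_11_2 lc_b_rc_12_2)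
def ce_b_11 : D2 → D3 → (Cert rels S Gen.b) := @D2.rec (fun _ => D3 → (Cert rels S Gen.b)) (@D3.rec (fun _ => (Cert rels S Gen.b)) lc_b_rc_11_2 lc_b_rc_11_2 lc_b_rc_11_2 lc_b_rc_12_2 lc_b_rc_11_2 lc_b_rc_47_21 lc_b_rc_9_0 lc_b_rc_12_2 lc_b_rc_11_2 lc_b_rc_14_2 lc_b_rc_12_2 lc_b_rc_13_2 lc_b_rc_11_2 lc_b_rc_10_2 lc_b_rc_12_2 lc_b_rc_13_2 lc_b_rc_16_2 lc_b_rc_16_2 lc_b_rc_11_2 lc_b_rc_12_2 lc_b_rc_11_2 lc_b_rc_10_2 lc_b_rc_9_1 lc_b_rc_13_2 lc_b_rc_11_2 lc_b_rc_11_2 lc_b_rc_13_2 lc_b_rc_13_2 lc_b_rc_12_2 lc_b_rc_11_2 lc_b_rc_13_2 lc_b_rc_11_2) (@D3.rec (fun _ => (Cert rels S Gen.b)) lc_b_rc_16_2 lc_b_rc_13_2 lc_b_rc_10_2 lc_b_rc_10_2 lc_b_rc_11_2 lc_b_rc_12_2 lc_b_rc_13_2 lc_b_rc_11_2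 lc_b_Cert_tree lc_b_rc_12_2 lc_b_rc_11_2 lc_b_rc_16_2 lc_b_rc_13_2 lc_b_rc_10_2 lc_b_rc_11_2 lc_b_rc_11_2 lc_b_rc_47_49 lc_b_rc_12_2 lc_b_rc_16_2 lc_b_rc_16_2 lc_b_rc_13_2 lc_b_rc_11_2 lc_b_Cert_tree lc_b_rc_11_2 lc_b_Cert_tree lc_b_rc_12_2 lc_b_rc_9_0 lc_b_rc_9_0 lc_b_rc_11_2 lc_b_rc_11_2 lc_b_rc_45_47 lc_b_rc_12_2) (@D3.rec (fun _ => (Cert rels S Gen.b)) lc_b_rc_9_0 lc_b_rc_1_3 lc_b_rc_15_2 lc_b_rc_14_2 lc_b_rc_13_2 lc_b_rc_12_2 lc_b_rc_11_2 lc_b_rc_16_2 lc_b_rc_13_2 lc_b_rc_16_2 lc_b_rc_13_2 lc_b_rc_10_2 lc_b_rc_11_2 lc_b_Cert_tree lc_b_rc_12_2 lc_b_rc_11_2 lc_b_Cert_tree lc_b_rc_12_2 lc_b_rc_9_0 lc_b_rc_13_2 lc_b_rc_13_2 lc_b_rc_14_2 lc_b_rc_11_2 lc_b_rc_11_2 lc_b_rc_47_21 lc_b_rc_12_2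 lc_b_rc_9_0 lc_b_rc_1_3 lc_b_rc_14_2 lc_b_rc_13_2 lc_b_rc_10_2 lc_b_rc_15_2) (@D3.rec (fun _ => (Cert rels S Gen.b)) lc_b_rc_1_3 lc_b_rc_13_2 lc_b_rc_9_1 lc_b_Cert_tree lc_b_rc_12_2 lc_b_rc_11_2 lc_b_rc_13_2 lc_b_rc_16_2 lc_b_Cert_tree lc_b_rc_13_2 lc_b_rc_16_2 lc_b_rc_9_0 lc_b_rc_12_2 lc_b_rc_16_2 lc_b_rc_13_2 lc_b_rc_16_2 lc_b_rc_16_2 lc_b_Cert_tree lc_b_rc_12_2 lc_b_rc_11_2 lc_b_rc_9_0 lc_b_rc_10_2 lc_b_rc_16_2 lc_b_rc_11_2 lc_b_rc_13_2 lc_b_rc_1_3 lc_b_rc_12_2 lc_b_rc_16_2 lc_b_rc_11_2 lc_b_rc_14_2 lc_b_rc_16_2 lc_b_rc_13_2) (@D3.rec (fun _ => (Cert rels S Gen.b)) lc_b_rc_11_2 lc_b_rc_11_2 lc_b_rc_13_2 lc_b_rc_13_2 lc_b_rc_46_22 lc_b_rc_1_3 lc_b_rc_1_3 lc_b_rc_1_3 lc_b_rc_16_2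 lc_b_rc_13_2 lc_b_rc_15_2 lc_b_rc_13_2 lc_b_rc_11_2 lc_b_rc_13_2 lc_b_rc_13_2 lc_b_rc_10_2 lc_b_rc_13_2 lc_b_rc_16_2 lc_b_rc_9_0 lc_b_rc_16_2 lc_b_rc_16_2 lc_b_rc_16_2 lc_b_rc_1_3 lc_b_rc_12_2 lc_b_rc_16_2 lc_b_rc_16_2 lc_b_rc_13_2 lc_b_rc_16_2 lc_b_rc_16_2 lc_b_rc_9_0 lc_b_rc_16_2 lc_b_rc_12_2) (@D3.rec (fun _ => (Cert rels S Gen.b)) lc_b_rc_13_2 lc_b_rc_1_3 lc_b_rc_16_2 lc_b_rc_13_2 lc_b_rc_13_2 lc_b_rc_1_3 lc_b_rc_1_3 lc_b_rc_14_2 lc_b_rc_16_2 lc_b_rc_13_2 lc_b_rc_16_2 lc_b_rc_13_2 lc_b_rc_11_2 lc_b_rc_11_2 lc_b_rc_13_2 lc_b_rc_13_2 lc_b_rc_11_2 lc_b_rc_11_2 lc_b_Cert_tree lc_b_rc_1_3 lc_b_rc_16_2 lc_b_rc_1_3 lc_b_rc_13_2 lc_b_rc_11_2 lc_b_rc_1_3 lc_b_rc_11_2 lc_b_rc_12_2 lc_b_rc_16_2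 lc_b_rc_13_2 lc_b_rc_16_2 lc_b_rc_1_3 lc_b_rc_13_2) (@D3.rec (fun _ => (Cert rels S Gen.b)) lc_b_rc_13_2 lc_b_rc_11_2 lc_b_rc_16_2 lc_b_rc_11_2 lc_b_rc_13_2 lc_b_rc_13_2 lc_b_rc_1_3 lc_b_rc_13_2 lc_b_rc_11_2 lc_b_rc_11_2 lc_b_rc_1_3 lc_b_rc_1_3 lc_b_rc_13_2 lc_b_rc_11_2 lc_b_rc_14_2 lc_b_rc_47_42 lc_b_rc_15_2 lc_b_rc_11_2 lc_b_Cert_tree lc_b_rc_45_56 lc_b_rc_9_0 lc_b_rc_1_3 lc_b_rc_11_2 lc_b_rc_10_2 lc_b_Cert_tree lc_b_rc_11_2 lc_b_rc_9_0 lc_b_rc_12_2 lc_b_rc_16_2 lc_b_rc_14_2 lc_b_rc_12_2 lc_b_rc_13_2) (@D3.rec (fun _ => (Cert rels S Gen.b)) lc_b_rc_16_2 lc_b_rc_12_2 lc_b_rc_16_2 lc_b_rc_9_0 lc_b_rc_14_2 lc_b_rc_16_2 lc_b_rc_16_2 lc_b_rc_16_2 lc_b_rc_1_3 lc_b_rc_12_2 lc_b_rc_16_2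 lc_b_rc_11_2 lc_b_rc_14_2 lc_b_rc_16_2 lc_b_rc_13_2 lc_b_rc_13_2 lc_b_rc_16_2 lc_b_rc_16_2 lc_b_rc_14_0 lc_b_rc_11_0 lc_b_rc_12_2 lc_b_rc_13_2 lc_b_rc_1_3 lc_b_rc_12_2 lc_b_rc_16_2 lc_b_rc_11_2 lc_b_rc_13_0 lc_b_rc_16_2 lc_b_rc_13_2 lc_b_rc_11_2 lc_b_rc_11_2 lc_b_rc_13_2) (@D3.rec (fun _ => (Cert rels S Gen.b)) lc_b_rc_1_3 lc_b_rc_1_3 lc_b_rc_11_2 lc_b_rc_14_2 lc_b_rc_16_2 lc_b_rc_13_2 lc_b_rc_11_2 lc_b_rc_13_2 lc_b_rc_11_2 lc_b_rc_15_2 lc_b_rc_16_2 lc_b_rc_13_2 lc_b_rc_11_2 lc_b_rc_11_2 lc_b_rc_13_2 lc_b_rc_13_2 lc_b_rc_11_2 lc_b_rc_11_2 lc_b_rc_10_2 lc_b_rc_10_2 lc_b_rc_10_2 lc_b_rc_15_2 lc_b_rc_13_2 lc_b_rc_11_2 lc_b_rc_12_2 lc_b_rc_11_2 lc_b_rc_13_2 lc_b_rc_11_2 lc_b_rc_16_2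 lc_b_rc_13_2 lc_b_rc_10_2 lc_b_rc_10_2) (@D3.rec (fun _ => (Cert rels S Gen.b)) lc_b_rc_11_2 lc_b_rc_12_2 lc_b_rc_13_2 lc_b_rc_11_2 lc_b_Cert_tree lc_b_rc_12_2 lc_b_rc_11_2 lc_b_rc_10_2 lc_b_rc_16_2 lc_b_rc_16_2 lc_b_rc_13_2 lc_b_rc_16_2 lc_b_rc_1_3 lc_b_rc_14_2 lc_b_rc_16_2 lc_b_rc_13_2 lc_b_rc_16_2 lc_b_rc_13_2 lc_b_rc_16_2 lc_b_rc_16_2 lc_b_rc_16_2 lc_b_rc_13_2 lc_b_rc_1_3 lc_b_rc_16_2 lc_b_rc_13_2 lc_b_rc_13_2 lc_b_rc_11_2 lc_b_rc_13_2 lc_b_rc_13_2 lc_b_rc_1_3 lc_b_rc_1_3 lc_b_rc_1_3) (@D3.rec (fun _ => (Cert rels S Gen.b)) lc_b_rc_15_2 lc_b_rc_16_2 lc_b_rc_13_2 lc_b_rc_16_2 lc_b_rc_13_2 lc_b_rc_11_2 lc_b_rc_13_2 lc_b_rc_11_2 lc_b_Cert_tree lc_b_rc_11_2 lc_b_Cert_tree lc_b_Cert_tree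 lc_b_rc_9_0 lc_b_rc_11_2 lc_b_rc_1_3 lc_b_rc_13_2 lc_b_rc_11_2 lc_b_rc_14_2 lc_b_rc_11_2 lc_b_Cert_tree lc_b_rc_11_2 lc_b_rc_1_3 lc_b_rc_11_2 lc_b_rc_13_2 lc_b_rc_45_47 lc_b_rc_47_35 lc_b_rc_1_3 lc_b_rc_1_3 lc_b_rc_13_2 lc_b_rc_11_2 lc_b_rc_13_2 lc_b_rc_11_2) (@D3.rec (fun _ => (Cert rels S Gen.b)) lc_b_rc_10_4 lc_b_rc_45_47 lc_b_rc_9_0 lc_b_rc_13_0 lc_b_rc_45_20 lc_b_rc_1_3 lc_b_rc_11_2 lc_b_rc_9_0 lc_b_rc_12_2 lc_b_rc_16_2 lc_b_rc_1_1 lc_b_rc_1_1 lc_b_rc_13_2 lc_b_rc_1_3 lc_b_rc_12_2 lc_b_rc_16_2 lc_b_rc_16_2 lc_b_rc_13_2 lc_b_rc_15_2 lc_b_rc_14_2 lc_b_rc_13_2 lc_b_rc_16_2 lc_b_rc_1_3 lc_b_rc_11_2 lc_b_rc_16_2 lc_b_rc_1_3 lc_b_rc_13_2 lc_b_rc_11_2 lc_b_rc_11_2 lc_b_rc_16_2 lc_b_rc_16_2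 lc_b_rc_9_0) (@D3.rec (fun _ => (Cert rels S Gen.b)) lc_b_rc_16_2 lc_b_rc_13_2 lc_b_rc_14_0 lc_b_rc_16_2 lc_b_rc_47_35 lc_b_rc_12_2 lc_b_rc_13_2 lc_b_rc_13_2 lc_b_rc_16_2 lc_b_rc_12_2 lc_b_rc_16_2 lc_b_rc_13_2 lc_b_rc_1_3 lc_b_rc_13_2 lc_b_rc_11_2 lc_b_rc_13_2 lc_b_rc_11_2 lc_b_rc_1_3 lc_b_rc_11_2 lc_b_rc_12_2 lc_b_rc_12_2 lc_b_rc_1_3 lc_b_rc_11_2 lc_b_rc_1_3 lc_b_rc_11_2 lc_b_rc_10_2 lc_b_Cert_tree lc_b_rc_12_2 lc_b_rc_11_2 lc_b_rc_9_0 lc_b_rc_12_2 lc_b_rc_16_2) (@D3.rec (fun _ => (Cert rels S Gen.b)) lc_b_rc_14_2 lc_b_rc_12_2 lc_b_rc_13_2 lc_b_rc_14_2 lc_b_rc_16_2 lc_b_rc_9_0 lc_b_rc_16_2 lc_b_rc_16_2 lc_b_rc_1_3 lc_b_rc_12_2 lc_b_rc_16_2 lc_b_rc_11_2 lc_b_rc_12_2 lc_b_rc_16_2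 lc_b_rc_13_2 lc_b_rc_16_2 lc_b_rc_16_2 lc_b_rc_13_0 lc_b_rc_16_2 lc_b_rc_12_2 lc_b_rc_13_2 lc_b_rc_12_2 lc_b_rc_16_2 lc_b_rc_11_2 lc_b_rc_10_2 lc_b_rc_16_2 lc_b_rc_13_2 lc_b_rc_11_2 lc_b_rc_13_2 lc_b_rc_1_3 lc_b_rc_1_3 lc_b_rc_11_2) (@D3.rec (fun _ => (Cert rels S Gen.b)) lc_b_rc_14_2 lc_b_rc_16_2 lc_b_rc_13_2 lc_b_rc_11_2 lc_b_rc_13_2 lc_b_rc_11_2 lc_b_rc_10_2 lc_b_rc_16_2 lc_b_rc_13_2 lc_b_rc_11_2 lc_b_rc_11_2 lc_b_rc_13_2 lc_b_rc_13_2 lc_b_rc_11_2 lc_b_rc_13_2 lc_b_rc_11_2 lc_b_rc_10_2 lc_b_rc_10_2 lc_b_rc_15_2 lc_b_rc_12_2 lc_b_rc_11_2 lc_b_rc_13_2 lc_b_rc_11_2 lc_b_rc_16_2 lc_b_rc_13_2 lc_b_rc_10_2 lc_b_rc_10_2 lc_b_rc_11_2 lc_b_rc_12_2 lc_b_rc_13_2 lc_b_rc_11_2 lc_b_rc_12_2)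 (@D3.rec (fun _ => (Cert rels S Gen.b)) lc_b_rc_12_2 lc_b_rc_11_2 lc_b_rc_10_2 lc_b_rc_16_2 lc_b_rc_16_2 lc_b_rc_13_2 lc_b_rc_1_3 lc_b_rc_16_2 lc_b_rc_13_2 lc_b_rc_13_2 lc_b_rc_11_2 lc_b_rc_16_2 lc_b_rc_13_2 lc_b_rc_16_2 lc_b_rc_13_2 lc_b_rc_13_2 lc_b_rc_11_2 lc_b_rc_13_2 lc_b_rc_1_3 lc_b_rc_1_3 lc_b_rc_16_2 lc_b_rc_13_2 lc_b_rc_11_2 lc_b_rc_13_2 lc_b_rc_11_2 lc_b_rc_12_2 lc_b_rc_13_2 lc_b_rc_11_2 lc_b_rc_11_2 lc_b_rc_12_2 lc_b_rc_1_3 lc_b_rc_10_2) (@D3.rec (fun _ => (Cert rels S Gen.b)) lc_b_rc_12_2 lc_b_rc_11_2 lc_b_rc_1_3 lc_b_rc_11_2 lc_b_rc_11_2 lc_b_rc_11_2 lc_b_rc_12_2 lc_b_rc_1_3 lc_b_rc_1_3 lc_b_rc_11_2 lc_b_rc_12_2 lc_b_rc_9_0 lc_b_rc_9_1 lc_b_rc_16_2 lc_b_rc_12_2 lc_b_rc_13_2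 lc_b_rc_16_2 lc_b_rc_13_2 lc_b_rc_13_2 lc_b_rc_11_2 lc_b_rc_14_2 lc_b_rc_16_2 lc_b_rc_13_2 lc_b_rc_11_2 lc_b_rc_13_2 lc_b_rc_11_2 lc_b_rc_16_2 lc_b_rc_13_2 lc_b_rc_11_2 lc_b_rc_13_2 lc_b_rc_12_2 lc_b_rc_13_2) (@D3.rec (fun _ => (Cert rels S Gen.b)) lc_b_rc_11_2 lc_b_rc_16_2 lc_b_rc_13_2 lc_b_rc_12_2 lc_b_rc_12_2 lc_b_rc_13_2 lc_b_rc_12_2 lc_b_rc_13_2 lc_b_rc_11_2 lc_b_rc_10_2 lc_b_rc_13_2 lc_b_rc_16_2 lc_b_rc_13_2 lc_b_rc_13_2 lc_b_rc_11_2 lc_b_rc_11_2 lc_b_rc_16_2 lc_b_rc_12_2 lc_b_rc_11_2 lc_b_rc_12_2 lc_b_rc_13_2 lc_b_rc_1_3 lc_b_rc_12_2 lc_b_rc_16_2 lc_b_rc_11_2 lc_b_rc_14_2 lc_b_rc_16_2 lc_b_rc_13_2 lc_b_rc_15_2 lc_b_rc_14_2 lc_b_rc_13_2 lc_b_rc_11_2) (@D3.rec (fun _ => (Cert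 rels S Gen.b)) lc_b_rc_10_2 lc_b_rc_13_2 lc_b_rc_12_2 lc_b_rc_1_3 lc_b_rc_11_2 lc_b_rc_14_2 lc_b_rc_16_2 lc_b_rc_13_2 lc_b_rc_11_2 lc_b_rc_13_2 lc_b_rc_11_2 lc_b_rc_14_2 lc_b_rc_16_2 lc_b_rc_13_2 lc_b_rc_11_2 lc_b_rc_16_2 lc_b_rc_16_2 lc_b_rc_11_2 lc_b_rc_12_0 lc_b_rc_11_2 lc_b_rc_10_2 lc_b_rc_1_5 lc_b_rc_13_2 lc_b_rc_11_2 lc_b_rc_11_2 lc_b_rc_13_2 lc_b_rc_1_3 lc_b_rc_14_2 lc_b_rc_1_3 lc_b_rc_1_3 lc_b_rc_11_2 lc_b_rc_13_2) (@D3.rec (fun _ => (Cert rels S Gen.b)) lc_b_rc_11_2 lc_b_rc_15_2 lc_b_rc_16_2 lc_b_rc_13_2 lc_b_rc_11_2 lc_b_rc_12_2 lc_b_rc_11_2 lc_b_rc_13_2 lc_b_rc_11_2 lc_b_rc_16_2 lc_b_rc_13_2 lc_b_rc_16_2 lc_b_rc_13_2 lc_b_rc_11_2 lc_b_rc_12_2 lc_b_rc_13_2 lc_b_rc_11_2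 lc_b_Cert_tree lc_b_rc_12_2 lc_b_rc_11_2 lc_b_rc_13_2 lc_b_rc_11_2 lc_b_rc_16_2 lc_b_rc_13_2 lc_b_rc_10_2 lc_b_rc_10_2 lc_b_rc_11_2 lc_b_rc_12_2 lc_b_rc_13_2 lc_b_rc_12_2 lc_b_rc_11_2 lc_b_rc_16_2) (@D3.rec (fun _ => (Cert rels S Gen.b)) lc_b_rc_13_2 lc_b_rc_16_2 lc_b_rc_13_2 lc_b_rc_10_2 lc_b_rc_11_2 lc_b_Cert_tree lc_b_rc_12_2 lc_b_rc_16_2 lc_b_rc_9_0 lc_b_rc_13_2 lc_b_rc_13_2 lc_b_rc_11_2 lc_b_rc_1_3 lc_b_rc_1_3 lc_b_rc_16_2 lc_b_rc_13_2 lc_b_rc_13_2 lc_b_rc_11_2 lc_b_rc_16_2 lc_b_rc_13_2 lc_b_rc_1_3 lc_b_rc_1_3 lc_b_rc_16_2 lc_b_rc_13_2 lc_b_rc_11_2 lc_b_rc_13_2 lc_b_rc_11_2 lc_b_Cert_tree lc_b_rc_9_0 lc_b_rc_1_3 lc_b_rc_11_2 lc_b_rc_11_2) (@D3.rec (fun _ => (Cert rels S Gen.b))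 lc_b_rc_1_3 lc_b_rc_1_3 lc_b_rc_11_2 lc_b_rc_10_4 lc_b_rc_14_2 lc_b_rc_16_2 lc_b_rc_13_2 lc_b_rc_10_4 lc_b_rc_13_2 lc_b_rc_13_2 lc_b_rc_1_3 lc_b_rc_1_3 lc_b_rc_14_2 lc_b_rc_16_2 lc_b_rc_13_2 lc_b_rc_15_2 lc_b_rc_16_2 lc_b_rc_13_2 lc_b_rc_15_2 lc_b_rc_14_2 lc_b_rc_11_2 lc_b_rc_11_2 lc_b_rc_13_2 lc_b_rc_11_2 lc_b_rc_10_2 lc_b_rc_10_2 lc_b_rc_10_2 lc_b_rc_12_2 lc_b_rc_11_2 lc_b_rc_13_2 lc_b_rc_11_2 lc_b_rc_16_2)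
def ce_b_12 : D2 → D3 → (Cert rels S Gen.b) := @D2.rec (fun _ => D3 → (Cert rels S Gen.b)) (@D3.rec (fun _ => (Cert rels S Gen.b)) lc_b_rc_13_2 lc_b_rc_16_2 lc_b_rc_13_2 lc_b_rc_11_2 lc_b_rc_12_2 lc_b_rc_12_2 lc_b_rc_11_2 lc_b_rc_16_2 lc_b_rc_13_2 lc_b_rc_16_2 lc_b_rc_11_2 lc_b_rc_13_2 lc_b_rc_11_2 lc_b_Cert_tree lc_b_rc_12_2 lc_b_rc_14_2 lc_b_rc_9_0 lc_b_rc_12_2 lc_b_rc_11_2 lc_b_rc_16_2 lc_b_rc_13_2 lc_b_rc_16_2 lc_b_rc_13_2 lc_b_rc_10_2 lc_b_rc_11_2 lc_b_Cert_tree lc_b_rc_12_2 lc_b_rc_16_2 lc_b_rc_9_0 lc_b_rc_13_2 lc_b_rc_13_2 lc_b_rc_16_2) (@D3.rec (fun _ => (Cert rels S Gen.b)) lc_b_rc_13_2 lc_b_rc_16_2 lc_b_Cert_tree lc_b_rc_13_2 lc_b_rc_11_2 lc_b_rc_9_0 lc_b_rc_11_2 lc_b_rc_1_3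 lc_b_rc_1_3 lc_b_rc_1_3 lc_b_rc_13_2 lc_b_rc_11_2 lc_b_Cert_tree lc_b_rc_12_2 lc_b_rc_9_0 lc_b_rc_1_3 lc_b_rc_1_3 lc_b_rc_12_2 lc_b_rc_14_2 lc_b_rc_13_2 lc_b_rc_10_0 lc_b_rc_13_2 lc_b_rc_10_2 lc_b_rc_12_2 lc_b_rc_1_3 lc_b_rc_13_2 lc_b_rc_16_2 lc_b_rc_12_2 lc_b_rc_11_2 lc_b_rc_13_2 lc_b_rc_16_2 lc_b_rc_16_2) (@D3.rec (fun _ => (Cert rels S Gen.b)) lc_b_rc_16_2 lc_b_rc_13_2 lc_b_rc_10_2 lc_b_rc_11_2 lc_b_rc_12_2 lc_b_rc_13_2 lc_b_rc_16_2 lc_b_rc_13_2 lc_b_rc_11_2 lc_b_rc_12_2 lc_b_rc_11_2 lc_b_rc_10_2 lc_b_rc_10_2 lc_b_rc_15_2 lc_b_rc_14_2 lc_b_rc_11_2 lc_b_rc_12_2 lc_b_rc_11_2 lc_b_rc_11_2 lc_b_rc_11_2 lc_b_rc_11_2 lc_b_rc_13_2 lc_b_rc_10_2 lc_b_rc_10_2 lc_b_rc_16_2 lc_b_rc_16_2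 lc_b_rc_16_2 lc_b_rc_1_5 lc_b_rc_11_2 lc_b_rc_47_49 lc_b_rc_9_0 lc_b_rc_12_2) (@D3.rec (fun _ => (Cert rels S Gen.b)) lc_b_rc_16_2 lc_b_rc_13_2 lc_b_rc_11_2 lc_b_rc_11_2 lc_b_rc_11_2 lc_b_Cert_tree lc_b_rc_13_2 lc_b_rc_13_2 lc_b_rc_16_2 lc_b_rc_13_2 lc_b_rc_15_2 lc_b_rc_11_2 lc_b_rc_47_14 lc_b_rc_12_2 lc_b_rc_9_0 lc_b_rc_9_0 lc_b_rc_12_2 lc_b_rc_16_2 lc_b_rc_14_2 lc_b_rc_12_2 lc_b_rc_13_2 lc_b_rc_16_2 lc_b_rc_1_3 lc_b_rc_15_0 lc_b_rc_13_2 lc_b_rc_16_2 lc_b_rc_11_2 lc_b_rc_16_2 lc_b_rc_13_2 lc_b_rc_11_2 lc_b_rc_13_2 lc_b_rc_11_2) (@D3.rec (fun _ => (Cert rels S Gen.b)) lc_b_rc_16_2 lc_b_rc_13_2 lc_b_rc_11_2 lc_b_rc_13_2 lc_b_rc_13_2 lc_b_rc_12_2 lc_b_rc_11_2 lc_b_rc_13_2 lc_b_rc_11_2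 lc_b_rc_16_2 lc_b_rc_13_2 lc_b_rc_10_2 lc_b_rc_10_2 lc_b_rc_11_2 lc_b_rc_12_2 lc_b_rc_13_2 lc_b_rc_11_2 lc_b_Cert_tree lc_b_rc_12_2 lc_b_rc_11_2 lc_b_rc_10_2 lc_b_rc_13_2 lc_b_rc_11_2 lc_b_rc_16_2 lc_b_rc_13_2 lc_b_rc_11_2 lc_b_rc_11_2 lc_b_rc_12_2 lc_b_rc_11_2 lc_b_Cert_tree lc_b_rc_9_0 lc_b_rc_10_2) (@D3.rec (fun _ => (Cert rels S Gen.b)) lc_b_rc_12_2 lc_b_rc_1_3 lc_b_rc_45_29 lc_b_rc_12_2 lc_b_rc_45_29 lc_b_rc_45_56 lc_b_rc_45_65 lc_b_rc_12_2 lc_b_rc_11_0 lc_b_rc_12_2 lc_b_rc_13_2 lc_b_rc_15_2 lc_b_rc_14_2 lc_b_rc_13_2 lc_b_rc_11_2 lc_b_rc_13_2 lc_b_rc_14_0 lc_b_rc_1_3 lc_b_rc_13_2 lc_b_rc_11_2 lc_b_rc_16_2 lc_b_rc_16_2 lc_b_rc_12_2 lc_b_rc_11_2 lc_b_rc_12_2 lc_b_rc_11_2 lc_b_rc_12_2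 lc_b_rc_13_2 lc_b_rc_10_2 lc_b_rc_13_2 lc_b_rc_11_2 lc_b_rc_12_2) (@D3.rec (fun _ => (Cert rels S Gen.b)) lc_b_rc_13_2 lc_b_rc_11_2 lc_b_Cert_tree lc_b_rc_12_2 lc_b_rc_11_2 lc_b_rc_16_2 lc_b_rc_13_2 lc_b_rc_16_2 lc_b_rc_13_2 lc_b_rc_10_2 lc_b_rc_11_2 lc_b_Cert_tree lc_b_rc_12_2 lc_b_rc_11_2 lc_b_Cert_tree lc_b_rc_12_2 lc_b_rc_9_0 lc_b_rc_13_2 lc_b_rc_13_2 lc_b_rc_11_2 lc_b_rc_12_2 lc_b_rc_47_49 lc_b_rc_47_7 lc_b_rc_11_2 lc_b_rc_11_2 lc_b_Cert_tree lc_b_rc_12_2 lc_b_rc_9_0 lc_b_rc_9_0 lc_b_rc_1_3 lc_b_rc_1_3 lc_b_rc_15_2) (@D3.rec (fun _ => (Cert rels S Gen.b)) lc_b_rc_14_2 lc_b_rc_11_2 lc_b_rc_13_2 lc_b_rc_13_2 lc_b_rc_16_2 lc_b_rc_13_2 lc_b_rc_16_2 lc_b_Cert_tree lc_b_rc_13_2 lc_b_rc_11_2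 lc_b_Cert_tree lc_b_rc_12_2 lc_b_rc_9_0 lc_b_rc_12_2 lc_b_rc_9_0 lc_b_rc_1_3 lc_b_rc_11_2 lc_b_rc_10_2 lc_b_rc_9_0 lc_b_rc_12_2 lc_b_rc_16_2 lc_b_rc_14_2 lc_b_rc_12_2 lc_b_rc_13_2 lc_b_rc_13_2 lc_b_rc_16_2 lc_b_rc_9_0 lc_b_rc_9_0 lc_b_rc_16_2 lc_b_rc_16_2 lc_b_rc_16_2 lc_b_rc_1_3) (@D3.rec (fun _ => (Cert rels S Gen.b)) lc_b_rc_12_2 lc_b_rc_16_2 lc_b_rc_11_2 lc_b_rc_12_2 lc_b_rc_16_2 lc_b_rc_13_2 lc_b_rc_16_2 lc_b_rc_16_2 lc_b_rc_9_0 lc_b_rc_14_0 lc_b_rc_16_2 lc_b_rc_12_2 lc_b_rc_13_2 lc_b_rc_1_3 lc_b_rc_16_2 lc_b_rc_9_0 lc_b_rc_13_2 lc_b_rc_13_2 lc_b_rc_1_3 lc_b_rc_1_3 lc_b_rc_11_2 lc_b_rc_14_2 lc_b_rc_16_2 lc_b_rc_13_2 lc_b_rc_11_2 lc_b_rc_13_2 lc_b_rc_11_2 lc_b_rc_10_2 lc_b_rc_16_2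 lc_b_rc_13_2 lc_b_rc_11_2 lc_b_rc_11_2) (@D3.rec (fun _ => (Cert rels S Gen.b)) lc_b_rc_13_2 lc_b_rc_13_2 lc_b_rc_11_2 lc_b_rc_10_2 lc_b_rc_1_3 lc_b_rc_14_2 lc_b_rc_16_2 lc_b_rc_16_2 lc_b_rc_13_2 lc_b_rc_16_2 lc_b_rc_10_0 lc_b_rc_11_2 lc_b_Cert_tree lc_b_rc_16_2 lc_b_rc_16_2 lc_b_rc_13_2 lc_b_rc_16_2 lc_b_rc_1_3 lc_b_rc_16_2 lc_b_rc_13_2 lc_b_rc_13_2 lc_b_rc_11_2 lc_b_rc_16_2 lc_b_rc_16_2 lc_b_rc_16_2 lc_b_rc_13_2 lc_b_rc_13_2 lc_b_rc_1_3 lc_b_rc_13_2 lc_b_rc_11_2 lc_b_rc_13_2 lc_b_rc_1_3) (@D3.rec (fun _ => (Cert rels S Gen.b)) lc_b_rc_1_3 lc_b_rc_16_2 lc_b_rc_13_2 lc_b_rc_11_2 lc_b_rc_13_2 lc_b_rc_12_2 lc_b_rc_13_2 lc_b_rc_11_2 lc_b_Cert_tree lc_b_rc_1_3 lc_b_rc_9_0 lc_b_rc_11_2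 lc_b_rc_1_3 lc_b_rc_10_2 lc_b_rc_12_2 lc_b_rc_11_2 lc_b_rc_11_2 lc_b_rc_1_3 lc_b_rc_11_2 lc_b_rc_12_2 lc_b_rc_11_2 lc_b_rc_13_0 lc_b_rc_11_2 lc_b_rc_1_3 lc_b_rc_11_2 lc_b_rc_1_3 lc_b_rc_1_3 lc_b_rc_9_0 lc_b_rc_1_3 lc_b_rc_9_0 lc_b_rc_11_2 lc_b_rc_9_0) (@D3.rec (fun _ => (Cert rels S Gen.b)) lc_b_rc_16_2 lc_b_rc_13_2 lc_b_rc_1_3 lc_b_rc_12_2 lc_b_rc_16_2 lc_b_rc_11_2 lc_b_rc_1_5 lc_b_rc_16_2 lc_b_rc_13_2 lc_b_rc_15_2 lc_b_rc_14_2 lc_b_rc_13_2 lc_b_rc_12_2 lc_b_rc_16_2 lc_b_rc_16_2 lc_b_rc_11_2 lc_b_rc_9_0 lc_b_rc_13_2 lc_b_rc_16_2 lc_b_rc_1_3 lc_b_rc_11_2 lc_b_rc_14_2 lc_b_rc_16_2 lc_b_rc_13_2 lc_b_rc_11_2 lc_b_rc_13_2 lc_b_rc_11_2 lc_b_rc_14_2 lc_b_rc_16_2 lc_b_rc_13_2 lc_b_rc_11_2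 lc_b_rc_16_2) (@D3.rec (fun _ => (Cert rels S Gen.b)) lc_b_rc_16_2 lc_b_rc_16_2 lc_b_rc_11_2 lc_b_rc_9_0 lc_b_rc_13_2 lc_b_rc_13_2 lc_b_rc_1_3 lc_b_rc_11_2 lc_b_rc_16_2 lc_b_rc_13_2 lc_b_rc_1_3 lc_b_rc_11_2 lc_b_rc_10_2 lc_b_rc_12_2 lc_b_rc_13_2 lc_b_rc_11_2 lc_b_rc_11_2 lc_b_rc_13_2 lc_b_rc_13_2 lc_b_rc_1_3 lc_b_rc_14_2 lc_b_rc_1_3 lc_b_rc_1_3 lc_b_rc_11_2 lc_b_rc_13_2 lc_b_rc_11_2 lc_b_rc_15_2 lc_b_rc_16_2 lc_b_rc_13_2 lc_b_rc_11_2 lc_b_rc_12_2 lc_b_rc_11_2) (@D3.rec (fun _ => (Cert rels S Gen.b)) lc_b_rc_13_2 lc_b_rc_11_2 lc_b_rc_16_2 lc_b_rc_13_2 lc_b_rc_16_2 lc_b_rc_13_2 lc_b_rc_11_2 lc_b_rc_12_2 lc_b_rc_13_2 lc_b_rc_11_2 lc_b_Cert_tree lc_b_rc_11_2 lc_b_rc_11_2 lc_b_rc_13_2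 lc_b_rc_10_2 lc_b_rc_10_2 lc_b_rc_11_2 lc_b_rc_11_2 lc_b_Cert_tree lc_b_rc_12_2 lc_b_rc_11_2 lc_b_rc_16_2 lc_b_rc_13_2 lc_b_rc_16_2 lc_b_rc_13_2 lc_b_rc_10_2 lc_b_rc_11_2 lc_b_Cert_tree lc_b_rc_12_2 lc_b_Cert_tree lc_b_rc_9_0 lc_b_rc_13_2) (@D3.rec (fun _ => (Cert rels S Gen.b)) lc_b_rc_11_2 lc_b_rc_1_3 lc_b_rc_16_2 lc_b_rc_13_2 lc_b_rc_13_2 lc_b_rc_11_2 lc_b_rc_16_2 lc_b_rc_11_2 lc_b_Cert_tree lc_b_rc_11_2 lc_b_rc_1_3 lc_b_rc_13_2 lc_b_rc_11_2 lc_b_rc_13_2 lc_b_rc_11_2 lc_b_Cert_tree lc_b_rc_1_3 lc_b_rc_1_3 lc_b_rc_16_2 lc_b_rc_13_2 lc_b_rc_11_2 lc_b_rc_13_2 lc_b_rc_11_2 lc_b_Cert_tree lc_b_Cert_tree lc_b_rc_9_0 lc_b_Cert_tree lc_b_rc_12_2 lc_b_rc_9_0 lc_b_rc_9_0 lc_b_rc_1_3 lc_b_rc_47_35)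 (@D3.rec (fun _ => (Cert rels S Gen.b)) lc_b_rc_10_4 lc_b_rc_9_0 lc_b_rc_9_0 lc_b_rc_10_2 lc_b_rc_45_65 lc_b_rc_1_3 lc_b_rc_1_3 lc_b_rc_11_2 lc_b_rc_13_0 lc_b_rc_1_3 lc_b_rc_13_2 lc_b_rc_12_2 lc_b_rc_16_2 lc_b_rc_10_4 lc_b_rc_13_2 lc_b_rc_16_2 lc_b_rc_13_2 lc_b_rc_1_3 lc_b_rc_1_3 lc_b_rc_16_2 lc_b_rc_13_2 lc_b_rc_13_2 lc_b_rc_15_2 lc_b_rc_14_2 lc_b_rc_11_2 lc_b_rc_11_2 lc_b_rc_13_2 lc_b_rc_13_2 lc_b_rc_16_2 lc_b_rc_13_2 lc_b_rc_9_0 lc_b_rc_13_2) (@D3.rec (fun _ => (Cert rels S Gen.b)) lc_b_rc_10_2 lc_b_rc_13_2 lc_b_rc_11_2 lc_b_rc_13_2 lc_b_rc_13_2 lc_b_rc_11_2 lc_b_rc_1_3 lc_b_rc_11_2 lc_b_rc_11_2 lc_b_rc_1_3 lc_b_rc_10_2 lc_b_rc_12_2 lc_b_rc_1_3 lc_b_rc_13_2 lc_b_rc_11_2 lc_b_rc_9_0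 lc_b_rc_12_2 lc_b_rc_16_2 lc_b_rc_12_2 lc_b_rc_13_2 lc_b_rc_1_3 lc_b_rc_12_2 lc_b_rc_16_2 lc_b_rc_11_2 lc_b_rc_14_2 lc_b_rc_16_2 lc_b_rc_13_2 lc_b_rc_14_2 lc_b_rc_13_2 lc_b_rc_14_2 lc_b_rc_16_2 lc_b_rc_16_2) (@D3.rec (fun _ => (Cert rels S Gen.b)) lc_b_rc_13_2 lc_b_rc_1_3 lc_b_rc_11_2 lc_b_rc_16_2 lc_b_rc_13_2 lc_b_rc_11_2 lc_b_rc_1_5 lc_b_rc_11_2 lc_b_rc_10_2 lc_b_rc_13_2 lc_b_rc_11_2 lc_b_rc_16_2 lc_b_rc_47_42 lc_b_rc_14_0 lc_b_rc_13_2 lc_b_rc_13_2 lc_b_rc_11_2 lc_b_rc_16_2 lc_b_rc_13_2 lc_b_rc_9_1 lc_b_rc_12_2 lc_b_rc_11_2 lc_b_rc_9_1 lc_b_rc_13_2 lc_b_rc_11_2 lc_b_rc_13_2 lc_b_rc_1_3 lc_b_rc_1_3 lc_b_rc_1_3 lc_b_rc_11_2 lc_b_rc_13_2 lc_b_rc_11_2) (@D3.rec (fun _ => (Cert rels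 S Gen.b)) lc_b_rc_16_2 lc_b_rc_13_2 lc_b_rc_11_2 lc_b_rc_12_2 lc_b_rc_14_2 lc_b_rc_13_2 lc_b_rc_11_2 lc_b_rc_16_2 lc_b_rc_13_2 lc_b_rc_12_0 lc_b_rc_13_2 lc_b_rc_11_2 lc_b_rc_12_2 lc_b_rc_13_2 lc_b_rc_11_2 lc_b_rc_13_2 lc_b_rc_12_2 lc_b_rc_11_2 lc_b_rc_13_2 lc_b_rc_11_2 lc_b_rc_16_2 lc_b_rc_13_2 lc_b_rc_10_2 lc_b_rc_12_2 lc_b_rc_11_2 lc_b_rc_16_2 lc_b_rc_13_2 lc_b_rc_16_2 lc_b_rc_13_2 lc_b_rc_10_2 lc_b_rc_11_2 lc_b_rc_14_0) (@D3.rec (fun _ => (Cert rels S Gen.b)) lc_b_rc_12_2 lc_b_rc_9_0 lc_b_rc_13_2 lc_b_rc_11_2 lc_b_rc_1_3 lc_b_rc_13_2 lc_b_rc_11_2 lc_b_rc_11_2 lc_b_rc_13_2 lc_b_rc_11_2 lc_b_rc_11_2 lc_b_rc_12_2 lc_b_rc_1_3 lc_b_rc_1_3 lc_b_rc_13_2 lc_b_rc_11_2 lc_b_rc_10_2 lc_b_rc_12_2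 lc_b_rc_11_2 lc_b_rc_10_2 lc_b_rc_12_2 lc_b_rc_10_2 lc_b_rc_10_2 lc_b_rc_1_3 lc_b_rc_1_3 lc_b_rc_16_2 lc_b_rc_11_2 lc_b_rc_13_2 lc_b_rc_13_2 lc_b_rc_13_2 lc_b_rc_11_2 lc_b_rc_11_2) (@D3.rec (fun _ => (Cert rels S Gen.b)) lc_b_rc_11_2 lc_b_rc_13_2 lc_b_rc_11_2 lc_b_rc_16_2 lc_b_rc_13_2 lc_b_rc_11_2 lc_b_rc_13_2 lc_b_rc_9_0 lc_b_rc_11_2 lc_b_rc_16_2 lc_b_rc_13_2 lc_b_rc_13_2 lc_b_rc_11_2 lc_b_rc_12_2 lc_b_rc_13_2 lc_b_rc_12_2 lc_b_rc_16_2 lc_b_rc_13_2 lc_b_rc_16_2 lc_b_rc_12_2 lc_b_rc_13_2 lc_b_rc_11_2 lc_b_rc_11_2 lc_b_rc_10_2 lc_b_rc_12_2 lc_b_rc_12_2 lc_b_rc_13_2 lc_b_rc_13_2 lc_b_rc_1_3 lc_b_rc_1_3 lc_b_rc_11_2 lc_b_rc_14_2) (@D3.rec (fun _ => (Cert rels S Gen.b)) lc_b_rc_16_2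 lc_b_rc_13_2 lc_b_rc_11_2 lc_b_rc_13_2 lc_b_rc_11_2 lc_b_rc_12_2 lc_b_rc_16_2 lc_b_rc_13_2 lc_b_rc_11_2 lc_b_rc_15_2 lc_b_rc_14_2 lc_b_rc_11_2 lc_b_rc_11_2 lc_b_rc_13_2 lc_b_rc_11_2 lc_b_rc_11_2 lc_b_rc_10_2 lc_b_rc_1_3 lc_b_rc_11_2 lc_b_rc_13_2 lc_b_rc_11_2 lc_b_rc_16_2 lc_b_rc_13_2 lc_b_rc_11_2 lc_b_rc_12_2 lc_b_rc_11_2 lc_b_rc_13_2 lc_b_rc_11_2 lc_b_rc_16_2 lc_b_rc_13_2 lc_b_rc_14_2 lc_b_rc_13_2)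
def ce_b_13 : D2 → D3 → (Cert rels S Gen.b) := @D2.rec (fun _ => D3 → (Cert rels S Gen.b)) (@D3.rec (fun _ => (Cert rels S Gen.b)) lc_b_rc_11_2 lc_b_rc_12_2 lc_b_rc_16_2 lc_b_rc_12_2 lc_b_rc_11_2 lc_b_rc_12_2 lc_b_rc_11_2 lc_b_rc_12_0 lc_b_rc_13_2 lc_b_rc_10_2 lc_b_rc_13_2 lc_b_rc_11_2 lc_b_rc_12_2 lc_b_rc_13_2 lc_b_rc_1_3 lc_b_rc_1_3 lc_b_rc_1_3 lc_b_rc_14_2 lc_b_rc_1_3 lc_b_rc_1_3 lc_b_rc_12_2 lc_b_rc_11_2 lc_b_rc_13_2 lc_b_rc_11_2 lc_b_rc_16_2 lc_b_rc_13_2 lc_b_rc_16_2 lc_b_rc_13_2 lc_b_rc_11_2 lc_b_rc_12_2 lc_b_rc_12_2 lc_b_rc_11_2) (@D3.rec (fun _ => (Cert rels S Gen.b)) lc_b_rc_16_2 lc_b_rc_13_2 lc_b_rc_16_2 lc_b_rc_11_2 lc_b_rc_13_2 lc_b_rc_11_2 lc_b_Cert_tree lc_b_rc_12_2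 lc_b_rc_14_2 lc_b_rc_13_2 lc_b_rc_9_0 lc_b_rc_12_2 lc_b_rc_11_2 lc_b_rc_16_2 lc_b_rc_13_2 lc_b_rc_16_2 lc_b_rc_13_2 lc_b_rc_10_2 lc_b_rc_11_2 lc_b_rc_12_2 lc_b_rc_13_2 lc_b_rc_13_2 lc_b_rc_16_2 lc_b_rc_13_2 lc_b_rc_16_2 lc_b_Cert_tree lc_b_rc_13_2 lc_b_rc_11_2 lc_b_rc_11_2 lc_b_rc_9_0 lc_b_rc_12_2 lc_b_rc_11_2) (@D3.rec (fun _ => (Cert rels S Gen.b)) lc_b_rc_1_3 lc_b_rc_13_2 lc_b_rc_11_2 lc_b_rc_11_2 lc_b_rc_1_3 lc_b_rc_1_3 lc_b_rc_13_2 lc_b_rc_11_2 lc_b_Cert_tree lc_b_rc_12_2 lc_b_rc_9_0 lc_b_rc_1_3 lc_b_rc_47_21 lc_b_rc_1_3 lc_b_rc_1_1 lc_b_rc_13_2 lc_b_rc_11_2 lc_b_rc_11_2 lc_b_rc_1_3 lc_b_rc_1_3 lc_b_rc_1_3 lc_b_rc_15_2 lc_b_rc_16_2 lc_b_rc_13_2 lc_b_rc_16_2 lc_b_rc_10_4 lc_b_rc_11_2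 lc_b_rc_15_2 lc_b_rc_11_2 lc_b_Cert_tree lc_b_rc_12_2 lc_b_rc_11_2) (@D3.rec (fun _ => (Cert rels S Gen.b)) lc_b_rc_13_2 lc_b_rc_11_2 lc_b_rc_16_2 lc_b_rc_13_2 lc_b_rc_10_2 lc_b_rc_10_2 lc_b_rc_11_2 lc_b_rc_12_2 lc_b_rc_11_2 lc_b_rc_16_2 lc_b_rc_13_2 lc_b_rc_16_2 lc_b_rc_11_2 lc_b_rc_13_2 lc_b_rc_11_2 lc_b_Cert_tree lc_b_rc_12_2 lc_b_rc_14_2 lc_b_rc_13_2 lc_b_rc_13_2 lc_b_rc_16_2 lc_b_rc_11_2 lc_b_rc_11_2 lc_b_Cert_tree lc_b_rc_12_2 lc_b_rc_11_2 lc_b_rc_9_0 lc_b_rc_12_2 lc_b_rc_14_2 lc_b_rc_13_2 lc_b_rc_13_2 lc_b_rc_16_2) (@D3.rec (fun _ => (Cert rels S Gen.b)) lc_b_rc_13_2 lc_b_rc_16_2 lc_b_Cert_tree lc_b_rc_13_2 lc_b_rc_11_2 lc_b_rc_16_2 lc_b_rc_12_2 lc_b_rc_9_0 lc_b_rc_11_2 lc_b_rc_13_2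 lc_b_rc_9_0 lc_b_rc_1_3 lc_b_rc_1_3 lc_b_Cert_tree lc_b_rc_13_0 lc_b_rc_12_2 lc_b_rc_9_0 lc_b_rc_14_2 lc_b_rc_11_2 lc_b_rc_12_2 lc_b_rc_11_2 lc_b_rc_13_2 lc_b_rc_15_2 lc_b_rc_16_2 lc_b_rc_16_2 lc_b_rc_16_2 lc_b_rc_11_2 lc_b_rc_11_2 lc_b_rc_12_2 lc_b_rc_13_2 lc_b_rc_11_2 lc_b_rc_12_2) (@D3.rec (fun _ => (Cert rels S Gen.b)) lc_b_rc_13_2 lc_b_rc_10_2 lc_b_rc_11_2 lc_b_rc_11_2 lc_b_Cert_tree lc_b_rc_12_2 lc_b_rc_11_2 lc_b_rc_11_2 lc_b_rc_13_2 lc_b_rc_13_2 lc_b_rc_14_2 lc_b_rc_10_0 lc_b_Cert_tree lc_b_Cert_tree lc_b_rc_12_2 lc_b_rc_9_0 lc_b_rc_15_2 lc_b_rc_12_2 lc_b_rc_16_2 lc_b_rc_13_0 lc_b_rc_13_2 lc_b_rc_16_2 lc_b_rc_13_2 lc_b_rc_14_2 lc_b_rc_13_2 lc_b_rc_13_2 lc_b_rc_11_2 lc_b_rc_11_2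 lc_b_rc_13_2 lc_b_rc_11_2 lc_b_rc_16_2 lc_b_rc_13_2) (@D3.rec (fun _ => (Cert rels S Gen.b)) lc_b_rc_11_2 lc_b_rc_13_2 lc_b_rc_11_2 lc_b_rc_13_2 lc_b_rc_12_0 lc_b_rc_11_2 lc_b_rc_16_2 lc_b_rc_13_2 lc_b_rc_13_2 lc_b_rc_11_2 lc_b_rc_12_2 lc_b_rc_11_2 lc_b_Cert_tree lc_b_rc_12_2 lc_b_rc_11_2 lc_b_rc_16_2 lc_b_rc_13_2 lc_b_rc_16_2 lc_b_rc_13_2 lc_b_rc_10_2 lc_b_rc_11_2 lc_b_Cert_tree lc_b_rc_12_2 lc_b_rc_12_2 lc_b_rc_9_0 lc_b_rc_11_2 lc_b_rc_12_2 lc_b_Cert_tree lc_b_rc_11_2 lc_b_rc_10_2 lc_b_rc_12_2 lc_b_Cert_tree) (@D3.rec (fun _ => (Cert rels S Gen.b)) lc_b_rc_12_2 lc_b_rc_14_2 lc_b_rc_9_0 lc_b_rc_1_3 lc_b_rc_10_2 lc_b_rc_12_2 lc_b_rc_13_2 lc_b_rc_14_0 lc_b_rc_11_2 lc_b_rc_14_2 lc_b_rc_13_2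 lc_b_rc_11_2 lc_b_rc_15_2 lc_b_rc_14_2 lc_b_rc_11_2 lc_b_rc_13_0 lc_b_rc_12_2 lc_b_rc_11_2 lc_b_rc_16_2 lc_b_rc_14_0 lc_b_rc_13_2 lc_b_rc_9_1 lc_b_rc_12_2 lc_b_rc_11_2 lc_b_rc_47_49 lc_b_rc_12_2 lc_b_rc_11_2 lc_b_rc_12_2 lc_b_rc_13_2 lc_b_rc_13_2 lc_b_rc_11_2 lc_b_rc_13_2) (@D3.rec (fun _ => (Cert rels S Gen.b)) lc_b_rc_11_2 lc_b_Cert_tree lc_b_rc_12_2 lc_b_rc_12_2 lc_b_rc_11_2 lc_b_Cert_tree lc_b_rc_12_2 lc_b_rc_9_0 lc_b_rc_13_2 lc_b_rc_13_2 lc_b_rc_16_2 lc_b_rc_13_2 lc_b_rc_16_2 lc_b_Cert_tree lc_b_rc_13_2 lc_b_rc_11_2 lc_b_Cert_tree lc_b_rc_12_2 lc_b_rc_9_0 lc_b_rc_12_2 lc_b_rc_10_2 lc_b_rc_9_0 lc_b_rc_10_2 lc_b_rc_1_3 lc_b_rc_11_2 lc_b_rc_46_36 lc_b_rc_9_0 lc_b_rc_1_3 lc_b_rc_15_2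 lc_b_rc_11_2 lc_b_Cert_tree lc_b_rc_11_2) (@D3.rec (fun _ => (Cert rels S Gen.b)) lc_b_rc_13_2 lc_b_rc_16_2 lc_b_Cert_tree lc_b_rc_13_2 lc_b_Cert_tree lc_b_rc_16_2 lc_b_rc_9_0 lc_b_rc_12_2 lc_b_rc_9_0 lc_b_rc_1_3 lc_b_rc_12_2 lc_b_rc_1_3 lc_b_rc_12_2 lc_b_rc_16_2 lc_b_rc_12_2 lc_b_rc_11_0 lc_b_rc_16_2 lc_b_rc_13_2 lc_b_rc_14_2 lc_b_rc_13_2 lc_b_rc_14_2 lc_b_rc_16_2 lc_b_rc_16_2 lc_b_rc_11_2 lc_b_rc_16_2 lc_b_rc_13_2 lc_b_rc_16_2 lc_b_rc_1_3 lc_b_rc_11_2 lc_b_rc_16_2 lc_b_rc_13_2 lc_b_rc_11_2) (@D3.rec (fun _ => (Cert rels S Gen.b)) lc_b_rc_11_2 lc_b_rc_11_2 lc_b_rc_10_2 lc_b_rc_13_2 lc_b_rc_11_2 lc_b_rc_16_2 lc_b_rc_16_2 lc_b_rc_16_2 lc_b_rc_14_0 lc_b_rc_13_2 lc_b_rc_13_2 lc_b_rc_1_3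 lc_b_rc_13_2 lc_b_rc_13_2 lc_b_rc_11_2 lc_b_rc_13_2 lc_b_rc_1_3 lc_b_rc_1_3 lc_b_rc_1_3 lc_b_rc_11_2 lc_b_rc_13_2 lc_b_rc_11_2 lc_b_rc_16_2 lc_b_rc_13_2 lc_b_rc_11_2 lc_b_rc_14_2 lc_b_rc_9_0 lc_b_rc_9_0 lc_b_rc_11_2 lc_b_rc_1_5 lc_b_rc_13_2 lc_b_rc_12_0) (@D3.rec (fun _ => (Cert rels S Gen.b)) lc_b_rc_13_2 lc_b_rc_11_2 lc_b_rc_12_2 lc_b_rc_13_2 lc_b_rc_11_2 lc_b_Cert_tree lc_b_rc_10_2 lc_b_rc_16_2 lc_b_rc_1_3 lc_b_rc_13_2 lc_b_rc_13_2 lc_b_rc_11_2 lc_b_Cert_tree lc_b_rc_10_2 lc_b_rc_9_0 lc_b_rc_13_2 lc_b_rc_11_2 lc_b_rc_11_2 lc_b_rc_1_3 lc_b_rc_13_2 lc_b_rc_11_2 lc_b_rc_12_2 lc_b_rc_11_2 lc_b_Cert_tree lc_b_rc_13_2 lc_b_rc_11_2 lc_b_rc_1_3 lc_b_rc_11_2 lc_b_rc_1_3 lc_b_rc_1_3 lc_b_rc_13_2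 lc_b_rc_10_2) (@D3.rec (fun _ => (Cert rels S Gen.b)) lc_b_rc_12_2 lc_b_rc_1_3 lc_b_rc_9_0 lc_b_rc_1_3 lc_b_rc_10_2 lc_b_rc_10_2 lc_b_rc_10_2 lc_b_rc_1_3 lc_b_rc_1_3 lc_b_rc_10_2 lc_b_rc_13_2 lc_b_rc_16_2 lc_b_rc_13_2 lc_b_rc_12_2 lc_b_rc_1_3 lc_b_rc_11_2 lc_b_rc_16_2 lc_b_rc_13_2 lc_b_rc_12_0 lc_b_rc_11_2 lc_b_rc_1_1 lc_b_rc_14_2 lc_b_rc_13_2 lc_b_rc_11_2 lc_b_rc_15_2 lc_b_rc_14_2 lc_b_rc_11_2 lc_b_rc_13_2 lc_b_rc_13_2 lc_b_rc_11_2 lc_b_rc_13_2 lc_b_rc_11_2) (@D3.rec (fun _ => (Cert rels S Gen.b)) lc_b_rc_11_2 lc_b_rc_1_3 lc_b_rc_11_2 lc_b_rc_13_2 lc_b_rc_11_2 lc_b_rc_16_2 lc_b_rc_13_2 lc_b_rc_11_2 lc_b_rc_14_2 lc_b_rc_1_3 lc_b_rc_11_2 lc_b_rc_11_2 lc_b_rc_16_2 lc_b_rc_13_2 lc_b_rc_14_2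 lc_b_rc_13_2 lc_b_rc_11_2 lc_b_rc_12_2 lc_b_rc_16_2 lc_b_rc_11_2 lc_b_Cert_tree lc_b_rc_11_2 lc_b_rc_13_2 lc_b_rc_11_2 lc_b_rc_11_2 lc_b_rc_1_3 lc_b_rc_11_2 lc_b_rc_13_2 lc_b_rc_11_2 lc_b_rc_1_3 lc_b_rc_11_2 lc_b_rc_13_2) (@D3.rec (fun _ => (Cert rels S Gen.b)) lc_b_rc_12_2 lc_b_rc_9_0 lc_b_rc_11_2 lc_b_rc_12_2 lc_b_rc_13_2 lc_b_rc_11_2 lc_b_Cert_tree lc_b_rc_11_2 lc_b_rc_13_2 lc_b_rc_1_3 lc_b_rc_14_2 lc_b_rc_1_3 lc_b_rc_1_3 lc_b_rc_12_2 lc_b_rc_11_2 lc_b_rc_13_2 lc_b_rc_11_2 lc_b_rc_16_2 lc_b_rc_13_2 lc_b_rc_16_2 lc_b_rc_13_2 lc_b_rc_11_2 lc_b_rc_12_2 lc_b_rc_12_2 lc_b_rc_11_2 lc_b_rc_16_2 lc_b_rc_13_2 lc_b_rc_16_2 lc_b_rc_11_2 lc_b_rc_13_2 lc_b_rc_11_2 lc_b_Cert_tree) (@D3.rec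 (fun _ => (Cert rels S Gen.b)) lc_b_rc_12_2 lc_b_rc_14_2 lc_b_Cert_tree lc_b_rc_9_0 lc_b_rc_11_2 lc_b_rc_13_2 lc_b_rc_13_2 lc_b_rc_11_2 lc_b_Cert_tree lc_b_Cert_tree lc_b_rc_12_2 lc_b_rc_9_0 lc_b_rc_13_2 lc_b_rc_13_2 lc_b_rc_16_2 lc_b_rc_13_2 lc_b_rc_16_2 lc_b_Cert_tree lc_b_rc_13_2 lc_b_rc_11_2 lc_b_Cert_tree lc_b_rc_9_0 lc_b_rc_12_2 lc_b_rc_9_0 lc_b_rc_1_3 lc_b_Cert_tree lc_b_rc_13_2 lc_b_rc_11_2 lc_b_Cert_tree lc_b_rc_9_0 lc_b_rc_11_2 lc_b_Cert_tree) (@D3.rec (fun _ => (Cert rels S Gen.b)) lc_b_Cert_tree lc_b_rc_12_2 lc_b_rc_9_0 lc_b_rc_1_3 lc_b_rc_1_3 lc_b_rc_13_2 lc_b_rc_11_2 lc_b_Cert_tree lc_b_rc_11_2 lc_b_rc_11_2 lc_b_rc_12_2 lc_b_rc_9_0 lc_b_rc_9_0 lc_b_rc_1_3 lc_b_rc_9_0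 lc_b_rc_13_2 lc_b_rc_13_2 lc_b_rc_11_2 lc_b_rc_1_3 lc_b_rc_1_3 lc_b_rc_13_2 lc_b_rc_15_2 lc_b_rc_11_2 lc_b_Cert_tree lc_b_rc_13_2 lc_b_rc_11_2 lc_b_rc_13_2 lc_b_rc_11_2 lc_b_rc_13_2 lc_b_rc_11_2 lc_b_rc_12_2 lc_b_rc_11_2) (@D3.rec (fun _ => (Cert rels S Gen.b)) lc_b_rc_12_2 lc_b_rc_11_2 lc_b_rc_1_3 lc_b_rc_10_2 lc_b_rc_10_2 lc_b_rc_10_2 lc_b_rc_10_2 lc_b_rc_14_2 lc_b_rc_13_2 lc_b_rc_16_2 lc_b_rc_12_2 lc_b_rc_13_2 lc_b_rc_13_2 lc_b_rc_1_3 lc_b_rc_1_3 lc_b_rc_14_2 lc_b_rc_16_2 lc_b_rc_13_2 lc_b_rc_11_0 lc_b_rc_11_2 lc_b_rc_16_2 lc_b_rc_13_2 lc_b_rc_11_2 lc_b_rc_14_2 lc_b_rc_11_2 lc_b_rc_13_2 lc_b_rc_13_2 lc_b_rc_11_2 lc_b_rc_1_3 lc_b_rc_11_2 lc_b_rc_13_2 lc_b_rc_11_2) (@D3.rec (fun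 _ => (Cert rels S Gen.b)) lc_b_rc_13_2 lc_b_rc_13_2 lc_b_rc_9_1 lc_b_rc_11_2 lc_b_rc_13_2 lc_b_rc_13_2 lc_b_rc_11_2 lc_b_rc_12_2 lc_b_rc_11_2 lc_b_rc_13_2 lc_b_rc_11_2 lc_b_rc_11_2 lc_b_rc_11_2 lc_b_rc_13_2 lc_b_rc_11_2 lc_b_rc_16_2 lc_b_rc_12_2 lc_b_rc_13_2 lc_b_rc_13_2 lc_b_rc_11_2 lc_b_rc_12_2 lc_b_rc_1_3 lc_b_rc_1_3 lc_b_rc_1_3 lc_b_rc_1_3 lc_b_rc_12_2 lc_b_rc_13_2 lc_b_rc_11_2 lc_b_rc_16_2 lc_b_rc_13_2 lc_b_rc_13_2 lc_b_rc_11_2) (@D3.rec (fun _ => (Cert rels S Gen.b)) lc_b_rc_10_2 lc_b_rc_12_2 lc_b_rc_12_2 lc_b_rc_11_2 lc_b_rc_16_2 lc_b_rc_13_2 lc_b_rc_16_2 lc_b_rc_11_2 lc_b_rc_13_2 lc_b_rc_11_2 lc_b_rc_14_0 lc_b_rc_12_2 lc_b_rc_14_2 lc_b_rc_10_2 lc_b_rc_12_2 lc_b_rc_11_2 lc_b_rc_16_2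 lc_b_rc_13_2 lc_b_rc_16_2 lc_b_rc_13_2 lc_b_rc_13_2 lc_b_rc_16_2 lc_b_rc_13_2 lc_b_rc_16_2 lc_b_rc_14_0 lc_b_rc_13_2 lc_b_rc_11_2 lc_b_rc_11_2 lc_b_rc_14_0 lc_b_rc_11_2 lc_b_rc_1_3 lc_b_rc_10_2) (@D3.rec (fun _ => (Cert rels S Gen.b)) lc_b_rc_11_2 lc_b_rc_10_2 lc_b_rc_12_2 lc_b_rc_1_3 lc_b_rc_10_2 lc_b_rc_11_2 lc_b_rc_9_0 lc_b_rc_10_2 lc_b_rc_16_0 lc_b_rc_11_2 lc_b_rc_13_2 lc_b_rc_13_2 lc_b_rc_11_2 lc_b_rc_11_2 lc_b_rc_11_2 lc_b_rc_12_2 lc_b_rc_12_2 lc_b_rc_11_2 lc_b_rc_16_2 lc_b_rc_13_2 lc_b_rc_13_2 lc_b_rc_11_2 lc_b_rc_12_2 lc_b_rc_14_2 lc_b_rc_11_2 lc_b_rc_13_2 lc_b_rc_16_2 lc_b_rc_11_2 lc_b_rc_11_2 lc_b_rc_12_2 lc_b_rc_14_2 lc_b_rc_13_2) (@D3.rec (fun _ => (Cert rels S Gen.b))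 lc_b_rc_16_2 lc_b_rc_11_2 lc_b_rc_14_0 lc_b_rc_13_2 lc_b_rc_13_2 lc_b_rc_11_2 lc_b_rc_11_2 lc_b_rc_12_2 lc_b_rc_1_3 lc_b_rc_1_3 lc_b_rc_11_2 lc_b_rc_13_2 lc_b_rc_11_2 lc_b_rc_16_2 lc_b_rc_13_2 lc_b_rc_11_2 lc_b_rc_13_2 lc_b_rc_12_2 lc_b_rc_11_2 lc_b_rc_16_2 lc_b_rc_13_2 lc_b_rc_12_2 lc_b_rc_13_2 lc_b_rc_11_2 lc_b_rc_12_2 lc_b_rc_15_2 lc_b_rc_11_2 lc_b_Cert_tree lc_b_rc_16_2 lc_b_rc_12_2 lc_b_rc_9_0 lc_b_rc_1_3)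
def ce_b_14 : D2 → D3 → (Cert rels S Gen.b) := @D2.rec (fun _ => D3 → (Cert rels S Gen.b)) (@D3.rec (fun _ => (Cert rels S Gen.b)) lc_b_rc_13_2 lc_b_rc_1_3 lc_b_rc_12_2 lc_b_rc_13_2 lc_b_rc_11_2 lc_b_rc_16_2 lc_b_rc_13_2 lc_b_rc_13_2 lc_b_rc_11_2 lc_b_rc_12_2 lc_b_rc_12_2 lc_b_rc_11_2 lc_b_rc_16_2 lc_b_rc_13_2 lc_b_rc_16_2 lc_b_rc_11_2 lc_b_rc_14_2 lc_b_rc_11_2 lc_b_rc_12_2 lc_b_rc_14_2 lc_b_rc_12_2 lc_b_rc_11_2 lc_b_rc_12_2 lc_b_rc_13_2 lc_b_rc_13_2 lc_b_rc_11_2 lc_b_rc_13_2 lc_b_rc_11_2 lc_b_rc_12_2 lc_b_rc_12_0 lc_b_rc_11_0 lc_b_rc_1_3) (@D3.rec (fun _ => (Cert rels S Gen.b)) lc_b_rc_1_3 lc_b_rc_1_3 lc_b_rc_1_3 lc_b_rc_14_2 lc_b_rc_1_3 lc_b_rc_1_3 lc_b_rc_12_2 lc_b_rc_11_2 lc_b_rc_16_2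 lc_b_rc_13_2 lc_b_rc_16_2 lc_b_rc_11_2 lc_b_rc_13_2 lc_b_rc_11_2 lc_b_Cert_tree lc_b_rc_12_2 lc_b_rc_14_2 lc_b_rc_13_2 lc_b_rc_13_2 lc_b_rc_16_2 lc_b_rc_11_2 lc_b_rc_11_2 lc_b_Cert_tree lc_b_rc_12_2 lc_b_rc_11_2 lc_b_rc_1_1 lc_b_rc_12_2 lc_b_rc_9_0 lc_b_rc_12_2 lc_b_rc_14_2 lc_b_rc_15_2 lc_b_rc_13_2) (@D3.rec (fun _ => (Cert rels S Gen.b)) lc_b_rc_13_2 lc_b_rc_16_2 lc_b_rc_13_2 lc_b_rc_16_2 lc_b_rc_13_2 lc_b_rc_11_2 lc_b_rc_12_2 lc_b_rc_11_2 lc_b_rc_13_2 lc_b_rc_13_2 lc_b_rc_14_2 lc_b_rc_10_2 lc_b_rc_9_0 lc_b_rc_9_1 lc_b_rc_14_0 lc_b_rc_1_3 lc_b_rc_11_2 lc_b_rc_10_2 lc_b_rc_12_2 lc_b_rc_1_3 lc_b_Cert_tree lc_b_rc_13_2 lc_b_rc_12_2 lc_b_rc_9_0 lc_b_rc_13_2 lc_b_rc_11_2 lc_b_Cert_tree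 lc_b_rc_1_3 lc_b_rc_1_3 lc_b_rc_16_2 lc_b_rc_11_2 lc_b_rc_10_4) (@D3.rec (fun _ => (Cert rels S Gen.b)) lc_b_Cert_tree lc_b_rc_11_2 lc_b_Cert_tree lc_b_rc_12_2 lc_b_rc_9_0 lc_b_rc_12_2 lc_b_rc_11_2 lc_b_rc_16_2 lc_b_rc_13_2 lc_b_rc_16_2 lc_b_rc_13_2 lc_b_rc_10_2 lc_b_rc_11_2 lc_b_Cert_tree lc_b_rc_13_2 lc_b_rc_13_2 lc_b_rc_16_2 lc_b_rc_11_2 lc_b_rc_11_2 lc_b_Cert_tree lc_b_rc_12_2 lc_b_rc_11_2 lc_b_rc_10_2 lc_b_rc_9_0 lc_b_rc_12_2 lc_b_rc_14_2 lc_b_rc_11_2 lc_b_rc_11_2 lc_b_rc_12_2 lc_b_rc_9_0 lc_b_rc_12_2 lc_b_rc_12_2) (@D3.rec (fun _ => (Cert rels S Gen.b)) lc_b_rc_11_2 lc_b_rc_13_2 lc_b_rc_16_2 lc_b_rc_10_4 lc_b_rc_13_2 lc_b_rc_9_0 lc_b_rc_10_2 lc_b_rc_9_0 lc_b_rc_11_2 lc_b_Cert_tree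 lc_b_rc_16_2 lc_b_rc_10_2 lc_b_Cert_tree lc_b_rc_12_2 lc_b_rc_14_2 lc_b_rc_13_2 lc_b_rc_13_2 lc_b_rc_13_2 lc_b_rc_11_2 lc_b_Cert_tree lc_b_Cert_tree lc_b_rc_12_2 lc_b_rc_9_0 lc_b_rc_13_2 lc_b_rc_13_2 lc_b_rc_13_2 lc_b_rc_9_0 lc_b_rc_9_0 lc_b_rc_1_3 lc_b_rc_16_2 lc_b_rc_13_2 lc_b_rc_16_2) (@D3.rec (fun _ => (Cert rels S Gen.b)) lc_b_rc_16_2 lc_b_rc_13_2 lc_b_rc_11_2 lc_b_rc_14_2 lc_b_rc_11_2 lc_b_rc_11_2 lc_b_rc_11_2 lc_b_rc_12_0 lc_b_rc_11_2 lc_b_rc_12_2 lc_b_Cert_tree lc_b_rc_16_2 lc_b_rc_13_2 lc_b_rc_11_2 lc_b_rc_10_2 lc_b_rc_12_2 lc_b_rc_16_2 lc_b_rc_12_0 lc_b_rc_13_2 lc_b_rc_16_2 lc_b_rc_11_2 lc_b_rc_11_2 lc_b_Cert_tree lc_b_rc_12_2 lc_b_rc_14_2 lc_b_rc_9_1 lc_b_rc_9_0 lc_b_rc_13_2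 lc_b_rc_13_2 lc_b_rc_16_2 lc_b_rc_13_2 lc_b_rc_16_2) (@D3.rec (fun _ => (Cert rels S Gen.b)) lc_b_Cert_tree lc_b_rc_13_2 lc_b_rc_11_2 lc_b_rc_11_2 lc_b_rc_9_0 lc_b_rc_12_2 lc_b_rc_1_3 lc_b_rc_10_2 lc_b_rc_12_2 lc_b_rc_9_0 lc_b_Cert_tree lc_b_rc_12_2 lc_b_rc_10_2 lc_b_rc_14_2 lc_b_rc_9_0 lc_b_rc_11_2 lc_b_rc_12_2 lc_b_rc_16_2 lc_b_rc_9_1 lc_b_rc_11_2 lc_b_rc_13_2 lc_b_rc_11_2 lc_b_rc_12_2 lc_b_rc_15_2 lc_b_rc_11_2 lc_b_Cert_tree lc_b_rc_14_0 lc_b_rc_12_2 lc_b_rc_13_2 lc_b_rc_14_0 lc_b_rc_14_0 lc_b_rc_11_2) (@D3.rec (fun _ => (Cert rels S Gen.b)) lc_b_rc_45_56 lc_b_rc_45_38 lc_b_rc_12_2 lc_b_rc_10_2 lc_b_rc_13_2 lc_b_rc_13_2 lc_b_rc_13_2 lc_b_rc_11_2 lc_b_rc_11_2 lc_b_Cert_tree lc_b_rc_12_2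 lc_b_rc_11_2 lc_b_Cert_tree lc_b_rc_12_2 lc_b_rc_9_0 lc_b_rc_12_2 lc_b_rc_14_2 lc_b_rc_12_2 lc_b_rc_10_2 lc_b_rc_9_0 lc_b_rc_10_2 lc_b_rc_1_3 lc_b_rc_11_2 lc_b_rc_13_2 lc_b_rc_16_2 lc_b_Cert_tree lc_b_rc_13_2 lc_b_Cert_tree lc_b_rc_16_2 lc_b_rc_9_0 lc_b_rc_12_2 lc_b_rc_10_2) (@D3.rec (fun _ => (Cert rels S Gen.b)) lc_b_rc_9_0 lc_b_rc_10_2 lc_b_rc_1_3 lc_b_rc_12_2 lc_b_rc_10_2 lc_b_rc_1_1 lc_b_rc_1_3 lc_b_rc_11_2 lc_b_Cert_tree lc_b_rc_12_2 lc_b_rc_9_0 lc_b_Cert_tree lc_b_rc_16_2 lc_b_rc_9_0 lc_b_rc_9_0 lc_b_rc_12_2 lc_b_rc_1_3 lc_b_rc_12_2 lc_b_rc_1_3 lc_b_rc_1_3 lc_b_rc_16_2 lc_b_rc_13_2 lc_b_rc_12_2 lc_b_rc_11_0 lc_b_rc_13_2 lc_b_rc_11_2 lc_b_rc_14_2 lc_b_rc_11_2 lc_b_rc_13_2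 lc_b_rc_13_2 lc_b_rc_9_0 lc_b_rc_13_2) (@D3.rec (fun _ => (Cert rels S Gen.b)) lc_b_rc_11_2 lc_b_rc_11_2 lc_b_rc_1_3 lc_b_rc_11_2 lc_b_rc_13_2 lc_b_rc_11_2 lc_b_rc_14_2 lc_b_rc_16_2 lc_b_rc_13_2 lc_b_rc_13_2 lc_b_rc_11_2 lc_b_rc_12_2 lc_b_rc_11_2 lc_b_Cert_tree lc_b_rc_13_2 lc_b_rc_13_2 lc_b_rc_11_2 lc_b_rc_11_2 lc_b_rc_1_3 lc_b_rc_11_2 lc_b_rc_45_29 lc_b_rc_12_2 lc_b_rc_10_2 lc_b_rc_1_3 lc_b_rc_1_3 lc_b_rc_1_3 lc_b_rc_11_2 lc_b_rc_13_2 lc_b_rc_13_2 lc_b_rc_11_2 lc_b_rc_10_2 lc_b_rc_12_2) (@D3.rec (fun _ => (Cert rels S Gen.b)) lc_b_rc_11_2 lc_b_rc_11_0 lc_b_rc_13_2 lc_b_rc_14_0 lc_b_rc_11_2 lc_b_rc_13_2 lc_b_rc_11_2 lc_b_Cert_tree lc_b_rc_12_2 lc_b_rc_14_2 lc_b_rc_10_2 lc_b_rc_9_0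 lc_b_rc_10_2 lc_b_rc_13_2 lc_b_rc_11_2 lc_b_Cert_tree lc_b_rc_9_0 lc_b_rc_1_3 lc_b_rc_11_2 lc_b_rc_1_3 lc_b_rc_10_2 lc_b_rc_12_2 lc_b_rc_9_0 lc_b_rc_10_2 lc_b_rc_10_2 lc_b_rc_10_2 lc_b_rc_1_3 lc_b_rc_11_2 lc_b_rc_12_0 lc_b_rc_13_2 lc_b_rc_11_2 lc_b_rc_12_2) (@D3.rec (fun _ => (Cert rels S Gen.b)) lc_b_rc_1_3 lc_b_rc_11_2 lc_b_rc_13_2 lc_b_rc_11_2 lc_b_rc_12_0 lc_b_rc_13_2 lc_b_rc_11_0 lc_b_rc_14_2 lc_b_rc_11_2 lc_b_rc_12_2 lc_b_rc_15_2 lc_b_rc_11_2 lc_b_Cert_tree lc_b_rc_11_2 lc_b_rc_11_2 lc_b_rc_13_2 lc_b_rc_11_2 lc_b_rc_12_2 lc_b_Cert_tree lc_b_rc_1_3 lc_b_rc_11_2 lc_b_rc_16_2 lc_b_rc_13_2 lc_b_rc_13_2 lc_b_rc_11_2 lc_b_rc_12_2 lc_b_rc_1_3 lc_b_rc_1_3 lc_b_rc_16_2 lc_b_rc_13_2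 lc_b_rc_16_2 lc_b_rc_11_2) (@D3.rec (fun _ => (Cert rels S Gen.b)) lc_b_rc_14_2 lc_b_rc_11_2 lc_b_Cert_tree lc_b_rc_12_2 lc_b_rc_14_2 lc_b_Cert_tree lc_b_rc_9_0 lc_b_rc_13_2 lc_b_rc_11_2 lc_b_rc_12_2 lc_b_rc_10_2 lc_b_rc_1_3 lc_b_rc_13_2 lc_b_rc_11_2 lc_b_rc_12_2 lc_b_rc_11_2 lc_b_rc_12_0 lc_b_rc_11_2 lc_b_rc_13_2 lc_b_rc_11_2 lc_b_Cert_tree lc_b_rc_12_2 lc_b_rc_14_2 lc_b_Cert_tree lc_b_rc_12_2 lc_b_rc_9_0 lc_b_rc_11_2 lc_b_rc_14_0 lc_b_rc_1_3 lc_b_rc_14_2 lc_b_rc_1_3 lc_b_rc_1_3) (@D3.rec (fun _ => (Cert rels S Gen.b)) lc_b_rc_12_2 lc_b_rc_11_2 lc_b_rc_16_2 lc_b_rc_13_2 lc_b_rc_16_2 lc_b_rc_11_2 lc_b_rc_13_2 lc_b_rc_11_2 lc_b_Cert_tree lc_b_rc_12_2 lc_b_rc_14_2 lc_b_rc_13_2 lc_b_rc_13_2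 lc_b_rc_16_2 lc_b_rc_11_2 lc_b_rc_11_2 lc_b_Cert_tree lc_b_rc_12_2 lc_b_rc_11_2 lc_b_Cert_tree lc_b_rc_12_2 lc_b_rc_9_0 lc_b_rc_12_2 lc_b_rc_14_2 lc_b_rc_15_2 lc_b_rc_9_0 lc_b_rc_1_3 lc_b_rc_13_2 lc_b_rc_13_2 lc_b_Cert_tree lc_b_Cert_tree lc_b_rc_12_2) (@D3.rec (fun _ => (Cert rels S Gen.b)) lc_b_rc_9_0 lc_b_rc_9_0 lc_b_rc_10_2 lc_b_rc_13_2 lc_b_rc_16_2 lc_b_Cert_tree lc_b_Cert_tree lc_b_rc_16_2 lc_b_rc_9_0 lc_b_rc_12_2 lc_b_rc_9_0 lc_b_rc_1_3 lc_b_rc_12_2 lc_b_rc_9_0 lc_b_rc_10_2 lc_b_rc_9_0 lc_b_rc_12_0 lc_b_Cert_tree lc_b_rc_9_0 lc_b_rc_9_0 lc_b_rc_10_2 lc_b_rc_11_2 lc_b_rc_14_2 lc_b_rc_12_2 lc_b_rc_9_0 lc_b_rc_1_3 lc_b_rc_12_2 lc_b_rc_9_0 lc_b_rc_11_2 lc_b_rc_12_2 lc_b_rc_11_2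 lc_b_rc_12_2) (@D3.rec (fun _ => (Cert rels S Gen.b)) lc_b_rc_11_2 lc_b_rc_10_2 lc_b_rc_12_2 lc_b_rc_13_2 lc_b_rc_12_2 lc_b_rc_14_2 lc_b_rc_10_2 lc_b_rc_10_2 lc_b_rc_11_2 lc_b_rc_14_2 lc_b_rc_13_2 lc_b_rc_13_2 lc_b_rc_11_2 lc_b_rc_1_3 lc_b_rc_1_3 lc_b_rc_16_2 lc_b_rc_13_2 lc_b_rc_11_2 lc_b_rc_12_2 lc_b_rc_13_2 lc_b_rc_13_2 lc_b_rc_11_2 lc_b_rc_12_2 lc_b_rc_11_2 lc_b_Cert_tree lc_b_rc_11_2 lc_b_rc_11_2 lc_b_rc_12_2 lc_b_rc_1_3 lc_b_rc_13_2 lc_b_rc_11_2 lc_b_rc_9_1) (@D3.rec (fun _ => (Cert rels S Gen.b)) lc_b_rc_12_2 lc_b_rc_16_2 lc_b_rc_16_2 lc_b_rc_13_2 lc_b_rc_13_2 lc_b_rc_11_2 lc_b_rc_11_2 lc_b_rc_12_2 lc_b_rc_14_2 lc_b_rc_12_2 lc_b_rc_11_2 lc_b_rc_12_2 lc_b_rc_10_2 lc_b_rc_13_2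 lc_b_rc_11_2 lc_b_rc_10_2 lc_b_rc_12_2 lc_b_rc_13_2 lc_b_rc_13_2 lc_b_rc_11_2 lc_b_rc_11_2 lc_b_rc_12_2 lc_b_rc_14_2 lc_b_rc_1_3 lc_b_rc_1_3 lc_b_rc_1_3 lc_b_rc_10_2 lc_b_rc_1_3 lc_b_rc_12_2 lc_b_rc_16_2 lc_b_rc_13_2 lc_b_rc_16_2) (@D3.rec (fun _ => (Cert rels S Gen.b)) lc_b_rc_11_2 lc_b_rc_11_2 lc_b_rc_9_0 lc_b_rc_12_2 lc_b_rc_10_2 lc_b_rc_14_2 lc_b_rc_13_2 lc_b_rc_14_2 lc_b_rc_16_2 lc_b_rc_11_2 lc_b_rc_11_2 lc_b_rc_1_5 lc_b_rc_12_2 lc_b_rc_11_2 lc_b_rc_1_3 lc_b_rc_12_2 lc_b_rc_9_0 lc_b_rc_14_2 lc_b_rc_15_2 lc_b_rc_13_2 lc_b_rc_13_2 lc_b_rc_16_2 lc_b_rc_13_2 lc_b_rc_13_2 lc_b_rc_14_0 lc_b_rc_16_2 lc_b_rc_1_3 lc_b_rc_14_0 lc_b_rc_10_2 lc_b_rc_10_2 lc_b_rc_13_2 lc_b_rc_10_2) (@D3.rec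 (fun _ => (Cert rels S Gen.b)) lc_b_rc_10_2 lc_b_rc_45_65 lc_b_rc_11_2 lc_b_rc_13_2 lc_b_rc_11_2 lc_b_rc_45_29 lc_b_rc_12_2 lc_b_rc_10_2 lc_b_rc_12_2 lc_b_rc_14_2 lc_b_rc_12_0 lc_b_rc_13_2 lc_b_rc_16_2 lc_b_rc_11_2 lc_b_rc_11_2 lc_b_rc_9_1 lc_b_rc_12_2 lc_b_rc_14_2 lc_b_rc_14_2 lc_b_rc_12_0 lc_b_rc_11_2 lc_b_rc_11_2 lc_b_rc_12_2 lc_b_rc_12_2 lc_b_rc_14_2 lc_b_rc_15_2 lc_b_rc_13_2 lc_b_rc_16_2 lc_b_rc_11_2 lc_b_rc_12_2 lc_b_Cert_tree lc_b_rc_12_2) (@D3.rec (fun _ => (Cert rels S Gen.b)) lc_b_rc_1_3 lc_b_rc_1_3 lc_b_rc_11_2 lc_b_rc_16_2 lc_b_rc_13_2 lc_b_rc_13_2 lc_b_rc_11_2 lc_b_rc_12_2 lc_b_rc_9_1 lc_b_rc_12_2 lc_b_rc_13_2 lc_b_rc_16_2 lc_b_rc_11_2 lc_b_rc_13_2 lc_b_rc_11_2 lc_b_Cert_tree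 lc_b_rc_12_2 lc_b_rc_14_2 lc_b_rc_11_2 lc_b_Cert_tree lc_b_rc_12_2 lc_b_rc_9_0 lc_b_rc_12_0 lc_b_rc_16_2 lc_b_rc_13_2 lc_b_rc_11_2 lc_b_rc_1_3 lc_b_rc_12_2 lc_b_rc_16_2 lc_b_rc_13_2 lc_b_rc_16_2 lc_b_rc_11_2) (@D3.rec (fun _ => (Cert rels S Gen.b)) lc_b_rc_11_2 lc_b_rc_45_20 lc_b_rc_12_2 lc_b_rc_14_2 lc_b_rc_13_2 lc_b_rc_13_2 lc_b_rc_16_2 lc_b_rc_11_2 lc_b_rc_11_2 lc_b_rc_12_2 lc_b_rc_11_2 lc_b_rc_12_2 lc_b_rc_14_2 lc_b_rc_15_2 lc_b_rc_13_2 lc_b_rc_13_2 lc_b_rc_13_2 lc_b_rc_11_2 lc_b_rc_11_2 lc_b_rc_12_2 lc_b_rc_11_2 lc_b_rc_12_2 lc_b_rc_14_2 lc_b_rc_12_0 lc_b_rc_16_2 lc_b_rc_16_2 lc_b_rc_13_2 lc_b_rc_1_3 lc_b_rc_1_3 lc_b_rc_11_2 lc_b_Cert_tree lc_b_rc_1_3) (@D3.rec (fun _ => (Cert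 rels S Gen.b)) lc_b_rc_1_3 lc_b_rc_13_2 lc_b_rc_13_2 lc_b_rc_16_2 lc_b_rc_11_2 lc_b_rc_11_2 lc_b_Cert_tree lc_b_rc_12_2 lc_b_rc_11_2 lc_b_rc_11_2 lc_b_rc_12_2 lc_b_rc_9_0 lc_b_rc_12_2 lc_b_rc_14_2 lc_b_rc_15_2 lc_b_rc_11_2 lc_b_rc_11_2 lc_b_rc_11_2 lc_b_rc_9_0 lc_b_rc_12_2 lc_b_rc_9_1 lc_b_rc_12_2 lc_b_rc_9_0 lc_b_rc_12_2 lc_b_rc_14_2 lc_b_rc_12_2 lc_b_rc_9_1 lc_b_rc_14_2 lc_b_rc_12_2 lc_b_rc_14_2 lc_b_rc_15_2 lc_b_rc_11_2)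
def ce_b_15 : D2 → D3 → (Cert rels S Gen.b) := @D2.rec (fun _ => D3 → (Cert rels S Gen.b)) (@D3.rec (fun _ => (Cert rels S Gen.b)) lc_b_rc_13_2 lc_b_rc_16_2 lc_b_rc_13_2 lc_b_rc_10_2 lc_b_rc_46_36 lc_b_rc_11_2 lc_b_Cert_tree lc_b_rc_16_2 lc_b_rc_12_2 lc_b_rc_10_2 lc_b_rc_9_0 lc_b_rc_9_0 lc_b_Cert_tree lc_b_rc_9_0 lc_b_rc_9_0 lc_b_rc_1_3 lc_b_rc_13_2 lc_b_rc_13_2 lc_b_rc_16_2 lc_b_rc_13_2 lc_b_rc_16_2 lc_b_Cert_tree lc_b_rc_11_2 lc_b_rc_11_2 lc_b_rc_9_0 lc_b_rc_11_2 lc_b_rc_11_2 lc_b_rc_10_2 lc_b_rc_10_2 lc_b_rc_12_2 lc_b_rc_9_0 lc_b_rc_12_2) (@D3.rec (fun _ => (Cert rels S Gen.b)) lc_b_rc_12_2 lc_b_rc_10_2 lc_b_rc_12_2 lc_b_Cert_tree lc_b_rc_12_2 lc_b_rc_9_0 lc_b_rc_9_0 lc_b_rc_13_2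 lc_b_rc_14_2 lc_b_rc_13_2 lc_b_rc_16_2 lc_b_Cert_tree lc_b_Cert_tree lc_b_rc_12_2 lc_b_rc_9_0 lc_b_rc_9_0 lc_b_rc_10_2 lc_b_rc_1_3 lc_b_rc_11_2 lc_b_rc_1_3 lc_b_rc_13_2 lc_b_rc_11_2 lc_b_rc_16_0 lc_b_rc_16_2 lc_b_rc_11_2 lc_b_rc_12_2 lc_b_rc_11_2 lc_b_Cert_tree lc_b_rc_10_2 lc_b_rc_12_2 lc_b_rc_13_2 lc_b_rc_13_2) (@D3.rec (fun _ => (Cert rels S Gen.b)) lc_b_Cert_tree lc_b_rc_12_2 lc_b_rc_14_2 lc_b_rc_9_0 lc_b_rc_16_2 lc_b_rc_11_2 lc_b_Cert_tree lc_b_rc_12_2 lc_b_rc_10_2 lc_b_rc_14_2 lc_b_rc_16_2 lc_b_rc_13_2 lc_b_rc_11_2 lc_b_rc_11_2 lc_b_Cert_tree lc_b_rc_12_2 lc_b_rc_11_2 lc_b_rc_12_2 lc_b_rc_9_0 lc_b_rc_12_2 lc_b_rc_14_2 lc_b_rc_15_2 lc_b_rc_1_3 lc_b_rc_13_2 lc_b_rc_16_2 lc_b_rc_13_2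 lc_b_Cert_tree lc_b_rc_16_2 lc_b_rc_9_0 lc_b_rc_12_2 lc_b_rc_1_3 lc_b_rc_12_2) (@D3.rec (fun _ => (Cert rels S Gen.b)) lc_b_rc_10_2 lc_b_rc_9_0 lc_b_rc_10_2 lc_b_rc_11_2 lc_b_rc_13_2 lc_b_rc_13_2 lc_b_rc_9_1 lc_b_rc_11_2 lc_b_rc_13_2 lc_b_rc_11_2 lc_b_Cert_tree lc_b_rc_12_2 lc_b_rc_12_2 lc_b_rc_11_2 lc_b_Cert_tree lc_b_rc_12_2 lc_b_rc_9_0 lc_b_rc_14_0 lc_b_rc_12_2 lc_b_rc_9_1 lc_b_rc_9_1 lc_b_rc_45_20 lc_b_rc_45_38 lc_b_rc_45_65 lc_b_rc_9_1 lc_b_rc_10_2 lc_b_rc_46_29 lc_b_rc_12_2 lc_b_rc_11_2 lc_b_rc_11_2 lc_b_rc_11_2 lc_b_Cert_tree) (@D3.rec (fun _ => (Cert rels S Gen.b)) lc_b_rc_12_2 lc_b_Cert_tree lc_b_rc_12_2 lc_b_rc_9_0 lc_b_rc_12_2 lc_b_rc_14_2 lc_b_rc_46_43 lc_b_rc_12_2 lc_b_rc_9_0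 lc_b_rc_12_2 lc_b_rc_14_2 lc_b_rc_1_3 lc_b_rc_12_2 lc_b_rc_14_2 lc_b_rc_14_0 lc_b_rc_45_56 lc_b_rc_13_2 lc_b_rc_11_0 lc_b_Cert_tree lc_b_rc_16_2 lc_b_rc_9_0 lc_b_rc_11_0 lc_b_rc_9_0 lc_b_rc_12_2 lc_b_rc_1_3 lc_b_rc_12_2 lc_b_rc_11_2 lc_b_rc_1_3 lc_b_rc_10_2 lc_b_rc_9_0 lc_b_rc_1_3 lc_b_rc_9_0) (@D3.rec (fun _ => (Cert rels S Gen.b)) lc_b_rc_1_3 lc_b_rc_12_2 lc_b_rc_1_3 lc_b_rc_1_3 lc_b_rc_13_2 lc_b_rc_11_2 lc_b_rc_13_2 lc_b_rc_13_2 lc_b_rc_11_2 lc_b_rc_12_2 lc_b_rc_11_2 lc_b_Cert_tree lc_b_rc_11_2 lc_b_rc_11_2 lc_b_rc_13_2 lc_b_rc_11_2 lc_b_rc_12_2 lc_b_rc_16_2 lc_b_rc_1_3 lc_b_rc_13_2 lc_b_rc_11_2 lc_b_rc_10_2 lc_b_rc_12_2 lc_b_rc_13_2 lc_b_rc_16_2 lc_b_rc_11_2 lc_b_rc_11_2 lc_b_Cert_tree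 lc_b_rc_12_2 lc_b_rc_14_2 lc_b_rc_10_2 lc_b_rc_9_0) (@D3.rec (fun _ => (Cert rels S Gen.b)) lc_b_rc_11_2 lc_b_rc_11_2 lc_b_rc_12_2 lc_b_rc_10_2 lc_b_rc_1_3 lc_b_rc_10_2 lc_b_rc_12_2 lc_b_rc_9_0 lc_b_rc_45_65 lc_b_rc_14_2 lc_b_rc_1_3 lc_b_rc_1_3 lc_b_rc_9_0 lc_b_rc_1_3 lc_b_rc_13_2 lc_b_rc_11_2 lc_b_rc_11_2 lc_b_rc_12_2 lc_b_rc_10_2 lc_b_rc_14_2 lc_b_rc_9_0 lc_b_rc_1_1 lc_b_rc_11_2 lc_b_rc_11_2 lc_b_Cert_tree lc_b_rc_12_2 lc_b_rc_11_2 lc_b_rc_9_0 lc_b_rc_12_2 lc_b_rc_9_0 lc_b_rc_12_2 lc_b_rc_14_2) (@D3.rec (fun _ => (Cert rels S Gen.b)) lc_b_rc_15_2 lc_b_rc_1_3 lc_b_rc_16_2 lc_b_rc_9_0 lc_b_rc_1_3 lc_b_rc_10_2 lc_b_rc_10_2 lc_b_rc_10_2 lc_b_rc_11_2 lc_b_rc_13_2 lc_b_rc_13_2 lc_b_rc_11_2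 lc_b_rc_12_2 lc_b_rc_12_2 lc_b_rc_1_3 lc_b_rc_13_2 lc_b_rc_11_2 lc_b_rc_12_2 lc_b_rc_13_2 lc_b_rc_11_2 lc_b_rc_13_2 lc_b_rc_1_5 lc_b_Cert_tree lc_b_rc_12_2 lc_b_rc_14_2 lc_b_rc_10_2 lc_b_rc_12_2 lc_b_rc_9_0 lc_b_rc_12_2 lc_b_rc_12_2 lc_b_rc_11_2 lc_b_Cert_tree) (@D3.rec (fun _ => (Cert rels S Gen.b)) lc_b_rc_12_2 lc_b_rc_14_2 lc_b_rc_9_0 lc_b_rc_1_3 lc_b_rc_13_2 lc_b_rc_16_2 lc_b_rc_11_2 lc_b_rc_11_2 lc_b_rc_9_0 lc_b_rc_12_2 lc_b_rc_14_2 lc_b_rc_12_2 lc_b_rc_13_2 lc_b_rc_12_2 lc_b_rc_11_2 lc_b_rc_11_2 lc_b_Cert_tree lc_b_rc_12_2 lc_b_rc_11_2 lc_b_Cert_tree lc_b_rc_12_2 lc_b_rc_9_0 lc_b_rc_12_2 lc_b_rc_14_2 lc_b_rc_15_2 lc_b_rc_9_0 lc_b_rc_14_0 lc_b_rc_11_2 lc_b_rc_45_38 lc_b_rc_12_2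 lc_b_rc_12_2 lc_b_rc_1_3) (@D3.rec (fun _ => (Cert rels S Gen.b)) lc_b_rc_11_2 lc_b_Cert_tree lc_b_rc_12_2 lc_b_rc_14_2 lc_b_rc_1_3 lc_b_rc_13_2 lc_b_Cert_tree lc_b_rc_12_2 lc_b_rc_11_2 lc_b_Cert_tree lc_b_rc_12_2 lc_b_rc_9_0 lc_b_rc_12_2 lc_b_rc_14_2 lc_b_rc_15_2 lc_b_rc_9_0 lc_b_rc_10_2 lc_b_rc_13_2 lc_b_rc_14_0 lc_b_rc_1_3 lc_b_rc_11_2 lc_b_rc_11_2 lc_b_rc_1_3 lc_b_rc_1_3 lc_b_rc_13_2 lc_b_rc_13_2 lc_b_rc_16_2 lc_b_rc_11_2 lc_b_rc_11_2 lc_b_Cert_tree lc_b_rc_12_2 lc_b_rc_11_2) (@D3.rec (fun _ => (Cert rels S Gen.b)) lc_b_rc_14_2 lc_b_rc_12_2 lc_b_rc_9_0 lc_b_rc_12_2 lc_b_rc_14_2 lc_b_rc_15_2 lc_b_rc_11_2 lc_b_rc_11_2 lc_b_rc_11_2 lc_b_Cert_tree lc_b_rc_12_2 lc_b_Cert_tree lc_b_rc_12_2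 lc_b_rc_9_0 lc_b_rc_12_2 lc_b_rc_14_2 lc_b_rc_12_2 lc_b_rc_9_0 lc_b_rc_12_2 lc_b_rc_14_2 lc_b_rc_1_3 lc_b_rc_12_2 lc_b_rc_14_2 lc_b_rc_15_2 lc_b_Cert_tree lc_b_rc_13_2 lc_b_rc_9_0 lc_b_rc_9_0 lc_b_rc_16_2 lc_b_rc_11_2 lc_b_Cert_tree lc_b_rc_9_0) (@D3.rec (fun _ => (Cert rels S Gen.b)) lc_b_rc_9_0 lc_b_rc_12_2 lc_b_rc_1_3 lc_b_rc_12_2 lc_b_rc_11_2 lc_b_rc_14_0 lc_b_rc_9_0 lc_b_rc_10_2 lc_b_rc_10_2 lc_b_rc_1_3 lc_b_rc_12_2 lc_b_rc_12_2 lc_b_rc_10_2 lc_b_rc_12_2 lc_b_rc_14_2 lc_b_rc_11_2 lc_b_rc_12_2 lc_b_rc_10_2 lc_b_rc_14_2 lc_b_rc_13_2 lc_b_rc_12_0 lc_b_rc_15_2 lc_b_rc_13_2 lc_b_rc_11_2 lc_b_rc_11_2 lc_b_rc_11_2 lc_b_rc_12_2 lc_b_rc_1_3 lc_b_rc_1_3 lc_b_rc_13_2 lc_b_rc_11_2 lc_b_rc_9_1)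 (@D3.rec (fun _ => (Cert rels S Gen.b)) lc_b_rc_12_2 lc_b_rc_13_2 lc_b_rc_13_2 lc_b_rc_11_2 lc_b_Cert_tree lc_b_rc_12_2 lc_b_rc_14_2 lc_b_Cert_tree lc_b_rc_12_2 lc_b_rc_9_0 lc_b_rc_12_2 lc_b_rc_14_0 lc_b_rc_12_2 lc_b_rc_14_2 lc_b_rc_10_2 lc_b_rc_1_3 lc_b_rc_11_2 lc_b_rc_12_2 lc_b_rc_10_2 lc_b_rc_14_2 lc_b_rc_12_2 lc_b_rc_12_2 lc_b_rc_11_2 lc_b_rc_13_2 lc_b_rc_12_2 lc_b_rc_12_2 lc_b_rc_14_2 lc_b_rc_15_2 lc_b_rc_13_2 lc_b_rc_10_2 lc_b_rc_12_2 lc_b_rc_12_2) (@D3.rec (fun _ => (Cert rels S Gen.b)) lc_b_rc_11_2 lc_b_rc_9_0 lc_b_rc_12_2 lc_b_rc_10_2 lc_b_rc_14_2 lc_b_rc_11_2 lc_b_rc_11_2 lc_b_rc_12_2 lc_b_rc_12_2 lc_b_rc_14_2 lc_b_rc_15_2 lc_b_rc_1_3 lc_b_rc_1_3 lc_b_rc_9_1 lc_b_rc_1_3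 lc_b_rc_10_2 lc_b_rc_1_3 lc_b_rc_13_2 lc_b_rc_16_2 lc_b_rc_11_2 lc_b_rc_11_2 lc_b_rc_46_29 lc_b_rc_12_2 lc_b_rc_9_0 lc_b_rc_12_2 lc_b_rc_10_4 lc_b_rc_14_2 lc_b_rc_11_2 lc_b_rc_10_2 lc_b_rc_15_2 lc_b_rc_11_2 lc_b_rc_11_2) (@D3.rec (fun _ => (Cert rels S Gen.b)) lc_b_rc_11_2 lc_b_rc_13_2 lc_b_rc_12_2 lc_b_rc_16_2 lc_b_rc_12_2 lc_b_rc_9_0 lc_b_rc_14_2 lc_b_rc_12_2 lc_b_rc_12_2 lc_b_rc_14_2 lc_b_rc_9_0 lc_b_rc_15_2 lc_b_rc_11_2 lc_b_rc_46_22 lc_b_rc_11_2 lc_b_rc_11_2 lc_b_rc_13_2 lc_b_rc_13_2 lc_b_rc_16_2 lc_b_rc_12_2 lc_b_rc_45_38 lc_b_rc_45_65 lc_b_rc_14_2 lc_b_rc_14_2 lc_b_rc_15_2 lc_b_rc_12_0 lc_b_rc_11_2 lc_b_rc_11_2 lc_b_rc_10_2 lc_b_rc_12_2 lc_b_rc_11_2 lc_b_rc_12_2) (@D3.rec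 (fun _ => (Cert rels S Gen.b)) lc_b_rc_10_2 lc_b_rc_14_2 lc_b_rc_15_2 lc_b_rc_14_2 lc_b_rc_13_2 lc_b_rc_12_2 lc_b_rc_12_2 lc_b_rc_14_2 lc_b_rc_14_2 lc_b_rc_15_2 lc_b_Cert_tree lc_b_rc_12_2 lc_b_rc_12_0 lc_b_rc_9_0 lc_b_rc_12_2 lc_b_rc_11_2 lc_b_rc_1_3 lc_b_rc_13_2 lc_b_rc_16_2 lc_b_rc_11_2 lc_b_rc_11_2 lc_b_Cert_tree lc_b_rc_12_2 lc_b_rc_14_2 lc_b_rc_13_2 lc_b_rc_12_2 lc_b_rc_11_2 lc_b_rc_11_2 lc_b_Cert_tree lc_b_rc_12_2 lc_b_rc_16_2 lc_b_Cert_tree) (@D3.rec (fun _ => (Cert rels S Gen.b)) lc_b_rc_12_2 lc_b_rc_9_0 lc_b_rc_12_2 lc_b_rc_14_2 lc_b_rc_15_2 lc_b_rc_11_0 lc_b_rc_9_0 lc_b_rc_11_0 lc_b_rc_1_3 lc_b_rc_12_0 lc_b_rc_13_2 lc_b_rc_11_2 lc_b_Cert_tree lc_b_rc_12_2 lc_b_rc_1_3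 lc_b_rc_13_2 lc_b_rc_16_2 lc_b_rc_11_2 lc_b_rc_11_2 lc_b_rc_10_2 lc_b_rc_12_2 lc_b_rc_9_1 lc_b_rc_12_2 lc_b_rc_12_2 lc_b_rc_14_2 lc_b_rc_15_2 lc_b_rc_11_2 lc_b_rc_13_2 lc_b_rc_11_2 lc_b_rc_12_2 lc_b_rc_12_2 lc_b_rc_14_2) (@D3.rec (fun _ => (Cert rels S Gen.b)) lc_b_rc_12_2 lc_b_rc_14_2 lc_b_rc_15_2 lc_b_rc_11_2 lc_b_rc_11_2 lc_b_rc_11_2 lc_b_rc_12_2 lc_b_rc_12_2 lc_b_rc_14_2 lc_b_rc_12_2 lc_b_rc_14_2 lc_b_rc_14_2 lc_b_rc_12_2 lc_b_rc_12_2 lc_b_rc_13_2 lc_b_rc_1_3 lc_b_Cert_tree lc_b_rc_1_3 lc_b_rc_9_1 lc_b_rc_12_2 lc_b_rc_9_0 lc_b_rc_12_2 lc_b_rc_1_3 lc_b_rc_1_3 lc_b_rc_11_2 lc_b_rc_11_2 lc_b_rc_11_2 lc_b_rc_9_0 lc_b_rc_12_2 lc_b_rc_10_4 lc_b_rc_12_2 lc_b_rc_9_0) (@D3.rec (fun _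 => (Cert rels S Gen.b)) lc_b_rc_12_2 lc_b_rc_14_2 lc_b_rc_12_2 lc_b_rc_9_1 lc_b_rc_14_2 lc_b_rc_12_2 lc_b_rc_14_2 lc_b_rc_15_2 lc_b_rc_11_2 lc_b_rc_12_2 lc_b_rc_12_2 lc_b_rc_12_2 lc_b_rc_1_1 lc_b_rc_14_2 lc_b_rc_12_2 lc_b_rc_14_2 lc_b_rc_12_2 lc_b_rc_11_2 lc_b_rc_14_2 lc_b_rc_15_2 lc_b_rc_14_2 lc_b_rc_1_1 lc_b_rc_15_2 lc_b_rc_14_2 lc_b_rc_15_2 lc_b_rc_16_2 lc_b_rc_9_0 lc_b_rc_1_3 lc_b_rc_9_0 lc_b_rc_1_3 lc_b_rc_1_3 lc_b_rc_1_3) (@D3.rec (fun _ => (Cert rels S Gen.b)) lc_b_rc_13_2 lc_b_rc_47_21 lc_b_Cert_tree lc_b_rc_9_0 lc_b_rc_16_0 lc_b_rc_12_2 lc_b_rc_12_2 lc_b_rc_11_2 lc_b_rc_9_0 lc_b_rc_12_2 lc_b_rc_1_3 lc_b_rc_16_0 lc_b_rc_16_2 lc_b_Cert_tree lc_b_Cert_tree lc_b_rc_9_0 lc_b_rc_9_0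 lc_b_rc_46_50 lc_b_rc_12_2 lc_b_rc_45_47 lc_b_rc_11_2 lc_b_rc_10_2 lc_b_rc_12_2 lc_b_rc_11_2 lc_b_rc_11_2 lc_b_Cert_tree lc_b_rc_12_2 lc_b_rc_14_2 lc_b_Cert_tree lc_b_rc_12_2 lc_b_rc_9_0 lc_b_rc_10_2) (@D3.rec (fun _ => (Cert rels S Gen.b)) lc_b_rc_14_2 lc_b_rc_13_2 lc_b_Cert_tree lc_b_rc_13_2 lc_b_rc_9_0 lc_b_rc_12_2 lc_b_rc_12_2 lc_b_rc_15_2 lc_b_rc_11_2 lc_b_Cert_tree lc_b_rc_12_2 lc_b_rc_9_0 lc_b_rc_12_2 lc_b_rc_14_2 lc_b_rc_11_2 lc_b_rc_10_2 lc_b_rc_15_2 lc_b_rc_11_2 lc_b_rc_11_2 lc_b_rc_13_2 lc_b_rc_12_2 lc_b_Cert_tree lc_b_rc_12_2 lc_b_rc_9_0 lc_b_rc_12_2 lc_b_rc_14_2 lc_b_rc_11_2 lc_b_rc_12_2 lc_b_rc_1_3 lc_b_rc_12_2 lc_b_rc_14_2 lc_b_rc_15_2) (@D3.rec (fun _ => (Cert rels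 S Gen.b)) lc_b_rc_14_2 lc_b_rc_9_0 lc_b_rc_12_2 lc_b_rc_1_3 lc_b_rc_12_2 lc_b_rc_11_2 lc_b_rc_1_3 lc_b_rc_11_2 lc_b_rc_11_2 lc_b_rc_13_2 lc_b_rc_47_35 lc_b_rc_11_2 lc_b_rc_11_2 lc_b_Cert_tree lc_b_rc_11_2 lc_b_rc_13_2 lc_b_Cert_tree lc_b_rc_11_2 lc_b_rc_9_0 lc_b_rc_12_2 lc_b_rc_14_2 lc_b_rc_12_2 lc_b_rc_46_29 lc_b_rc_9_0 lc_b_rc_9_0 lc_b_rc_1_3 lc_b_rc_11_2 lc_b_rc_1_3 lc_b_rc_9_1 lc_b_rc_13_2 lc_b_rc_10_2 lc_b_rc_12_2)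
def ce_b_16 : D2 → D3 → (Cert rels S Gen.b) := @D2.rec (fun _ => D3 → (Cert rels S Gen.b)) (@D3.rec (fun _ => (Cert rels S Gen.b)) lc_b_rc_10_2 lc_b_rc_12_0 lc_b_rc_10_2 lc_b_rc_14_2 lc_b_rc_10_2 lc_b_rc_12_0 lc_b_rc_1_1 lc_b_rc_12_2 lc_b_rc_9_1 lc_b_rc_12_2 lc_b_Cert_tree lc_b_rc_12_2 lc_b_rc_9_0 lc_b_rc_12_2 lc_b_rc_14_2 lc_b_rc_9_0 lc_b_rc_12_2 lc_b_rc_14_2 lc_b_rc_1_3 lc_b_rc_12_2 lc_b_rc_11_2 lc_b_rc_14_2 lc_b_rc_14_0 lc_b_rc_10_4 lc_b_rc_12_0 lc_b_rc_12_2 lc_b_rc_12_2 lc_b_rc_14_2 lc_b_rc_14_0 lc_b_rc_1_3 lc_b_rc_14_2 lc_b_rc_15_2) (@D3.rec (fun _ => (Cert rels S Gen.b)) lc_b_rc_11_2 lc_b_rc_9_0 lc_b_rc_16_2 lc_b_rc_45_56 lc_b_rc_1_3 lc_b_rc_12_2 lc_b_rc_11_2 lc_b_rc_1_3 lc_b_rc_11_2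 lc_b_rc_1_3 lc_b_rc_1_3 lc_b_rc_1_3 lc_b_rc_11_2 lc_b_rc_10_2 lc_b_rc_12_2 lc_b_rc_11_2 lc_b_rc_13_0 lc_b_Cert_tree lc_b_rc_12_2 lc_b_rc_14_2 lc_b_Cert_tree lc_b_rc_12_2 lc_b_rc_9_0 lc_b_rc_12_2 lc_b_rc_10_2 lc_b_rc_12_2 lc_b_rc_11_2 lc_b_rc_16_2 lc_b_rc_12_2 lc_b_rc_14_2 lc_b_rc_10_2 lc_b_rc_1_3) (@D3.rec (fun _ => (Cert rels S Gen.b)) lc_b_rc_11_2 lc_b_rc_12_2 lc_b_rc_10_2 lc_b_rc_14_2 lc_b_rc_11_2 lc_b_rc_11_2 lc_b_Cert_tree lc_b_rc_12_2 lc_b_rc_11_2 lc_b_rc_12_2 lc_b_rc_9_0 lc_b_rc_12_2 lc_b_rc_14_2 lc_b_rc_15_2 lc_b_rc_12_2 lc_b_rc_9_0 lc_b_rc_12_2 lc_b_rc_14_2 lc_b_rc_1_3 lc_b_rc_10_2 lc_b_rc_14_2 lc_b_rc_12_2 lc_b_rc_9_0 lc_b_rc_15_2 lc_b_rc_1_3 lc_b_rc_1_3 lc_b_rc_12_2 lc_b_rc_1_3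 lc_b_rc_11_2 lc_b_rc_12_2 lc_b_rc_12_2 lc_b_rc_14_2) (@D3.rec (fun _ => (Cert rels S Gen.b)) lc_b_rc_11_2 lc_b_rc_10_2 lc_b_rc_15_2 lc_b_rc_11_2 lc_b_rc_16_2 lc_b_rc_12_2 lc_b_rc_13_0 lc_b_rc_11_2 lc_b_rc_9_0 lc_b_rc_12_2 lc_b_rc_14_2 lc_b_rc_12_2 lc_b_rc_10_4 lc_b_rc_14_2 lc_b_rc_1_3 lc_b_rc_12_2 lc_b_rc_14_2 lc_b_rc_15_2 lc_b_rc_1_3 lc_b_rc_11_2 lc_b_rc_13_2 lc_b_rc_13_2 lc_b_rc_12_2 lc_b_rc_14_2 lc_b_rc_1_3 lc_b_rc_1_3 lc_b_rc_11_2 lc_b_rc_12_2 lc_b_rc_14_2 lc_b_rc_11_2 lc_b_Cert_tree lc_b_rc_12_2) (@D3.rec (fun _ => (Cert rels S Gen.b)) lc_b_rc_13_0 lc_b_rc_10_2 lc_b_rc_12_2 lc_b_rc_9_0 lc_b_rc_12_2 lc_b_rc_14_2 lc_b_rc_15_2 lc_b_rc_12_2 lc_b_rc_1_3 lc_b_rc_12_2 lc_b_rc_14_2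 lc_b_Cert_tree lc_b_rc_12_2 lc_b_rc_9_0 lc_b_rc_12_2 lc_b_rc_12_2 lc_b_rc_15_2 lc_b_rc_1_3 lc_b_rc_11_2 lc_b_rc_11_2 lc_b_rc_13_2 lc_b_rc_12_2 lc_b_rc_12_2 lc_b_rc_11_2 lc_b_rc_14_2 lc_b_rc_15_2 lc_b_rc_14_2 lc_b_rc_13_2 lc_b_rc_13_2 lc_b_Cert_tree lc_b_rc_12_2 lc_b_Cert_tree) (@D3.rec (fun _ => (Cert rels S Gen.b)) lc_b_rc_12_2 lc_b_rc_9_0 lc_b_rc_12_2 lc_b_rc_14_2 lc_b_rc_12_2 lc_b_rc_9_0 lc_b_rc_12_2 lc_b_rc_14_2 lc_b_rc_14_0 lc_b_rc_12_2 lc_b_rc_14_2 lc_b_rc_15_2 lc_b_rc_46_43 lc_b_rc_12_2 lc_b_rc_10_2 lc_b_rc_12_0 lc_b_rc_12_2 lc_b_rc_1_3 lc_b_Cert_tree lc_b_rc_12_2 lc_b_rc_9_0 lc_b_rc_12_2 lc_b_rc_14_2 lc_b_rc_15_2 lc_b_rc_11_2 lc_b_Cert_tree lc_b_rc_13_2 lc_b_rc_9_0 lc_b_rc_12_2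 lc_b_rc_14_2 lc_b_rc_12_2 lc_b_rc_9_0) (@D3.rec (fun _ => (Cert rels S Gen.b)) lc_b_rc_12_2 lc_b_rc_14_2 lc_b_rc_1_3 lc_b_rc_12_2 lc_b_rc_14_2 lc_b_rc_15_2 lc_b_rc_13_2 lc_b_rc_14_0 lc_b_rc_13_2 lc_b_rc_1_3 lc_b_rc_12_2 lc_b_rc_12_2 lc_b_rc_1_3 lc_b_rc_1_3 lc_b_rc_11_2 lc_b_rc_11_2 lc_b_rc_11_2 lc_b_rc_14_2 lc_b_rc_12_2 lc_b_Cert_tree lc_b_rc_12_2 lc_b_rc_9_0 lc_b_rc_12_2 lc_b_rc_14_2 lc_b_rc_10_2 lc_b_rc_12_2 lc_b_rc_14_0 lc_b_rc_14_2 lc_b_rc_12_2 lc_b_rc_14_2 lc_b_rc_15_2 lc_b_rc_12_2) (@D3.rec (fun _ => (Cert rels S Gen.b)) lc_b_rc_12_2 lc_b_Cert_tree lc_b_rc_12_2 lc_b_rc_9_0 lc_b_rc_12_2 lc_b_rc_14_2 lc_b_rc_9_0 lc_b_rc_12_2 lc_b_rc_14_2 lc_b_rc_1_3 lc_b_rc_12_2 lc_b_rc_11_2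 lc_b_rc_14_2 lc_b_rc_15_2 lc_b_rc_14_2 lc_b_rc_12_2 lc_b_rc_14_2 lc_b_rc_15_2 lc_b_rc_1_3 lc_b_rc_14_2 lc_b_rc_15_2 lc_b_rc_9_0 lc_b_rc_13_2 lc_b_rc_9_0 lc_b_rc_9_0 lc_b_rc_11_0 lc_b_rc_12_2 lc_b_rc_11_2 lc_b_rc_45_38 lc_b_rc_11_2 lc_b_rc_45_20 lc_b_rc_12_2) (@D3.rec (fun _ => (Cert rels S Gen.b)) lc_b_rc_12_2 lc_b_rc_10_2 lc_b_rc_14_2 lc_b_rc_15_2 lc_b_rc_12_2 lc_b_rc_12_0 lc_b_rc_10_2 lc_b_rc_15_2 lc_b_rc_13_2 lc_b_rc_12_0 lc_b_rc_16_2 lc_b_rc_12_2 lc_b_rc_10_2 lc_b_rc_12_2 lc_b_rc_12_2 lc_b_rc_14_2 lc_b_rc_11_2 lc_b_rc_10_2 lc_b_rc_1_3 lc_b_rc_11_2 lc_b_Cert_tree lc_b_rc_12_2 lc_b_rc_10_2 lc_b_rc_14_2 lc_b_rc_16_2 lc_b_rc_13_2 lc_b_Cert_tree lc_b_rc_12_2 lc_b_rc_9_0 lc_b_rc_12_2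 lc_b_rc_14_2 lc_b_rc_15_2) (@D3.rec (fun _ => (Cert rels S Gen.b)) lc_b_rc_9_0 lc_b_rc_12_2 lc_b_rc_1_3 lc_b_rc_12_2 lc_b_rc_10_2 lc_b_rc_14_2 lc_b_rc_15_2 lc_b_rc_10_2 lc_b_rc_1_3 lc_b_rc_12_2 lc_b_rc_14_2 lc_b_rc_10_2 lc_b_rc_15_2 lc_b_rc_13_0 lc_b_rc_13_2 lc_b_rc_12_2 lc_b_rc_13_2 lc_b_rc_14_2 lc_b_rc_12_2 lc_b_rc_15_2 lc_b_rc_10_2 lc_b_rc_13_2 lc_b_rc_10_2 lc_b_rc_12_0 lc_b_rc_12_2 lc_b_rc_10_2 lc_b_rc_12_2 lc_b_rc_10_2 lc_b_rc_14_2 lc_b_rc_11_2 lc_b_rc_10_2 lc_b_rc_15_2) (@D3.rec (fun _ => (Cert rels S Gen.b)) lc_b_rc_12_2 lc_b_rc_12_2 lc_b_rc_14_2 lc_b_rc_12_2 lc_b_rc_15_2 lc_b_rc_1_3 lc_b_rc_13_2 lc_b_rc_1_3 lc_b_rc_12_2 lc_b_rc_1_3 lc_b_rc_10_2 lc_b_rc_1_3 lc_b_rc_11_2 lc_b_rc_11_2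 lc_b_rc_45_56 lc_b_rc_12_2 lc_b_rc_10_4 lc_b_rc_12_2 lc_b_rc_10_4 lc_b_rc_14_2 lc_b_rc_10_4 lc_b_rc_14_2 lc_b_rc_10_4 lc_b_rc_15_2 lc_b_rc_14_2 lc_b_rc_13_2 lc_b_rc_10_2 lc_b_rc_12_2 lc_b_rc_12_2 lc_b_rc_12_2 lc_b_rc_1_3 lc_b_rc_14_2) (@D3.rec (fun _ => (Cert rels S Gen.b)) lc_b_rc_12_2 lc_b_rc_14_2 lc_b_rc_11_2 lc_b_rc_12_0 lc_b_rc_15_2 lc_b_rc_12_2 lc_b_rc_9_0 lc_b_rc_15_2 lc_b_rc_11_2 lc_b_rc_11_2 lc_b_rc_13_2 lc_b_rc_15_0 lc_b_rc_14_0 lc_b_rc_14_2 lc_b_rc_10_2 lc_b_rc_1_5 lc_b_rc_15_2 lc_b_rc_15_2 lc_b_rc_10_2 lc_b_rc_12_2 lc_b_rc_10_2 lc_b_rc_12_2 lc_b_rc_10_2 lc_b_rc_14_2 lc_b_rc_9_1 lc_b_rc_14_2 lc_b_rc_10_2 lc_b_rc_15_2 lc_b_rc_16_2 lc_b_rc_13_2 lc_b_rc_14_2 lc_b_rc_14_2)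 (@D3.rec (fun _ => (Cert rels S Gen.b)) lc_b_rc_15_2 lc_b_rc_15_2 lc_b_rc_9_0 lc_b_rc_12_2 lc_b_rc_14_2 lc_b_rc_12_0 lc_b_rc_1_3 lc_b_rc_11_2 lc_b_rc_11_2 lc_b_rc_1_3 lc_b_rc_11_2 lc_b_rc_11_2 lc_b_Cert_tree lc_b_rc_12_2 lc_b_rc_12_2 lc_b_rc_9_0 lc_b_rc_12_2 lc_b_rc_14_2 lc_b_rc_15_2 lc_b_rc_11_2 lc_b_rc_11_2 lc_b_Cert_tree lc_b_rc_12_2 lc_b_Cert_tree lc_b_rc_12_2 lc_b_rc_9_0 lc_b_rc_12_2 lc_b_rc_14_2 lc_b_rc_9_1 lc_b_rc_16_2 lc_b_rc_9_0 lc_b_rc_12_2) (@D3.rec (fun _ => (Cert rels S Gen.b)) lc_b_rc_14_2 lc_b_rc_1_3 lc_b_rc_12_2 lc_b_rc_14_2 lc_b_rc_15_2 lc_b_rc_1_3 lc_b_rc_45_56 lc_b_rc_11_2 lc_b_Cert_tree lc_b_rc_12_2 lc_b_rc_9_0 lc_b_rc_12_2 lc_b_rc_12_0 lc_b_rc_1_3 lc_b_rc_11_2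 lc_b_rc_11_2 lc_b_rc_10_2 lc_b_rc_12_2 lc_b_rc_10_2 lc_b_rc_12_2 lc_b_rc_10_2 lc_b_rc_14_2 lc_b_rc_16_2 lc_b_rc_14_2 lc_b_rc_10_2 lc_b_rc_15_2 lc_b_rc_45_29 lc_b_rc_12_2 lc_b_rc_13_2 lc_b_rc_12_2 lc_b_rc_14_2 lc_b_rc_14_2) (@D3.rec (fun _ => (Cert rels S Gen.b)) lc_b_rc_15_2 lc_b_rc_12_2 lc_b_rc_15_2 lc_b_rc_16_2 lc_b_rc_12_2 lc_b_rc_12_2 lc_b_rc_12_2 lc_b_rc_14_2 lc_b_rc_14_2 lc_b_rc_14_2 lc_b_rc_12_2 lc_b_rc_14_0 lc_b_rc_13_0 lc_b_rc_14_2 lc_b_rc_11_2 lc_b_rc_13_2 lc_b_Cert_tree lc_b_rc_1_3 lc_b_rc_9_0 lc_b_rc_12_2 lc_b_rc_1_3 lc_b_rc_14_0 lc_b_rc_12_2 lc_b_rc_12_2 lc_b_rc_14_2 lc_b_rc_1_3 lc_b_rc_13_0 lc_b_rc_12_2 lc_b_rc_12_2 lc_b_rc_12_2 lc_b_rc_10_4 lc_b_rc_14_2) (@D3.rec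 (fun _ => (Cert rels S Gen.b)) lc_b_rc_12_2 lc_b_rc_14_2 lc_b_rc_12_2 lc_b_rc_11_2 lc_b_rc_14_2 lc_b_rc_15_2 lc_b_rc_14_2 lc_b_rc_14_2 lc_b_rc_15_2 lc_b_rc_14_2 lc_b_rc_15_2 lc_b_rc_11_0 lc_b_rc_14_2 lc_b_rc_14_2 lc_b_rc_14_2 lc_b_rc_9_0 lc_b_rc_15_2 lc_b_rc_11_0 lc_b_rc_15_2 lc_b_rc_14_2 lc_b_rc_11_2 lc_b_rc_15_2 lc_b_rc_15_2 lc_b_rc_9_1 lc_b_rc_15_2 lc_b_rc_46_36 lc_b_rc_11_0 lc_b_rc_9_0 lc_b_rc_13_0 lc_b_rc_11_2 lc_b_rc_1_3 lc_b_rc_12_2) (@D3.rec (fun _ => (Cert rels S Gen.b)) lc_b_Cert_tree lc_b_rc_9_0 lc_b_rc_9_0 lc_b_rc_46_22 lc_b_Cert_tree lc_b_rc_12_2 lc_b_rc_10_2 lc_b_rc_14_2 lc_b_Cert_tree lc_b_rc_12_2 lc_b_Cert_tree lc_b_rc_12_2 lc_b_rc_9_0 lc_b_rc_12_2 lc_b_rc_14_2 lc_b_rc_15_2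 lc_b_rc_9_0 lc_b_rc_12_2 lc_b_rc_1_3 lc_b_rc_11_2 lc_b_rc_10_2 lc_b_rc_15_2 lc_b_Cert_tree lc_b_rc_14_0 lc_b_rc_9_0 lc_b_rc_12_2 lc_b_rc_14_2 lc_b_rc_12_2 lc_b_rc_14_2 lc_b_rc_14_0 lc_b_Cert_tree lc_b_rc_12_2) (@D3.rec (fun _ => (Cert rels S Gen.b)) lc_b_rc_9_0 lc_b_rc_12_2 lc_b_rc_14_2 lc_b_rc_12_2 lc_b_rc_12_2 lc_b_rc_14_2 lc_b_rc_15_2 lc_b_rc_11_2 lc_b_rc_13_2 lc_b_rc_10_2 lc_b_rc_12_2 lc_b_rc_14_2 lc_b_rc_12_2 lc_b_rc_13_2 lc_b_rc_12_2 lc_b_rc_9_0 lc_b_rc_12_2 lc_b_rc_14_2 lc_b_rc_1_3 lc_b_rc_12_2 lc_b_rc_11_2 lc_b_rc_14_2 lc_b_rc_15_2 lc_b_rc_11_2 lc_b_rc_12_2 lc_b_rc_1_3 lc_b_rc_14_2 lc_b_rc_15_2 lc_b_rc_1_3 lc_b_rc_12_2 lc_b_rc_11_2 lc_b_rc_1_3) (@D3.rec (fun _ => (Cert rels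 S Gen.b)) lc_b_rc_11_2 lc_b_rc_13_2 lc_b_rc_13_2 lc_b_rc_45_29 lc_b_rc_16_0 lc_b_rc_12_2 lc_b_Cert_tree lc_b_rc_12_2 lc_b_rc_9_0 lc_b_rc_12_2 lc_b_rc_13_2 lc_b_rc_11_2 lc_b_rc_13_2 lc_b_rc_9_0 lc_b_rc_12_2 lc_b_rc_11_2 lc_b_rc_1_3 lc_b_rc_12_2 lc_b_rc_14_2 lc_b_rc_14_0 lc_b_rc_1_3 lc_b_rc_11_2 lc_b_rc_10_2 lc_b_rc_12_2 lc_b_rc_10_2 lc_b_rc_1_3 lc_b_rc_10_2 lc_b_rc_9_1 lc_b_rc_12_2 lc_b_rc_11_0 lc_b_rc_11_2 lc_b_rc_12_0) (@D3.rec (fun _ => (Cert rels S Gen.b)) lc_b_rc_12_0 lc_b_rc_10_2 lc_b_rc_9_1 lc_b_rc_12_0 lc_b_rc_11_2 lc_b_rc_12_2 lc_b_rc_12_2 lc_b_rc_12_0 lc_b_rc_9_0 lc_b_rc_12_2 lc_b_rc_13_0 lc_b_rc_12_2 lc_b_rc_12_2 lc_b_rc_14_2 lc_b_rc_14_0 lc_b_rc_1_3 lc_b_rc_12_2 lc_b_rc_11_2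 lc_b_rc_14_2 lc_b_rc_14_0 lc_b_rc_1_3 lc_b_rc_11_2 lc_b_rc_14_2 lc_b_rc_11_2 lc_b_rc_15_2 lc_b_rc_10_4 lc_b_rc_12_0 lc_b_rc_14_2 lc_b_rc_14_2 lc_b_rc_12_2 lc_b_rc_15_2 lc_b_rc_45_38) (@D3.rec (fun _ => (Cert rels S Gen.b)) lc_b_rc_15_2 lc_b_rc_16_2 lc_b_rc_1_3 lc_b_rc_11_2 lc_b_rc_13_2 lc_b_rc_1_3 lc_b_rc_10_2 lc_b_rc_1_3 lc_b_Cert_tree lc_b_rc_12_2 lc_b_rc_10_2 lc_b_rc_14_2 lc_b_Cert_tree lc_b_rc_12_2 lc_b_Cert_tree lc_b_rc_14_0 lc_b_rc_9_0 lc_b_rc_12_2 lc_b_rc_14_2 lc_b_rc_15_2 lc_b_rc_9_0 lc_b_rc_45_47 lc_b_rc_1_3 lc_b_rc_12_2 lc_b_rc_10_2 lc_b_rc_14_2 lc_b_rc_10_2 lc_b_rc_12_2 lc_b_rc_9_0 lc_b_rc_12_2 lc_b_rc_15_2 lc_b_rc_10_2) (@D3.rec (fun _ => (Cert rels S Gen.b)) lc_b_rc_1_3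 lc_b_rc_12_2 lc_b_rc_14_2 lc_b_rc_11_2 lc_b_rc_10_2 lc_b_rc_15_2 lc_b_rc_13_2 lc_b_rc_12_2 lc_b_rc_10_2 lc_b_rc_12_2 lc_b_rc_9_0 lc_b_rc_12_2 lc_b_rc_14_2 lc_b_rc_12_2 lc_b_rc_12_2 lc_b_rc_12_2 lc_b_rc_14_2 lc_b_rc_15_2 lc_b_rc_14_2 lc_b_rc_12_2 lc_b_rc_12_0 lc_b_rc_15_2 lc_b_rc_1_3 lc_b_rc_10_2 lc_b_rc_15_2 lc_b_rc_9_0 lc_b_rc_1_5 lc_b_rc_1_3 lc_b_rc_1_3 lc_b_rc_14_2 lc_b_rc_1_3 lc_b_rc_12_2)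
def ce_b_17 : D2 → D3 → (Cert rels S Gen.b) := @D2.rec (fun _ => D3 → (Cert rels S Gen.b)) (@D3.rec (fun _ => (Cert rels S Gen.b)) lc_b_rc_14_2 lc_b_rc_14_2 lc_b_rc_15_2 lc_b_rc_11_2 lc_b_rc_13_2 lc_b_rc_10_2 lc_b_rc_12_2 lc_b_rc_11_0 lc_b_rc_14_2 lc_b_rc_13_0 lc_b_rc_11_2 lc_b_rc_1_3 lc_b_rc_12_2 lc_b_rc_14_2 lc_b_rc_15_2 lc_b_rc_12_2 lc_b_rc_10_4 lc_b_rc_15_2 lc_b_rc_1_3 lc_b_rc_14_2 lc_b_rc_15_2 lc_b_rc_13_2 lc_b_rc_13_2 lc_b_rc_14_2 lc_b_rc_15_2 lc_b_rc_1_3 lc_b_rc_1_3 lc_b_rc_12_2 lc_b_rc_14_2 lc_b_rc_15_2 lc_b_rc_10_2 lc_b_rc_12_2) (@D3.rec (fun _ => (Cert rels S Gen.b)) lc_b_rc_9_0 lc_b_rc_12_2 lc_b_rc_14_2 lc_b_rc_13_0 lc_b_rc_12_2 lc_b_rc_11_2 lc_b_rc_1_3 lc_b_rc_12_2 lc_b_rc_14_2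 lc_b_rc_15_2 lc_b_rc_13_0 lc_b_rc_12_2 lc_b_rc_15_2 lc_b_rc_9_0 lc_b_rc_12_2 lc_b_rc_12_2 lc_b_rc_12_2 lc_b_rc_14_2 lc_b_rc_12_2 lc_b_rc_1_3 lc_b_rc_12_2 lc_b_rc_15_0 lc_b_rc_12_2 lc_b_rc_13_2 lc_b_rc_14_2 lc_b_rc_14_2 lc_b_rc_14_2 lc_b_rc_15_2 lc_b_rc_16_2 lc_b_rc_15_2 lc_b_rc_13_2 lc_b_Cert_tree) (@D3.rec (fun _ => (Cert rels S Gen.b)) lc_b_rc_13_2 lc_b_rc_9_0 lc_b_rc_12_2 lc_b_rc_14_2 lc_b_rc_9_0 lc_b_rc_12_2 lc_b_rc_14_2 lc_b_rc_14_0 lc_b_rc_12_2 lc_b_rc_11_2 lc_b_rc_14_2 lc_b_rc_15_2 lc_b_rc_12_2 lc_b_rc_12_2 lc_b_rc_14_2 lc_b_rc_15_2 lc_b_rc_14_0 lc_b_rc_14_2 lc_b_rc_15_2 lc_b_rc_10_2 lc_b_rc_12_0 lc_b_rc_10_2 lc_b_rc_12_0 lc_b_rc_1_3 lc_b_rc_9_0 lc_b_rc_12_2 lc_b_rc_14_2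 lc_b_rc_12_2 lc_b_rc_14_2 lc_b_rc_15_2 lc_b_rc_12_2 lc_b_rc_9_0) (@D3.rec (fun _ => (Cert rels S Gen.b)) lc_b_rc_12_2 lc_b_rc_13_2 lc_b_rc_11_2 lc_b_rc_12_2 lc_b_rc_14_2 lc_b_rc_15_2 lc_b_rc_12_2 lc_b_rc_12_2 lc_b_rc_14_0 lc_b_rc_14_2 lc_b_rc_12_2 lc_b_rc_14_2 lc_b_rc_15_2 lc_b_rc_13_2 lc_b_rc_16_2 lc_b_rc_16_2 lc_b_rc_13_2 lc_b_rc_1_3 lc_b_rc_12_2 lc_b_rc_14_2 lc_b_rc_1_3 lc_b_rc_10_2 lc_b_rc_12_2 lc_b_rc_13_2 lc_b_rc_12_2 lc_b_rc_12_0 lc_b_rc_12_2 lc_b_rc_14_0 lc_b_rc_14_2 lc_b_rc_9_0 lc_b_rc_12_2 lc_b_rc_14_2) (@D3.rec (fun _ => (Cert rels S Gen.b)) lc_b_rc_12_2 lc_b_rc_11_2 lc_b_rc_14_2 lc_b_rc_15_2 lc_b_rc_12_2 lc_b_rc_14_2 lc_b_rc_12_2 lc_b_rc_12_2 lc_b_rc_15_2 lc_b_rc_14_2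 lc_b_rc_15_2 lc_b_rc_14_2 lc_b_rc_14_2 lc_b_rc_9_0 lc_b_rc_12_2 lc_b_rc_14_2 lc_b_rc_12_2 lc_b_rc_14_2 lc_b_rc_15_2 lc_b_rc_10_2 lc_b_rc_12_2 lc_b_rc_11_2 lc_b_rc_14_2 lc_b_rc_15_2 lc_b_rc_1_3 lc_b_rc_11_2 lc_b_rc_14_2 lc_b_rc_11_2 lc_b_rc_15_2 lc_b_rc_15_2 lc_b_rc_14_2 lc_b_rc_15_2) (@D3.rec (fun _ => (Cert rels S Gen.b)) lc_b_rc_1_3 lc_b_rc_15_2 lc_b_rc_16_0 lc_b_rc_46_29 lc_b_rc_11_2 lc_b_rc_13_2 lc_b_rc_1_3 lc_b_rc_12_0 lc_b_rc_13_2 lc_b_rc_12_2 lc_b_rc_10_2 lc_b_rc_15_2 lc_b_rc_14_2 lc_b_rc_12_0 lc_b_rc_10_2 lc_b_rc_13_2 lc_b_rc_12_2 lc_b_rc_10_2 lc_b_rc_14_2 lc_b_rc_14_2 lc_b_rc_15_2 lc_b_rc_16_2 lc_b_rc_11_2 lc_b_rc_10_2 lc_b_rc_1_3 lc_b_rc_12_0 lc_b_rc_12_2 lc_b_rc_9_0 lc_b_rc_12_2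 lc_b_rc_14_2 lc_b_rc_9_1 lc_b_rc_10_2) (@D3.rec (fun _ => (Cert rels S Gen.b)) lc_b_rc_15_2 lc_b_rc_16_2 lc_b_rc_14_2 lc_b_rc_9_0 lc_b_rc_12_2 lc_b_rc_14_2 lc_b_rc_1_3 lc_b_rc_12_2 lc_b_rc_14_2 lc_b_rc_15_2 lc_b_rc_1_3 lc_b_rc_12_2 lc_b_rc_11_2 lc_b_rc_12_2 lc_b_rc_10_2 lc_b_rc_15_2 lc_b_rc_10_2 lc_b_rc_1_3 lc_b_rc_14_2 lc_b_rc_15_2 lc_b_rc_10_2 lc_b_rc_13_0 lc_b_rc_13_2 lc_b_rc_12_2 lc_b_rc_14_2 lc_b_rc_15_2 lc_b_rc_12_2 lc_b_rc_10_2 lc_b_rc_13_2 lc_b_rc_10_2 lc_b_rc_12_0 lc_b_rc_10_2) (@D3.rec (fun _ => (Cert rels S Gen.b)) lc_b_rc_14_2 lc_b_rc_10_2 lc_b_rc_15_2 lc_b_rc_11_2 lc_b_rc_13_2 lc_b_rc_10_2 lc_b_rc_12_2 lc_b_rc_12_2 lc_b_rc_15_2 lc_b_rc_12_2 lc_b_rc_16_2 lc_b_rc_1_3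 lc_b_rc_13_2 lc_b_rc_1_3 lc_b_rc_14_2 lc_b_rc_1_3 lc_b_rc_10_2 lc_b_rc_16_2 lc_b_rc_12_2 lc_b_rc_10_2 lc_b_rc_12_2 lc_b_rc_10_4 lc_b_rc_14_2 lc_b_rc_12_2 lc_b_rc_14_2 lc_b_rc_11_2 lc_b_rc_12_0 lc_b_rc_15_2 lc_b_rc_10_4 lc_b_rc_15_2 lc_b_rc_12_0 lc_b_rc_14_0) (@D3.rec (fun _ => (Cert rels S Gen.b)) lc_b_rc_14_2 lc_b_rc_16_2 lc_b_rc_14_2 lc_b_rc_12_2 lc_b_rc_14_2 lc_b_rc_14_2 lc_b_rc_15_2 lc_b_rc_12_2 lc_b_rc_11_0 lc_b_rc_15_2 lc_b_rc_12_0 lc_b_rc_12_0 lc_b_rc_12_2 lc_b_rc_15_2 lc_b_rc_14_0 lc_b_rc_15_2 lc_b_rc_10_2 lc_b_rc_9_1 lc_b_rc_10_2 lc_b_rc_14_2 lc_b_rc_10_2 lc_b_rc_14_2 lc_b_rc_11_2 lc_b_rc_10_2 lc_b_rc_15_2 lc_b_rc_14_2 lc_b_rc_15_2 lc_b_rc_10_2 lc_b_rc_16_2 lc_b_rc_13_2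 lc_b_rc_15_2 lc_b_rc_15_2) (@D3.rec (fun _ => (Cert rels S Gen.b)) lc_b_rc_1_3 lc_b_rc_12_2 lc_b_rc_14_2 lc_b_rc_14_2 lc_b_rc_11_2 lc_b_rc_11_2 lc_b_rc_1_3 lc_b_rc_12_2 lc_b_Cert_tree lc_b_rc_12_2 lc_b_rc_9_0 lc_b_rc_12_2 lc_b_rc_14_2 lc_b_rc_14_2 lc_b_rc_1_3 lc_b_rc_12_2 lc_b_rc_14_2 lc_b_rc_15_2 lc_b_rc_12_2 lc_b_Cert_tree lc_b_rc_11_2 lc_b_rc_9_0 lc_b_rc_12_2 lc_b_rc_14_2 lc_b_rc_9_0 lc_b_rc_12_2 lc_b_rc_14_2 lc_b_rc_16_0 lc_b_rc_12_2 lc_b_rc_14_2 lc_b_rc_15_2 lc_b_rc_12_2) (@D3.rec (fun _ => (Cert rels S Gen.b)) lc_b_rc_16_2 lc_b_rc_1_3 lc_b_rc_12_2 lc_b_rc_12_2 lc_b_rc_14_2 lc_b_rc_15_2 lc_b_rc_1_3 lc_b_rc_14_2 lc_b_rc_15_2 lc_b_Cert_tree lc_b_rc_12_2 lc_b_rc_9_0 lc_b_rc_12_2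 lc_b_rc_12_0 lc_b_rc_12_2 lc_b_rc_14_2 lc_b_rc_12_0 lc_b_rc_16_2 lc_b_rc_12_2 lc_b_rc_12_2 lc_b_rc_10_2 lc_b_rc_14_2 lc_b_rc_12_2 lc_b_rc_14_2 lc_b_rc_11_2 lc_b_rc_9_1 lc_b_rc_15_2 lc_b_rc_9_1 lc_b_rc_15_2 lc_b_rc_12_0 lc_b_rc_1_3 lc_b_rc_14_2) (@D3.rec (fun _ => (Cert rels S Gen.b)) lc_b_rc_13_2 lc_b_rc_14_2 lc_b_rc_15_2 lc_b_rc_15_2 lc_b_rc_12_2 lc_b_rc_14_0 lc_b_rc_12_0 lc_b_rc_12_2 lc_b_rc_13_0 lc_b_rc_14_0 lc_b_rc_14_2 lc_b_rc_12_2 lc_b_rc_10_4 lc_b_rc_13_0 lc_b_rc_15_0 lc_b_rc_12_2 lc_b_rc_13_2 lc_b_rc_9_0 lc_b_rc_12_2 lc_b_rc_1_3 lc_b_rc_12_2 lc_b_rc_14_2 lc_b_rc_1_3 lc_b_rc_11_2 lc_b_rc_12_2 lc_b_rc_14_2 lc_b_rc_15_2 lc_b_rc_13_0 lc_b_rc_14_2 lc_b_rc_14_2 lc_b_rc_14_2 lc_b_rc_10_4)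 (@D3.rec (fun _ => (Cert rels S Gen.b)) lc_b_rc_15_2 lc_b_rc_13_0 lc_b_rc_14_2 lc_b_rc_15_2 lc_b_rc_11_2 lc_b_rc_14_2 lc_b_rc_11_2 lc_b_rc_15_2 lc_b_rc_15_2 lc_b_rc_9_1 lc_b_rc_15_2 lc_b_rc_11_0 lc_b_rc_15_2 lc_b_rc_15_2 lc_b_rc_15_2 lc_b_rc_1_1 lc_b_rc_12_2 lc_b_rc_15_2 lc_b_rc_11_2 lc_b_rc_9_0 lc_b_rc_16_2 lc_b_rc_9_0 lc_b_rc_12_2 lc_b_rc_14_2 lc_b_rc_11_2 lc_b_rc_10_2 lc_b_rc_15_2 lc_b_rc_9_0 lc_b_rc_12_2 lc_b_rc_14_2 lc_b_rc_9_0 lc_b_rc_12_2) (@D3.rec (fun _ => (Cert rels S Gen.b)) lc_b_rc_14_2 lc_b_rc_1_3 lc_b_rc_12_2 lc_b_rc_14_2 lc_b_rc_15_2 lc_b_rc_1_3 lc_b_rc_12_2 lc_b_rc_11_2 lc_b_rc_11_2 lc_b_rc_13_2 lc_b_rc_10_2 lc_b_rc_9_0 lc_b_rc_12_2 lc_b_rc_13_2 lc_b_rc_12_2 lc_b_rc_11_2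 lc_b_rc_14_2 lc_b_rc_13_2 lc_b_rc_14_2 lc_b_rc_15_2 lc_b_rc_9_0 lc_b_rc_12_2 lc_b_rc_14_2 lc_b_rc_12_2 lc_b_rc_11_2 lc_b_rc_14_2 lc_b_rc_15_2 lc_b_rc_14_2 lc_b_rc_14_2 lc_b_rc_13_2 lc_b_rc_15_2 lc_b_rc_14_2) (@D3.rec (fun _ => (Cert rels S Gen.b)) lc_b_rc_11_2 lc_b_rc_13_2 lc_b_rc_45_38 lc_b_rc_14_2 lc_b_rc_16_2 lc_b_rc_12_2 lc_b_rc_13_2 lc_b_rc_12_2 lc_b_rc_1_3 lc_b_rc_12_2 lc_b_rc_11_2 lc_b_rc_14_2 lc_b_rc_15_2 lc_b_rc_1_3 lc_b_rc_11_2 lc_b_rc_14_2 lc_b_rc_11_2 lc_b_rc_15_2 lc_b_rc_11_2 lc_b_rc_15_2 lc_b_rc_1_3 lc_b_rc_11_2 lc_b_rc_1_3 lc_b_rc_16_2 lc_b_rc_16_2 lc_b_rc_10_2 lc_b_rc_14_2 lc_b_rc_9_0 lc_b_rc_12_2 lc_b_rc_45_29 lc_b_rc_1_3 lc_b_rc_12_2) (@D3.rec (fun _ => (Cert rels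 S Gen.b)) lc_b_rc_11_2 lc_b_rc_14_2 lc_b_rc_12_0 lc_b_rc_12_2 lc_b_rc_14_2 lc_b_rc_1_3 lc_b_rc_12_2 lc_b_rc_12_2 lc_b_rc_14_2 lc_b_rc_11_2 lc_b_rc_1_3 lc_b_rc_14_2 lc_b_rc_15_2 lc_b_rc_10_2 lc_b_rc_12_0 lc_b_rc_12_2 lc_b_rc_1_3 lc_b_rc_11_2 lc_b_rc_10_2 lc_b_rc_15_2 lc_b_rc_15_0 lc_b_rc_14_2 lc_b_rc_12_0 lc_b_rc_14_2 lc_b_rc_12_0 lc_b_rc_10_2 lc_b_rc_12_2 lc_b_rc_12_2 lc_b_rc_9_1 lc_b_rc_12_0 lc_b_rc_12_2 lc_b_rc_16_2) (@D3.rec (fun _ => (Cert rels S Gen.b)) lc_b_rc_14_2 lc_b_rc_13_0 lc_b_rc_14_2 lc_b_rc_45_56 lc_b_rc_15_2 lc_b_rc_1_3 lc_b_rc_11_2 lc_b_rc_14_2 lc_b_rc_11_2 lc_b_rc_13_2 lc_b_rc_15_2 lc_b_rc_1_3 lc_b_rc_14_2 lc_b_rc_11_2 lc_b_rc_15_2 lc_b_rc_11_2 lc_b_rc_12_0 lc_b_rc_15_2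 lc_b_rc_15_2 lc_b_rc_14_2 lc_b_rc_15_2 lc_b_rc_1_3 lc_b_rc_13_2 lc_b_rc_10_2 lc_b_rc_1_3 lc_b_rc_9_0 lc_b_rc_12_2 lc_b_rc_14_2 lc_b_rc_11_2 lc_b_rc_10_2 lc_b_rc_15_2 lc_b_rc_9_0) (@D3.rec (fun _ => (Cert rels S Gen.b)) lc_b_rc_12_2 lc_b_rc_12_2 lc_b_rc_9_0 lc_b_rc_12_2 lc_b_rc_13_0 lc_b_rc_1_3 lc_b_rc_12_2 lc_b_rc_14_2 lc_b_rc_15_2 lc_b_rc_13_0 lc_b_rc_12_2 lc_b_rc_10_2 lc_b_rc_15_2 lc_b_rc_10_2 lc_b_rc_12_2 lc_b_rc_16_2 lc_b_rc_12_2 lc_b_rc_10_2 lc_b_rc_1_3 lc_b_rc_14_2 lc_b_rc_15_2 lc_b_rc_11_2 lc_b_rc_13_2 lc_b_rc_10_2 lc_b_rc_13_2 lc_b_rc_12_2 lc_b_rc_9_1 lc_b_rc_14_2 lc_b_rc_12_2 lc_b_rc_11_2 lc_b_rc_14_2 lc_b_rc_15_2) (@D3.rec (fun _ => (Cert rels S Gen.b)) lc_b_rc_14_2 lc_b_rc_12_2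 lc_b_rc_14_2 lc_b_rc_15_2 lc_b_rc_15_2 lc_b_rc_9_0 lc_b_rc_12_0 lc_b_rc_1_3 lc_b_rc_10_2 lc_b_rc_15_2 lc_b_rc_1_3 lc_b_rc_1_3 lc_b_rc_15_2 lc_b_rc_14_2 lc_b_rc_15_2 lc_b_rc_15_2 lc_b_rc_11_2 lc_b_rc_13_2 lc_b_rc_13_2 lc_b_rc_11_0 lc_b_rc_15_2 lc_b_rc_13_0 lc_b_rc_11_2 lc_b_rc_1_3 lc_b_rc_14_2 lc_b_rc_15_2 lc_b_rc_12_2 lc_b_rc_10_4 lc_b_rc_1_3 lc_b_rc_15_2 lc_b_rc_13_2 lc_b_rc_15_2) (@D3.rec (fun _ => (Cert rels S Gen.b)) lc_b_rc_1_3 lc_b_rc_1_3 lc_b_rc_14_2 lc_b_rc_15_2 lc_b_rc_10_2 lc_b_rc_12_2 lc_b_rc_12_2 lc_b_rc_11_2 lc_b_rc_14_2 lc_b_rc_15_2 lc_b_rc_14_2 lc_b_rc_13_0 lc_b_rc_13_0 lc_b_rc_12_2 lc_b_rc_1_3 lc_b_rc_14_2 lc_b_rc_15_2 lc_b_rc_12_0 lc_b_rc_12_2 lc_b_rc_11_2 lc_b_rc_14_2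 lc_b_rc_12_2 lc_b_rc_14_2 lc_b_rc_15_2 lc_b_rc_14_2 lc_b_rc_16_2 lc_b_rc_14_2 lc_b_rc_14_2 lc_b_rc_15_2 lc_b_rc_15_2 lc_b_rc_11_2 lc_b_rc_16_2) (@D3.rec (fun _ => (Cert rels S Gen.b)) lc_b_rc_15_0 lc_b_rc_13_2 lc_b_rc_9_0 lc_b_rc_12_2 lc_b_rc_13_2 lc_b_rc_12_2 lc_b_rc_11_2 lc_b_rc_14_2 lc_b_rc_15_2 lc_b_rc_12_0 lc_b_rc_12_2 lc_b_rc_11_2 lc_b_rc_14_2 lc_b_rc_15_2 lc_b_rc_14_0 lc_b_rc_11_2 lc_b_rc_14_2 lc_b_rc_11_2 lc_b_rc_15_2 lc_b_rc_12_2 lc_b_rc_14_2 lc_b_rc_15_2 lc_b_rc_12_0 lc_b_rc_15_2 lc_b_rc_45_38 lc_b_rc_10_2 lc_b_rc_12_0 lc_b_rc_10_2 lc_b_rc_12_2 lc_b_rc_11_2 lc_b_rc_14_2 lc_b_rc_15_2) (@D3.rec (fun _ => (Cert rels S Gen.b)) lc_b_rc_14_2 lc_b_rc_15_2 lc_b_rc_12_2 lc_b_rc_12_2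 lc_b_rc_16_0 lc_b_rc_14_2 lc_b_rc_15_2 lc_b_rc_12_2 lc_b_rc_14_2 lc_b_rc_15_2 lc_b_rc_12_2 lc_b_rc_14_2 lc_b_rc_11_2 lc_b_rc_15_2 lc_b_rc_15_2 lc_b_rc_13_2 lc_b_rc_16_2 lc_b_rc_16_2 lc_b_rc_11_2 lc_b_rc_14_2 lc_b_rc_1_3 lc_b_rc_12_2 lc_b_rc_15_2 lc_b_rc_46_29 lc_b_rc_14_2 lc_b_rc_13_2 lc_b_rc_14_2 lc_b_rc_9_1 lc_b_rc_14_2 lc_b_rc_16_0 lc_b_rc_12_2 lc_b_rc_15_2)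
def ce_b_18 : D2 → D3 → (Cert rels S Gen.b) := @D2.rec (fun _ => D3 → (Cert rels S Gen.b)) (@D3.rec (fun _ => (Cert rels S Gen.b)) lc_b_rc_12_2 lc_b_rc_11_2 lc_b_rc_14_2 lc_b_rc_15_2 lc_b_rc_11_2 lc_b_rc_14_2 lc_b_rc_11_2 lc_b_rc_15_2 lc_b_rc_14_2 lc_b_rc_15_2 lc_b_rc_14_2 lc_b_rc_13_2 lc_b_rc_12_2 lc_b_rc_15_2 lc_b_rc_15_2 lc_b_rc_15_2 lc_b_rc_12_2 lc_b_rc_14_2 lc_b_rc_15_2 lc_b_rc_14_2 lc_b_rc_15_2 lc_b_rc_10_2 lc_b_rc_11_2 lc_b_rc_14_2 lc_b_rc_11_2 lc_b_rc_13_2 lc_b_rc_15_2 lc_b_rc_46_29 lc_b_rc_1_3 lc_b_rc_16_0 lc_b_rc_11_2 lc_b_rc_15_2) (@D3.rec (fun _ => (Cert rels S Gen.b)) lc_b_rc_11_2 lc_b_rc_15_2 lc_b_rc_1_3 lc_b_rc_1_3 lc_b_rc_12_0 lc_b_rc_13_2 lc_b_rc_45_20 lc_b_rc_16_2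 lc_b_rc_10_2 lc_b_rc_15_2 lc_b_rc_12_2 lc_b_rc_11_2 lc_b_rc_10_2 lc_b_rc_15_2 lc_b_rc_14_2 lc_b_rc_10_2 lc_b_rc_11_2 lc_b_rc_11_2 lc_b_rc_10_2 lc_b_rc_1_3 lc_b_rc_46_22 lc_b_rc_14_2 lc_b_rc_45_20 lc_b_rc_12_2 lc_b_rc_11_2 lc_b_rc_14_2 lc_b_rc_15_2 lc_b_rc_11_2 lc_b_rc_10_2 lc_b_rc_16_2 lc_b_rc_15_2 lc_b_rc_1_3) (@D3.rec (fun _ => (Cert rels S Gen.b)) lc_b_rc_12_2 lc_b_rc_11_2 lc_b_rc_14_2 lc_b_rc_15_2 lc_b_rc_1_3 lc_b_rc_14_2 lc_b_rc_15_2 lc_b_rc_11_2 lc_b_rc_10_2 lc_b_rc_10_2 lc_b_rc_15_2 lc_b_rc_13_0 lc_b_rc_13_2 lc_b_rc_13_2 lc_b_rc_15_2 lc_b_rc_11_2 lc_b_rc_47_21 lc_b_rc_13_2 lc_b_rc_10_2 lc_b_rc_11_2 lc_b_rc_46_29 lc_b_rc_15_2 lc_b_rc_10_2 lc_b_rc_11_2 lc_b_rc_13_2 lc_b_rc_16_2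 lc_b_rc_12_2 lc_b_rc_12_2 lc_b_rc_16_2 lc_b_rc_1_3 lc_b_rc_45_65 lc_b_rc_14_2) (@D3.rec (fun _ => (Cert rels S Gen.b)) lc_b_rc_1_3 lc_b_rc_15_2 lc_b_rc_16_2 lc_b_rc_14_2 lc_b_rc_10_2 lc_b_rc_14_2 lc_b_rc_11_2 lc_b_rc_10_4 lc_b_rc_15_2 lc_b_rc_15_0 lc_b_rc_12_0 lc_b_rc_15_2 lc_b_rc_14_2 lc_b_rc_12_0 lc_b_rc_10_4 lc_b_rc_13_2 lc_b_rc_16_2 lc_b_rc_15_2 lc_b_rc_12_2 lc_b_rc_15_2 lc_b_rc_9_0 lc_b_rc_9_0 lc_b_rc_12_0 lc_b_rc_13_2 lc_b_rc_10_2 lc_b_rc_11_2 lc_b_rc_10_2 lc_b_rc_15_2 lc_b_rc_11_2 lc_b_rc_10_2 lc_b_rc_15_2 lc_b_rc_11_2) (@D3.rec (fun _ => (Cert rels S Gen.b)) lc_b_rc_10_2 lc_b_rc_9_1 lc_b_rc_16_2 lc_b_rc_13_2 lc_b_rc_45_47 lc_b_rc_14_2 lc_b_rc_15_2 lc_b_rc_11_2 lc_b_rc_11_2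 lc_b_rc_14_2 lc_b_rc_9_0 lc_b_rc_12_2 lc_b_rc_14_2 lc_b_rc_46_29 lc_b_rc_12_2 lc_b_rc_11_2 lc_b_rc_14_2 lc_b_rc_15_2 lc_b_rc_15_2 lc_b_rc_46_36 lc_b_rc_14_2 lc_b_rc_15_2 lc_b_rc_12_2 lc_b_rc_9_0 lc_b_rc_12_2 lc_b_rc_11_2 lc_b_rc_12_2 lc_b_rc_45_47 lc_b_rc_14_2 lc_b_rc_15_2 lc_b_rc_13_0 lc_b_rc_12_2) (@D3.rec (fun _ => (Cert rels S Gen.b)) lc_b_rc_14_2 lc_b_rc_15_2 lc_b_rc_16_0 lc_b_rc_14_2 lc_b_rc_15_2 lc_b_rc_9_1 lc_b_rc_16_2 lc_b_rc_14_2 lc_b_rc_45_29 lc_b_rc_15_2 lc_b_rc_1_3 lc_b_rc_15_2 lc_b_rc_9_0 lc_b_rc_12_2 lc_b_rc_12_0 lc_b_rc_12_2 lc_b_rc_11_2 lc_b_rc_14_2 lc_b_rc_12_0 lc_b_rc_14_2 lc_b_rc_15_2 lc_b_rc_16_2 lc_b_rc_14_2 lc_b_rc_14_2 lc_b_rc_11_2 lc_b_rc_10_2 lc_b_rc_15_2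 lc_b_rc_11_2 lc_b_rc_10_2 lc_b_rc_15_2 lc_b_rc_11_2 lc_b_rc_10_2) (@D3.rec (fun _ => (Cert rels S Gen.b)) lc_b_rc_16_2 lc_b_rc_46_36 lc_b_rc_15_2 lc_b_rc_13_2 lc_b_rc_15_2 lc_b_rc_16_2 lc_b_rc_12_0 lc_b_rc_12_2 lc_b_rc_13_0 lc_b_rc_10_4 lc_b_rc_13_0 lc_b_rc_15_0 lc_b_rc_46_22 lc_b_rc_13_2 lc_b_rc_12_2 lc_b_rc_14_2 lc_b_rc_1_3 lc_b_rc_14_2 lc_b_rc_15_2 lc_b_rc_15_2 lc_b_rc_15_2 lc_b_rc_13_0 lc_b_rc_15_2 lc_b_rc_15_2 lc_b_rc_15_2 lc_b_rc_10_4 lc_b_rc_14_2 lc_b_rc_13_0 lc_b_rc_11_2 lc_b_rc_15_2 lc_b_rc_11_2 lc_b_rc_11_0) (@D3.rec (fun _ => (Cert rels S Gen.b)) lc_b_rc_47_28 lc_b_rc_12_2 lc_b_rc_11_2 lc_b_rc_14_2 lc_b_rc_15_2 lc_b_rc_11_2 lc_b_rc_13_2 lc_b_rc_10_2 lc_b_rc_1_3 lc_b_rc_12_2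 lc_b_rc_11_2 lc_b_rc_14_2 lc_b_rc_15_2 lc_b_rc_1_3 lc_b_rc_12_2 lc_b_rc_11_2 lc_b_rc_14_2 lc_b_rc_15_2 lc_b_rc_1_3 lc_b_rc_14_2 lc_b_rc_15_2 lc_b_rc_11_2 lc_b_rc_11_2 lc_b_rc_13_2 lc_b_rc_16_2 lc_b_rc_12_2 lc_b_rc_11_2 lc_b_rc_14_2 lc_b_rc_13_2 lc_b_rc_11_2 lc_b_rc_14_2 lc_b_rc_11_2) (@D3.rec (fun _ => (Cert rels S Gen.b)) lc_b_rc_15_2 lc_b_rc_15_2 lc_b_rc_12_2 lc_b_rc_11_2 lc_b_rc_14_2 lc_b_rc_15_2 lc_b_rc_11_2 lc_b_rc_14_2 lc_b_rc_11_2 lc_b_rc_45_65 lc_b_rc_15_2 lc_b_rc_15_2 lc_b_rc_15_2 lc_b_rc_14_2 lc_b_rc_16_2 lc_b_rc_47_21 lc_b_rc_47_14 lc_b_rc_13_2 lc_b_rc_9_0 lc_b_rc_15_2 lc_b_rc_16_2 lc_b_rc_12_2 lc_b_rc_13_2 lc_b_rc_1_3 lc_b_rc_11_2 lc_b_rc_14_2 lc_b_rc_11_2 lc_b_rc_15_2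 lc_b_rc_1_3 lc_b_rc_11_2 lc_b_rc_15_2 lc_b_rc_11_2) (@D3.rec (fun _ => (Cert rels S Gen.b)) lc_b_rc_1_3 lc_b_rc_12_2 lc_b_rc_16_0 lc_b_rc_14_0 lc_b_rc_12_0 lc_b_rc_12_2 lc_b_rc_11_2 lc_b_rc_14_2 lc_b_rc_13_2 lc_b_rc_1_3 lc_b_rc_11_2 lc_b_rc_14_2 lc_b_rc_11_2 lc_b_rc_15_2 lc_b_rc_14_2 lc_b_rc_15_2 lc_b_rc_1_3 lc_b_rc_14_2 lc_b_rc_14_2 lc_b_rc_15_2 lc_b_rc_1_3 lc_b_rc_15_2 lc_b_rc_11_2 lc_b_rc_10_2 lc_b_rc_12_0 lc_b_rc_11_2 lc_b_rc_10_2 lc_b_rc_1_3 lc_b_rc_11_2 lc_b_rc_10_2 lc_b_rc_15_0 lc_b_rc_15_2) (@D3.rec (fun _ => (Cert rels S Gen.b)) lc_b_rc_12_0 lc_b_rc_45_38 lc_b_rc_14_0 lc_b_rc_12_2 lc_b_rc_15_2 lc_b_rc_14_2 lc_b_rc_13_0 lc_b_rc_15_2 lc_b_rc_15_2 lc_b_rc_15_2 lc_b_rc_1_3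 lc_b_rc_1_3 lc_b_rc_11_2 lc_b_rc_13_2 lc_b_rc_15_2 lc_b_rc_11_2 lc_b_rc_13_2 lc_b_rc_10_0 lc_b_rc_47_14 lc_b_rc_11_2 lc_b_rc_15_2 lc_b_rc_45_38 lc_b_rc_11_2 lc_b_rc_9_0 lc_b_rc_1_3 lc_b_rc_12_2 lc_b_rc_11_2 lc_b_rc_14_2 lc_b_rc_15_2 lc_b_rc_11_2 lc_b_rc_13_2 lc_b_rc_10_2) (@D3.rec (fun _ => (Cert rels S Gen.b)) lc_b_rc_12_2 lc_b_rc_11_2 lc_b_rc_14_2 lc_b_rc_12_2 lc_b_rc_12_2 lc_b_rc_13_0 lc_b_rc_14_2 lc_b_rc_13_0 lc_b_rc_1_3 lc_b_rc_14_2 lc_b_rc_15_2 lc_b_rc_12_0 lc_b_rc_10_2 lc_b_rc_11_2 lc_b_rc_10_2 lc_b_rc_12_2 lc_b_rc_9_0 lc_b_rc_10_2 lc_b_rc_15_2 lc_b_rc_11_2 lc_b_rc_13_2 lc_b_rc_11_2 lc_b_rc_14_2 lc_b_rc_12_2 lc_b_rc_11_2 lc_b_rc_12_0 lc_b_rc_15_2 lc_b_rc_11_2 lc_b_rc_14_2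 lc_b_rc_11_2 lc_b_rc_15_2 lc_b_rc_15_2) (@D3.rec (fun _ => (Cert rels S Gen.b)) lc_b_rc_15_2 lc_b_rc_15_2 lc_b_rc_1_3 lc_b_rc_15_2 lc_b_rc_13_2 lc_b_rc_12_2 lc_b_rc_12_2 lc_b_rc_13_0 lc_b_rc_1_3 lc_b_rc_15_2 lc_b_rc_1_3 lc_b_rc_1_3 lc_b_rc_15_2 lc_b_rc_12_0 lc_b_rc_14_2 lc_b_rc_12_2 lc_b_rc_11_2 lc_b_rc_14_2 lc_b_rc_11_2 lc_b_rc_15_2 lc_b_rc_15_2 lc_b_rc_14_2 lc_b_rc_9_0 lc_b_rc_15_2 lc_b_rc_1_3 lc_b_rc_15_2 lc_b_rc_11_2 lc_b_rc_14_2 lc_b_rc_11_2 lc_b_rc_15_2 lc_b_rc_15_2 lc_b_rc_15_2) (@D3.rec (fun _ => (Cert rels S Gen.b)) lc_b_rc_16_2 lc_b_rc_15_2 lc_b_rc_14_0 lc_b_rc_16_2 lc_b_rc_16_2 lc_b_rc_14_2 lc_b_rc_13_2 lc_b_rc_12_2 lc_b_rc_11_2 lc_b_rc_14_2 lc_b_rc_13_2 lc_b_rc_11_2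 lc_b_rc_14_2 lc_b_rc_11_2 lc_b_rc_15_2 lc_b_rc_1_3 lc_b_rc_11_2 lc_b_rc_14_2 lc_b_rc_11_2 lc_b_rc_13_2 lc_b_rc_15_2 lc_b_rc_16_0 lc_b_rc_12_0 lc_b_rc_11_2 lc_b_rc_15_2 lc_b_rc_12_2 lc_b_rc_11_2 lc_b_rc_15_2 lc_b_rc_12_0 lc_b_rc_11_2 lc_b_rc_10_2 lc_b_rc_11_2) (@D3.rec (fun _ => (Cert rels S Gen.b)) lc_b_rc_14_2 lc_b_rc_11_2 lc_b_rc_15_2 lc_b_rc_15_2 lc_b_rc_12_2 lc_b_rc_14_2 lc_b_rc_16_0 lc_b_rc_15_2 lc_b_rc_9_0 lc_b_rc_15_2 lc_b_rc_15_2 lc_b_rc_15_2 lc_b_rc_13_2 lc_b_rc_11_2 lc_b_rc_16_2 lc_b_rc_16_2 lc_b_rc_11_2 lc_b_rc_15_2 lc_b_rc_11_2 lc_b_rc_12_0 lc_b_rc_15_2 lc_b_rc_14_0 lc_b_rc_14_2 lc_b_rc_15_2 lc_b_rc_11_2 lc_b_rc_12_2 lc_b_rc_15_2 lc_b_rc_16_0 lc_b_rc_45_65 lc_b_rc_12_2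 lc_b_rc_11_2 lc_b_rc_14_2) (@D3.rec (fun _ => (Cert rels S Gen.b)) lc_b_rc_11_2 lc_b_rc_15_2 lc_b_rc_11_2 lc_b_rc_11_2 lc_b_rc_15_2 lc_b_rc_12_2 lc_b_rc_11_2 lc_b_rc_15_2 lc_b_rc_15_2 lc_b_rc_14_2 lc_b_rc_16_2 lc_b_rc_14_2 lc_b_rc_15_2 lc_b_rc_15_2 lc_b_rc_1_3 lc_b_rc_10_2 lc_b_rc_16_2 lc_b_rc_11_2 lc_b_rc_13_2 lc_b_rc_15_2 lc_b_rc_11_2 lc_b_rc_13_2 lc_b_rc_46_29 lc_b_rc_1_3 lc_b_rc_1_3 lc_b_rc_14_2 lc_b_rc_11_2 lc_b_rc_47_28 lc_b_rc_45_47 lc_b_rc_11_2 lc_b_rc_10_2 lc_b_rc_12_2) (@D3.rec (fun _ => (Cert rels S Gen.b)) lc_b_rc_16_2 lc_b_rc_11_2 lc_b_rc_11_2 lc_b_rc_10_2 lc_b_rc_11_2 lc_b_rc_14_2 lc_b_rc_15_2 lc_b_rc_45_47 lc_b_rc_11_2 lc_b_rc_14_2 lc_b_rc_11_2 lc_b_rc_15_2 lc_b_rc_11_2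 lc_b_rc_11_2 lc_b_rc_16_2 lc_b_rc_47_21 lc_b_rc_11_2 lc_b_rc_14_2 lc_b_rc_11_2 lc_b_rc_15_2 lc_b_rc_1_3 lc_b_rc_15_2 lc_b_rc_13_0 lc_b_rc_13_2 lc_b_rc_11_2 lc_b_rc_10_2 lc_b_rc_11_2 lc_b_rc_12_0 lc_b_rc_13_2 lc_b_rc_16_2 lc_b_rc_45_56 lc_b_rc_16_2) (@D3.rec (fun _ => (Cert rels S Gen.b)) lc_b_rc_1_3 lc_b_rc_45_38 lc_b_rc_15_2 lc_b_rc_11_2 lc_b_rc_16_2 lc_b_rc_15_2 lc_b_rc_12_0 lc_b_rc_14_2 lc_b_rc_15_2 lc_b_rc_11_2 lc_b_rc_10_4 lc_b_rc_16_2 lc_b_rc_15_0 lc_b_rc_15_2 lc_b_rc_1_5 lc_b_rc_15_2 lc_b_rc_16_2 lc_b_rc_13_0 lc_b_rc_11_2 lc_b_rc_10_2 lc_b_rc_11_2 lc_b_rc_10_2 lc_b_rc_12_2 lc_b_rc_11_2 lc_b_rc_1_3 lc_b_rc_15_2 lc_b_rc_11_2 lc_b_rc_15_2 lc_b_rc_46_22 lc_b_rc_12_2 lc_b_rc_11_2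 lc_b_rc_14_2) (@D3.rec (fun _ => (Cert rels S Gen.b)) lc_b_rc_15_2 lc_b_rc_46_43 lc_b_rc_11_2 lc_b_rc_14_2 lc_b_rc_11_2 lc_b_rc_15_2 lc_b_rc_46_36 lc_b_rc_15_2 lc_b_rc_12_2 lc_b_rc_12_2 lc_b_rc_14_2 lc_b_rc_11_2 lc_b_rc_14_2 lc_b_rc_1_3 lc_b_rc_15_2 lc_b_rc_13_0 lc_b_rc_14_2 lc_b_rc_15_2 lc_b_rc_16_0 lc_b_rc_15_2 lc_b_rc_12_2 lc_b_rc_15_2 lc_b_rc_12_0 lc_b_rc_1_3 lc_b_rc_12_2 lc_b_rc_11_2 lc_b_rc_14_2 lc_b_rc_12_0 lc_b_rc_11_2 lc_b_rc_14_2 lc_b_rc_11_2 lc_b_rc_15_2) (@D3.rec (fun _ => (Cert rels S Gen.b)) lc_b_rc_15_2 lc_b_rc_45_56 lc_b_rc_16_2 lc_b_rc_15_2 lc_b_rc_15_2 lc_b_rc_11_2 lc_b_rc_10_2 lc_b_rc_14_2 lc_b_rc_15_2 lc_b_rc_12_2 lc_b_rc_15_2 lc_b_rc_10_4 lc_b_rc_15_2 lc_b_rc_10_4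 lc_b_rc_13_0 lc_b_rc_14_0 lc_b_rc_12_2 lc_b_rc_14_2 lc_b_rc_15_2 lc_b_rc_15_2 lc_b_rc_13_0 lc_b_rc_15_2 lc_b_rc_11_2 lc_b_rc_45_56 lc_b_rc_11_2 lc_b_rc_14_2 lc_b_rc_11_2 lc_b_rc_13_2 lc_b_rc_15_2 lc_b_rc_12_2 lc_b_rc_11_2 lc_b_rc_13_2) (@D3.rec (fun _ => (Cert rels S Gen.b)) lc_b_rc_16_2 lc_b_rc_1_3 lc_b_rc_11_2 lc_b_rc_14_2 lc_b_rc_11_2 lc_b_rc_15_2 lc_b_rc_1_3 lc_b_rc_11_2 lc_b_rc_14_2 lc_b_rc_11_2 lc_b_rc_15_2 lc_b_rc_1_3 lc_b_rc_15_2 lc_b_rc_13_2 lc_b_rc_16_2 lc_b_rc_11_2 lc_b_rc_14_2 lc_b_rc_11_2 lc_b_rc_15_2 lc_b_rc_10_2 lc_b_rc_11_2 lc_b_rc_15_2 lc_b_rc_12_2 lc_b_rc_11_2 lc_b_rc_11_2 lc_b_rc_14_2 lc_b_rc_11_2 lc_b_rc_13_2 lc_b_rc_15_2 lc_b_rc_11_2 lc_b_rc_15_2 lc_b_rc_12_2)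 (@D3.rec (fun _ => (Cert rels S Gen.b)) lc_b_rc_11_2 lc_b_rc_13_2 lc_b_rc_16_2 lc_b_rc_15_2 lc_b_rc_16_2 lc_b_rc_15_2 lc_b_rc_10_0 lc_b_rc_16_2 lc_b_rc_10_2 lc_b_rc_16_2 lc_b_rc_1_3 lc_b_rc_11_2 lc_b_rc_15_2 lc_b_rc_11_2 lc_b_rc_11_2 lc_b_rc_14_2 lc_b_rc_15_2 lc_b_rc_9_1 lc_b_rc_11_2 lc_b_rc_14_2 lc_b_rc_11_2 lc_b_rc_15_2 lc_b_rc_1_3 lc_b_rc_1_3 lc_b_rc_11_2 lc_b_rc_15_2 lc_b_rc_12_2 lc_b_rc_11_2 lc_b_rc_15_2 lc_b_rc_1_3 lc_b_rc_15_2 lc_b_rc_15_2)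
def ce_b_19 : D2 → D3 → (Cert rels S Gen.b) := @D2.rec (fun _ => D3 → (Cert rels S Gen.b)) (@D3.rec (fun _ => (Cert rels S Gen.b)) lc_b_rc_1_3 lc_b_rc_11_2 lc_b_rc_10_2 lc_b_rc_14_2 lc_b_rc_14_2 lc_b_rc_12_2 lc_b_rc_11_2 lc_b_rc_45_29 lc_b_rc_16_2 lc_b_rc_45_38 lc_b_rc_47_28 lc_b_rc_15_2 lc_b_rc_16_2 lc_b_rc_11_2 lc_b_rc_45_47 lc_b_rc_16_2 lc_b_rc_11_2 lc_b_rc_13_2 lc_b_rc_13_2 lc_b_rc_10_0 lc_b_rc_11_2 lc_b_rc_10_2 lc_b_rc_11_2 lc_b_rc_14_2 lc_b_rc_11_2 lc_b_rc_15_2 lc_b_rc_12_2 lc_b_rc_11_2 lc_b_rc_13_2 lc_b_rc_11_2 lc_b_rc_14_2 lc_b_rc_11_2) (@D3.rec (fun _ => (Cert rels S Gen.b)) lc_b_rc_15_2 lc_b_rc_14_2 lc_b_rc_14_2 lc_b_rc_1_3 lc_b_rc_15_2 lc_b_rc_1_3 lc_b_rc_15_2 lc_b_rc_11_2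 lc_b_rc_10_2 lc_b_rc_13_2 lc_b_rc_11_2 lc_b_rc_15_2 lc_b_rc_14_2 lc_b_rc_12_0 lc_b_rc_11_2 lc_b_rc_15_2 lc_b_rc_12_2 lc_b_rc_11_2 lc_b_rc_1_3 lc_b_rc_11_2 lc_b_rc_11_2 lc_b_rc_10_2 lc_b_rc_11_2 lc_b_rc_15_2 lc_b_rc_12_2 lc_b_rc_11_2 lc_b_rc_15_2 lc_b_rc_14_2 lc_b_rc_1_3 lc_b_rc_11_2 lc_b_rc_15_2 lc_b_rc_12_2) (@D3.rec (fun _ => (Cert rels S Gen.b)) lc_b_rc_11_2 lc_b_rc_16_2 lc_b_rc_16_2 lc_b_rc_16_2 lc_b_rc_11_2 lc_b_rc_14_2 lc_b_rc_11_2 lc_b_rc_15_2 lc_b_rc_46_29 lc_b_rc_11_2 lc_b_rc_15_2 lc_b_rc_12_2 lc_b_rc_11_2 lc_b_rc_11_2 lc_b_rc_12_0 lc_b_rc_11_2 lc_b_rc_13_2 lc_b_rc_15_2 lc_b_rc_12_2 lc_b_rc_11_2 lc_b_rc_13_2 lc_b_rc_16_0 lc_b_rc_12_0 lc_b_rc_12_2 lc_b_rc_11_2 lc_b_rc_12_2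 lc_b_rc_11_0 lc_b_rc_11_2 lc_b_rc_11_2 lc_b_rc_15_2 lc_b_rc_12_2 lc_b_rc_11_2) (@D3.rec (fun _ => (Cert rels S Gen.b)) lc_b_rc_15_2 lc_b_rc_16_0 lc_b_rc_12_0 lc_b_rc_11_2 lc_b_rc_16_2 lc_b_rc_12_2 lc_b_rc_11_2 lc_b_rc_14_2 lc_b_rc_12_0 lc_b_rc_45_29 lc_b_rc_15_2 lc_b_rc_14_2 lc_b_rc_12_2 lc_b_rc_47_28 lc_b_rc_16_0 lc_b_rc_1_1 lc_b_rc_47_42 lc_b_rc_11_2 lc_b_rc_11_2 lc_b_rc_15_2 lc_b_rc_12_2 lc_b_rc_11_2 lc_b_rc_14_2 lc_b_rc_12_2 lc_b_rc_11_2 lc_b_rc_12_2 lc_b_rc_15_2 lc_b_rc_16_2 lc_b_rc_15_2 lc_b_rc_46_36 lc_b_rc_1_3 lc_b_rc_45_38) (@D3.rec (fun _ => (Cert rels S Gen.b)) lc_b_rc_10_2 lc_b_rc_14_2 lc_b_rc_11_2 lc_b_rc_13_2 lc_b_rc_13_2 lc_b_rc_46_50 lc_b_rc_1_3 lc_b_rc_16_0 lc_b_rc_12_2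 lc_b_rc_11_2 lc_b_rc_14_2 lc_b_rc_15_2 lc_b_rc_12_2 lc_b_rc_11_2 lc_b_rc_13_2 lc_b_rc_15_2 lc_b_rc_45_47 lc_b_rc_11_2 lc_b_rc_15_2 lc_b_rc_12_2 lc_b_rc_11_2 lc_b_rc_11_2 lc_b_rc_1_3 lc_b_rc_11_2 lc_b_rc_15_2 lc_b_rc_11_2 lc_b_rc_1_3 lc_b_rc_12_2 lc_b_rc_11_2 lc_b_rc_12_2 lc_b_rc_11_2 lc_b_rc_16_2) (@D3.rec (fun _ => (Cert rels S Gen.b)) lc_b_rc_45_56 lc_b_rc_9_1 lc_b_rc_16_2 lc_b_rc_46_22 lc_b_rc_47_49 lc_b_rc_11_2 lc_b_rc_16_2 lc_b_rc_11_2 lc_b_rc_10_2 lc_b_rc_12_2 lc_b_rc_11_2 lc_b_rc_45_47 lc_b_rc_14_0 lc_b_rc_15_0 lc_b_rc_47_21 lc_b_rc_12_2 lc_b_rc_11_2 lc_b_rc_12_2 lc_b_rc_11_2 lc_b_rc_12_2 lc_b_rc_1_3 lc_b_rc_47_28 lc_b_rc_11_2 lc_b_rc_14_2 lc_b_rc_11_2 lc_b_rc_15_2 lc_b_rc_46_43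 lc_b_rc_11_2 lc_b_rc_15_2 lc_b_rc_12_2 lc_b_rc_11_2 lc_b_rc_1_3) (@D3.rec (fun _ => (Cert rels S Gen.b)) lc_b_rc_14_2 lc_b_rc_15_2 lc_b_rc_15_2 lc_b_rc_11_2 lc_b_rc_14_2 lc_b_rc_15_2 lc_b_rc_16_0 lc_b_rc_11_2 lc_b_rc_14_2 lc_b_rc_11_2 lc_b_rc_15_2 lc_b_rc_11_2 lc_b_rc_15_2 lc_b_rc_12_2 lc_b_rc_11_2 lc_b_rc_16_2 lc_b_rc_16_2 lc_b_rc_12_2 lc_b_rc_11_2 lc_b_rc_12_2 lc_b_rc_11_2 lc_b_rc_12_2 lc_b_rc_10_4 lc_b_rc_15_2 lc_b_rc_45_38 lc_b_rc_1_3 lc_b_rc_11_2 lc_b_rc_13_2 lc_b_rc_15_2 lc_b_rc_12_2 lc_b_rc_11_2 lc_b_rc_13_2) (@D3.rec (fun _ => (Cert rels S Gen.b)) lc_b_rc_12_2 lc_b_rc_13_2 lc_b_rc_13_2 lc_b_rc_16_2 lc_b_rc_1_3 lc_b_rc_1_3 lc_b_rc_10_2 lc_b_rc_11_2 lc_b_rc_15_2 lc_b_rc_12_2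 lc_b_rc_11_2 lc_b_rc_1_3 lc_b_rc_11_2 lc_b_rc_15_2 lc_b_rc_11_2 lc_b_rc_1_3 lc_b_rc_16_2 lc_b_rc_46_22 lc_b_rc_11_2 lc_b_rc_15_2 lc_b_rc_12_2 lc_b_rc_11_2 lc_b_rc_10_2 lc_b_rc_12_2 lc_b_rc_11_2 lc_b_rc_12_2 lc_b_rc_11_2 lc_b_rc_13_2 lc_b_rc_15_2 lc_b_rc_12_2 lc_b_rc_11_2 lc_b_rc_13_2) (@D3.rec (fun _ => (Cert rels S Gen.b)) lc_b_rc_12_2 lc_b_rc_11_2 lc_b_rc_12_2 lc_b_rc_12_2 lc_b_rc_47_7 lc_b_rc_45_38 lc_b_rc_16_2 lc_b_rc_11_2 lc_b_rc_47_21 lc_b_rc_11_2 lc_b_rc_11_2 lc_b_rc_9_1 lc_b_rc_15_2 lc_b_rc_14_2 lc_b_rc_11_2 lc_b_rc_15_2 lc_b_rc_12_2 lc_b_rc_11_2 lc_b_rc_1_3 lc_b_rc_1_3 lc_b_rc_12_2 lc_b_rc_11_2 lc_b_rc_12_2 lc_b_rc_1_3 lc_b_rc_12_2 lc_b_rc_11_2 lc_b_rc_12_2 lc_b_rc_11_2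 lc_b_rc_12_2 lc_b_rc_9_1 lc_b_rc_45_47 lc_b_rc_14_2) (@D3.rec (fun _ => (Cert rels S Gen.b)) lc_b_rc_1_5 lc_b_rc_11_2 lc_b_rc_45_65 lc_b_rc_13_2 lc_b_rc_12_2 lc_b_rc_11_2 lc_b_rc_11_2 lc_b_rc_15_2 lc_b_rc_12_2 lc_b_rc_11_2 lc_b_rc_12_2 lc_b_rc_13_2 lc_b_rc_13_2 lc_b_rc_11_2 lc_b_rc_15_2 lc_b_rc_12_2 lc_b_rc_11_2 lc_b_rc_15_2 lc_b_rc_15_2 lc_b_rc_14_2 lc_b_rc_1_3 lc_b_rc_12_2 lc_b_rc_11_2 lc_b_rc_12_2 lc_b_rc_11_2 lc_b_rc_16_2 lc_b_rc_15_2 lc_b_rc_12_2 lc_b_rc_11_2 lc_b_rc_12_2 lc_b_rc_14_0 lc_b_rc_15_2) (@D3.rec (fun _ => (Cert rels S Gen.b)) lc_b_rc_14_2 lc_b_rc_12_2 lc_b_rc_11_2 lc_b_rc_12_2 lc_b_rc_15_2 lc_b_rc_12_2 lc_b_rc_11_2 lc_b_rc_12_2 lc_b_rc_1_3 lc_b_rc_16_2 lc_b_rc_11_2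 lc_b_rc_15_2 lc_b_rc_12_2 lc_b_rc_11_2 lc_b_rc_47_28 lc_b_rc_12_2 lc_b_rc_11_2 lc_b_rc_12_2 lc_b_rc_14_2 lc_b_rc_12_0 lc_b_rc_12_2 lc_b_rc_11_2 lc_b_rc_13_2 lc_b_rc_12_2 lc_b_rc_13_2 lc_b_rc_13_2 lc_b_rc_45_65 lc_b_rc_16_0 lc_b_rc_12_2 lc_b_rc_14_2 lc_b_rc_11_0 lc_b_rc_12_2) (@D3.rec (fun _ => (Cert rels S Gen.b)) lc_b_rc_11_2 lc_b_rc_12_2 lc_b_rc_12_2 lc_b_rc_11_2 lc_b_rc_12_2 lc_b_rc_16_0 lc_b_rc_15_2 lc_b_rc_11_2 lc_b_rc_15_2 lc_b_rc_1_3 lc_b_rc_15_2 lc_b_rc_47_21 lc_b_rc_45_47 lc_b_rc_47_28 lc_b_rc_45_47 lc_b_rc_14_2 lc_b_rc_12_2 lc_b_rc_11_2 lc_b_rc_12_2 lc_b_rc_45_74 lc_b_rc_15_2 lc_b_rc_12_2 lc_b_rc_14_2 lc_b_rc_16_2 lc_b_rc_46_22 lc_b_rc_1_3 lc_b_rc_46_22 lc_b_rc_16_2 lc_b_rc_13_2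 lc_b_rc_47_49 lc_b_rc_12_2 lc_b_rc_1_5) (@D3.rec (fun _ => (Cert rels S Gen.b)) lc_b_rc_15_2 lc_b_rc_12_2 lc_b_rc_46_22 lc_b_rc_15_2 lc_b_rc_45_47 lc_b_rc_12_2 lc_b_rc_11_2 lc_b_rc_12_2 lc_b_rc_11_2 lc_b_rc_11_2 lc_b_rc_11_2 lc_b_rc_12_2 lc_b_rc_15_2 lc_b_rc_46_36 lc_b_rc_1_3 lc_b_rc_9_1 lc_b_rc_1_3 lc_b_rc_12_2 lc_b_rc_11_2 lc_b_rc_14_0 lc_b_rc_14_0 lc_b_rc_12_2 lc_b_rc_46_43 lc_b_rc_9_0 lc_b_rc_45_11 lc_b_rc_9_0 lc_b_rc_12_2 lc_b_rc_12_2 lc_b_rc_12_2 lc_b_rc_47_28 lc_b_rc_11_2 lc_b_rc_15_2) (@D3.rec (fun _ => (Cert rels S Gen.b)) lc_b_rc_12_2 lc_b_rc_11_2 lc_b_rc_47_49 lc_b_rc_12_2 lc_b_rc_11_2 lc_b_rc_12_2 lc_b_rc_15_2 lc_b_rc_15_2 lc_b_rc_11_2 lc_b_rc_15_2 lc_b_rc_12_2 lc_b_rc_11_2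 lc_b_rc_12_2 lc_b_rc_11_2 lc_b_rc_12_2 lc_b_rc_10_2 lc_b_rc_9_1 lc_b_rc_12_2 lc_b_rc_15_2 lc_b_rc_15_2 lc_b_rc_45_29 lc_b_rc_1_3 lc_b_rc_12_2 lc_b_rc_11_2 lc_b_rc_13_2 lc_b_rc_12_2 lc_b_rc_13_2 lc_b_rc_13_2 lc_b_rc_14_2 lc_b_rc_13_2 lc_b_rc_1_3 lc_b_rc_16_2) (@D3.rec (fun _ => (Cert rels S Gen.b)) lc_b_rc_1_3 lc_b_rc_1_3 lc_b_rc_10_2 lc_b_rc_12_2 lc_b_rc_11_2 lc_b_rc_12_2 lc_b_rc_1_3 lc_b_rc_11_2 lc_b_rc_47_28 lc_b_rc_12_2 lc_b_rc_11_2 lc_b_rc_12_2 lc_b_rc_10_2 lc_b_rc_10_2 lc_b_rc_12_2 lc_b_rc_14_2 lc_b_rc_12_2 lc_b_rc_11_2 lc_b_rc_13_2 lc_b_rc_12_2 lc_b_rc_13_2 lc_b_rc_13_2 lc_b_rc_12_2 lc_b_rc_14_2 lc_b_rc_12_2 lc_b_rc_10_2 lc_b_rc_16_2 lc_b_rc_11_2 lc_b_rc_47_28 lc_b_rc_15_2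 lc_b_rc_12_2 lc_b_rc_11_2) (@D3.rec (fun _ => (Cert rels S Gen.b)) lc_b_rc_12_2 lc_b_rc_1_3 lc_b_rc_1_3 lc_b_rc_12_2 lc_b_rc_14_2 lc_b_rc_12_2 lc_b_rc_15_2 lc_b_rc_14_2 lc_b_rc_11_0 lc_b_rc_9_1 lc_b_rc_1_3 lc_b_rc_12_2 lc_b_rc_12_2 lc_b_rc_11_2 lc_b_rc_12_2 lc_b_rc_14_2 lc_b_rc_13_2 lc_b_rc_12_2 lc_b_rc_11_2 lc_b_rc_12_2 lc_b_rc_15_2 lc_b_rc_12_2 lc_b_rc_12_2 lc_b_rc_16_2 lc_b_rc_12_2 lc_b_rc_14_2 lc_b_rc_12_2 lc_b_rc_45_47 lc_b_rc_13_2 lc_b_rc_12_2 lc_b_rc_14_2 lc_b_rc_12_2) (@D3.rec (fun _ => (Cert rels S Gen.b)) lc_b_rc_14_2 lc_b_rc_47_28 lc_b_rc_12_2 lc_b_rc_11_2 lc_b_rc_12_2 lc_b_rc_47_28 lc_b_rc_47_42 lc_b_rc_12_2 lc_b_rc_14_2 lc_b_rc_45_38 lc_b_rc_15_2 lc_b_rc_12_2 lc_b_rc_13_2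 lc_b_rc_13_2 lc_b_rc_14_2 lc_b_rc_13_2 lc_b_rc_1_3 lc_b_rc_14_2 lc_b_rc_11_0 lc_b_rc_12_2 lc_b_rc_14_2 lc_b_rc_12_2 lc_b_rc_14_2 lc_b_rc_16_0 lc_b_rc_11_2 lc_b_rc_1_3 lc_b_rc_47_21 lc_b_rc_1_1 lc_b_rc_1_1 lc_b_rc_47_28 lc_b_rc_1_1 lc_b_rc_15_2) (@D3.rec (fun _ => (Cert rels S Gen.b)) lc_b_rc_12_2 lc_b_rc_14_2 lc_b_rc_47_28 lc_b_rc_14_2 lc_b_rc_47_28 lc_b_rc_1_3 lc_b_rc_12_2 lc_b_rc_10_2 lc_b_rc_12_2 lc_b_rc_46_43 lc_b_rc_12_2 lc_b_rc_14_2 lc_b_rc_14_2 lc_b_rc_14_2 lc_b_rc_9_1 lc_b_rc_45_65 lc_b_rc_9_1 lc_b_rc_47_28 lc_b_rc_12_2 lc_b_rc_12_2 lc_b_rc_14_2 lc_b_rc_11_0 lc_b_rc_47_21 lc_b_rc_14_2 lc_b_rc_12_2 lc_b_rc_47_21 lc_b_rc_12_2 lc_b_rc_11_2 lc_b_rc_12_2 lc_b_rc_12_2 lc_b_rc_14_2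 lc_b_rc_12_2) (@D3.rec (fun _ => (Cert rels S Gen.b)) lc_b_rc_11_2 lc_b_rc_12_2 lc_b_rc_12_2 lc_b_rc_14_2 lc_b_rc_12_2 lc_b_rc_14_2 lc_b_rc_14_2 lc_b_rc_9_0 lc_b_rc_9_0 lc_b_rc_12_2 lc_b_rc_13_2 lc_b_rc_13_2 lc_b_rc_14_2 lc_b_rc_13_2 lc_b_rc_14_2 lc_b_rc_9_0 lc_b_rc_1_3 lc_b_rc_1_3 lc_b_rc_10_2 lc_b_rc_10_2 lc_b_rc_12_2 lc_b_rc_14_2 lc_b_rc_46_22 lc_b_rc_47_28 lc_b_rc_12_2 lc_b_rc_14_2 lc_b_rc_10_2 lc_b_rc_14_2 lc_b_rc_12_2 lc_b_rc_13_2 lc_b_rc_13_2 lc_b_rc_14_2) (@D3.rec (fun _ => (Cert rels S Gen.b)) lc_b_rc_13_2 lc_b_rc_14_2 lc_b_rc_13_2 lc_b_rc_12_2 lc_b_rc_10_2 lc_b_rc_12_2 lc_b_rc_14_2 lc_b_rc_1_3 lc_b_rc_14_2 lc_b_rc_14_2 lc_b_rc_14_2 lc_b_rc_12_2 lc_b_rc_14_2 lc_b_rc_12_2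 lc_b_rc_14_2 lc_b_rc_14_2 lc_b_rc_12_2 lc_b_rc_14_2 lc_b_rc_14_2 lc_b_rc_14_2 lc_b_rc_16_2 lc_b_rc_14_2 lc_b_rc_15_0 lc_b_rc_9_0 lc_b_rc_14_2 lc_b_rc_14_2 lc_b_rc_47_14 lc_b_rc_12_2 lc_b_rc_14_2 lc_b_rc_47_28 lc_b_rc_14_2 lc_b_rc_1_3) (@D3.rec (fun _ => (Cert rels S Gen.b)) lc_b_rc_14_2 lc_b_rc_13_2 lc_b_rc_14_2 lc_b_rc_1_3 lc_b_rc_14_2 lc_b_rc_14_2 lc_b_rc_16_0 lc_b_rc_13_2 lc_b_rc_1_3 lc_b_rc_9_0 lc_b_rc_1_1 lc_b_rc_10_2 lc_b_rc_14_2 lc_b_rc_10_2 lc_b_rc_10_2 lc_b_rc_11_2 lc_b_rc_14_2 lc_b_rc_11_2 lc_b_rc_9_1 lc_b_rc_14_2 lc_b_rc_15_0 lc_b_rc_11_0 lc_b_rc_12_2 lc_b_rc_14_2 lc_b_rc_14_2 lc_b_rc_12_2 lc_b_rc_14_2 lc_b_rc_14_2 lc_b_rc_13_0 lc_b_rc_9_0 lc_b_rc_14_2 lc_b_rc_13_2) (@D3.rec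 (fun _ => (Cert rels S Gen.b)) lc_b_rc_14_2 lc_b_rc_9_0 lc_b_rc_1_3 lc_b_rc_10_2 lc_b_rc_14_2 lc_b_rc_47_35 lc_b_rc_14_2 lc_b_rc_10_2 lc_b_rc_14_2 lc_b_rc_13_2 lc_b_rc_14_2 lc_b_rc_13_0 lc_b_rc_14_2 lc_b_rc_1_3 lc_b_rc_14_2 lc_b_rc_14_2 lc_b_rc_11_0 lc_b_rc_14_2 lc_b_rc_10_2 lc_b_rc_1_3 lc_b_rc_14_2 lc_b_rc_12_0 lc_b_rc_10_2 lc_b_rc_13_2 lc_b_rc_14_2 lc_b_rc_14_2 lc_b_rc_11_0 lc_b_rc_14_2 lc_b_rc_1_3 lc_b_rc_10_2 lc_b_rc_11_0 lc_b_rc_14_2)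
def ce_b : Pt → (Cert rels S Gen.b) := @Pt.rec (fun _ => (Cert rels S Gen.b)) (@D1.rec (fun _ => D2 → D3 → (Cert rels S Gen.b)) ce_b_0 ce_b_1 ce_b_2 ce_b_3 ce_b_4 ce_b_5 ce_b_6 ce_b_7 ce_b_8 ce_b_9 ce_b_10 ce_b_11 ce_b_12 ce_b_13 ce_b_14 ce_b_15 ce_b_16 ce_b_17 ce_b_18 ce_b_19)
def isSeed_b (p : Pt) : Bool := false

end

end Cfsg.Agent.Helper28.S1685
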