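import Cfsg.Agent.Lib.Helper28.S1685.Tree

set_option autoImplicit false
set_option maxRecDepth 100000
set_option linter.all false

namespace Cfsg.Agent.Helper28.S1685

open Cfsg.Agent.Helper28
open Cfsg.Spor.Fi22 (Gen)

noncomputable section

def lv_c_0 : D2 → D3 → Nat := @D2.rec (fun _ => D3 → Nat) (@D3.rec (fun _ => Nat) 1 2 0 1 4 5 5 6 6 6 7 7 0 7 8 0 8 1 2 0 9 1 2 2 8 2 3 1 2 2 9 2) (@D3.rec (fun _ => Nat) 2 3 3 9 9 3 10 2 2 3 3 3 10 10 10 9 3 3 4 10 10 9 11 11 11 10 3 3 3 4 4 11) (@D3.rec (fun _ => Nat) 11 0 11 11 10 10 4 10 0 11 0 10 12 12 0 12 12 12 11 11 11 4 4 11 5 0 13 12 12 1 14 2) (@D3.rec (fun _ => Nat) 12 0 11 11 0 11 1 62 1 63 11 15 13 13 13 1 2 14 2 13 13 0 12 12 12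 12 12 5 0 12 0 1) (@D3.rec (fun _ => Nat) 15 13 67 2 14 3 0 1 2 12 0 1 2 12 13 68 12 18 15 14 14 65 2 2 3 19 3 16 3 14 0 1) (@D3.rec (fun _ => Nat) 2 13 13 13 13 13 0 0 1 2 13 1 2 14 15 0 63 3 16 0 1 2 2 62 0 1 2 6 2 3 13 14) (@D3.rec (fun _ => Nat) 64 16 17 17 15 0 63 3 3 3 17 4 16 4 16 0 0 1 2 2 3 0 14 14 14 0 0 1 2 1 2 6) (@D3.rec (fun _ => Nat) 2 3 14 15 2 15 0 1 2 0 0 1 2 6 2 3 5 64 1 2 7 2 3 7 7 3 4 18 17 0 0 1) (@D3.rec (fun _ => Nat) 2 65 14 4 4 0 14 17 5 18 0 0 1 2 1 2 6 2 3 5 3 64 1 2 15 0 0 1 2 1 2 7) (@D3.rec (fun _ => Nat) 2 3 7 2 3 7 7 3 4 16 16 14 1 2 15 2 1 2 1 2 7 2 3 7 7 5 3 4 6 8 2 3) (@D3.rec (fun _ => Nat) 8 8 13 3 4 8 8 4 19 0 1 2 1 2 16 2 3 15 5 0 1 2 15 18 0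 0 1 2 1 2 7 2) (@D3.rec (fun _ => Nat) 3 7 2 3 7 7 5 3 4 6 6 2 3 0 1 2 1 2 8 2 3 8 2 3 8 8 14 3 4 8 8 15) (@D3.rec (fun _ => Nat) 3 4 8 8 4 17 0 19 16 2 16 16 14 2 3 8 2 3 8 8 14 3 4 8 14 8 6 4 9 9 14 3) (@D3.rec (fun _ => Nat) 4 9 0 9 14 4 9 9 0 1 2 17 2 3 17 2 3 17 17 3 16 0 1 2 15 2 3 16 0 1 2 1) (@D3.rec (fun _ => Nat) 2 8 2 3 8 2 3 8 8 15 3 4 8 8 16 3 4 8 15 8 6 6 4 7 7 7 3 0 1 2 9 2) (@D3.rec (fun _ => Nat) 3 9 2 3 9 9 5 3 4 9 9 15 3 4 9 0 9 15 4 9 0 9 16 18 4 9 9 0 1 2 20 17) (@D3.rec (fun _ => Nat) 17 15 17 15 15 15 3 9 9 15 3 4 9 0 9 15 15 4 15 9 15 9 10 0 10 15 15 4 0 10 1 2) (@D3.rec (fun _ => Nat) 10 15 15 10 1 2 18 2 3 18 18 16 3 18 18 17 3 18 18 0 1 2 16 2 3 16 16 16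 3 4 0 1) (@D3.rec (fun _ => Nat) 2 9 2 3 9 2 3 9 9 5 3 4 9 9 16 3 4 9 0 9 16 16 4 9 0 9 17 19 4 16 9 16) (@D3.rec (fun _ => Nat) 16 9 7 7 7 8 0 1 2 10 2 3 10 10 5 3 4 10 10 6 3 4 10 0 10 6 6 4 10 0 10 16) (@D3.rec (fun _ => Nat) 16 4 0 10 1 2 10 16 16 0 10 1 2 2 10 17 19 19 10 1 2 2 3 18 0 16 0 16 16 16 10 0) (@D3.rec (fun _ => Nat) 10 16 16 4 0 10 1 2 2 10 16 16 10 0 11 1 2 2 11 16 16 16 1 2 11 2 3 3 16 19 2 3)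
def lv_c_1 : D2 → D3 → Nat := @D2.rec (fun _ => D3 → Nat) (@D3.rec (fun _ => Nat) 19 19 5 3 19 0 19 17 19 0 19 18 20 19 1 2 17 2 3 17 17 5 3 4 17 0 17 17 17 4 1 2) (@D3.rec (fun _ => Nat) 10 2 3 10 10 5 3 4 10 10 6 3 4 10 0 10 6 6 4 10 0 10 17 17 4 0 10 1 2 2 10 17) (@D3.rec (fun _ => Nat) 17 17 17 0 10 1 2 2 10 18 18 20 20 17 17 10 17 17 17 8 0 1 2 11 2 3 11 11 6 3 4 11) (@D3.rec (fun _ => Nat) 0 11 6 6 4 11 0 11 7 7 4 0 11 1 2 2 11 7 7 7 7 0 11 1 2 2 11 17 17 17 1 2) (@D3.rec (fun _ => Nat) 11 2 3 3 17 1 2 2 11 2 2 3 4 3 20 20 19 2 3 17 3 0 1 0 17 1 2 2 17 17 0 11) (@D3.rec (fun _ => Nat) 1 2 2 11 17 1 2 2 11 2 2 3 1 2 2 12 2 2 3 3 4 17 17 17 19 2 3 3 3 3 4 17) (@D3.rec (fun _ =>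 Nat) 20 20 5 3 20 0 20 6 6 0 20 1 2 18 0 20 1 2 2 21 21 18 2 3 18 18 5 3 4 18 0 18) (@D3.rec (fun _ => Nat) 6 6 4 0 18 1 2 2 18 18 18 18 18 11 2 3 11 11 6 3 4 11 0 11 6 6 4 11 0 11 7 7) (@D3.rec (fun _ => Nat) 4 0 11 1 2 2 11 7 7 7 7 0 11 1 2 2 11 18 18 18 18 1 2 2 11 2 2 3 3 4 3 18) (@D3.rec (fun _ => Nat) 18 1 2 2 11 2 2 3 3 4 3 21 21 21 18 18 18 18 0 1 19 2 3 12 12 17 3 4 12 0 12 7) (@D3.rec (fun _ => Nat) 7 4 0 12 1 2 2 12 7 7 7 7 0 12 1 2 2 12 8 8 8 8 1 2 2 12 2 2 3 3 4 3) (@D3.rec (fun _ => Nat) 8 8 8 8 1 2 2 12 2 2 3 3 4 18 18 18 20 2 3 3 3 3 4 18 20 2 2 3 4 3 3 4) (@D3.rec (fun _ => Nat) 9 3 5 5 21 20 18 3 18 18 1 1 2 2 2 2 3 4 1 2 2 12 2 2 3 11 2 2 3 3 20 2) (@D3.rec (fun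 _ => Nat) 2 3 3 4 3 3 4 17 4 5 5 18 18 64 20 3 3 4 17 4 5 21 0 21 6 6 0 21 1 2 2 7) (@D3.rec (fun _ => Nat) 7 7 1 2 2 3 1 2 2 2 2 4 3 22 19 19 18 3 4 19 0 19 6 6 4 0 19 1 2 2 19 7) (@D3.rec (fun _ => Nat) 7 7 7 1 2 2 19 2 2 3 3 4 3 19 19 19 19 12 12 18 3 4 12 0 12 7 7 4 0 12 1 2) (@D3.rec (fun _ => Nat) 2 12 7 7 7 7 0 12 1 2 2 12 8 8 8 8 1 2 2 12 2 2 3 3 4 3 8 8 8 8 1 2) (@D3.rec (fun _ => Nat) 2 12 2 2 3 3 4 3 19 19 11 2 2 3 3 4 3 3 3 4 3 4 5 0 11 2 2 3 3 4 3 3) (@D3.rec (fun _ => Nat) 3 4 9 3 5 5 5 0 22 22 19 0 1 19 20 20 18 3 65 13 0 13 18 18 4 0 13 1 2 2 13 8) (@D3.rec (fun _ => Nat) 8 8 8 1 2 2 13 2 2 3 3 4 3 8 8 8 8 1 2 2 13 2 2 3 3 4 3 21 2 2 3 3) (@D3.rec (fun _ => Nat) 4 3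 3 3 4 9 3 4 5 5 5 21 2 2 3 3 4 3 3 4 18 4 5 5 21 3 3 4 9 4 5 21) (@D3.rec (fun _ => Nat) 21 3 4 10 3 5 5 5 10 5 10 10 6 0 21 19 19 19 19 19 11 23 2 2 3 4 3 4 18 22 2 2)
def lv_c_2 : D2 → D3 → Nat := @D2.rec (fun _ => D3 → Nat) (@D3.rec (fun _ => Nat) 3 3 18 62 61 3 21 21 3 3 4 18 4 5 5 18 4 5 5 18 18 5 6 63 21 21 18 4 5 18 5 0) (@D3.rec (fun _ => Nat) 22 1 2 2 7 7 7 1 2 2 2 2 3 4 3 8 8 11 2 3 3 11 2 2 4 3 4 9 3 5 20 0) (@D3.rec (fun _ => Nat) 20 19 19 4 0 20 1 2 2 20 7 7 7 7 1 2 2 20 2 2 3 3 4 3 8 8 8 8 23 2 2 3) (@D3.rec (fun _ => Nat) 3 4 3 3 3 4 19 3 4 5 5 5 20 20 0 13 0 13 19 19 4 0 13 1 2 2 13 8 8 8 8 1) (@D3.rec (fun _ => Nat) 2 2 13 2 2 3 3 4 3 8 8 8 8 1 2 2 13 2 2 3 3 4 3 9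 9 9 9 12 2 2 3 3) (@D3.rec (fun _ => Nat) 4 3 3 3 4 9 3 4 5 5 5 9 9 0 9 9 24 2 2 3 3 4 3 3 3 4 19 3 4 5 12 63) (@D3.rec (fun _ => Nat) 3 3 4 3 4 5 9 4 5 0 1 12 12 3 3 4 10 3 5 5 5 5 5 10 5 10 10 0 6 6 1 2) (@D3.rec (fun _ => Nat) 0 1 8 20 21 0 21 0 14 1 2 2 14 1 2 2 14 2 2 3 3 4 3 22 2 2 3 3 4 3 3 3) (@D3.rec (fun _ => Nat) 4 19 3 4 5 5 5 22 2 2 3 3 4 3 3 3 4 19 3 22 22 3 3 4 10 3 4 5 5 5 9 4) (@D3.rec (fun _ => Nat) 5 5 10 5 10 10 22 22 3 3 4 19 4 5 5 11 4 5 5 19 19 22 22 10 4 5 10 10 5 22 22 0) (@D3.rec (fun _ => Nat) 22 5 11 5 11 11 6 11 6 11 11 11 11 11 1 2 2 20 20 20 20 20 20 23 23 3 4 19 19 19 24 24) (@D3.rec (fun _ => Nat) 3 19 62 22 22 22 0 19 4 5 5 19 19 5 6 58 19 5 6 19 0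 22 19 5 19 1 2 2 2 2 3 4) (@D3.rec (fun _ => Nat) 3 8 8 12 2 2 3 4 3 3 4 9 3 5 5 9 12 3 9 12 12 4 10 3 5 10 5 10 10 0 21 1) (@D3.rec (fun _ => Nat) 2 2 21 20 20 20 20 1 2 2 21 2 2 3 3 4 3 8 8 8 8 25 2 2 3 3 4 3 3 3 4 20) (@D3.rec (fun _ => Nat) 3 4 5 5 5 9 9 0 9 9 25 25 3 3 4 20 3 4 5 5 5 9 4 5 5 20 5 20 5 6 0 0) (@D3.rec (fun _ => Nat) 1 0 14 1 2 2 14 20 20 20 20 1 2 2 14 2 2 3 3 4 3 9 9 9 9 13 2 2 3 3 4 3) (@D3.rec (fun _ => Nat) 3 3 4 20 3 4 5 5 5 9 9 0 9 9 24 2 2 3 3 4 3 3 3 4 20 3 4 5 5 5 10 65) (@D3.rec (fun _ => Nat) 10 10 13 13 3 3 4 10 3 4 5 5 5 9 4 5 5 10 5 10 10 5 6 0 6 6 10 1 2 24 24 3) (@D3.rec (fun _ => Nat) 3 4 20 3 4 5 11 4 5 20 20 13 67 68 63 10 4 5 0 10 10 0 1 8 72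 70 13 0 13 5 5 11) (@D3.rec (fun _ => Nat) 5 11 11 0 6 6 0 6 11 6 11 11 11 11 11 1 2 8 2 1 8 9 0 22 1 1 2 2 15 2 2 23) (@D3.rec (fun _ => Nat) 2 2 3 3 4 3 3 3 4 8 3 23 23 3 3 4 20 3 4 5 5 5 19 4 5 5 20 5 20 20 23 23) (@D3.rec (fun _ => Nat) 3 3 4 20 3 10 20 20 20 23 23 23 0 23 10 4 5 5 11 5 11 11 10 10 19 11 11 11 11 11 11 23)
def lv_c_3 : D2 → D3 → Nat := @D2.rec (fun _ => D3 → Nat) (@D3.rec (fun _ => Nat) 23 23 0 11 4 5 5 20 20 67 11 64 20 20 20 0 23 11 11 5 74 11 11 23 0 23 1 2 2 12 6 12) (@D3.rec (fun _ => Nat) 12 12 12 12 12 77 12 12 12 12 12 12 2 2 3 3 3 21 21 21 21 21 0 66 67 0 20 20 64 0 0 23) (@D3.rec (fun _ => Nat) 23 23 0 1 2 20 5 6 20 20 1 2 23 20 20 13 2 2 3 4 3 3 4 21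 3 5 5 64 9 13 13 3) (@D3.rec (fun _ => Nat) 4 10 3 5 5 9 5 10 5 10 10 6 13 10 10 13 0 13 11 5 11 11 11 11 11 11 11 1 2 2 22 2) (@D3.rec (fun _ => Nat) 2 3 3 4 3 21 21 21 21 35 2 2 3 3 4 3 3 3 4 8 3 4 5 5 5 9 9 0 9 9 25 23) (@D3.rec (fun _ => Nat) 3 3 4 21 3 4 5 5 5 9 4 5 5 21 5 21 21 5 6 0 6 6 10 0 10 1 2 25 25 25 0 25) (@D3.rec (fun _ => Nat) 10 4 5 5 21 5 21 5 6 0 10 10 5 6 0 21 21 21 0 1 1 8 1 2 2 15 2 2 3 65 4 3) (@D3.rec (fun _ => Nat) 21 21 21 21 36 2 2 3 3 4 3 3 3 4 8 3 4 5 5 5 10 0 10 10 14 14 3 3 4 21 3 4) (@D3.rec (fun _ => Nat) 5 5 5 20 4 5 5 21 5 21 21 5 6 0 6 6 64 65 10 1 2 26 24 3 3 4 21 3 4 5 5 5) (@D3.rec (fun _ => Nat) 10 4 5 5 21 5 21 21 6 0 6 6 11 70 14 71 14 0 14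 10 4 5 5 11 5 11 11 5 6 0 6 6) (@D3.rec (fun _ => Nat) 10 10 5 6 0 6 11 6 11 11 11 11 11 7 1 2 8 2 26 26 26 0 26 11 4 5 21 21 11 11 63 21) (@D3.rec (fun _ => Nat) 0 64 65 11 11 0 1 11 0 11 1 8 9 71 71 0 14 1 2 2 0 6 12 6 12 12 12 12 12 1 2 1) (@D3.rec (fun _ => Nat) 2 2 12 12 12 12 12 12 12 12 8 2 9 9 70 9 1 24 2 2 8 24 24 3 3 4 9 3 20 68 9 75) (@D3.rec (fun _ => Nat) 24 24 24 0 24 20 4 5 5 21 5 21 21 20 20 73 21 21 21 21 21 21 24 24 24 0 24 12 21 21 21 12) (@D3.rec (fun _ => Nat) 21 21 21 21 0 24 24 24 0 24 1 2 2 11 11 20 12 12 12 12 12 12 11 20 11 20 12 12 12 12 12 12) (@D3.rec (fun _ => Nat) 12 0 24 24 24 0 1 2 69 13 66 21 21 21 67 69 13 67 21 21 1 2 2 24 76 12 12 74 76 12 0 24)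 (@D3.rec (fun _ => Nat) 1 2 2 2 2 3 3 3 13 74 13 13 13 13 13 13 13 77 78 13 13 13 13 13 0 14 3 3 3 4 4 4) (@D3.rec (fun _ => Nat) 22 22 0 22 74 1 0 0 1 1 1 2 24 24 0 1 2 21 21 2 3 21 14 14 3 4 22 3 5 5 21 5) (@D3.rec (fun _ => Nat) 22 5 22 22 0 6 66 14 14 0 14 10 5 11 5 11 11 6 10 64 6 11 11 11 11 11 0 11 11 0 14 1) (@D3.rec (fun _ => Nat) 2 2 12 12 12 12 12 12 12 12 12 12 12 26 2 2 3 3 4 3 3 3 4 8 3 75 5 5 5 22 22 0) (@D3.rec (fun _ => Nat) 22 22 35 35 3 3 4 9 3 4 5 5 5 21 4 5 5 9 5 9 9 5 6 0 6 6 10 0 10 1 2 27) (@D3.rec (fun _ => Nat) 27 27 0 25 10 4 5 5 22 5 22 22 5 6 0 6 6 10 10 5 6 0 6 22 6 22 22 22 22 22 7 0)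
def lv_c_4 : D2 → D3 → Nat := @D2.rec (fun _ => D3 → Nat) (@D3.rec (fun _ => Nat) 7 1 2 11 1 2 8 2 0 27 27 68 0 67 1 2 11 11 5 6 0 22 22 22 0 1 11 11 0 11 0 1) (@D3.rec (fun _ => Nat) 2 22 22 1 8 9 9 27 2 2 3 65 4 3 3 4 8 3 68 5 71 5 22 22 0 22 22 34 34 3 3 4) (@D3.rec (fun _ => Nat) 9 3 4 5 5 5 21 4 5 5 66 5 9 9 6 0 6 6 66 11 1 2 15 69 15 0 15 21 4 5 5 22) (@D3.rec (fun _ => Nat) 5 22 22 5 6 0 6 6 21 21 5 6 0 6 22 6 22 22 22 22 22 7 0 7 1 2 69 65 8 2 3 26) (@D3.rec (fun _ => Nat) 26 26 0 24 12 4 5 5 22 5 22 22 6 0 6 6 12 12 6 0 6 22 6 22 22 22 22 22 7 1 2 0) (@D3.rec (fun _ => Nat) 69 15 69 0 15 1 2 2 11 11 5 6 0 6 12 6 12 12 12 12 12 7 1 2 71 11 0 11 63 7 1 2) (@D3.rec (fun _ =>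 Nat) 2 12 12 12 12 12 12 12 12 8 2 9 9 0 26 26 0 1 2 13 13 68 22 67 71 13 72 1 2 2 0 12) (@D3.rec (fun _ => Nat) 0 12 1 70 12 1 2 21 9 0 72 0 72 1 2 2 2 2 3 3 3 1 2 2 13 13 13 13 13 13 13 13) (@D3.rec (fun _ => Nat) 70 2 22 2 2 3 3 3 13 13 13 13 13 13 13 13 0 9 9 10 70 25 25 25 9 9 25 25 25 0 25 21) (@D3.rec (fun _ => Nat) 68 10 74 73 73 75 0 25 25 25 0 25 1 2 2 21 21 76 22 22 22 22 22 22 21 73 21 78 22 22 22 22) (@D3.rec (fun _ => Nat) 22 22 22 0 0 1 2 2 12 22 22 22 22 12 22 22 22 22 1 2 2 0 0 1 2 2 2 2 3 3 3 12) (@D3.rec (fun _ => Nat) 21 12 21 13 13 13 13 13 13 13 12 21 21 21 13 13 13 13 13 13 0 1 2 2 0 0 1 2 2 3 67 72) (@D3.rec (fun _ => Nat) 13 69 22 22 67 65 72 71 2 2 3 4 3 77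 76 13 71 77 1 2 2 2 2 3 3 3 14 3 3 3 4 4) (@D3.rec (fun _ => Nat) 4 14 79 74 14 14 14 14 14 0 14 73 78 14 14 0 14 74 1 15 15 15 4 4 4 22 5 5 0 23 76 1) (@D3.rec (fun _ => Nat) 1 1 2 3 1 21 22 3 4 15 15 0 15 22 5 23 5 23 23 0 6 22 0 6 23 23 23 23 23 1 2 66) (@D3.rec (fun _ => Nat) 0 15 0 15 1 2 2 11 64 6 12 12 12 12 12 64 11 64 64 12 12 12 12 12 12 1 2 12 1 2 2 2) (@D3.rec (fun _ => Nat) 2 3 3 3 13 13 13 13 13 13 13 13 13 13 13 0 27 25 3 3 4 9 3 75 5 5 5 5 5 9 5 9) (@D3.rec (fun _ => Nat) 9 73 0 6 6 23 0 23 1 2 33 35 33 0 35 22 4 5 5 10 5 10 10 5 6 0 6 6 22 22 5 6) (@D3.rec (fun _ => Nat) 0 6 10 6 10 10 10 10 10 7 0 7 1 2 67 11 1 2 8 2 3 0 27 31 27 0 29 1 2 2 11 11) (@D3.rec (fun _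 => Nat) 5 6 0 6 23 6 23 23 23 23 23 7 0 7 1 2 11 11 0 11 7 0 7 1 2 2 23 23 23 23 23 23) (@D3.rec (fun _ => Nat) 23 23 8 1 2 8 2 9 2 9 9 1 2 2 67 66 0 0 1 2 2 2 12 12 0 12 0 1 2 23 23 1) (@D3.rec (fun _ => Nat) 70 12 12 0 12 1 2 2 1 69 22 2 9 9 10 28 26 3 4 9 3 68 5 70 5 5 5 9 9 72 69 0)
def lv_c_5 : D2 → D3 → Nat := @D2.rec (fun _ => D3 → Nat) (@D3.rec (fun _ => Nat) 6 73 23 68 23 1 2 34 36 34 0 36 22 4 5 5 68 5 10 10 6 0 6 6 22 6 0 6 6 66 68 68) (@D3.rec (fun _ => Nat) 10 76 0 7 1 2 68 8 2 3 0 69 16 69 0 16 1 2 2 22 22 5 6 0 6 23 6 23 23 23 23 23) (@D3.rec (fun _ => Nat) 7 0 7 1 2 22 22 0 22 7 0 7 1 2 2 23 23 23 23 23 23 23 23 8 1 2 8 2 3 67 9 9) (@D3.rec (fun _ => Nat) 3 0 28 32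 28 0 28 1 2 2 12 12 6 0 6 23 6 23 23 23 23 23 7 1 2 0 12 68 7 1 2 2) (@D3.rec (fun _ => Nat) 23 23 23 23 23 23 23 2 1 2 2 71 67 0 16 0 71 1 2 2 2 2 3 3 3 64 12 0 12 65 7 1) (@D3.rec (fun _ => Nat) 2 2 13 13 13 13 13 13 13 13 68 2 64 70 65 12 1 2 2 65 65 11 2 2 3 3 3 13 13 13 13 13) (@D3.rec (fun _ => Nat) 13 13 13 0 9 9 10 1 2 2 0 1 2 2 67 71 13 65 67 70 68 2 2 4 0 3 1 13 1 2 7 68) (@D3.rec (fun _ => Nat) 22 2 22 1 2 2 1 2 2 2 2 3 3 3 23 3 3 3 4 4 4 7 2 2 3 3 3 14 14 14 14 14) (@D3.rec (fun _ => Nat) 14 14 14 0 68 70 23 23 23 3 3 3 4 4 4 14 14 14 14 14 0 14 73 1 10 0 10 0 0 1 2 2) (@D3.rec (fun _ => Nat) 70 78 79 72 1 2 2 0 0 1 2 2 2 2 3 3 3 22 79 22 76 23 23 23 23 23 23 23 77 74 23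 23) (@D3.rec (fun _ => Nat) 23 23 23 23 0 1 2 1 2 2 2 3 3 3 14 23 23 23 23 23 23 0 2 2 4 0 3 1 2 1 2 2) (@D3.rec (fun _ => Nat) 2 3 3 3 22 3 3 3 4 4 4 13 22 22 22 14 14 14 14 14 14 0 22 22 22 14 14 14 0 14 70 1) (@D3.rec (fun _ => Nat) 2 2 4 0 3 1 77 1 2 2 76 22 3 69 70 74 76 73 72 3 4 22 3 4 5 5 77 77 78 2 2 3) (@D3.rec (fun _ => Nat) 3 3 22 3 3 3 4 4 4 15 15 15 4 4 4 23 5 5 0 15 75 76 15 15 0 15 75 1 73 72 0 15) (@D3.rec (fun _ => Nat) 71 1 16 16 16 16 16 16 5 5 75 23 6 76 1 77 3 4 4 0 16 0 16 1 2 2 23 0 6 24 24 24) (@D3.rec (fun _ => Nat) 24 24 1 2 0 23 1 2 2 24 24 24 24 24 24 2 3 1 2 0 16 1 2 2 2 2 3 3 3 66 12 66) (@D3.rec (fun _ => Nat) 66 13 13 13 13 13 13 66 66 66 66 66 13 13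 13 13 13 0 2 3 2 2 3 3 3 24 3 3 3 4 4 4) (@D3.rec (fun _ => Nat) 14 14 14 14 14 0 14 14 0 14 0 1 29 29 0 27 5 5 10 5 10 10 76 0 6 6 6 10 6 10 10 10) (@D3.rec (fun _ => Nat) 10 10 69 72 1 2 0 24 1 2 8 2 3 0 35 33 35 0 35 1 2 2 23 23 5 6 0 6 11 6 11 11) (@D3.rec (fun _ => Nat) 11 11 11 7 0 7 1 2 23 23 0 23 7 0 7 1 2 2 72 11 11 11 11 11 11 11 0 8 1 2 8 2) (@D3.rec (fun _ => Nat) 3 67 67 9 2 3 9 9 3 1 2 2 71 29 0 29 0 29 1 2 2 2 2 3 3 3 12 12 0 12 7 0) (@D3.rec (fun _ => Nat) 7 1 2 2 24 24 24 24 24 24 24 24 8 1 2 33 2 12 12 0 12 1 2 2 65 8 1 2 2 11 2 2)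
def lv_c_6 : D2 → D3 → Nat := @D2.rec (fun _ => D3 → Nat) (@D3.rec (fun _ => Nat) 3 3 3 24 24 24 24 24 24 24 24 0 9 2 9 9 10 10 10 2 2 3 4 0 3 0 1 2 1 2 2 2) (@D3.rec (fun _ => Nat) 3 13 13 0 13 1 2 2 1 74 7 2 72 70 13 13 1 69 2 23 2 2 3 23 10 28 28 0 26 5 5 10) (@D3.rec (fun _ => Nat) 10 66 0 6 73 6 10 72 0 71 1 2 68 24 68 8 2 3 0 34 32 34 0 34 1 2 2 23 6 0 6 6) (@D3.rec (fun _ => Nat) 68 68 70 11 78 0 7 1 2 66 23 0 7 1 68 2 68 70 77 1 2 8 2 3 68 9 9 3 1 2 2 69) (@D3.rec (fun _ => Nat) 67 0 17 0 69 1 2 2 2 2 3 3 3 23 23 0 23 7 0 7 1 2 2 24 24 24 24 24 24 24 24 8) (@D3.rec (fun _ => Nat) 1 2 17 2 3 23 0 23 1 2 2 65 8 1 2 2 11 2 2 3 3 3 24 24 24 24 24 24 24 0 2 3) (@D3.rec (fun _ =>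 Nat) 9 9 3 10 10 1 2 2 28 0 30 0 30 1 2 2 2 2 3 3 3 0 14 66 7 1 2 2 24 24 24 24) (@D3.rec (fun _ => Nat) 24 24 24 28 2 1 2 66 2 2 3 3 3 24 24 24 0 2 2 3 4 0 3 0 69 1 2 2 1 2 2 2) (@D3.rec (fun _ => Nat) 2 3 3 3 13 3 3 3 4 4 4 69 72 65 13 1 2 2 65 65 7 2 2 3 3 3 14 14 14 14 14 14) (@D3.rec (fun _ => Nat) 14 14 0 66 68 72 69 65 65 12 2 2 3 3 3 65 65 65 12 12 12 3 3 3 4 4 4 14 14 14 14 14) (@D3.rec (fun _ => Nat) 0 14 72 1 10 2 2 4 0 3 1 2 2 69 73 70 79 4 0 3 5 1 2 7 8 2 8 23 23 7 2 2) (@D3.rec (fun _ => Nat) 3 3 3 2 2 3 3 3 4 3 3 3 4 4 4 24 24 24 4 4 4 24 5 5 0 8 8 8 3 3 3 4) (@D3.rec (fun _ => Nat) 4 4 15 15 15 15 15 0 15 73 1 70 24 24 24 24 24 4 4 4 5 5 0 15 15 0 15 73 1 1 2 1) (@D3.rec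 (fun _ => Nat) 1 2 2 3 3 3 70 72 2 2 4 0 3 1 2 1 2 2 2 3 3 3 23 3 3 3 4 4 4 77 74 24) (@D3.rec (fun _ => Nat) 24 24 24 24 24 0 71 71 24 24 24 24 70 1 2 3 2 3 23 3 3 3 4 4 4 24 24 0 24 77 1 4) (@D3.rec (fun _ => Nat) 0 3 5 1 2 2 2 3 2 3 4 3 3 3 4 4 4 23 23 23 4 4 4 13 5 5 0 23 23 23 15 15) (@D3.rec (fun _ => Nat) 15 0 15 70 1 23 23 15 71 1 4 0 3 5 1 76 2 2 77 72 73 4 5 23 5 23 23 78 6 78 23 3) (@D3.rec (fun _ => Nat) 3 3 4 4 4 23 23 23 4 4 4 24 5 5 0 16 16 16 16 16 16 5 5 77 24 6 75 1 72 74 0 16) (@D3.rec (fun _ => Nat) 73 1 76 74 75 1 17 17 17 17 17 6 4 1 2 0 17 1 2 2 2 2 3 3 3 0 24 1 2 2 25 25) (@D3.rec (fun _ => Nat) 25 25 25 25 17 2 3 1 66 2 2 2 66 3 3 25 25 25 25 25 0 3 2 0 3 1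 2 2 2 2 3 3) (@D3.rec (fun _ => Nat) 3 27 3 3 3 4 4 4 66 66 66 66 66 14 14 14 14 14 0 66 76 66 66 66 66 14 14 0 14 0 1 70) (@D3.rec (fun _ => Nat) 3 69 3 3 3 4 4 4 25 25 25 4 4 4 25 5 5 0 15 15 0 15 0 1 15 0 1 0 1 2 27 29)
def lv_c_7 : D2 → D3 → Nat := @D2.rec (fun _ => D3 → Nat) (@D3.rec (fun _ => Nat) 72 31 1 2 2 6 11 6 11 11 11 11 11 73 74 1 2 11 11 11 11 11 11 11 73 8 2 3 1 69 2 79) (@D3.rec (fun _ => Nat) 2 3 9 9 3 1 74 2 71 33 0 33 71 35 1 2 2 2 2 3 3 3 24 24 0 24 7 0 7 1 2 2) (@D3.rec (fun _ => Nat) 72 12 12 12 12 12 12 12 0 8 1 2 35 2 3 24 0 24 1 2 2 0 8 1 70 2 11 2 2 3 3 3) (@D3.rec (fun _ => Nat) 72 12 73 12 12 12 12 0 1 68 2 9 2 3 9 9 3 69 69 10 10 3 10 10 2 2 3 4 0 3 71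 0) (@D3.rec (fun _ => Nat) 31 1 2 2 1 2 2 2 2 3 3 3 13 3 3 3 4 4 4 13 13 0 13 1 2 2 73 8 1 2 2 7) (@D3.rec (fun _ => Nat) 2 2 3 3 3 25 25 25 25 25 25 25 25 0 70 2 68 31 13 67 13 1 65 2 12 2 2 3 3 3 65 69) (@D3.rec (fun _ => Nat) 12 2 2 67 3 3 12 12 12 3 3 3 4 4 4 25 25 25 25 25 0 25 74 1 10 10 10 11 3 4 0 3) (@D3.rec (fun _ => Nat) 4 5 0 5 1 2 2 1 2 7 2 2 4 3 14 14 1 69 2 8 2 2 3 8 8 8 70 14 2 69 24 24) (@D3.rec (fun _ => Nat) 3 30 30 1 2 2 6 11 0 73 1 2 72 74 1 2 8 2 3 70 70 9 9 3 1 2 34 0 34 36 1 2) (@D3.rec (fun _ => Nat) 2 2 2 3 3 3 66 24 0 7 1 68 2 68 70 79 1 2 36 2 3 66 1 2 64 2 68 3 76 79 2 3) (@D3.rec (fun _ => Nat) 9 9 3 10 10 2 2 3 4 0 3 66 0 67 1 2 2 1 2 2 2 2 3 3 3 14 3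 3 3 4 4 4) (@D3.rec (fun _ => Nat) 24 0 24 1 2 2 65 8 1 2 2 7 2 2 3 3 3 25 25 25 25 25 25 25 0 67 2 3 66 18 3 30) (@D3.rec (fun _ => Nat) 24 1 2 12 2 2 27 3 3 29 65 2 2 25 3 3 12 12 12 3 3 3 27 4 4 25 25 25 25 75 25 70) (@D3.rec (fun _ => Nat) 1 3 10 10 12 11 2 2 0 3 0 30 1 2 2 1 2 2 2 3 3 3 26 3 3 3 4 4 4 1 2 74) (@D3.rec (fun _ => Nat) 7 2 2 3 3 3 25 25 25 0 30 2 3 70 3 3 3 4 4 25 75 1 3 4 0 3 4 5 0 5 1 2) (@D3.rec (fun _ => Nat) 2 1 2 2 7 2 2 3 3 3 2 2 3 3 3 4 3 3 3 4 4 4 14 14 14 4 4 4 13 5 5 0) (@D3.rec (fun _ => Nat) 71 69 67 67 8 2 2 3 3 3 67 67 67 8 8 8 3 3 3 4 4 4 15 15 15 15 15 0 15 74 1 68) (@D3.rec (fun _ => Nat) 67 67 13 25 13 3 3 3 30 4 4 67 67 67 13 13 27 13 13 4 4 4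 5 5 0 15 15 15 71 1 4 0) (@D3.rec (fun _ => Nat) 3 5 1 78 2 2 77 71 5 1 2 2 8 2 8 9 9 24 8 8 8 4 3 3 3 4 4 4 70 3 3 3) (@D3.rec (fun _ => Nat) 4 4 4 5 5 5 4 4 4 25 5 5 0 25 25 25 25 25 25 5 5 77 25 6 75 1 9 9 9 9 9 4) (@D3.rec (fun _ => Nat) 4 4 5 5 0 16 16 0 16 73 1 75 25 25 25 25 25 25 5 5 0 6 73 1 16 75 1 2 24 3 3 3) (@D3.rec (fun _ => Nat) 77 74 4 0 3 1 2 2 3 2 3 4 3 3 3 4 4 4 24 24 24 4 4 4 76 5 5 74 76 74 25 25)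
def lv_c_8 : D2 → D3 → Nat := @D2.rec (fun _ => D3 → Nat) (@D3.rec (fun _ => Nat) 25 25 75 1 74 25 69 3 73 3 24 24 24 4 4 4 13 5 5 75 25 78 1 76 5 1 2 2 2 2 3 3) (@D3.rec (fun _ => Nat) 4 3 4 78 3 4 5 5 79 4 4 4 75 5 5 0 24 24 24 24 24 24 5 5 77 75 6 0 1 24 24 16) (@D3.rec (fun _ => Nat) 71 1 79 24 71 5 1 73 2 2 74 76 6 24 24 24 24 24 78 24 24 24 4 4 4 25 5 5 0 24 24 24) (@D3.rec (fun _ => Nat) 24 24 24 5 5 0 25 6 74 1 17 17 17 17 17 6 77 73 74 1 10 18 18 2 0 3 1 2 2 2 2 3) (@D3.rec (fun _ => Nat) 3 3 27 3 3 3 4 4 4 1 68 2 7 2 2 66 3 3 26 26 26 26 26 0 18 3 2 68 3 3 3 66) (@D3.rec (fun _ => Nat) 4 26 26 0 26 75 1 30 0 3 1 2 2 2 2 3 3 3 4 3 3 3 4 4 4 27 27 27 4 4 4 30) (@D3.rec (fun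 _ => Nat) 5 5 0 68 80 68 68 68 68 15 15 0 15 0 1 73 76 68 68 0 15 0 1 76 1 77 80 72 72 71 71 71) (@D3.rec (fun _ => Nat) 4 4 4 26 5 5 0 26 26 26 26 26 26 5 5 0 26 6 0 1 16 0 1 0 1 2 8 75 1 78 28 1) (@D3.rec (fun _ => Nat) 2 28 2 28 31 79 72 2 2 3 79 81 12 12 12 12 12 12 12 73 37 2 3 12 12 12 12 12 82 73 9 9) (@D3.rec (fun _ => Nat) 3 2 69 81 79 69 3 10 10 31 2 72 74 0 3 69 0 35 1 2 2 70 70 2 2 3 3 3 14 3 3 3) (@D3.rec (fun _ => Nat) 4 4 82 25 0 25 1 2 2 0 8 1 72 2 7 2 2 3 3 3 74 13 76 13 13 13 13 77 1 79 2 37) (@D3.rec (fun _ => Nat) 2 3 37 37 3 30 25 1 26 2 12 2 2 28 3 3 1 29 2 12 2 72 3 12 12 12 3 3 3 26 4 4) (@D3.rec (fun _ => Nat) 74 73 76 0 79 74 1 2 76 73 10 10 3 10 10 31 69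 11 75 11 3 4 0 3 4 5 0 5 1 2 2 0) (@D3.rec (fun _ => Nat) 71 1 2 2 7 2 2 3 3 3 2 2 3 3 3 4 3 3 3 4 4 4 14 14 14 4 4 4 31 5 5 81) (@D3.rec (fun _ => Nat) 14 69 14 1 67 2 8 2 2 3 3 3 67 67 8 2 2 69 3 3 8 8 8 3 3 3 4 4 4 26 26 26) (@D3.rec (fun _ => Nat) 26 26 0 26 74 1 70 72 70 14 67 2 67 3 13 13 3 3 3 28 4 4 67 67 13 13 3 3 24 67 4 13) (@D3.rec (fun _ => Nat) 13 30 13 13 4 4 4 5 5 0 26 26 0 26 0 1 11 4 5 0 5 1 2 2 77 6 1 2 2 8 2 2) (@D3.rec (fun _ => Nat) 3 8 2 8 8 4 15 9 2 71 9 9 9 3 25 32 2 2 78 1 2 36 2 3 78 2 74 9 9 3 79 10) (@D3.rec (fun _ => Nat) 77 24 2 0 3 0 34 1 2 2 2 2 3 28 3 3 3 4 78 68 1 2 7 2 70 3 78 79 36 2 3 36) (@D3.rec (fun _ => Nat) 36 3 68 2 3 66 66 3 68 3 10 10 12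 11 3 4 0 3 5 0 5 1 2 2 0 69 1 2 2 7 2 2) (@D3.rec (fun _ => Nat) 3 3 3 2 2 3 3 4 3 3 3 4 4 4 15 73 77 4 4 4 76 5 5 80 30 25 1 2 8 2 2 27) (@D3.rec (fun _ => Nat) 3 3 31 67 8 2 2 27 3 3 8 8 8 3 3 3 29 4 4 26 26 26 26 79 26 70 1 67 3 68 19 13)
def lv_c_9 : D2 → D3 → Nat := @D2.rec (fun _ => D3 → Nat) (@D3.rec (fun _ => Nat) 30 2 3 13 13 3 3 27 4 29 67 3 3 27 4 13 13 13 13 4 4 13 29 5 77 26 26 70 13 11 69 13) (@D3.rec (fun _ => Nat) 0 3 1 2 1 2 7 2 2 3 3 3 2 4 3 3 3 4 28 28 28 4 4 4 13 5 5 80 8 2 3 68) (@D3.rec (fun _ => Nat) 8 8 3 3 3 4 4 26 77 1 3 4 4 5 4 5 0 5 1 2 2 78 6 1 2 2 8 2 2 3 3 3) (@D3.rec (fun _ => Nat) 2 2 3 3 3 8 8 8 4 3 3 3 4 4 4 6 3 3 3 4 4 4 5 5 5 4 4 4 14 5 5 0) (@D3.rec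 (fun _ => Nat) 15 15 15 15 72 76 5 5 78 77 6 0 1 67 67 9 9 9 3 3 3 27 4 4 67 67 67 9 9 9 9 9) (@D3.rec (fun _ => Nat) 4 4 4 5 5 0 16 16 16 73 1 80 25 14 25 14 4 4 27 5 67 67 29 14 14 28 14 5 5 0 6 74) (@D3.rec (fun _ => Nat) 1 16 68 5 1 75 2 2 76 71 71 14 2 2 3 3 3 9 9 10 9 9 15 9 9 9 5 5 5 4 4 4) (@D3.rec (fun _ => Nat) 26 5 5 0 70 70 70 4 4 4 26 5 5 0 6 6 6 6 6 6 5 5 0 26 6 75 1 26 26 26 26 26) (@D3.rec (fun _ => Nat) 79 6 75 10 10 10 10 10 10 5 5 0 6 75 1 17 74 1 10 26 26 26 26 26 0 6 73 1 25 76 1 2) (@D3.rec (fun _ => Nat) 83 2 3 4 3 4 78 3 4 5 5 77 4 4 4 77 5 5 25 25 25 25 5 5 6 77 75 26 72 72 73 75) (@D3.rec (fun _ => Nat) 25 25 25 25 5 5 6 78 78 78 2 2 3 3 3 17 3 3 4 4 5 5 4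 73 78 4 6 6 6 72 6 79) (@D3.rec (fun _ => Nat) 5 5 0 77 6 0 1 25 25 25 25 6 79 1 25 10 78 73 2 74 3 25 25 25 25 25 25 25 25 25 25 25) (@D3.rec (fun _ => Nat) 5 5 0 26 6 0 1 25 25 25 25 25 74 6 76 1 75 10 18 18 76 11 0 3 1 2 2 7 2 2 3 3) (@D3.rec (fun _ => Nat) 3 4 3 3 3 4 4 4 29 73 75 4 4 4 82 5 5 80 8 2 70 3 8 8 3 3 68 4 27 27 0 27) (@D3.rec (fun _ => Nat) 75 1 19 32 3 68 4 32 68 0 27 72 1 32 1 2 2 2 2 3 3 3 4 3 3 3 4 4 4 5 5 5) (@D3.rec (fun _ => Nat) 4 4 4 32 5 5 0 29 29 29 29 74 78 5 5 80 83 6 0 1 71 80 68 68 0 16 0 1 78 1 76 79) (@D3.rec (fun _ => Nat) 72 74 68 0 1 77 1 79 14 80 76 72 70 65 71 71 71 71 70 5 5 0 27 6 0 1 27 27 27 27 27 78) (@D3.rec (fun _ => Nat) 6 0 1 80 80 1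 78 8 77 1 80 10 1 83 84 2 81 29 2 29 72 72 74 3 4 84 13 13 13 13 13 75) (@D3.rec (fun _ => Nat) 37 37 3 10 10 71 75 11 0 3 74 0 76 1 2 2 0 71 1 2 2 7 2 2 3 3 3 73 73 4 3 3) (@D3.rec (fun _ => Nat) 3 4 4 4 15 4 4 5 80 30 26 1 26 2 8 2 2 28 3 3 1 31 2 8 2 72 3 8 8 8 3 3) (@D3.rec (fun _ => Nat) 3 28 4 4 74 76 76 0 78 81 69 2 76 75 70 37 3 37 31 31 30 2 26 3 13 13 3 3 28 4 2 31) (@D3.rec (fun _ => Nat) 3 13 13 3 73 13 13 13 13 4 4 31 28 5 0 72 76 1 76 11 70 11 78 31 77 4 5 0 5 1 2 2)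
def lv_c_10 : D2 → D3 → Nat := @D2.rec (fun _ => D3 → Nat) (@D3.rec (fun _ => Nat) 73 0 6 1 2 2 8 2 2 3 3 3 1 2 2 8 2 2 3 3 3 8 8 8 4 3 3 3 4 4 4 6) (@D3.rec (fun _ => Nat) 3 3 3 4 4 4 5 5 5 4 4 4 31 5 5 0 15 15 15 15 5 5 6 83 15 69 9 2 67 3 9 9) (@D3.rec (fun _ => Nat) 9 3 3 3 28 4 4 67 75 9 9 9 3 3 26 69 4 9 9 9 9 9 4 4 4 5 5 0 27 27 0 27) (@D3.rec (fun _ => Nat) 0 1 70 69 3 67 14 14 4 4 26 5 0 67 14 14 4 26 69 0 28 14 14 28 14 5 5 0 6 0 1 0) (@D3.rec (fun _ => Nat) 1 1 14 69 6 1 2 2 14 2 2 73 3 3 82 9 2 2 76 9 9 9 24 3 25 10 10 10 2 76 38 38) (@D3.rec (fun _ => Nat) 3 10 77 0 3 1 2 1 2 7 2 2 3 3 4 3 28 4 76 68 8 2 3 8 8 3 70 38 3 38 32 13) (@D3.rec (fun _ => Nat) 3 66 66 13 13 11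 77 13 5 0 5 1 2 2 0 6 1 2 8 2 2 3 3 3 1 2 2 8 2 2 3 3) (@D3.rec (fun _ => Nat) 3 8 8 8 4 3 3 3 4 4 4 6 3 3 4 4 5 5 5 4 4 4 77 5 5 0 16 16 73 75 5 5) (@D3.rec (fun _ => Nat) 6 79 32 9 2 3 9 9 9 3 3 29 4 31 67 9 9 3 3 27 4 9 9 9 9 9 4 4 14 29 5 81) (@D3.rec (fun _ => Nat) 27 27 74 69 14 68 0 14 32 3 14 14 4 68 29 31 4 14 27 14 14 14 74 5 73 77 29 71 73 72 1 2) (@D3.rec (fun _ => Nat) 2 8 2 3 2 3 8 8 4 3 3 3 4 4 5 5 5 4 14 28 28 28 28 5 5 6 79 9 3 9 9 9) (@D3.rec (fun _ => Nat) 4 4 5 5 72 72 6 1 2 2 14 2 2 3 3 3 2 2 3 3 9 9 9 17 3 3 3 4 4 4 6 3) (@D3.rec (fun _ => Nat) 3 3 4 4 4 9 9 15 9 9 9 5 5 5 4 4 4 15 5 5 0 7 7 7 4 4 4 78 5 5 6 6) (@D3.rec (fun _ => Nat) 6 6 6 6 5 5 0 15 6 0 1 16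 16 74 81 6 77 1 10 10 10 10 10 4 4 29 5 69 69 10 10 10) (@D3.rec (fun _ => Nat) 10 10 10 5 5 0 6 77 1 17 10 27 15 27 5 77 27 69 27 15 28 0 6 75 1 71 70 2 76 3 73 71) (@D3.rec (fun _ => Nat) 15 15 15 3 3 3 4 4 4 10 16 10 10 10 16 16 16 10 10 10 82 6 6 6 6 6 6 5 5 0 27 6) (@D3.rec (fun _ => Nat) 75 1 73 72 72 72 72 71 5 5 0 27 6 0 1 7 7 7 7 7 0 6 75 1 77 10 27 27 27 77 83 11) (@D3.rec (fun _ => Nat) 11 11 11 11 0 6 73 1 11 11 27 27 78 27 78 1 26 75 2 78 79 85 18 3 4 5 5 4 76 78 4 6) (@D3.rec (fun _ => Nat) 6 6 77 6 79 5 5 72 77 6 26 26 6 71 71 73 75 6 78 83 18 3 3 3 75 4 4 18 18 18 4 4) (@D3.rec (fun _ => Nat) 5 6 6 6 6 36 30 34 80 77 74 7 77 79 0 6 0 1 2 1 10 74 73 73 73 3 76 26 26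 26 0 26) (@D3.rec (fun _ => Nat) 26 26 26 26 82 6 0 1 77 1 11 26 26 74 78 17 1 2 2 8 2 2 3 3 8 8 4 3 3 3 4 4) (@D3.rec (fun _ => Nat) 5 5 5 4 4 4 83 5 5 0 29 72 75 80 5 5 6 85 9 3 70 9 9 4 32 68 0 28 74 1 0 32)
def lv_c_11 : D2 → D3 → Nat := @D2.rec (fun _ => D3 → Nat) (@D3.rec (fun _ => Nat) 32 0 0 32 76 1 14 2 2 3 3 3 27 3 3 3 4 4 5 5 5 4 4 4 32 5 5 0 6 6 6 6) (@D3.rec (fun _ => Nat) 6 6 5 5 0 32 6 0 1 29 29 72 76 6 82 0 1 2 72 74 70 0 1 77 1 81 10 81 72 77 1 78) (@D3.rec (fun _ => Nat) 83 79 83 76 72 74 73 73 72 74 0 6 0 1 2 82 1 78 10 28 28 28 76 78 1 83 11 11 74 74 4 78) (@D3.rec (fun _ => Nat) 39 33 11 1 2 2 0 74 1 2 2 8 2 2 3 3 3 1 2 2 8 2 2 3 3 8 8 8 4 3 3 3) (@D3.rec (fun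 _ => Nat) 4 4 4 72 5 5 5 4 4 4 5 84 0 16 16 5 84 30 9 2 28 3 9 9 9 3 3 30 4 9 2 31) (@D3.rec (fun _ => Nat) 3 9 9 3 76 9 9 9 9 9 4 4 33 28 5 0 74 78 1 76 71 70 33 71 33 0 33 30 3 28 14 14) (@D3.rec (fun _ => Nat) 4 33 30 0 3 31 14 14 73 74 14 14 14 79 5 33 28 78 1 77 14 80 0 6 1 2 14 2 2 3 3 3) (@D3.rec (fun _ => Nat) 73 1 2 9 2 2 3 3 9 9 9 25 3 3 3 4 4 4 2 2 3 3 9 9 9 6 3 3 3 4 4 4) (@D3.rec (fun _ => Nat) 9 9 26 9 9 9 5 5 5 4 4 4 33 5 5 0 7 7 4 4 4 5 5 0 6 6 6 6 6 6 5 5) (@D3.rec (fun _ => Nat) 0 33 6 0 1 16 16 6 71 10 3 69 10 10 10 10 4 4 29 5 0 69 10 10 10 4 26 71 0 10 10 10) (@D3.rec (fun _ => Nat) 10 10 10 5 5 0 6 0 1 0 1 1 10 0 15 5 78 26 0 1 69 15 0 26 0 1 28 15 28 70 6 77)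 (@D3.rec (fun _ => Nat) 1 1 15 1 79 15 69 15 2 2 3 78 3 15 15 15 3 3 83 75 4 10 10 71 10 38 32 1 2 2 3 8) (@D3.rec (fun _ => Nat) 2 3 8 8 4 3 3 4 5 30 9 3 9 9 14 34 14 32 0 14 14 68 72 80 0 6 1 2 2 25 2 2) (@D3.rec (fun _ => Nat) 3 3 3 1 2 9 2 3 9 9 9 18 3 3 3 4 4 2 2 3 3 9 9 6 3 3 3 4 4 9 9 26) (@D3.rec (fun _ => Nat) 9 9 9 5 5 5 4 4 4 15 5 5 0 7 7 7 4 4 5 6 6 6 6 6 6 5 5 0 79 6 0 1) (@D3.rec (fun _ => Nat) 75 77 6 32 10 3 10 10 10 4 70 29 31 10 10 4 15 29 10 10 10 10 0 5 75 79 31 73 0 79 0 1) (@D3.rec (fun _ => Nat) 2 73 15 69 77 76 77 15 76 82 73 73 2 2 3 3 9 3 3 26 9 9 9 5 5 5 4 4 15 5 6 6) (@D3.rec (fun _ => Nat) 6 6 6 15 31 33 30 33 30 6 10 10 10 5 76 77 71 2 2 3 3 15 15 15 18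 3 3 3 4 4 4 78) (@D3.rec (fun _ => Nat) 3 3 10 10 25 10 10 10 18 18 18 4 4 4 16 5 5 7 7 7 4 4 4 16 5 5 16 10 10 10 16 16) (@D3.rec (fun _ => Nat) 16 10 10 10 76 6 6 6 6 6 6 5 5 0 16 6 0 1 8 8 8 8 8 8 5 5 77 84 6 7 7 7) (@D3.rec (fun _ => Nat) 7 7 0 6 0 1 2 1 10 76 80 72 11 11 11 11 5 77 29 69 11 11 11 11 0 6 75 1 11 27 0 77) (@D3.rec (fun _ => Nat) 27 76 77 1 73 73 70 3 76 71 16 16 16 16 16 4 4 4 5 5 0 17 17 17 11 11 11 17 17 17 17 17)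
def lv_c_12 : D2 → D3 → Nat := @D2.rec (fun _ => D3 → Nat) (@D3.rec (fun _ => Nat) 17 11 11 0 86 7 7 7 7 7 0 6 82 1 2 28 11 66 72 72 73 73 0 6 0 1 84 1 11 8 8 8) (@D3.rec (fun _ => Nat) 77 77 1 81 72 17 78 12 12 0 12 0 1 77 6 28 80 19 76 83 19 19 4 6 6 6 6 73 73 73 80 7) (@D3.rec (fun _ => Nat) 79 77 6 80 79 74 75 84 19 19 19 4 4 79 5 0 19 19 19 19 19 19 5 7 32 74 0 1 70 1 17 2) (@D3.rec (fun _ => Nat) 73 73 83 0 0 1 27 27 27 82 84 74 1 81 76 26 2 2 3 3 3 9 28 3 3 4 27 9 9 5 5 5) (@D3.rec (fun _ => Nat) 4 4 34 5 0 6 70 6 6 6 6 5 5 0 83 6 0 1 82 82 6 10 34 0 10 0 0 34 78 1 10 1) (@D3.rec (fun _ => Nat) 2 78 34 1 1 81 82 28 3 3 3 4 4 4 28 28 28 4 4 34 5 0 6 6 6 6 6 6 5 5 0 34) (@D3.rec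 (fun _ => Nat) 6 0 1 7 7 7 7 7 0 6 0 1 2 0 1 2 10 74 82 83 85 1 2 74 79 1 80 11 11 11 83 78) (@D3.rec (fun _ => Nat) 82 0 74 72 73 0 0 1 2 82 1 81 17 2 11 11 79 79 26 2 2 3 3 3 1 2 9 2 2 3 3 9) (@D3.rec (fun _ => Nat) 9 9 26 3 3 3 4 4 9 2 2 3 3 9 9 3 3 4 9 9 77 9 9 9 5 5 5 4 4 4 33 5) (@D3.rec (fun _ => Nat) 5 0 0 6 6 6 6 6 6 5 0 0 1 32 10 3 28 10 10 10 4 33 30 0 10 3 33 10 10 73 76 10) (@D3.rec (fun _ => Nat) 10 10 10 0 5 33 30 78 1 78 10 0 0 1 2 70 75 15 78 33 74 1 76 15 73 15 77 15 15 1 2 15) (@D3.rec (fun _ => Nat) 2 3 15 15 15 26 3 3 3 4 4 4 2 3 10 26 3 3 4 10 71 10 10 10 26 26 26 4 4 4 33 5) (@D3.rec (fun _ => Nat) 5 0 27 3 3 4 10 27 10 10 7 7 4 4 4 73 5 5 0 27 10 10 10 27 27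 27 10 10 10 74 6 6) (@D3.rec (fun _ => Nat) 6 6 6 6 5 5 0 33 6 0 1 8 8 8 5 5 0 0 1 7 7 7 7 7 0 6 0 1 2 1 10 11) (@D3.rec (fun _ => Nat) 0 11 11 11 5 78 29 0 1 69 11 11 0 28 0 1 11 11 11 11 0 6 0 1 1 11 1 79 11 11 11 1) (@D3.rec (fun _ => Nat) 1 73 1 1 80 28 73 80 79 16 71 73 16 3 3 79 78 16 16 16 16 4 83 78 0 2 3 3 9 3 9 9) (@D3.rec (fun _ => Nat) 5 4 15 6 10 15 10 0 0 0 1 2 79 1 2 26 2 2 3 3 26 26 26 19 3 3 3 4 4 2 3 10) (@D3.rec (fun _ => Nat) 3 10 78 10 10 19 19 78 4 4 16 5 27 3 3 4 27 10 10 7 7 7 4 4 16 5 27 10 10 27 27 27) (@D3.rec (fun _ => Nat) 10 10 0 6 6 6 6 6 6 5 5 0 16 6 0 1 69 31 72 8 8 8 5 7 7 7 7 7 0 6 0 1) (@D3.rec (fun _ => Nat) 2 1 11 73 11 11 0 75 11 0 78 77 11 0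 11 0 1 2 73 1 2 1 2 74 80 72 3 3 4 10 16 16) (@D3.rec (fun _ => Nat) 27 27 27 10 10 75 6 6 6 6 6 5 76 16 35 7 7 7 7 35 11 0 77 73 73 3 3 4 16 16 26 16) (@D3.rec (fun _ => Nat) 16 16 19 19 19 4 4 4 17 5 5 0 81 78 76 26 11 11 26 26 26 11 11 74 19 19 19 19 19 19 5 5)
def lv_c_13 : D2 → D3 → Nat := @D2.rec (fun _ => D3 → Nat) (@D3.rec (fun _ => Nat) 78 17 6 8 8 8 8 8 8 5 5 77 17 6 17 17 17 11 11 72 17 17 17 17 17 17 11 11 0 74 7 7) (@D3.rec (fun _ => Nat) 7 7 7 0 6 0 1 2 17 1 11 9 9 9 9 9 79 6 77 79 8 8 8 0 0 1 2 72 1 17 2 0) (@D3.rec (fun _ => Nat) 12 12 0 79 12 0 12 0 1 77 6 80 1 83 75 73 81 0 72 17 17 73 17 17 5 5 0 6 0 1 18 33) (@D3.rec (fun _ => Nat) 18 18 18 18 12 12 0 18 18 18 18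 18 0 12 0 1 2 83 8 8 8 82 81 1 2 85 6 2 80 73 73 74) (@D3.rec (fun _ => Nat) 0 79 1 81 74 1 83 77 77 74 18 13 0 1 1 79 6 82 0 20 31 20 20 7 77 76 0 0 20 20 20 20) (@D3.rec (fun _ => Nat) 20 5 0 0 1 20 20 20 20 20 1 84 1 1 81 18 82 27 27 29 3 3 3 4 4 10 29 29 4 34 0 28) (@D3.rec (fun _ => Nat) 28 10 0 6 6 6 6 6 5 0 34 0 1 7 72 7 7 7 0 6 0 1 2 1 10 0 34 1 0 1 2 1) (@D3.rec (fun _ => Nat) 81 84 11 11 2 29 29 29 4 4 4 34 5 5 0 29 29 29 29 29 5 0 34 0 1 7 7 7 7 7 0 6) (@D3.rec (fun _ => Nat) 0 1 2 34 0 1 2 11 8 8 8 0 0 1 2 0 1 2 17 2 1 11 2 11 0 9 12 12 80 0 1 79) (@D3.rec (fun _ => Nat) 82 0 1 78 1 2 18 2 18 18 18 27 27 27 27 3 3 3 4 4 2 3 10 27 3 3 4 10 30 10 10 27) (@D3.rec (fun _ =>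 Nat) 27 27 4 4 35 5 0 10 3 3 4 10 10 4 75 0 36 10 10 32 72 71 10 10 0 6 6 6 6 6 6 5) (@D3.rec (fun _ => Nat) 5 0 35 6 0 1 1 7 7 7 7 0 1 1 10 11 75 78 11 11 0 35 71 1 11 78 11 0 11 0 11 1) (@D3.rec (fun _ => Nat) 2 80 11 11 1 1 2 76 16 2 3 16 3 16 16 71 16 16 27 27 4 4 4 35 5 5 0 3 11 27 4 75) (@D3.rec (fun _ => Nat) 0 11 32 70 71 11 11 76 27 27 27 27 27 27 5 5 0 35 6 0 1 28 4 77 0 11 28 11 78 8 8 8) (@D3.rec (fun _ => Nat) 5 5 0 77 6 0 1 28 28 28 11 11 76 28 28 28 28 28 28 11 11 0 78 7 7 7 7 7 0 6 0 1) (@D3.rec (fun _ => Nat) 2 35 1 11 9 9 0 0 1 1 2 11 8 8 8 0 0 1 2 81 1 28 2 11 11 1 12 0 1 12 0 1) (@D3.rec (fun _ => Nat) 1 82 12 12 0 12 0 1 82 1 83 6 12 12 12 17 78 85 17 17 17 80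 82 1 3 16 10 16 10 0 6 75) (@D3.rec (fun _ => Nat) 16 0 0 1 1 1 2 2 3 27 3 3 4 27 27 27 27 27 73 78 4 4 17 5 0 3 11 75 11 78 11 0) (@D3.rec (fun _ => Nat) 20 20 78 20 78 5 77 17 28 4 77 0 28 11 0 8 8 8 5 78 17 28 28 11 0 28 28 28 28 28 11 0) (@D3.rec (fun _ => Nat) 1 2 7 7 7 7 7 0 6 0 1 2 17 1 71 31 72 9 9 8 8 8 0 0 1 2 72 1 2 0 0 1) (@D3.rec (fun _ => Nat) 0 1 2 0 1 0 1 2 2 28 72 4 17 0 77 17 17 28 28 28 11 0 79 7 7 7 7 76 76 76 17 8) (@D3.rec (fun _ => Nat) 8 0 1 73 4 76 0 27 17 17 27 27 27 17 17 76 20 20 20 20 20 5 5 0 18 6 0 1 77 76 27 27)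
def lv_c_14 : D2 → D3 → Nat := @D2.rec (fun _ => D3 → Nat) (@D3.rec (fun _ => Nat) 12 74 27 27 27 27 27 12 0 76 20 20 20 20 20 79 6 79 79 18 9 9 9 9 9 83 6 79 82 18 18 18) (@D3.rec (fun _ => Nat) 18 18 18 12 0 76 18 18 18 18 18 0 12 0 1 2 76 8 8 8 0 0 1 2 77 1 2 6 2 3 18 10) (@D3.rec (fun _ => Nat) 10 10 79 79 79 72 81 0 72 1 1 83 18 2 1 0 0 1 79 0 1 1 81 6 75 75 1 74 18 74 0 6) (@D3.rec (fun _ => Nat) 1 80 1 81 18 19 33 19 19 19 0 13 0 1 19 19 19 0 0 1 2 74 1 6 2 3 78 74 83 7 2 7) (@D3.rec (fun _ => Nat) 84 76 83 1 84 77 1 78 0 1 21 1 1 21 21 21 21 0 0 1 1 2 18 21 21 21 19 19 19 28 28 30) (@D3.rec (fun _ => Nat) 4 4 36 5 0 0 30 30 0 36 1 29 29 0 1 2 7 7 7 7 0 0 1 2 36 1 11 8 72 8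 0 0) (@D3.rec (fun _ => Nat) 1 2 77 1 29 2 11 1 2 12 1 2 2 84 6 29 30 30 30 5 5 0 36 6 0 1 30 30 30 30 0 0) (@D3.rec (fun _ => Nat) 1 2 36 1 8 8 8 0 0 1 2 0 1 2 80 2 3 36 1 12 2 12 0 0 0 1 2 1 2 18 2 1) (@D3.rec (fun _ => Nat) 18 2 18 18 8 1 9 83 1 82 18 1 85 19 19 2 19 19 19 28 28 28 28 4 4 35 5 0 3 11 28 4) (@D3.rec (fun _ => Nat) 73 0 11 32 11 0 28 28 28 5 0 35 0 1 11 4 73 0 11 0 0 73 1 73 11 0 73 73 11 83 1 2) (@D3.rec (fun _ => Nat) 7 7 7 7 0 6 0 1 2 35 1 11 8 8 0 1 75 11 0 0 1 2 12 1 1 2 12 80 3 17 75 17) (@D3.rec (fun _ => Nat) 17 73 17 76 28 28 5 5 0 35 6 0 1 75 76 28 0 75 1 74 34 70 73 12 0 76 28 28 28 28 28 0) (@D3.rec (fun _ => Nat) 6 0 1 2 35 1 12 29 0 75 1 74 29 0 76 9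 9 0 6 0 1 2 77 1 2 12 29 29 29 12 0 74) (@D3.rec (fun _ => Nat) 29 29 29 29 29 0 12 0 1 2 78 8 8 8 0 0 1 2 83 1 2 6 2 3 35 12 12 10 0 1 1 2) (@D3.rec (fun _ => Nat) 29 12 2 81 0 1 1 2 29 2 29 29 29 13 1 13 13 1 6 13 1 0 1 2 6 18 82 18 17 17 0 17) (@D3.rec (fun _ => Nat) 0 1 2 77 77 17 1 1 76 3 28 4 77 28 28 28 28 0 74 80 5 0 18 0 1 77 0 77 0 80 78 1) (@D3.rec (fun _ => Nat) 2 78 21 78 80 78 76 82 18 29 0 75 1 29 0 1 2 9 9 79 80 80 18 29 29 0 1 2 29 29 29 29) (@D3.rec (fun _ => Nat) 0 0 1 2 2 3 8 8 8 0 0 1 2 78 1 2 2 3 18 71 33 74 74 1 1 2 2 1 1 1 2 1) (@D3.rec (fun _ => Nat) 1 84 29 29 77 0 18 1 77 18 18 29 29 0 0 1 2 76 8 8 78 75 78 78 78 18 1 73 0 78 1 28) (@D3.rec (fun _ => Nat)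 18 74 28 28 28 80 0 76 21 21 21 21 0 6 0 1 2 19 0 1 2 18 78 28 28 0 74 28 28 28 28 0) (@D3.rec (fun _ => Nat) 0 1 2 76 21 21 21 78 80 83 78 78 83 19 10 10 10 77 79 84 77 77 82 19 19 19 19 19 0 0 1 2) (@D3.rec (fun _ => Nat) 72 19 19 19 0 0 1 2 73 1 2 6 2 3 78 0 75 83 1 2 1 2 7 2 3 80 2 3 7 3 4 0)
def lv_c_15 : D2 → D3 → Nat := @D2.rec (fun _ => D3 → Nat) (@D3.rec (fun _ => Nat) 74 78 79 81 1 20 1 1 81 1 82 19 1 6 19 19 20 37 20 0 0 1 76 1 29 0 76 1 1 2 7 2) (@D3.rec (fun _ => Nat) 7 3 8 1 2 28 19 22 22 0 0 1 1 2 28 19 2 19 0 20 29 0 31 5 0 36 0 1 1 2 31 0) (@D3.rec (fun _ => Nat) 1 2 36 12 30 0 1 2 2 3 8 8 0 0 1 2 1 2 6 2 3 36 82 77 0 1 1 2 30 2 30 30) (@D3.rec (fun _ => Nat) 2 6 2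 5 30 31 31 0 6 0 1 2 36 0 1 2 18 31 31 0 0 1 2 1 2 2 3 36 0 0 0 1) (@D3.rec (fun _ => Nat) 2 1 2 79 2 3 1 2 82 2 3 82 81 3 4 83 1 1 1 2 19 2 19 2 19 19 20 19 10 19 19 20) (@D3.rec (fun _ => Nat) 20 20 20 29 29 0 29 5 0 37 0 1 75 0 29 0 75 1 0 32 80 1 2 29 29 0 0 1 2 37 1 12) (@D3.rec (fun _ => Nat) 82 0 77 1 84 1 2 1 2 71 73 76 1 2 73 78 78 78 2 3 8 8 80 0 1 2 80 1 2 80 2 3) (@D3.rec (fun _ => Nat) 37 12 1 75 75 1 1 2 82 82 77 78 77 18 76 73 78 78 29 0 6 0 1 2 37 1 2 18 77 78 0 1) (@D3.rec (fun _ => Nat) 2 77 13 76 34 72 0 81 1 2 78 29 29 29 0 0 1 2 82 1 2 83 2 3 37 13 13 0 1 2 77 78) (@D3.rec (fun _ => Nat) 0 1 2 77 10 0 1 2 81 1 2 6 2 3 77 13 2 30 30 0 79 1 2 78 30 30 30 0 0 1 2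 0) (@D3.rec (fun _ => Nat) 1 2 6 2 3 78 79 83 0 1 2 1 2 7 2 3 79 86 2 3 77 7 3 4 1 2 30 30 2 30 1 30) (@D3.rec (fun _ => Nat) 30 2 30 30 84 30 6 1 2 19 18 18 1 2 18 1 2 2 3 77 77 18 78 77 0 83 77 29 0 29 0 1) (@D3.rec (fun _ => Nat) 2 80 80 0 1 2 19 1 2 29 77 1 2 77 1 2 84 83 2 3 85 80 80 81 81 77 81 19 0 1 2 76) (@D3.rec (fun _ => Nat) 0 1 2 2 3 80 80 80 80 80 19 30 0 1 2 2 3 30 30 0 0 1 2 1 2 2 3 84 3 4 78 77) (@D3.rec (fun _ => Nat) 77 1 2 1 2 2 3 77 2 3 3 4 80 2 21 85 84 30 30 79 1 2 19 79 19 19 0 0 1 2 1 2) (@D3.rec (fun _ => Nat) 2 3 78 78 75 78 75 78 78 76 1 2 78 19 29 83 76 29 29 0 81 1 2 78 22 22 0 0 1 2 0 1) (@D3.rec (fun _ => Nat) 2 6 2 3 20 1 19 2 19 76 29 0 1 2 76 29 29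 0 0 1 2 1 2 2 3 73 0 81 81 81 81 81) (@D3.rec (fun _ => Nat) 81 81 81 0 79 81 81 82 81 78 78 82 20 20 0 0 1 2 1 2 82 2 3 72 0 79 79 1 2 1 2 7) (@D3.rec (fun _ => Nat) 2 3 81 2 3 7 3 4 1 2 79 79 2 3 2 3 8 21 3 4 79 3 4 8 4 1 80 20 6 7 20 0) (@D3.rec (fun _ => Nat) 76 1 1 30 1 2 8 81 29 2 29 20 0 1 1 29 29 2 29 1 0 1 2 0 0 1 2 38 1 2 30 2) (@D3.rec (fun _ => Nat) 3 0 1 2 72 2 3 38 0 1 2 6 2 3 5 3 4 82 0 1 2 1 2 7 2 3 2 3 82 7 3 4) (@D3.rec (fun _ => Nat) 1 31 2 31 31 21 31 83 5 6 31 0 0 1 2 0 1 2 72 2 3 38 1 19 2 19 0 0 1 2 1 2)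
def lv_c_16 : D2 → D3 → Nat := @D2.rec (fun _ => D3 → Nat) (@D3.rec (fun _ => Nat) 2 3 2 3 3 4 1 2 1 2 1 2 81 2 3 82 2 3 79 82 21 3 4 2 3 78 78 3 4 83 82 4) (@D3.rec (fun _ => Nat) 76 20 2 81 20 20 82 20 86 20 21 0 0 1 2 0 0 1 2 37 1 2 30 75 1 2 0 1 2 75 1 2) (@D3.rec (fun _ => Nat) 79 79 2 3 0 0 1 2 1 2 75 2 3 37 79 1 2 77 77 2 3 2 3 73 77 79 2 3 78 76 78 76) (@D3.rec (fun _ => Nat) 81 3 4 78 85 82 1 2 74 2 3 78 2 3 74 74 3 4 77 81 84 77 78 77 82 76 80 80 78 0 1 2) (@D3.rec (fun _ => Nat) 80 1 2 76 2 3 37 2 19 77 78 1 2 75 2 3 74 76 75 0 1 2 75 2 3 78 0 81 0 1 2 1) (@D3.rec (fun _ => Nat) 2 85 2 3 80 75 2 3 78 85 3 4 1 2 2 3 79 77 1 2 6 2 3 77 78 1 2 7 2 3 82 73) (@D3.rec (fun _ =>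 Nat) 2 3 82 7 3 4 76 0 1 2 75 2 3 78 0 0 0 1 2 1 2 7 2 3 1 2 2 3 7 3 4 83) (@D3.rec (fun _ => Nat) 82 1 2 79 2 3 8 2 3 76 8 82 3 4 77 81 3 4 76 8 4 31 2 31 31 31 31 84 31 0 83 19) (@D3.rec (fun _ => Nat) 19 2 3 19 2 3 3 4 79 79 79 79 1 2 83 79 0 1 2 0 1 2 2 3 82 85 1 2 6 2 3 20) (@D3.rec (fun _ => Nat) 30 2 30 79 2 3 77 2 3 85 83 3 4 82 78 78 83 82 78 83 1 2 2 3 78 1 2 2 3 82 3 4) (@D3.rec (fun _ => Nat) 79 82 82 79 82 0 1 2 2 3 3 4 0 0 1 2 1 2 2 3 2 3 3 4 81 86 4 82 78 79 2 3) (@D3.rec (fun _ => Nat) 2 3 22 3 4 78 3 4 4 22 76 81 31 79 2 3 20 79 1 2 1 2 2 3 2 3 3 4 78 77 80 77) (@D3.rec (fun _ => Nat) 81 80 73 2 3 80 20 85 83 76 83 0 1 2 83 6 2 3 74 80 0 1 2 1 2 7 2 3 1 2 81 2) (@D3.rec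 (fun _ => Nat) 3 7 7 3 4 20 20 0 1 2 83 2 3 73 0 81 1 2 1 2 2 3 2 3 3 4 1 2 80 80 82 83) (@D3.rec (fun _ => Nat) 83 82 80 1 2 79 79 79 82 84 83 79 0 77 1 2 1 2 84 2 3 2 3 80 3 4 1 2 75 81 2 3) (@D3.rec (fun _ => Nat) 2 3 8 82 3 4 75 3 4 8 4 2 3 79 81 3 4 3 4 9 22 4 77 4 9 7 1 31 81 79 30 30) (@D3.rec (fun _ => Nat) 1 30 30 30 1 2 2 3 1 2 1 2 6 2 3 38 31 2 31 72 3 4 1 2 74 2 3 74 3 4 1 2) (@D3.rec (fun _ => Nat) 7 2 3 7 5 3 4 6 6 4 83 1 2 2 3 8 2 3 84 8 22 3 4 3 4 83 8 4 32 32 22 32) (@D3.rec (fun _ => Nat) 82 83 6 7 1 2 1 2 83 2 3 1 2 85 2 3 74 74 3 4 20 78 1 2 1 2 2 3 2 3 8 3) (@D3.rec (fun _ => Nat) 4 3 4 4 2 3 2 3 79 2 3 79 86 3 4 79 84 82 3 4 79 86 83 22 4 3 4 79 80 85 4 85) (@D3.rec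 (fun _ => Nat) 84 81 21 80 82 82 1 2 1 2 2 3 1 2 1 2 6 2 3 39 31 2 31 77 2 3 1 2 2 3 74 2) (@D3.rec (fun _ => Nat) 3 82 80 82 3 4 1 2 1 2 80 2 3 2 3 80 3 4 79 2 3 79 81 3 4 3 4 81 82 3 4 83)
def lv_c_17 : D2 → D3 → Nat := @D2.rec (fun _ => D3 → Nat) (@D3.rec (fun _ => Nat) 80 81 80 80 80 4 82 80 86 2 3 79 80 3 4 79 3 4 82 82 4 82 79 80 75 78 78 82 80 80 1 2) (@D3.rec (fun _ => Nat) 82 2 3 83 2 3 78 80 3 4 20 79 80 86 2 3 86 3 4 78 80 1 2 2 3 83 3 4 1 2 81 1) (@D3.rec (fun _ => Nat) 2 78 2 3 82 2 3 87 85 8 3 4 81 78 3 4 87 82 4 2 3 3 4 77 7 2 3 7 3 4 80 73) (@D3.rec (fun _ => Nat) 2 3 84 8 3 4 83 73 71 3 4 8 4 81 1 2 2 3 81 3 4 1 2 1 2 1 2 2 3 8 2 3) (@D3.rec (fun _ => Nat) 8 37 3 4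 2 3 81 3 4 8 4 81 81 86 2 3 88 3 4 79 9 82 3 4 79 0 9 80 4 81 78 4) (@D3.rec (fun _ => Nat) 79 9 73 32 0 84 0 1 83 20 3 4 3 4 4 81 79 2 3 79 82 1 2 2 3 1 2 6 2 3 5 3) (@D3.rec (fun _ => Nat) 4 83 82 81 2 3 7 7 3 4 31 31 21 79 3 4 3 4 82 83 4 80 83 83 81 83 79 2 3 3 4 2) (@D3.rec (fun _ => Nat) 3 3 4 86 87 4 82 82 82 82 1 2 2 3 3 4 4 1 2 1 2 2 3 2 3 23 3 4 3 4 4 81) (@D3.rec (fun _ => Nat) 83 86 80 81 79 3 4 23 3 4 23 4 81 4 81 81 3 4 2 3 2 3 38 3 4 3 4 4 83 77 80 76) (@D3.rec (fun _ => Nat) 73 73 3 4 83 78 77 83 1 2 7 2 3 82 7 7 3 4 80 1 2 81 2 3 8 2 3 8 8 3 4 2) (@D3.rec (fun _ => Nat) 3 81 81 21 3 4 8 8 4 1 2 83 2 3 84 3 4 1 2 83 2 3 2 3 9 3 4 3 4 4 2 3) (@D3.rec (fun _ => Nat) 84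 83 83 83 81 2 3 85 81 84 84 82 1 2 79 2 3 84 2 3 82 3 4 3 4 78 4 2 3 81 81 3) (@D3.rec (fun _ => Nat) 4 84 3 4 80 9 83 4 83 4 9 3 4 81 81 4 4 10 23 31 31 6 2 3 5 3 4 45 2 3 44 2) (@D3.rec (fun _ => Nat) 3 7 7 3 4 32 32 74 72 87 4 43 2 3 74 8 3 4 74 4 8 2 3 8 23 3 4 8 6 6 4 85) (@D3.rec (fun _ => Nat) 7 7 7 84 2 3 3 4 84 9 23 3 4 85 82 9 23 4 4 9 33 82 87 87 7 2 3 83 2 3 87 81) (@D3.rec (fun _ => Nat) 8 3 4 2 3 83 85 82 3 4 89 74 4 2 3 2 3 5 3 4 9 3 4 9 4 4 3 4 3 4 84 84) (@D3.rec (fun _ => Nat) 3 4 84 87 4 81 82 82 82 84 4 86 84 86 84 23 4 80 80 80 84 82 82 2 3 6 2 3 5 3 4 80) (@D3.rec (fun _ => Nat) 2 3 42 2 3 85 7 3 4 21 77 3 4 2 3 3 4 3 4 85 78 83 80 4 2 3 2 3 80 8 3 4) (@D3.rec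 (fun _ => Nat) 3 4 76 4 81 3 4 81 4 4 78 79 4 86 80 83 78 78 80 86 88 3 4 76 76 4 80 4 76 76 79 80) (@D3.rec (fun _ => Nat) 80 78 83 82 2 3 81 8 3 4 83 21 3 4 78 82 4 82 83 73 3 4 83 4 77 2 3 3 4 77 4 2) (@D3.rec (fun _ => Nat) 3 84 77 2 3 77 5 3 4 85 87 72 3 4 82 84 82 9 4 79 77 4 80 86 75 3 4 4 8 74 3 4) (@D3.rec (fun _ => Nat) 8 4 86 75 73 3 4 86 9 4 81 75 73 4 9 83 2 3 72 3 4 77 4 2 3 2 3 2 3 5 3 4)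
def lv_c_18 : D2 → D3 → Nat := @D2.rec (fun _ => D3 → Nat) (@D3.rec (fun _ => Nat) 9 39 3 4 0 9 39 4 3 4 81 81 4 9 80 79 84 3 4 81 4 78 0 10 77 84 4 0 78 1 2 10) (@D3.rec (fun _ => Nat) 83 81 78 0 1 86 1 85 4 4 81 71 3 4 82 2 3 5 3 4 2 3 7 7 5 3 4 6 4 83 85 83) (@D3.rec (fun _ => Nat) 81 22 3 4 8 8 4 90 4 4 85 82 80 80 85 73 3 4 4 71 3 4 4 84 84 84 81 84 2 3 70 3) (@D3.rec (fun _ => Nat) 4 4 2 3 2 3 5 3 4 24 3 4 24 4 4 87 83 79 81 81 4 24 4 24 4 41 3 4 38 3 4 38) (@D3.rec (fun _ => Nat) 4 4 81 79 88 75 4 78 77 83 8 2 3 8 8 9 3 4 87 8 8 4 82 80 2 3 83 93 3 4 9 9) (@D3.rec (fun _ => Nat) 3 4 9 9 4 3 4 83 22 4 9 9 85 2 3 84 77 3 4 85 4 2 3 84 5 3 4 10 3 4 10 4) (@D3.rec (fun _ => Nat)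 4 3 4 85 82 3 4 81 81 2 3 79 3 4 82 3 4 82 4 4 82 3 4 77 83 4 82 4 82 10 84 4) (@D3.rec (fun _ => Nat) 7 7 5 3 4 6 6 4 45 45 8 3 4 46 46 72 3 4 8 8 4 90 74 85 89 45 47 3 4 0 76 9) (@D3.rec (fun _ => Nat) 4 76 9 24 3 4 85 9 24 85 4 9 7 7 7 84 89 8 8 82 3 4 4 85 83 10 24 4 87 86 10 24) (@D3.rec (fun _ => Nat) 84 72 3 4 89 82 9 3 4 90 87 87 9 4 3 4 87 84 81 4 76 77 5 3 4 39 3 4 6 4 10 78) (@D3.rec (fun _ => Nat) 4 10 10 4 4 81 87 4 81 87 86 81 83 82 86 86 83 87 82 85 82 85 38 3 4 7 5 3 4 6 82 4) (@D3.rec (fun _ => Nat) 88 8 3 4 46 22 3 4 87 8 4 84 4 71 3 4 4 4 84 82 82 39 3 4 72 3 4 82 82 9 4 4) (@D3.rec (fun _ => Nat) 82 4 82 82 82 85 88 4 81 82 84 80 84 44 3 4 84 84 9 4 85 22 80 4 80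 82 85 87 73 4 80 82) (@D3.rec (fun _ => Nat) 3 4 4 5 3 4 83 80 81 3 4 0 80 6 4 85 86 84 74 78 4 87 79 86 82 10 10 80 79 75 4 77) (@D3.rec (fun _ => Nat) 9 76 4 9 85 75 73 4 86 10 75 73 83 40 3 4 74 4 5 3 4 82 3 4 81 3 4 6 86 4 0 10) (@D3.rec (fun _ => Nat) 39 4 1 2 10 39 39 4 83 79 83 80 4 80 0 81 1 2 81 11 78 79 1 2 81 2 3 1 89 73 4 5) (@D3.rec (fun _ => Nat) 3 4 6 4 46 3 4 8 78 8 6 4 7 7 85 83 85 82 23 4 9 9 82 85 73 4 75 4 81 88 45 3) (@D3.rec (fun _ => Nat) 4 74 4 5 3 4 38 3 4 6 4 25 25 4 25 25 83 25 41 4 40 4 40 40 75 76 79 80 9 9 10 3) (@D3.rec (fun _ => Nat) 4 9 85 9 10 4 9 9 82 85 3 4 84 85 4 10 10 4 10 10 4 84 23 10 86 79 3 4 86 86 79 4) (@D3.rec (fun _ => Nat) 86 5 3 4 85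 6 4 11 4 11 11 4 4 3 4 81 4 80 4 84 4 86 82 8 40 8 6 6 4 7 7 7) (@D3.rec (fun _ => Nat) 86 47 0 47 9 4 46 92 46 74 4 9 9 82 86 0 45 45 4 1 2 76 10 10 83 10 25 25 4 86 10 25) (@D3.rec (fun _ => Nat) 25 85 85 8 8 87 82 87 9 4 87 81 11 25 86 72 4 81 84 82 10 4 86 91 84 85 10 10 4 87 87 83)
def lv_c_19 : D2 → D3 → Nat := @D2.rec (fun _ => D3 → Nat) (@D3.rec (fun _ => Nat) 77 6 4 39 4 7 7 11 11 80 11 86 87 86 88 83 84 84 81 88 40 4 39 8 6 4 7 7 82 90 85 9) (@D3.rec (fun _ => Nat) 4 44 23 83 4 84 9 75 4 80 42 4 74 4 84 84 10 10 78 44 46 4 85 83 10 10 23 81 80 88 85 75) (@D3.rec (fun _ => Nat) 75 4 6 4 89 79 83 4 1 2 79 7 7 89 82 86 89 88 76 76 78 87 82 92 86 11 77 77 77 10 76 76) (@D3.rec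 (fun _ => Nat) 77 75 85 42 4 74 74 6 4 85 4 83 4 7 7 86 86 1 2 11 41 41 2 3 3 41 83 83 83 1 2 89) (@D3.rec (fun _ => Nat) 80 2 3 86 78 2 3 3 73 73 6 4 7 7 46 4 9 78 9 7 7 8 84 87 86 24 10 75 75 75 75 86) (@D3.rec (fun _ => Nat) 43 45 4 76 76 6 4 43 4 7 7 26 26 26 26 43 43 40 40 40 78 10 87 10 11 4 10 87 10 11 11 10) (@D3.rec (fun _ => Nat) 82 4 85 84 11 11 11 84 88 79 4 85 85 89 81 6 4 7 7 12 12 12 4 84 87 9 40 90 9 7 7 7) (@D3.rec (fun _ => Nat) 8 8 8 87 85 47 1 2 47 10 10 48 89 48 74 10 89 1 2 45 47 47 2 3 3 11 83 85 11 26 26 26) (@D3.rec (fun _ => Nat) 85 85 26 87 87 87 9 86 86 89 82 74 74 88 82 83 11 11 87 87 84 87 11 86 7 7 41 41 8 12 94 80) (@D3.rec (fun _ => Nat) 12 83 85 85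 40 40 41 9 7 7 8 84 84 91 82 10 10 46 24 84 89 75 75 44 44 74 74 84 84 11 44 44) (@D3.rec (fun _ => Nat) 44 86 86 11 85 90 88 75 7 7 90 82 91 79 2 3 3 8 87 81 90 88 87 76 89 80 85 87 91 12 77 79) (@D3.rec (fun _ => Nat) 79 78 42 42 76 7 7 86 84 85 85 8 89 88 88 2 3 3 41 3 3 4 41 85 2 3 87 3 81 3 75 7) (@D3.rec (fun _ => Nat) 7 8 46 46 10 78 78 8 9 85 86 75 77 45 45 45 76 7 7 43 43 8 27 27 27 27 43 42 42 11 87 11) (@D3.rec (fun _ => Nat) 12 12 11 89 87 12 80 12 84 88 93 81 88 92 88 7 7 8 13 13 86 10 42 42 85 8 8 8 9 9 90 86) (@D3.rec (fun _ => Nat) 87 49 2 3 3 11 48 88 2 3 3 47 3 3 4 12 83 83 83 27 27 27 85 27 87 90 87 88 74 89 84 84) (@D3.rec (fun _ => Nat) 12 87 86 86 12 8 41 9 13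 91 86 42 41 41 8 9 90 89 88 11 85 77 44 76 86 12 46 46 46 85 12 89) (@D3.rec (fun _ => Nat) 77 8 92 87 89 3 3 4 9 91 88 88 88 90 79 89 89 86 86 79 85 44 83 8 87 85 9 91 94 88 3 3) (@D3.rec (fun _ => Nat) 4 43 4 5 3 87 75 8 9 48 80 9 82 76 45 45 45 77 8 45 9 28 28 45 42 12 93 89 13 90 13 88) (@D3.rec (fun _ => Nat) 84 92 90 81 8 9 14 91 90 42 85 80 9 9 10 94 88 93 3 3 4 12 3 3 4 49 4 5 85 90 85 28) (@D3.rec (fun _ => Nat) 28 87 85 89 76 84 13 91 92 9 43 81 42 43 9 90 89 12 78 46 76 86 46 46 88 90 9 90 87 4 5 86) (@D3.rec (fun _ => Nat) 96 92 82 86 81 44 9 86 87 90 92 4 5 5 9 48 80 47 47 9 45 29 91 14 91 89 89 92 9 91 44 90) (@D3.rec (fun _ => Nat) 10 91 93 4 5 4 5 5 92 90 29 89 90 91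 43 89 48 84 5 91 94 91 5 47 93 83 90 88 95 5 5 91)
def lv_c : Pt → Nat := @Pt.rec (fun _ => Nat) (@D1.rec (fun _ => D2 → D3 → Nat) lv_c_0 lv_c_1 lv_c_2 lv_c_3 lv_c_4 lv_c_5 lv_c_6 lv_c_7 lv_c_8 lv_c_9 lv_c_10 lv_c_11 lv_c_12 lv_c_13 lv_c_14 lv_c_15 lv_c_16 lv_c_17 lv_c_18 lv_c_19)
abbrev lc_c_Cert_tree : Cert rels S Gen.c := Cert.tree
abbrev lc_c_rc_10_1 : Cert rels S Gen.c := rc_10_1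
abbrev lc_c_rc_10_3 : Cert rels S Gen.c := rc_10_3
abbrev lc_c_rc_10_5 : Cert rels S Gen.c := rc_10_5
abbrev lc_c_rc_17_0 : Cert rels S Gen.c := rc_17_0
abbrev lc_c_rc_17_1 : Cert rels S Gen.c := rc_17_1
abbrev lc_c_rc_18_0 : Cert rels S Gen.c := rc_18_0
abbrev lc_c_rc_18_2 : Cert rels S Gen.c := rc_18_2
abbrev lc_c_rc_18_4 : Cert rels S Gen.c := rc_18_4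
abbrev lc_c_rc_19_0 : Cert rels S Gen.c := rc_19_0
abbrev lc_c_rc_19_2 : Cert rels S Gen.c := rc_19_2
abbrev lc_c_rc_20_0 : Cert rels S Gen.c := rc_20_0
abbrev lc_c_rc_20_2 : Cert rels S Gen.c := rc_20_2
abbrev lc_c_rc_21_0 : Cert rels S Gen.c := rc_21_0
abbrev lc_c_rc_21_2 : Cert rels S Gen.c := rc_21_2
abbrev lc_c_rc_22_0 : Cert rels S Gen.c := rc_22_0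
abbrev lc_c_rc_22_2 : Cert rels S Gen.c := rc_22_2
abbrev lc_c_rc_23_0 : Cert rels S Gen.c := rc_23_0
abbrev lc_c_rc_23_2 : Cert rels S Gen.c := rc_23_2
abbrev lc_c_rc_2_1 : Cert rels S Gen.c := rc_2_1
abbrev lc_c_rc_2_3 : Cert rels S Gen.c := rc_2_3
abbrev lc_c_rc_45_10 : Cert rels S Gen.c := rc_45_10
abbrev lc_c_rc_45_19 : Cert rels S Gen.c := rc_45_19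
abbrev lc_c_rc_45_28 : Cert rels S Gen.c := rc_45_28
abbrev lc_c_rc_45_37 : Cert rels S Gen.c := rc_45_37
abbrev lc_c_rc_45_46 : Cert rels S Gen.c := rc_45_46
abbrev lc_c_rc_45_55 : Cert rels S Gen.c := rc_45_55
abbrev lc_c_rc_45_64 : Cert rels S Gen.c := rc_45_64
abbrev lc_c_rc_45_73 : Cert rels S Gen.c := rc_45_73
abbrev lc_c_rc_45_82 : Cert rels S Gen.c := rc_45_82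
abbrev lc_c_rc_46_16 : Cert rels S Gen.c := rc_46_16
abbrev lc_c_rc_46_2 : Cert rels S Gen.c := rc_46_2
abbrev lc_c_rc_46_23 : Cert rels S Gen.c := rc_46_23
abbrev lc_c_rc_46_30 : Cert rels S Gen.c := rc_46_30
abbrev lc_c_rc_46_37 : Cert rels S Gen.c := rc_46_37
abbrev lc_c_rc_46_44 : Cert rels S Gen.c := rc_46_44
abbrev lc_c_rc_46_51 : Cert rels S Gen.c := rc_46_51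
abbrev lc_c_rc_46_9 : Cert rels S Gen.c := rc_46_9
abbrev lc_c_rc_47_15 : Cert rels S Gen.c := rc_47_15
abbrev lc_c_rc_47_22 : Cert rels S Gen.c := rc_47_22
abbrev lc_c_rc_47_29 : Cert rels S Gen.c := rc_47_29
abbrev lc_c_rc_47_36 : Cert rels S Gen.c := rc_47_36
abbrev lc_c_rc_47_43 : Cert rels S Gen.c := rc_47_43
abbrev lc_c_rc_47_50 : Cert rels S Gen.c := rc_47_50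
abbrev lc_c_rc_47_57 : Cert rels S Gen.c := rc_47_57
abbrev lc_c_rc_47_8 : Cert rels S Gen.c := rc_47_8
abbrev lc_c_sc_1_0 : Cert rels S Gen.c := sc_1_0
def ce_c_0 : D2 → D3 → (Cert rels S Gen.c) := @D2.rec (fun _ => D3 → (Cert rels S Gen.c)) (@D3.rec (fun _ => (Cert rels S Gen.c)) lc_c_sc_1_0 lc_c_rc_2_1 lc_c_Cert_tree lc_c_rc_17_0 lc_c_rc_18_2 lc_c_rc_19_2 lc_c_rc_20_2 lc_c_rc_21_2 lc_c_rc_20_2 lc_c_rc_23_2 lc_c_rc_22_2 lc_c_rc_21_2 lc_c_Cert_tree lc_c_rc_23_2 lc_c_rc_22_2 lc_c_Cert_tree lc_c_rc_23_2 lc_c_rc_17_0 lc_c_rc_23_2 lc_c_Cert_tree lc_c_rc_23_2 lc_c_rc_17_0 lc_c_rc_19_2 lc_c_rc_23_2 lc_c_rc_10_3 lc_c_rc_23_2 lc_c_rc_20_2 lc_c_rc_17_0 lc_c_rc_19_2 lc_c_rc_23_2 lc_c_rc_10_3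 lc_c_rc_19_2) (@D3.rec (fun _ => (Cert rels S Gen.c)) lc_c_rc_23_2 lc_c_rc_23_2 lc_c_rc_20_2 lc_c_rc_2_1 lc_c_rc_10_3 lc_c_rc_20_2 lc_c_rc_10_3 lc_c_rc_19_2 lc_c_rc_23_2 lc_c_rc_21_2 lc_c_rc_23_2 lc_c_rc_20_2 lc_c_rc_2_1 lc_c_rc_10_3 lc_c_rc_10_3 lc_c_rc_18_2 lc_c_rc_23_2 lc_c_rc_20_2 lc_c_rc_20_2 lc_c_rc_2_1 lc_c_rc_10_3 lc_c_rc_18_2 lc_c_rc_2_1 lc_c_rc_10_3 lc_c_rc_10_3 lc_c_rc_18_2 lc_c_rc_21_2 lc_c_rc_23_2 lc_c_rc_20_2 lc_c_rc_23_2 lc_c_rc_20_2 lc_c_rc_2_1) (@D3.rec (fun _ => (Cert rels S Gen.c)) lc_c_rc_2_1 lc_c_Cert_tree lc_c_rc_10_3 lc_c_rc_10_3 lc_c_rc_20_2 lc_c_rc_18_2 lc_c_rc_20_2 lc_c_rc_18_2 lc_c_Cert_tree lc_c_rc_2_1 lc_c_Cert_tree lc_c_rc_19_2 lc_c_rc_2_1 lc_c_rc_2_1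 lc_c_Cert_tree lc_c_rc_10_3 lc_c_rc_10_3 lc_c_rc_10_3 lc_c_rc_18_2 lc_c_rc_20_2 lc_c_rc_18_2 lc_c_rc_23_2 lc_c_rc_20_2 lc_c_rc_18_2 lc_c_rc_20_2 lc_c_Cert_tree lc_c_rc_46_23 lc_c_rc_2_1 lc_c_rc_2_1 lc_c_rc_17_0 lc_c_rc_10_3 lc_c_rc_23_2) (@D3.rec (fun _ => (Cert rels S Gen.c)) lc_c_rc_10_3 lc_c_Cert_tree lc_c_rc_23_2 lc_c_rc_20_2 lc_c_Cert_tree lc_c_rc_19_2 lc_c_rc_17_0 lc_c_rc_19_2 lc_c_rc_17_0 lc_c_rc_19_2 lc_c_rc_21_2 lc_c_rc_22_2 lc_c_rc_2_1 lc_c_rc_2_1 lc_c_rc_2_1 lc_c_rc_17_0 lc_c_rc_21_2 lc_c_rc_22_2 lc_c_rc_23_2 lc_c_rc_10_3 lc_c_rc_10_3 lc_c_Cert_tree lc_c_rc_19_2 lc_c_rc_20_2 lc_c_rc_18_2 lc_c_rc_23_2 lc_c_rc_20_2 lc_c_rc_20_2 lc_c_Cert_tree lc_c_rc_19_2 lc_c_Cert_tree lc_c_rc_17_0)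 (@D3.rec (fun _ => (Cert rels S Gen.c)) lc_c_rc_23_2 lc_c_rc_2_1 lc_c_rc_45_28 lc_c_rc_23_2 lc_c_rc_23_2 lc_c_rc_20_2 lc_c_Cert_tree lc_c_rc_17_0 lc_c_rc_19_2 lc_c_rc_23_2 lc_c_Cert_tree lc_c_rc_17_0 lc_c_rc_19_2 lc_c_rc_21_2 lc_c_rc_10_3 lc_c_rc_10_3 lc_c_rc_22_2 lc_c_rc_47_36 lc_c_rc_23_2 lc_c_rc_2_1 lc_c_rc_2_1 lc_c_rc_19_0 lc_c_rc_21_2 lc_c_rc_23_2 lc_c_rc_19_2 lc_c_rc_10_3 lc_c_rc_23_2 lc_c_rc_23_2 lc_c_rc_20_2 lc_c_rc_20_2 lc_c_Cert_tree lc_c_rc_17_0) (@D3.rec (fun _ => (Cert rels S Gen.c)) lc_c_rc_19_2 lc_c_rc_20_2 lc_c_rc_19_2 lc_c_rc_23_2 lc_c_rc_20_2 lc_c_rc_23_2 lc_c_Cert_tree lc_c_Cert_tree lc_c_rc_17_0 lc_c_rc_19_2 lc_c_rc_21_2 lc_c_rc_17_0 lc_c_rc_19_2 lc_c_rc_10_3 lc_c_rc_20_2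 lc_c_Cert_tree lc_c_rc_10_1 lc_c_rc_20_2 lc_c_rc_20_2 lc_c_Cert_tree lc_c_rc_17_0 lc_c_rc_19_2 lc_c_rc_19_2 lc_c_rc_45_82 lc_c_Cert_tree lc_c_rc_17_0 lc_c_rc_19_2 lc_c_rc_10_3 lc_c_rc_19_2 lc_c_rc_21_2 lc_c_rc_22_2 lc_c_rc_2_1) (@D3.rec (fun _ => (Cert rels S Gen.c)) lc_c_rc_19_0 lc_c_rc_47_22 lc_c_rc_21_2 lc_c_rc_20_2 lc_c_rc_2_1 lc_c_Cert_tree lc_c_rc_18_0 lc_c_rc_19_2 lc_c_rc_23_2 lc_c_rc_20_2 lc_c_rc_10_3 lc_c_rc_19_2 lc_c_rc_21_2 lc_c_rc_20_2 lc_c_rc_20_2 lc_c_Cert_tree lc_c_Cert_tree lc_c_rc_17_0 lc_c_rc_19_2 lc_c_rc_19_2 lc_c_rc_21_2 lc_c_Cert_tree lc_c_rc_23_2 lc_c_rc_20_2 lc_c_rc_23_2 lc_c_Cert_tree lc_c_Cert_tree lc_c_rc_17_0 lc_c_rc_19_2 lc_c_rc_17_0 lc_c_rc_19_2 lc_c_rc_10_3)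 (@D3.rec (fun _ => (Cert rels S Gen.c)) lc_c_rc_19_2 lc_c_rc_21_2 lc_c_rc_22_2 lc_c_rc_10_3 lc_c_rc_19_2 lc_c_rc_2_1 lc_c_Cert_tree lc_c_rc_17_0 lc_c_rc_19_2 lc_c_Cert_tree lc_c_Cert_tree lc_c_rc_17_0 lc_c_rc_19_2 lc_c_rc_10_3 lc_c_rc_19_2 lc_c_rc_21_2 lc_c_rc_18_2 lc_c_rc_18_0 lc_c_rc_17_0 lc_c_rc_19_2 lc_c_rc_10_3 lc_c_rc_19_2 lc_c_rc_21_2 lc_c_rc_2_1 lc_c_rc_10_3 lc_c_rc_21_2 lc_c_rc_22_2 lc_c_rc_23_2 lc_c_rc_21_2 lc_c_Cert_tree lc_c_Cert_tree lc_c_rc_17_0) (@D3.rec (fun _ => (Cert rels S Gen.c)) lc_c_rc_19_2 lc_c_rc_21_2 lc_c_rc_18_2 lc_c_rc_19_2 lc_c_rc_20_2 lc_c_Cert_tree lc_c_rc_47_36 lc_c_rc_23_2 lc_c_rc_20_2 lc_c_rc_21_2 lc_c_Cert_tree lc_c_Cert_tree lc_c_rc_17_0 lc_c_rc_19_2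 lc_c_rc_17_0 lc_c_rc_19_2 lc_c_rc_10_3 lc_c_rc_19_2 lc_c_rc_21_2 lc_c_rc_18_2 lc_c_rc_21_2 lc_c_rc_21_2 lc_c_rc_17_0 lc_c_rc_23_2 lc_c_rc_23_2 lc_c_Cert_tree lc_c_Cert_tree lc_c_rc_17_0 lc_c_rc_19_2 lc_c_rc_17_0 lc_c_rc_19_2 lc_c_rc_10_3) (@D3.rec (fun _ => (Cert rels S Gen.c)) lc_c_rc_19_2 lc_c_rc_21_2 lc_c_rc_10_3 lc_c_rc_19_2 lc_c_rc_21_2 lc_c_rc_2_1 lc_c_rc_10_3 lc_c_rc_21_2 lc_c_rc_22_2 lc_c_rc_2_1 lc_c_rc_10_3 lc_c_rc_18_2 lc_c_rc_17_0 lc_c_rc_19_2 lc_c_rc_10_3 lc_c_rc_19_2 lc_c_rc_17_0 lc_c_rc_19_2 lc_c_rc_17_0 lc_c_rc_19_2 lc_c_rc_10_3 lc_c_rc_19_2 lc_c_rc_21_2 lc_c_rc_2_1 lc_c_rc_10_3 lc_c_rc_18_2 lc_c_rc_21_2 lc_c_rc_22_2 lc_c_rc_20_2 lc_c_rc_10_3 lc_c_rc_19_2 lc_c_rc_21_2)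 (@D3.rec (fun _ => (Cert rels S Gen.c)) lc_c_rc_2_1 lc_c_rc_10_3 lc_c_rc_18_2 lc_c_rc_21_2 lc_c_rc_22_2 lc_c_rc_2_1 lc_c_rc_10_3 lc_c_rc_22_2 lc_c_rc_19_2 lc_c_Cert_tree lc_c_rc_17_0 lc_c_rc_19_2 lc_c_rc_17_0 lc_c_rc_19_2 lc_c_rc_10_3 lc_c_rc_19_2 lc_c_rc_21_2 lc_c_rc_18_2 lc_c_rc_20_2 lc_c_Cert_tree lc_c_rc_17_0 lc_c_rc_19_2 lc_c_rc_23_2 lc_c_rc_19_2 lc_c_Cert_tree lc_c_Cert_tree lc_c_rc_17_0 lc_c_rc_19_2 lc_c_rc_17_0 lc_c_rc_19_2 lc_c_rc_10_3 lc_c_rc_19_2) (@D3.rec (fun _ => (Cert rels S Gen.c)) lc_c_rc_21_2 lc_c_rc_10_3 lc_c_rc_19_2 lc_c_rc_21_2 lc_c_rc_2_1 lc_c_rc_10_3 lc_c_rc_18_2 lc_c_rc_21_2 lc_c_rc_22_2 lc_c_rc_18_2 lc_c_rc_20_2 lc_c_rc_23_2 lc_c_rc_20_2 lc_c_Cert_tree lc_c_rc_17_0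 lc_c_rc_19_2 lc_c_rc_17_0 lc_c_rc_19_2 lc_c_rc_10_3 lc_c_rc_19_2 lc_c_rc_21_2 lc_c_rc_10_3 lc_c_rc_19_2 lc_c_rc_21_2 lc_c_rc_2_1 lc_c_rc_10_3 lc_c_rc_18_2 lc_c_rc_21_2 lc_c_rc_22_2 lc_c_rc_2_1 lc_c_rc_10_3 lc_c_rc_18_2) (@D3.rec (fun _ => (Cert rels S Gen.c)) lc_c_rc_21_2 lc_c_rc_22_2 lc_c_rc_2_1 lc_c_rc_10_3 lc_c_rc_22_2 lc_c_rc_2_1 lc_c_Cert_tree lc_c_rc_19_0 lc_c_rc_10_3 lc_c_rc_19_2 lc_c_rc_2_1 lc_c_rc_10_3 lc_c_rc_18_2 lc_c_rc_19_2 lc_c_rc_21_2 lc_c_rc_10_3 lc_c_rc_19_2 lc_c_rc_21_2 lc_c_rc_2_1 lc_c_rc_10_3 lc_c_rc_18_2 lc_c_rc_21_2 lc_c_rc_22_2 lc_c_rc_2_1 lc_c_rc_10_3 lc_c_rc_10_3 lc_c_rc_20_2 lc_c_rc_22_2 lc_c_rc_2_1 lc_c_rc_10_3 lc_c_rc_18_2 lc_c_rc_21_2) (@D3.rec (fun _ =>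 (Cert rels S Gen.c)) lc_c_rc_22_2 lc_c_rc_2_1 lc_c_Cert_tree lc_c_rc_10_3 lc_c_rc_18_2 lc_c_rc_22_2 lc_c_rc_2_1 lc_c_rc_10_3 lc_c_Cert_tree lc_c_rc_17_0 lc_c_rc_19_2 lc_c_rc_10_3 lc_c_rc_19_2 lc_c_rc_21_2 lc_c_rc_10_3 lc_c_rc_19_2 lc_c_rc_21_2 lc_c_rc_2_1 lc_c_rc_10_3 lc_c_rc_21_2 lc_c_rc_20_2 lc_c_Cert_tree lc_c_rc_17_0 lc_c_rc_19_2 lc_c_rc_18_2 lc_c_rc_19_2 lc_c_rc_21_2 lc_c_rc_20_2 lc_c_Cert_tree lc_c_rc_17_0 lc_c_rc_19_2 lc_c_rc_17_0) (@D3.rec (fun _ => (Cert rels S Gen.c)) lc_c_rc_19_2 lc_c_rc_10_3 lc_c_rc_19_2 lc_c_rc_21_2 lc_c_rc_10_3 lc_c_rc_19_2 lc_c_rc_21_2 lc_c_rc_2_1 lc_c_rc_10_3 lc_c_rc_18_2 lc_c_rc_21_2 lc_c_rc_22_2 lc_c_rc_2_1 lc_c_rc_10_3 lc_c_rc_18_2 lc_c_rc_21_2 lc_c_rc_22_2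 lc_c_rc_2_1 lc_c_rc_10_3 lc_c_rc_10_3 lc_c_rc_18_2 lc_c_rc_20_2 lc_c_rc_22_2 lc_c_rc_19_2 lc_c_rc_20_2 lc_c_rc_23_2 lc_c_rc_20_2 lc_c_Cert_tree lc_c_rc_17_0 lc_c_rc_19_2 lc_c_rc_10_3 lc_c_rc_19_2) (@D3.rec (fun _ => (Cert rels S Gen.c)) lc_c_rc_21_2 lc_c_rc_10_3 lc_c_rc_19_2 lc_c_rc_21_2 lc_c_rc_2_1 lc_c_rc_10_3 lc_c_rc_18_2 lc_c_rc_21_2 lc_c_rc_22_2 lc_c_rc_2_1 lc_c_rc_10_3 lc_c_rc_18_2 lc_c_rc_21_2 lc_c_rc_22_2 lc_c_rc_2_1 lc_c_Cert_tree lc_c_rc_10_3 lc_c_rc_18_2 lc_c_rc_22_2 lc_c_rc_2_1 lc_c_Cert_tree lc_c_rc_10_3 lc_c_rc_18_2 lc_c_rc_18_0 lc_c_rc_22_2 lc_c_rc_2_1 lc_c_rc_10_3 lc_c_Cert_tree lc_c_rc_17_0 lc_c_rc_20_2 lc_c_rc_19_0 lc_c_rc_2_1) (@D3.rec (fun _ => (Cert rels S Gen.c))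 lc_c_rc_10_3 lc_c_rc_18_2 lc_c_rc_2_1 lc_c_rc_2_1 lc_c_rc_19_2 lc_c_rc_18_2 lc_c_rc_21_2 lc_c_rc_2_1 lc_c_rc_10_3 lc_c_rc_18_2 lc_c_rc_21_2 lc_c_rc_22_2 lc_c_rc_2_1 lc_c_Cert_tree lc_c_rc_10_3 lc_c_rc_18_2 lc_c_rc_20_2 lc_c_rc_22_2 lc_c_rc_2_1 lc_c_rc_2_1 lc_c_rc_10_3 lc_c_rc_10_3 lc_c_rc_2_1 lc_c_Cert_tree lc_c_rc_10_3 lc_c_rc_18_2 lc_c_rc_20_2 lc_c_rc_22_2 lc_c_Cert_tree lc_c_rc_2_1 lc_c_rc_17_0 lc_c_rc_21_2) (@D3.rec (fun _ => (Cert rels S Gen.c)) lc_c_rc_10_3 lc_c_rc_19_2 lc_c_rc_18_2 lc_c_rc_2_1 lc_c_rc_17_0 lc_c_rc_19_2 lc_c_rc_10_3 lc_c_rc_19_2 lc_c_rc_21_2 lc_c_rc_2_1 lc_c_rc_10_3 lc_c_rc_18_2 lc_c_rc_21_2 lc_c_rc_2_1 lc_c_rc_10_3 lc_c_rc_18_2 lc_c_rc_21_2 lc_c_rc_2_1 lc_c_rc_10_3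 lc_c_Cert_tree lc_c_rc_17_0 lc_c_rc_19_2 lc_c_rc_10_3 lc_c_rc_19_2 lc_c_rc_21_2 lc_c_rc_2_1 lc_c_rc_19_2 lc_c_rc_18_2 lc_c_rc_21_2 lc_c_rc_22_2 lc_c_Cert_tree lc_c_rc_17_0) (@D3.rec (fun _ => (Cert rels S Gen.c)) lc_c_rc_19_2 lc_c_rc_10_3 lc_c_rc_19_2 lc_c_rc_21_2 lc_c_rc_10_3 lc_c_rc_19_2 lc_c_rc_21_2 lc_c_rc_2_1 lc_c_rc_10_3 lc_c_rc_18_2 lc_c_rc_21_2 lc_c_rc_22_2 lc_c_rc_2_1 lc_c_rc_10_3 lc_c_rc_18_2 lc_c_rc_21_2 lc_c_rc_22_2 lc_c_rc_2_1 lc_c_Cert_tree lc_c_rc_10_3 lc_c_rc_18_2 lc_c_rc_20_2 lc_c_rc_22_2 lc_c_rc_2_1 lc_c_Cert_tree lc_c_rc_10_3 lc_c_rc_18_2 lc_c_rc_18_0 lc_c_rc_22_2 lc_c_rc_2_1 lc_c_rc_2_1 lc_c_rc_10_3) (@D3.rec (fun _ => (Cert rels S Gen.c)) lc_c_rc_10_3 lc_c_rc_10_3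 lc_c_rc_19_2 lc_c_rc_20_2 lc_c_rc_23_2 lc_c_rc_20_2 lc_c_Cert_tree lc_c_rc_17_0 lc_c_rc_19_2 lc_c_rc_10_3 lc_c_rc_19_2 lc_c_rc_21_2 lc_c_rc_2_1 lc_c_rc_10_3 lc_c_rc_18_2 lc_c_rc_21_2 lc_c_rc_22_2 lc_c_rc_2_1 lc_c_rc_10_3 lc_c_rc_18_2 lc_c_rc_21_2 lc_c_rc_22_2 lc_c_rc_2_1 lc_c_Cert_tree lc_c_rc_10_3 lc_c_rc_18_2 lc_c_rc_20_2 lc_c_rc_22_2 lc_c_rc_2_1 lc_c_Cert_tree lc_c_rc_10_3 lc_c_rc_18_2) (@D3.rec (fun _ => (Cert rels S Gen.c)) lc_c_rc_20_2 lc_c_rc_22_2 lc_c_Cert_tree lc_c_rc_2_1 lc_c_rc_17_0 lc_c_rc_21_2 lc_c_rc_10_3 lc_c_rc_19_2 lc_c_rc_18_2 lc_c_Cert_tree lc_c_rc_2_1 lc_c_rc_17_0 lc_c_rc_21_2 lc_c_rc_20_2 lc_c_rc_10_3 lc_c_rc_18_2 lc_c_rc_18_0 lc_c_rc_18_0 lc_c_rc_2_1 lc_c_rc_17_0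 lc_c_rc_20_2 lc_c_rc_20_2 lc_c_rc_23_2 lc_c_rc_2_1 lc_c_Cert_tree lc_c_rc_2_1 lc_c_Cert_tree lc_c_rc_21_2 lc_c_rc_18_2 lc_c_rc_20_2 lc_c_rc_2_1 lc_c_Cert_tree) (@D3.rec (fun _ => (Cert rels S Gen.c)) lc_c_rc_10_3 lc_c_rc_18_2 lc_c_rc_20_2 lc_c_rc_22_2 lc_c_Cert_tree lc_c_rc_2_1 lc_c_rc_17_0 lc_c_rc_21_2 lc_c_rc_20_2 lc_c_rc_10_3 lc_c_rc_18_2 lc_c_rc_2_1 lc_c_rc_2_1 lc_c_Cert_tree lc_c_rc_2_1 lc_c_rc_17_0 lc_c_rc_21_2 lc_c_rc_20_2 lc_c_rc_10_3 lc_c_rc_19_2 lc_c_rc_18_2 lc_c_rc_20_2 lc_c_rc_17_0 lc_c_rc_21_2 lc_c_rc_2_1 lc_c_rc_21_2 lc_c_rc_19_2 lc_c_rc_22_2 lc_c_rc_19_2 lc_c_rc_10_3 lc_c_rc_19_2 lc_c_rc_21_2)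
def ce_c_1 : D2 → D3 → (Cert rels S Gen.c) := @D2.rec (fun _ => D3 → (Cert rels S Gen.c)) (@D3.rec (fun _ => (Cert rels S Gen.c)) lc_c_rc_2_1 lc_c_rc_10_3 lc_c_rc_18_2 lc_c_rc_21_2 lc_c_rc_2_1 lc_c_Cert_tree lc_c_rc_10_3 lc_c_rc_18_2 lc_c_rc_2_1 lc_c_Cert_tree lc_c_rc_10_3 lc_c_rc_18_2 lc_c_rc_18_0 lc_c_rc_2_1 lc_c_rc_17_0 lc_c_rc_19_2 lc_c_rc_10_3 lc_c_rc_19_2 lc_c_rc_21_2 lc_c_rc_2_1 lc_c_rc_10_3 lc_c_rc_18_2 lc_c_rc_21_2 lc_c_rc_22_2 lc_c_rc_2_1 lc_c_Cert_tree lc_c_rc_21_2 lc_c_rc_18_2 lc_c_rc_20_2 lc_c_rc_22_2 lc_c_rc_17_0 lc_c_rc_19_2) (@D3.rec (fun _ => (Cert rels S Gen.c)) lc_c_rc_10_3 lc_c_rc_19_2 lc_c_rc_21_2 lc_c_rc_2_1 lc_c_rc_10_3 lc_c_rc_18_2 lc_c_rc_21_2 lc_c_rc_22_2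 lc_c_rc_2_1 lc_c_rc_10_3 lc_c_rc_18_2 lc_c_rc_21_2 lc_c_rc_22_2 lc_c_rc_2_1 lc_c_Cert_tree lc_c_rc_10_3 lc_c_rc_18_2 lc_c_rc_20_2 lc_c_rc_22_2 lc_c_rc_2_1 lc_c_Cert_tree lc_c_rc_10_3 lc_c_rc_18_2 lc_c_rc_20_2 lc_c_rc_22_2 lc_c_Cert_tree lc_c_rc_2_1 lc_c_rc_17_0 lc_c_rc_21_2 lc_c_rc_20_2 lc_c_rc_10_3 lc_c_rc_19_2) (@D3.rec (fun _ => (Cert rels S Gen.c)) lc_c_rc_18_2 lc_c_rc_20_2 lc_c_rc_23_2 lc_c_Cert_tree lc_c_rc_2_1 lc_c_rc_17_0 lc_c_rc_21_2 lc_c_rc_20_2 lc_c_rc_10_3 lc_c_rc_18_2 lc_c_rc_18_2 lc_c_rc_18_0 lc_c_rc_18_0 lc_c_rc_2_1 lc_c_rc_2_1 lc_c_rc_2_1 lc_c_rc_10_3 lc_c_rc_10_3 lc_c_rc_10_3 lc_c_rc_20_2 lc_c_Cert_tree lc_c_rc_17_0 lc_c_rc_19_2 lc_c_rc_10_3 lc_c_rc_19_2 lc_c_rc_21_2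 lc_c_rc_2_1 lc_c_rc_10_3 lc_c_rc_18_2 lc_c_rc_21_2 lc_c_rc_22_2 lc_c_rc_2_1) (@D3.rec (fun _ => (Cert rels S Gen.c)) lc_c_Cert_tree lc_c_rc_10_3 lc_c_rc_18_2 lc_c_rc_20_2 lc_c_rc_22_2 lc_c_rc_2_1 lc_c_Cert_tree lc_c_rc_10_3 lc_c_rc_18_2 lc_c_rc_20_2 lc_c_rc_22_2 lc_c_Cert_tree lc_c_rc_2_1 lc_c_rc_17_0 lc_c_rc_21_2 lc_c_rc_20_2 lc_c_rc_10_3 lc_c_rc_19_2 lc_c_rc_18_2 lc_c_rc_20_2 lc_c_rc_23_2 lc_c_Cert_tree lc_c_rc_2_1 lc_c_rc_17_0 lc_c_rc_21_2 lc_c_rc_20_2 lc_c_rc_10_3 lc_c_rc_19_2 lc_c_rc_18_2 lc_c_rc_20_2 lc_c_rc_17_0 lc_c_rc_21_2) (@D3.rec (fun _ => (Cert rels S Gen.c)) lc_c_rc_2_1 lc_c_rc_21_2 lc_c_rc_19_2 lc_c_rc_22_2 lc_c_rc_19_2 lc_c_rc_17_0 lc_c_rc_21_2 lc_c_rc_20_2 lc_c_rc_2_1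 lc_c_rc_21_2 lc_c_rc_20_2 lc_c_rc_22_2 lc_c_rc_21_2 lc_c_rc_23_2 lc_c_rc_18_0 lc_c_rc_18_0 lc_c_rc_10_3 lc_c_rc_20_2 lc_c_rc_23_2 lc_c_rc_18_2 lc_c_rc_23_2 lc_c_Cert_tree lc_c_rc_17_0 lc_c_Cert_tree lc_c_rc_2_1 lc_c_rc_17_0 lc_c_rc_21_2 lc_c_rc_20_2 lc_c_rc_19_2 lc_c_rc_20_2 lc_c_Cert_tree lc_c_rc_2_1) (@D3.rec (fun _ => (Cert rels S Gen.c)) lc_c_rc_17_0 lc_c_rc_21_2 lc_c_rc_20_2 lc_c_rc_10_3 lc_c_rc_18_2 lc_c_rc_17_0 lc_c_rc_21_2 lc_c_rc_20_2 lc_c_rc_2_1 lc_c_rc_21_2 lc_c_rc_20_2 lc_c_rc_22_2 lc_c_rc_17_0 lc_c_rc_21_2 lc_c_rc_20_2 lc_c_rc_2_1 lc_c_rc_21_2 lc_c_rc_20_2 lc_c_rc_19_2 lc_c_rc_22_2 lc_c_rc_21_2 lc_c_rc_19_2 lc_c_rc_20_2 lc_c_rc_20_2 lc_c_rc_10_3 lc_c_rc_21_2 lc_c_rc_19_2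 lc_c_rc_22_2 lc_c_rc_19_2 lc_c_rc_22_2 lc_c_rc_19_2 lc_c_rc_21_2) (@D3.rec (fun _ => (Cert rels S Gen.c)) lc_c_rc_2_1 lc_c_rc_10_3 lc_c_rc_18_2 lc_c_rc_21_2 lc_c_rc_2_1 lc_c_Cert_tree lc_c_rc_10_3 lc_c_rc_18_2 lc_c_rc_20_2 lc_c_Cert_tree lc_c_rc_2_1 lc_c_rc_17_0 lc_c_rc_21_2 lc_c_rc_19_2 lc_c_Cert_tree lc_c_rc_2_1 lc_c_rc_17_0 lc_c_rc_21_2 lc_c_rc_20_2 lc_c_rc_18_0 lc_c_rc_18_0 lc_c_rc_10_3 lc_c_rc_19_2 lc_c_rc_21_2 lc_c_rc_2_1 lc_c_rc_10_3 lc_c_rc_18_2 lc_c_rc_21_2 lc_c_rc_22_2 lc_c_rc_2_1 lc_c_Cert_tree lc_c_rc_10_3) (@D3.rec (fun _ => (Cert rels S Gen.c)) lc_c_rc_18_2 lc_c_rc_20_2 lc_c_rc_22_2 lc_c_Cert_tree lc_c_rc_2_1 lc_c_rc_17_0 lc_c_rc_21_2 lc_c_rc_20_2 lc_c_rc_22_2 lc_c_rc_19_2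 lc_c_rc_18_2 lc_c_rc_20_2 lc_c_rc_23_2 lc_c_rc_10_3 lc_c_rc_19_2 lc_c_rc_21_2 lc_c_rc_2_1 lc_c_rc_10_3 lc_c_rc_18_2 lc_c_rc_21_2 lc_c_rc_22_2 lc_c_rc_2_1 lc_c_Cert_tree lc_c_rc_10_3 lc_c_rc_18_2 lc_c_rc_20_2 lc_c_rc_22_2 lc_c_rc_2_1 lc_c_Cert_tree lc_c_rc_10_3 lc_c_rc_18_2 lc_c_rc_20_2) (@D3.rec (fun _ => (Cert rels S Gen.c)) lc_c_rc_22_2 lc_c_Cert_tree lc_c_rc_2_1 lc_c_rc_17_0 lc_c_rc_21_2 lc_c_rc_20_2 lc_c_rc_10_3 lc_c_rc_19_2 lc_c_rc_18_2 lc_c_rc_20_2 lc_c_rc_23_2 lc_c_Cert_tree lc_c_rc_2_1 lc_c_rc_17_0 lc_c_rc_21_2 lc_c_rc_20_2 lc_c_rc_10_3 lc_c_rc_19_2 lc_c_rc_18_2 lc_c_rc_20_2 lc_c_rc_23_2 lc_c_rc_17_0 lc_c_rc_21_2 lc_c_rc_20_2 lc_c_rc_2_1 lc_c_rc_21_2 lc_c_rc_20_2 lc_c_rc_19_2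 lc_c_rc_22_2 lc_c_rc_21_2 lc_c_rc_23_2 lc_c_rc_19_2) (@D3.rec (fun _ => (Cert rels S Gen.c)) lc_c_rc_20_2 lc_c_rc_17_0 lc_c_rc_21_2 lc_c_rc_20_2 lc_c_rc_2_1 lc_c_rc_21_2 lc_c_rc_20_2 lc_c_rc_19_2 lc_c_rc_22_2 lc_c_rc_21_2 lc_c_rc_23_2 lc_c_rc_19_2 lc_c_rc_18_0 lc_c_rc_18_0 lc_c_rc_2_1 lc_c_rc_2_1 lc_c_rc_2_1 lc_c_rc_10_3 lc_c_Cert_tree lc_c_rc_17_0 lc_c_rc_10_3 lc_c_rc_19_2 lc_c_rc_21_2 lc_c_rc_2_1 lc_c_rc_10_3 lc_c_rc_18_2 lc_c_rc_21_2 lc_c_rc_22_2 lc_c_rc_2_1 lc_c_Cert_tree lc_c_rc_10_3 lc_c_rc_18_2) (@D3.rec (fun _ => (Cert rels S Gen.c)) lc_c_rc_20_2 lc_c_rc_22_2 lc_c_Cert_tree lc_c_rc_2_1 lc_c_rc_17_0 lc_c_rc_21_2 lc_c_rc_20_2 lc_c_rc_10_3 lc_c_rc_19_2 lc_c_rc_18_2 lc_c_rc_20_2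 lc_c_rc_23_2 lc_c_Cert_tree lc_c_rc_2_1 lc_c_rc_17_0 lc_c_rc_21_2 lc_c_rc_20_2 lc_c_rc_10_3 lc_c_rc_19_2 lc_c_rc_18_2 lc_c_rc_20_2 lc_c_rc_23_2 lc_c_rc_17_0 lc_c_rc_21_2 lc_c_rc_20_2 lc_c_rc_2_1 lc_c_rc_21_2 lc_c_rc_20_2 lc_c_rc_19_2 lc_c_rc_22_2 lc_c_rc_21_2 lc_c_rc_23_2) (@D3.rec (fun _ => (Cert rels S Gen.c)) lc_c_rc_19_2 lc_c_rc_20_2 lc_c_rc_20_2 lc_c_rc_23_2 lc_c_rc_17_0 lc_c_rc_21_2 lc_c_rc_20_2 lc_c_rc_2_1 lc_c_rc_21_2 lc_c_rc_20_2 lc_c_rc_19_2 lc_c_rc_22_2 lc_c_rc_21_2 lc_c_rc_19_2 lc_c_rc_20_2 lc_c_rc_20_2 lc_c_rc_10_3 lc_c_rc_21_2 lc_c_rc_19_2 lc_c_rc_22_2 lc_c_rc_19_2 lc_c_rc_22_2 lc_c_rc_19_2 lc_c_rc_21_2 lc_c_rc_10_3 lc_c_rc_21_2 lc_c_rc_20_2 lc_c_rc_22_2 lc_c_rc_21_2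 lc_c_rc_23_2 lc_c_rc_22_2 lc_c_rc_21_2) (@D3.rec (fun _ => (Cert rels S Gen.c)) lc_c_rc_18_2 lc_c_rc_23_2 lc_c_rc_22_2 lc_c_rc_23_2 lc_c_rc_22_2 lc_c_rc_10_3 lc_c_rc_2_1 lc_c_rc_23_2 lc_c_rc_19_2 lc_c_rc_18_2 lc_c_rc_17_0 lc_c_rc_17_0 lc_c_rc_21_2 lc_c_rc_20_2 lc_c_rc_21_2 lc_c_rc_20_2 lc_c_rc_19_2 lc_c_rc_21_2 lc_c_rc_17_0 lc_c_rc_21_2 lc_c_rc_20_2 lc_c_rc_2_1 lc_c_rc_21_2 lc_c_rc_20_2 lc_c_rc_22_2 lc_c_rc_10_3 lc_c_rc_21_2 lc_c_rc_20_2 lc_c_rc_22_2 lc_c_rc_22_2 lc_c_rc_10_3 lc_c_rc_21_2) (@D3.rec (fun _ => (Cert rels S Gen.c)) lc_c_rc_20_2 lc_c_rc_19_2 lc_c_rc_22_2 lc_c_rc_21_2 lc_c_rc_19_2 lc_c_rc_22_2 lc_c_rc_21_2 lc_c_rc_18_2 lc_c_rc_19_2 lc_c_rc_19_2 lc_c_rc_22_2 lc_c_rc_21_2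 lc_c_rc_20_2 lc_c_rc_47_36 lc_c_rc_10_3 lc_c_rc_19_2 lc_c_rc_22_2 lc_c_rc_19_2 lc_c_rc_18_2 lc_c_rc_19_2 lc_c_rc_21_2 lc_c_rc_2_1 lc_c_Cert_tree lc_c_rc_10_3 lc_c_rc_18_2 lc_c_rc_20_2 lc_c_Cert_tree lc_c_rc_2_1 lc_c_rc_17_0 lc_c_rc_21_2 lc_c_rc_20_2 lc_c_rc_19_2) (@D3.rec (fun _ => (Cert rels S Gen.c)) lc_c_rc_20_2 lc_c_rc_23_2 lc_c_rc_17_0 lc_c_rc_21_2 lc_c_rc_21_2 lc_c_rc_19_2 lc_c_rc_17_0 lc_c_rc_21_2 lc_c_rc_20_2 lc_c_rc_21_2 lc_c_rc_20_2 lc_c_rc_21_2 lc_c_rc_23_2 lc_c_rc_18_0 lc_c_rc_2_1 lc_c_rc_10_3 lc_c_rc_18_2 lc_c_rc_21_2 lc_c_rc_22_2 lc_c_rc_2_1 lc_c_Cert_tree lc_c_rc_10_3 lc_c_rc_18_2 lc_c_rc_20_2 lc_c_rc_22_2 lc_c_Cert_tree lc_c_rc_2_1 lc_c_rc_17_0 lc_c_rc_21_2 lc_c_rc_20_2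 lc_c_rc_10_3 lc_c_rc_19_2) (@D3.rec (fun _ => (Cert rels S Gen.c)) lc_c_rc_18_2 lc_c_rc_20_2 lc_c_rc_23_2 lc_c_rc_17_0 lc_c_rc_21_2 lc_c_rc_20_2 lc_c_rc_2_1 lc_c_rc_21_2 lc_c_rc_20_2 lc_c_rc_19_2 lc_c_rc_22_2 lc_c_rc_21_2 lc_c_rc_23_2 lc_c_rc_19_2 lc_c_rc_20_2 lc_c_rc_20_2 lc_c_rc_23_2 lc_c_rc_2_1 lc_c_rc_10_3 lc_c_rc_18_2 lc_c_rc_21_2 lc_c_rc_22_2 lc_c_rc_2_1 lc_c_Cert_tree lc_c_rc_10_3 lc_c_rc_18_2 lc_c_rc_20_2 lc_c_rc_22_2 lc_c_Cert_tree lc_c_rc_2_1 lc_c_rc_17_0 lc_c_rc_21_2) (@D3.rec (fun _ => (Cert rels S Gen.c)) lc_c_rc_20_2 lc_c_rc_10_3 lc_c_rc_19_2 lc_c_rc_18_2 lc_c_rc_20_2 lc_c_rc_23_2 lc_c_Cert_tree lc_c_rc_2_1 lc_c_rc_17_0 lc_c_rc_21_2 lc_c_rc_20_2 lc_c_rc_10_3 lc_c_rc_19_2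 lc_c_rc_18_2 lc_c_rc_20_2 lc_c_rc_23_2 lc_c_rc_17_0 lc_c_rc_21_2 lc_c_rc_20_2 lc_c_rc_2_1 lc_c_rc_21_2 lc_c_rc_20_2 lc_c_rc_19_2 lc_c_rc_22_2 lc_c_rc_21_2 lc_c_rc_23_2 lc_c_rc_19_2 lc_c_rc_20_2 lc_c_rc_20_2 lc_c_rc_23_2 lc_c_rc_17_0 lc_c_rc_21_2) (@D3.rec (fun _ => (Cert rels S Gen.c)) lc_c_rc_20_2 lc_c_rc_2_1 lc_c_rc_21_2 lc_c_rc_20_2 lc_c_rc_19_2 lc_c_rc_22_2 lc_c_rc_21_2 lc_c_rc_23_2 lc_c_rc_19_2 lc_c_rc_20_2 lc_c_rc_10_3 lc_c_rc_21_2 lc_c_rc_20_2 lc_c_rc_19_2 lc_c_rc_22_2 lc_c_rc_21_2 lc_c_rc_23_2 lc_c_rc_19_2 lc_c_rc_22_2 lc_c_rc_21_2 lc_c_rc_23_2 lc_c_rc_19_2 lc_c_rc_19_2 lc_c_Cert_tree lc_c_rc_10_3 lc_c_rc_21_2 lc_c_rc_20_2 lc_c_rc_19_2 lc_c_rc_22_2 lc_c_rc_21_2 lc_c_rc_23_2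 lc_c_rc_19_2) (@D3.rec (fun _ => (Cert rels S Gen.c)) lc_c_rc_22_2 lc_c_rc_21_2 lc_c_rc_18_2 lc_c_rc_23_2 lc_c_rc_19_2 lc_c_rc_22_2 lc_c_rc_23_2 lc_c_Cert_tree lc_c_rc_19_2 lc_c_rc_18_0 lc_c_rc_2_1 lc_c_Cert_tree lc_c_rc_17_0 lc_c_rc_10_3 lc_c_rc_2_1 lc_c_rc_10_3 lc_c_rc_19_2 lc_c_rc_21_2 lc_c_rc_2_1 lc_c_rc_2_1 lc_c_Cert_tree lc_c_rc_10_3 lc_c_rc_18_2 lc_c_rc_18_2 lc_c_rc_22_2 lc_c_Cert_tree lc_c_rc_2_1 lc_c_rc_17_0 lc_c_rc_21_2 lc_c_rc_20_2 lc_c_rc_10_3 lc_c_rc_19_2) (@D3.rec (fun _ => (Cert rels S Gen.c)) lc_c_rc_18_2 lc_c_rc_20_2 lc_c_rc_23_2 lc_c_rc_17_0 lc_c_rc_21_2 lc_c_rc_20_2 lc_c_rc_2_1 lc_c_rc_21_2 lc_c_rc_20_2 lc_c_rc_19_2 lc_c_rc_22_2 lc_c_rc_21_2 lc_c_rc_23_2 lc_c_rc_19_2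 lc_c_rc_20_2 lc_c_rc_20_2 lc_c_rc_23_2 lc_c_rc_17_0 lc_c_rc_21_2 lc_c_rc_20_2 lc_c_rc_2_1 lc_c_rc_21_2 lc_c_rc_20_2 lc_c_rc_19_2 lc_c_rc_22_2 lc_c_rc_21_2 lc_c_rc_23_2 lc_c_rc_10_3 lc_c_rc_21_2 lc_c_rc_20_2 lc_c_rc_19_2 lc_c_rc_22_2) (@D3.rec (fun _ => (Cert rels S Gen.c)) lc_c_rc_21_2 lc_c_rc_23_2 lc_c_rc_19_2 lc_c_rc_22_2 lc_c_rc_21_2 lc_c_rc_18_2 lc_c_rc_23_2 lc_c_rc_19_2 lc_c_rc_19_2 lc_c_rc_22_2 lc_c_rc_23_2 lc_c_rc_10_3 lc_c_rc_21_2 lc_c_rc_20_2 lc_c_rc_19_2 lc_c_rc_22_2 lc_c_rc_21_2 lc_c_rc_19_2 lc_c_rc_22_2 lc_c_rc_21_2 lc_c_rc_18_2 lc_c_rc_19_2 lc_c_rc_19_2 lc_c_rc_22_2 lc_c_rc_10_3 lc_c_rc_19_2 lc_c_rc_22_2 lc_c_rc_19_2 lc_c_rc_18_2 lc_c_rc_19_2 lc_c_rc_21_2 lc_c_rc_10_3)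 (@D3.rec (fun _ => (Cert rels S Gen.c)) lc_c_rc_10_3 lc_c_rc_22_2 lc_c_rc_21_2 lc_c_rc_2_1 lc_c_rc_23_2 lc_c_rc_22_2 lc_c_rc_23_2 lc_c_rc_22_2 lc_c_rc_18_2 lc_c_rc_23_2 lc_c_rc_19_2 lc_c_rc_18_2 lc_c_rc_23_2 lc_c_Cert_tree lc_c_rc_10_3 lc_c_rc_2_1 lc_c_rc_2_1 lc_c_rc_21_2 lc_c_rc_19_2 lc_c_rc_20_2 lc_c_rc_10_3 lc_c_rc_10_3 lc_c_rc_21_2 lc_c_rc_20_2 lc_c_rc_19_2 lc_c_rc_21_2 lc_c_rc_19_2 lc_c_rc_21_2 lc_c_rc_18_2 lc_c_rc_10_3 lc_c_rc_21_2 lc_c_rc_20_2)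
def ce_c_2 : D2 → D3 → (Cert rels S Gen.c) := @D2.rec (fun _ => D3 → (Cert rels S Gen.c)) (@D3.rec (fun _ => (Cert rels S Gen.c)) lc_c_rc_22_2 lc_c_rc_22_2 lc_c_rc_18_2 lc_c_rc_10_3 lc_c_rc_10_3 lc_c_rc_22_2 lc_c_rc_10_3 lc_c_rc_10_3 lc_c_rc_19_2 lc_c_rc_22_2 lc_c_rc_21_2 lc_c_rc_2_1 lc_c_rc_19_2 lc_c_rc_19_2 lc_c_rc_22_2 lc_c_rc_18_2 lc_c_rc_19_2 lc_c_rc_19_2 lc_c_rc_22_2 lc_c_rc_18_2 lc_c_rc_19_2 lc_c_rc_21_2 lc_c_rc_19_2 lc_c_rc_45_28 lc_c_rc_10_3 lc_c_rc_10_3 lc_c_rc_18_2 lc_c_rc_19_2 lc_c_rc_21_2 lc_c_rc_18_2 lc_c_rc_21_2 lc_c_Cert_tree) (@D3.rec (fun _ => (Cert rels S Gen.c)) lc_c_rc_2_1 lc_c_rc_17_0 lc_c_rc_21_2 lc_c_rc_20_2 lc_c_rc_19_2 lc_c_rc_20_2 lc_c_rc_23_2 lc_c_rc_17_0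 lc_c_rc_21_2 lc_c_rc_20_2 lc_c_rc_21_2 lc_c_rc_20_2 lc_c_rc_19_2 lc_c_rc_21_2 lc_c_rc_23_2 lc_c_rc_20_2 lc_c_rc_23_2 lc_c_rc_10_3 lc_c_rc_21_2 lc_c_rc_19_2 lc_c_rc_19_2 lc_c_rc_10_3 lc_c_rc_21_2 lc_c_rc_20_2 lc_c_rc_21_2 lc_c_rc_23_2 lc_c_rc_21_2 lc_c_rc_18_2 lc_c_rc_23_2 lc_c_rc_23_2 lc_c_rc_2_1 lc_c_Cert_tree) (@D3.rec (fun _ => (Cert rels S Gen.c)) lc_c_rc_10_3 lc_c_rc_18_2 lc_c_rc_18_2 lc_c_rc_22_2 lc_c_Cert_tree lc_c_rc_2_1 lc_c_rc_17_0 lc_c_rc_21_2 lc_c_rc_20_2 lc_c_rc_10_3 lc_c_rc_19_2 lc_c_rc_18_2 lc_c_rc_20_2 lc_c_rc_23_2 lc_c_rc_17_0 lc_c_rc_21_2 lc_c_rc_20_2 lc_c_rc_2_1 lc_c_rc_21_2 lc_c_rc_20_2 lc_c_rc_19_2 lc_c_rc_22_2 lc_c_rc_21_2 lc_c_rc_23_2 lc_c_rc_19_2 lc_c_rc_20_2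 lc_c_rc_20_2 lc_c_rc_23_2 lc_c_rc_10_3 lc_c_rc_21_2 lc_c_rc_20_2 lc_c_rc_19_2) (@D3.rec (fun _ => (Cert rels S Gen.c)) lc_c_rc_22_2 lc_c_rc_21_2 lc_c_rc_23_2 lc_c_rc_19_2 lc_c_rc_22_2 lc_c_rc_21_2 lc_c_rc_18_2 lc_c_rc_23_2 lc_c_rc_19_2 lc_c_rc_19_2 lc_c_rc_22_2 lc_c_rc_23_2 lc_c_rc_21_2 lc_c_rc_20_2 lc_c_Cert_tree lc_c_rc_2_1 lc_c_Cert_tree lc_c_rc_10_3 lc_c_rc_18_2 lc_c_rc_18_2 lc_c_rc_22_2 lc_c_Cert_tree lc_c_rc_2_1 lc_c_rc_17_0 lc_c_rc_21_2 lc_c_rc_20_2 lc_c_rc_10_3 lc_c_rc_19_2 lc_c_rc_18_2 lc_c_rc_20_2 lc_c_rc_23_2 lc_c_rc_17_0) (@D3.rec (fun _ => (Cert rels S Gen.c)) lc_c_rc_21_2 lc_c_rc_20_2 lc_c_rc_2_1 lc_c_rc_21_2 lc_c_rc_20_2 lc_c_rc_19_2 lc_c_rc_22_2 lc_c_rc_21_2 lc_c_rc_23_2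 lc_c_rc_19_2 lc_c_rc_20_2 lc_c_rc_20_2 lc_c_rc_23_2 lc_c_rc_17_0 lc_c_rc_21_2 lc_c_rc_20_2 lc_c_rc_2_1 lc_c_rc_21_2 lc_c_rc_20_2 lc_c_rc_19_2 lc_c_rc_22_2 lc_c_rc_21_2 lc_c_rc_23_2 lc_c_rc_19_2 lc_c_rc_20_2 lc_c_rc_20_2 lc_c_rc_23_2 lc_c_rc_10_3 lc_c_rc_21_2 lc_c_rc_20_2 lc_c_rc_19_2 lc_c_rc_22_2) (@D3.rec (fun _ => (Cert rels S Gen.c)) lc_c_rc_21_2 lc_c_rc_23_2 lc_c_rc_19_2 lc_c_rc_22_2 lc_c_rc_21_2 lc_c_rc_18_2 lc_c_rc_23_2 lc_c_rc_19_2 lc_c_rc_19_2 lc_c_rc_22_2 lc_c_rc_23_2 lc_c_rc_21_2 lc_c_rc_20_2 lc_c_Cert_tree lc_c_rc_23_2 lc_c_rc_23_2 lc_c_rc_10_3 lc_c_rc_21_2 lc_c_rc_20_2 lc_c_rc_19_2 lc_c_rc_22_2 lc_c_rc_21_2 lc_c_rc_23_2 lc_c_rc_19_2 lc_c_rc_22_2 lc_c_rc_21_2 lc_c_rc_18_2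 lc_c_rc_23_2 lc_c_rc_19_2 lc_c_rc_19_2 lc_c_rc_10_3 lc_c_rc_10_3) (@D3.rec (fun _ => (Cert rels S Gen.c)) lc_c_rc_19_2 lc_c_rc_22_2 lc_c_rc_21_2 lc_c_rc_23_2 lc_c_rc_19_2 lc_c_rc_19_2 lc_c_rc_18_2 lc_c_rc_19_2 lc_c_rc_19_2 lc_c_Cert_tree lc_c_rc_17_0 lc_c_rc_10_3 lc_c_rc_10_3 lc_c_rc_19_2 lc_c_rc_22_2 lc_c_rc_21_2 lc_c_rc_2_1 lc_c_rc_23_2 lc_c_rc_19_2 lc_c_rc_22_2 lc_c_rc_23_2 lc_c_rc_19_2 lc_c_rc_22_2 lc_c_rc_18_2 lc_c_rc_23_2 lc_c_rc_19_2 lc_c_rc_18_2 lc_c_Cert_tree lc_c_rc_19_2 lc_c_rc_23_2 lc_c_rc_17_0 lc_c_rc_23_2) (@D3.rec (fun _ => (Cert rels S Gen.c)) lc_c_Cert_tree lc_c_rc_17_0 lc_c_rc_10_3 lc_c_rc_2_1 lc_c_rc_2_1 lc_c_Cert_tree lc_c_rc_10_3 lc_c_Cert_tree lc_c_rc_2_1 lc_c_rc_17_0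 lc_c_rc_21_2 lc_c_rc_20_2 lc_c_rc_10_3 lc_c_rc_17_0 lc_c_rc_21_2 lc_c_rc_20_2 lc_c_rc_2_1 lc_c_rc_21_2 lc_c_rc_20_2 lc_c_rc_19_2 lc_c_rc_22_2 lc_c_rc_21_2 lc_c_rc_23_2 lc_c_rc_10_3 lc_c_rc_21_2 lc_c_rc_20_2 lc_c_rc_19_2 lc_c_rc_22_2 lc_c_rc_21_2 lc_c_rc_23_2 lc_c_rc_19_2 lc_c_rc_22_2) (@D3.rec (fun _ => (Cert rels S Gen.c)) lc_c_rc_21_2 lc_c_rc_18_2 lc_c_rc_23_2 lc_c_rc_19_2 lc_c_rc_19_2 lc_c_rc_22_2 lc_c_rc_23_2 lc_c_rc_10_3 lc_c_rc_21_2 lc_c_rc_20_2 lc_c_rc_19_2 lc_c_rc_22_2 lc_c_rc_21_2 lc_c_rc_23_2 lc_c_rc_19_2 lc_c_rc_22_2 lc_c_rc_21_2 lc_c_rc_18_2 lc_c_rc_23_2 lc_c_rc_10_3 lc_c_rc_10_3 lc_c_rc_19_2 lc_c_rc_22_2 lc_c_rc_21_2 lc_c_rc_2_1 lc_c_rc_23_2 lc_c_rc_19_2 lc_c_rc_19_2 lc_c_rc_22_2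 lc_c_rc_23_2 lc_c_rc_18_2 lc_c_rc_19_2) (@D3.rec (fun _ => (Cert rels S Gen.c)) lc_c_rc_19_2 lc_c_rc_22_2 lc_c_rc_18_2 lc_c_rc_23_2 lc_c_rc_19_2 lc_c_rc_18_2 lc_c_rc_10_3 lc_c_rc_10_3 lc_c_rc_19_2 lc_c_rc_22_2 lc_c_rc_21_2 lc_c_rc_2_1 lc_c_rc_19_2 lc_c_rc_19_2 lc_c_rc_22_2 lc_c_rc_18_2 lc_c_rc_19_2 lc_c_rc_19_2 lc_c_rc_22_2 lc_c_rc_18_2 lc_c_rc_19_2 lc_c_rc_10_3 lc_c_rc_10_3 lc_c_rc_2_1 lc_c_rc_19_2 lc_c_rc_21_2 lc_c_rc_18_2 lc_c_rc_20_2 lc_c_rc_21_2 lc_c_rc_10_3 lc_c_rc_10_3 lc_c_Cert_tree) (@D3.rec (fun _ => (Cert rels S Gen.c)) lc_c_rc_10_3 lc_c_rc_22_2 lc_c_rc_2_1 lc_c_rc_23_2 lc_c_rc_2_1 lc_c_rc_2_1 lc_c_rc_23_2 lc_c_rc_18_2 lc_c_rc_23_2 lc_c_rc_19_2 lc_c_rc_18_2 lc_c_rc_21_2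 lc_c_rc_19_2 lc_c_rc_20_2 lc_c_rc_17_0 lc_c_rc_19_2 lc_c_rc_23_2 lc_c_rc_2_1 lc_c_rc_2_1 lc_c_rc_2_1 lc_c_rc_22_2 lc_c_rc_21_2 lc_c_rc_20_2 lc_c_rc_10_3 lc_c_rc_10_3 lc_c_rc_19_2 lc_c_rc_21_2 lc_c_rc_18_2 lc_c_rc_18_2 lc_c_rc_18_2 lc_c_rc_10_3 lc_c_rc_10_3) (@D3.rec (fun _ => (Cert rels S Gen.c)) lc_c_rc_22_2 lc_c_rc_2_1 lc_c_rc_10_3 lc_c_rc_10_3 lc_c_rc_10_3 lc_c_rc_10_3 lc_c_Cert_tree lc_c_rc_18_2 lc_c_rc_19_2 lc_c_rc_19_2 lc_c_rc_22_2 lc_c_rc_2_1 lc_c_rc_2_1 lc_c_rc_21_2 lc_c_rc_19_2 lc_c_rc_18_4 lc_c_rc_18_2 lc_c_rc_21_2 lc_c_rc_19_2 lc_c_rc_18_2 lc_c_Cert_tree lc_c_rc_10_3 lc_c_rc_18_2 lc_c_rc_21_2 lc_c_rc_18_2 lc_c_rc_17_0 lc_c_rc_21_2 lc_c_rc_20_2 lc_c_rc_21_2 lc_c_rc_20_2 lc_c_rc_19_2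 lc_c_rc_21_2) (@D3.rec (fun _ => (Cert rels S Gen.c)) lc_c_rc_23_2 lc_c_rc_20_2 lc_c_rc_23_2 lc_c_rc_10_3 lc_c_rc_21_2 lc_c_rc_20_2 lc_c_rc_19_2 lc_c_rc_21_2 lc_c_rc_23_2 lc_c_rc_19_2 lc_c_rc_21_2 lc_c_rc_18_2 lc_c_rc_23_2 lc_c_rc_19_2 lc_c_rc_23_2 lc_c_rc_23_2 lc_c_rc_10_3 lc_c_rc_19_2 lc_c_rc_18_2 lc_c_rc_10_3 lc_c_rc_10_3 lc_c_rc_21_2 lc_c_rc_2_1 lc_c_rc_23_2 lc_c_rc_23_2 lc_c_rc_18_2 lc_c_rc_23_2 lc_c_rc_19_2 lc_c_rc_18_2 lc_c_Cert_tree lc_c_rc_2_1 lc_c_rc_17_0) (@D3.rec (fun _ => (Cert rels S Gen.c)) lc_c_rc_21_2 lc_c_rc_20_2 lc_c_rc_10_3 lc_c_rc_19_2 lc_c_rc_18_2 lc_c_rc_18_2 lc_c_rc_18_2 lc_c_rc_17_0 lc_c_rc_21_2 lc_c_rc_20_2 lc_c_rc_2_1 lc_c_rc_21_2 lc_c_rc_20_2 lc_c_rc_19_2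 lc_c_rc_22_2 lc_c_rc_21_2 lc_c_rc_23_2 lc_c_rc_19_2 lc_c_rc_20_2 lc_c_rc_20_2 lc_c_rc_23_2 lc_c_rc_10_3 lc_c_rc_21_2 lc_c_rc_20_2 lc_c_rc_19_2 lc_c_rc_22_2 lc_c_rc_21_2 lc_c_rc_23_2 lc_c_rc_19_2 lc_c_rc_22_2 lc_c_rc_21_2 lc_c_rc_18_2) (@D3.rec (fun _ => (Cert rels S Gen.c)) lc_c_rc_23_2 lc_c_rc_19_2 lc_c_rc_19_2 lc_c_rc_22_2 lc_c_rc_23_2 lc_c_rc_21_2 lc_c_rc_20_2 lc_c_Cert_tree lc_c_rc_23_2 lc_c_rc_23_2 lc_c_rc_10_3 lc_c_rc_10_3 lc_c_rc_19_2 lc_c_rc_22_2 lc_c_rc_21_2 lc_c_rc_18_2 lc_c_rc_23_2 lc_c_rc_19_2 lc_c_rc_19_2 lc_c_rc_22_2 lc_c_rc_23_2 lc_c_rc_18_2 lc_c_rc_19_2 lc_c_rc_19_2 lc_c_rc_22_2 lc_c_rc_18_2 lc_c_rc_23_2 lc_c_rc_18_2 lc_c_rc_21_2 lc_c_rc_19_2 lc_c_Cert_tree lc_c_Cert_tree)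 (@D3.rec (fun _ => (Cert rels S Gen.c)) lc_c_rc_17_0 lc_c_Cert_tree lc_c_rc_2_1 lc_c_rc_17_0 lc_c_rc_21_2 lc_c_rc_20_2 lc_c_rc_10_3 lc_c_rc_19_2 lc_c_rc_18_2 lc_c_rc_18_2 lc_c_rc_18_2 lc_c_rc_17_0 lc_c_rc_21_2 lc_c_rc_20_2 lc_c_rc_2_1 lc_c_rc_21_2 lc_c_rc_20_2 lc_c_rc_19_2 lc_c_rc_22_2 lc_c_rc_21_2 lc_c_rc_23_2 lc_c_rc_19_2 lc_c_rc_20_2 lc_c_rc_20_2 lc_c_rc_23_2 lc_c_rc_10_3 lc_c_rc_21_2 lc_c_rc_20_2 lc_c_rc_19_2 lc_c_rc_22_2 lc_c_rc_21_2 lc_c_rc_23_2) (@D3.rec (fun _ => (Cert rels S Gen.c)) lc_c_rc_19_2 lc_c_rc_22_2 lc_c_rc_21_2 lc_c_rc_18_2 lc_c_rc_23_2 lc_c_rc_19_2 lc_c_rc_19_2 lc_c_rc_22_2 lc_c_rc_23_2 lc_c_rc_21_2 lc_c_rc_20_2 lc_c_Cert_tree lc_c_rc_23_2 lc_c_rc_23_2 lc_c_rc_10_3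 lc_c_rc_21_2 lc_c_rc_20_2 lc_c_rc_19_2 lc_c_rc_22_2 lc_c_rc_21_2 lc_c_rc_23_2 lc_c_rc_19_2 lc_c_rc_22_2 lc_c_rc_21_2 lc_c_rc_18_2 lc_c_rc_23_2 lc_c_rc_19_2 lc_c_rc_19_2 lc_c_rc_22_2 lc_c_rc_23_2 lc_c_rc_20_2 lc_c_rc_2_3) (@D3.rec (fun _ => (Cert rels S Gen.c)) lc_c_rc_23_2 lc_c_rc_23_2 lc_c_rc_10_3 lc_c_rc_10_3 lc_c_rc_19_2 lc_c_rc_22_2 lc_c_rc_21_2 lc_c_rc_2_1 lc_c_rc_23_2 lc_c_rc_19_2 lc_c_rc_19_2 lc_c_rc_22_2 lc_c_rc_23_2 lc_c_rc_18_2 lc_c_rc_19_2 lc_c_rc_19_2 lc_c_rc_22_2 lc_c_rc_18_2 lc_c_rc_23_2 lc_c_rc_19_2 lc_c_rc_18_2 lc_c_rc_21_2 lc_c_rc_19_2 lc_c_Cert_tree lc_c_rc_19_2 lc_c_rc_23_2 lc_c_rc_23_2 lc_c_rc_17_0 lc_c_rc_23_2 lc_c_rc_10_3 lc_c_rc_10_3 lc_c_rc_19_2) (@D3.rec (fun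 _ => (Cert rels S Gen.c)) lc_c_rc_22_2 lc_c_rc_21_2 lc_c_rc_2_1 lc_c_rc_23_2 lc_c_rc_19_2 lc_c_rc_19_2 lc_c_rc_18_2 lc_c_rc_19_2 lc_c_rc_19_2 lc_c_rc_18_2 lc_c_rc_18_2 lc_c_rc_10_3 lc_c_rc_20_2 lc_c_rc_20_2 lc_c_rc_10_3 lc_c_rc_2_1 lc_c_rc_19_2 lc_c_rc_19_2 lc_c_Cert_tree lc_c_rc_18_2 lc_c_rc_20_2 lc_c_Cert_tree lc_c_rc_17_0 lc_c_rc_10_3 lc_c_rc_20_0 lc_c_rc_19_2 lc_c_rc_10_3 lc_c_Cert_tree lc_c_rc_10_3 lc_c_rc_19_2 lc_c_rc_22_2 lc_c_rc_2_1) (@D3.rec (fun _ => (Cert rels S Gen.c)) lc_c_rc_23_2 lc_c_rc_2_1 lc_c_rc_2_1 lc_c_Cert_tree lc_c_rc_19_2 lc_c_rc_23_2 lc_c_Cert_tree lc_c_rc_19_2 lc_c_rc_18_2 lc_c_rc_23_2 lc_c_rc_19_2 lc_c_rc_18_2 lc_c_rc_21_2 lc_c_rc_19_2 lc_c_rc_20_2 lc_c_rc_17_0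 lc_c_rc_23_2 lc_c_rc_10_3 lc_c_rc_23_2 lc_c_rc_17_0 lc_c_rc_10_3 lc_c_rc_2_1 lc_c_Cert_tree lc_c_rc_2_1 lc_c_rc_17_0 lc_c_rc_17_0 lc_c_rc_21_2 lc_c_rc_20_2 lc_c_rc_2_1 lc_c_rc_21_2 lc_c_rc_20_2 lc_c_rc_10_3) (@D3.rec (fun _ => (Cert rels S Gen.c)) lc_c_rc_21_2 lc_c_rc_20_2 lc_c_rc_19_2 lc_c_rc_22_2 lc_c_rc_21_2 lc_c_rc_23_2 lc_c_rc_19_2 lc_c_rc_22_2 lc_c_rc_21_2 lc_c_rc_18_2 lc_c_rc_23_2 lc_c_rc_10_3 lc_c_rc_10_3 lc_c_rc_19_2 lc_c_rc_22_2 lc_c_rc_21_2 lc_c_rc_2_1 lc_c_rc_23_2 lc_c_rc_19_2 lc_c_rc_19_2 lc_c_rc_22_2 lc_c_rc_23_2 lc_c_rc_18_2 lc_c_rc_19_2 lc_c_rc_19_2 lc_c_rc_22_2 lc_c_rc_18_2 lc_c_rc_23_2 lc_c_rc_19_2 lc_c_rc_18_2 lc_c_rc_10_3 lc_c_rc_10_3) (@D3.rec (fun _ => (Cert rels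 S Gen.c)) lc_c_rc_19_2 lc_c_rc_22_2 lc_c_rc_21_2 lc_c_rc_2_1 lc_c_rc_23_2 lc_c_rc_18_2 lc_c_rc_18_2 lc_c_rc_19_2 lc_c_rc_18_2 lc_c_rc_10_3 lc_c_rc_10_3 lc_c_rc_10_3 lc_c_Cert_tree lc_c_rc_10_3 lc_c_rc_2_1 lc_c_rc_19_2 lc_c_rc_19_2 lc_c_rc_22_2 lc_c_rc_2_1 lc_c_rc_23_2 lc_c_rc_2_1 lc_c_rc_2_1 lc_c_rc_18_2 lc_c_rc_20_2 lc_c_rc_18_2 lc_c_rc_18_2 lc_c_rc_19_2 lc_c_rc_18_2 lc_c_rc_21_2 lc_c_rc_19_2 lc_c_rc_20_2 lc_c_rc_10_3)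
def ce_c_3 : D2 → D3 → (Cert rels S Gen.c) := @D2.rec (fun _ => D3 → (Cert rels S Gen.c)) (@D3.rec (fun _ => (Cert rels S Gen.c)) lc_c_rc_10_3 lc_c_rc_10_3 lc_c_Cert_tree lc_c_rc_2_1 lc_c_rc_19_2 lc_c_rc_19_2 lc_c_rc_22_2 lc_c_rc_2_1 lc_c_rc_2_1 lc_c_rc_20_0 lc_c_rc_20_2 lc_c_rc_47_36 lc_c_rc_18_2 lc_c_rc_19_2 lc_c_rc_21_2 lc_c_Cert_tree lc_c_rc_10_3 lc_c_rc_2_1 lc_c_rc_2_1 lc_c_rc_21_2 lc_c_rc_46_37 lc_c_rc_20_2 lc_c_rc_23_2 lc_c_rc_10_3 lc_c_Cert_tree lc_c_rc_10_3 lc_c_rc_17_0 lc_c_rc_19_2 lc_c_rc_23_2 lc_c_rc_2_1 lc_c_rc_23_2 lc_c_rc_2_1) (@D3.rec (fun _ => (Cert rels S Gen.c)) lc_c_rc_2_1 lc_c_rc_2_1 lc_c_rc_2_1 lc_c_rc_2_1 lc_c_rc_19_2 lc_c_rc_2_3 lc_c_rc_21_2 lc_c_rc_19_2 lc_c_rc_20_2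 lc_c_rc_22_2 lc_c_rc_21_2 lc_c_rc_20_2 lc_c_rc_19_2 lc_c_rc_23_2 lc_c_rc_21_2 lc_c_rc_23_2 lc_c_rc_20_2 lc_c_rc_2_1 lc_c_rc_2_1 lc_c_rc_2_1 lc_c_rc_22_2 lc_c_rc_21_2 lc_c_Cert_tree lc_c_rc_19_2 lc_c_rc_19_2 lc_c_Cert_tree lc_c_rc_18_2 lc_c_rc_18_2 lc_c_rc_10_3 lc_c_Cert_tree lc_c_Cert_tree lc_c_rc_10_3) (@D3.rec (fun _ => (Cert rels S Gen.c)) lc_c_rc_10_3 lc_c_rc_10_3 lc_c_Cert_tree lc_c_rc_17_0 lc_c_rc_19_2 lc_c_rc_18_2 lc_c_rc_21_2 lc_c_rc_19_2 lc_c_rc_2_1 lc_c_rc_18_2 lc_c_rc_17_0 lc_c_rc_22_2 lc_c_rc_10_3 lc_c_rc_18_2 lc_c_rc_19_2 lc_c_rc_10_3 lc_c_rc_21_2 lc_c_rc_20_2 lc_c_rc_19_2 lc_c_rc_21_2 lc_c_rc_23_2 lc_c_rc_19_2 lc_c_rc_21_2 lc_c_rc_18_2 lc_c_rc_23_2 lc_c_rc_19_2 lc_c_rc_23_2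 lc_c_rc_10_5 lc_c_rc_23_2 lc_c_rc_10_3 lc_c_rc_10_3 lc_c_rc_19_2) (@D3.rec (fun _ => (Cert rels S Gen.c)) lc_c_rc_21_2 lc_c_rc_2_1 lc_c_rc_23_2 lc_c_rc_19_2 lc_c_rc_23_2 lc_c_rc_18_2 lc_c_rc_19_2 lc_c_rc_18_2 lc_c_rc_23_2 lc_c_rc_19_2 lc_c_rc_18_2 lc_c_rc_19_2 lc_c_rc_10_3 lc_c_rc_2_1 lc_c_rc_20_2 lc_c_rc_10_3 lc_c_Cert_tree lc_c_rc_10_3 lc_c_rc_2_1 lc_c_rc_23_2 lc_c_rc_2_1 lc_c_rc_2_1 lc_c_rc_19_2 lc_c_rc_18_2 lc_c_rc_21_2 lc_c_rc_19_2 lc_c_rc_20_2 lc_c_rc_17_0 lc_c_rc_21_2 lc_c_rc_20_2 lc_c_rc_2_1 lc_c_rc_21_2) (@D3.rec (fun _ => (Cert rels S Gen.c)) lc_c_rc_20_2 lc_c_rc_19_2 lc_c_rc_22_2 lc_c_rc_21_2 lc_c_rc_23_2 lc_c_rc_19_2 lc_c_rc_19_2 lc_c_rc_18_2 lc_c_rc_18_2 lc_c_rc_21_0 lc_c_rc_21_2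 lc_c_rc_20_2 lc_c_rc_19_2 lc_c_rc_22_2 lc_c_rc_21_2 lc_c_rc_23_2 lc_c_rc_19_2 lc_c_rc_22_2 lc_c_rc_21_2 lc_c_rc_18_2 lc_c_rc_23_2 lc_c_rc_19_2 lc_c_rc_19_2 lc_c_rc_22_2 lc_c_rc_23_2 lc_c_rc_21_2 lc_c_rc_20_2 lc_c_Cert_tree lc_c_rc_23_2 lc_c_rc_23_2 lc_c_rc_10_3 lc_c_rc_10_3) (@D3.rec (fun _ => (Cert rels S Gen.c)) lc_c_rc_19_2 lc_c_rc_22_2 lc_c_rc_21_2 lc_c_rc_2_1 lc_c_rc_23_2 lc_c_rc_19_2 lc_c_rc_19_2 lc_c_rc_22_2 lc_c_rc_23_2 lc_c_rc_18_2 lc_c_rc_19_2 lc_c_rc_19_2 lc_c_rc_22_2 lc_c_rc_18_2 lc_c_rc_23_2 lc_c_rc_19_2 lc_c_rc_18_2 lc_c_rc_21_2 lc_c_rc_19_2 lc_c_Cert_tree lc_c_rc_19_2 lc_c_rc_23_2 lc_c_rc_21_2 lc_c_Cert_tree lc_c_rc_23_2 lc_c_rc_17_0 lc_c_rc_23_2 lc_c_rc_10_3 lc_c_rc_10_3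 lc_c_rc_10_3 lc_c_Cert_tree lc_c_rc_10_3) (@D3.rec (fun _ => (Cert rels S Gen.c)) lc_c_rc_2_1 lc_c_rc_19_2 lc_c_rc_19_2 lc_c_rc_22_2 lc_c_rc_18_2 lc_c_rc_23_2 lc_c_rc_18_2 lc_c_rc_21_2 lc_c_rc_19_2 lc_c_Cert_tree lc_c_rc_18_2 lc_c_rc_20_2 lc_c_rc_21_2 lc_c_rc_19_2 lc_c_Cert_tree lc_c_rc_18_2 lc_c_rc_19_2 lc_c_rc_18_2 lc_c_Cert_tree lc_c_rc_17_0 lc_c_rc_17_0 lc_c_rc_10_3 lc_c_rc_17_0 lc_c_rc_21_2 lc_c_rc_20_2 lc_c_rc_2_1 lc_c_rc_21_2 lc_c_rc_20_2 lc_c_rc_19_2 lc_c_rc_10_3 lc_c_rc_21_2 lc_c_rc_23_2) (@D3.rec (fun _ => (Cert rels S Gen.c)) lc_c_rc_19_2 lc_c_rc_19_2 lc_c_rc_18_2 lc_c_rc_18_2 lc_c_rc_21_0 lc_c_rc_21_2 lc_c_rc_20_2 lc_c_rc_19_2 lc_c_rc_22_2 lc_c_rc_21_2 lc_c_rc_23_2 lc_c_rc_19_2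 lc_c_rc_22_2 lc_c_rc_21_2 lc_c_rc_18_2 lc_c_rc_23_2 lc_c_rc_19_2 lc_c_rc_19_2 lc_c_rc_22_2 lc_c_rc_23_2 lc_c_rc_20_2 lc_c_Cert_tree lc_c_rc_23_2 lc_c_rc_23_2 lc_c_rc_10_3 lc_c_rc_10_3 lc_c_rc_19_2 lc_c_rc_22_2 lc_c_rc_21_2 lc_c_rc_2_1 lc_c_rc_23_2 lc_c_rc_19_2) (@D3.rec (fun _ => (Cert rels S Gen.c)) lc_c_rc_19_2 lc_c_rc_22_2 lc_c_rc_23_2 lc_c_rc_18_2 lc_c_rc_19_2 lc_c_rc_19_2 lc_c_rc_22_2 lc_c_rc_18_2 lc_c_rc_23_2 lc_c_rc_19_2 lc_c_rc_18_2 lc_c_rc_21_2 lc_c_rc_19_2 lc_c_Cert_tree lc_c_rc_19_2 lc_c_rc_23_2 lc_c_rc_2_1 lc_c_rc_10_5 lc_c_rc_23_2 lc_c_rc_17_0 lc_c_rc_23_2 lc_c_rc_10_3 lc_c_rc_10_3 lc_c_rc_19_2 lc_c_rc_22_2 lc_c_rc_21_2 lc_c_rc_2_1 lc_c_rc_23_2 lc_c_rc_19_2 lc_c_rc_19_2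 lc_c_rc_22_2 lc_c_rc_23_2) (@D3.rec (fun _ => (Cert rels S Gen.c)) lc_c_rc_18_2 lc_c_rc_19_2 lc_c_rc_19_2 lc_c_rc_22_2 lc_c_rc_18_2 lc_c_rc_23_2 lc_c_rc_19_2 lc_c_rc_18_2 lc_c_rc_19_2 lc_c_Cert_tree lc_c_rc_19_2 lc_c_rc_23_2 lc_c_rc_23_2 lc_c_rc_18_4 lc_c_rc_10_3 lc_c_rc_2_3 lc_c_rc_10_3 lc_c_Cert_tree lc_c_rc_10_3 lc_c_rc_2_1 lc_c_rc_19_2 lc_c_rc_19_2 lc_c_rc_22_2 lc_c_rc_2_1 lc_c_rc_23_2 lc_c_rc_2_1 lc_c_rc_2_1 lc_c_rc_21_2 lc_c_rc_19_2 lc_c_Cert_tree lc_c_rc_19_2 lc_c_rc_23_2) (@D3.rec (fun _ => (Cert rels S Gen.c)) lc_c_rc_18_2 lc_c_rc_20_2 lc_c_rc_21_2 lc_c_rc_19_2 lc_c_Cert_tree lc_c_rc_19_2 lc_c_rc_18_2 lc_c_rc_23_2 lc_c_rc_19_2 lc_c_rc_18_2 lc_c_rc_21_2 lc_c_rc_19_2 lc_c_rc_20_2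 lc_c_rc_19_2 lc_c_rc_17_0 lc_c_rc_23_2 lc_c_rc_10_3 lc_c_rc_23_2 lc_c_rc_10_3 lc_c_rc_10_3 lc_c_rc_10_3 lc_c_Cert_tree lc_c_rc_10_3 lc_c_rc_2_1 lc_c_rc_19_2 lc_c_rc_19_2 lc_c_rc_2_1 lc_c_rc_2_1 lc_c_rc_18_2 lc_c_rc_20_2 lc_c_rc_18_2 lc_c_rc_19_2) (@D3.rec (fun _ => (Cert rels S Gen.c)) lc_c_Cert_tree lc_c_rc_10_3 lc_c_rc_10_3 lc_c_rc_2_1 lc_c_rc_2_1 lc_c_Cert_tree lc_c_rc_17_0 lc_c_rc_20_2 lc_c_Cert_tree lc_c_rc_23_2 lc_c_rc_17_0 lc_c_rc_10_3 lc_c_rc_2_1 lc_c_rc_20_2 lc_c_rc_19_2 lc_c_Cert_tree lc_c_rc_10_3 lc_c_rc_17_0 lc_c_rc_19_2 lc_c_rc_23_2 lc_c_Cert_tree lc_c_rc_19_2 lc_c_rc_2_1 lc_c_rc_23_2 lc_c_rc_2_1 lc_c_rc_2_1 lc_c_rc_2_1 lc_c_rc_2_1 lc_c_rc_2_1 lc_c_rc_17_0 lc_c_rc_23_2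 lc_c_rc_17_0) (@D3.rec (fun _ => (Cert rels S Gen.c)) lc_c_rc_19_2 lc_c_rc_23_2 lc_c_rc_19_2 lc_c_rc_18_2 lc_c_rc_21_2 lc_c_rc_19_2 lc_c_rc_20_2 lc_c_rc_22_2 lc_c_rc_21_2 lc_c_rc_20_2 lc_c_rc_10_3 lc_c_rc_23_2 lc_c_rc_2_1 lc_c_rc_10_3 lc_c_rc_2_3 lc_c_rc_2_1 lc_c_rc_17_0 lc_c_rc_10_3 lc_c_rc_21_2 lc_c_rc_20_2 lc_c_rc_18_2 lc_c_rc_10_3 lc_c_rc_10_3 lc_c_rc_19_2 lc_c_rc_22_2 lc_c_rc_21_2 lc_c_rc_2_1 lc_c_rc_23_2 lc_c_rc_18_2 lc_c_rc_20_0 lc_c_rc_19_2 lc_c_rc_46_16) (@D3.rec (fun _ => (Cert rels S Gen.c)) lc_c_rc_10_3 lc_c_rc_10_3 lc_c_rc_10_3 lc_c_Cert_tree lc_c_rc_10_3 lc_c_rc_2_1 lc_c_rc_19_2 lc_c_rc_19_2 lc_c_rc_22_2 lc_c_rc_2_1 lc_c_rc_23_2 lc_c_rc_2_1 lc_c_rc_2_1 lc_c_rc_18_2 lc_c_rc_20_2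 lc_c_rc_45_28 lc_c_rc_18_2 lc_c_rc_19_2 lc_c_rc_18_2 lc_c_rc_21_2 lc_c_rc_19_2 lc_c_rc_20_2 lc_c_rc_10_3 lc_c_rc_10_3 lc_c_rc_10_3 lc_c_Cert_tree lc_c_rc_10_3 lc_c_rc_2_1 lc_c_rc_2_1 lc_c_rc_2_1 lc_c_rc_2_1 lc_c_rc_20_2) (@D3.rec (fun _ => (Cert rels S Gen.c)) lc_c_rc_19_2 lc_c_rc_21_2 lc_c_rc_19_2 lc_c_rc_20_2 lc_c_Cert_tree lc_c_rc_10_3 lc_c_rc_10_3 lc_c_rc_10_3 lc_c_Cert_tree lc_c_rc_10_3 lc_c_rc_17_0 lc_c_rc_19_2 lc_c_rc_23_2 lc_c_rc_2_1 lc_c_rc_2_1 lc_c_rc_18_2 lc_c_rc_2_1 lc_c_rc_2_1 lc_c_rc_2_1 lc_c_rc_2_1 lc_c_rc_2_1 lc_c_rc_2_1 lc_c_rc_20_2 lc_c_rc_18_2 lc_c_rc_23_2 lc_c_rc_18_2 lc_c_rc_19_2 lc_c_rc_21_2 lc_c_rc_19_2 lc_c_rc_20_2 lc_c_rc_22_2 lc_c_rc_21_2) (@D3.rec (fun _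 => (Cert rels S Gen.c)) lc_c_rc_20_2 lc_c_Cert_tree lc_c_rc_10_3 lc_c_rc_10_3 lc_c_rc_10_3 lc_c_Cert_tree lc_c_rc_17_0 lc_c_rc_19_2 lc_c_rc_20_0 lc_c_rc_2_1 lc_c_rc_17_1 lc_c_rc_2_1 lc_c_rc_2_1 lc_c_rc_2_1 lc_c_rc_10_1 lc_c_rc_47_8 lc_c_rc_23_2 lc_c_rc_47_36 lc_c_rc_19_2 lc_c_rc_21_2 lc_c_rc_17_0 lc_c_rc_22_2 lc_c_rc_20_2 lc_c_rc_10_3 lc_c_rc_2_1 lc_c_rc_2_1 lc_c_rc_2_1 lc_c_rc_10_1 lc_c_rc_10_1 lc_c_rc_23_2 lc_c_Cert_tree lc_c_rc_10_3) (@D3.rec (fun _ => (Cert rels S Gen.c)) lc_c_rc_17_0 lc_c_rc_19_2 lc_c_rc_23_2 lc_c_rc_19_2 lc_c_rc_23_2 lc_c_rc_21_2 lc_c_rc_23_2 lc_c_rc_20_2 lc_c_rc_2_1 lc_c_rc_2_1 lc_c_rc_2_1 lc_c_rc_2_1 lc_c_rc_2_1 lc_c_rc_2_1 lc_c_rc_2_1 lc_c_rc_2_1 lc_c_rc_21_2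 lc_c_rc_2_3 lc_c_rc_47_8 lc_c_rc_22_2 lc_c_rc_21_2 lc_c_rc_20_2 lc_c_rc_22_2 lc_c_rc_21_2 lc_c_Cert_tree lc_c_rc_18_2 lc_c_rc_21_2 lc_c_rc_23_2 lc_c_rc_20_2 lc_c_rc_22_2 lc_c_rc_23_2 lc_c_rc_20_2) (@D3.rec (fun _ => (Cert rels S Gen.c)) lc_c_rc_2_1 lc_c_rc_2_1 lc_c_Cert_tree lc_c_rc_22_2 lc_c_rc_47_22 lc_c_rc_17_0 lc_c_Cert_tree lc_c_Cert_tree lc_c_rc_17_0 lc_c_rc_17_0 lc_c_rc_17_0 lc_c_rc_22_2 lc_c_rc_10_3 lc_c_rc_10_3 lc_c_Cert_tree lc_c_rc_17_0 lc_c_rc_19_2 lc_c_rc_18_2 lc_c_rc_19_2 lc_c_rc_22_2 lc_c_rc_21_2 lc_c_rc_19_2 lc_c_rc_10_3 lc_c_rc_10_3 lc_c_rc_19_2 lc_c_rc_21_2 lc_c_rc_2_1 lc_c_rc_23_2 lc_c_rc_19_2 lc_c_rc_23_2 lc_c_rc_18_2 lc_c_rc_19_2) (@D3.rec (fun _ => (Cert rels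 S Gen.c)) lc_c_rc_18_2 lc_c_rc_23_2 lc_c_rc_19_2 lc_c_rc_18_2 lc_c_Cert_tree lc_c_rc_19_2 lc_c_rc_10_5 lc_c_rc_10_3 lc_c_rc_10_3 lc_c_Cert_tree lc_c_rc_10_3 lc_c_rc_2_1 lc_c_rc_19_2 lc_c_rc_2_1 lc_c_rc_23_2 lc_c_rc_2_1 lc_c_rc_2_1 lc_c_rc_19_2 lc_c_rc_20_2 lc_c_rc_10_5 lc_c_rc_19_2 lc_c_rc_19_2 lc_c_rc_18_2 lc_c_rc_21_2 lc_c_rc_19_2 lc_c_rc_20_2 lc_c_Cert_tree lc_c_rc_2_1 lc_c_rc_23_2 lc_c_Cert_tree lc_c_rc_10_3 lc_c_rc_17_0) (@D3.rec (fun _ => (Cert rels S Gen.c)) lc_c_rc_19_2 lc_c_rc_23_2 lc_c_rc_2_1 lc_c_rc_2_1 lc_c_rc_2_1 lc_c_rc_2_1 lc_c_rc_2_1 lc_c_rc_21_2 lc_c_rc_19_2 lc_c_rc_20_2 lc_c_rc_22_2 lc_c_rc_21_2 lc_c_rc_20_2 lc_c_rc_10_3 lc_c_rc_21_2 lc_c_rc_20_2 lc_c_rc_19_2 lc_c_rc_22_2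 lc_c_rc_21_2 lc_c_rc_23_2 lc_c_rc_19_2 lc_c_rc_22_2 lc_c_rc_21_2 lc_c_rc_18_2 lc_c_rc_23_2 lc_c_rc_10_3 lc_c_rc_19_2 lc_c_rc_22_2 lc_c_rc_23_2 lc_c_rc_21_2 lc_c_rc_19_2 lc_c_Cert_tree) (@D3.rec (fun _ => (Cert rels S Gen.c)) lc_c_rc_19_2 lc_c_rc_18_2 lc_c_rc_20_0 lc_c_rc_21_0 lc_c_rc_19_2 lc_c_rc_22_2 lc_c_rc_21_2 lc_c_rc_2_1 lc_c_rc_23_2 lc_c_rc_19_2 lc_c_rc_19_2 lc_c_rc_22_2 lc_c_rc_23_2 lc_c_rc_18_2 lc_c_rc_19_2 lc_c_rc_19_2 lc_c_rc_22_2 lc_c_rc_18_2 lc_c_rc_23_2 lc_c_rc_19_2 lc_c_rc_18_2 lc_c_rc_21_2 lc_c_rc_19_2 lc_c_Cert_tree lc_c_rc_19_2 lc_c_rc_23_2 lc_c_rc_21_2 lc_c_Cert_tree lc_c_rc_23_2 lc_c_rc_17_0 lc_c_rc_23_2 lc_c_rc_10_3) (@D3.rec (fun _ => (Cert rels S Gen.c)) lc_c_rc_10_3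 lc_c_rc_10_3 lc_c_Cert_tree lc_c_rc_10_3 lc_c_rc_2_1 lc_c_rc_19_2 lc_c_rc_19_2 lc_c_rc_22_2 lc_c_rc_2_1 lc_c_rc_23_2 lc_c_rc_2_1 lc_c_rc_2_1 lc_c_rc_21_2 lc_c_rc_19_2 lc_c_Cert_tree lc_c_rc_19_2 lc_c_rc_23_2 lc_c_rc_18_2 lc_c_rc_20_2 lc_c_rc_21_2 lc_c_rc_19_2 lc_c_Cert_tree lc_c_rc_19_2 lc_c_rc_18_2 lc_c_rc_23_2 lc_c_rc_19_2 lc_c_rc_18_2 lc_c_rc_21_2 lc_c_rc_19_2 lc_c_rc_20_2 lc_c_rc_21_2 lc_c_Cert_tree)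
def ce_c_4 : D2 → D3 → (Cert rels S Gen.c) := @D2.rec (fun _ => D3 → (Cert rels S Gen.c)) (@D3.rec (fun _ => (Cert rels S Gen.c)) lc_c_rc_19_2 lc_c_rc_17_0 lc_c_rc_23_2 lc_c_rc_23_2 lc_c_rc_17_0 lc_c_rc_23_2 lc_c_rc_10_3 lc_c_rc_23_2 lc_c_Cert_tree lc_c_rc_10_3 lc_c_rc_10_3 lc_c_rc_19_0 lc_c_Cert_tree lc_c_rc_19_0 lc_c_rc_17_0 lc_c_rc_23_2 lc_c_rc_2_1 lc_c_rc_2_1 lc_c_rc_21_2 lc_c_rc_19_2 lc_c_Cert_tree lc_c_rc_18_2 lc_c_rc_19_2 lc_c_rc_18_2 lc_c_Cert_tree lc_c_rc_17_0 lc_c_rc_18_2 lc_c_rc_20_2 lc_c_Cert_tree lc_c_rc_23_2 lc_c_Cert_tree lc_c_rc_17_0) (@D3.rec (fun _ => (Cert rels S Gen.c)) lc_c_rc_19_2 lc_c_rc_19_2 lc_c_rc_19_2 lc_c_rc_17_0 lc_c_rc_10_3 lc_c_rc_10_3 lc_c_rc_2_1 lc_c_rc_10_3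 lc_c_rc_21_2 lc_c_rc_20_2 lc_c_rc_19_2 lc_c_rc_2_1 lc_c_rc_21_2 lc_c_rc_23_2 lc_c_rc_19_2 lc_c_rc_21_2 lc_c_rc_18_2 lc_c_rc_23_2 lc_c_rc_10_3 lc_c_rc_19_2 lc_c_rc_47_29 lc_c_rc_23_2 lc_c_rc_21_2 lc_c_rc_19_2 lc_c_Cert_tree lc_c_rc_19_2 lc_c_rc_18_2 lc_c_rc_20_0 lc_c_rc_21_0 lc_c_rc_19_2 lc_c_rc_22_2 lc_c_rc_21_2) (@D3.rec (fun _ => (Cert rels S Gen.c)) lc_c_rc_2_1 lc_c_rc_23_2 lc_c_rc_19_2 lc_c_rc_19_2 lc_c_rc_22_2 lc_c_rc_23_2 lc_c_rc_18_2 lc_c_rc_19_2 lc_c_rc_19_2 lc_c_rc_22_2 lc_c_rc_47_29 lc_c_rc_23_2 lc_c_rc_19_2 lc_c_rc_18_2 lc_c_rc_19_2 lc_c_Cert_tree lc_c_rc_19_2 lc_c_rc_23_2 lc_c_rc_18_2 lc_c_rc_23_2 lc_c_rc_17_0 lc_c_rc_23_2 lc_c_rc_10_3 lc_c_rc_20_0 lc_c_rc_10_3 lc_c_Cert_tree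 lc_c_rc_10_3 lc_c_rc_2_1 lc_c_rc_19_2 lc_c_rc_19_2 lc_c_rc_22_2 lc_c_rc_2_1) (@D3.rec (fun _ => (Cert rels S Gen.c)) lc_c_rc_23_2 lc_c_rc_2_1 lc_c_rc_2_1 lc_c_rc_21_2 lc_c_rc_19_2 lc_c_Cert_tree lc_c_rc_19_2 lc_c_rc_23_2 lc_c_rc_18_2 lc_c_rc_20_2 lc_c_rc_21_2 lc_c_rc_19_2 lc_c_Cert_tree lc_c_rc_19_2 lc_c_rc_18_2 lc_c_rc_23_2 lc_c_rc_19_2 lc_c_rc_18_2 lc_c_rc_21_2 lc_c_rc_19_2 lc_c_rc_20_2 lc_c_rc_21_2 lc_c_Cert_tree lc_c_rc_19_2 lc_c_rc_17_0 lc_c_rc_23_2 lc_c_rc_18_2 lc_c_rc_10_5 lc_c_rc_10_3 lc_c_rc_23_2 lc_c_rc_20_2 lc_c_rc_10_3) (@D3.rec (fun _ => (Cert rels S Gen.c)) lc_c_rc_10_3 lc_c_rc_10_3 lc_c_Cert_tree lc_c_rc_10_3 lc_c_rc_2_1 lc_c_rc_19_2 lc_c_rc_19_2 lc_c_rc_22_2 lc_c_rc_2_1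 lc_c_rc_23_2 lc_c_rc_2_1 lc_c_rc_2_1 lc_c_rc_19_2 lc_c_Cert_tree lc_c_rc_19_2 lc_c_rc_23_2 lc_c_rc_18_2 lc_c_rc_20_2 lc_c_rc_19_2 lc_c_Cert_tree lc_c_rc_19_2 lc_c_rc_18_2 lc_c_rc_23_2 lc_c_rc_19_2 lc_c_rc_18_2 lc_c_rc_21_2 lc_c_rc_19_2 lc_c_rc_20_2 lc_c_rc_19_2 lc_c_rc_17_0 lc_c_rc_23_2 lc_c_Cert_tree) (@D3.rec (fun _ => (Cert rels S Gen.c)) lc_c_rc_2_3 lc_c_rc_10_3 lc_c_rc_2_3 lc_c_Cert_tree lc_c_rc_10_3 lc_c_rc_17_0 lc_c_rc_19_2 lc_c_rc_23_2 lc_c_rc_2_1 lc_c_rc_2_1 lc_c_rc_21_2 lc_c_rc_19_2 lc_c_Cert_tree lc_c_rc_19_2 lc_c_rc_2_1 lc_c_rc_23_2 lc_c_rc_2_1 lc_c_rc_2_1 lc_c_rc_2_1 lc_c_rc_2_1 lc_c_rc_2_1 lc_c_rc_19_2 lc_c_rc_17_0 lc_c_rc_23_2 lc_c_rc_18_2 lc_c_rc_20_2 lc_c_Cert_tree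 lc_c_rc_23_2 lc_c_rc_10_5 lc_c_rc_19_2 lc_c_rc_17_0 lc_c_rc_19_2) (@D3.rec (fun _ => (Cert rels S Gen.c)) lc_c_rc_23_2 lc_c_rc_19_2 lc_c_rc_18_2 lc_c_rc_21_2 lc_c_rc_19_2 lc_c_rc_20_2 lc_c_rc_22_2 lc_c_rc_21_2 lc_c_rc_20_2 lc_c_rc_10_3 lc_c_rc_23_2 lc_c_rc_2_1 lc_c_rc_10_3 lc_c_Cert_tree lc_c_rc_10_3 lc_c_rc_10_3 lc_c_Cert_tree lc_c_rc_17_0 lc_c_rc_23_2 lc_c_rc_2_1 lc_c_rc_2_1 lc_c_rc_18_2 lc_c_rc_2_1 lc_c_rc_10_1 lc_c_rc_10_5 lc_c_rc_23_2 lc_c_rc_19_2 lc_c_rc_17_0 lc_c_rc_22_2 lc_c_rc_20_2 lc_c_Cert_tree lc_c_rc_2_1) (@D3.rec (fun _ => (Cert rels S Gen.c)) lc_c_Cert_tree lc_c_rc_2_1 lc_c_rc_17_0 lc_c_rc_17_0 lc_c_rc_23_2 lc_c_rc_17_0 lc_c_rc_23_2 lc_c_rc_10_3 lc_c_rc_2_1 lc_c_Cert_tree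 lc_c_rc_23_2 lc_c_Cert_tree lc_c_rc_23_2 lc_c_rc_17_0 lc_c_rc_19_2 lc_c_rc_23_2 lc_c_rc_19_2 lc_c_rc_23_2 lc_c_rc_21_2 lc_c_rc_23_2 lc_c_rc_20_2 lc_c_rc_17_0 lc_c_rc_19_2 lc_c_rc_23_2 lc_c_rc_2_1 lc_c_rc_2_1 lc_c_rc_2_1 lc_c_rc_2_1 lc_c_rc_2_1 lc_c_rc_2_1 lc_c_rc_2_1 lc_c_rc_2_1) (@D3.rec (fun _ => (Cert rels S Gen.c)) lc_c_rc_2_3 lc_c_rc_23_2 lc_c_rc_18_2 lc_c_rc_19_2 lc_c_rc_23_2 lc_c_rc_21_2 lc_c_rc_23_2 lc_c_rc_20_2 lc_c_rc_21_2 lc_c_rc_19_2 lc_c_rc_20_2 lc_c_rc_22_2 lc_c_rc_21_2 lc_c_rc_20_2 lc_c_rc_22_2 lc_c_rc_21_2 lc_c_Cert_tree lc_c_rc_2_1 lc_c_rc_10_3 lc_c_rc_2_1 lc_c_rc_21_0 lc_c_rc_10_3 lc_c_rc_10_3 lc_c_rc_10_3 lc_c_rc_2_1 lc_c_rc_19_2 lc_c_rc_10_3 lc_c_rc_10_3 lc_c_rc_10_3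 lc_c_Cert_tree lc_c_rc_10_3 lc_c_rc_2_1) (@D3.rec (fun _ => (Cert rels S Gen.c)) lc_c_rc_20_0 lc_c_rc_2_1 lc_c_rc_46_51 lc_c_rc_19_2 lc_c_rc_47_57 lc_c_rc_47_29 lc_c_Cert_tree lc_c_rc_10_3 lc_c_rc_10_3 lc_c_rc_10_3 lc_c_Cert_tree lc_c_rc_10_3 lc_c_rc_17_0 lc_c_rc_19_2 lc_c_rc_23_2 lc_c_rc_2_1 lc_c_rc_2_1 lc_c_rc_45_10 lc_c_rc_2_1 lc_c_rc_2_1 lc_c_rc_2_1 lc_c_rc_2_1 lc_c_rc_2_1 lc_c_rc_2_1 lc_c_rc_20_2 lc_c_rc_45_28 lc_c_rc_23_2 lc_c_rc_10_3 lc_c_rc_19_2 lc_c_rc_21_2 lc_c_rc_19_2 lc_c_rc_20_2) (@D3.rec (fun _ => (Cert rels S Gen.c)) lc_c_rc_22_2 lc_c_rc_21_2 lc_c_rc_20_2 lc_c_Cert_tree lc_c_Cert_tree lc_c_rc_17_0 lc_c_rc_19_2 lc_c_rc_23_2 lc_c_rc_2_1 lc_c_rc_2_1 lc_c_rc_2_1 lc_c_rc_2_1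 lc_c_rc_2_1 lc_c_rc_23_2 lc_c_rc_21_2 lc_c_rc_22_2 lc_c_rc_21_2 lc_c_rc_20_2 lc_c_rc_17_0 lc_c_rc_22_2 lc_c_rc_20_2 lc_c_Cert_tree lc_c_Cert_tree lc_c_rc_17_0 lc_c_rc_19_2 lc_c_rc_23_2 lc_c_rc_19_2 lc_c_rc_23_2 lc_c_rc_21_2 lc_c_rc_23_2 lc_c_rc_20_2 lc_c_rc_2_1) (@D3.rec (fun _ => (Cert rels S Gen.c)) lc_c_rc_18_2 lc_c_rc_2_1 lc_c_rc_18_2 lc_c_rc_2_1 lc_c_rc_2_1 lc_c_rc_2_1 lc_c_rc_2_1 lc_c_rc_2_1 lc_c_rc_2_1 lc_c_rc_2_1 lc_c_rc_23_2 lc_c_rc_19_2 lc_c_rc_18_2 lc_c_rc_18_2 lc_c_rc_21_2 lc_c_rc_22_2 lc_c_rc_21_2 lc_c_rc_20_2 lc_c_rc_22_2 lc_c_rc_21_2 lc_c_Cert_tree lc_c_rc_17_0 lc_c_rc_22_2 lc_c_rc_20_2 lc_c_Cert_tree lc_c_Cert_tree lc_c_rc_17_0 lc_c_rc_19_2 lc_c_rc_19_2 lc_c_rc_21_2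 lc_c_rc_2_1 lc_c_rc_2_1) (@D3.rec (fun _ => (Cert rels S Gen.c)) lc_c_rc_2_1 lc_c_rc_17_1 lc_c_rc_2_1 lc_c_rc_2_1 lc_c_rc_23_2 lc_c_rc_47_22 lc_c_rc_22_2 lc_c_rc_46_30 lc_c_rc_22_2 lc_c_rc_20_2 lc_c_rc_21_2 lc_c_rc_22_2 lc_c_rc_23_2 lc_c_rc_46_51 lc_c_rc_2_1 lc_c_rc_2_1 lc_c_rc_2_3 lc_c_rc_10_1 lc_c_rc_17_0 lc_c_rc_19_2 lc_c_rc_23_2 lc_c_rc_19_2 lc_c_rc_23_2 lc_c_rc_21_2 lc_c_rc_23_2 lc_c_rc_20_2 lc_c_rc_18_2 lc_c_rc_21_2 lc_c_rc_23_2 lc_c_rc_20_2 lc_c_rc_22_2 lc_c_rc_23_2) (@D3.rec (fun _ => (Cert rels S Gen.c)) lc_c_rc_20_2 lc_c_rc_2_1 lc_c_rc_10_5 lc_c_rc_2_1 lc_c_rc_2_1 lc_c_rc_2_1 lc_c_rc_2_1 lc_c_rc_2_1 lc_c_rc_2_1 lc_c_Cert_tree lc_c_rc_22_2 lc_c_rc_47_29 lc_c_rc_10_1 lc_c_rc_22_2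 lc_c_rc_21_2 lc_c_Cert_tree lc_c_rc_22_2 lc_c_rc_10_1 lc_c_rc_17_0 lc_c_rc_18_2 lc_c_rc_20_2 lc_c_rc_18_2 lc_c_rc_22_2 lc_c_rc_23_2 lc_c_rc_20_2 lc_c_rc_18_2 lc_c_rc_23_2 lc_c_rc_20_2 lc_c_Cert_tree lc_c_rc_2_1 lc_c_rc_17_1 lc_c_rc_17_0) (@D3.rec (fun _ => (Cert rels S Gen.c)) lc_c_rc_17_0 lc_c_rc_17_0 lc_c_rc_22_2 lc_c_rc_21_2 lc_c_rc_17_0 lc_c_rc_18_2 lc_c_rc_19_2 lc_c_rc_21_2 lc_c_rc_19_2 lc_c_rc_10_3 lc_c_rc_10_3 lc_c_Cert_tree lc_c_rc_10_3 lc_c_rc_2_1 lc_c_rc_19_2 lc_c_rc_2_1 lc_c_rc_23_2 lc_c_rc_2_1 lc_c_rc_2_1 lc_c_Cert_tree lc_c_rc_19_2 lc_c_rc_20_2 lc_c_Cert_tree lc_c_rc_19_2 lc_c_rc_19_2 lc_c_rc_18_2 lc_c_rc_21_2 lc_c_rc_19_2 lc_c_rc_20_2 lc_c_rc_17_0 lc_c_rc_23_2 lc_c_rc_20_2)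 (@D3.rec (fun _ => (Cert rels S Gen.c)) lc_c_Cert_tree lc_c_rc_10_3 lc_c_Cert_tree lc_c_rc_10_3 lc_c_rc_17_0 lc_c_rc_19_2 lc_c_rc_23_2 lc_c_rc_2_1 lc_c_rc_2_1 lc_c_rc_19_2 lc_c_rc_2_1 lc_c_rc_2_1 lc_c_rc_2_1 lc_c_rc_2_1 lc_c_rc_2_1 lc_c_rc_20_2 lc_c_rc_23_2 lc_c_rc_19_2 lc_c_rc_23_2 lc_c_rc_21_2 lc_c_rc_19_2 lc_c_rc_20_2 lc_c_rc_22_2 lc_c_rc_21_2 lc_c_rc_20_2 lc_c_rc_17_0 lc_c_rc_20_2 lc_c_rc_2_1 lc_c_rc_17_0 lc_c_rc_19_2 lc_c_rc_23_2 lc_c_rc_19_2) (@D3.rec (fun _ => (Cert rels S Gen.c)) lc_c_rc_23_2 lc_c_rc_21_2 lc_c_rc_23_2 lc_c_rc_20_2 lc_c_rc_2_1 lc_c_rc_2_1 lc_c_rc_2_1 lc_c_rc_2_1 lc_c_rc_2_1 lc_c_rc_2_1 lc_c_rc_22_2 lc_c_rc_21_2 lc_c_rc_20_2 lc_c_rc_22_2 lc_c_rc_21_2 lc_c_Cert_tree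 lc_c_rc_10_3 lc_c_rc_10_3 lc_c_rc_19_2 lc_c_rc_22_2 lc_c_rc_21_2 lc_c_rc_2_1 lc_c_rc_23_2 lc_c_rc_2_1 lc_c_rc_19_2 lc_c_rc_22_2 lc_c_rc_23_2 lc_c_rc_19_2 lc_c_rc_22_2 lc_c_rc_18_2 lc_c_rc_23_2 lc_c_rc_19_2) (@D3.rec (fun _ => (Cert rels S Gen.c)) lc_c_rc_18_2 lc_c_rc_47_50 lc_c_Cert_tree lc_c_rc_19_2 lc_c_rc_23_2 lc_c_rc_21_2 lc_c_Cert_tree lc_c_rc_19_2 lc_c_rc_17_0 lc_c_rc_23_2 lc_c_rc_20_0 lc_c_rc_22_2 lc_c_rc_19_0 lc_c_Cert_tree lc_c_rc_23_2 lc_c_rc_2_1 lc_c_rc_19_2 lc_c_rc_19_2 lc_c_rc_22_2 lc_c_rc_2_1 lc_c_rc_23_2 lc_c_rc_2_1 lc_c_rc_2_1 lc_c_rc_21_2 lc_c_rc_19_2 lc_c_Cert_tree lc_c_rc_19_2 lc_c_rc_23_2 lc_c_rc_18_2 lc_c_rc_20_2 lc_c_rc_21_2 lc_c_rc_19_2) (@D3.rec (fun _ => (Cert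 rels S Gen.c)) lc_c_Cert_tree lc_c_rc_19_2 lc_c_rc_18_2 lc_c_rc_23_2 lc_c_rc_19_2 lc_c_rc_18_2 lc_c_rc_21_2 lc_c_rc_19_2 lc_c_rc_20_2 lc_c_rc_21_2 lc_c_Cert_tree lc_c_rc_19_2 lc_c_rc_17_0 lc_c_rc_23_2 lc_c_rc_18_2 lc_c_rc_23_2 lc_c_rc_17_0 lc_c_rc_23_2 lc_c_rc_10_3 lc_c_rc_23_2 lc_c_rc_20_2 lc_c_Cert_tree lc_c_rc_10_3 lc_c_rc_46_9 lc_c_rc_10_3 lc_c_Cert_tree lc_c_rc_10_3 lc_c_rc_17_0 lc_c_rc_19_2 lc_c_rc_23_2 lc_c_rc_2_1 lc_c_rc_2_1) (@D3.rec (fun _ => (Cert rels S Gen.c)) lc_c_rc_21_2 lc_c_rc_19_2 lc_c_Cert_tree lc_c_rc_19_2 lc_c_rc_2_1 lc_c_rc_23_2 lc_c_rc_2_1 lc_c_rc_2_1 lc_c_rc_2_1 lc_c_rc_2_1 lc_c_rc_2_1 lc_c_rc_21_2 lc_c_Cert_tree lc_c_rc_19_2 lc_c_rc_17_0 lc_c_rc_23_2 lc_c_rc_18_2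 lc_c_rc_20_2 lc_c_Cert_tree lc_c_rc_23_2 lc_c_rc_21_2 lc_c_Cert_tree lc_c_rc_19_2 lc_c_rc_17_0 lc_c_rc_19_2 lc_c_rc_23_2 lc_c_rc_19_2 lc_c_rc_18_2 lc_c_rc_21_2 lc_c_rc_19_2 lc_c_rc_20_2 lc_c_rc_22_2) (@D3.rec (fun _ => (Cert rels S Gen.c)) lc_c_rc_21_2 lc_c_rc_20_2 lc_c_rc_21_2 lc_c_rc_17_0 lc_c_rc_23_2 lc_c_rc_10_3 lc_c_rc_23_2 lc_c_rc_10_3 lc_c_rc_23_2 lc_c_rc_2_1 lc_c_rc_10_3 lc_c_rc_17_0 lc_c_rc_22_2 lc_c_rc_20_2 lc_c_rc_10_3 lc_c_rc_10_3 lc_c_Cert_tree lc_c_Cert_tree lc_c_rc_17_0 lc_c_rc_19_2 lc_c_rc_23_2 lc_c_rc_23_2 lc_c_rc_2_1 lc_c_rc_2_1 lc_c_Cert_tree lc_c_rc_2_1 lc_c_Cert_tree lc_c_rc_17_0 lc_c_rc_19_2 lc_c_rc_19_2 lc_c_rc_19_2 lc_c_rc_17_0) (@D3.rec (fun _ => (Cert rels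 S Gen.c)) lc_c_rc_2_3 lc_c_rc_19_2 lc_c_rc_20_2 lc_c_Cert_tree lc_c_rc_23_2 lc_c_rc_17_0 lc_c_rc_19_2 lc_c_rc_23_2 lc_c_rc_17_0 lc_c_rc_19_2 lc_c_rc_10_3 lc_c_rc_19_2 lc_c_rc_10_3 lc_c_rc_2_1 lc_c_rc_2_1 lc_c_rc_10_3 lc_c_rc_10_3 lc_c_rc_19_2 lc_c_rc_21_2 lc_c_rc_2_1 lc_c_rc_23_2 lc_c_rc_2_1 lc_c_rc_19_2 lc_c_rc_2_1 lc_c_rc_23_2 lc_c_rc_19_2 lc_c_rc_23_2 lc_c_rc_19_2 lc_c_rc_18_2 lc_c_rc_10_3 lc_c_rc_47_29 lc_c_Cert_tree)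
def ce_c_5 : D2 → D3 → (Cert rels S Gen.c) := @D2.rec (fun _ => D3 → (Cert rels S Gen.c)) (@D3.rec (fun _ => (Cert rels S Gen.c)) lc_c_rc_19_2 lc_c_rc_22_2 lc_c_rc_21_2 lc_c_rc_19_2 lc_c_rc_19_2 lc_c_rc_17_0 lc_c_rc_23_2 lc_c_rc_20_0 lc_c_rc_22_2 lc_c_rc_19_0 lc_c_Cert_tree lc_c_rc_23_2 lc_c_rc_2_1 lc_c_rc_19_2 lc_c_rc_19_2 lc_c_rc_22_2 lc_c_rc_17_0 lc_c_rc_23_2 lc_c_rc_2_1 lc_c_rc_2_1 lc_c_rc_19_2 lc_c_Cert_tree lc_c_rc_19_2 lc_c_rc_23_2 lc_c_rc_20_2 lc_c_rc_19_2 lc_c_Cert_tree lc_c_rc_19_2 lc_c_rc_23_2 lc_c_rc_47_29 lc_c_rc_23_2 lc_c_rc_47_29) (@D3.rec (fun _ => (Cert rels S Gen.c)) lc_c_rc_19_2 lc_c_rc_47_15 lc_c_Cert_tree lc_c_rc_19_2 lc_c_rc_17_0 lc_c_rc_23_2 lc_c_rc_18_2 lc_c_rc_10_3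 lc_c_rc_23_2 lc_c_rc_20_2 lc_c_Cert_tree lc_c_rc_17_1 lc_c_rc_10_3 lc_c_rc_21_2 lc_c_Cert_tree lc_c_rc_10_3 lc_c_rc_17_0 lc_c_rc_19_2 lc_c_rc_23_2 lc_c_rc_2_1 lc_c_rc_2_1 lc_c_rc_21_2 lc_c_rc_19_2 lc_c_Cert_tree lc_c_rc_19_2 lc_c_rc_2_1 lc_c_rc_23_2 lc_c_rc_2_1 lc_c_rc_2_1 lc_c_rc_2_1 lc_c_rc_2_1 lc_c_rc_2_1) (@D3.rec (fun _ => (Cert rels S Gen.c)) lc_c_rc_21_2 lc_c_Cert_tree lc_c_rc_19_2 lc_c_rc_17_0 lc_c_rc_23_2 lc_c_rc_18_2 lc_c_rc_20_2 lc_c_Cert_tree lc_c_rc_23_2 lc_c_rc_21_2 lc_c_Cert_tree lc_c_rc_19_2 lc_c_rc_17_0 lc_c_rc_19_2 lc_c_rc_23_2 lc_c_rc_19_2 lc_c_rc_18_2 lc_c_rc_21_2 lc_c_rc_19_2 lc_c_rc_20_2 lc_c_rc_22_2 lc_c_rc_21_2 lc_c_rc_20_2 lc_c_rc_21_2 lc_c_rc_17_0 lc_c_rc_23_2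 lc_c_rc_10_3 lc_c_rc_23_2 lc_c_rc_20_2 lc_c_rc_20_2 lc_c_rc_2_1 lc_c_rc_10_3) (@D3.rec (fun _ => (Cert rels S Gen.c)) lc_c_rc_20_2 lc_c_Cert_tree lc_c_rc_10_3 lc_c_rc_10_3 lc_c_rc_10_3 lc_c_Cert_tree lc_c_rc_10_3 lc_c_rc_17_0 lc_c_rc_19_2 lc_c_rc_23_2 lc_c_rc_2_1 lc_c_rc_2_1 lc_c_rc_19_2 lc_c_Cert_tree lc_c_rc_19_2 lc_c_rc_2_1 lc_c_rc_23_2 lc_c_rc_2_1 lc_c_rc_2_1 lc_c_rc_2_1 lc_c_rc_2_1 lc_c_rc_2_1 lc_c_rc_19_2 lc_c_rc_17_0 lc_c_rc_23_2 lc_c_Cert_tree lc_c_rc_23_2 lc_c_rc_18_2 lc_c_rc_19_2 lc_c_rc_17_0 lc_c_rc_19_2 lc_c_rc_23_2) (@D3.rec (fun _ => (Cert rels S Gen.c)) lc_c_rc_18_2 lc_c_rc_21_2 lc_c_rc_19_2 lc_c_rc_20_2 lc_c_rc_22_2 lc_c_rc_21_2 lc_c_rc_20_2 lc_c_rc_23_2 lc_c_rc_17_0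 lc_c_rc_22_2 lc_c_rc_20_2 lc_c_rc_17_0 lc_c_rc_2_3 lc_c_Cert_tree lc_c_rc_10_3 lc_c_Cert_tree lc_c_rc_2_3 lc_c_rc_17_0 lc_c_rc_19_2 lc_c_rc_23_2 lc_c_rc_19_2 lc_c_rc_23_2 lc_c_rc_21_2 lc_c_rc_23_2 lc_c_rc_20_2 lc_c_rc_18_2 lc_c_rc_2_1 lc_c_Cert_tree lc_c_rc_2_1 lc_c_rc_2_1 lc_c_rc_19_2 lc_c_rc_17_0) (@D3.rec (fun _ => (Cert rels S Gen.c)) lc_c_rc_19_2 lc_c_rc_23_2 lc_c_rc_2_1 lc_c_rc_2_1 lc_c_rc_2_1 lc_c_rc_2_1 lc_c_rc_2_1 lc_c_rc_2_1 lc_c_rc_2_1 lc_c_rc_2_1 lc_c_rc_2_3 lc_c_rc_23_2 lc_c_rc_19_2 lc_c_rc_46_23 lc_c_rc_20_2 lc_c_rc_23_2 lc_c_rc_17_0 lc_c_rc_19_2 lc_c_rc_23_2 lc_c_rc_19_2 lc_c_rc_23_2 lc_c_rc_10_3 lc_c_rc_19_2 lc_c_rc_23_2 lc_c_rc_21_2 lc_c_rc_23_2 lc_c_rc_20_2 lc_c_rc_21_2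 lc_c_rc_19_2 lc_c_rc_20_2 lc_c_rc_22_2 lc_c_rc_21_2) (@D3.rec (fun _ => (Cert rels S Gen.c)) lc_c_rc_20_2 lc_c_rc_22_2 lc_c_rc_21_2 lc_c_Cert_tree lc_c_rc_2_1 lc_c_rc_10_3 lc_c_rc_2_1 lc_c_rc_17_0 lc_c_rc_22_2 lc_c_rc_20_2 lc_c_Cert_tree lc_c_rc_17_0 lc_c_rc_19_2 lc_c_rc_23_2 lc_c_rc_2_1 lc_c_rc_2_1 lc_c_rc_2_1 lc_c_rc_19_2 lc_c_rc_23_2 lc_c_rc_18_4 lc_c_rc_18_4 lc_c_rc_22_2 lc_c_rc_20_2 lc_c_rc_22_2 lc_c_Cert_tree lc_c_rc_23_2 lc_c_rc_17_0 lc_c_rc_2_1 lc_c_rc_17_0 lc_c_rc_23_2 lc_c_rc_10_3 lc_c_rc_20_0) (@D3.rec (fun _ => (Cert rels S Gen.c)) lc_c_rc_10_3 lc_c_rc_23_2 lc_c_rc_2_1 lc_c_rc_17_0 lc_c_rc_19_2 lc_c_rc_23_2 lc_c_rc_17_0 lc_c_rc_19_2 lc_c_rc_23_2 lc_c_rc_19_2 lc_c_rc_23_2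 lc_c_rc_21_2 lc_c_rc_23_2 lc_c_rc_20_2 lc_c_rc_18_2 lc_c_rc_21_2 lc_c_rc_23_2 lc_c_rc_20_2 lc_c_rc_22_2 lc_c_rc_23_2 lc_c_rc_20_2 lc_c_rc_10_3 lc_c_rc_19_2 lc_c_rc_23_2 lc_c_rc_21_2 lc_c_rc_23_2 lc_c_rc_20_2 lc_c_rc_2_1 lc_c_rc_2_1 lc_c_rc_2_1 lc_c_rc_2_1 lc_c_rc_2_1) (@D3.rec (fun _ => (Cert rels S Gen.c)) lc_c_rc_2_1 lc_c_rc_2_1 lc_c_rc_2_1 lc_c_Cert_tree lc_c_rc_19_0 lc_c_rc_2_3 lc_c_rc_2_1 lc_c_rc_19_2 lc_c_rc_18_2 lc_c_rc_21_2 lc_c_rc_23_2 lc_c_rc_20_2 lc_c_rc_22_2 lc_c_rc_23_2 lc_c_rc_20_2 lc_c_rc_22_2 lc_c_rc_21_2 lc_c_rc_20_2 lc_c_rc_22_2 lc_c_rc_21_2 lc_c_Cert_tree lc_c_rc_22_2 lc_c_rc_10_1 lc_c_rc_17_0 lc_c_rc_2_1 lc_c_Cert_tree lc_c_rc_2_1 lc_c_Cert_tree lc_c_Cert_tree lc_c_rc_17_0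 lc_c_rc_19_2 lc_c_rc_23_2) (@D3.rec (fun _ => (Cert rels S Gen.c)) lc_c_rc_19_2 lc_c_rc_17_0 lc_c_rc_10_5 lc_c_rc_47_29 lc_c_rc_17_0 lc_c_rc_22_2 lc_c_rc_20_2 lc_c_Cert_tree lc_c_Cert_tree lc_c_rc_17_0 lc_c_rc_19_2 lc_c_rc_23_2 lc_c_rc_19_2 lc_c_rc_23_2 lc_c_rc_21_2 lc_c_rc_23_2 lc_c_rc_20_2 lc_c_rc_2_1 lc_c_rc_2_1 lc_c_rc_2_1 lc_c_rc_47_22 lc_c_rc_2_1 lc_c_rc_2_1 lc_c_rc_2_1 lc_c_rc_2_1 lc_c_rc_2_1 lc_c_rc_2_1 lc_c_rc_2_1 lc_c_rc_2_3 lc_c_rc_10_3 lc_c_rc_21_2 lc_c_rc_22_2) (@D3.rec (fun _ => (Cert rels S Gen.c)) lc_c_rc_21_2 lc_c_rc_20_2 lc_c_rc_22_2 lc_c_rc_21_2 lc_c_Cert_tree lc_c_rc_17_0 lc_c_rc_20_2 lc_c_rc_17_0 lc_c_rc_19_2 lc_c_rc_19_2 lc_c_rc_23_2 lc_c_rc_21_2 lc_c_rc_23_2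 lc_c_rc_20_2 lc_c_rc_2_1 lc_c_rc_2_1 lc_c_rc_2_1 lc_c_rc_2_1 lc_c_rc_2_1 lc_c_rc_22_2 lc_c_rc_21_2 lc_c_Cert_tree lc_c_rc_22_2 lc_c_rc_20_2 lc_c_rc_22_2 lc_c_Cert_tree lc_c_rc_23_2 lc_c_rc_17_0 lc_c_rc_19_2 lc_c_rc_17_0 lc_c_rc_19_2 lc_c_rc_19_2) (@D3.rec (fun _ => (Cert rels S Gen.c)) lc_c_rc_23_2 lc_c_rc_21_2 lc_c_rc_23_2 lc_c_rc_20_2 lc_c_rc_18_2 lc_c_rc_21_2 lc_c_rc_23_2 lc_c_rc_20_2 lc_c_rc_22_2 lc_c_rc_23_2 lc_c_rc_20_2 lc_c_rc_2_1 lc_c_rc_19_2 lc_c_rc_18_2 lc_c_rc_18_2 lc_c_rc_2_1 lc_c_rc_2_1 lc_c_rc_2_1 lc_c_rc_2_1 lc_c_rc_2_1 lc_c_rc_2_1 lc_c_Cert_tree lc_c_rc_20_2 lc_c_rc_19_2 lc_c_rc_18_2 lc_c_rc_22_2 lc_c_rc_22_2 lc_c_rc_21_2 lc_c_Cert_tree lc_c_rc_22_2 lc_c_rc_47_29 lc_c_rc_17_0)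 (@D3.rec (fun _ => (Cert rels S Gen.c)) lc_c_rc_22_2 lc_c_rc_20_2 lc_c_rc_22_2 lc_c_Cert_tree lc_c_rc_23_2 lc_c_rc_17_0 lc_c_rc_17_1 lc_c_rc_17_0 lc_c_rc_19_2 lc_c_rc_19_2 lc_c_rc_18_2 lc_c_rc_18_2 lc_c_rc_21_2 lc_c_rc_23_2 lc_c_rc_2_1 lc_c_rc_22_2 lc_c_rc_2_1 lc_c_rc_20_2 lc_c_rc_22_2 lc_c_rc_21_2 lc_c_rc_22_2 lc_c_rc_18_2 lc_c_rc_23_2 lc_c_rc_19_2 lc_c_rc_21_2 lc_c_rc_23_2 lc_c_rc_46_9 lc_c_rc_2_1 lc_c_rc_10_1 lc_c_rc_19_2 lc_c_rc_23_2 lc_c_rc_21_2) (@D3.rec (fun _ => (Cert rels S Gen.c)) lc_c_rc_23_2 lc_c_rc_20_2 lc_c_rc_18_2 lc_c_rc_21_2 lc_c_rc_23_2 lc_c_rc_20_2 lc_c_rc_22_2 lc_c_rc_23_2 lc_c_rc_20_2 lc_c_rc_18_2 lc_c_rc_20_2 lc_c_rc_18_2 lc_c_rc_22_2 lc_c_rc_23_2 lc_c_rc_20_2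 lc_c_rc_18_2 lc_c_rc_23_2 lc_c_rc_20_2 lc_c_Cert_tree lc_c_rc_2_1 lc_c_rc_17_1 lc_c_rc_46_16 lc_c_rc_2_1 lc_c_rc_2_1 lc_c_Cert_tree lc_c_rc_2_1 lc_c_rc_46_37 lc_c_rc_17_0 lc_c_rc_47_22 lc_c_rc_47_22 lc_c_Cert_tree lc_c_rc_22_2) (@D3.rec (fun _ => (Cert rels S Gen.c)) lc_c_rc_18_4 lc_c_rc_17_0 lc_c_rc_19_2 lc_c_rc_18_2 lc_c_rc_20_2 lc_c_rc_18_2 lc_c_rc_23_2 lc_c_rc_20_2 lc_c_rc_23_2 lc_c_rc_20_2 lc_c_rc_18_4 lc_c_rc_19_2 lc_c_rc_20_2 lc_c_rc_10_1 lc_c_rc_17_0 lc_c_rc_2_1 lc_c_rc_21_2 lc_c_rc_19_2 lc_c_rc_19_2 lc_c_Cert_tree lc_c_rc_10_3 lc_c_Cert_tree lc_c_rc_10_3 lc_c_rc_17_0 lc_c_rc_19_2 lc_c_rc_23_2 lc_c_rc_2_1 lc_c_Cert_tree lc_c_rc_19_2 lc_c_rc_2_1 lc_c_rc_2_1 lc_c_rc_2_1) (@D3.rec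 (fun _ => (Cert rels S Gen.c)) lc_c_rc_2_1 lc_c_rc_2_1 lc_c_rc_17_0 lc_c_rc_23_2 lc_c_Cert_tree lc_c_rc_23_2 lc_c_rc_17_0 lc_c_rc_19_2 lc_c_rc_23_2 lc_c_rc_21_2 lc_c_rc_19_2 lc_c_rc_20_2 lc_c_rc_22_2 lc_c_rc_21_2 lc_c_rc_20_2 lc_c_rc_23_2 lc_c_rc_20_2 lc_c_rc_17_0 lc_c_rc_20_2 lc_c_Cert_tree lc_c_rc_10_3 lc_c_rc_17_0 lc_c_rc_19_2 lc_c_rc_23_2 lc_c_rc_19_2 lc_c_rc_23_2 lc_c_rc_21_2 lc_c_rc_23_2 lc_c_rc_20_2 lc_c_rc_2_1 lc_c_rc_2_1 lc_c_rc_2_1) (@D3.rec (fun _ => (Cert rels S Gen.c)) lc_c_rc_2_1 lc_c_rc_2_1 lc_c_rc_2_1 lc_c_rc_2_1 lc_c_rc_2_1 lc_c_rc_2_1 lc_c_rc_2_1 lc_c_rc_20_2 lc_c_rc_23_2 lc_c_rc_21_2 lc_c_rc_23_2 lc_c_rc_20_2 lc_c_rc_22_2 lc_c_rc_21_2 lc_c_rc_20_2 lc_c_rc_22_2 lc_c_rc_21_2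 lc_c_Cert_tree lc_c_rc_20_2 lc_c_rc_23_2 lc_c_rc_19_2 lc_c_rc_23_2 lc_c_rc_21_2 lc_c_rc_23_2 lc_c_rc_20_2 lc_c_rc_18_2 lc_c_rc_21_2 lc_c_rc_23_2 lc_c_rc_20_2 lc_c_rc_22_2 lc_c_rc_23_2 lc_c_rc_20_2) (@D3.rec (fun _ => (Cert rels S Gen.c)) lc_c_rc_2_1 lc_c_rc_2_1 lc_c_rc_2_1 lc_c_rc_2_1 lc_c_rc_2_1 lc_c_Cert_tree lc_c_rc_22_2 lc_c_rc_21_2 lc_c_Cert_tree lc_c_rc_22_2 lc_c_Cert_tree lc_c_rc_17_0 lc_c_rc_10_3 lc_c_rc_10_3 lc_c_Cert_tree lc_c_rc_10_3 lc_c_rc_19_2 lc_c_rc_22_2 lc_c_rc_2_1 lc_c_rc_23_2 lc_c_rc_2_1 lc_c_rc_2_1 lc_c_rc_10_3 lc_c_Cert_tree lc_c_rc_19_2 lc_c_rc_23_2 lc_c_rc_19_2 lc_c_rc_18_2 lc_c_rc_23_2 lc_c_rc_19_2 lc_c_rc_18_2 lc_c_rc_21_2) (@D3.rec (fun _ => (Cert rels S Gen.c))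 lc_c_rc_19_2 lc_c_rc_20_2 lc_c_rc_45_64 lc_c_rc_45_28 lc_c_rc_17_0 lc_c_rc_23_2 lc_c_Cert_tree lc_c_rc_21_2 lc_c_rc_17_0 lc_c_rc_23_2 lc_c_rc_10_3 lc_c_rc_23_2 lc_c_rc_20_2 lc_c_Cert_tree lc_c_rc_22_2 lc_c_rc_17_1 lc_c_rc_22_2 lc_c_Cert_tree lc_c_rc_23_2 lc_c_rc_17_0 lc_c_rc_19_2 lc_c_rc_23_2 lc_c_rc_2_1 lc_c_rc_2_1 lc_c_rc_21_2 lc_c_rc_19_2 lc_c_Cert_tree lc_c_rc_19_2 lc_c_rc_2_1 lc_c_rc_23_2 lc_c_rc_2_1 lc_c_rc_2_1) (@D3.rec (fun _ => (Cert rels S Gen.c)) lc_c_rc_2_1 lc_c_rc_2_1 lc_c_rc_2_1 lc_c_rc_21_2 lc_c_Cert_tree lc_c_rc_19_2 lc_c_rc_17_0 lc_c_rc_23_2 lc_c_rc_18_2 lc_c_rc_20_2 lc_c_Cert_tree lc_c_rc_23_2 lc_c_rc_21_2 lc_c_Cert_tree lc_c_rc_19_2 lc_c_rc_17_0 lc_c_rc_19_2 lc_c_rc_23_2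 lc_c_rc_18_2 lc_c_rc_18_2 lc_c_rc_21_2 lc_c_rc_19_2 lc_c_rc_20_2 lc_c_rc_22_2 lc_c_rc_21_2 lc_c_rc_20_2 lc_c_Cert_tree lc_c_rc_21_2 lc_c_rc_17_0 lc_c_rc_23_2 lc_c_rc_10_3 lc_c_rc_23_2) (@D3.rec (fun _ => (Cert rels S Gen.c)) lc_c_rc_20_2 lc_c_rc_19_2 lc_c_rc_18_2 lc_c_rc_10_3 lc_c_rc_23_2 lc_c_rc_20_2 lc_c_rc_2_1 lc_c_rc_10_3 lc_c_rc_20_2 lc_c_rc_17_0 lc_c_rc_22_2 lc_c_rc_20_2 lc_c_rc_2_3 lc_c_rc_10_3 lc_c_Cert_tree lc_c_rc_10_3 lc_c_Cert_tree lc_c_rc_10_3 lc_c_rc_17_0 lc_c_rc_19_2 lc_c_rc_23_2 lc_c_rc_19_2 lc_c_rc_23_2 lc_c_rc_21_2 lc_c_rc_23_2 lc_c_rc_20_2 lc_c_rc_2_1 lc_c_rc_2_1 lc_c_Cert_tree lc_c_rc_2_1 lc_c_rc_21_2 lc_c_Cert_tree) (@D3.rec (fun _ => (Cert rels S Gen.c)) lc_c_rc_19_2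 lc_c_rc_17_0 lc_c_rc_19_2 lc_c_rc_23_2 lc_c_rc_2_1 lc_c_rc_2_1 lc_c_rc_2_1 lc_c_rc_2_1 lc_c_rc_2_1 lc_c_rc_2_1 lc_c_rc_2_1 lc_c_rc_2_1 lc_c_rc_21_2 lc_c_rc_17_0 lc_c_rc_23_2 lc_c_rc_10_3 lc_c_rc_23_2 lc_c_rc_19_2 lc_c_rc_20_2 lc_c_Cert_tree lc_c_rc_23_2 lc_c_rc_17_0 lc_c_rc_19_2 lc_c_rc_23_2 lc_c_rc_18_2 lc_c_rc_21_2 lc_c_rc_17_0 lc_c_rc_19_2 lc_c_rc_23_2 lc_c_rc_10_3 lc_c_rc_19_2 lc_c_rc_23_2)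
def ce_c_6 : D2 → D3 → (Cert rels S Gen.c) := @D2.rec (fun _ => D3 → (Cert rels S Gen.c)) (@D3.rec (fun _ => (Cert rels S Gen.c)) lc_c_rc_21_2 lc_c_rc_23_2 lc_c_rc_20_2 lc_c_rc_21_2 lc_c_rc_19_2 lc_c_rc_20_2 lc_c_rc_22_2 lc_c_rc_21_2 lc_c_rc_20_2 lc_c_rc_22_2 lc_c_rc_21_2 lc_c_Cert_tree lc_c_rc_10_3 lc_c_rc_23_2 lc_c_rc_2_1 lc_c_rc_10_3 lc_c_rc_2_1 lc_c_rc_10_3 lc_c_rc_2_1 lc_c_rc_22_2 lc_c_rc_20_2 lc_c_rc_21_2 lc_c_rc_22_2 lc_c_Cert_tree lc_c_rc_23_2 lc_c_Cert_tree lc_c_rc_17_0 lc_c_rc_19_2 lc_c_rc_17_0 lc_c_rc_19_2 lc_c_rc_19_2 lc_c_rc_23_2) (@D3.rec (fun _ => (Cert rels S Gen.c)) lc_c_rc_23_2 lc_c_rc_2_1 lc_c_rc_2_1 lc_c_Cert_tree lc_c_rc_2_1 lc_c_rc_17_0 lc_c_rc_19_2 lc_c_rc_23_2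 lc_c_rc_17_0 lc_c_rc_19_2 lc_c_rc_10_3 lc_c_rc_19_2 lc_c_rc_17_0 lc_c_rc_17_1 lc_c_rc_20_2 lc_c_rc_23_2 lc_c_rc_17_0 lc_c_rc_10_1 lc_c_rc_23_2 lc_c_rc_10_3 lc_c_rc_19_2 lc_c_rc_23_2 lc_c_rc_23_2 lc_c_rc_2_1 lc_c_rc_2_1 lc_c_rc_10_3 lc_c_rc_10_3 lc_c_Cert_tree lc_c_rc_10_3 lc_c_rc_19_2 lc_c_rc_23_2 lc_c_rc_2_1) (@D3.rec (fun _ => (Cert rels S Gen.c)) lc_c_rc_2_1 lc_c_rc_2_1 lc_c_Cert_tree lc_c_rc_19_2 lc_c_rc_22_2 lc_c_rc_19_2 lc_c_rc_19_2 lc_c_rc_20_2 lc_c_Cert_tree lc_c_rc_22_2 lc_c_rc_17_0 lc_c_rc_23_2 lc_c_rc_21_2 lc_c_rc_21_2 lc_c_rc_19_2 lc_c_rc_10_3 lc_c_rc_23_2 lc_c_rc_20_2 lc_c_Cert_tree lc_c_rc_22_2 lc_c_rc_2_1 lc_c_rc_22_2 lc_c_Cert_tree lc_c_rc_23_2 lc_c_rc_17_0 lc_c_rc_19_2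 lc_c_rc_23_2 lc_c_rc_2_1 lc_c_rc_19_2 lc_c_Cert_tree lc_c_rc_19_2 lc_c_rc_23_2) (@D3.rec (fun _ => (Cert rels S Gen.c)) lc_c_rc_17_0 lc_c_rc_23_2 lc_c_rc_17_1 lc_c_rc_2_1 lc_c_rc_17_0 lc_c_Cert_tree lc_c_rc_19_2 lc_c_rc_17_0 lc_c_rc_23_2 lc_c_rc_21_2 lc_c_rc_23_2 lc_c_Cert_tree lc_c_rc_19_2 lc_c_rc_17_0 lc_c_rc_18_2 lc_c_rc_23_2 lc_c_rc_23_2 lc_c_rc_23_2 lc_c_rc_47_43 lc_c_rc_17_0 lc_c_rc_23_2 lc_c_rc_10_3 lc_c_rc_23_2 lc_c_rc_20_2 lc_c_rc_20_2 lc_c_rc_2_1 lc_c_rc_10_3 lc_c_rc_20_2 lc_c_rc_17_0 lc_c_rc_22_2 lc_c_rc_20_2 lc_c_rc_21_2) (@D3.rec (fun _ => (Cert rels S Gen.c)) lc_c_rc_18_0 lc_c_Cert_tree lc_c_rc_10_3 lc_c_Cert_tree lc_c_rc_23_2 lc_c_rc_17_0 lc_c_rc_19_2 lc_c_rc_23_2 lc_c_rc_19_2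 lc_c_rc_23_2 lc_c_rc_21_2 lc_c_rc_23_2 lc_c_rc_20_2 lc_c_rc_2_1 lc_c_rc_2_1 lc_c_Cert_tree lc_c_rc_2_1 lc_c_rc_21_2 lc_c_Cert_tree lc_c_rc_19_2 lc_c_rc_17_0 lc_c_rc_19_2 lc_c_rc_23_2 lc_c_rc_2_1 lc_c_rc_2_1 lc_c_rc_2_1 lc_c_rc_2_1 lc_c_rc_2_1 lc_c_rc_2_1 lc_c_rc_2_1 lc_c_rc_2_1 lc_c_rc_21_2) (@D3.rec (fun _ => (Cert rels S Gen.c)) lc_c_rc_17_0 lc_c_rc_23_2 lc_c_rc_10_3 lc_c_rc_23_2 lc_c_rc_20_2 lc_c_rc_20_2 lc_c_Cert_tree lc_c_rc_23_2 lc_c_rc_17_0 lc_c_rc_19_2 lc_c_rc_23_2 lc_c_rc_21_2 lc_c_rc_21_2 lc_c_rc_17_0 lc_c_rc_19_2 lc_c_rc_23_2 lc_c_rc_10_3 lc_c_rc_19_2 lc_c_rc_23_2 lc_c_rc_21_2 lc_c_rc_23_2 lc_c_rc_20_2 lc_c_rc_21_2 lc_c_rc_19_2 lc_c_rc_22_2 lc_c_rc_21_2 lc_c_rc_20_2 lc_c_rc_22_2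 lc_c_rc_21_2 lc_c_Cert_tree lc_c_rc_23_2 lc_c_rc_20_2) (@D3.rec (fun _ => (Cert rels S Gen.c)) lc_c_rc_2_1 lc_c_rc_10_3 lc_c_rc_20_2 lc_c_rc_2_1 lc_c_rc_10_3 lc_c_rc_17_0 lc_c_rc_22_2 lc_c_rc_20_2 lc_c_rc_10_3 lc_c_Cert_tree lc_c_rc_10_3 lc_c_Cert_tree lc_c_rc_10_3 lc_c_rc_17_0 lc_c_rc_19_2 lc_c_rc_23_2 lc_c_rc_19_2 lc_c_rc_23_2 lc_c_rc_21_2 lc_c_rc_23_2 lc_c_rc_20_2 lc_c_Cert_tree lc_c_rc_2_1 lc_c_rc_18_2 lc_c_rc_19_2 lc_c_rc_17_0 lc_c_rc_19_2 lc_c_rc_23_2 lc_c_rc_2_1 lc_c_rc_2_1 lc_c_rc_2_1 lc_c_rc_2_1) (@D3.rec (fun _ => (Cert rels S Gen.c)) lc_c_rc_2_1 lc_c_rc_2_1 lc_c_rc_2_1 lc_c_rc_10_3 lc_c_rc_23_2 lc_c_rc_17_0 lc_c_rc_23_2 lc_c_rc_18_2 lc_c_rc_19_2 lc_c_rc_23_2 lc_c_rc_21_2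 lc_c_rc_23_2 lc_c_rc_20_2 lc_c_rc_21_2 lc_c_rc_22_2 lc_c_rc_21_2 lc_c_Cert_tree lc_c_rc_22_2 lc_c_rc_20_2 lc_c_rc_21_2 lc_c_rc_22_2 lc_c_Cert_tree lc_c_rc_23_2 lc_c_Cert_tree lc_c_rc_2_3 lc_c_rc_17_0 lc_c_rc_19_2 lc_c_rc_23_2 lc_c_rc_17_0 lc_c_rc_19_2 lc_c_rc_23_2 lc_c_rc_19_2) (@D3.rec (fun _ => (Cert rels S Gen.c)) lc_c_rc_23_2 lc_c_rc_21_2 lc_c_rc_23_2 lc_c_rc_20_2 lc_c_rc_18_2 lc_c_rc_21_2 lc_c_rc_23_2 lc_c_rc_20_2 lc_c_rc_22_2 lc_c_rc_23_2 lc_c_rc_20_2 lc_c_rc_19_2 lc_c_rc_17_0 lc_c_rc_2_1 lc_c_rc_2_1 lc_c_rc_17_0 lc_c_rc_19_2 lc_c_rc_23_2 lc_c_rc_2_1 lc_c_rc_2_1 lc_c_rc_10_3 lc_c_rc_19_2 lc_c_rc_23_2 lc_c_rc_21_2 lc_c_rc_23_2 lc_c_rc_20_2 lc_c_rc_2_1 lc_c_rc_2_1 lc_c_rc_2_1 lc_c_rc_2_1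 lc_c_rc_2_1 lc_c_rc_2_1) (@D3.rec (fun _ => (Cert rels S Gen.c)) lc_c_rc_2_1 lc_c_rc_2_1 lc_c_Cert_tree lc_c_rc_22_2 lc_c_rc_2_3 lc_c_rc_19_2 lc_c_rc_18_2 lc_c_rc_20_2 lc_c_rc_23_2 lc_c_rc_10_3 lc_c_rc_19_2 lc_c_rc_23_2 lc_c_rc_21_2 lc_c_rc_23_2 lc_c_rc_20_2 lc_c_rc_21_2 lc_c_rc_23_2 lc_c_rc_20_2 lc_c_rc_2_1 lc_c_rc_10_3 lc_c_rc_10_3 lc_c_rc_21_2 lc_c_rc_23_2 lc_c_rc_20_2 lc_c_rc_22_2 lc_c_rc_23_2 lc_c_rc_20_2 lc_c_rc_22_2 lc_c_rc_21_2 lc_c_rc_20_2 lc_c_rc_22_2 lc_c_rc_21_2) (@D3.rec (fun _ => (Cert rels S Gen.c)) lc_c_Cert_tree lc_c_rc_22_2 lc_c_rc_47_22 lc_c_rc_17_0 lc_c_rc_2_1 lc_c_rc_22_2 lc_c_rc_20_2 lc_c_rc_22_2 lc_c_Cert_tree lc_c_rc_23_2 lc_c_rc_17_0 lc_c_rc_19_2 lc_c_rc_19_2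 lc_c_rc_23_2 lc_c_rc_19_2 lc_c_rc_18_4 lc_c_rc_19_2 lc_c_rc_22_2 lc_c_Cert_tree lc_c_rc_23_2 lc_c_rc_23_2 lc_c_rc_17_0 lc_c_rc_23_2 lc_c_rc_10_3 lc_c_rc_10_3 lc_c_rc_23_2 lc_c_rc_2_1 lc_c_rc_2_1 lc_c_rc_10_3 lc_c_rc_10_3 lc_c_rc_19_2 lc_c_rc_23_2) (@D3.rec (fun _ => (Cert rels S Gen.c)) lc_c_rc_21_2 lc_c_rc_23_2 lc_c_rc_20_2 lc_c_rc_19_2 lc_c_rc_23_2 lc_c_rc_21_2 lc_c_rc_23_2 lc_c_rc_20_2 lc_c_rc_18_2 lc_c_rc_21_2 lc_c_rc_23_2 lc_c_rc_20_2 lc_c_rc_22_2 lc_c_rc_23_2 lc_c_rc_20_2 lc_c_rc_18_2 lc_c_rc_20_2 lc_c_rc_18_2 lc_c_rc_22_2 lc_c_rc_23_2 lc_c_rc_20_2 lc_c_rc_18_2 lc_c_rc_23_2 lc_c_rc_20_2 lc_c_Cert_tree lc_c_rc_2_1 lc_c_rc_10_3 lc_c_rc_10_3 lc_c_rc_21_2 lc_c_rc_23_2 lc_c_rc_20_2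 lc_c_rc_22_2) (@D3.rec (fun _ => (Cert rels S Gen.c)) lc_c_rc_23_2 lc_c_rc_20_2 lc_c_rc_2_1 lc_c_rc_2_1 lc_c_rc_2_1 lc_c_rc_2_1 lc_c_rc_2_1 lc_c_Cert_tree lc_c_rc_2_1 lc_c_rc_2_1 lc_c_rc_17_0 lc_c_rc_23_2 lc_c_rc_2_1 lc_c_rc_2_1 lc_c_rc_21_2 lc_c_rc_19_2 lc_c_rc_20_2 lc_c_rc_22_2 lc_c_rc_23_2 lc_c_rc_20_2 lc_c_rc_23_2 lc_c_rc_20_2 lc_c_Cert_tree lc_c_rc_22_2 lc_c_rc_21_2 lc_c_Cert_tree lc_c_rc_22_2 lc_c_rc_23_2 lc_c_rc_17_0 lc_c_rc_17_0 lc_c_rc_19_2 lc_c_rc_17_0) (@D3.rec (fun _ => (Cert rels S Gen.c)) lc_c_rc_17_0 lc_c_rc_19_2 lc_c_rc_23_2 lc_c_rc_21_2 lc_c_rc_23_2 lc_c_rc_20_2 lc_c_rc_46_23 lc_c_rc_46_30 lc_c_rc_22_2 lc_c_rc_20_2 lc_c_rc_22_2 lc_c_Cert_tree lc_c_rc_23_2 lc_c_rc_17_0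 lc_c_rc_19_2 lc_c_rc_17_0 lc_c_rc_19_2 lc_c_rc_19_2 lc_c_rc_23_2 lc_c_rc_21_2 lc_c_rc_23_2 lc_c_rc_20_2 lc_c_rc_18_2 lc_c_rc_21_2 lc_c_rc_23_2 lc_c_rc_20_2 lc_c_rc_22_2 lc_c_rc_23_2 lc_c_rc_20_2 lc_c_rc_17_0 lc_c_rc_2_1 lc_c_rc_2_1) (@D3.rec (fun _ => (Cert rels S Gen.c)) lc_c_rc_2_1 lc_c_rc_2_1 lc_c_rc_2_1 lc_c_rc_2_1 lc_c_rc_2_1 lc_c_Cert_tree lc_c_rc_47_15 lc_c_rc_46_23 lc_c_rc_22_2 lc_c_rc_22_2 lc_c_rc_21_2 lc_c_rc_22_2 lc_c_rc_10_3 lc_c_rc_17_0 lc_c_rc_20_2 lc_c_rc_23_2 lc_c_rc_19_2 lc_c_rc_21_2 lc_c_rc_18_2 lc_c_rc_21_2 lc_c_rc_23_2 lc_c_rc_20_2 lc_c_rc_22_2 lc_c_rc_23_2 lc_c_rc_20_2 lc_c_rc_2_1 lc_c_rc_2_1 lc_c_Cert_tree lc_c_rc_22_2 lc_c_rc_10_1 lc_c_rc_17_0 lc_c_rc_22_2) (@D3.rec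 (fun _ => (Cert rels S Gen.c)) lc_c_Cert_tree lc_c_rc_23_2 lc_c_rc_23_2 lc_c_rc_17_0 lc_c_rc_19_2 lc_c_rc_23_2 lc_c_rc_19_2 lc_c_rc_21_2 lc_c_rc_19_2 lc_c_rc_21_2 lc_c_rc_18_2 lc_c_rc_21_2 lc_c_rc_23_2 lc_c_rc_20_2 lc_c_rc_22_2 lc_c_rc_23_2 lc_c_rc_20_2 lc_c_rc_18_2 lc_c_rc_20_2 lc_c_rc_18_2 lc_c_rc_22_2 lc_c_rc_23_2 lc_c_rc_20_2 lc_c_rc_18_2 lc_c_rc_23_2 lc_c_rc_20_2 lc_c_Cert_tree lc_c_rc_20_2 lc_c_rc_19_2 lc_c_rc_18_2 lc_c_rc_2_1 lc_c_rc_2_1) (@D3.rec (fun _ => (Cert rels S Gen.c)) lc_c_rc_2_1 lc_c_Cert_tree lc_c_rc_2_1 lc_c_rc_2_1 lc_c_rc_17_0 lc_c_rc_20_2 lc_c_rc_21_2 lc_c_rc_22_2 lc_c_rc_17_1 lc_c_rc_17_0 lc_c_rc_22_2 lc_c_Cert_tree lc_c_rc_23_2 lc_c_rc_23_2 lc_c_rc_17_0 lc_c_rc_2_3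 lc_c_rc_23_2 lc_c_rc_19_2 lc_c_rc_17_1 lc_c_rc_22_2 lc_c_rc_23_2 lc_c_rc_19_2 lc_c_rc_21_2 lc_c_rc_18_2 lc_c_rc_23_2 lc_c_rc_19_2 lc_c_rc_18_2 lc_c_rc_18_2 lc_c_rc_21_2 lc_c_rc_2_1 lc_c_rc_18_2 lc_c_rc_21_2) (@D3.rec (fun _ => (Cert rels S Gen.c)) lc_c_rc_23_2 lc_c_rc_20_2 lc_c_rc_22_2 lc_c_rc_23_2 lc_c_rc_20_2 lc_c_rc_18_2 lc_c_rc_20_2 lc_c_rc_18_2 lc_c_rc_22_2 lc_c_rc_23_2 lc_c_rc_20_2 lc_c_rc_18_2 lc_c_rc_23_2 lc_c_rc_20_2 lc_c_Cert_tree lc_c_rc_19_2 lc_c_rc_18_2 lc_c_rc_20_2 lc_c_rc_18_2 lc_c_rc_23_2 lc_c_rc_20_2 lc_c_rc_23_2 lc_c_rc_20_2 lc_c_rc_18_4 lc_c_rc_19_2 lc_c_rc_20_2 lc_c_rc_46_23 lc_c_rc_17_0 lc_c_rc_2_1 lc_c_rc_46_16 lc_c_Cert_tree lc_c_rc_2_1) (@D3.rec (fun _ => (Cert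 rels S Gen.c)) lc_c_rc_18_4 lc_c_rc_17_0 lc_c_rc_2_1 lc_c_rc_47_29 lc_c_rc_47_29 lc_c_rc_17_0 lc_c_rc_19_2 lc_c_rc_18_2 lc_c_rc_23_2 lc_c_rc_20_2 lc_c_rc_23_2 lc_c_rc_20_2 lc_c_rc_19_2 lc_c_rc_17_0 lc_c_rc_20_2 lc_c_Cert_tree lc_c_rc_10_3 lc_c_rc_17_0 lc_c_rc_19_2 lc_c_rc_23_2 lc_c_rc_19_2 lc_c_rc_23_2 lc_c_rc_21_2 lc_c_rc_23_2 lc_c_rc_20_2 lc_c_Cert_tree lc_c_rc_2_1 lc_c_rc_17_0 lc_c_rc_19_2 lc_c_rc_23_2 lc_c_rc_2_1 lc_c_rc_2_1) (@D3.rec (fun _ => (Cert rels S Gen.c)) lc_c_rc_2_1 lc_c_rc_2_1 lc_c_rc_2_1 lc_c_rc_2_1 lc_c_rc_10_3 lc_c_rc_23_2 lc_c_rc_20_2 lc_c_rc_17_0 lc_c_rc_19_2 lc_c_rc_23_2 lc_c_rc_19_2 lc_c_rc_23_2 lc_c_rc_21_2 lc_c_rc_23_2 lc_c_rc_20_2 lc_c_rc_22_2 lc_c_rc_21_2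 lc_c_rc_20_2 lc_c_rc_22_2 lc_c_rc_21_2 lc_c_Cert_tree lc_c_rc_20_2 lc_c_rc_20_2 lc_c_Cert_tree lc_c_rc_23_2 lc_c_rc_17_0 lc_c_rc_19_2 lc_c_rc_23_2 lc_c_rc_19_2 lc_c_rc_23_2 lc_c_rc_21_2 lc_c_rc_23_2) (@D3.rec (fun _ => (Cert rels S Gen.c)) lc_c_rc_20_2 lc_c_rc_18_2 lc_c_rc_21_2 lc_c_rc_23_2 lc_c_rc_20_2 lc_c_rc_22_2 lc_c_rc_23_2 lc_c_rc_20_2 lc_c_rc_2_1 lc_c_rc_2_1 lc_c_rc_2_1 lc_c_rc_2_1 lc_c_rc_20_2 lc_c_rc_2_1 lc_c_rc_2_1 lc_c_rc_2_1 lc_c_rc_2_1 lc_c_rc_2_1 lc_c_Cert_tree lc_c_rc_21_2 lc_c_rc_19_2 lc_c_rc_20_2 lc_c_rc_22_2 lc_c_rc_23_2 lc_c_rc_20_2 lc_c_rc_22_2 lc_c_rc_21_2 lc_c_Cert_tree lc_c_rc_22_2 lc_c_Cert_tree lc_c_rc_17_0 lc_c_rc_10_5) (@D3.rec (fun _ => (Cert rels S Gen.c))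 lc_c_rc_23_2 lc_c_rc_46_37 lc_c_rc_21_2 lc_c_rc_23_2 lc_c_rc_20_2 lc_c_rc_22_2 lc_c_rc_23_2 lc_c_rc_20_2 lc_c_rc_18_2 lc_c_rc_20_2 lc_c_rc_18_2 lc_c_rc_22_2 lc_c_rc_23_2 lc_c_rc_20_2 lc_c_rc_18_2 lc_c_rc_23_2 lc_c_rc_20_2 lc_c_Cert_tree lc_c_rc_2_1 lc_c_rc_2_1 lc_c_Cert_tree lc_c_rc_2_1 lc_c_Cert_tree lc_c_rc_17_0 lc_c_rc_22_2 lc_c_Cert_tree lc_c_rc_17_0 lc_c_Cert_tree lc_c_rc_17_0 lc_c_rc_19_2 lc_c_rc_10_3 lc_c_rc_10_3)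
def ce_c_7 : D2 → D3 → (Cert rels S Gen.c) := @D2.rec (fun _ => D3 → (Cert rels S Gen.c)) (@D3.rec (fun _ => (Cert rels S Gen.c)) lc_c_rc_21_2 lc_c_rc_10_3 lc_c_rc_17_0 lc_c_rc_19_2 lc_c_rc_23_2 lc_c_rc_19_2 lc_c_rc_2_1 lc_c_rc_23_2 lc_c_rc_2_1 lc_c_rc_2_1 lc_c_rc_2_1 lc_c_rc_2_1 lc_c_rc_2_1 lc_c_rc_47_36 lc_c_rc_17_0 lc_c_rc_17_0 lc_c_rc_23_2 lc_c_rc_18_2 lc_c_rc_21_2 lc_c_rc_19_2 lc_c_rc_20_2 lc_c_rc_22_2 lc_c_rc_21_2 lc_c_rc_20_2 lc_c_rc_17_0 lc_c_rc_10_3 lc_c_rc_23_2 lc_c_rc_20_2 lc_c_rc_17_0 lc_c_rc_21_2 lc_c_rc_23_2 lc_c_rc_46_44) (@D3.rec (fun _ => (Cert rels S Gen.c)) lc_c_rc_23_2 lc_c_rc_20_2 lc_c_rc_2_1 lc_c_rc_10_3 lc_c_rc_20_2 lc_c_rc_17_0 lc_c_rc_21_0 lc_c_rc_20_2 lc_c_rc_17_1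 lc_c_rc_22_2 lc_c_Cert_tree lc_c_rc_23_2 lc_c_rc_18_2 lc_c_rc_23_2 lc_c_rc_17_0 lc_c_rc_19_2 lc_c_rc_23_2 lc_c_rc_19_2 lc_c_rc_23_2 lc_c_rc_21_2 lc_c_rc_23_2 lc_c_rc_20_2 lc_c_rc_2_1 lc_c_rc_2_1 lc_c_Cert_tree lc_c_rc_2_1 lc_c_rc_21_2 lc_c_Cert_tree lc_c_rc_19_2 lc_c_rc_17_0 lc_c_rc_19_2 lc_c_rc_23_2) (@D3.rec (fun _ => (Cert rels S Gen.c)) lc_c_rc_18_2 lc_c_rc_2_1 lc_c_rc_2_1 lc_c_rc_2_1 lc_c_rc_2_1 lc_c_rc_2_1 lc_c_rc_2_1 lc_c_rc_2_1 lc_c_Cert_tree lc_c_rc_21_2 lc_c_rc_17_0 lc_c_rc_23_2 lc_c_rc_10_3 lc_c_rc_23_2 lc_c_rc_20_2 lc_c_rc_20_2 lc_c_Cert_tree lc_c_rc_23_2 lc_c_rc_17_0 lc_c_rc_19_2 lc_c_rc_23_2 lc_c_Cert_tree lc_c_rc_21_2 lc_c_rc_17_0 lc_c_rc_45_64 lc_c_rc_23_2 lc_c_rc_10_3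 lc_c_rc_19_2 lc_c_rc_23_2 lc_c_rc_21_2 lc_c_rc_23_2 lc_c_rc_20_2) (@D3.rec (fun _ => (Cert rels S Gen.c)) lc_c_rc_23_2 lc_c_rc_20_2 lc_c_rc_45_37 lc_c_rc_21_2 lc_c_rc_20_2 lc_c_rc_22_2 lc_c_rc_21_2 lc_c_Cert_tree lc_c_rc_17_0 lc_c_rc_45_64 lc_c_rc_23_2 lc_c_rc_10_3 lc_c_rc_23_2 lc_c_rc_20_2 lc_c_rc_2_1 lc_c_rc_10_3 lc_c_rc_20_2 lc_c_rc_19_2 lc_c_rc_20_2 lc_c_rc_2_1 lc_c_rc_10_3 lc_c_rc_20_2 lc_c_rc_2_1 lc_c_rc_10_3 lc_c_rc_22_2 lc_c_rc_20_2 lc_c_rc_21_2 lc_c_rc_22_2 lc_c_Cert_tree lc_c_rc_23_2 lc_c_rc_17_1 lc_c_Cert_tree) (@D3.rec (fun _ => (Cert rels S Gen.c)) lc_c_rc_10_3 lc_c_rc_17_0 lc_c_rc_19_2 lc_c_rc_23_2 lc_c_rc_17_0 lc_c_rc_19_2 lc_c_rc_23_2 lc_c_rc_19_2 lc_c_rc_23_2 lc_c_rc_21_2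 lc_c_rc_23_2 lc_c_rc_20_2 lc_c_rc_18_2 lc_c_rc_21_2 lc_c_rc_23_2 lc_c_rc_20_2 lc_c_rc_22_2 lc_c_rc_23_2 lc_c_rc_20_2 lc_c_rc_2_1 lc_c_rc_2_1 lc_c_Cert_tree lc_c_rc_2_1 lc_c_rc_17_0 lc_c_rc_19_2 lc_c_rc_23_2 lc_c_rc_18_2 lc_c_rc_21_2 lc_c_rc_17_0 lc_c_rc_19_2 lc_c_rc_23_2 lc_c_rc_10_3) (@D3.rec (fun _ => (Cert rels S Gen.c)) lc_c_rc_19_2 lc_c_rc_23_2 lc_c_rc_21_2 lc_c_rc_23_2 lc_c_rc_20_2 lc_c_rc_2_1 lc_c_rc_2_1 lc_c_rc_2_1 lc_c_rc_2_1 lc_c_rc_2_1 lc_c_rc_2_1 lc_c_rc_2_1 lc_c_rc_2_1 lc_c_Cert_tree lc_c_rc_2_3 lc_c_rc_23_2 lc_c_rc_21_2 lc_c_rc_10_3 lc_c_rc_20_2 lc_c_rc_18_2 lc_c_rc_23_2 lc_c_rc_17_0 lc_c_rc_21_2 lc_c_rc_23_2 lc_c_rc_10_3 lc_c_rc_19_2 lc_c_rc_23_2 lc_c_rc_21_2 lc_c_rc_23_2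 lc_c_rc_20_2 lc_c_rc_21_0 lc_c_rc_18_2) (@D3.rec (fun _ => (Cert rels S Gen.c)) lc_c_rc_10_3 lc_c_rc_19_2 lc_c_rc_23_2 lc_c_rc_19_2 lc_c_rc_23_2 lc_c_rc_20_2 lc_c_rc_2_1 lc_c_rc_10_3 lc_c_rc_10_3 lc_c_rc_21_2 lc_c_rc_23_2 lc_c_rc_20_2 lc_c_rc_22_2 lc_c_rc_23_2 lc_c_rc_20_2 lc_c_rc_22_2 lc_c_rc_21_2 lc_c_rc_20_2 lc_c_rc_22_2 lc_c_rc_21_2 lc_c_Cert_tree lc_c_rc_22_2 lc_c_rc_17_1 lc_c_rc_17_0 lc_c_rc_2_1 lc_c_rc_10_3 lc_c_rc_2_1 lc_c_rc_2_1 lc_c_rc_21_2 lc_c_rc_22_2 lc_c_Cert_tree lc_c_rc_23_2) (@D3.rec (fun _ => (Cert rels S Gen.c)) lc_c_rc_19_2 lc_c_rc_21_2 lc_c_Cert_tree lc_c_rc_23_2 lc_c_rc_17_0 lc_c_rc_19_2 lc_c_rc_23_2 lc_c_rc_17_0 lc_c_rc_19_2 lc_c_rc_10_3 lc_c_rc_19_2 lc_c_rc_19_2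 lc_c_rc_18_2 lc_c_rc_23_2 lc_c_rc_2_1 lc_c_rc_2_1 lc_c_rc_17_0 lc_c_rc_2_1 lc_c_rc_23_2 lc_c_rc_10_3 lc_c_rc_19_2 lc_c_rc_23_2 lc_c_rc_23_2 lc_c_rc_10_3 lc_c_rc_2_1 lc_c_rc_10_3 lc_c_rc_22_2 lc_c_rc_23_2 lc_c_rc_23_2 lc_c_rc_23_2 lc_c_rc_2_1 lc_c_rc_10_3) (@D3.rec (fun _ => (Cert rels S Gen.c)) lc_c_rc_23_2 lc_c_rc_10_3 lc_c_rc_10_3 lc_c_rc_17_0 lc_c_rc_19_2 lc_c_rc_23_2 lc_c_rc_19_2 lc_c_rc_2_1 lc_c_Cert_tree lc_c_rc_22_2 lc_c_rc_17_0 lc_c_rc_23_2 lc_c_rc_45_46 lc_c_rc_23_2 lc_c_rc_17_0 lc_c_rc_23_2 lc_c_rc_10_3 lc_c_rc_23_2 lc_c_rc_20_2 lc_c_rc_21_2 lc_c_rc_20_2 lc_c_rc_2_1 lc_c_rc_10_3 lc_c_rc_20_2 lc_c_rc_17_0 lc_c_rc_20_2 lc_c_rc_22_2 lc_c_Cert_tree lc_c_rc_23_2 lc_c_rc_23_2 lc_c_rc_17_0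 lc_c_rc_19_2) (@D3.rec (fun _ => (Cert rels S Gen.c)) lc_c_rc_23_2 lc_c_rc_19_2 lc_c_rc_23_2 lc_c_rc_21_2 lc_c_rc_23_2 lc_c_rc_20_2 lc_c_rc_2_1 lc_c_rc_2_1 lc_c_Cert_tree lc_c_rc_19_2 lc_c_rc_17_0 lc_c_rc_19_2 lc_c_rc_23_2 lc_c_rc_23_2 lc_c_rc_23_2 lc_c_rc_17_0 lc_c_rc_17_0 lc_c_rc_23_2 lc_c_rc_10_3 lc_c_rc_23_2 lc_c_rc_20_2 lc_c_rc_23_2 lc_c_rc_17_0 lc_c_rc_23_2 lc_c_rc_21_0 lc_c_rc_23_2 lc_c_rc_19_2 lc_c_rc_20_2 lc_c_rc_18_2 lc_c_rc_18_4 lc_c_rc_23_2 lc_c_rc_20_2) (@D3.rec (fun _ => (Cert rels S Gen.c)) lc_c_rc_2_1 lc_c_rc_10_3 lc_c_rc_20_2 lc_c_rc_2_1 lc_c_rc_10_3 lc_c_rc_22_2 lc_c_rc_20_2 lc_c_rc_21_2 lc_c_rc_22_2 lc_c_Cert_tree lc_c_rc_23_2 lc_c_rc_10_3 lc_c_Cert_tree lc_c_rc_23_2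 lc_c_rc_17_0 lc_c_rc_19_2 lc_c_rc_23_2 lc_c_rc_17_0 lc_c_rc_19_2 lc_c_rc_23_2 lc_c_rc_19_2 lc_c_rc_23_2 lc_c_rc_21_2 lc_c_rc_23_2 lc_c_rc_20_2 lc_c_rc_18_2 lc_c_rc_21_2 lc_c_rc_23_2 lc_c_rc_20_2 lc_c_rc_22_2 lc_c_rc_23_2 lc_c_rc_20_2) (@D3.rec (fun _ => (Cert rels S Gen.c)) lc_c_rc_2_1 lc_c_Cert_tree lc_c_rc_2_1 lc_c_rc_17_0 lc_c_rc_19_2 lc_c_rc_23_2 lc_c_rc_2_1 lc_c_rc_21_2 lc_c_rc_17_0 lc_c_rc_19_2 lc_c_rc_23_2 lc_c_rc_10_3 lc_c_rc_19_2 lc_c_rc_23_2 lc_c_rc_21_2 lc_c_rc_23_2 lc_c_rc_20_2 lc_c_rc_2_1 lc_c_rc_2_1 lc_c_rc_2_1 lc_c_rc_2_1 lc_c_rc_2_1 lc_c_rc_2_1 lc_c_rc_2_1 lc_c_Cert_tree lc_c_rc_19_2 lc_c_rc_23_2 lc_c_rc_20_2 lc_c_rc_18_0 lc_c_rc_10_3 lc_c_rc_20_2 lc_c_rc_21_2) (@D3.rec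 (fun _ => (Cert rels S Gen.c)) lc_c_rc_23_2 lc_c_rc_17_0 lc_c_rc_23_2 lc_c_rc_10_3 lc_c_rc_19_2 lc_c_rc_23_2 lc_c_rc_17_1 lc_c_rc_23_2 lc_c_rc_20_2 lc_c_rc_20_0 lc_c_rc_23_2 lc_c_rc_19_2 lc_c_rc_23_2 lc_c_rc_47_29 lc_c_rc_23_2 lc_c_rc_20_2 lc_c_rc_2_1 lc_c_rc_10_3 lc_c_rc_10_3 lc_c_rc_21_2 lc_c_rc_23_2 lc_c_rc_20_2 lc_c_rc_21_2 lc_c_rc_23_2 lc_c_rc_20_2 lc_c_rc_22_2 lc_c_rc_21_2 lc_c_rc_22_2 lc_c_rc_21_2 lc_c_rc_19_2 lc_c_rc_22_2 lc_c_rc_17_1) (@D3.rec (fun _ => (Cert rels S Gen.c)) lc_c_rc_17_0 lc_c_rc_20_2 lc_c_rc_2_1 lc_c_rc_10_3 lc_c_rc_18_2 lc_c_rc_2_1 lc_c_rc_22_2 lc_c_rc_20_2 lc_c_Cert_tree lc_c_rc_23_2 lc_c_Cert_tree lc_c_rc_10_3 lc_c_rc_17_0 lc_c_rc_19_2 lc_c_rc_23_2 lc_c_rc_17_0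 lc_c_rc_23_2 lc_c_rc_19_2 lc_c_rc_23_2 lc_c_rc_21_2 lc_c_rc_23_2 lc_c_rc_20_2 lc_c_rc_18_2 lc_c_rc_21_2 lc_c_rc_23_2 lc_c_rc_20_2 lc_c_rc_22_2 lc_c_rc_23_2 lc_c_rc_20_2 lc_c_rc_17_0 lc_c_rc_23_2 lc_c_rc_18_2) (@D3.rec (fun _ => (Cert rels S Gen.c)) lc_c_rc_10_3 lc_c_rc_19_2 lc_c_rc_23_2 lc_c_rc_21_2 lc_c_rc_23_2 lc_c_rc_20_2 lc_c_rc_2_1 lc_c_rc_2_1 lc_c_rc_2_1 lc_c_Cert_tree lc_c_rc_10_3 lc_c_rc_23_2 lc_c_rc_20_2 lc_c_rc_20_2 lc_c_rc_21_2 lc_c_rc_23_2 lc_c_rc_20_2 lc_c_rc_23_2 lc_c_rc_20_2 lc_c_rc_22_2 lc_c_rc_19_2 lc_c_rc_17_0 lc_c_rc_21_2 lc_c_rc_22_2 lc_c_Cert_tree lc_c_rc_23_2 lc_c_rc_19_2 lc_c_rc_21_2 lc_c_Cert_tree lc_c_rc_23_2 lc_c_rc_17_0 lc_c_rc_19_2) (@D3.rec (fun _ => (Cert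 rels S Gen.c)) lc_c_rc_23_2 lc_c_rc_17_0 lc_c_rc_19_2 lc_c_rc_23_2 lc_c_rc_10_3 lc_c_rc_19_2 lc_c_rc_23_2 lc_c_rc_21_2 lc_c_rc_23_2 lc_c_rc_20_2 lc_c_rc_19_2 lc_c_rc_23_2 lc_c_rc_21_2 lc_c_rc_23_2 lc_c_rc_20_2 lc_c_rc_18_2 lc_c_rc_21_2 lc_c_rc_23_2 lc_c_rc_20_2 lc_c_rc_22_2 lc_c_rc_23_2 lc_c_rc_20_2 lc_c_rc_18_2 lc_c_rc_20_2 lc_c_rc_18_2 lc_c_rc_22_2 lc_c_rc_23_2 lc_c_rc_20_2 lc_c_rc_18_2 lc_c_rc_23_2 lc_c_rc_20_2 lc_c_Cert_tree) (@D3.rec (fun _ => (Cert rels S Gen.c)) lc_c_rc_18_2 lc_c_rc_18_2 lc_c_rc_2_1 lc_c_rc_2_1 lc_c_rc_10_3 lc_c_rc_19_2 lc_c_rc_23_2 lc_c_rc_21_2 lc_c_rc_23_2 lc_c_rc_20_2 lc_c_rc_2_1 lc_c_rc_2_1 lc_c_rc_20_2 lc_c_rc_2_1 lc_c_rc_10_3 lc_c_rc_10_3 lc_c_rc_21_2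 lc_c_rc_23_2 lc_c_rc_20_2 lc_c_rc_22_2 lc_c_rc_23_2 lc_c_rc_20_2 lc_c_rc_2_1 lc_c_rc_2_1 lc_c_rc_2_1 lc_c_rc_2_1 lc_c_rc_2_1 lc_c_Cert_tree lc_c_rc_2_1 lc_c_rc_17_1 lc_c_rc_17_0 lc_c_rc_23_2) (@D3.rec (fun _ => (Cert rels S Gen.c)) lc_c_rc_21_2 lc_c_rc_20_2 lc_c_rc_2_1 lc_c_rc_10_3 lc_c_rc_10_3 lc_c_rc_21_2 lc_c_rc_23_2 lc_c_rc_20_2 lc_c_rc_20_2 lc_c_rc_23_2 lc_c_rc_20_2 lc_c_rc_22_2 lc_c_rc_23_2 lc_c_rc_20_2 lc_c_rc_2_1 lc_c_rc_2_1 lc_c_rc_20_0 lc_c_rc_10_3 lc_c_rc_10_3 lc_c_rc_22_2 lc_c_rc_23_2 lc_c_rc_20_2 lc_c_rc_23_2 lc_c_rc_20_2 lc_c_Cert_tree lc_c_rc_22_2 lc_c_rc_21_2 lc_c_rc_22_2 lc_c_rc_23_2 lc_c_rc_17_0 lc_c_rc_22_2 lc_c_Cert_tree) (@D3.rec (fun _ => (Cert rels S Gen.c))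 lc_c_rc_23_2 lc_c_rc_23_2 lc_c_rc_17_0 lc_c_rc_2_3 lc_c_rc_23_2 lc_c_rc_19_2 lc_c_rc_18_4 lc_c_rc_10_5 lc_c_rc_23_2 lc_c_rc_17_0 lc_c_rc_19_2 lc_c_rc_23_2 lc_c_rc_10_3 lc_c_rc_23_2 lc_c_rc_2_1 lc_c_rc_2_1 lc_c_rc_10_3 lc_c_rc_2_1 lc_c_rc_2_1 lc_c_rc_10_3 lc_c_rc_10_3 lc_c_rc_18_2 lc_c_rc_21_2 lc_c_rc_23_2 lc_c_rc_20_2 lc_c_rc_22_2 lc_c_rc_23_2 lc_c_rc_20_2 lc_c_rc_2_1 lc_c_rc_21_2 lc_c_rc_23_2 lc_c_rc_20_2) (@D3.rec (fun _ => (Cert rels S Gen.c)) lc_c_rc_22_2 lc_c_rc_23_2 lc_c_rc_20_2 lc_c_rc_18_2 lc_c_rc_20_2 lc_c_rc_18_2 lc_c_rc_22_2 lc_c_rc_23_2 lc_c_rc_20_2 lc_c_rc_18_2 lc_c_rc_23_2 lc_c_rc_20_2 lc_c_Cert_tree lc_c_rc_19_2 lc_c_rc_18_2 lc_c_rc_20_2 lc_c_rc_18_2 lc_c_rc_23_2 lc_c_rc_20_2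 lc_c_rc_23_2 lc_c_rc_20_2 lc_c_rc_21_0 lc_c_rc_19_2 lc_c_rc_20_2 lc_c_rc_17_1 lc_c_rc_17_0 lc_c_rc_2_1 lc_c_rc_2_1 lc_c_rc_10_3 lc_c_rc_10_3 lc_c_rc_10_3 lc_c_rc_22_2) (@D3.rec (fun _ => (Cert rels S Gen.c)) lc_c_rc_23_2 lc_c_rc_20_2 lc_c_rc_23_2 lc_c_rc_20_2 lc_c_Cert_tree lc_c_rc_2_1 lc_c_rc_2_1 lc_c_Cert_tree lc_c_rc_2_1 lc_c_rc_23_2 lc_c_rc_17_0 lc_c_rc_2_1 lc_c_rc_2_1 lc_c_rc_2_1 lc_c_rc_2_1 lc_c_rc_22_2 lc_c_rc_21_2 lc_c_rc_20_2 lc_c_rc_23_2 lc_c_rc_20_2 lc_c_Cert_tree lc_c_rc_20_2 lc_c_rc_18_4 lc_c_rc_17_0 lc_c_rc_22_2 lc_c_rc_18_4 lc_c_rc_17_0 lc_c_rc_19_2 lc_c_rc_18_2 lc_c_rc_21_2 lc_c_rc_23_2 lc_c_rc_20_2) (@D3.rec (fun _ => (Cert rels S Gen.c)) lc_c_rc_18_2 lc_c_rc_46_51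 lc_c_rc_22_2 lc_c_Cert_tree lc_c_rc_23_2 lc_c_rc_17_0 lc_c_rc_19_2 lc_c_rc_19_2 lc_c_rc_21_2 lc_c_rc_19_2 lc_c_rc_21_2 lc_c_rc_18_2 lc_c_rc_21_2 lc_c_rc_23_2 lc_c_rc_20_2 lc_c_rc_22_2 lc_c_rc_23_2 lc_c_rc_20_2 lc_c_rc_18_2 lc_c_rc_20_2 lc_c_rc_18_2 lc_c_rc_22_2 lc_c_rc_23_2 lc_c_rc_20_2 lc_c_rc_19_2 lc_c_rc_23_2 lc_c_rc_20_2 lc_c_rc_46_51 lc_c_rc_47_29 lc_c_rc_2_1 lc_c_rc_2_1 lc_c_rc_2_1)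
def ce_c_8 : D2 → D3 → (Cert rels S Gen.c) := @D2.rec (fun _ => D3 → (Cert rels S Gen.c)) (@D3.rec (fun _ => (Cert rels S Gen.c)) lc_c_rc_2_1 lc_c_rc_2_1 lc_c_rc_47_15 lc_c_rc_17_0 lc_c_rc_2_3 lc_c_rc_22_2 lc_c_rc_18_2 lc_c_rc_23_2 lc_c_rc_21_0 lc_c_rc_21_2 lc_c_rc_18_2 lc_c_rc_20_2 lc_c_rc_18_2 lc_c_rc_22_2 lc_c_rc_23_2 lc_c_rc_20_2 lc_c_rc_18_2 lc_c_rc_23_2 lc_c_rc_20_2 lc_c_rc_46_30 lc_c_rc_2_1 lc_c_rc_47_15 lc_c_rc_17_0 lc_c_rc_2_3 lc_c_rc_23_2 lc_c_rc_17_0 lc_c_rc_19_2 lc_c_rc_23_2 lc_c_rc_19_2 lc_c_rc_23_2 lc_c_rc_21_2 lc_c_rc_23_2) (@D3.rec (fun _ => (Cert rels S Gen.c)) lc_c_rc_18_2 lc_c_rc_21_2 lc_c_rc_22_2 lc_c_rc_10_3 lc_c_rc_21_2 lc_c_rc_22_2 lc_c_rc_18_2 lc_c_rc_20_2 lc_c_rc_10_3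 lc_c_rc_22_2 lc_c_rc_23_2 lc_c_rc_20_2 lc_c_rc_47_29 lc_c_rc_23_2 lc_c_rc_20_2 lc_c_Cert_tree lc_c_rc_19_2 lc_c_rc_18_2 lc_c_rc_20_2 lc_c_rc_18_2 lc_c_rc_23_2 lc_c_rc_20_2 lc_c_rc_23_2 lc_c_rc_20_2 lc_c_rc_18_4 lc_c_rc_19_2 lc_c_rc_20_2 lc_c_Cert_tree lc_c_rc_17_0 lc_c_rc_20_2 lc_c_rc_21_2 lc_c_rc_2_1) (@D3.rec (fun _ => (Cert rels S Gen.c)) lc_c_rc_2_1 lc_c_rc_17_0 lc_c_rc_2_1 lc_c_rc_22_2 lc_c_rc_21_0 lc_c_rc_23_2 lc_c_rc_17_0 lc_c_rc_46_30 lc_c_rc_23_2 lc_c_rc_23_2 lc_c_rc_10_1 lc_c_rc_17_0 lc_c_rc_21_2 lc_c_rc_19_2 lc_c_rc_18_2 lc_c_rc_21_2 lc_c_rc_19_2 lc_c_rc_20_2 lc_c_rc_18_2 lc_c_rc_18_2 lc_c_rc_20_2 lc_c_rc_18_2 lc_c_rc_22_2 lc_c_rc_23_2 lc_c_rc_20_2 lc_c_rc_18_2 lc_c_rc_23_2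 lc_c_rc_20_2 lc_c_Cert_tree lc_c_rc_19_2 lc_c_rc_18_2 lc_c_rc_20_2) (@D3.rec (fun _ => (Cert rels S Gen.c)) lc_c_rc_18_2 lc_c_rc_23_2 lc_c_rc_20_2 lc_c_rc_23_2 lc_c_rc_20_2 lc_c_Cert_tree lc_c_rc_19_2 lc_c_rc_20_2 lc_c_rc_2_1 lc_c_rc_17_0 lc_c_rc_19_2 lc_c_rc_18_2 lc_c_rc_23_2 lc_c_rc_20_2 lc_c_rc_23_2 lc_c_rc_20_2 lc_c_rc_46_23 lc_c_rc_46_51 lc_c_rc_2_1 lc_c_rc_17_0 lc_c_rc_10_3 lc_c_rc_20_2 lc_c_rc_23_2 lc_c_rc_20_2 lc_c_Cert_tree lc_c_rc_23_2 lc_c_rc_17_0 lc_c_rc_19_2 lc_c_rc_23_2 lc_c_rc_19_2 lc_c_rc_23_2 lc_c_rc_21_2) (@D3.rec (fun _ => (Cert rels S Gen.c)) lc_c_rc_23_2 lc_c_rc_20_2 lc_c_rc_2_1 lc_c_rc_21_2 lc_c_rc_23_2 lc_c_rc_20_2 lc_c_rc_22_2 lc_c_rc_23_2 lc_c_rc_20_2 lc_c_rc_17_0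 lc_c_rc_19_2 lc_c_rc_23_2 lc_c_rc_10_3 lc_c_rc_19_2 lc_c_rc_23_2 lc_c_rc_2_1 lc_c_rc_23_2 lc_c_rc_20_2 lc_c_rc_2_1 lc_c_rc_2_1 lc_c_rc_2_1 lc_c_rc_2_1 lc_c_rc_2_1 lc_c_Cert_tree lc_c_rc_10_3 lc_c_rc_20_2 lc_c_rc_23_2 lc_c_rc_19_2 lc_c_rc_20_2 lc_c_rc_23_2 lc_c_rc_20_2 lc_c_rc_23_2) (@D3.rec (fun _ => (Cert rels S Gen.c)) lc_c_rc_20_2 lc_c_rc_22_2 lc_c_rc_21_2 lc_c_Cert_tree lc_c_rc_22_2 lc_c_rc_17_1 lc_c_rc_17_0 lc_c_rc_18_2 lc_c_Cert_tree lc_c_rc_23_2 lc_c_rc_17_0 lc_c_rc_19_2 lc_c_rc_23_2 lc_c_rc_19_2 lc_c_rc_23_2 lc_c_rc_21_2 lc_c_rc_23_2 lc_c_rc_20_2 lc_c_rc_18_2 lc_c_rc_21_2 lc_c_rc_23_2 lc_c_rc_20_2 lc_c_rc_22_2 lc_c_rc_23_2 lc_c_rc_20_2 lc_c_rc_18_2 lc_c_rc_20_2 lc_c_rc_18_2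 lc_c_rc_22_2 lc_c_rc_23_2 lc_c_rc_20_2 lc_c_rc_18_2) (@D3.rec (fun _ => (Cert rels S Gen.c)) lc_c_rc_23_2 lc_c_rc_20_2 lc_c_Cert_tree lc_c_rc_2_1 lc_c_rc_19_2 lc_c_rc_20_2 lc_c_rc_2_1 lc_c_rc_2_1 lc_c_rc_20_2 lc_c_rc_2_1 lc_c_rc_2_1 lc_c_Cert_tree lc_c_rc_2_1 lc_c_Cert_tree lc_c_rc_17_0 lc_c_rc_45_28 lc_c_rc_20_2 lc_c_rc_23_2 lc_c_rc_20_2 lc_c_Cert_tree lc_c_rc_22_2 lc_c_Cert_tree lc_c_rc_17_0 lc_c_rc_19_0 lc_c_rc_17_0 lc_c_rc_19_2 lc_c_rc_10_3 lc_c_rc_19_2 lc_c_rc_23_2 lc_c_rc_21_2 lc_c_rc_20_2 lc_c_rc_23_2) (@D3.rec (fun _ => (Cert rels S Gen.c)) lc_c_rc_22_2 lc_c_rc_23_2 lc_c_rc_20_2 lc_c_rc_18_2 lc_c_rc_23_2 lc_c_rc_20_2 lc_c_Cert_tree lc_c_rc_19_2 lc_c_rc_18_2 lc_c_rc_20_2 lc_c_rc_18_2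 lc_c_rc_23_2 lc_c_rc_20_2 lc_c_rc_23_2 lc_c_rc_20_2 lc_c_Cert_tree lc_c_rc_19_2 lc_c_rc_20_2 lc_c_Cert_tree lc_c_rc_17_0 lc_c_rc_2_1 lc_c_Cert_tree lc_c_rc_17_0 lc_c_Cert_tree lc_c_rc_17_0 lc_c_rc_19_2 lc_c_rc_10_3 lc_c_rc_47_57 lc_c_rc_17_0 lc_c_rc_45_55 lc_c_rc_10_3 lc_c_rc_17_0) (@D3.rec (fun _ => (Cert rels S Gen.c)) lc_c_rc_19_2 lc_c_rc_10_3 lc_c_rc_19_2 lc_c_rc_2_1 lc_c_rc_10_3 lc_c_rc_2_3 lc_c_rc_23_2 lc_c_rc_19_2 lc_c_rc_23_2 lc_c_rc_21_2 lc_c_rc_2_3 lc_c_rc_2_3 lc_c_rc_2_1 lc_c_rc_2_1 lc_c_rc_2_1 lc_c_rc_2_1 lc_c_rc_2_1 lc_c_rc_2_1 lc_c_rc_2_1 lc_c_rc_2_1 lc_c_rc_10_3 lc_c_rc_23_2 lc_c_rc_20_2 lc_c_rc_20_2 lc_c_rc_21_2 lc_c_rc_20_2 lc_c_rc_22_2 lc_c_rc_21_2 lc_c_rc_45_64 lc_c_rc_47_50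 lc_c_rc_2_1 lc_c_rc_10_3) (@D3.rec (fun _ => (Cert rels S Gen.c)) lc_c_rc_20_2 lc_c_rc_23_2 lc_c_rc_21_2 lc_c_rc_47_36 lc_c_rc_10_3 lc_c_rc_45_28 lc_c_rc_20_2 lc_c_rc_2_1 lc_c_rc_10_3 lc_c_rc_18_2 lc_c_rc_20_2 lc_c_rc_18_2 lc_c_rc_21_0 lc_c_Cert_tree lc_c_rc_23_2 lc_c_rc_22_2 lc_c_Cert_tree lc_c_rc_23_2 lc_c_rc_17_0 lc_c_rc_19_2 lc_c_rc_23_2 lc_c_rc_19_2 lc_c_rc_23_2 lc_c_rc_19_2 lc_c_rc_23_2 lc_c_rc_21_2 lc_c_rc_23_2 lc_c_rc_20_2 lc_c_rc_18_2 lc_c_rc_21_2 lc_c_rc_23_2 lc_c_rc_20_2) (@D3.rec (fun _ => (Cert rels S Gen.c)) lc_c_rc_22_2 lc_c_rc_23_2 lc_c_rc_10_1 lc_c_rc_2_1 lc_c_Cert_tree lc_c_rc_2_1 lc_c_rc_17_0 lc_c_rc_19_2 lc_c_rc_23_2 lc_c_Cert_tree lc_c_rc_21_2 lc_c_rc_17_0 lc_c_rc_17_0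 lc_c_rc_23_2 lc_c_rc_10_3 lc_c_rc_19_2 lc_c_rc_23_2 lc_c_rc_21_2 lc_c_rc_23_2 lc_c_rc_20_2 lc_c_rc_23_2 lc_c_rc_2_1 lc_c_rc_2_1 lc_c_rc_2_1 lc_c_rc_2_1 lc_c_rc_2_1 lc_c_rc_2_1 lc_c_rc_46_51 lc_c_rc_17_0 lc_c_rc_17_0 lc_c_rc_23_2 lc_c_rc_10_3) (@D3.rec (fun _ => (Cert rels S Gen.c)) lc_c_rc_23_2 lc_c_rc_20_2 lc_c_rc_2_1 lc_c_rc_10_3 lc_c_rc_20_2 lc_c_rc_20_2 lc_c_rc_23_2 lc_c_rc_17_0 lc_c_rc_17_0 lc_c_rc_23_2 lc_c_rc_10_3 lc_c_rc_19_2 lc_c_rc_23_2 lc_c_rc_17_0 lc_c_rc_23_2 lc_c_rc_20_2 lc_c_rc_17_0 lc_c_rc_21_0 lc_c_rc_23_2 lc_c_rc_10_3 lc_c_rc_23_2 lc_c_rc_23_2 lc_c_rc_20_2 lc_c_rc_2_1 lc_c_rc_10_3 lc_c_rc_10_3 lc_c_rc_21_2 lc_c_rc_23_2 lc_c_rc_20_2 lc_c_rc_21_2 lc_c_rc_23_2 lc_c_rc_20_2)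 (@D3.rec (fun _ => (Cert rels S Gen.c)) lc_c_rc_18_2 lc_c_rc_19_2 lc_c_rc_10_3 lc_c_Cert_tree lc_c_rc_47_8 lc_c_rc_10_3 lc_c_rc_17_0 lc_c_rc_23_2 lc_c_rc_19_2 lc_c_rc_20_2 lc_c_rc_2_1 lc_c_rc_10_3 lc_c_rc_20_2 lc_c_rc_2_1 lc_c_rc_10_3 lc_c_rc_18_2 lc_c_rc_20_2 lc_c_rc_2_1 lc_c_rc_19_2 lc_c_rc_2_1 lc_c_rc_21_2 lc_c_rc_22_2 lc_c_Cert_tree lc_c_rc_23_2 lc_c_rc_19_2 lc_c_rc_21_2 lc_c_Cert_tree lc_c_rc_23_2 lc_c_rc_17_0 lc_c_rc_19_2 lc_c_rc_23_2 lc_c_Cert_tree) (@D3.rec (fun _ => (Cert rels S Gen.c)) lc_c_rc_2_3 lc_c_rc_17_0 lc_c_rc_19_2 lc_c_rc_23_2 lc_c_rc_10_3 lc_c_rc_19_2 lc_c_rc_23_2 lc_c_rc_21_2 lc_c_rc_23_2 lc_c_rc_20_2 lc_c_rc_19_2 lc_c_rc_23_2 lc_c_rc_21_2 lc_c_rc_23_2 lc_c_rc_20_2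 lc_c_rc_18_2 lc_c_rc_21_2 lc_c_rc_23_2 lc_c_rc_20_2 lc_c_rc_22_2 lc_c_rc_23_2 lc_c_rc_20_2 lc_c_rc_18_2 lc_c_rc_20_2 lc_c_rc_18_2 lc_c_rc_22_2 lc_c_rc_23_2 lc_c_rc_20_2 lc_c_rc_18_2 lc_c_rc_23_2 lc_c_rc_20_2 lc_c_rc_10_1) (@D3.rec (fun _ => (Cert rels S Gen.c)) lc_c_rc_2_1 lc_c_rc_18_2 lc_c_rc_2_1 lc_c_rc_17_0 lc_c_rc_21_2 lc_c_rc_23_2 lc_c_rc_10_3 lc_c_rc_19_2 lc_c_rc_23_2 lc_c_rc_21_2 lc_c_rc_23_2 lc_c_rc_20_2 lc_c_rc_21_0 lc_c_rc_18_2 lc_c_rc_10_3 lc_c_rc_19_2 lc_c_rc_23_2 lc_c_rc_19_2 lc_c_rc_23_2 lc_c_rc_20_2 lc_c_rc_2_1 lc_c_rc_10_3 lc_c_rc_10_3 lc_c_rc_21_2 lc_c_rc_23_2 lc_c_rc_20_2 lc_c_rc_22_2 lc_c_rc_23_2 lc_c_rc_20_2 lc_c_rc_2_1 lc_c_rc_2_1 lc_c_rc_2_1) (@D3.rec (fun _ =>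 (Cert rels S Gen.c)) lc_c_rc_2_1 lc_c_rc_2_1 lc_c_Cert_tree lc_c_rc_2_1 lc_c_rc_2_1 lc_c_rc_17_0 lc_c_rc_17_0 lc_c_rc_17_0 lc_c_rc_17_1 lc_c_rc_23_2 lc_c_rc_19_2 lc_c_rc_23_2 lc_c_rc_23_2 lc_c_rc_20_2 lc_c_rc_2_1 lc_c_rc_10_3 lc_c_rc_21_2 lc_c_rc_23_2 lc_c_rc_20_2 lc_c_rc_20_2 lc_c_rc_23_2 lc_c_rc_20_2 lc_c_rc_23_2 lc_c_rc_20_2 lc_c_rc_2_1 lc_c_rc_10_3 lc_c_rc_23_2 lc_c_rc_20_2 lc_c_rc_20_2 lc_c_rc_19_2 lc_c_rc_20_2 lc_c_rc_2_1) (@D3.rec (fun _ => (Cert rels S Gen.c)) lc_c_rc_2_1 lc_c_rc_20_0 lc_c_rc_10_3 lc_c_rc_10_3 lc_c_rc_22_2 lc_c_rc_23_2 lc_c_rc_20_2 lc_c_rc_23_2 lc_c_rc_20_2 lc_c_Cert_tree lc_c_rc_22_2 lc_c_rc_21_2 lc_c_Cert_tree lc_c_rc_22_2 lc_c_Cert_tree lc_c_rc_17_0 lc_c_rc_2_1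 lc_c_rc_19_2 lc_c_rc_21_2 lc_c_Cert_tree lc_c_rc_23_2 lc_c_rc_17_0 lc_c_rc_19_2 lc_c_rc_23_2 lc_c_rc_18_2 lc_c_rc_21_2 lc_c_rc_17_0 lc_c_rc_19_2 lc_c_rc_23_2 lc_c_rc_10_3 lc_c_rc_19_2 lc_c_rc_23_2) (@D3.rec (fun _ => (Cert rels S Gen.c)) lc_c_rc_23_2 lc_c_rc_10_3 lc_c_rc_19_2 lc_c_rc_2_1 lc_c_rc_10_3 lc_c_rc_18_2 lc_c_rc_2_1 lc_c_rc_10_3 lc_c_rc_23_2 lc_c_rc_23_2 lc_c_rc_2_1 lc_c_rc_10_3 lc_c_rc_10_3 lc_c_rc_23_2 lc_c_rc_2_1 lc_c_rc_10_3 lc_c_rc_19_2 lc_c_rc_23_2 lc_c_rc_21_0 lc_c_rc_17_0 lc_c_rc_23_2 lc_c_rc_10_3 lc_c_rc_23_2 lc_c_rc_20_2 lc_c_rc_18_2 lc_c_rc_23_2 lc_c_rc_45_28 lc_c_rc_2_1 lc_c_rc_10_3 lc_c_rc_20_2 lc_c_rc_10_3 lc_c_rc_2_1) (@D3.rec (fun _ => (Cert rels S Gen.c))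 lc_c_rc_21_0 lc_c_rc_18_2 lc_c_rc_20_2 lc_c_Cert_tree lc_c_rc_23_2 lc_c_Cert_tree lc_c_rc_23_2 lc_c_rc_17_0 lc_c_rc_19_2 lc_c_rc_23_2 lc_c_rc_19_2 lc_c_rc_23_2 lc_c_rc_23_2 lc_c_rc_2_1 lc_c_rc_21_2 lc_c_rc_23_2 lc_c_rc_20_2 lc_c_rc_23_2 lc_c_rc_23_2 lc_c_rc_23_2 lc_c_rc_17_0 lc_c_rc_23_2 lc_c_rc_10_3 lc_c_rc_23_2 lc_c_rc_19_2 lc_c_rc_20_2 lc_c_rc_19_2 lc_c_rc_18_4 lc_c_rc_10_3 lc_c_rc_23_2 lc_c_rc_20_2 lc_c_rc_2_1) (@D3.rec (fun _ => (Cert rels S Gen.c)) lc_c_rc_10_3 lc_c_rc_20_2 lc_c_rc_20_2 lc_c_rc_23_2 lc_c_rc_20_2 lc_c_rc_21_0 lc_c_rc_23_2 lc_c_rc_20_2 lc_c_rc_20_2 lc_c_rc_20_2 lc_c_rc_2_1 lc_c_rc_10_3 lc_c_rc_18_2 lc_c_rc_2_1 lc_c_rc_21_2 lc_c_rc_22_2 lc_c_Cert_tree lc_c_rc_23_2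 lc_c_rc_21_2 lc_c_Cert_tree lc_c_rc_23_2 lc_c_rc_17_0 lc_c_rc_19_2 lc_c_rc_23_2 lc_c_Cert_tree lc_c_rc_23_2 lc_c_rc_17_0 lc_c_rc_19_2 lc_c_rc_23_2 lc_c_rc_10_3 lc_c_rc_19_2 lc_c_rc_23_2) (@D3.rec (fun _ => (Cert rels S Gen.c)) lc_c_rc_21_2 lc_c_rc_23_2 lc_c_rc_20_2 lc_c_rc_19_2 lc_c_rc_23_2 lc_c_rc_21_2 lc_c_rc_23_2 lc_c_rc_18_2 lc_c_rc_21_2 lc_c_rc_23_2 lc_c_rc_20_2 lc_c_rc_22_2 lc_c_rc_23_2 lc_c_rc_20_2 lc_c_rc_18_2 lc_c_rc_19_2 lc_c_rc_21_0 lc_c_rc_22_2 lc_c_rc_23_2 lc_c_rc_20_2 lc_c_rc_23_2 lc_c_rc_23_2 lc_c_rc_20_2 lc_c_rc_21_0 lc_c_rc_21_2 lc_c_rc_2_1 lc_c_rc_17_0 lc_c_rc_23_2 lc_c_rc_10_3 lc_c_rc_19_2 lc_c_rc_23_2 lc_c_rc_2_1) (@D3.rec (fun _ => (Cert rels S Gen.c)) lc_c_rc_23_2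 lc_c_rc_20_2 lc_c_rc_20_0 lc_c_rc_23_2 lc_c_rc_10_3 lc_c_rc_19_2 lc_c_rc_23_2 lc_c_rc_17_1 lc_c_rc_23_2 lc_c_rc_20_2 lc_c_rc_2_1 lc_c_rc_10_3 lc_c_rc_10_3 lc_c_rc_21_2 lc_c_rc_23_2 lc_c_rc_20_2 lc_c_rc_17_1 lc_c_rc_23_2 lc_c_rc_20_2 lc_c_rc_2_1 lc_c_rc_2_1 lc_c_rc_2_1 lc_c_rc_2_1 lc_c_rc_19_2 lc_c_rc_2_1 lc_c_rc_2_1 lc_c_rc_17_0 lc_c_rc_23_2 lc_c_rc_20_2 lc_c_rc_23_2 lc_c_rc_10_3 lc_c_rc_18_2)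
def ce_c_9 : D2 → D3 → (Cert rels S Gen.c) := @D2.rec (fun _ => D3 → (Cert rels S Gen.c)) (@D3.rec (fun _ => (Cert rels S Gen.c)) lc_c_rc_21_2 lc_c_rc_23_2 lc_c_rc_20_2 lc_c_rc_2_1 lc_c_rc_10_3 lc_c_rc_23_2 lc_c_rc_20_2 lc_c_rc_23_2 lc_c_rc_20_2 lc_c_rc_21_0 lc_c_rc_20_2 lc_c_rc_23_2 lc_c_rc_20_2 lc_c_rc_23_2 lc_c_rc_20_2 lc_c_rc_2_1 lc_c_rc_2_1 lc_c_rc_10_3 lc_c_rc_10_3 lc_c_rc_23_2 lc_c_rc_20_2 lc_c_rc_18_2 lc_c_rc_17_1 lc_c_rc_20_2 lc_c_rc_20_2 lc_c_rc_22_2 lc_c_rc_22_2 lc_c_rc_45_55 lc_c_rc_18_2 lc_c_rc_2_1 lc_c_rc_18_2 lc_c_rc_19_2) (@D3.rec (fun _ => (Cert rels S Gen.c)) lc_c_Cert_tree lc_c_rc_23_2 lc_c_rc_17_0 lc_c_rc_23_2 lc_c_rc_17_0 lc_c_rc_23_2 lc_c_rc_10_3 lc_c_rc_19_2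 lc_c_rc_23_2 lc_c_rc_21_2 lc_c_rc_23_2 lc_c_rc_20_2 lc_c_rc_23_2 lc_c_rc_18_2 lc_c_rc_21_2 lc_c_rc_23_2 lc_c_rc_20_2 lc_c_rc_23_2 lc_c_rc_18_2 lc_c_rc_20_2 lc_c_rc_18_2 lc_c_rc_22_2 lc_c_rc_23_2 lc_c_rc_20_2 lc_c_rc_18_2 lc_c_rc_23_2 lc_c_rc_20_2 lc_c_rc_21_0 lc_c_rc_10_3 lc_c_rc_23_2 lc_c_rc_20_2 lc_c_rc_20_2) (@D3.rec (fun _ => (Cert rels S Gen.c)) lc_c_rc_10_3 lc_c_rc_10_3 lc_c_rc_21_2 lc_c_rc_23_2 lc_c_rc_20_2 lc_c_rc_23_2 lc_c_rc_20_2 lc_c_rc_2_1 lc_c_rc_19_2 lc_c_rc_17_0 lc_c_rc_20_2 lc_c_rc_23_2 lc_c_rc_20_2 lc_c_rc_20_2 lc_c_rc_19_2 lc_c_rc_21_2 lc_c_Cert_tree lc_c_rc_23_2 lc_c_rc_17_0 lc_c_rc_19_2 lc_c_rc_23_2 lc_c_rc_10_3 lc_c_rc_21_2 lc_c_rc_17_0 lc_c_rc_19_2 lc_c_rc_23_2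 lc_c_rc_10_3 lc_c_rc_19_2 lc_c_rc_23_2 lc_c_rc_21_2 lc_c_rc_23_2 lc_c_rc_20_2) (@D3.rec (fun _ => (Cert rels S Gen.c)) lc_c_rc_19_2 lc_c_rc_23_2 lc_c_rc_21_2 lc_c_rc_23_2 lc_c_rc_20_2 lc_c_rc_2_1 lc_c_rc_10_3 lc_c_rc_10_3 lc_c_rc_18_2 lc_c_rc_21_2 lc_c_rc_23_2 lc_c_rc_20_2 lc_c_rc_22_2 lc_c_rc_23_2 lc_c_rc_20_2 lc_c_rc_18_2 lc_c_rc_21_2 lc_c_rc_23_2 lc_c_rc_20_2 lc_c_rc_22_2 lc_c_rc_23_2 lc_c_rc_20_2 lc_c_rc_18_2 lc_c_rc_20_2 lc_c_rc_18_2 lc_c_rc_22_2 lc_c_rc_23_2 lc_c_rc_20_2 lc_c_rc_18_2 lc_c_rc_23_2 lc_c_rc_20_2 lc_c_Cert_tree) (@D3.rec (fun _ => (Cert rels S Gen.c)) lc_c_rc_19_2 lc_c_rc_18_2 lc_c_rc_20_2 lc_c_rc_18_2 lc_c_rc_47_36 lc_c_rc_23_2 lc_c_rc_23_2 lc_c_rc_20_2 lc_c_rc_23_2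 lc_c_rc_23_2 lc_c_rc_20_2 lc_c_Cert_tree lc_c_rc_17_0 lc_c_rc_2_1 lc_c_rc_20_2 lc_c_rc_2_1 lc_c_rc_10_3 lc_c_rc_10_3 lc_c_rc_21_2 lc_c_rc_23_2 lc_c_rc_20_2 lc_c_rc_21_2 lc_c_rc_23_2 lc_c_rc_20_2 lc_c_rc_2_1 lc_c_rc_2_1 lc_c_rc_20_2 lc_c_rc_2_1 lc_c_rc_2_1 lc_c_rc_10_3 lc_c_rc_10_3 lc_c_rc_10_3) (@D3.rec (fun _ => (Cert rels S Gen.c)) lc_c_rc_22_2 lc_c_rc_23_2 lc_c_rc_20_2 lc_c_rc_23_2 lc_c_rc_20_2 lc_c_Cert_tree lc_c_rc_2_1 lc_c_rc_2_1 lc_c_rc_2_1 lc_c_rc_23_2 lc_c_rc_17_0 lc_c_rc_18_2 lc_c_rc_20_2 lc_c_rc_2_1 lc_c_rc_23_2 lc_c_rc_10_3 lc_c_rc_23_2 lc_c_rc_20_2 lc_c_rc_21_2 lc_c_rc_20_2 lc_c_rc_23_2 lc_c_rc_20_2 lc_c_rc_20_0 lc_c_rc_2_1 lc_c_rc_2_1 lc_c_rc_21_2 lc_c_rc_10_3 lc_c_rc_23_2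 lc_c_rc_20_2 lc_c_Cert_tree lc_c_rc_20_2 lc_c_rc_17_1) (@D3.rec (fun _ => (Cert rels S Gen.c)) lc_c_rc_17_0 lc_c_rc_22_2 lc_c_rc_18_2 lc_c_rc_23_2 lc_c_rc_17_0 lc_c_rc_10_5 lc_c_rc_23_2 lc_c_rc_23_2 lc_c_rc_18_2 lc_c_rc_19_2 lc_c_rc_23_2 lc_c_rc_18_2 lc_c_rc_19_2 lc_c_rc_23_2 lc_c_rc_21_2 lc_c_rc_23_2 lc_c_rc_20_2 lc_c_rc_2_1 lc_c_rc_10_3 lc_c_rc_2_1 lc_c_rc_2_1 lc_c_rc_2_1 lc_c_rc_10_3 lc_c_rc_10_3 lc_c_rc_10_3 lc_c_rc_10_3 lc_c_rc_18_2 lc_c_rc_20_2 lc_c_rc_18_2 lc_c_rc_22_2 lc_c_rc_23_2 lc_c_rc_20_2) (@D3.rec (fun _ => (Cert rels S Gen.c)) lc_c_rc_18_2 lc_c_rc_23_2 lc_c_rc_20_2 lc_c_Cert_tree lc_c_rc_21_2 lc_c_rc_20_2 lc_c_rc_23_2 lc_c_rc_22_2 lc_c_rc_23_2 lc_c_rc_20_2 lc_c_rc_18_2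 lc_c_rc_23_2 lc_c_rc_20_2 lc_c_Cert_tree lc_c_rc_19_2 lc_c_rc_18_2 lc_c_rc_20_2 lc_c_rc_18_2 lc_c_rc_23_2 lc_c_rc_20_2 lc_c_rc_23_2 lc_c_rc_20_2 lc_c_Cert_tree lc_c_rc_19_2 lc_c_rc_20_2 lc_c_rc_10_3 lc_c_rc_17_0 lc_c_rc_19_2 lc_c_rc_18_2 lc_c_rc_23_2 lc_c_rc_20_2 lc_c_rc_23_2) (@D3.rec (fun _ => (Cert rels S Gen.c)) lc_c_rc_20_2 lc_c_rc_20_2 lc_c_rc_18_4 lc_c_rc_2_1 lc_c_rc_2_1 lc_c_rc_2_1 lc_c_rc_10_3 lc_c_rc_10_3 lc_c_rc_10_3 lc_c_rc_23_2 lc_c_rc_20_2 lc_c_Cert_tree lc_c_rc_20_2 lc_c_rc_18_4 lc_c_rc_17_0 lc_c_rc_2_1 lc_c_rc_19_2 lc_c_rc_17_0 lc_c_rc_10_3 lc_c_rc_2_1 lc_c_rc_2_1 lc_c_rc_2_1 lc_c_rc_22_2 lc_c_rc_21_2 lc_c_Cert_tree lc_c_rc_20_2 lc_c_rc_17_1 lc_c_rc_17_0 lc_c_rc_18_2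 lc_c_rc_10_1 lc_c_rc_17_0 lc_c_rc_19_2) (@D3.rec (fun _ => (Cert rels S Gen.c)) lc_c_rc_23_2 lc_c_rc_19_2 lc_c_rc_21_2 lc_c_rc_18_2 lc_c_rc_21_2 lc_c_rc_22_2 lc_c_rc_2_3 lc_c_rc_21_2 lc_c_rc_22_2 lc_c_rc_18_2 lc_c_rc_20_2 lc_c_rc_46_9 lc_c_rc_22_2 lc_c_rc_23_2 lc_c_rc_20_2 lc_c_rc_10_1 lc_c_rc_23_2 lc_c_rc_20_2 lc_c_rc_19_2 lc_c_rc_18_2 lc_c_rc_20_2 lc_c_rc_18_2 lc_c_rc_23_2 lc_c_rc_20_2 lc_c_rc_20_2 lc_c_rc_47_50 lc_c_rc_2_1 lc_c_rc_2_1 lc_c_rc_19_2 lc_c_rc_23_2 lc_c_rc_18_2 lc_c_rc_21_0) (@D3.rec (fun _ => (Cert rels S Gen.c)) lc_c_rc_19_2 lc_c_rc_18_2 lc_c_rc_20_2 lc_c_rc_18_2 lc_c_rc_23_2 lc_c_rc_20_2 lc_c_rc_20_2 lc_c_rc_17_0 lc_c_rc_19_2 lc_c_rc_23_2 lc_c_rc_19_2 lc_c_rc_23_2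 lc_c_rc_21_2 lc_c_rc_23_2 lc_c_rc_20_2 lc_c_rc_18_2 lc_c_rc_21_2 lc_c_rc_23_2 lc_c_rc_22_2 lc_c_rc_23_2 lc_c_rc_18_2 lc_c_rc_20_2 lc_c_rc_22_2 lc_c_rc_18_2 lc_c_rc_18_4 lc_c_rc_22_2 lc_c_rc_19_2 lc_c_rc_18_2 lc_c_rc_20_2 lc_c_rc_18_2 lc_c_rc_23_2 lc_c_rc_18_0) (@D3.rec (fun _ => (Cert rels S Gen.c)) lc_c_rc_23_2 lc_c_rc_20_2 lc_c_Cert_tree lc_c_rc_19_2 lc_c_rc_20_2 lc_c_Cert_tree lc_c_rc_17_0 lc_c_rc_19_2 lc_c_rc_18_2 lc_c_rc_23_2 lc_c_rc_20_2 lc_c_rc_20_2 lc_c_rc_10_1 lc_c_rc_17_0 lc_c_rc_22_2 lc_c_rc_10_3 lc_c_rc_47_43 lc_c_rc_23_2 lc_c_rc_23_2 lc_c_rc_10_1 lc_c_rc_20_2 lc_c_rc_19_2 lc_c_rc_20_2 lc_c_rc_22_2 lc_c_rc_21_2 lc_c_rc_20_2 lc_c_rc_19_2 lc_c_rc_18_2 lc_c_rc_20_2 lc_c_rc_18_2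 lc_c_rc_23_2 lc_c_rc_20_2) (@D3.rec (fun _ => (Cert rels S Gen.c)) lc_c_rc_23_2 lc_c_rc_20_2 lc_c_Cert_tree lc_c_rc_19_2 lc_c_rc_20_2 lc_c_Cert_tree lc_c_rc_17_0 lc_c_rc_19_2 lc_c_rc_18_2 lc_c_rc_23_2 lc_c_rc_20_2 lc_c_rc_23_2 lc_c_rc_2_3 lc_c_rc_20_2 lc_c_rc_10_5 lc_c_rc_17_0 lc_c_rc_19_2 lc_c_rc_10_3 lc_c_rc_20_2 lc_c_rc_23_2 lc_c_rc_18_2 lc_c_rc_10_3 lc_c_Cert_tree lc_c_rc_23_2 lc_c_rc_17_0 lc_c_rc_19_2 lc_c_rc_23_2 lc_c_rc_10_3 lc_c_rc_19_2 lc_c_rc_23_2 lc_c_rc_21_2 lc_c_rc_23_2) (@D3.rec (fun _ => (Cert rels S Gen.c)) lc_c_rc_20_2 lc_c_rc_18_2 lc_c_rc_21_2 lc_c_rc_23_2 lc_c_rc_20_2 lc_c_rc_22_2 lc_c_rc_23_2 lc_c_rc_20_2 lc_c_rc_2_1 lc_c_rc_10_1 lc_c_rc_23_2 lc_c_rc_22_2 lc_c_rc_23_2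 lc_c_rc_20_2 lc_c_rc_47_50 lc_c_rc_23_2 lc_c_rc_20_2 lc_c_rc_45_82 lc_c_rc_10_3 lc_c_rc_23_2 lc_c_rc_19_2 lc_c_rc_20_2 lc_c_rc_10_3 lc_c_rc_10_3 lc_c_rc_23_2 lc_c_rc_20_2 lc_c_rc_23_2 lc_c_rc_20_2 lc_c_rc_2_1 lc_c_rc_2_1 lc_c_Cert_tree lc_c_rc_2_1) (@D3.rec (fun _ => (Cert rels S Gen.c)) lc_c_rc_2_1 lc_c_rc_17_0 lc_c_rc_10_3 lc_c_rc_2_1 lc_c_rc_20_2 lc_c_rc_20_2 lc_c_rc_20_2 lc_c_rc_18_2 lc_c_rc_20_2 lc_c_Cert_tree lc_c_rc_22_2 lc_c_rc_19_2 lc_c_rc_17_0 lc_c_rc_19_2 lc_c_rc_17_0 lc_c_rc_19_2 lc_c_rc_23_2 lc_c_rc_19_2 lc_c_rc_23_2 lc_c_rc_21_2 lc_c_rc_23_2 lc_c_rc_20_2 lc_c_rc_18_2 lc_c_rc_21_2 lc_c_rc_23_2 lc_c_rc_20_2 lc_c_rc_22_2 lc_c_rc_23_2 lc_c_rc_20_2 lc_c_rc_18_2 lc_c_rc_20_2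 lc_c_rc_18_2) (@D3.rec (fun _ => (Cert rels S Gen.c)) lc_c_rc_22_2 lc_c_rc_23_2 lc_c_rc_20_2 lc_c_rc_18_2 lc_c_rc_23_2 lc_c_rc_20_2 lc_c_Cert_tree lc_c_rc_19_2 lc_c_rc_18_2 lc_c_rc_20_2 lc_c_rc_18_2 lc_c_rc_19_0 lc_c_rc_22_0 lc_c_rc_23_2 lc_c_rc_20_2 lc_c_rc_47_50 lc_c_rc_10_3 lc_c_rc_20_2 lc_c_Cert_tree lc_c_rc_17_0 lc_c_rc_2_1 lc_c_rc_20_2 lc_c_rc_2_1 lc_c_rc_20_2 lc_c_Cert_tree lc_c_rc_2_1 lc_c_Cert_tree lc_c_rc_17_0 lc_c_rc_21_2 lc_c_rc_17_0 lc_c_rc_23_2 lc_c_rc_2_1) (@D3.rec (fun _ => (Cert rels S Gen.c)) lc_c_rc_17_1 lc_c_rc_21_0 lc_c_rc_20_2 lc_c_Cert_tree lc_c_rc_17_0 lc_c_rc_18_4 lc_c_rc_17_0 lc_c_rc_45_55 lc_c_rc_10_3 lc_c_rc_2_1 lc_c_rc_19_2 lc_c_rc_23_2 lc_c_rc_10_5 lc_c_rc_21_2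 lc_c_rc_22_2 lc_c_rc_21_2 lc_c_rc_23_2 lc_c_rc_23_2 lc_c_rc_10_5 lc_c_rc_23_2 lc_c_rc_20_2 lc_c_Cert_tree lc_c_rc_19_2 lc_c_rc_20_2 lc_c_Cert_tree lc_c_rc_17_0 lc_c_rc_19_2 lc_c_rc_18_2 lc_c_rc_23_2 lc_c_rc_20_2 lc_c_rc_23_2 lc_c_rc_46_2) (@D3.rec (fun _ => (Cert rels S Gen.c)) lc_c_rc_20_2 lc_c_Cert_tree lc_c_rc_17_0 lc_c_rc_46_2 lc_c_rc_46_16 lc_c_rc_17_0 lc_c_rc_46_16 lc_c_rc_10_3 lc_c_rc_17_1 lc_c_rc_17_0 lc_c_rc_47_8 lc_c_rc_10_3 lc_c_rc_17_0 lc_c_rc_2_3 lc_c_rc_17_0 lc_c_rc_19_2 lc_c_rc_45_73 lc_c_rc_2_1 lc_c_rc_19_2 lc_c_rc_2_1 lc_c_rc_10_3 lc_c_rc_10_3 lc_c_rc_20_2 lc_c_rc_21_2 lc_c_rc_22_2 lc_c_rc_19_0 lc_c_rc_2_1 lc_c_rc_2_1 lc_c_rc_2_1 lc_c_rc_2_1 lc_c_rc_2_1 lc_c_rc_17_0)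 (@D3.rec (fun _ => (Cert rels S Gen.c)) lc_c_rc_2_1 lc_c_rc_10_3 lc_c_rc_20_2 lc_c_rc_2_1 lc_c_rc_10_3 lc_c_rc_17_0 lc_c_rc_17_0 lc_c_rc_2_1 lc_c_Cert_tree lc_c_rc_23_2 lc_c_rc_20_2 lc_c_Cert_tree lc_c_rc_23_2 lc_c_rc_17_0 lc_c_rc_19_2 lc_c_rc_23_2 lc_c_Cert_tree lc_c_rc_17_1 lc_c_rc_17_0 lc_c_rc_19_2 lc_c_rc_23_2 lc_c_rc_10_3 lc_c_rc_19_2 lc_c_rc_23_2 lc_c_rc_21_2 lc_c_rc_23_2 lc_c_rc_20_2 lc_c_rc_23_2 lc_c_rc_20_2 lc_c_rc_18_2 lc_c_rc_21_2 lc_c_rc_23_2) (@D3.rec (fun _ => (Cert rels S Gen.c)) lc_c_rc_20_2 lc_c_rc_22_2 lc_c_rc_23_2 lc_c_rc_20_2 lc_c_rc_18_2 lc_c_rc_22_2 lc_c_rc_23_2 lc_c_rc_23_2 lc_c_rc_45_19 lc_c_rc_20_2 lc_c_rc_2_1 lc_c_rc_17_0 lc_c_rc_2_1 lc_c_rc_23_2 lc_c_rc_10_3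 lc_c_rc_19_2 lc_c_rc_23_2 lc_c_rc_2_1 lc_c_rc_23_2 lc_c_rc_20_2 lc_c_rc_17_0 lc_c_rc_21_0 lc_c_rc_23_2 lc_c_rc_10_3 lc_c_rc_23_2 lc_c_rc_23_2 lc_c_rc_20_2 lc_c_rc_2_1 lc_c_rc_10_3 lc_c_rc_10_3 lc_c_rc_21_2 lc_c_rc_23_2) (@D3.rec (fun _ => (Cert rels S Gen.c)) lc_c_rc_20_2 lc_c_rc_17_0 lc_c_rc_23_2 lc_c_rc_20_2 lc_c_rc_18_2 lc_c_rc_18_2 lc_c_rc_2_1 lc_c_Cert_tree lc_c_rc_46_51 lc_c_rc_47_22 lc_c_rc_18_0 lc_c_rc_23_2 lc_c_rc_19_2 lc_c_rc_20_2 lc_c_rc_18_0 lc_c_rc_10_3 lc_c_rc_20_2 lc_c_rc_2_1 lc_c_rc_10_3 lc_c_rc_2_1 lc_c_rc_21_2 lc_c_rc_23_2 lc_c_rc_23_2 lc_c_rc_20_2 lc_c_rc_2_1 lc_c_rc_10_3 lc_c_rc_23_2 lc_c_rc_20_2 lc_c_rc_23_2 lc_c_rc_20_2 lc_c_rc_23_2 lc_c_rc_21_0) (@D3.rec (fun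 _ => (Cert rels S Gen.c)) lc_c_rc_20_2 lc_c_rc_2_1 lc_c_rc_10_3 lc_c_rc_20_2 lc_c_rc_10_5 lc_c_rc_2_1 lc_c_rc_2_1 lc_c_rc_10_3 lc_c_rc_10_3 lc_c_rc_23_2 lc_c_rc_20_2 lc_c_rc_18_2 lc_c_rc_17_0 lc_c_rc_20_2 lc_c_Cert_tree lc_c_rc_45_46 lc_c_rc_18_2 lc_c_rc_17_0 lc_c_rc_19_2 lc_c_rc_2_1 lc_c_rc_18_2 lc_c_rc_2_1 lc_c_rc_45_19 lc_c_rc_19_2 lc_c_rc_2_1 lc_c_rc_19_2 lc_c_rc_21_2 lc_c_Cert_tree lc_c_rc_23_2 lc_c_rc_17_0 lc_c_rc_19_2 lc_c_rc_23_2)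
def ce_c_10 : D2 → D3 → (Cert rels S Gen.c) := @D2.rec (fun _ => D3 → (Cert rels S Gen.c)) (@D3.rec (fun _ => (Cert rels S Gen.c)) lc_c_rc_18_2 lc_c_Cert_tree lc_c_rc_21_2 lc_c_rc_17_0 lc_c_rc_19_2 lc_c_rc_23_2 lc_c_rc_10_3 lc_c_rc_19_2 lc_c_rc_23_2 lc_c_rc_21_2 lc_c_rc_23_2 lc_c_rc_20_2 lc_c_rc_17_0 lc_c_rc_19_2 lc_c_rc_23_2 lc_c_rc_10_3 lc_c_rc_19_2 lc_c_rc_23_2 lc_c_rc_21_2 lc_c_rc_23_2 lc_c_rc_20_2 lc_c_rc_2_1 lc_c_rc_10_3 lc_c_rc_10_3 lc_c_rc_18_2 lc_c_rc_21_2 lc_c_rc_23_2 lc_c_rc_20_2 lc_c_rc_22_2 lc_c_rc_23_2 lc_c_rc_20_2 lc_c_rc_18_2) (@D3.rec (fun _ => (Cert rels S Gen.c)) lc_c_rc_21_2 lc_c_rc_23_2 lc_c_rc_20_2 lc_c_rc_22_2 lc_c_rc_23_2 lc_c_rc_20_2 lc_c_rc_18_2 lc_c_rc_20_2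 lc_c_rc_18_2 lc_c_rc_22_2 lc_c_rc_23_2 lc_c_rc_20_2 lc_c_rc_18_2 lc_c_rc_23_2 lc_c_rc_20_2 lc_c_Cert_tree lc_c_rc_19_2 lc_c_rc_18_2 lc_c_rc_20_2 lc_c_rc_18_2 lc_c_rc_23_2 lc_c_rc_20_2 lc_c_rc_20_2 lc_c_rc_45_19 lc_c_rc_2_1 lc_c_rc_19_2 lc_c_rc_10_3 lc_c_rc_23_2 lc_c_rc_2_1 lc_c_rc_20_2 lc_c_rc_2_1 lc_c_rc_10_3) (@D3.rec (fun _ => (Cert rels S Gen.c)) lc_c_rc_10_3 lc_c_rc_21_2 lc_c_rc_23_2 lc_c_rc_20_2 lc_c_rc_20_2 lc_c_rc_23_2 lc_c_rc_20_2 lc_c_rc_2_1 lc_c_rc_20_2 lc_c_rc_2_1 lc_c_rc_10_3 lc_c_rc_10_3 lc_c_rc_23_2 lc_c_rc_20_2 lc_c_rc_17_0 lc_c_rc_19_2 lc_c_rc_20_2 lc_c_rc_2_1 lc_c_rc_2_1 lc_c_rc_10_3 lc_c_rc_10_3 lc_c_rc_10_3 lc_c_rc_22_2 lc_c_rc_23_2 lc_c_rc_20_2 lc_c_rc_23_2 lc_c_rc_20_2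 lc_c_Cert_tree lc_c_rc_2_1 lc_c_rc_2_1 lc_c_Cert_tree lc_c_rc_2_1) (@D3.rec (fun _ => (Cert rels S Gen.c)) lc_c_Cert_tree lc_c_rc_17_0 lc_c_rc_23_2 lc_c_rc_20_2 lc_c_rc_20_2 lc_c_rc_20_2 lc_c_rc_2_1 lc_c_rc_10_3 lc_c_rc_23_2 lc_c_rc_20_2 lc_c_rc_21_2 lc_c_rc_20_2 lc_c_Cert_tree lc_c_rc_20_2 lc_c_rc_2_1 lc_c_rc_10_3 lc_c_rc_20_2 lc_c_rc_10_3 lc_c_rc_20_2 lc_c_Cert_tree lc_c_rc_21_2 lc_c_rc_2_1 lc_c_rc_2_1 lc_c_rc_21_2 lc_c_rc_10_3 lc_c_rc_23_2 lc_c_rc_20_2 lc_c_Cert_tree lc_c_rc_20_2 lc_c_Cert_tree lc_c_rc_17_0 lc_c_Cert_tree) (@D3.rec (fun _ => (Cert rels S Gen.c)) lc_c_rc_17_0 lc_c_rc_17_0 lc_c_rc_10_3 lc_c_rc_2_1 lc_c_rc_21_2 lc_c_rc_17_0 lc_c_rc_19_2 lc_c_rc_23_2 lc_c_rc_18_2 lc_c_rc_19_2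 lc_c_rc_23_2 lc_c_rc_47_29 lc_c_rc_23_2 lc_c_rc_20_2 lc_c_rc_18_2 lc_c_rc_10_3 lc_c_rc_19_2 lc_c_rc_23_2 lc_c_rc_20_2 lc_c_rc_2_1 lc_c_rc_10_3 lc_c_rc_10_3 lc_c_rc_18_2 lc_c_rc_23_2 lc_c_rc_18_2 lc_c_rc_10_3 lc_c_rc_2_1 lc_c_rc_10_3 lc_c_rc_23_2 lc_c_rc_17_0 lc_c_rc_2_1 lc_c_rc_10_3) (@D3.rec (fun _ => (Cert rels S Gen.c)) lc_c_rc_20_2 lc_c_rc_2_1 lc_c_rc_19_2 lc_c_Cert_tree lc_c_rc_23_2 lc_c_rc_17_0 lc_c_rc_23_2 lc_c_rc_17_0 lc_c_rc_23_2 lc_c_rc_10_3 lc_c_rc_19_2 lc_c_rc_23_2 lc_c_rc_23_2 lc_c_rc_20_2 lc_c_rc_18_2 lc_c_rc_23_2 lc_c_rc_2_1 lc_c_rc_23_2 lc_c_rc_22_0 lc_c_rc_20_2 lc_c_rc_10_3 lc_c_rc_23_2 lc_c_rc_20_2 lc_c_rc_2_1 lc_c_rc_10_3 lc_c_rc_20_2 lc_c_rc_20_2 lc_c_rc_10_3 lc_c_rc_20_2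 lc_c_rc_2_1 lc_c_rc_10_3 lc_c_rc_18_2) (@D3.rec (fun _ => (Cert rels S Gen.c)) lc_c_rc_20_2 lc_c_rc_2_1 lc_c_rc_20_2 lc_c_rc_18_2 lc_c_rc_18_2 lc_c_rc_2_1 lc_c_rc_45_64 lc_c_rc_19_2 lc_c_rc_21_2 lc_c_Cert_tree lc_c_rc_23_2 lc_c_rc_17_0 lc_c_rc_19_2 lc_c_rc_23_2 lc_c_Cert_tree lc_c_rc_21_2 lc_c_rc_17_0 lc_c_rc_23_2 lc_c_rc_10_3 lc_c_rc_19_2 lc_c_rc_23_2 lc_c_rc_21_2 lc_c_rc_23_2 lc_c_rc_20_2 lc_c_rc_17_0 lc_c_rc_19_2 lc_c_rc_23_2 lc_c_rc_10_3 lc_c_rc_19_2 lc_c_rc_23_2 lc_c_rc_21_2 lc_c_rc_23_2) (@D3.rec (fun _ => (Cert rels S Gen.c)) lc_c_rc_20_2 lc_c_rc_2_1 lc_c_rc_10_3 lc_c_rc_10_3 lc_c_rc_18_2 lc_c_rc_21_2 lc_c_rc_23_2 lc_c_rc_20_2 lc_c_rc_22_2 lc_c_rc_23_2 lc_c_rc_20_2 lc_c_rc_18_2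 lc_c_rc_21_2 lc_c_rc_23_2 lc_c_rc_22_2 lc_c_rc_23_2 lc_c_rc_18_2 lc_c_rc_20_2 lc_c_rc_18_2 lc_c_rc_22_2 lc_c_rc_23_2 lc_c_rc_20_2 lc_c_rc_23_2 lc_c_rc_23_2 lc_c_rc_20_2 lc_c_Cert_tree lc_c_rc_19_2 lc_c_rc_18_2 lc_c_rc_19_2 lc_c_rc_23_2 lc_c_rc_23_2 lc_c_rc_20_2) (@D3.rec (fun _ => (Cert rels S Gen.c)) lc_c_rc_20_2 lc_c_rc_19_0 lc_c_rc_21_2 lc_c_rc_10_3 lc_c_rc_23_2 lc_c_rc_20_2 lc_c_rc_2_1 lc_c_rc_10_3 lc_c_rc_10_3 lc_c_rc_23_2 lc_c_rc_20_2 lc_c_rc_17_1 lc_c_rc_20_2 lc_c_rc_21_0 lc_c_rc_20_2 lc_c_rc_10_3 lc_c_rc_10_3 lc_c_rc_23_2 lc_c_rc_20_2 lc_c_rc_23_2 lc_c_rc_20_2 lc_c_rc_2_1 lc_c_rc_2_1 lc_c_rc_10_3 lc_c_rc_10_3 lc_c_rc_10_3 lc_c_rc_23_2 lc_c_rc_20_2 lc_c_rc_18_2 lc_c_rc_2_1 lc_c_rc_20_2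 lc_c_rc_20_2) (@D3.rec (fun _ => (Cert rels S Gen.c)) lc_c_rc_2_1 lc_c_rc_2_1 lc_c_rc_2_1 lc_c_rc_20_2 lc_c_rc_18_2 lc_c_rc_20_2 lc_c_Cert_tree lc_c_rc_19_2 lc_c_rc_20_2 lc_c_rc_20_2 lc_c_rc_2_1 lc_c_rc_10_3 lc_c_rc_20_2 lc_c_rc_18_2 lc_c_rc_20_2 lc_c_rc_20_2 lc_c_rc_20_2 lc_c_rc_18_2 lc_c_rc_20_2 lc_c_rc_2_1 lc_c_rc_2_1 lc_c_rc_10_3 lc_c_rc_17_1 lc_c_rc_20_2 lc_c_rc_21_0 lc_c_rc_22_0 lc_c_rc_20_2 lc_c_rc_45_28 lc_c_rc_19_2 lc_c_rc_18_2 lc_c_rc_17_0 lc_c_rc_19_2) (@D3.rec (fun _ => (Cert rels S Gen.c)) lc_c_rc_23_2 lc_c_rc_10_3 lc_c_rc_23_2 lc_c_rc_20_2 lc_c_rc_23_2 lc_c_rc_20_2 lc_c_rc_10_3 lc_c_rc_10_3 lc_c_rc_18_2 lc_c_rc_21_2 lc_c_rc_23_2 lc_c_rc_20_2 lc_c_rc_23_2 lc_c_rc_20_2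 lc_c_rc_18_2 lc_c_rc_20_2 lc_c_rc_18_2 lc_c_rc_23_2 lc_c_rc_18_2 lc_c_rc_19_2 lc_c_rc_18_2 lc_c_rc_20_2 lc_c_rc_18_2 lc_c_rc_23_2 lc_c_rc_20_2 lc_c_rc_20_2 lc_c_rc_19_0 lc_c_rc_10_3 lc_c_rc_20_2 lc_c_rc_10_3 lc_c_rc_10_3 lc_c_rc_10_3) (@D3.rec (fun _ => (Cert rels S Gen.c)) lc_c_rc_23_2 lc_c_rc_20_2 lc_c_rc_20_2 lc_c_rc_20_2 lc_c_rc_18_2 lc_c_rc_18_2 lc_c_rc_21_2 lc_c_rc_17_0 lc_c_rc_19_2 lc_c_rc_23_2 lc_c_rc_18_2 lc_c_rc_19_2 lc_c_rc_23_2 lc_c_rc_21_2 lc_c_rc_23_2 lc_c_rc_20_2 lc_c_rc_19_2 lc_c_rc_23_2 lc_c_rc_21_2 lc_c_rc_20_2 lc_c_rc_2_1 lc_c_rc_10_3 lc_c_rc_10_3 lc_c_rc_18_2 lc_c_rc_21_2 lc_c_rc_23_2 lc_c_rc_20_2 lc_c_rc_22_2 lc_c_rc_23_2 lc_c_rc_20_2 lc_c_rc_18_2 lc_c_rc_21_2)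 (@D3.rec (fun _ => (Cert rels S Gen.c)) lc_c_rc_23_2 lc_c_rc_20_2 lc_c_rc_22_2 lc_c_rc_23_2 lc_c_rc_20_2 lc_c_rc_2_1 lc_c_rc_2_1 lc_c_rc_10_3 lc_c_rc_10_3 lc_c_rc_10_3 lc_c_rc_10_3 lc_c_rc_18_2 lc_c_rc_20_2 lc_c_rc_18_2 lc_c_rc_22_2 lc_c_rc_23_2 lc_c_rc_20_2 lc_c_rc_18_2 lc_c_rc_23_2 lc_c_rc_20_2 lc_c_Cert_tree lc_c_rc_18_2 lc_c_rc_20_2 lc_c_rc_18_2 lc_c_rc_22_2 lc_c_rc_23_2 lc_c_rc_20_2 lc_c_rc_23_2 lc_c_rc_23_2 lc_c_rc_20_2 lc_c_rc_19_2 lc_c_rc_18_2) (@D3.rec (fun _ => (Cert rels S Gen.c)) lc_c_rc_20_2 lc_c_rc_18_2 lc_c_rc_23_2 lc_c_rc_20_2 lc_c_rc_23_2 lc_c_rc_20_2 lc_c_Cert_tree lc_c_rc_19_2 lc_c_rc_20_2 lc_c_Cert_tree lc_c_rc_17_0 lc_c_rc_19_2 lc_c_rc_18_2 lc_c_rc_19_2 lc_c_rc_23_2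 lc_c_rc_20_2 lc_c_rc_22_0 lc_c_rc_17_0 lc_c_rc_2_1 lc_c_rc_2_1 lc_c_rc_10_3 lc_c_rc_10_3 lc_c_rc_10_3 lc_c_rc_23_2 lc_c_rc_20_2 lc_c_rc_21_2 lc_c_rc_20_2 lc_c_rc_2_1 lc_c_rc_20_2 lc_c_rc_2_1 lc_c_rc_2_1 lc_c_rc_2_1) (@D3.rec (fun _ => (Cert rels S Gen.c)) lc_c_rc_10_3 lc_c_rc_10_3 lc_c_rc_10_3 lc_c_rc_23_2 lc_c_rc_20_2 lc_c_Cert_tree lc_c_rc_20_2 lc_c_rc_18_4 lc_c_rc_17_0 lc_c_rc_2_1 lc_c_rc_10_3 lc_c_rc_17_1 lc_c_rc_2_1 lc_c_rc_20_2 lc_c_rc_20_2 lc_c_rc_20_2 lc_c_rc_21_2 lc_c_rc_20_2 lc_c_rc_21_2 lc_c_rc_2_1 lc_c_rc_21_2 lc_c_Cert_tree lc_c_rc_20_2 lc_c_rc_17_1 lc_c_rc_17_0 lc_c_rc_10_5 lc_c_rc_2_3 lc_c_rc_23_2 lc_c_rc_18_2 lc_c_rc_20_2 lc_c_rc_23_2 lc_c_rc_10_5) (@D3.rec (fun _ =>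 (Cert rels S Gen.c)) lc_c_rc_2_1 lc_c_rc_19_2 lc_c_rc_18_2 lc_c_rc_21_2 lc_c_rc_23_2 lc_c_rc_20_2 lc_c_rc_22_2 lc_c_rc_23_2 lc_c_rc_20_2 lc_c_rc_2_1 lc_c_rc_2_1 lc_c_rc_2_1 lc_c_rc_2_1 lc_c_rc_2_1 lc_c_rc_10_3 lc_c_rc_10_3 lc_c_rc_10_3 lc_c_rc_10_3 lc_c_rc_10_3 lc_c_rc_10_3 lc_c_rc_46_2 lc_c_rc_19_2 lc_c_rc_18_2 lc_c_rc_20_2 lc_c_rc_18_2 lc_c_rc_23_2 lc_c_rc_20_2 lc_c_rc_23_2 lc_c_rc_20_2 lc_c_Cert_tree lc_c_rc_19_2 lc_c_rc_20_2) (@D3.rec (fun _ => (Cert rels S Gen.c)) lc_c_rc_20_2 lc_c_rc_17_0 lc_c_rc_22_0 lc_c_rc_22_2 lc_c_rc_21_2 lc_c_rc_23_2 lc_c_rc_23_2 lc_c_rc_10_5 lc_c_rc_23_2 lc_c_rc_20_2 lc_c_Cert_tree lc_c_rc_19_2 lc_c_rc_20_2 lc_c_Cert_tree lc_c_rc_17_0 lc_c_rc_19_2 lc_c_rc_18_2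 lc_c_rc_23_2 lc_c_rc_20_2 lc_c_rc_23_2 lc_c_Cert_tree lc_c_rc_20_2 lc_c_rc_18_4 lc_c_rc_17_0 lc_c_rc_23_2 lc_c_rc_10_3 lc_c_rc_20_2 lc_c_rc_20_2 lc_c_rc_23_2 lc_c_rc_20_2 lc_c_rc_18_2 lc_c_rc_2_1) (@D3.rec (fun _ => (Cert rels S Gen.c)) lc_c_rc_2_1 lc_c_rc_2_1 lc_c_rc_10_3 lc_c_rc_10_3 lc_c_Cert_tree lc_c_rc_20_2 lc_c_rc_2_1 lc_c_rc_17_0 lc_c_rc_10_3 lc_c_rc_10_3 lc_c_rc_2_1 lc_c_rc_2_1 lc_c_rc_20_2 lc_c_rc_22_2 lc_c_rc_45_55 lc_c_rc_17_0 lc_c_rc_19_2 lc_c_rc_18_0 lc_c_rc_19_2 lc_c_rc_47_22 lc_c_rc_23_2 lc_c_rc_46_37 lc_c_rc_18_2 lc_c_rc_21_2 lc_c_rc_22_2 lc_c_rc_18_2 lc_c_rc_20_2 lc_c_rc_22_2 lc_c_rc_18_2 lc_c_rc_18_0 lc_c_rc_22_2 lc_c_rc_19_2) (@D3.rec (fun _ => (Cert rels S Gen.c))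 lc_c_rc_18_2 lc_c_rc_20_2 lc_c_rc_18_2 lc_c_rc_23_2 lc_c_rc_18_0 lc_c_rc_23_2 lc_c_rc_20_2 lc_c_rc_46_37 lc_c_rc_19_2 lc_c_rc_20_2 lc_c_rc_19_2 lc_c_rc_18_2 lc_c_rc_20_2 lc_c_rc_23_2 lc_c_rc_20_2 lc_c_rc_20_2 lc_c_rc_23_2 lc_c_rc_20_2 lc_c_rc_23_2 lc_c_rc_46_9 lc_c_rc_18_2 lc_c_rc_21_2 lc_c_rc_23_2 lc_c_rc_20_2 lc_c_rc_46_30 lc_c_rc_23_2 lc_c_rc_20_2 lc_c_rc_18_2 lc_c_rc_18_2 lc_c_rc_18_2 lc_c_rc_22_2 lc_c_rc_23_2) (@D3.rec (fun _ => (Cert rels S Gen.c)) lc_c_rc_23_2 lc_c_rc_19_2 lc_c_rc_18_2 lc_c_rc_20_2 lc_c_rc_23_2 lc_c_rc_20_2 lc_c_rc_20_2 lc_c_rc_22_2 lc_c_rc_23_2 lc_c_rc_19_2 lc_c_rc_2_1 lc_c_rc_23_2 lc_c_rc_20_2 lc_c_rc_23_2 lc_c_Cert_tree lc_c_rc_20_2 lc_c_Cert_tree lc_c_rc_17_0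 lc_c_rc_19_2 lc_c_rc_17_0 lc_c_rc_10_3 lc_c_rc_18_2 lc_c_rc_10_1 lc_c_rc_10_1 lc_c_rc_20_2 lc_c_rc_20_2 lc_c_rc_20_2 lc_c_rc_20_2 lc_c_rc_22_2 lc_c_rc_21_2 lc_c_Cert_tree lc_c_rc_19_2) (@D3.rec (fun _ => (Cert rels S Gen.c)) lc_c_rc_18_2 lc_c_rc_23_2 lc_c_rc_20_2 lc_c_rc_23_2 lc_c_rc_20_2 lc_c_rc_20_2 lc_c_Cert_tree lc_c_rc_17_0 lc_c_rc_22_2 lc_c_rc_17_0 lc_c_rc_10_3 lc_c_rc_20_2 lc_c_rc_23_2 lc_c_rc_23_2 lc_c_rc_10_1 lc_c_rc_10_3 lc_c_rc_17_0 lc_c_rc_19_2 lc_c_rc_23_2 lc_c_rc_10_3 lc_c_rc_19_2 lc_c_rc_23_2 lc_c_rc_23_2 lc_c_rc_20_2 lc_c_rc_10_3 lc_c_rc_10_3 lc_c_rc_18_2 lc_c_rc_21_2 lc_c_rc_23_2 lc_c_rc_20_2 lc_c_rc_23_2 lc_c_rc_20_2) (@D3.rec (fun _ => (Cert rels S Gen.c)) lc_c_rc_18_2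 lc_c_rc_20_2 lc_c_rc_18_2 lc_c_rc_22_2 lc_c_rc_23_2 lc_c_rc_20_2 lc_c_rc_2_1 lc_c_rc_23_2 lc_c_rc_20_2 lc_c_Cert_tree lc_c_rc_2_1 lc_c_rc_18_2 lc_c_rc_19_0 lc_c_rc_23_2 lc_c_rc_23_2 lc_c_rc_20_2 lc_c_rc_20_2 lc_c_rc_2_3 lc_c_rc_10_3 lc_c_rc_20_2 lc_c_rc_20_2 lc_c_rc_10_3 lc_c_rc_10_3 lc_c_rc_20_2 lc_c_rc_2_1 lc_c_rc_20_2 lc_c_Cert_tree lc_c_rc_2_1 lc_c_rc_19_2 lc_c_rc_17_0 lc_c_Cert_tree lc_c_rc_2_1)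
def ce_c_11 : D2 → D3 → (Cert rels S Gen.c) := @D2.rec (fun _ => D3 → (Cert rels S Gen.c)) (@D3.rec (fun _ => (Cert rels S Gen.c)) lc_c_rc_18_2 lc_c_Cert_tree lc_c_Cert_tree lc_c_rc_19_2 lc_c_rc_19_2 lc_c_rc_17_0 lc_c_rc_10_3 lc_c_rc_19_2 lc_c_rc_23_2 lc_c_rc_21_2 lc_c_rc_23_2 lc_c_rc_20_2 lc_c_rc_18_2 lc_c_rc_21_2 lc_c_rc_23_2 lc_c_rc_20_2 lc_c_rc_23_2 lc_c_rc_20_2 lc_c_rc_18_2 lc_c_rc_20_2 lc_c_rc_18_2 lc_c_rc_22_2 lc_c_rc_23_2 lc_c_rc_20_2 lc_c_rc_18_2 lc_c_rc_23_2 lc_c_rc_20_2 lc_c_Cert_tree lc_c_rc_19_2 lc_c_rc_18_2 lc_c_rc_20_2 lc_c_rc_18_2) (@D3.rec (fun _ => (Cert rels S Gen.c)) lc_c_rc_23_2 lc_c_rc_20_2 lc_c_rc_23_2 lc_c_rc_20_2 lc_c_Cert_tree lc_c_rc_19_2 lc_c_rc_20_2 lc_c_Cert_tree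 lc_c_rc_17_0 lc_c_rc_19_2 lc_c_rc_18_2 lc_c_rc_19_0 lc_c_rc_19_0 lc_c_rc_20_2 lc_c_rc_2_1 lc_c_Cert_tree lc_c_rc_17_0 lc_c_rc_19_2 lc_c_rc_2_1 lc_c_rc_21_0 lc_c_rc_20_2 lc_c_Cert_tree lc_c_rc_17_0 lc_c_rc_18_4 lc_c_rc_17_0 lc_c_rc_47_43 lc_c_rc_10_3 lc_c_rc_2_1 lc_c_rc_18_2 lc_c_rc_20_2 lc_c_rc_17_0 lc_c_rc_21_2) (@D3.rec (fun _ => (Cert rels S Gen.c)) lc_c_rc_47_22 lc_c_rc_2_1 lc_c_rc_21_0 lc_c_rc_23_2 lc_c_rc_10_5 lc_c_rc_23_2 lc_c_rc_23_2 lc_c_rc_23_2 lc_c_rc_10_5 lc_c_rc_10_5 lc_c_Cert_tree lc_c_rc_20_2 lc_c_Cert_tree lc_c_rc_17_0 lc_c_rc_19_2 lc_c_rc_18_4 lc_c_rc_17_0 lc_c_rc_45_73 lc_c_rc_10_3 lc_c_rc_20_2 lc_c_rc_20_2 lc_c_rc_23_2 lc_c_rc_19_0 lc_c_rc_46_37 lc_c_rc_17_0 lc_c_rc_18_2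 lc_c_rc_10_3 lc_c_rc_2_1 lc_c_rc_10_3 lc_c_rc_20_2 lc_c_rc_22_2 lc_c_rc_45_73) (@D3.rec (fun _ => (Cert rels S Gen.c)) lc_c_rc_2_1 lc_c_rc_10_3 lc_c_rc_2_1 lc_c_rc_17_0 lc_c_rc_19_2 lc_c_rc_23_2 lc_c_Cert_tree lc_c_rc_23_2 lc_c_rc_17_0 lc_c_rc_19_2 lc_c_rc_23_2 lc_c_rc_10_3 lc_c_rc_19_2 lc_c_rc_23_2 lc_c_rc_21_2 lc_c_rc_23_2 lc_c_rc_20_2 lc_c_rc_17_0 lc_c_rc_19_2 lc_c_rc_23_2 lc_c_rc_10_3 lc_c_rc_19_2 lc_c_rc_23_2 lc_c_rc_23_2 lc_c_rc_20_2 lc_c_rc_2_1 lc_c_rc_10_3 lc_c_rc_10_3 lc_c_rc_18_2 lc_c_rc_21_2 lc_c_rc_23_2 lc_c_rc_20_2) (@D3.rec (fun _ => (Cert rels S Gen.c)) lc_c_rc_22_2 lc_c_rc_23_2 lc_c_rc_20_2 lc_c_rc_20_2 lc_c_rc_18_2 lc_c_rc_20_2 lc_c_rc_18_2 lc_c_rc_22_2 lc_c_rc_23_2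 lc_c_rc_20_2 lc_c_rc_23_2 lc_c_rc_18_0 lc_c_Cert_tree lc_c_rc_19_2 lc_c_rc_18_2 lc_c_rc_23_2 lc_c_rc_47_50 lc_c_rc_21_2 lc_c_rc_10_3 lc_c_rc_23_2 lc_c_rc_23_2 lc_c_rc_20_2 lc_c_rc_2_1 lc_c_rc_10_3 lc_c_rc_10_3 lc_c_rc_23_2 lc_c_rc_20_2 lc_c_rc_17_0 lc_c_rc_20_2 lc_c_rc_10_3 lc_c_rc_23_2 lc_c_rc_21_0) (@D3.rec (fun _ => (Cert rels S Gen.c)) lc_c_rc_20_2 lc_c_rc_2_1 lc_c_rc_10_3 lc_c_rc_20_2 lc_c_rc_18_2 lc_c_rc_2_1 lc_c_rc_2_1 lc_c_rc_10_3 lc_c_rc_10_3 lc_c_rc_10_3 lc_c_rc_23_2 lc_c_rc_20_2 lc_c_rc_2_1 lc_c_rc_2_1 lc_c_rc_20_2 lc_c_Cert_tree lc_c_rc_17_0 lc_c_rc_18_2 lc_c_rc_17_0 lc_c_rc_2_1 lc_c_rc_18_0 lc_c_rc_18_0 lc_c_rc_10_3 lc_c_rc_18_2 lc_c_rc_2_1 lc_c_Cert_tree lc_c_rc_2_1 lc_c_rc_20_2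 lc_c_rc_20_2 lc_c_rc_20_2 lc_c_rc_2_1 lc_c_rc_10_3) (@D3.rec (fun _ => (Cert rels S Gen.c)) lc_c_rc_20_2 lc_c_rc_18_2 lc_c_rc_20_2 lc_c_Cert_tree lc_c_rc_20_2 lc_c_rc_20_2 lc_c_rc_2_1 lc_c_rc_10_3 lc_c_rc_10_1 lc_c_rc_45_46 lc_c_rc_2_1 lc_c_rc_2_1 lc_c_rc_10_3 lc_c_rc_21_2 lc_c_rc_20_2 lc_c_rc_19_2 lc_c_rc_20_2 lc_c_rc_20_2 lc_c_rc_17_0 lc_c_rc_47_15 lc_c_rc_10_3 lc_c_rc_2_1 lc_c_Cert_tree lc_c_rc_21_2 lc_c_rc_17_0 lc_c_rc_23_2 lc_c_rc_18_2 lc_c_rc_19_2 lc_c_rc_23_2 lc_c_rc_21_2 lc_c_rc_23_2 lc_c_rc_20_2) (@D3.rec (fun _ => (Cert rels S Gen.c)) lc_c_rc_18_2 lc_c_rc_17_0 lc_c_rc_23_2 lc_c_rc_10_3 lc_c_rc_19_2 lc_c_rc_23_2 lc_c_rc_23_2 lc_c_rc_20_2 lc_c_rc_2_1 lc_c_rc_10_3 lc_c_rc_10_3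 lc_c_rc_18_2 lc_c_rc_21_2 lc_c_rc_23_2 lc_c_rc_20_2 lc_c_rc_22_2 lc_c_rc_23_2 lc_c_rc_20_2 lc_c_rc_19_2 lc_c_rc_23_2 lc_c_rc_23_2 lc_c_rc_20_2 lc_c_rc_2_1 lc_c_rc_10_3 lc_c_rc_10_3 lc_c_rc_18_2 lc_c_rc_21_2 lc_c_rc_23_2 lc_c_rc_20_2 lc_c_rc_22_2 lc_c_rc_23_2 lc_c_rc_20_2) (@D3.rec (fun _ => (Cert rels S Gen.c)) lc_c_rc_2_1 lc_c_rc_2_1 lc_c_rc_10_3 lc_c_rc_10_3 lc_c_rc_10_3 lc_c_rc_10_3 lc_c_rc_18_2 lc_c_rc_20_2 lc_c_rc_18_2 lc_c_rc_22_2 lc_c_rc_23_2 lc_c_rc_20_2 lc_c_rc_18_2 lc_c_rc_23_2 lc_c_rc_20_2 lc_c_Cert_tree lc_c_rc_18_2 lc_c_rc_18_2 lc_c_rc_22_2 lc_c_rc_23_2 lc_c_rc_20_2 lc_c_rc_23_2 lc_c_rc_20_2 lc_c_Cert_tree lc_c_rc_19_2 lc_c_rc_18_2 lc_c_rc_20_2 lc_c_rc_18_2 lc_c_rc_23_2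 lc_c_rc_20_2 lc_c_rc_23_2 lc_c_rc_20_2) (@D3.rec (fun _ => (Cert rels S Gen.c)) lc_c_Cert_tree lc_c_rc_19_2 lc_c_rc_20_2 lc_c_Cert_tree lc_c_rc_17_0 lc_c_rc_19_2 lc_c_rc_18_2 lc_c_rc_20_2 lc_c_rc_20_2 lc_c_rc_10_3 lc_c_rc_20_2 lc_c_rc_20_2 lc_c_rc_2_1 lc_c_rc_10_3 lc_c_rc_10_3 lc_c_rc_10_3 lc_c_rc_23_2 lc_c_rc_20_2 lc_c_rc_21_2 lc_c_rc_20_2 lc_c_Cert_tree lc_c_rc_20_2 lc_c_rc_2_1 lc_c_rc_10_3 lc_c_rc_10_3 lc_c_rc_20_2 lc_c_rc_23_2 lc_c_rc_20_2 lc_c_Cert_tree lc_c_rc_2_1 lc_c_rc_2_1 lc_c_rc_2_1) (@D3.rec (fun _ => (Cert rels S Gen.c)) lc_c_rc_10_3 lc_c_rc_10_3 lc_c_rc_10_3 lc_c_rc_23_2 lc_c_rc_20_2 lc_c_Cert_tree lc_c_rc_20_2 lc_c_Cert_tree lc_c_rc_17_0 lc_c_Cert_tree lc_c_rc_17_0 lc_c_rc_17_0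 lc_c_rc_10_3 lc_c_Cert_tree lc_c_rc_2_1 lc_c_rc_20_2 lc_c_rc_22_0 lc_c_rc_21_2 lc_c_Cert_tree lc_c_rc_17_0 lc_c_rc_18_2 lc_c_rc_2_1 lc_c_Cert_tree lc_c_rc_20_2 lc_c_Cert_tree lc_c_rc_17_0 lc_c_rc_21_2 lc_c_rc_2_1 lc_c_rc_21_2 lc_c_rc_45_28 lc_c_rc_20_2 lc_c_rc_21_2) (@D3.rec (fun _ => (Cert rels S Gen.c)) lc_c_rc_17_0 lc_c_rc_17_0 lc_c_rc_10_3 lc_c_rc_17_0 lc_c_rc_47_36 lc_c_rc_2_1 lc_c_rc_18_2 lc_c_rc_18_2 lc_c_rc_19_2 lc_c_rc_23_2 lc_c_rc_21_2 lc_c_rc_20_0 lc_c_rc_20_2 lc_c_rc_2_1 lc_c_rc_19_2 lc_c_rc_18_2 lc_c_rc_23_2 lc_c_rc_20_2 lc_c_rc_20_0 lc_c_rc_23_2 lc_c_rc_20_2 lc_c_rc_10_3 lc_c_rc_2_1 lc_c_rc_18_2 lc_c_rc_10_3 lc_c_rc_2_1 lc_c_rc_10_3 lc_c_rc_17_0 lc_c_rc_23_2 lc_c_rc_23_2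 lc_c_rc_20_2 lc_c_rc_10_3) (@D3.rec (fun _ => (Cert rels S Gen.c)) lc_c_rc_23_2 lc_c_rc_20_2 lc_c_rc_2_1 lc_c_rc_10_3 lc_c_rc_18_2 lc_c_rc_23_2 lc_c_rc_20_2 lc_c_rc_20_2 lc_c_rc_18_2 lc_c_rc_2_1 lc_c_rc_10_3 lc_c_rc_20_2 lc_c_rc_2_1 lc_c_rc_10_3 lc_c_rc_18_2 lc_c_rc_10_3 lc_c_rc_18_2 lc_c_rc_2_1 lc_c_Cert_tree lc_c_rc_19_2 lc_c_rc_18_2 lc_c_rc_20_2 lc_c_rc_45_64 lc_c_rc_45_19 lc_c_Cert_tree lc_c_rc_21_2 lc_c_rc_17_0 lc_c_rc_19_2 lc_c_rc_23_2 lc_c_rc_18_2 lc_c_rc_19_2 lc_c_rc_23_2) (@D3.rec (fun _ => (Cert rels S Gen.c)) lc_c_rc_21_2 lc_c_rc_23_2 lc_c_rc_20_2 lc_c_rc_17_0 lc_c_rc_23_2 lc_c_rc_10_3 lc_c_rc_23_2 lc_c_rc_20_2 lc_c_rc_2_1 lc_c_rc_10_3 lc_c_rc_10_3 lc_c_rc_18_2 lc_c_rc_21_2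 lc_c_rc_23_2 lc_c_rc_20_2 lc_c_rc_23_2 lc_c_rc_20_2 lc_c_rc_19_2 lc_c_rc_23_2 lc_c_rc_23_2 lc_c_rc_20_2 lc_c_rc_10_3 lc_c_rc_10_3 lc_c_rc_18_2 lc_c_rc_21_2 lc_c_rc_23_2 lc_c_rc_20_2 lc_c_rc_23_2 lc_c_rc_20_2 lc_c_rc_2_1 lc_c_rc_2_1 lc_c_rc_10_3) (@D3.rec (fun _ => (Cert rels S Gen.c)) lc_c_rc_10_3 lc_c_rc_10_3 lc_c_rc_10_3 lc_c_rc_18_2 lc_c_rc_20_2 lc_c_rc_18_2 lc_c_rc_22_2 lc_c_rc_23_2 lc_c_rc_20_2 lc_c_rc_18_2 lc_c_rc_23_2 lc_c_rc_20_2 lc_c_Cert_tree lc_c_rc_18_2 lc_c_rc_20_2 lc_c_rc_18_2 lc_c_rc_22_2 lc_c_rc_23_2 lc_c_rc_23_2 lc_c_rc_19_2 lc_c_rc_18_2 lc_c_rc_20_2 lc_c_rc_18_2 lc_c_rc_23_2 lc_c_rc_20_2 lc_c_rc_23_2 lc_c_rc_20_2 lc_c_Cert_tree lc_c_rc_23_2 lc_c_rc_20_2 lc_c_Cert_tree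 lc_c_rc_17_0) (@D3.rec (fun _ => (Cert rels S Gen.c)) lc_c_rc_18_0 lc_c_rc_22_2 lc_c_rc_20_2 lc_c_rc_20_2 lc_c_rc_10_3 lc_c_rc_20_2 lc_c_rc_2_1 lc_c_rc_10_3 lc_c_rc_10_3 lc_c_rc_20_2 lc_c_rc_18_2 lc_c_rc_20_2 lc_c_rc_20_2 lc_c_rc_10_3 lc_c_rc_10_3 lc_c_rc_20_2 lc_c_rc_18_2 lc_c_rc_20_2 lc_c_rc_2_1 lc_c_rc_2_1 lc_c_rc_10_3 lc_c_rc_10_3 lc_c_Cert_tree lc_c_rc_20_2 lc_c_rc_21_0 lc_c_rc_22_0 lc_c_rc_20_2 lc_c_rc_17_0 lc_c_Cert_tree lc_c_rc_20_0 lc_c_Cert_tree lc_c_rc_17_0) (@D3.rec (fun _ => (Cert rels S Gen.c)) lc_c_rc_19_2 lc_c_rc_18_2 lc_c_rc_2_1 lc_c_rc_18_2 lc_c_rc_18_2 lc_c_rc_18_2 lc_c_rc_19_2 lc_c_rc_2_1 lc_c_rc_18_2 lc_c_rc_45_55 lc_c_rc_18_4 lc_c_rc_18_2 lc_c_rc_19_2 lc_c_rc_23_2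 lc_c_rc_23_2 lc_c_rc_20_2 lc_c_rc_10_3 lc_c_rc_20_2 lc_c_rc_20_2 lc_c_rc_10_3 lc_c_rc_10_3 lc_c_rc_10_3 lc_c_rc_10_3 lc_c_rc_18_2 lc_c_rc_20_2 lc_c_rc_18_2 lc_c_rc_23_2 lc_c_rc_20_2 lc_c_rc_18_2 lc_c_rc_20_2 lc_c_rc_19_2 lc_c_rc_20_2) (@D3.rec (fun _ => (Cert rels S Gen.c)) lc_c_rc_18_2 lc_c_rc_23_2 lc_c_rc_20_2 lc_c_rc_19_2 lc_c_rc_22_2 lc_c_rc_20_2 lc_c_rc_19_2 lc_c_rc_20_2 lc_c_rc_18_2 lc_c_rc_20_2 lc_c_rc_10_3 lc_c_rc_10_3 lc_c_rc_10_3 lc_c_rc_20_2 lc_c_rc_18_2 lc_c_rc_17_1 lc_c_rc_18_2 lc_c_rc_19_2 lc_c_rc_23_2 lc_c_rc_23_2 lc_c_rc_20_2 lc_c_rc_2_1 lc_c_rc_19_2 lc_c_rc_18_2 lc_c_rc_18_2 lc_c_rc_21_2 lc_c_rc_23_2 lc_c_rc_20_2 lc_c_rc_22_2 lc_c_rc_23_2 lc_c_rc_20_2 lc_c_rc_2_1)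 (@D3.rec (fun _ => (Cert rels S Gen.c)) lc_c_rc_21_2 lc_c_rc_20_2 lc_c_rc_2_1 lc_c_rc_2_1 lc_c_rc_18_2 lc_c_rc_10_3 lc_c_rc_10_3 lc_c_rc_10_3 lc_c_rc_18_2 lc_c_rc_18_2 lc_c_rc_18_2 lc_c_rc_22_2 lc_c_rc_23_2 lc_c_rc_20_2 lc_c_rc_18_2 lc_c_rc_23_2 lc_c_rc_20_2 lc_c_rc_18_2 lc_c_rc_20_2 lc_c_rc_18_2 lc_c_rc_22_2 lc_c_rc_23_2 lc_c_rc_20_2 lc_c_rc_18_2 lc_c_rc_23_2 lc_c_rc_20_2 lc_c_rc_2_1 lc_c_rc_2_1 lc_c_rc_2_1 lc_c_rc_2_1 lc_c_rc_10_3 lc_c_rc_10_3) (@D3.rec (fun _ => (Cert rels S Gen.c)) lc_c_rc_10_3 lc_c_rc_10_3 lc_c_rc_10_3 lc_c_rc_10_3 lc_c_rc_18_2 lc_c_rc_19_2 lc_c_rc_18_2 lc_c_rc_20_2 lc_c_rc_18_2 lc_c_rc_23_2 lc_c_rc_20_2 lc_c_rc_23_2 lc_c_rc_20_2 lc_c_Cert_tree lc_c_rc_19_2 lc_c_rc_20_2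 lc_c_Cert_tree lc_c_rc_17_0 lc_c_rc_19_2 lc_c_rc_18_2 lc_c_rc_20_2 lc_c_rc_18_2 lc_c_rc_23_2 lc_c_rc_20_2 lc_c_rc_23_2 lc_c_rc_20_2 lc_c_rc_18_2 lc_c_rc_23_2 lc_c_rc_20_2 lc_c_rc_19_2 lc_c_rc_18_2 lc_c_rc_23_2) (@D3.rec (fun _ => (Cert rels S Gen.c)) lc_c_rc_20_2 lc_c_rc_23_2 lc_c_Cert_tree lc_c_rc_20_2 lc_c_Cert_tree lc_c_rc_17_0 lc_c_rc_19_2 lc_c_rc_17_0 lc_c_rc_10_3 lc_c_rc_21_0 lc_c_rc_47_8 lc_c_rc_18_2 lc_c_rc_2_1 lc_c_rc_2_1 lc_c_rc_10_3 lc_c_rc_10_3 lc_c_rc_20_2 lc_c_rc_18_2 lc_c_rc_21_2 lc_c_rc_20_2 lc_c_rc_2_1 lc_c_rc_2_1 lc_c_rc_10_3 lc_c_rc_10_3 lc_c_Cert_tree lc_c_rc_20_2 lc_c_rc_2_1 lc_c_rc_17_0 lc_c_rc_10_3 lc_c_rc_20_2 lc_c_Cert_tree lc_c_rc_18_2) (@D3.rec (fun _ =>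 (Cert rels S Gen.c)) lc_c_rc_21_2 lc_c_rc_19_2 lc_c_rc_45_46 lc_c_rc_17_0 lc_c_rc_18_2 lc_c_rc_17_1 lc_c_rc_20_2 lc_c_rc_20_2 lc_c_rc_20_2 lc_c_rc_10_5 lc_c_rc_2_1 lc_c_rc_2_1 lc_c_rc_21_2 lc_c_rc_19_2 lc_c_rc_20_2 lc_c_rc_22_2 lc_c_rc_23_2 lc_c_rc_20_2 lc_c_rc_23_2 lc_c_rc_20_2 lc_c_Cert_tree lc_c_rc_2_1 lc_c_rc_2_1 lc_c_rc_2_1 lc_c_rc_2_1 lc_c_rc_2_1 lc_c_rc_2_1 lc_c_rc_10_3 lc_c_rc_10_3 lc_c_rc_10_3 lc_c_rc_10_3 lc_c_rc_10_3)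
def ce_c_12 : D2 → D3 → (Cert rels S Gen.c) := @D2.rec (fun _ => D3 → (Cert rels S Gen.c)) (@D3.rec (fun _ => (Cert rels S Gen.c)) lc_c_rc_10_3 lc_c_rc_10_3 lc_c_rc_10_3 lc_c_Cert_tree lc_c_rc_19_2 lc_c_rc_19_2 lc_c_rc_18_2 lc_c_rc_23_2 lc_c_rc_20_2 lc_c_rc_23_2 lc_c_Cert_tree lc_c_rc_20_2 lc_c_rc_47_57 lc_c_rc_17_0 lc_c_rc_19_2 lc_c_rc_21_2 lc_c_rc_10_3 lc_c_rc_23_2 lc_c_rc_23_2 lc_c_rc_23_2 lc_c_rc_10_5 lc_c_rc_10_5 lc_c_Cert_tree lc_c_rc_20_2 lc_c_Cert_tree lc_c_rc_17_0 lc_c_rc_23_2 lc_c_rc_17_0 lc_c_rc_10_3 lc_c_rc_20_2 lc_c_rc_20_2 lc_c_rc_23_2) (@D3.rec (fun _ => (Cert rels S Gen.c)) lc_c_rc_20_2 lc_c_rc_46_16 lc_c_rc_17_0 lc_c_rc_45_64 lc_c_rc_10_1 lc_c_rc_10_3 lc_c_rc_19_2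 lc_c_rc_2_1 lc_c_rc_2_1 lc_c_Cert_tree lc_c_rc_10_3 lc_c_Cert_tree lc_c_rc_17_0 lc_c_rc_20_0 lc_c_rc_10_3 lc_c_rc_2_1 lc_c_rc_2_1 lc_c_rc_18_2 lc_c_rc_23_2 lc_c_rc_19_2 lc_c_rc_18_2 lc_c_rc_18_2 lc_c_rc_22_2 lc_c_rc_19_2 lc_c_rc_18_2 lc_c_rc_20_2 lc_c_rc_23_2 lc_c_rc_19_2 lc_c_rc_2_1 lc_c_rc_20_2 lc_c_rc_23_2 lc_c_rc_23_2) (@D3.rec (fun _ => (Cert rels S Gen.c)) lc_c_rc_23_2 lc_c_rc_2_3 lc_c_rc_20_2 lc_c_rc_47_22 lc_c_rc_19_2 lc_c_rc_20_2 lc_c_rc_23_2 lc_c_rc_10_3 lc_c_rc_18_2 lc_c_rc_19_2 lc_c_rc_18_2 lc_c_rc_23_2 lc_c_rc_20_2 lc_c_rc_23_2 lc_c_rc_20_2 lc_c_Cert_tree lc_c_rc_19_2 lc_c_rc_18_2 lc_c_rc_18_2 lc_c_rc_18_2 lc_c_rc_18_2 lc_c_rc_20_2 lc_c_rc_23_2 lc_c_rc_23_2 lc_c_rc_22_2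 lc_c_rc_23_2 lc_c_Cert_tree lc_c_rc_17_0 lc_c_rc_18_2 lc_c_rc_17_0 lc_c_rc_10_3 lc_c_rc_19_2) (@D3.rec (fun _ => (Cert rels S Gen.c)) lc_c_rc_10_1 lc_c_rc_20_2 lc_c_rc_2_1 lc_c_Cert_tree lc_c_Cert_tree lc_c_rc_17_0 lc_c_rc_20_2 lc_c_rc_20_2 lc_c_rc_23_2 lc_c_rc_20_2 lc_c_rc_23_2 lc_c_rc_18_2 lc_c_rc_17_0 lc_c_rc_20_0 lc_c_rc_18_2 lc_c_rc_18_2 lc_c_rc_19_2 lc_c_rc_23_2 lc_c_rc_21_2 lc_c_rc_23_2 lc_c_rc_20_2 lc_c_rc_10_3 lc_c_rc_18_2 lc_c_rc_23_2 lc_c_rc_20_2 lc_c_rc_20_2 lc_c_rc_10_3 lc_c_rc_10_3 lc_c_rc_10_3 lc_c_rc_18_2 lc_c_rc_20_2 lc_c_rc_18_2) (@D3.rec (fun _ => (Cert rels S Gen.c)) lc_c_rc_23_2 lc_c_rc_20_2 lc_c_rc_2_1 lc_c_rc_20_2 lc_c_Cert_tree lc_c_rc_19_2 lc_c_rc_18_2 lc_c_rc_20_2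 lc_c_rc_18_2 lc_c_rc_23_2 lc_c_rc_20_2 lc_c_rc_23_2 lc_c_rc_20_2 lc_c_Cert_tree lc_c_rc_46_9 lc_c_rc_20_2 lc_c_Cert_tree lc_c_rc_17_0 lc_c_rc_23_2 lc_c_rc_46_37 lc_c_rc_20_2 lc_c_rc_10_3 lc_c_rc_2_1 lc_c_Cert_tree lc_c_rc_10_3 lc_c_Cert_tree lc_c_Cert_tree lc_c_rc_2_1 lc_c_rc_19_2 lc_c_rc_17_0 lc_c_rc_10_3 lc_c_rc_17_0) (@D3.rec (fun _ => (Cert rels S Gen.c)) lc_c_rc_19_2 lc_c_rc_2_1 lc_c_rc_19_2 lc_c_rc_17_0 lc_c_rc_17_0 lc_c_rc_47_43 lc_c_rc_47_15 lc_c_rc_18_2 lc_c_rc_21_2 lc_c_rc_23_2 lc_c_rc_20_2 lc_c_rc_22_2 lc_c_rc_23_2 lc_c_rc_20_2 lc_c_rc_18_2 lc_c_rc_18_2 lc_c_rc_18_2 lc_c_rc_23_2 lc_c_rc_20_2 lc_c_rc_18_2 lc_c_rc_20_2 lc_c_Cert_tree lc_c_rc_19_2 lc_c_rc_18_2 lc_c_rc_20_2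 lc_c_rc_18_2 lc_c_rc_23_2 lc_c_rc_20_2 lc_c_rc_23_2 lc_c_rc_20_2 lc_c_Cert_tree lc_c_rc_19_2) (@D3.rec (fun _ => (Cert rels S Gen.c)) lc_c_rc_20_2 lc_c_Cert_tree lc_c_rc_17_0 lc_c_rc_19_2 lc_c_rc_18_2 lc_c_rc_23_2 lc_c_rc_20_2 lc_c_rc_23_2 lc_c_Cert_tree lc_c_rc_20_2 lc_c_Cert_tree lc_c_rc_17_0 lc_c_rc_19_2 lc_c_Cert_tree lc_c_rc_17_0 lc_c_rc_19_2 lc_c_rc_10_3 lc_c_rc_23_2 lc_c_rc_23_2 lc_c_rc_46_37 lc_c_rc_18_0 lc_c_rc_17_0 lc_c_rc_19_2 lc_c_rc_18_2 lc_c_rc_20_2 lc_c_rc_17_0 lc_c_rc_2_1 lc_c_rc_10_3 lc_c_rc_10_3 lc_c_rc_2_1 lc_c_rc_2_1 lc_c_rc_23_2) (@D3.rec (fun _ => (Cert rels S Gen.c)) lc_c_rc_2_1 lc_c_Cert_tree lc_c_rc_10_5 lc_c_rc_10_5 lc_c_rc_10_5 lc_c_Cert_tree lc_c_Cert_tree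 lc_c_rc_17_0 lc_c_rc_19_2 lc_c_rc_2_3 lc_c_rc_17_0 lc_c_rc_45_82 lc_c_rc_10_3 lc_c_rc_19_2 lc_c_rc_10_3 lc_c_rc_2_1 lc_c_rc_21_2 lc_c_rc_2_1 lc_c_rc_18_2 lc_c_rc_19_2 lc_c_rc_23_2 lc_c_rc_21_2 lc_c_rc_23_2 lc_c_rc_20_2 lc_c_rc_17_0 lc_c_rc_23_2 lc_c_rc_10_3 lc_c_rc_19_2 lc_c_rc_23_2 lc_c_rc_23_2 lc_c_rc_20_2 lc_c_rc_2_1) (@D3.rec (fun _ => (Cert rels S Gen.c)) lc_c_rc_10_3 lc_c_rc_10_3 lc_c_rc_18_2 lc_c_rc_21_2 lc_c_rc_23_2 lc_c_rc_20_2 lc_c_rc_23_2 lc_c_rc_20_2 lc_c_rc_10_3 lc_c_rc_19_2 lc_c_rc_23_2 lc_c_rc_23_2 lc_c_rc_20_2 lc_c_rc_2_1 lc_c_rc_10_3 lc_c_rc_23_2 lc_c_rc_20_2 lc_c_rc_20_2 lc_c_rc_2_1 lc_c_rc_2_1 lc_c_rc_2_3 lc_c_rc_10_3 lc_c_rc_10_3 lc_c_rc_10_3 lc_c_rc_18_2 lc_c_rc_20_2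 lc_c_rc_18_2 lc_c_rc_22_2 lc_c_rc_23_2 lc_c_rc_20_2 lc_c_rc_2_1 lc_c_rc_23_2) (@D3.rec (fun _ => (Cert rels S Gen.c)) lc_c_rc_20_2 lc_c_Cert_tree lc_c_Cert_tree lc_c_rc_19_2 lc_c_rc_18_2 lc_c_rc_20_2 lc_c_rc_18_2 lc_c_rc_23_2 lc_c_rc_20_2 lc_c_rc_23_2 lc_c_Cert_tree lc_c_Cert_tree lc_c_rc_17_0 lc_c_rc_20_2 lc_c_rc_10_3 lc_c_rc_20_2 lc_c_rc_20_2 lc_c_rc_2_1 lc_c_rc_10_3 lc_c_rc_10_3 lc_c_rc_20_2 lc_c_rc_2_1 lc_c_rc_20_2 lc_c_Cert_tree lc_c_rc_10_3 lc_c_rc_20_2 lc_c_rc_20_2 lc_c_rc_2_1 lc_c_rc_10_3 lc_c_rc_18_2 lc_c_rc_17_0 lc_c_rc_2_1) (@D3.rec (fun _ => (Cert rels S Gen.c)) lc_c_rc_2_1 lc_c_rc_10_3 lc_c_rc_10_3 lc_c_Cert_tree lc_c_rc_20_2 lc_c_rc_2_1 lc_c_rc_20_2 lc_c_rc_20_2 lc_c_rc_17_0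 lc_c_rc_2_1 lc_c_rc_10_3 lc_c_Cert_tree lc_c_Cert_tree lc_c_rc_17_0 lc_c_rc_19_2 lc_c_rc_18_2 lc_c_rc_18_2 lc_c_rc_2_1 lc_c_rc_18_2 lc_c_rc_19_2 lc_c_rc_2_3 lc_c_rc_17_0 lc_c_rc_45_73 lc_c_rc_2_1 lc_c_rc_17_0 lc_c_rc_2_1 lc_c_rc_23_0 lc_c_rc_10_3 lc_c_rc_2_1 lc_c_rc_17_0 lc_c_rc_23_2 lc_c_rc_18_2) (@D3.rec (fun _ => (Cert rels S Gen.c)) lc_c_rc_23_2 lc_c_rc_20_2 lc_c_rc_2_1 lc_c_rc_19_2 lc_c_rc_18_2 lc_c_rc_18_2 lc_c_rc_21_2 lc_c_rc_23_2 lc_c_rc_20_2 lc_c_rc_22_2 lc_c_rc_23_2 lc_c_rc_20_2 lc_c_rc_23_2 lc_c_rc_20_2 lc_c_rc_10_3 lc_c_rc_18_2 lc_c_rc_23_2 lc_c_rc_20_2 lc_c_rc_20_2 lc_c_rc_2_1 lc_c_rc_18_2 lc_c_rc_10_3 lc_c_rc_10_3 lc_c_rc_10_3 lc_c_rc_18_2 lc_c_rc_18_2 lc_c_rc_18_2 lc_c_rc_22_2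 lc_c_rc_23_2 lc_c_rc_20_2 lc_c_rc_18_2 lc_c_rc_23_2) (@D3.rec (fun _ => (Cert rels S Gen.c)) lc_c_rc_20_2 lc_c_Cert_tree lc_c_rc_18_2 lc_c_rc_23_2 lc_c_rc_20_2 lc_c_rc_20_2 lc_c_rc_2_1 lc_c_rc_10_3 lc_c_rc_10_3 lc_c_rc_10_3 lc_c_rc_18_2 lc_c_rc_18_2 lc_c_rc_22_2 lc_c_rc_23_2 lc_c_rc_20_2 lc_c_rc_18_2 lc_c_rc_23_2 lc_c_rc_20_2 lc_c_Cert_tree lc_c_rc_18_2 lc_c_rc_2_1 lc_c_rc_2_1 lc_c_rc_2_1 lc_c_rc_10_3 lc_c_rc_10_3 lc_c_rc_10_3 lc_c_rc_10_3 lc_c_rc_10_3 lc_c_rc_10_3 lc_c_rc_18_2 lc_c_rc_19_2 lc_c_rc_18_2) (@D3.rec (fun _ => (Cert rels S Gen.c)) lc_c_rc_20_2 lc_c_rc_18_2 lc_c_rc_23_2 lc_c_rc_20_2 lc_c_rc_23_2 lc_c_rc_20_2 lc_c_Cert_tree lc_c_rc_19_2 lc_c_rc_20_2 lc_c_Cert_tree lc_c_rc_17_0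 lc_c_rc_18_2 lc_c_rc_18_2 lc_c_rc_20_2 lc_c_rc_23_2 lc_c_rc_20_2 lc_c_Cert_tree lc_c_Cert_tree lc_c_rc_17_0 lc_c_rc_19_2 lc_c_rc_18_2 lc_c_rc_23_2 lc_c_rc_20_2 lc_c_rc_23_2 lc_c_Cert_tree lc_c_rc_20_2 lc_c_Cert_tree lc_c_rc_17_0 lc_c_rc_19_2 lc_c_rc_17_0 lc_c_rc_10_3 lc_c_rc_10_3) (@D3.rec (fun _ => (Cert rels S Gen.c)) lc_c_Cert_tree lc_c_rc_2_1 lc_c_rc_10_3 lc_c_rc_10_3 lc_c_rc_20_2 lc_c_rc_22_0 lc_c_rc_21_2 lc_c_Cert_tree lc_c_rc_17_0 lc_c_rc_18_2 lc_c_rc_2_1 lc_c_rc_10_3 lc_c_Cert_tree lc_c_rc_20_2 lc_c_Cert_tree lc_c_rc_17_0 lc_c_rc_2_1 lc_c_rc_2_1 lc_c_rc_10_3 lc_c_rc_10_3 lc_c_Cert_tree lc_c_rc_20_2 lc_c_Cert_tree lc_c_rc_17_0 lc_c_rc_17_0 lc_c_rc_10_3 lc_c_rc_17_0 lc_c_rc_2_1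 lc_c_rc_10_3 lc_c_rc_10_3 lc_c_rc_2_1 lc_c_rc_17_0) (@D3.rec (fun _ => (Cert rels S Gen.c)) lc_c_rc_17_0 lc_c_rc_21_0 lc_c_rc_17_0 lc_c_rc_17_0 lc_c_rc_47_22 lc_c_rc_21_2 lc_c_rc_45_64 lc_c_rc_45_46 lc_c_rc_45_46 lc_c_rc_2_1 lc_c_rc_2_1 lc_c_rc_10_3 lc_c_rc_18_2 lc_c_rc_21_2 lc_c_rc_20_2 lc_c_rc_21_2 lc_c_rc_19_2 lc_c_rc_2_1 lc_c_rc_2_1 lc_c_rc_19_2 lc_c_rc_20_2 lc_c_rc_20_2 lc_c_rc_23_2 lc_c_rc_2_1 lc_c_Cert_tree lc_c_rc_23_2 lc_c_rc_20_2 lc_c_rc_20_2 lc_c_rc_10_3 lc_c_rc_20_2 lc_c_rc_2_1 lc_c_rc_10_3) (@D3.rec (fun _ => (Cert rels S Gen.c)) lc_c_rc_18_2 lc_c_rc_20_2 lc_c_rc_18_2 lc_c_rc_20_2 lc_c_rc_10_3 lc_c_rc_18_2 lc_c_rc_2_1 lc_c_Cert_tree lc_c_Cert_tree lc_c_Cert_tree lc_c_rc_17_0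 lc_c_rc_19_2 lc_c_rc_45_19 lc_c_rc_17_0 lc_c_rc_23_2 lc_c_rc_18_2 lc_c_rc_19_2 lc_c_rc_23_2 lc_c_rc_23_2 lc_c_rc_20_2 lc_c_rc_2_1 lc_c_rc_19_2 lc_c_rc_18_2 lc_c_rc_18_2 lc_c_rc_21_2 lc_c_rc_23_2 lc_c_rc_20_2 lc_c_rc_23_2 lc_c_rc_20_2 lc_c_rc_23_2 lc_c_rc_20_2 lc_c_rc_10_3) (@D3.rec (fun _ => (Cert rels S Gen.c)) lc_c_rc_20_2 lc_c_rc_2_1 lc_c_rc_18_2 lc_c_rc_10_3 lc_c_rc_10_3 lc_c_rc_18_2 lc_c_rc_18_2 lc_c_rc_21_0 lc_c_rc_23_2 lc_c_rc_20_2 lc_c_rc_18_2 lc_c_rc_20_2 lc_c_rc_18_2 lc_c_rc_23_2 lc_c_rc_20_2 lc_c_rc_20_2 lc_c_rc_10_3 lc_c_rc_10_3 lc_c_rc_10_3 lc_c_rc_18_2 lc_c_rc_20_2 lc_c_rc_18_2 lc_c_rc_23_2 lc_c_rc_20_2 lc_c_rc_18_2 lc_c_rc_20_2 lc_c_rc_2_1 lc_c_rc_2_1 lc_c_rc_2_1 lc_c_rc_10_3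 lc_c_rc_10_3 lc_c_rc_10_3) (@D3.rec (fun _ => (Cert rels S Gen.c)) lc_c_rc_10_3 lc_c_rc_10_3 lc_c_Cert_tree lc_c_rc_19_2 lc_c_rc_18_2 lc_c_rc_20_2 lc_c_rc_18_2 lc_c_rc_23_2 lc_c_rc_20_2 lc_c_rc_23_2 lc_c_rc_20_2 lc_c_Cert_tree lc_c_rc_19_2 lc_c_rc_20_2 lc_c_Cert_tree lc_c_rc_17_0 lc_c_rc_19_2 lc_c_rc_10_1 lc_c_rc_19_2 lc_c_rc_18_2 lc_c_rc_23_2 lc_c_rc_20_2 lc_c_rc_23_2 lc_c_rc_19_2 lc_c_rc_18_2 lc_c_rc_23_2 lc_c_rc_20_2 lc_c_rc_23_2 lc_c_Cert_tree lc_c_rc_20_2 lc_c_Cert_tree lc_c_rc_17_0) (@D3.rec (fun _ => (Cert rels S Gen.c)) lc_c_rc_19_2 lc_c_rc_17_0 lc_c_rc_10_3 lc_c_rc_18_2 lc_c_rc_2_1 lc_c_rc_10_3 lc_c_Cert_tree lc_c_rc_18_2 lc_c_rc_10_3 lc_c_Cert_tree lc_c_rc_20_0 lc_c_rc_19_2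 lc_c_rc_2_1 lc_c_Cert_tree lc_c_rc_10_3 lc_c_Cert_tree lc_c_rc_17_0 lc_c_rc_19_2 lc_c_rc_18_4 lc_c_rc_17_0 lc_c_rc_19_2 lc_c_rc_17_0 lc_c_rc_19_2 lc_c_rc_18_2 lc_c_rc_2_1 lc_c_rc_18_2 lc_c_rc_23_2 lc_c_rc_20_2 lc_c_rc_20_2 lc_c_rc_10_3 lc_c_rc_18_2 lc_c_rc_18_2) (@D3.rec (fun _ => (Cert rels S Gen.c)) lc_c_rc_10_3 lc_c_rc_10_3 lc_c_rc_10_3 lc_c_rc_10_3 lc_c_rc_10_3 lc_c_rc_18_2 lc_c_rc_19_2 lc_c_rc_20_2 lc_c_rc_18_2 lc_c_rc_23_2 lc_c_rc_20_2 lc_c_rc_20_2 lc_c_rc_18_2 lc_c_rc_19_2 lc_c_rc_19_2 lc_c_rc_19_2 lc_c_rc_23_2 lc_c_rc_20_2 lc_c_rc_23_2 lc_c_rc_22_2 lc_c_rc_10_3 lc_c_Cert_tree lc_c_rc_2_1 lc_c_rc_20_2 lc_c_rc_19_2 lc_c_rc_23_2 lc_c_rc_20_2 lc_c_rc_20_2 lc_c_rc_2_1 lc_c_rc_2_1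 lc_c_rc_18_2 lc_c_rc_21_2) (@D3.rec (fun _ => (Cert rels S Gen.c)) lc_c_rc_19_2 lc_c_rc_20_2 lc_c_rc_18_2 lc_c_rc_19_2 lc_c_rc_18_2 lc_c_rc_22_2 lc_c_rc_23_2 lc_c_rc_20_2 lc_c_rc_20_2 lc_c_rc_23_2 lc_c_rc_20_2 lc_c_Cert_tree lc_c_rc_10_1 lc_c_rc_2_1 lc_c_rc_18_2 lc_c_rc_18_2 lc_c_rc_2_1 lc_c_rc_2_1 lc_c_rc_18_2 lc_c_rc_18_2 lc_c_rc_18_2 lc_c_rc_10_3 lc_c_rc_10_3 lc_c_rc_18_2 lc_c_rc_19_2 lc_c_rc_18_2 lc_c_rc_18_2 lc_c_rc_18_2 lc_c_rc_18_2 lc_c_rc_20_2 lc_c_rc_23_2 lc_c_rc_20_2)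
def ce_c_13 : D2 → D3 → (Cert rels S Gen.c) := @D2.rec (fun _ => D3 → (Cert rels S Gen.c)) (@D3.rec (fun _ => (Cert rels S Gen.c)) lc_c_rc_45_28 lc_c_rc_19_2 lc_c_rc_20_2 lc_c_rc_19_2 lc_c_rc_18_2 lc_c_rc_20_2 lc_c_rc_18_2 lc_c_rc_23_2 lc_c_rc_20_2 lc_c_rc_23_2 lc_c_rc_20_2 lc_c_rc_21_0 lc_c_rc_19_2 lc_c_rc_20_2 lc_c_rc_2_1 lc_c_rc_2_1 lc_c_rc_2_1 lc_c_rc_2_1 lc_c_rc_2_1 lc_c_rc_18_2 lc_c_rc_10_3 lc_c_rc_10_3 lc_c_rc_10_3 lc_c_rc_10_3 lc_c_rc_10_3 lc_c_rc_10_3 lc_c_rc_10_3 lc_c_rc_10_3 lc_c_Cert_tree lc_c_rc_19_2 lc_c_rc_19_2 lc_c_rc_18_2) (@D3.rec (fun _ => (Cert rels S Gen.c)) lc_c_rc_23_2 lc_c_rc_20_2 lc_c_rc_23_2 lc_c_Cert_tree lc_c_rc_20_2 lc_c_Cert_tree lc_c_rc_17_0 lc_c_rc_19_2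 lc_c_rc_21_2 lc_c_rc_17_0 lc_c_rc_10_3 lc_c_rc_19_2 lc_c_rc_18_2 lc_c_rc_23_2 lc_c_rc_20_2 lc_c_rc_23_2 lc_c_rc_21_0 lc_c_rc_20_2 lc_c_rc_18_2 lc_c_rc_22_2 lc_c_rc_20_2 lc_c_rc_20_2 lc_c_rc_23_2 lc_c_Cert_tree lc_c_Cert_tree lc_c_rc_17_0 lc_c_rc_19_2 lc_c_rc_17_1 lc_c_rc_17_0 lc_c_rc_10_3 lc_c_rc_19_2 lc_c_Cert_tree) (@D3.rec (fun _ => (Cert rels S Gen.c)) lc_c_rc_2_1 lc_c_rc_10_3 lc_c_Cert_tree lc_c_rc_20_2 lc_c_rc_2_1 lc_c_Cert_tree lc_c_rc_10_3 lc_c_Cert_tree lc_c_rc_17_0 lc_c_rc_19_2 lc_c_rc_10_3 lc_c_rc_20_2 lc_c_rc_17_0 lc_c_rc_47_22 lc_c_rc_18_2 lc_c_rc_20_2 lc_c_rc_45_28 lc_c_Cert_tree lc_c_rc_21_2 lc_c_rc_2_1 lc_c_rc_2_1 lc_c_rc_21_2 lc_c_rc_21_2 lc_c_rc_20_2 lc_c_rc_23_2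 lc_c_rc_20_2 lc_c_Cert_tree lc_c_rc_20_2 lc_c_Cert_tree lc_c_rc_17_0 lc_c_rc_2_1 lc_c_rc_2_1) (@D3.rec (fun _ => (Cert rels S Gen.c)) lc_c_rc_2_1 lc_c_rc_2_1 lc_c_rc_2_1 lc_c_rc_2_1 lc_c_rc_2_1 lc_c_rc_2_1 lc_c_Cert_tree lc_c_rc_10_3 lc_c_rc_10_3 lc_c_rc_10_3 lc_c_rc_10_3 lc_c_rc_10_3 lc_c_Cert_tree lc_c_rc_10_3 lc_c_Cert_tree lc_c_rc_17_0 lc_c_rc_19_2 lc_c_rc_20_2 lc_c_rc_20_2 lc_c_rc_20_2 lc_c_rc_23_2 lc_c_rc_47_8 lc_c_rc_45_19 lc_c_rc_17_0 lc_c_rc_19_2 lc_c_rc_2_3 lc_c_rc_10_3 lc_c_rc_19_2 lc_c_rc_46_16 lc_c_rc_10_5 lc_c_rc_10_5 lc_c_rc_10_5) (@D3.rec (fun _ => (Cert rels S Gen.c)) lc_c_Cert_tree lc_c_rc_46_16 lc_c_rc_17_0 lc_c_rc_10_5 lc_c_rc_18_2 lc_c_rc_17_0 lc_c_rc_23_2 lc_c_rc_22_2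 lc_c_rc_19_2 lc_c_rc_20_2 lc_c_rc_10_3 lc_c_rc_2_1 lc_c_Cert_tree lc_c_rc_17_0 lc_c_rc_17_0 lc_c_rc_2_3 lc_c_rc_10_3 lc_c_rc_20_2 lc_c_Cert_tree lc_c_rc_19_2 lc_c_rc_18_2 lc_c_rc_18_2 lc_c_rc_18_2 lc_c_rc_23_2 lc_c_rc_22_0 lc_c_rc_22_2 lc_c_Cert_tree lc_c_Cert_tree lc_c_rc_19_2 lc_c_rc_20_2 lc_c_rc_18_2 lc_c_rc_19_2) (@D3.rec (fun _ => (Cert rels S Gen.c)) lc_c_rc_20_2 lc_c_rc_20_2 lc_c_Cert_tree lc_c_Cert_tree lc_c_rc_17_0 lc_c_rc_19_2 lc_c_rc_18_2 lc_c_rc_18_2 lc_c_rc_20_2 lc_c_rc_20_2 lc_c_rc_17_0 lc_c_rc_47_36 lc_c_rc_17_0 lc_c_rc_17_0 lc_c_rc_2_1 lc_c_rc_10_3 lc_c_rc_23_2 lc_c_rc_19_2 lc_c_rc_18_2 lc_c_rc_18_2 lc_c_rc_21_2 lc_c_rc_23_2 lc_c_rc_20_2 lc_c_rc_23_2 lc_c_rc_20_2 lc_c_rc_10_3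 lc_c_rc_18_2 lc_c_rc_18_2 lc_c_rc_20_2 lc_c_rc_2_1 lc_c_Cert_tree lc_c_rc_10_3) (@D3.rec (fun _ => (Cert rels S Gen.c)) lc_c_rc_10_3 lc_c_rc_10_3 lc_c_Cert_tree lc_c_rc_19_2 lc_c_rc_20_2 lc_c_rc_18_2 lc_c_rc_23_2 lc_c_rc_20_2 lc_c_rc_20_2 lc_c_Cert_tree lc_c_rc_2_1 lc_c_Cert_tree lc_c_rc_17_0 lc_c_rc_19_2 lc_c_rc_18_2 lc_c_rc_23_2 lc_c_rc_20_2 lc_c_rc_23_2 lc_c_Cert_tree lc_c_rc_20_2 lc_c_Cert_tree lc_c_rc_17_0 lc_c_rc_19_2 lc_c_rc_17_0 lc_c_rc_10_3 lc_c_Cert_tree lc_c_rc_2_1 lc_c_rc_17_0 lc_c_Cert_tree lc_c_rc_17_0 lc_c_rc_19_2 lc_c_rc_17_0) (@D3.rec (fun _ => (Cert rels S Gen.c)) lc_c_rc_2_1 lc_c_rc_2_1 lc_c_rc_10_3 lc_c_rc_2_1 lc_c_rc_19_2 lc_c_rc_18_2 lc_c_rc_18_2 lc_c_rc_18_2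 lc_c_rc_22_2 lc_c_rc_23_2 lc_c_rc_20_2 lc_c_rc_20_2 lc_c_rc_23_2 lc_c_rc_20_2 lc_c_Cert_tree lc_c_rc_19_2 lc_c_rc_18_2 lc_c_rc_18_2 lc_c_rc_18_2 lc_c_rc_20_2 lc_c_rc_20_2 lc_c_Cert_tree lc_c_rc_19_2 lc_c_Cert_tree lc_c_rc_17_0 lc_c_rc_19_2 lc_c_rc_18_2 lc_c_rc_23_2 lc_c_rc_20_2 lc_c_rc_23_2 lc_c_Cert_tree lc_c_rc_20_2) (@D3.rec (fun _ => (Cert rels S Gen.c)) lc_c_Cert_tree lc_c_rc_17_0 lc_c_rc_19_2 lc_c_rc_21_2 lc_c_Cert_tree lc_c_rc_17_0 lc_c_rc_19_2 lc_c_rc_10_3 lc_c_rc_20_2 lc_c_rc_20_2 lc_c_rc_23_2 lc_c_Cert_tree lc_c_Cert_tree lc_c_rc_17_0 lc_c_rc_19_2 lc_c_Cert_tree lc_c_rc_17_0 lc_c_rc_19_2 lc_c_rc_10_3 lc_c_rc_19_2 lc_c_rc_17_0 lc_c_rc_10_3 lc_c_rc_19_2 lc_c_rc_2_1 lc_c_Cert_tree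 lc_c_rc_18_2 lc_c_rc_10_3 lc_c_rc_2_1 lc_c_rc_10_5 lc_c_Cert_tree lc_c_rc_17_0 lc_c_rc_21_2) (@D3.rec (fun _ => (Cert rels S Gen.c)) lc_c_rc_20_2 lc_c_Cert_tree lc_c_rc_17_0 lc_c_rc_18_2 lc_c_rc_17_0 lc_c_rc_19_2 lc_c_rc_10_3 lc_c_rc_19_2 lc_c_rc_10_3 lc_c_rc_2_1 lc_c_rc_10_3 lc_c_rc_2_1 lc_c_rc_19_2 lc_c_rc_18_2 lc_c_rc_18_2 lc_c_rc_21_2 lc_c_rc_23_2 lc_c_rc_20_2 lc_c_rc_23_2 lc_c_rc_20_2 lc_c_rc_23_2 lc_c_rc_20_2 lc_c_rc_10_3 lc_c_rc_18_2 lc_c_rc_23_2 lc_c_rc_20_2 lc_c_rc_20_2 lc_c_rc_2_1 lc_c_rc_22_2 lc_c_rc_10_3 lc_c_rc_10_3 lc_c_rc_18_2) (@D3.rec (fun _ => (Cert rels S Gen.c)) lc_c_rc_18_2 lc_c_rc_18_2 lc_c_rc_23_2 lc_c_rc_20_2 lc_c_rc_2_1 lc_c_rc_20_2 lc_c_Cert_tree lc_c_rc_10_3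 lc_c_rc_23_2 lc_c_rc_20_2 lc_c_rc_20_2 lc_c_rc_2_1 lc_c_rc_10_3 lc_c_rc_20_2 lc_c_rc_18_2 lc_c_Cert_tree lc_c_rc_19_2 lc_c_rc_2_1 lc_c_rc_2_1 lc_c_rc_17_0 lc_c_rc_10_3 lc_c_rc_23_2 lc_c_rc_10_3 lc_c_rc_10_3 lc_c_Cert_tree lc_c_rc_19_2 lc_c_rc_18_2 lc_c_rc_20_2 lc_c_rc_18_2 lc_c_rc_23_2 lc_c_rc_20_2 lc_c_rc_23_2) (@D3.rec (fun _ => (Cert rels S Gen.c)) lc_c_rc_20_2 lc_c_Cert_tree lc_c_rc_2_1 lc_c_rc_20_2 lc_c_Cert_tree lc_c_rc_17_0 lc_c_rc_17_0 lc_c_rc_18_2 lc_c_rc_23_2 lc_c_rc_20_2 lc_c_rc_23_2 lc_c_Cert_tree lc_c_rc_17_0 lc_c_rc_17_0 lc_c_rc_10_3 lc_c_rc_10_3 lc_c_rc_18_2 lc_c_rc_18_2 lc_c_rc_2_1 lc_c_rc_10_3 lc_c_Cert_tree lc_c_rc_2_1 lc_c_rc_2_1 lc_c_rc_17_0 lc_c_rc_10_3 lc_c_rc_17_0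 lc_c_rc_2_1 lc_c_Cert_tree lc_c_rc_2_1 lc_c_Cert_tree lc_c_rc_10_3 lc_c_rc_17_0) (@D3.rec (fun _ => (Cert rels S Gen.c)) lc_c_rc_19_2 lc_c_rc_2_1 lc_c_rc_10_3 lc_c_rc_2_1 lc_c_rc_17_0 lc_c_rc_17_0 lc_c_rc_19_2 lc_c_rc_18_2 lc_c_rc_2_1 lc_c_rc_23_2 lc_c_rc_20_2 lc_c_rc_18_2 lc_c_rc_20_2 lc_c_rc_2_1 lc_c_rc_2_1 lc_c_rc_19_2 lc_c_rc_19_2 lc_c_rc_20_2 lc_c_rc_18_2 lc_c_rc_18_2 lc_c_rc_22_2 lc_c_rc_23_2 lc_c_rc_20_2 lc_c_rc_20_2 lc_c_rc_23_2 lc_c_rc_20_2 lc_c_Cert_tree lc_c_rc_20_2 lc_c_rc_10_3 lc_c_rc_18_2 lc_c_rc_20_2 lc_c_rc_18_2) (@D3.rec (fun _ => (Cert rels S Gen.c)) lc_c_Cert_tree lc_c_rc_2_1 lc_c_rc_2_1 lc_c_rc_19_2 lc_c_rc_18_2 lc_c_rc_10_3 lc_c_rc_10_3 lc_c_rc_18_2 lc_c_rc_19_2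 lc_c_rc_18_2 lc_c_rc_18_2 lc_c_rc_18_2 lc_c_rc_18_2 lc_c_rc_20_2 lc_c_rc_23_2 lc_c_rc_20_2 lc_c_Cert_tree lc_c_rc_19_2 lc_c_rc_20_2 lc_c_Cert_tree lc_c_rc_17_0 lc_c_rc_18_2 lc_c_rc_20_2 lc_c_rc_18_2 lc_c_Cert_tree lc_c_rc_2_1 lc_c_rc_10_3 lc_c_rc_10_3 lc_c_rc_18_2 lc_c_rc_18_2 lc_c_rc_18_2 lc_c_rc_20_2) (@D3.rec (fun _ => (Cert rels S Gen.c)) lc_c_rc_23_2 lc_c_rc_20_2 lc_c_Cert_tree lc_c_rc_19_2 lc_c_rc_20_2 lc_c_Cert_tree lc_c_rc_17_0 lc_c_rc_18_2 lc_c_rc_20_2 lc_c_rc_18_2 lc_c_rc_2_1 lc_c_rc_2_1 lc_c_rc_18_2 lc_c_rc_10_3 lc_c_rc_10_3 lc_c_rc_10_3 lc_c_rc_10_3 lc_c_rc_10_3 lc_c_rc_10_3 lc_c_rc_10_3 lc_c_rc_10_3 lc_c_Cert_tree lc_c_rc_19_2 lc_c_rc_19_2 lc_c_rc_18_2 lc_c_rc_23_2 lc_c_rc_20_2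 lc_c_rc_23_2 lc_c_Cert_tree lc_c_rc_20_2 lc_c_Cert_tree lc_c_rc_17_0) (@D3.rec (fun _ => (Cert rels S Gen.c)) lc_c_rc_19_2 lc_c_rc_21_2 lc_c_rc_17_0 lc_c_rc_10_3 lc_c_rc_18_2 lc_c_rc_20_2 lc_c_Cert_tree lc_c_Cert_tree lc_c_rc_17_0 lc_c_rc_17_0 lc_c_rc_19_2 lc_c_rc_10_3 lc_c_rc_20_2 lc_c_rc_20_2 lc_c_rc_23_2 lc_c_Cert_tree lc_c_Cert_tree lc_c_rc_17_0 lc_c_rc_19_2 lc_c_rc_18_2 lc_c_rc_17_0 lc_c_rc_10_3 lc_c_rc_19_2 lc_c_rc_10_3 lc_c_rc_2_1 lc_c_rc_17_0 lc_c_rc_10_3 lc_c_Cert_tree lc_c_rc_17_0 lc_c_rc_10_3 lc_c_Cert_tree lc_c_rc_17_0) (@D3.rec (fun _ => (Cert rels S Gen.c)) lc_c_rc_17_0 lc_c_rc_45_28 lc_c_rc_10_3 lc_c_rc_2_1 lc_c_Cert_tree lc_c_rc_10_3 lc_c_Cert_tree lc_c_rc_17_0 lc_c_rc_2_1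 lc_c_rc_17_0 lc_c_rc_2_1 lc_c_rc_10_3 lc_c_rc_10_3 lc_c_rc_2_1 lc_c_rc_10_3 lc_c_rc_20_2 lc_c_rc_21_2 lc_c_rc_46_30 lc_c_rc_2_1 lc_c_rc_2_1 lc_c_rc_20_2 lc_c_rc_2_1 lc_c_rc_2_1 lc_c_rc_17_0 lc_c_rc_20_2 lc_c_rc_18_2 lc_c_rc_10_3 lc_c_rc_18_2 lc_c_rc_2_1 lc_c_Cert_tree lc_c_rc_20_2 lc_c_rc_18_2) (@D3.rec (fun _ => (Cert rels S Gen.c)) lc_c_rc_19_2 lc_c_Cert_tree lc_c_Cert_tree lc_c_rc_17_0 lc_c_rc_17_0 lc_c_rc_17_0 lc_c_rc_19_2 lc_c_rc_23_2 lc_c_rc_20_2 lc_c_rc_18_2 lc_c_rc_23_2 lc_c_rc_20_2 lc_c_rc_20_2 lc_c_rc_2_1 lc_c_rc_2_1 lc_c_rc_21_2 lc_c_rc_19_2 lc_c_rc_20_2 lc_c_rc_21_0 lc_c_rc_19_2 lc_c_rc_23_2 lc_c_rc_20_2 lc_c_rc_20_2 lc_c_rc_20_2 lc_c_Cert_tree lc_c_rc_20_2 lc_c_rc_10_3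 lc_c_rc_18_2 lc_c_rc_2_1 lc_c_rc_22_2 lc_c_rc_10_3 lc_c_Cert_tree) (@D3.rec (fun _ => (Cert rels S Gen.c)) lc_c_rc_19_2 lc_c_rc_18_2 lc_c_rc_21_2 lc_c_rc_18_2 lc_c_rc_20_2 lc_c_rc_20_2 lc_c_rc_23_2 lc_c_rc_19_2 lc_c_rc_18_2 lc_c_rc_20_2 lc_c_rc_18_2 lc_c_Cert_tree lc_c_rc_10_3 lc_c_rc_10_3 lc_c_Cert_tree lc_c_rc_18_2 lc_c_rc_23_2 lc_c_rc_20_2 lc_c_rc_20_2 lc_c_rc_18_2 lc_c_rc_19_2 lc_c_rc_2_1 lc_c_rc_2_1 lc_c_rc_2_1 lc_c_Cert_tree lc_c_rc_10_3 lc_c_rc_10_3 lc_c_rc_10_3 lc_c_rc_10_3 lc_c_rc_10_3 lc_c_rc_10_3 lc_c_Cert_tree) (@D3.rec (fun _ => (Cert rels S Gen.c)) lc_c_rc_17_0 lc_c_rc_19_2 lc_c_rc_19_2 lc_c_rc_18_2 lc_c_rc_23_2 lc_c_rc_20_2 lc_c_rc_23_2 lc_c_Cert_tree lc_c_rc_20_2 lc_c_Cert_tree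 lc_c_rc_17_0 lc_c_rc_19_2 lc_c_rc_21_2 lc_c_rc_17_0 lc_c_rc_19_2 lc_c_rc_23_2 lc_c_rc_19_2 lc_c_rc_20_2 lc_c_rc_23_2 lc_c_rc_20_2 lc_c_rc_20_2 lc_c_rc_23_2 lc_c_Cert_tree lc_c_Cert_tree lc_c_rc_17_0 lc_c_rc_19_2 lc_c_rc_2_1 lc_c_rc_17_0 lc_c_rc_19_2 lc_c_Cert_tree lc_c_Cert_tree lc_c_rc_17_0) (@D3.rec (fun _ => (Cert rels S Gen.c)) lc_c_Cert_tree lc_c_rc_17_0 lc_c_rc_19_2 lc_c_Cert_tree lc_c_rc_17_0 lc_c_Cert_tree lc_c_rc_17_0 lc_c_rc_19_2 lc_c_rc_19_2 lc_c_rc_18_2 lc_c_rc_20_2 lc_c_rc_20_2 lc_c_rc_20_2 lc_c_Cert_tree lc_c_rc_18_2 lc_c_rc_19_2 lc_c_rc_19_2 lc_c_rc_10_3 lc_c_rc_10_3 lc_c_rc_10_3 lc_c_rc_10_3 lc_c_Cert_tree lc_c_rc_19_2 lc_c_rc_19_2 lc_c_rc_23_2 lc_c_rc_20_2 lc_c_rc_23_2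 lc_c_rc_20_2 lc_c_rc_18_2 lc_c_rc_19_2 lc_c_rc_21_2 lc_c_rc_20_2) (@D3.rec (fun _ => (Cert rels S Gen.c)) lc_c_rc_23_2 lc_c_Cert_tree lc_c_rc_17_0 lc_c_rc_21_2 lc_c_rc_20_2 lc_c_rc_20_2 lc_c_Cert_tree lc_c_rc_18_2 lc_c_rc_2_1 lc_c_rc_2_1 lc_c_rc_18_2 lc_c_rc_19_2 lc_c_rc_18_2 lc_c_rc_21_2 lc_c_rc_20_2 lc_c_rc_18_2 lc_c_rc_19_2 lc_c_rc_20_2 lc_c_rc_18_2 lc_c_rc_19_2 lc_c_rc_20_2 lc_c_rc_23_2 lc_c_rc_20_2 lc_c_Cert_tree lc_c_rc_20_2 lc_c_rc_20_2 lc_c_Cert_tree lc_c_rc_17_0 lc_c_rc_22_2 lc_c_rc_19_2 lc_c_rc_18_2 lc_c_rc_18_2)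
def ce_c_14 : D2 → D3 → (Cert rels S Gen.c) := @D2.rec (fun _ => D3 → (Cert rels S Gen.c)) (@D3.rec (fun _ => (Cert rels S Gen.c)) lc_c_rc_2_1 lc_c_rc_18_2 lc_c_rc_19_2 lc_c_rc_18_2 lc_c_rc_18_2 lc_c_rc_18_2 lc_c_rc_20_2 lc_c_rc_10_3 lc_c_Cert_tree lc_c_rc_19_2 lc_c_rc_19_2 lc_c_rc_18_2 lc_c_rc_18_2 lc_c_rc_20_2 lc_c_rc_20_2 lc_c_rc_20_2 lc_c_rc_20_2 lc_c_rc_18_2 lc_c_rc_19_2 lc_c_rc_21_2 lc_c_rc_19_2 lc_c_rc_18_2 lc_c_rc_23_2 lc_c_rc_20_2 lc_c_rc_23_2 lc_c_rc_45_19 lc_c_rc_20_2 lc_c_rc_22_0 lc_c_rc_47_36 lc_c_rc_21_2 lc_c_rc_2_1 lc_c_rc_2_1) (@D3.rec (fun _ => (Cert rels S Gen.c)) lc_c_rc_2_1 lc_c_rc_2_1 lc_c_rc_2_1 lc_c_rc_2_1 lc_c_Cert_tree lc_c_rc_19_2 lc_c_rc_10_3 lc_c_rc_10_3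 lc_c_rc_10_3 lc_c_rc_10_3 lc_c_rc_10_3 lc_c_Cert_tree lc_c_rc_10_3 lc_c_Cert_tree lc_c_rc_17_0 lc_c_rc_19_2 lc_c_rc_20_2 lc_c_rc_20_2 lc_c_rc_20_2 lc_c_rc_23_2 lc_c_Cert_tree lc_c_Cert_tree lc_c_rc_17_0 lc_c_rc_19_2 lc_c_rc_18_2 lc_c_rc_17_0 lc_c_rc_19_2 lc_c_rc_10_3 lc_c_rc_19_2 lc_c_rc_21_2 lc_c_rc_22_2 lc_c_rc_20_2) (@D3.rec (fun _ => (Cert rels S Gen.c)) lc_c_rc_20_2 lc_c_rc_23_2 lc_c_rc_21_2 lc_c_rc_22_2 lc_c_rc_20_2 lc_c_rc_21_2 lc_c_rc_23_2 lc_c_Cert_tree lc_c_rc_20_2 lc_c_rc_17_0 lc_c_rc_17_0 lc_c_rc_2_3 lc_c_rc_10_3 lc_c_rc_19_2 lc_c_rc_17_0 lc_c_Cert_tree lc_c_Cert_tree lc_c_rc_17_0 lc_c_rc_19_2 lc_c_Cert_tree lc_c_rc_17_0 lc_c_rc_17_0 lc_c_rc_2_3 lc_c_rc_10_3 lc_c_rc_20_2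 lc_c_rc_18_2 lc_c_rc_17_0 lc_c_rc_23_2 lc_c_rc_2_1 lc_c_rc_21_2 lc_c_Cert_tree lc_c_rc_20_2) (@D3.rec (fun _ => (Cert rels S Gen.c)) lc_c_rc_17_0 lc_c_rc_19_2 lc_c_rc_17_0 lc_c_rc_19_2 lc_c_rc_10_3 lc_c_rc_2_1 lc_c_rc_2_1 lc_c_rc_2_1 lc_c_rc_2_1 lc_c_rc_2_1 lc_c_Cert_tree lc_c_rc_2_1 lc_c_Cert_tree lc_c_rc_17_0 lc_c_rc_10_3 lc_c_rc_10_3 lc_c_rc_10_3 lc_c_Cert_tree lc_c_Cert_tree lc_c_rc_17_0 lc_c_rc_19_2 lc_c_rc_18_2 lc_c_rc_17_0 lc_c_rc_10_3 lc_c_rc_19_2 lc_c_rc_21_2 lc_c_rc_45_19 lc_c_rc_18_4 lc_c_rc_19_2 lc_c_rc_10_3 lc_c_rc_19_2 lc_c_rc_10_3) (@D3.rec (fun _ => (Cert rels S Gen.c)) lc_c_rc_19_2 lc_c_rc_20_2 lc_c_rc_47_36 lc_c_rc_17_0 lc_c_rc_2_1 lc_c_rc_2_3 lc_c_rc_17_0 lc_c_rc_2_1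 lc_c_Cert_tree lc_c_rc_17_0 lc_c_rc_18_2 lc_c_rc_17_0 lc_c_rc_17_0 lc_c_rc_19_2 lc_c_rc_21_2 lc_c_rc_20_2 lc_c_rc_20_2 lc_c_Cert_tree lc_c_Cert_tree lc_c_rc_17_0 lc_c_rc_17_0 lc_c_rc_19_2 lc_c_rc_10_3 lc_c_rc_20_2 lc_c_rc_20_2 lc_c_rc_20_2 lc_c_rc_10_3 lc_c_rc_10_3 lc_c_rc_2_1 lc_c_rc_19_2 lc_c_rc_20_2 lc_c_rc_18_2) (@D3.rec (fun _ => (Cert rels S Gen.c)) lc_c_rc_23_2 lc_c_rc_20_2 lc_c_rc_2_1 lc_c_rc_20_2 lc_c_Cert_tree lc_c_Cert_tree lc_c_rc_18_2 lc_c_rc_20_2 lc_c_Cert_tree lc_c_rc_2_1 lc_c_rc_17_0 lc_c_rc_10_3 lc_c_rc_10_3 lc_c_Cert_tree lc_c_rc_17_0 lc_c_rc_19_2 lc_c_rc_19_2 lc_c_rc_23_2 lc_c_rc_20_2 lc_c_rc_23_2 lc_c_Cert_tree lc_c_Cert_tree lc_c_rc_17_0 lc_c_rc_19_2 lc_c_rc_2_1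 lc_c_rc_17_0 lc_c_rc_10_3 lc_c_rc_20_2 lc_c_rc_20_2 lc_c_rc_23_2 lc_c_Cert_tree lc_c_Cert_tree) (@D3.rec (fun _ => (Cert rels S Gen.c)) lc_c_rc_17_0 lc_c_rc_19_2 lc_c_rc_18_2 lc_c_rc_17_0 lc_c_rc_10_3 lc_c_rc_19_2 lc_c_rc_2_1 lc_c_rc_17_0 lc_c_rc_19_2 lc_c_rc_10_3 lc_c_rc_17_0 lc_c_rc_19_2 lc_c_rc_19_2 lc_c_rc_2_1 lc_c_rc_10_3 lc_c_rc_18_2 lc_c_rc_18_2 lc_c_rc_18_2 lc_c_rc_20_2 lc_c_rc_23_2 lc_c_rc_20_2 lc_c_Cert_tree lc_c_rc_20_2 lc_c_rc_20_2 lc_c_Cert_tree lc_c_rc_17_0 lc_c_rc_19_2 lc_c_rc_18_2 lc_c_rc_20_2 lc_c_rc_20_2 lc_c_Cert_tree lc_c_Cert_tree) (@D3.rec (fun _ => (Cert rels S Gen.c)) lc_c_rc_17_0 lc_c_rc_19_2 lc_c_rc_21_2 lc_c_rc_17_0 lc_c_rc_20_2 lc_c_rc_20_2 lc_c_rc_23_2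 lc_c_Cert_tree lc_c_Cert_tree lc_c_rc_17_0 lc_c_rc_19_2 lc_c_Cert_tree lc_c_rc_17_0 lc_c_rc_19_2 lc_c_rc_45_37 lc_c_rc_19_2 lc_c_rc_21_2 lc_c_rc_22_2 lc_c_rc_17_0 lc_c_rc_10_3 lc_c_rc_19_2 lc_c_rc_2_1 lc_c_Cert_tree lc_c_Cert_tree lc_c_Cert_tree lc_c_rc_17_0 lc_c_rc_19_2 lc_c_rc_17_0 lc_c_rc_19_2 lc_c_rc_10_3 lc_c_rc_19_2 lc_c_rc_17_0) (@D3.rec (fun _ => (Cert rels S Gen.c)) lc_c_rc_10_3 lc_c_rc_19_2 lc_c_rc_2_1 lc_c_rc_10_3 lc_c_rc_18_2 lc_c_rc_17_0 lc_c_rc_20_2 lc_c_rc_10_5 lc_c_rc_17_0 lc_c_rc_10_5 lc_c_rc_10_3 lc_c_rc_17_0 lc_c_rc_20_0 lc_c_rc_10_3 lc_c_rc_10_3 lc_c_rc_19_2 lc_c_rc_2_1 lc_c_rc_10_3 lc_c_rc_2_1 lc_c_rc_2_1 lc_c_rc_19_2 lc_c_rc_20_2 lc_c_rc_18_2 lc_c_rc_23_2 lc_c_rc_20_2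 lc_c_rc_2_1 lc_c_rc_20_2 lc_c_Cert_tree lc_c_rc_20_2 lc_c_rc_10_3 lc_c_rc_18_2 lc_c_rc_20_2) (@D3.rec (fun _ => (Cert rels S Gen.c)) lc_c_rc_18_2 lc_c_Cert_tree lc_c_rc_2_1 lc_c_rc_10_3 lc_c_rc_10_3 lc_c_Cert_tree lc_c_rc_18_2 lc_c_rc_18_2 lc_c_rc_20_2 lc_c_rc_20_2 lc_c_Cert_tree lc_c_rc_2_1 lc_c_Cert_tree lc_c_rc_17_0 lc_c_rc_10_3 lc_c_rc_20_2 lc_c_rc_18_2 lc_c_Cert_tree lc_c_rc_2_1 lc_c_Cert_tree lc_c_Cert_tree lc_c_rc_19_2 lc_c_rc_17_0 lc_c_rc_10_3 lc_c_rc_2_1 lc_c_Cert_tree lc_c_rc_21_2 lc_c_rc_20_2 lc_c_rc_10_3 lc_c_rc_46_44 lc_c_rc_17_0 lc_c_rc_19_2) (@D3.rec (fun _ => (Cert rels S Gen.c)) lc_c_rc_18_2 lc_c_rc_23_2 lc_c_rc_20_2 lc_c_rc_23_2 lc_c_Cert_tree lc_c_rc_20_2 lc_c_Cert_tree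 lc_c_rc_17_0 lc_c_rc_19_2 lc_c_rc_2_1 lc_c_rc_17_0 lc_c_rc_10_3 lc_c_rc_20_2 lc_c_rc_23_2 lc_c_Cert_tree lc_c_rc_17_0 lc_c_rc_23_0 lc_c_rc_2_1 lc_c_Cert_tree lc_c_Cert_tree lc_c_rc_17_0 lc_c_rc_19_2 lc_c_rc_10_3 lc_c_rc_17_0 lc_c_rc_17_0 lc_c_rc_19_2 lc_c_rc_2_1 lc_c_rc_18_2 lc_c_rc_20_2 lc_c_rc_20_2 lc_c_rc_18_2 lc_c_rc_2_1) (@D3.rec (fun _ => (Cert rels S Gen.c)) lc_c_rc_2_1 lc_c_rc_19_2 lc_c_rc_20_2 lc_c_rc_18_2 lc_c_rc_18_2 lc_c_rc_20_2 lc_c_rc_23_2 lc_c_rc_20_2 lc_c_Cert_tree lc_c_rc_20_2 lc_c_rc_20_2 lc_c_Cert_tree lc_c_rc_17_0 lc_c_rc_18_2 lc_c_rc_18_2 lc_c_rc_20_2 lc_c_Cert_tree lc_c_rc_19_2 lc_c_rc_17_0 lc_c_rc_18_2 lc_c_rc_2_1 lc_c_rc_19_2 lc_c_rc_20_2 lc_c_rc_10_3 lc_c_Cert_tree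 lc_c_rc_19_2 lc_c_rc_19_2 lc_c_rc_18_2 lc_c_rc_18_2 lc_c_rc_20_2 lc_c_rc_20_2 lc_c_Cert_tree) (@D3.rec (fun _ => (Cert rels S Gen.c)) lc_c_rc_20_2 lc_c_Cert_tree lc_c_rc_17_0 lc_c_rc_19_2 lc_c_rc_21_2 lc_c_rc_17_0 lc_c_rc_10_3 lc_c_rc_20_2 lc_c_Cert_tree lc_c_rc_19_2 lc_c_rc_17_0 lc_c_rc_18_2 lc_c_rc_10_3 lc_c_Cert_tree lc_c_rc_19_2 lc_c_rc_18_2 lc_c_rc_20_2 lc_c_Cert_tree lc_c_rc_20_2 lc_c_Cert_tree lc_c_rc_17_0 lc_c_rc_19_2 lc_c_rc_20_0 lc_c_rc_17_0 lc_c_rc_19_2 lc_c_rc_10_3 lc_c_rc_18_2 lc_c_rc_23_2 lc_c_rc_20_2 lc_c_rc_2_1 lc_c_Cert_tree lc_c_rc_19_2) (@D3.rec (fun _ => (Cert rels S Gen.c)) lc_c_rc_10_3 lc_c_rc_10_3 lc_c_rc_10_3 lc_c_rc_10_3 lc_c_rc_10_3 lc_c_Cert_tree lc_c_rc_10_3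 lc_c_Cert_tree lc_c_rc_17_0 lc_c_rc_19_2 lc_c_rc_20_2 lc_c_rc_20_2 lc_c_rc_20_2 lc_c_rc_23_2 lc_c_Cert_tree lc_c_Cert_tree lc_c_rc_17_0 lc_c_rc_19_2 lc_c_rc_17_1 lc_c_rc_17_0 lc_c_rc_19_2 lc_c_rc_10_3 lc_c_rc_19_2 lc_c_rc_21_2 lc_c_rc_22_2 lc_c_rc_10_3 lc_c_rc_2_1 lc_c_rc_20_2 lc_c_Cert_tree lc_c_rc_17_0 lc_c_rc_17_0 lc_c_rc_19_2) (@D3.rec (fun _ => (Cert rels S Gen.c)) lc_c_rc_10_3 lc_c_rc_10_3 lc_c_rc_19_2 lc_c_rc_20_2 lc_c_Cert_tree lc_c_rc_17_0 lc_c_rc_17_0 lc_c_rc_19_2 lc_c_rc_10_3 lc_c_rc_19_2 lc_c_rc_10_3 lc_c_rc_2_1 lc_c_rc_10_3 lc_c_rc_10_3 lc_c_rc_17_0 lc_c_rc_10_3 lc_c_rc_2_1 lc_c_rc_17_0 lc_c_rc_10_3 lc_c_rc_10_3 lc_c_rc_17_0 lc_c_Cert_tree lc_c_rc_17_0 lc_c_rc_19_2 lc_c_rc_10_3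 lc_c_rc_2_1 lc_c_rc_19_2 lc_c_rc_10_3 lc_c_rc_20_2 lc_c_rc_19_2 lc_c_Cert_tree lc_c_rc_19_2) (@D3.rec (fun _ => (Cert rels S Gen.c)) lc_c_Cert_tree lc_c_rc_17_0 lc_c_rc_19_2 lc_c_rc_20_2 lc_c_rc_19_2 lc_c_rc_21_2 lc_c_rc_17_0 lc_c_rc_17_0 lc_c_rc_18_2 lc_c_rc_20_2 lc_c_rc_20_2 lc_c_rc_20_2 lc_c_rc_20_2 lc_c_rc_2_1 lc_c_rc_2_1 lc_c_rc_21_2 lc_c_rc_20_2 lc_c_Cert_tree lc_c_rc_21_0 lc_c_rc_22_0 lc_c_rc_20_2 lc_c_Cert_tree lc_c_rc_20_2 lc_c_Cert_tree lc_c_rc_17_0 lc_c_rc_18_2 lc_c_Cert_tree lc_c_rc_19_2 lc_c_Cert_tree lc_c_rc_22_2 lc_c_rc_10_3 lc_c_rc_17_0) (@D3.rec (fun _ => (Cert rels S Gen.c)) lc_c_rc_19_2 lc_c_rc_19_2 lc_c_rc_18_2 lc_c_rc_20_2 lc_c_rc_22_0 lc_c_rc_21_0 lc_c_rc_18_2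 lc_c_rc_10_1 lc_c_rc_21_2 lc_c_rc_20_2 lc_c_Cert_tree lc_c_rc_19_2 lc_c_rc_17_0 lc_c_rc_10_3 lc_c_Cert_tree lc_c_rc_17_0 lc_c_rc_19_2 lc_c_rc_20_2 lc_c_rc_23_2 lc_c_rc_2_1 lc_c_rc_45_64 lc_c_rc_17_0 lc_c_rc_21_2 lc_c_rc_2_1 lc_c_rc_2_1 lc_c_Cert_tree lc_c_rc_17_0 lc_c_rc_19_2 lc_c_rc_10_3 lc_c_rc_10_3 lc_c_rc_10_3 lc_c_rc_10_3) (@D3.rec (fun _ => (Cert rels S Gen.c)) lc_c_Cert_tree lc_c_Cert_tree lc_c_rc_17_0 lc_c_rc_19_2 lc_c_rc_19_2 lc_c_rc_21_2 lc_c_rc_20_2 lc_c_rc_20_2 lc_c_rc_23_2 lc_c_Cert_tree lc_c_Cert_tree lc_c_rc_17_0 lc_c_rc_19_2 lc_c_rc_23_0 lc_c_rc_17_0 lc_c_rc_19_2 lc_c_rc_19_2 lc_c_rc_21_2 lc_c_rc_22_2 lc_c_rc_20_2 lc_c_rc_20_2 lc_c_rc_20_2 lc_c_rc_20_2 lc_c_rc_17_0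 lc_c_rc_17_0 lc_c_rc_19_2 lc_c_rc_19_2 lc_c_rc_17_0 lc_c_rc_17_0 lc_c_rc_17_0 lc_c_rc_19_2 lc_c_rc_17_0) (@D3.rec (fun _ => (Cert rels S Gen.c)) lc_c_rc_17_0 lc_c_rc_10_3 lc_c_rc_18_2 lc_c_rc_20_2 lc_c_rc_18_2 lc_c_Cert_tree lc_c_rc_20_2 lc_c_rc_17_0 lc_c_rc_19_2 lc_c_rc_21_2 lc_c_rc_21_2 lc_c_rc_10_3 lc_c_rc_10_3 lc_c_Cert_tree lc_c_Cert_tree lc_c_rc_17_0 lc_c_rc_19_2 lc_c_rc_19_2 lc_c_rc_20_2 lc_c_rc_23_2 lc_c_rc_20_2 lc_c_rc_20_2 lc_c_rc_20_2 lc_c_rc_19_2 lc_c_rc_21_2 lc_c_rc_22_2 lc_c_rc_17_0 lc_c_rc_23_2 lc_c_Cert_tree lc_c_rc_20_2 lc_c_rc_17_0 lc_c_rc_18_2) (@D3.rec (fun _ => (Cert rels S Gen.c)) lc_c_rc_2_1 lc_c_rc_20_2 lc_c_rc_18_2 lc_c_rc_19_2 lc_c_rc_20_2 lc_c_rc_23_0 lc_c_Cert_tree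 lc_c_rc_19_2 lc_c_rc_19_2 lc_c_rc_21_2 lc_c_rc_20_2 lc_c_rc_20_2 lc_c_Cert_tree lc_c_rc_20_2 lc_c_Cert_tree lc_c_rc_17_0 lc_c_rc_19_2 lc_c_rc_21_2 lc_c_Cert_tree lc_c_rc_17_0 lc_c_rc_19_2 lc_c_rc_10_3 lc_c_rc_21_2 lc_c_rc_18_2 lc_c_rc_20_2 lc_c_Cert_tree lc_c_rc_19_2 lc_c_rc_19_2 lc_c_rc_18_2 lc_c_rc_20_2 lc_c_rc_20_2 lc_c_Cert_tree) (@D3.rec (fun _ => (Cert rels S Gen.c)) lc_c_Cert_tree lc_c_rc_17_0 lc_c_rc_19_2 lc_c_rc_21_2 lc_c_rc_20_2 lc_c_rc_20_2 lc_c_rc_20_2 lc_c_rc_2_3 lc_c_rc_2_3 lc_c_rc_45_64 lc_c_rc_2_3 lc_c_rc_2_3 lc_c_rc_2_3 lc_c_rc_22_2 lc_c_rc_20_2 lc_c_rc_20_2 lc_c_rc_23_2 lc_c_rc_20_2 lc_c_rc_23_2 lc_c_rc_47_29 lc_c_rc_22_2 lc_c_rc_19_2 lc_c_rc_47_22 lc_c_rc_22_2 lc_c_rc_2_1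 lc_c_rc_2_1 lc_c_rc_2_1 lc_c_rc_2_1 lc_c_Cert_tree lc_c_Cert_tree lc_c_rc_17_0 lc_c_rc_19_2) (@D3.rec (fun _ => (Cert rels S Gen.c)) lc_c_rc_20_2 lc_c_rc_10_3 lc_c_rc_10_3 lc_c_rc_10_3 lc_c_Cert_tree lc_c_Cert_tree lc_c_rc_17_0 lc_c_rc_19_2 lc_c_rc_18_2 lc_c_rc_17_0 lc_c_rc_19_2 lc_c_rc_10_3 lc_c_rc_19_2 lc_c_rc_21_2 lc_c_rc_20_2 lc_c_Cert_tree lc_c_rc_10_1 lc_c_rc_2_3 lc_c_rc_17_0 lc_c_rc_19_2 lc_c_rc_17_0 lc_c_rc_19_2 lc_c_rc_10_3 lc_c_rc_19_2 lc_c_rc_21_2 lc_c_rc_2_3 lc_c_rc_19_2 lc_c_rc_21_2 lc_c_rc_10_3 lc_c_rc_21_2 lc_c_rc_22_2 lc_c_Cert_tree)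
def ce_c_15 : D2 → D3 → (Cert rels S Gen.c) := @D2.rec (fun _ => D3 → (Cert rels S Gen.c)) (@D3.rec (fun _ => (Cert rels S Gen.c)) lc_c_rc_21_2 lc_c_rc_22_2 lc_c_rc_20_2 lc_c_rc_23_2 lc_c_rc_17_0 lc_c_rc_18_2 lc_c_rc_17_0 lc_c_rc_17_0 lc_c_rc_10_3 lc_c_rc_17_0 lc_c_rc_2_1 lc_c_rc_10_3 lc_c_rc_17_0 lc_c_rc_10_3 lc_c_rc_10_3 lc_c_rc_2_1 lc_c_rc_2_1 lc_c_rc_2_1 lc_c_rc_2_1 lc_c_Cert_tree lc_c_Cert_tree lc_c_rc_17_0 lc_c_rc_2_1 lc_c_rc_17_0 lc_c_rc_10_3 lc_c_Cert_tree lc_c_rc_17_1 lc_c_rc_17_0 lc_c_rc_17_0 lc_c_rc_19_2 lc_c_rc_10_3 lc_c_rc_19_2) (@D3.rec (fun _ => (Cert rels S Gen.c)) lc_c_rc_10_3 lc_c_rc_21_2 lc_c_rc_10_3 lc_c_rc_17_0 lc_c_rc_19_2 lc_c_rc_10_3 lc_c_rc_10_3 lc_c_rc_20_2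 lc_c_rc_21_2 lc_c_Cert_tree lc_c_Cert_tree lc_c_rc_17_0 lc_c_rc_17_0 lc_c_rc_19_2 lc_c_rc_10_3 lc_c_rc_10_3 lc_c_rc_19_2 lc_c_rc_2_1 lc_c_Cert_tree lc_c_rc_2_1 lc_c_rc_20_2 lc_c_Cert_tree lc_c_rc_20_2 lc_c_rc_20_2 lc_c_Cert_tree lc_c_rc_2_1 lc_c_Cert_tree lc_c_rc_17_0 lc_c_rc_17_0 lc_c_rc_19_2 lc_c_rc_20_2 lc_c_Cert_tree) (@D3.rec (fun _ => (Cert rels S Gen.c)) lc_c_rc_17_0 lc_c_rc_19_2 lc_c_rc_2_1 lc_c_rc_10_3 lc_c_rc_10_3 lc_c_Cert_tree lc_c_rc_17_0 lc_c_rc_19_2 lc_c_rc_19_2 lc_c_rc_21_2 lc_c_rc_20_2 lc_c_rc_23_2 lc_c_Cert_tree lc_c_Cert_tree lc_c_rc_17_0 lc_c_rc_19_2 lc_c_rc_17_0 lc_c_rc_19_2 lc_c_rc_10_3 lc_c_rc_19_2 lc_c_rc_21_2 lc_c_rc_2_1 lc_c_rc_2_1 lc_c_rc_20_2 lc_c_Cert_tree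 lc_c_rc_17_0 lc_c_rc_17_0 lc_c_rc_19_2 lc_c_rc_10_3 lc_c_rc_19_2 lc_c_rc_2_1 lc_c_rc_10_3) (@D3.rec (fun _ => (Cert rels S Gen.c)) lc_c_rc_19_2 lc_c_rc_10_3 lc_c_rc_19_2 lc_c_rc_18_2 lc_c_rc_20_2 lc_c_rc_20_2 lc_c_rc_20_2 lc_c_Cert_tree lc_c_rc_20_2 lc_c_Cert_tree lc_c_rc_17_0 lc_c_rc_19_2 lc_c_rc_21_2 lc_c_Cert_tree lc_c_rc_17_0 lc_c_rc_19_2 lc_c_rc_10_3 lc_c_rc_20_2 lc_c_rc_20_2 lc_c_Cert_tree lc_c_Cert_tree lc_c_rc_17_0 lc_c_rc_19_2 lc_c_rc_17_0 lc_c_rc_19_2 lc_c_rc_19_2 lc_c_rc_21_2 lc_c_rc_22_2 lc_c_Cert_tree lc_c_Cert_tree lc_c_Cert_tree lc_c_rc_17_0) (@D3.rec (fun _ => (Cert rels S Gen.c)) lc_c_rc_19_2 lc_c_rc_17_0 lc_c_rc_19_2 lc_c_rc_10_3 lc_c_rc_19_2 lc_c_rc_21_2 lc_c_rc_17_0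 lc_c_rc_19_2 lc_c_rc_45_64 lc_c_rc_19_2 lc_c_rc_21_2 lc_c_rc_17_1 lc_c_rc_45_55 lc_c_rc_21_2 lc_c_rc_22_2 lc_c_rc_10_1 lc_c_rc_17_0 lc_c_rc_17_0 lc_c_rc_17_0 lc_c_rc_19_2 lc_c_rc_10_3 lc_c_rc_19_2 lc_c_rc_10_3 lc_c_rc_19_2 lc_c_rc_2_1 lc_c_rc_10_3 lc_c_rc_18_2 lc_c_rc_2_1 lc_c_rc_20_2 lc_c_rc_10_3 lc_c_rc_2_1 lc_c_rc_10_3) (@D3.rec (fun _ => (Cert rels S Gen.c)) lc_c_rc_2_1 lc_c_rc_10_3 lc_c_rc_2_1 lc_c_rc_2_1 lc_c_rc_20_2 lc_c_Cert_tree lc_c_rc_20_2 lc_c_rc_20_2 lc_c_Cert_tree lc_c_rc_2_1 lc_c_Cert_tree lc_c_rc_17_0 lc_c_rc_18_2 lc_c_Cert_tree lc_c_rc_20_2 lc_c_Cert_tree lc_c_rc_19_2 lc_c_rc_17_0 lc_c_Cert_tree lc_c_rc_20_2 lc_c_rc_22_2 lc_c_rc_17_0 lc_c_rc_19_2 lc_c_rc_20_2 lc_c_rc_20_2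 lc_c_Cert_tree lc_c_Cert_tree lc_c_rc_17_0 lc_c_rc_19_2 lc_c_rc_2_1 lc_c_rc_17_0 lc_c_rc_10_3) (@D3.rec (fun _ => (Cert rels S Gen.c)) lc_c_rc_10_3 lc_c_Cert_tree lc_c_rc_19_2 lc_c_rc_17_0 lc_c_rc_18_2 lc_c_rc_17_0 lc_c_rc_19_2 lc_c_rc_17_0 lc_c_rc_19_2 lc_c_rc_20_0 lc_c_rc_20_2 lc_c_rc_22_0 lc_c_rc_17_0 lc_c_rc_19_2 lc_c_rc_21_2 lc_c_rc_20_2 lc_c_rc_21_2 lc_c_rc_19_2 lc_c_rc_19_2 lc_c_rc_21_2 lc_c_rc_20_2 lc_c_rc_23_2 lc_c_rc_10_5 lc_c_Cert_tree lc_c_rc_17_0 lc_c_rc_19_2 lc_c_rc_10_3 lc_c_rc_17_0 lc_c_rc_19_2 lc_c_rc_23_0 lc_c_rc_19_2 lc_c_rc_21_2) (@D3.rec (fun _ => (Cert rels S Gen.c)) lc_c_rc_2_1 lc_c_rc_2_1 lc_c_rc_17_0 lc_c_rc_20_2 lc_c_rc_2_1 lc_c_rc_17_0 lc_c_rc_17_0 lc_c_rc_19_2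 lc_c_rc_45_28 lc_c_rc_20_2 lc_c_rc_18_2 lc_c_rc_18_2 lc_c_rc_19_2 lc_c_rc_2_1 lc_c_rc_20_2 lc_c_rc_20_2 lc_c_rc_45_19 lc_c_rc_19_2 lc_c_rc_20_2 lc_c_Cert_tree lc_c_rc_20_2 lc_c_Cert_tree lc_c_rc_17_0 lc_c_rc_19_2 lc_c_rc_21_2 lc_c_rc_17_0 lc_c_rc_19_2 lc_c_rc_10_3 lc_c_rc_19_2 lc_c_rc_19_2 lc_c_Cert_tree lc_c_rc_17_0) (@D3.rec (fun _ => (Cert rels S Gen.c)) lc_c_rc_19_2 lc_c_rc_21_2 lc_c_rc_10_3 lc_c_rc_19_2 lc_c_rc_2_1 lc_c_rc_20_2 lc_c_Cert_tree lc_c_rc_2_1 lc_c_rc_17_0 lc_c_rc_19_2 lc_c_rc_21_2 lc_c_rc_20_2 lc_c_rc_20_2 lc_c_rc_20_2 lc_c_Cert_tree lc_c_Cert_tree lc_c_rc_17_0 lc_c_rc_19_2 lc_c_rc_17_1 lc_c_rc_17_0 lc_c_rc_19_2 lc_c_rc_10_3 lc_c_rc_19_2 lc_c_rc_21_2 lc_c_rc_22_2 lc_c_rc_10_3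 lc_c_rc_2_1 lc_c_Cert_tree lc_c_rc_17_0 lc_c_rc_19_2 lc_c_rc_20_0 lc_c_rc_19_2) (@D3.rec (fun _ => (Cert rels S Gen.c)) lc_c_Cert_tree lc_c_rc_17_0 lc_c_rc_19_2 lc_c_rc_19_2 lc_c_rc_20_2 lc_c_Cert_tree lc_c_rc_17_0 lc_c_rc_19_2 lc_c_rc_2_1 lc_c_rc_17_0 lc_c_rc_19_2 lc_c_rc_10_3 lc_c_rc_19_2 lc_c_rc_21_2 lc_c_rc_20_0 lc_c_rc_10_3 lc_c_rc_19_2 lc_c_rc_20_2 lc_c_rc_23_2 lc_c_Cert_tree lc_c_rc_18_2 lc_c_rc_17_0 lc_c_rc_19_2 lc_c_rc_20_2 lc_c_rc_10_3 lc_c_rc_10_3 lc_c_rc_10_3 lc_c_Cert_tree lc_c_Cert_tree lc_c_rc_17_0 lc_c_rc_19_2 lc_c_Cert_tree) (@D3.rec (fun _ => (Cert rels S Gen.c)) lc_c_rc_17_0 lc_c_rc_19_2 lc_c_rc_10_3 lc_c_rc_19_2 lc_c_rc_21_2 lc_c_rc_20_2 lc_c_rc_45_64 lc_c_rc_20_2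 lc_c_Cert_tree lc_c_rc_17_0 lc_c_rc_19_2 lc_c_rc_17_0 lc_c_rc_19_2 lc_c_rc_10_3 lc_c_rc_19_2 lc_c_rc_21_2 lc_c_rc_18_2 lc_c_rc_18_4 lc_c_rc_19_2 lc_c_rc_21_2 lc_c_rc_2_1 lc_c_rc_10_3 lc_c_rc_21_2 lc_c_rc_22_2 lc_c_rc_17_0 lc_c_rc_19_2 lc_c_rc_10_3 lc_c_rc_10_3 lc_c_rc_19_2 lc_c_rc_2_1 lc_c_rc_17_0 lc_c_rc_10_3) (@D3.rec (fun _ => (Cert rels S Gen.c)) lc_c_rc_10_3 lc_c_rc_19_2 lc_c_rc_2_1 lc_c_rc_10_3 lc_c_rc_19_0 lc_c_rc_2_1 lc_c_rc_10_3 lc_c_rc_17_0 lc_c_rc_19_2 lc_c_rc_2_1 lc_c_rc_20_2 lc_c_rc_21_2 lc_c_rc_17_0 lc_c_rc_19_2 lc_c_rc_21_2 lc_c_rc_17_0 lc_c_rc_19_2 lc_c_rc_19_2 lc_c_rc_21_2 lc_c_rc_20_2 lc_c_rc_21_2 lc_c_rc_22_2 lc_c_rc_20_2 lc_c_rc_20_2 lc_c_Cert_tree lc_c_rc_19_0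 lc_c_rc_20_2 lc_c_rc_2_1 lc_c_Cert_tree lc_c_rc_21_2 lc_c_Cert_tree lc_c_rc_17_0) (@D3.rec (fun _ => (Cert rels S Gen.c)) lc_c_rc_19_2 lc_c_rc_23_2 lc_c_rc_18_2 lc_c_Cert_tree lc_c_rc_17_0 lc_c_rc_19_2 lc_c_rc_21_2 lc_c_rc_17_0 lc_c_rc_19_2 lc_c_rc_10_3 lc_c_rc_19_2 lc_c_rc_17_0 lc_c_rc_19_2 lc_c_rc_21_2 lc_c_rc_17_0 lc_c_rc_19_2 lc_c_rc_10_3 lc_c_rc_10_3 lc_c_rc_19_2 lc_c_rc_21_2 lc_c_rc_10_1 lc_c_rc_23_2 lc_c_rc_22_0 lc_c_rc_45_19 lc_c_rc_2_3 lc_c_rc_23_2 lc_c_rc_2_3 lc_c_rc_22_2 lc_c_Cert_tree lc_c_rc_17_0 lc_c_rc_19_2 lc_c_rc_19_2) (@D3.rec (fun _ => (Cert rels S Gen.c)) lc_c_Cert_tree lc_c_rc_17_0 lc_c_rc_19_2 lc_c_rc_19_2 lc_c_rc_21_2 lc_c_rc_20_2 lc_c_rc_23_2 lc_c_rc_20_2 lc_c_rc_19_2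 lc_c_rc_21_2 lc_c_rc_22_2 lc_c_rc_2_1 lc_c_Cert_tree lc_c_rc_17_0 lc_c_rc_19_2 lc_c_rc_19_2 lc_c_rc_21_2 lc_c_rc_10_3 lc_c_rc_10_3 lc_c_Cert_tree lc_c_Cert_tree lc_c_rc_17_0 lc_c_rc_19_2 lc_c_rc_17_0 lc_c_rc_19_2 lc_c_rc_19_2 lc_c_rc_21_2 lc_c_rc_18_2 lc_c_rc_21_2 lc_c_rc_22_2 lc_c_rc_10_5 lc_c_rc_22_2) (@D3.rec (fun _ => (Cert rels S Gen.c)) lc_c_rc_23_2 lc_c_rc_17_0 lc_c_rc_19_2 lc_c_rc_17_0 lc_c_rc_19_2 lc_c_rc_19_2 lc_c_rc_21_2 lc_c_rc_22_2 lc_c_rc_19_2 lc_c_rc_21_2 lc_c_rc_21_2 lc_c_rc_22_2 lc_c_rc_22_2 lc_c_rc_19_2 lc_c_rc_18_2 lc_c_rc_18_2 lc_c_rc_20_2 lc_c_rc_20_2 lc_c_rc_23_2 lc_c_rc_19_2 lc_c_rc_17_0 lc_c_rc_19_2 lc_c_rc_21_2 lc_c_rc_21_2 lc_c_rc_22_2 lc_c_rc_22_2 lc_c_Cert_tree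 lc_c_Cert_tree lc_c_rc_17_0 lc_c_rc_19_2 lc_c_rc_17_0 lc_c_rc_19_2) (@D3.rec (fun _ => (Cert rels S Gen.c)) lc_c_rc_19_2 lc_c_rc_21_2 lc_c_rc_19_2 lc_c_rc_23_0 lc_c_rc_20_2 lc_c_rc_20_2 lc_c_rc_20_2 lc_c_rc_21_2 lc_c_rc_21_2 lc_c_rc_21_2 lc_c_rc_17_0 lc_c_rc_19_2 lc_c_rc_21_2 lc_c_rc_10_3 lc_c_rc_20_2 lc_c_rc_19_0 lc_c_rc_20_2 lc_c_rc_20_2 lc_c_rc_20_2 lc_c_Cert_tree lc_c_rc_10_5 lc_c_rc_17_0 lc_c_rc_19_2 lc_c_rc_21_2 lc_c_rc_20_2 lc_c_rc_21_2 lc_c_Cert_tree lc_c_Cert_tree lc_c_rc_17_0 lc_c_rc_19_2 lc_c_Cert_tree lc_c_rc_17_0) (@D3.rec (fun _ => (Cert rels S Gen.c)) lc_c_rc_19_2 lc_c_rc_10_3 lc_c_rc_19_2 lc_c_rc_21_2 lc_c_rc_22_2 lc_c_rc_17_0 lc_c_rc_10_3 lc_c_rc_19_2 lc_c_rc_2_1 lc_c_rc_21_2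 lc_c_rc_20_2 lc_c_Cert_tree lc_c_rc_17_0 lc_c_rc_19_2 lc_c_rc_21_2 lc_c_rc_20_2 lc_c_rc_20_2 lc_c_Cert_tree lc_c_Cert_tree lc_c_rc_17_0 lc_c_rc_19_2 lc_c_rc_17_0 lc_c_rc_19_2 lc_c_rc_19_2 lc_c_rc_21_2 lc_c_rc_21_2 lc_c_Cert_tree lc_c_rc_22_2 lc_c_rc_23_2 lc_c_rc_20_2 lc_c_rc_23_2 lc_c_rc_21_2) (@D3.rec (fun _ => (Cert rels S Gen.c)) lc_c_rc_22_2 lc_c_rc_21_2 lc_c_rc_22_2 lc_c_Cert_tree lc_c_rc_21_2 lc_c_rc_23_2 lc_c_rc_47_29 lc_c_rc_2_1 lc_c_rc_47_29 lc_c_rc_23_2 lc_c_rc_23_0 lc_c_rc_2_1 lc_c_rc_2_1 lc_c_rc_2_1 lc_c_Cert_tree lc_c_Cert_tree lc_c_rc_17_0 lc_c_rc_19_2 lc_c_rc_17_0 lc_c_rc_19_2 lc_c_rc_10_3 lc_c_rc_19_2 lc_c_rc_21_2 lc_c_rc_20_2 lc_c_Cert_tree lc_c_rc_10_3 lc_c_rc_10_3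 lc_c_rc_17_0 lc_c_rc_19_2 lc_c_rc_17_0 lc_c_rc_19_2 lc_c_rc_10_3) (@D3.rec (fun _ => (Cert rels S Gen.c)) lc_c_rc_19_2 lc_c_rc_21_2 lc_c_rc_23_0 lc_c_rc_19_2 lc_c_rc_21_2 lc_c_rc_10_3 lc_c_rc_21_2 lc_c_rc_22_2 lc_c_rc_17_0 lc_c_rc_19_2 lc_c_rc_20_2 lc_c_rc_2_3 lc_c_rc_19_2 lc_c_rc_21_2 lc_c_rc_19_2 lc_c_rc_21_2 lc_c_rc_10_3 lc_c_rc_18_2 lc_c_rc_21_2 lc_c_rc_22_2 lc_c_rc_21_2 lc_c_rc_21_2 lc_c_rc_22_2 lc_c_rc_10_3 lc_c_rc_22_2 lc_c_rc_17_0 lc_c_rc_10_3 lc_c_rc_2_1 lc_c_rc_10_3 lc_c_rc_2_1 lc_c_rc_2_1 lc_c_Cert_tree) (@D3.rec (fun _ => (Cert rels S Gen.c)) lc_c_rc_2_1 lc_c_rc_17_0 lc_c_rc_17_0 lc_c_rc_10_3 lc_c_rc_17_0 lc_c_rc_19_2 lc_c_rc_10_3 lc_c_rc_18_2 lc_c_rc_10_3 lc_c_rc_19_2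 lc_c_rc_2_1 lc_c_rc_2_1 lc_c_Cert_tree lc_c_rc_17_0 lc_c_rc_17_0 lc_c_rc_10_3 lc_c_rc_10_3 lc_c_rc_19_2 lc_c_rc_2_1 lc_c_rc_17_0 lc_c_Cert_tree lc_c_rc_17_0 lc_c_rc_19_2 lc_c_Cert_tree lc_c_Cert_tree lc_c_rc_17_0 lc_c_rc_19_2 lc_c_rc_2_1 lc_c_rc_17_0 lc_c_rc_19_2 lc_c_rc_10_3 lc_c_rc_19_2) (@D3.rec (fun _ => (Cert rels S Gen.c)) lc_c_rc_21_2 lc_c_Cert_tree lc_c_rc_17_0 lc_c_rc_19_2 lc_c_rc_10_3 lc_c_rc_19_2 lc_c_rc_21_2 lc_c_rc_2_1 lc_c_Cert_tree lc_c_rc_17_0 lc_c_rc_19_2 lc_c_rc_10_3 lc_c_rc_19_2 lc_c_rc_21_2 lc_c_rc_18_2 lc_c_rc_21_2 lc_c_rc_22_2 lc_c_rc_23_0 lc_c_Cert_tree lc_c_rc_17_0 lc_c_rc_19_2 lc_c_rc_17_0 lc_c_rc_19_2 lc_c_rc_10_3 lc_c_rc_19_2 lc_c_rc_21_2 lc_c_rc_19_2 lc_c_rc_21_2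 lc_c_rc_10_3 lc_c_rc_10_3 lc_c_rc_21_2 lc_c_rc_22_2) (@D3.rec (fun _ => (Cert rels S Gen.c)) lc_c_rc_17_0 lc_c_rc_10_3 lc_c_rc_19_2 lc_c_rc_2_1 lc_c_rc_10_3 lc_c_rc_18_2 lc_c_rc_2_1 lc_c_rc_17_1 lc_c_rc_18_2 lc_c_rc_20_2 lc_c_rc_23_2 lc_c_Cert_tree lc_c_Cert_tree lc_c_rc_17_0 lc_c_rc_19_2 lc_c_Cert_tree lc_c_rc_17_0 lc_c_rc_19_2 lc_c_rc_10_3 lc_c_rc_19_2 lc_c_rc_21_2 lc_c_rc_22_2 lc_c_rc_17_0 lc_c_rc_10_3 lc_c_rc_19_2 lc_c_rc_2_1 lc_c_Cert_tree lc_c_Cert_tree lc_c_rc_17_0 lc_c_rc_19_2 lc_c_rc_17_0 lc_c_rc_19_2)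
def ce_c_16 : D2 → D3 → (Cert rels S Gen.c) := @D2.rec (fun _ => D3 → (Cert rels S Gen.c)) (@D3.rec (fun _ => (Cert rels S Gen.c)) lc_c_rc_19_2 lc_c_rc_21_2 lc_c_rc_19_2 lc_c_rc_21_2 lc_c_rc_21_2 lc_c_rc_22_2 lc_c_rc_17_0 lc_c_rc_19_2 lc_c_rc_17_0 lc_c_rc_19_2 lc_c_rc_17_0 lc_c_rc_19_2 lc_c_rc_10_3 lc_c_rc_19_2 lc_c_rc_21_2 lc_c_rc_10_3 lc_c_rc_19_2 lc_c_rc_21_2 lc_c_rc_18_2 lc_c_rc_10_3 lc_c_rc_18_2 lc_c_rc_21_2 lc_c_rc_22_2 lc_c_rc_19_2 lc_c_rc_21_2 lc_c_rc_10_3 lc_c_rc_18_2 lc_c_rc_21_2 lc_c_rc_22_2 lc_c_rc_17_1 lc_c_rc_10_3 lc_c_rc_22_2) (@D3.rec (fun _ => (Cert rels S Gen.c)) lc_c_rc_18_2 lc_c_rc_10_3 lc_c_rc_19_2 lc_c_rc_10_3 lc_c_rc_2_1 lc_c_rc_10_3 lc_c_rc_17_0 lc_c_rc_2_1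 lc_c_rc_20_2 lc_c_rc_2_1 lc_c_rc_2_1 lc_c_Cert_tree lc_c_Cert_tree lc_c_rc_17_0 lc_c_rc_19_2 lc_c_Cert_tree lc_c_Cert_tree lc_c_rc_17_0 lc_c_rc_19_2 lc_c_rc_2_1 lc_c_rc_17_0 lc_c_rc_19_2 lc_c_rc_10_3 lc_c_rc_19_2 lc_c_rc_17_0 lc_c_rc_19_2 lc_c_Cert_tree lc_c_rc_17_0 lc_c_rc_19_2 lc_c_rc_21_2 lc_c_rc_17_0 lc_c_rc_19_2) (@D3.rec (fun _ => (Cert rels S Gen.c)) lc_c_rc_2_3 lc_c_rc_2_3 lc_c_rc_19_2 lc_c_rc_21_2 lc_c_Cert_tree lc_c_Cert_tree lc_c_rc_17_0 lc_c_rc_19_2 lc_c_rc_17_0 lc_c_rc_19_2 lc_c_rc_21_0 lc_c_rc_19_2 lc_c_rc_21_2 lc_c_rc_2_1 lc_c_rc_18_2 lc_c_rc_17_0 lc_c_rc_19_2 lc_c_rc_20_0 lc_c_rc_19_2 lc_c_rc_19_2 lc_c_rc_21_2 lc_c_rc_19_2 lc_c_rc_21_2 lc_c_rc_20_0 lc_c_rc_10_1 lc_c_rc_23_0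 lc_c_rc_19_2 lc_c_rc_21_2 lc_c_rc_22_2 lc_c_rc_10_5 lc_c_rc_22_2 lc_c_rc_10_5) (@D3.rec (fun _ => (Cert rels S Gen.c)) lc_c_rc_18_2 lc_c_rc_21_2 lc_c_rc_22_2 lc_c_rc_10_3 lc_c_rc_19_0 lc_c_rc_18_2 lc_c_rc_17_0 lc_c_rc_19_2 lc_c_rc_20_2 lc_c_rc_19_2 lc_c_rc_21_2 lc_c_rc_10_3 lc_c_rc_19_2 lc_c_rc_21_2 lc_c_rc_2_1 lc_c_rc_19_2 lc_c_rc_21_2 lc_c_rc_22_2 lc_c_rc_10_3 lc_c_rc_45_28 lc_c_rc_20_2 lc_c_rc_19_2 lc_c_rc_19_2 lc_c_rc_21_2 lc_c_rc_45_19 lc_c_rc_20_2 lc_c_rc_45_37 lc_c_rc_17_0 lc_c_rc_21_2 lc_c_Cert_tree lc_c_rc_17_0 lc_c_rc_19_2) (@D3.rec (fun _ => (Cert rels S Gen.c)) lc_c_rc_10_3 lc_c_rc_17_0 lc_c_rc_19_2 lc_c_rc_45_28 lc_c_rc_19_2 lc_c_rc_21_2 lc_c_rc_22_2 lc_c_rc_19_2 lc_c_rc_2_1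 lc_c_rc_21_2 lc_c_rc_21_2 lc_c_rc_17_0 lc_c_rc_19_2 lc_c_rc_18_2 lc_c_rc_19_2 lc_c_rc_21_2 lc_c_rc_21_2 lc_c_rc_21_2 lc_c_rc_2_1 lc_c_Cert_tree lc_c_rc_17_0 lc_c_rc_19_2 lc_c_rc_2_1 lc_c_rc_19_2 lc_c_rc_21_2 lc_c_rc_22_2 lc_c_Cert_tree lc_c_rc_19_0 lc_c_Cert_tree lc_c_rc_17_0 lc_c_rc_19_2 lc_c_rc_17_0) (@D3.rec (fun _ => (Cert rels S Gen.c)) lc_c_rc_19_2 lc_c_rc_20_2 lc_c_rc_19_2 lc_c_rc_21_2 lc_c_rc_18_2 lc_c_rc_2_1 lc_c_rc_19_2 lc_c_rc_21_2 lc_c_rc_21_2 lc_c_rc_18_2 lc_c_rc_21_2 lc_c_rc_22_2 lc_c_rc_17_0 lc_c_rc_19_2 lc_c_rc_19_2 lc_c_rc_21_2 lc_c_rc_20_0 lc_c_rc_19_2 lc_c_rc_17_0 lc_c_rc_19_2 lc_c_rc_10_3 lc_c_rc_19_2 lc_c_rc_21_2 lc_c_rc_19_2 lc_c_rc_18_2 lc_c_rc_17_0 lc_c_rc_19_2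 lc_c_rc_10_3 lc_c_rc_19_2 lc_c_rc_21_2 lc_c_rc_2_1 lc_c_rc_10_3) (@D3.rec (fun _ => (Cert rels S Gen.c)) lc_c_rc_19_2 lc_c_rc_21_2 lc_c_rc_10_3 lc_c_rc_10_3 lc_c_rc_21_2 lc_c_rc_22_2 lc_c_rc_21_2 lc_c_Cert_tree lc_c_rc_17_0 lc_c_rc_19_2 lc_c_rc_23_2 lc_c_rc_19_2 lc_c_rc_21_2 lc_c_rc_20_2 lc_c_Cert_tree lc_c_Cert_tree lc_c_Cert_tree lc_c_rc_17_0 lc_c_rc_19_2 lc_c_rc_17_0 lc_c_rc_19_2 lc_c_rc_10_3 lc_c_rc_19_2 lc_c_rc_21_2 lc_c_rc_17_0 lc_c_rc_19_2 lc_c_rc_19_2 lc_c_rc_21_2 lc_c_rc_10_3 lc_c_rc_21_2 lc_c_rc_22_2 lc_c_rc_23_2) (@D3.rec (fun _ => (Cert rels S Gen.c)) lc_c_rc_20_2 lc_c_rc_17_0 lc_c_rc_19_2 lc_c_rc_21_2 lc_c_rc_19_2 lc_c_rc_21_2 lc_c_rc_10_3 lc_c_rc_19_2 lc_c_rc_21_2 lc_c_rc_2_1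 lc_c_rc_10_3 lc_c_rc_45_73 lc_c_rc_21_2 lc_c_rc_22_2 lc_c_rc_18_2 lc_c_rc_21_0 lc_c_rc_21_2 lc_c_rc_22_2 lc_c_rc_2_1 lc_c_rc_10_3 lc_c_rc_22_2 lc_c_rc_10_3 lc_c_rc_19_2 lc_c_rc_2_1 lc_c_rc_10_3 lc_c_rc_2_1 lc_c_rc_10_3 lc_c_rc_19_0 lc_c_rc_2_1 lc_c_Cert_tree lc_c_rc_10_3 lc_c_rc_21_2) (@D3.rec (fun _ => (Cert rels S Gen.c)) lc_c_rc_22_2 lc_c_rc_19_2 lc_c_rc_21_2 lc_c_rc_22_2 lc_c_rc_19_2 lc_c_rc_21_2 lc_c_rc_21_2 lc_c_rc_22_2 lc_c_rc_21_2 lc_c_rc_21_2 lc_c_rc_22_0 lc_c_rc_20_2 lc_c_rc_17_0 lc_c_rc_19_2 lc_c_rc_17_0 lc_c_rc_21_2 lc_c_Cert_tree lc_c_rc_17_0 lc_c_rc_19_2 lc_c_Cert_tree lc_c_rc_17_0 lc_c_rc_19_2 lc_c_rc_19_2 lc_c_rc_21_2 lc_c_rc_18_2 lc_c_rc_18_2 lc_c_rc_17_0 lc_c_rc_19_2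 lc_c_rc_10_3 lc_c_rc_19_2 lc_c_rc_21_2 lc_c_rc_22_2) (@D3.rec (fun _ => (Cert rels S Gen.c)) lc_c_rc_10_3 lc_c_rc_19_2 lc_c_rc_2_1 lc_c_rc_21_2 lc_c_rc_19_2 lc_c_rc_21_2 lc_c_rc_21_2 lc_c_rc_19_2 lc_c_rc_21_2 lc_c_rc_10_3 lc_c_rc_10_3 lc_c_rc_21_2 lc_c_rc_22_2 lc_c_rc_10_3 lc_c_rc_23_2 lc_c_rc_20_2 lc_c_rc_17_0 lc_c_rc_17_0 lc_c_rc_21_2 lc_c_rc_17_0 lc_c_rc_17_0 lc_c_rc_19_2 lc_c_rc_19_2 lc_c_rc_21_2 lc_c_rc_19_2 lc_c_rc_17_0 lc_c_rc_19_2 lc_c_rc_19_2 lc_c_rc_21_2 lc_c_rc_18_2 lc_c_rc_21_2 lc_c_rc_22_2) (@D3.rec (fun _ => (Cert rels S Gen.c)) lc_c_rc_45_55 lc_c_rc_17_0 lc_c_rc_10_5 lc_c_rc_2_1 lc_c_rc_17_0 lc_c_Cert_tree lc_c_rc_17_0 lc_c_rc_19_2 lc_c_rc_19_2 lc_c_rc_21_2 lc_c_rc_21_2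 lc_c_rc_22_2 lc_c_Cert_tree lc_c_Cert_tree lc_c_rc_17_0 lc_c_rc_19_2 lc_c_rc_17_0 lc_c_rc_19_2 lc_c_rc_19_2 lc_c_rc_21_2 lc_c_rc_19_2 lc_c_rc_21_2 lc_c_rc_21_2 lc_c_rc_22_2 lc_c_rc_18_2 lc_c_rc_20_2 lc_c_rc_22_2 lc_c_rc_23_2 lc_c_rc_10_1 lc_c_rc_17_1 lc_c_rc_19_2 lc_c_rc_21_2) (@D3.rec (fun _ => (Cert rels S Gen.c)) lc_c_rc_19_2 lc_c_rc_21_2 lc_c_rc_18_2 lc_c_rc_21_2 lc_c_rc_22_2 lc_c_rc_10_1 lc_c_rc_21_2 lc_c_rc_22_2 lc_c_rc_22_2 lc_c_rc_18_2 lc_c_rc_20_2 lc_c_rc_22_0 lc_c_rc_23_2 lc_c_rc_21_2 lc_c_rc_19_2 lc_c_rc_21_2 lc_c_rc_22_2 lc_c_rc_22_2 lc_c_rc_17_0 lc_c_rc_19_2 lc_c_rc_17_0 lc_c_rc_19_2 lc_c_rc_19_2 lc_c_rc_21_2 lc_c_rc_19_2 lc_c_rc_21_2 lc_c_rc_21_2 lc_c_rc_22_2 lc_c_rc_46_30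 lc_c_rc_20_2 lc_c_rc_21_2 lc_c_rc_21_2) (@D3.rec (fun _ => (Cert rels S Gen.c)) lc_c_rc_21_2 lc_c_rc_22_2 lc_c_rc_10_3 lc_c_rc_19_2 lc_c_rc_21_2 lc_c_rc_21_2 lc_c_rc_2_1 lc_c_rc_20_2 lc_c_rc_17_1 lc_c_rc_21_2 lc_c_rc_20_2 lc_c_Cert_tree lc_c_rc_17_0 lc_c_rc_19_2 lc_c_rc_19_2 lc_c_rc_10_3 lc_c_rc_19_2 lc_c_rc_21_2 lc_c_rc_21_2 lc_c_rc_18_2 lc_c_Cert_tree lc_c_rc_17_0 lc_c_rc_19_2 lc_c_rc_17_0 lc_c_rc_19_2 lc_c_rc_10_3 lc_c_rc_19_2 lc_c_rc_21_2 lc_c_rc_17_0 lc_c_rc_19_2 lc_c_rc_17_1 lc_c_rc_19_2) (@D3.rec (fun _ => (Cert rels S Gen.c)) lc_c_rc_21_2 lc_c_rc_2_1 lc_c_rc_10_3 lc_c_rc_21_2 lc_c_rc_22_2 lc_c_rc_2_1 lc_c_rc_18_2 lc_c_Cert_tree lc_c_rc_17_0 lc_c_rc_19_2 lc_c_rc_17_0 lc_c_rc_19_2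 lc_c_rc_21_2 lc_c_rc_21_2 lc_c_Cert_tree lc_c_rc_10_3 lc_c_rc_17_0 lc_c_rc_19_2 lc_c_rc_17_0 lc_c_rc_19_2 lc_c_rc_19_2 lc_c_rc_21_2 lc_c_rc_19_2 lc_c_rc_21_2 lc_c_rc_21_2 lc_c_rc_22_2 lc_c_rc_17_0 lc_c_rc_19_2 lc_c_rc_2_3 lc_c_rc_2_3 lc_c_rc_45_28 lc_c_rc_17_1) (@D3.rec (fun _ => (Cert rels S Gen.c)) lc_c_rc_17_1 lc_c_rc_45_28 lc_c_rc_2_3 lc_c_rc_17_0 lc_c_rc_19_2 lc_c_rc_22_2 lc_c_rc_23_2 lc_c_rc_21_2 lc_c_rc_17_1 lc_c_rc_17_1 lc_c_rc_2_1 lc_c_rc_22_2 lc_c_Cert_tree lc_c_rc_2_1 lc_c_rc_17_0 lc_c_rc_19_2 lc_c_rc_17_0 lc_c_rc_19_2 lc_c_rc_20_2 lc_c_rc_19_2 lc_c_rc_21_2 lc_c_rc_19_2 lc_c_rc_21_2 lc_c_rc_18_2 lc_c_rc_21_2 lc_c_rc_22_2 lc_c_rc_17_0 lc_c_rc_19_2 lc_c_rc_20_2 lc_c_rc_17_1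 lc_c_rc_19_2 lc_c_rc_21_2) (@D3.rec (fun _ => (Cert rels S Gen.c)) lc_c_rc_19_2 lc_c_rc_21_2 lc_c_rc_10_3 lc_c_rc_18_2 lc_c_rc_21_2 lc_c_rc_22_2 lc_c_rc_21_2 lc_c_rc_21_2 lc_c_rc_22_2 lc_c_rc_10_3 lc_c_rc_22_2 lc_c_rc_19_2 lc_c_rc_21_2 lc_c_rc_2_3 lc_c_rc_17_1 lc_c_rc_21_2 lc_c_rc_22_2 lc_c_rc_21_2 lc_c_rc_22_2 lc_c_rc_10_3 lc_c_rc_18_2 lc_c_rc_22_2 lc_c_rc_10_1 lc_c_rc_22_2 lc_c_rc_10_3 lc_c_rc_2_1 lc_c_rc_17_0 lc_c_rc_10_3 lc_c_rc_18_2 lc_c_rc_18_2 lc_c_rc_2_1 lc_c_rc_10_3) (@D3.rec (fun _ => (Cert rels S Gen.c)) lc_c_rc_17_0 lc_c_rc_10_3 lc_c_rc_10_3 lc_c_rc_2_1 lc_c_rc_17_0 lc_c_rc_19_2 lc_c_rc_19_2 lc_c_rc_21_2 lc_c_rc_17_0 lc_c_rc_19_2 lc_c_rc_17_0 lc_c_rc_19_2 lc_c_rc_10_3 lc_c_rc_19_2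 lc_c_rc_21_2 lc_c_rc_2_1 lc_c_rc_10_3 lc_c_rc_19_2 lc_c_rc_2_1 lc_c_rc_18_2 lc_c_rc_21_2 lc_c_rc_22_2 lc_c_rc_17_0 lc_c_rc_19_2 lc_c_rc_10_3 lc_c_rc_19_2 lc_c_rc_21_2 lc_c_rc_10_3 lc_c_rc_21_2 lc_c_rc_22_2 lc_c_rc_17_0 lc_c_rc_19_2) (@D3.rec (fun _ => (Cert rels S Gen.c)) lc_c_rc_10_3 lc_c_rc_19_2 lc_c_rc_21_2 lc_c_rc_10_3 lc_c_rc_18_2 lc_c_rc_21_2 lc_c_rc_22_2 lc_c_rc_18_2 lc_c_rc_20_2 lc_c_rc_22_2 lc_c_rc_46_30 lc_c_rc_17_0 lc_c_rc_19_2 lc_c_rc_19_2 lc_c_rc_21_2 lc_c_rc_10_3 lc_c_rc_19_2 lc_c_rc_21_2 lc_c_rc_20_2 lc_c_rc_10_3 lc_c_rc_18_2 lc_c_rc_21_2 lc_c_rc_22_2 lc_c_rc_21_2 lc_c_rc_22_2 lc_c_rc_10_3 lc_c_rc_10_3 lc_c_rc_22_2 lc_c_rc_2_1 lc_c_rc_10_3 lc_c_rc_18_2 lc_c_rc_2_1) (@D3.rec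 (fun _ => (Cert rels S Gen.c)) lc_c_rc_20_2 lc_c_rc_20_2 lc_c_rc_20_2 lc_c_rc_23_2 lc_c_rc_17_0 lc_c_rc_19_2 lc_c_rc_17_0 lc_c_rc_19_2 lc_c_rc_20_2 lc_c_rc_19_2 lc_c_rc_21_2 lc_c_rc_17_0 lc_c_rc_19_2 lc_c_rc_22_0 lc_c_rc_19_2 lc_c_rc_21_2 lc_c_rc_2_1 lc_c_rc_10_3 lc_c_rc_21_2 lc_c_rc_22_2 lc_c_rc_2_1 lc_c_rc_18_2 lc_c_rc_17_0 lc_c_rc_19_2 lc_c_rc_17_0 lc_c_rc_19_2 lc_c_rc_19_2 lc_c_rc_21_2 lc_c_rc_19_2 lc_c_rc_21_2 lc_c_rc_18_2 lc_c_rc_21_2) (@D3.rec (fun _ => (Cert rels S Gen.c)) lc_c_rc_22_2 lc_c_rc_21_2 lc_c_rc_22_2 lc_c_rc_22_2 lc_c_rc_19_2 lc_c_rc_21_2 lc_c_rc_19_2 lc_c_rc_21_2 lc_c_rc_10_3 lc_c_rc_19_2 lc_c_rc_21_2 lc_c_rc_10_3 lc_c_rc_18_2 lc_c_rc_21_2 lc_c_rc_22_2 lc_c_rc_18_2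 lc_c_rc_17_1 lc_c_rc_19_2 lc_c_rc_21_2 lc_c_rc_22_2 lc_c_rc_19_2 lc_c_rc_22_2 lc_c_rc_17_1 lc_c_rc_18_2 lc_c_rc_22_2 lc_c_rc_21_2 lc_c_rc_22_2 lc_c_rc_10_3 lc_c_rc_18_2 lc_c_rc_19_2 lc_c_rc_22_2 lc_c_rc_18_0) (@D3.rec (fun _ => (Cert rels S Gen.c)) lc_c_rc_17_1 lc_c_rc_19_0 lc_c_rc_2_1 lc_c_rc_45_46 lc_c_rc_20_2 lc_c_rc_23_0 lc_c_rc_17_0 lc_c_rc_19_2 lc_c_rc_17_0 lc_c_rc_19_2 lc_c_rc_19_2 lc_c_rc_21_2 lc_c_rc_17_0 lc_c_rc_19_2 lc_c_rc_17_0 lc_c_rc_19_2 lc_c_rc_10_3 lc_c_rc_19_2 lc_c_rc_21_2 lc_c_rc_2_1 lc_c_rc_10_3 lc_c_rc_19_2 lc_c_rc_2_1 lc_c_rc_21_2 lc_c_rc_19_2 lc_c_rc_21_2 lc_c_rc_17_0 lc_c_rc_19_2 lc_c_rc_19_2 lc_c_rc_21_2 lc_c_rc_21_2 lc_c_rc_19_2) (@D3.rec (fun _ => (Cert rels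 S Gen.c)) lc_c_rc_21_2 lc_c_rc_22_2 lc_c_rc_23_2 lc_c_rc_18_2 lc_c_rc_21_2 lc_c_rc_22_2 lc_c_rc_17_0 lc_c_rc_19_2 lc_c_rc_17_0 lc_c_rc_19_2 lc_c_rc_20_2 lc_c_rc_19_2 lc_c_rc_21_2 lc_c_rc_19_2 lc_c_rc_21_2 lc_c_rc_19_2 lc_c_rc_21_2 lc_c_rc_22_2 lc_c_rc_18_2 lc_c_rc_19_2 lc_c_rc_21_2 lc_c_rc_20_0 lc_c_rc_20_2 lc_c_rc_21_2 lc_c_rc_22_2 lc_c_rc_21_2 lc_c_rc_22_2 lc_c_rc_22_0 lc_c_rc_45_46 lc_c_rc_21_2 lc_c_rc_22_2 lc_c_rc_2_1)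
def ce_c_17 : D2 → D3 → (Cert rels S Gen.c) := @D2.rec (fun _ => D3 → (Cert rels S Gen.c)) (@D3.rec (fun _ => (Cert rels S Gen.c)) lc_c_rc_21_2 lc_c_rc_2_1 lc_c_rc_22_2 lc_c_rc_18_2 lc_c_rc_20_2 lc_c_rc_22_2 lc_c_rc_10_3 lc_c_rc_18_2 lc_c_rc_10_5 lc_c_rc_19_2 lc_c_rc_21_2 lc_c_rc_10_1 lc_c_rc_10_3 lc_c_rc_21_2 lc_c_rc_22_2 lc_c_rc_10_3 lc_c_rc_21_2 lc_c_rc_22_2 lc_c_rc_2_1 lc_c_rc_23_0 lc_c_rc_22_2 lc_c_rc_19_0 lc_c_rc_21_2 lc_c_rc_21_2 lc_c_rc_21_2 lc_c_rc_23_0 lc_c_rc_21_2 lc_c_rc_23_2 lc_c_rc_2_3 lc_c_rc_22_2 lc_c_rc_17_0 lc_c_rc_19_2) (@D3.rec (fun _ => (Cert rels S Gen.c)) lc_c_rc_10_3 lc_c_rc_19_2 lc_c_rc_21_2 lc_c_rc_10_3 lc_c_rc_19_2 lc_c_rc_21_2 lc_c_rc_17_0 lc_c_rc_10_3 lc_c_rc_21_2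 lc_c_rc_22_2 lc_c_rc_18_2 lc_c_rc_22_2 lc_c_rc_22_2 lc_c_rc_20_2 lc_c_rc_19_2 lc_c_rc_21_2 lc_c_rc_19_2 lc_c_rc_21_2 lc_c_rc_22_2 lc_c_rc_22_2 lc_c_rc_10_5 lc_c_rc_17_0 lc_c_rc_19_2 lc_c_rc_19_2 lc_c_rc_21_2 lc_c_rc_2_1 lc_c_rc_21_2 lc_c_rc_22_2 lc_c_rc_17_0 lc_c_rc_19_2 lc_c_rc_17_1 lc_c_rc_17_0) (@D3.rec (fun _ => (Cert rels S Gen.c)) lc_c_rc_19_2 lc_c_rc_2_1 lc_c_rc_19_2 lc_c_rc_21_2 lc_c_rc_22_0 lc_c_rc_19_2 lc_c_rc_21_2 lc_c_rc_20_2 lc_c_rc_20_2 lc_c_rc_18_2 lc_c_rc_21_2 lc_c_rc_22_2 lc_c_rc_18_2 lc_c_rc_2_1 lc_c_rc_21_2 lc_c_rc_22_2 lc_c_rc_19_2 lc_c_rc_18_2 lc_c_rc_22_2 lc_c_rc_19_2 lc_c_rc_21_2 lc_c_rc_21_2 lc_c_rc_22_2 lc_c_rc_19_2 lc_c_rc_10_3 lc_c_rc_19_2 lc_c_rc_21_2 lc_c_rc_10_3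 lc_c_rc_21_2 lc_c_rc_22_2 lc_c_rc_19_2 lc_c_rc_10_3) (@D3.rec (fun _ => (Cert rels S Gen.c)) lc_c_rc_19_2 lc_c_rc_21_2 lc_c_rc_20_2 lc_c_rc_10_3 lc_c_rc_21_2 lc_c_rc_22_2 lc_c_rc_18_4 lc_c_rc_10_3 lc_c_rc_18_2 lc_c_rc_21_2 lc_c_rc_22_2 lc_c_rc_10_3 lc_c_rc_22_2 lc_c_rc_20_2 lc_c_rc_17_0 lc_c_rc_19_2 lc_c_rc_19_2 lc_c_rc_21_2 lc_c_rc_21_2 lc_c_rc_21_2 lc_c_rc_22_2 lc_c_rc_17_0 lc_c_rc_19_2 lc_c_rc_17_0 lc_c_rc_19_2 lc_c_rc_17_0 lc_c_rc_19_2 lc_c_rc_19_2 lc_c_rc_21_2 lc_c_rc_10_3 lc_c_rc_19_2 lc_c_rc_21_2) (@D3.rec (fun _ => (Cert rels S Gen.c)) lc_c_rc_10_3 lc_c_rc_18_2 lc_c_rc_21_2 lc_c_rc_22_2 lc_c_rc_19_2 lc_c_rc_21_2 lc_c_rc_18_2 lc_c_rc_21_2 lc_c_rc_22_2 lc_c_rc_10_3 lc_c_rc_22_2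 lc_c_rc_19_2 lc_c_rc_20_2 lc_c_rc_19_0 lc_c_rc_19_2 lc_c_rc_21_2 lc_c_rc_20_2 lc_c_rc_21_2 lc_c_rc_22_2 lc_c_rc_2_1 lc_c_rc_10_3 lc_c_rc_46_23 lc_c_rc_21_2 lc_c_rc_22_2 lc_c_rc_2_1 lc_c_Cert_tree lc_c_rc_10_3 lc_c_rc_18_2 lc_c_rc_22_2 lc_c_rc_18_2 lc_c_rc_19_2 lc_c_rc_22_2) (@D3.rec (fun _ => (Cert rels S Gen.c)) lc_c_rc_2_1 lc_c_rc_10_3 lc_c_rc_18_2 lc_c_rc_2_1 lc_c_Cert_tree lc_c_rc_20_2 lc_c_Cert_tree lc_c_rc_17_0 lc_c_rc_20_2 lc_c_rc_22_2 lc_c_rc_21_2 lc_c_rc_22_2 lc_c_rc_21_2 lc_c_rc_22_2 lc_c_rc_22_2 lc_c_rc_21_2 lc_c_rc_21_2 lc_c_rc_19_2 lc_c_rc_21_2 lc_c_rc_18_2 lc_c_rc_21_2 lc_c_rc_17_0 lc_c_rc_19_2 lc_c_rc_19_2 lc_c_rc_21_2 lc_c_rc_17_0 lc_c_rc_19_2 lc_c_rc_10_3 lc_c_rc_19_2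 lc_c_rc_21_2 lc_c_rc_18_2 lc_c_rc_21_2) (@D3.rec (fun _ => (Cert rels S Gen.c)) lc_c_rc_22_2 lc_c_rc_18_2 lc_c_rc_18_2 lc_c_rc_19_0 lc_c_rc_19_2 lc_c_rc_21_2 lc_c_rc_2_1 lc_c_rc_10_3 lc_c_rc_21_2 lc_c_rc_22_2 lc_c_rc_2_1 lc_c_rc_10_3 lc_c_rc_18_2 lc_c_rc_22_2 lc_c_rc_21_2 lc_c_rc_22_2 lc_c_rc_21_2 lc_c_rc_22_2 lc_c_rc_10_3 lc_c_rc_10_3 lc_c_rc_22_2 lc_c_rc_10_3 lc_c_rc_2_1 lc_c_rc_2_3 lc_c_rc_45_55 lc_c_rc_2_3 lc_c_rc_23_2 lc_c_rc_19_2 lc_c_rc_21_2 lc_c_rc_21_2 lc_c_rc_22_2 lc_c_rc_19_2) (@D3.rec (fun _ => (Cert rels S Gen.c)) lc_c_rc_21_2 lc_c_rc_21_2 lc_c_rc_22_2 lc_c_rc_18_2 lc_c_rc_20_2 lc_c_rc_22_2 lc_c_rc_21_2 lc_c_rc_23_2 lc_c_rc_22_2 lc_c_rc_22_2 lc_c_rc_17_0 lc_c_rc_19_2 lc_c_rc_19_2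 lc_c_rc_21_2 lc_c_rc_21_2 lc_c_rc_22_2 lc_c_rc_22_2 lc_c_rc_17_0 lc_c_rc_19_2 lc_c_rc_17_0 lc_c_rc_19_2 lc_c_rc_19_2 lc_c_rc_21_2 lc_c_rc_19_2 lc_c_rc_21_2 lc_c_rc_18_2 lc_c_rc_21_2 lc_c_rc_22_2 lc_c_rc_21_2 lc_c_rc_22_2 lc_c_rc_22_2 lc_c_rc_21_0) (@D3.rec (fun _ => (Cert rels S Gen.c)) lc_c_rc_20_2 lc_c_rc_23_2 lc_c_rc_10_5 lc_c_rc_2_1 lc_c_rc_23_2 lc_c_rc_21_2 lc_c_rc_22_2 lc_c_rc_18_2 lc_c_rc_21_2 lc_c_rc_22_2 lc_c_rc_18_2 lc_c_rc_22_2 lc_c_rc_2_1 lc_c_rc_22_2 lc_c_rc_21_2 lc_c_rc_22_2 lc_c_rc_21_2 lc_c_rc_22_2 lc_c_rc_19_2 lc_c_rc_21_2 lc_c_rc_19_2 lc_c_rc_21_2 lc_c_rc_18_2 lc_c_rc_21_2 lc_c_rc_22_2 lc_c_rc_21_2 lc_c_rc_22_2 lc_c_rc_22_2 lc_c_rc_45_55 lc_c_rc_21_2 lc_c_rc_22_2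 lc_c_rc_21_2) (@D3.rec (fun _ => (Cert rels S Gen.c)) lc_c_rc_2_1 lc_c_rc_10_3 lc_c_rc_21_2 lc_c_rc_22_2 lc_c_rc_20_2 lc_c_rc_18_2 lc_c_rc_21_2 lc_c_rc_20_2 lc_c_rc_17_0 lc_c_rc_19_2 lc_c_rc_10_3 lc_c_rc_19_2 lc_c_rc_21_2 lc_c_rc_2_3 lc_c_rc_2_1 lc_c_rc_10_3 lc_c_rc_21_2 lc_c_rc_22_2 lc_c_rc_19_2 lc_c_rc_17_0 lc_c_rc_19_2 lc_c_rc_20_2 lc_c_rc_19_2 lc_c_rc_21_2 lc_c_rc_10_3 lc_c_rc_19_2 lc_c_rc_21_2 lc_c_rc_2_1 lc_c_rc_10_3 lc_c_rc_21_2 lc_c_rc_22_2 lc_c_rc_19_2) (@D3.rec (fun _ => (Cert rels S Gen.c)) lc_c_rc_21_2 lc_c_rc_2_1 lc_c_rc_19_2 lc_c_rc_18_2 lc_c_rc_21_2 lc_c_rc_22_2 lc_c_rc_2_1 lc_c_rc_10_3 lc_c_rc_22_2 lc_c_rc_17_0 lc_c_rc_19_2 lc_c_rc_20_2 lc_c_rc_19_2 lc_c_rc_21_2 lc_c_rc_17_0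 lc_c_rc_21_2 lc_c_rc_22_2 lc_c_rc_17_0 lc_c_rc_19_2 lc_c_rc_10_3 lc_c_rc_19_2 lc_c_rc_21_2 lc_c_rc_19_2 lc_c_rc_21_2 lc_c_rc_18_2 lc_c_rc_21_2 lc_c_rc_22_2 lc_c_rc_21_2 lc_c_rc_22_2 lc_c_rc_22_2 lc_c_rc_19_2 lc_c_rc_21_2) (@D3.rec (fun _ => (Cert rels S Gen.c)) lc_c_rc_46_23 lc_c_rc_23_2 lc_c_rc_22_2 lc_c_rc_23_2 lc_c_rc_23_2 lc_c_rc_19_2 lc_c_rc_21_2 lc_c_rc_2_1 lc_c_rc_47_29 lc_c_rc_2_1 lc_c_rc_2_1 lc_c_rc_2_1 lc_c_rc_17_0 lc_c_rc_19_2 lc_c_rc_19_2 lc_c_rc_19_2 lc_c_rc_21_2 lc_c_rc_23_2 lc_c_rc_19_2 lc_c_rc_21_2 lc_c_rc_20_2 lc_c_rc_21_2 lc_c_rc_22_2 lc_c_rc_21_2 lc_c_rc_22_2 lc_c_rc_18_2 lc_c_rc_22_2 lc_c_rc_19_2 lc_c_rc_21_2 lc_c_rc_10_3 lc_c_rc_10_3 lc_c_rc_21_2) (@D3.rec (fun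 _ => (Cert rels S Gen.c)) lc_c_rc_22_2 lc_c_rc_18_2 lc_c_rc_21_2 lc_c_rc_22_2 lc_c_rc_18_2 lc_c_rc_10_3 lc_c_rc_18_2 lc_c_rc_22_2 lc_c_rc_23_0 lc_c_rc_22_2 lc_c_rc_10_3 lc_c_rc_21_2 lc_c_rc_22_2 lc_c_rc_22_2 lc_c_rc_2_3 lc_c_rc_22_2 lc_c_rc_22_2 lc_c_rc_10_3 lc_c_rc_18_2 lc_c_rc_10_3 lc_c_rc_2_1 lc_c_rc_10_3 lc_c_rc_19_2 lc_c_rc_21_2 lc_c_rc_18_2 lc_c_rc_21_2 lc_c_rc_22_2 lc_c_rc_10_3 lc_c_rc_19_2 lc_c_rc_21_2 lc_c_rc_10_3 lc_c_rc_19_2) (@D3.rec (fun _ => (Cert rels S Gen.c)) lc_c_rc_21_2 lc_c_rc_2_1 lc_c_rc_10_3 lc_c_rc_21_2 lc_c_rc_22_2 lc_c_rc_2_1 lc_c_rc_10_3 lc_c_rc_18_2 lc_c_rc_18_2 lc_c_rc_21_0 lc_c_rc_22_2 lc_c_rc_10_3 lc_c_rc_19_2 lc_c_rc_21_2 lc_c_rc_10_3 lc_c_rc_18_2 lc_c_rc_21_2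 lc_c_rc_22_2 lc_c_rc_10_3 lc_c_rc_22_2 lc_c_rc_10_3 lc_c_rc_19_2 lc_c_rc_21_2 lc_c_rc_10_3 lc_c_rc_18_2 lc_c_rc_21_2 lc_c_rc_22_2 lc_c_rc_10_3 lc_c_rc_18_2 lc_c_rc_20_2 lc_c_rc_22_2 lc_c_rc_21_2) (@D3.rec (fun _ => (Cert rels S Gen.c)) lc_c_rc_18_2 lc_c_rc_20_2 lc_c_rc_23_2 lc_c_rc_19_0 lc_c_rc_19_2 lc_c_rc_21_2 lc_c_rc_21_2 lc_c_rc_22_2 lc_c_rc_23_2 lc_c_rc_10_3 lc_c_rc_18_2 lc_c_rc_21_2 lc_c_rc_22_2 lc_c_rc_20_2 lc_c_rc_20_2 lc_c_rc_10_3 lc_c_rc_18_2 lc_c_rc_22_2 lc_c_rc_22_2 lc_c_rc_10_3 lc_c_rc_2_1 lc_c_rc_22_2 lc_c_rc_47_50 lc_c_rc_45_28 lc_c_rc_23_2 lc_c_rc_19_2 lc_c_rc_21_2 lc_c_rc_22_0 lc_c_rc_19_2 lc_c_rc_21_2 lc_c_rc_46_30 lc_c_rc_20_2) (@D3.rec (fun _ => (Cert rels S Gen.c))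 lc_c_rc_18_2 lc_c_rc_21_2 lc_c_rc_22_2 lc_c_rc_19_2 lc_c_rc_21_2 lc_c_rc_23_0 lc_c_rc_20_0 lc_c_rc_18_2 lc_c_rc_21_2 lc_c_rc_22_2 lc_c_rc_46_23 lc_c_rc_10_3 lc_c_rc_22_2 lc_c_rc_19_2 lc_c_rc_21_2 lc_c_rc_19_2 lc_c_rc_21_2 lc_c_rc_18_2 lc_c_rc_21_2 lc_c_rc_22_2 lc_c_rc_18_2 lc_c_rc_21_2 lc_c_rc_22_2 lc_c_rc_18_2 lc_c_rc_22_2 lc_c_rc_22_2 lc_c_rc_21_2 lc_c_rc_22_2 lc_c_rc_21_2 lc_c_rc_22_2 lc_c_rc_10_3 lc_c_rc_18_2) (@D3.rec (fun _ => (Cert rels S Gen.c)) lc_c_rc_21_2 lc_c_rc_22_2 lc_c_rc_10_3 lc_c_rc_17_0 lc_c_rc_22_2 lc_c_rc_19_2 lc_c_rc_19_2 lc_c_rc_10_3 lc_c_rc_47_29 lc_c_rc_20_2 lc_c_rc_22_2 lc_c_rc_2_1 lc_c_rc_20_2 lc_c_rc_19_2 lc_c_rc_10_3 lc_c_rc_18_2 lc_c_rc_22_2 lc_c_rc_10_3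 lc_c_rc_18_2 lc_c_rc_20_2 lc_c_rc_22_2 lc_c_rc_17_0 lc_c_rc_20_2 lc_c_rc_19_2 lc_c_rc_21_2 lc_c_rc_10_3 lc_c_rc_19_2 lc_c_rc_21_2 lc_c_rc_18_2 lc_c_rc_21_2 lc_c_rc_22_2 lc_c_rc_21_0) (@D3.rec (fun _ => (Cert rels S Gen.c)) lc_c_rc_19_2 lc_c_rc_21_2 lc_c_rc_10_3 lc_c_rc_19_2 lc_c_rc_21_2 lc_c_rc_46_44 lc_c_rc_10_3 lc_c_rc_21_2 lc_c_rc_22_2 lc_c_rc_18_2 lc_c_rc_22_2 lc_c_rc_21_2 lc_c_rc_22_2 lc_c_rc_19_2 lc_c_rc_21_2 lc_c_rc_21_2 lc_c_rc_22_2 lc_c_rc_21_2 lc_c_rc_22_2 lc_c_rc_17_0 lc_c_rc_10_5 lc_c_rc_18_2 lc_c_rc_45_46 lc_c_rc_22_2 lc_c_rc_19_2 lc_c_rc_21_2 lc_c_rc_19_2 lc_c_rc_21_2 lc_c_rc_45_46 lc_c_rc_18_2 lc_c_rc_21_2 lc_c_rc_22_2) (@D3.rec (fun _ => (Cert rels S Gen.c)) lc_c_rc_21_2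 lc_c_rc_22_2 lc_c_rc_23_2 lc_c_rc_22_2 lc_c_rc_18_2 lc_c_rc_21_2 lc_c_rc_22_2 lc_c_rc_20_2 lc_c_rc_22_2 lc_c_rc_22_2 lc_c_rc_46_23 lc_c_rc_10_1 lc_c_rc_22_2 lc_c_rc_17_0 lc_c_rc_47_22 lc_c_rc_17_0 lc_c_rc_18_2 lc_c_rc_20_2 lc_c_rc_10_3 lc_c_rc_18_2 lc_c_rc_22_2 lc_c_rc_21_2 lc_c_rc_22_2 lc_c_rc_2_1 lc_c_rc_21_2 lc_c_rc_22_2 lc_c_rc_10_3 lc_c_rc_22_2 lc_c_rc_2_1 lc_c_rc_22_2 lc_c_rc_22_2 lc_c_rc_22_2) (@D3.rec (fun _ => (Cert rels S Gen.c)) lc_c_rc_17_0 lc_c_rc_22_2 lc_c_rc_45_55 lc_c_rc_17_0 lc_c_rc_19_2 lc_c_rc_21_2 lc_c_rc_10_3 lc_c_rc_18_2 lc_c_rc_21_2 lc_c_rc_22_2 lc_c_rc_17_0 lc_c_rc_18_2 lc_c_rc_21_2 lc_c_rc_22_2 lc_c_rc_19_2 lc_c_rc_17_0 lc_c_rc_22_2 lc_c_rc_19_0 lc_c_rc_20_2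 lc_c_rc_18_2 lc_c_rc_21_2 lc_c_rc_22_2 lc_c_rc_18_2 lc_c_rc_22_2 lc_c_rc_2_1 lc_c_rc_19_2 lc_c_rc_21_2 lc_c_rc_21_2 lc_c_rc_22_2 lc_c_rc_2_1 lc_c_rc_22_2 lc_c_rc_19_2) (@D3.rec (fun _ => (Cert rels S Gen.c)) lc_c_rc_21_2 lc_c_rc_20_2 lc_c_rc_2_1 lc_c_rc_19_2 lc_c_rc_21_2 lc_c_rc_2_1 lc_c_rc_18_2 lc_c_rc_21_2 lc_c_rc_22_2 lc_c_rc_19_0 lc_c_rc_23_2 lc_c_rc_18_2 lc_c_rc_21_2 lc_c_rc_22_2 lc_c_rc_21_0 lc_c_rc_20_2 lc_c_rc_20_2 lc_c_rc_18_2 lc_c_rc_22_2 lc_c_rc_18_2 lc_c_rc_2_1 lc_c_rc_22_2 lc_c_rc_19_2 lc_c_rc_19_0 lc_c_rc_18_2 lc_c_rc_21_2 lc_c_rc_22_2 lc_c_rc_22_2 lc_c_rc_10_3 lc_c_rc_18_2 lc_c_rc_21_2 lc_c_rc_22_2) (@D3.rec (fun _ => (Cert rels S Gen.c)) lc_c_rc_10_3 lc_c_rc_22_2 lc_c_rc_20_2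 lc_c_rc_10_3 lc_c_rc_18_2 lc_c_rc_21_2 lc_c_rc_22_2 lc_c_rc_21_0 lc_c_rc_10_3 lc_c_rc_22_2 lc_c_rc_18_4 lc_c_rc_10_3 lc_c_rc_18_2 lc_c_rc_22_2 lc_c_rc_10_3 lc_c_rc_17_1 lc_c_rc_19_2 lc_c_rc_21_2 lc_c_rc_18_2 lc_c_rc_21_2 lc_c_rc_22_2 lc_c_rc_23_2 lc_c_rc_22_2 lc_c_rc_19_2 lc_c_rc_21_2 lc_c_rc_19_2 lc_c_rc_21_2 lc_c_rc_19_2 lc_c_rc_21_2 lc_c_rc_18_2 lc_c_rc_21_2 lc_c_rc_22_2)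
def ce_c_18 : D2 → D3 → (Cert rels S Gen.c) := @D2.rec (fun _ => D3 → (Cert rels S Gen.c)) (@D3.rec (fun _ => (Cert rels S Gen.c)) lc_c_rc_10_3 lc_c_rc_18_2 lc_c_rc_21_2 lc_c_rc_22_2 lc_c_Cert_tree lc_c_rc_10_3 lc_c_rc_18_2 lc_c_rc_22_2 lc_c_rc_21_2 lc_c_rc_22_2 lc_c_rc_18_2 lc_c_rc_20_2 lc_c_rc_22_2 lc_c_rc_10_3 lc_c_rc_19_2 lc_c_rc_20_2 lc_c_rc_10_3 lc_c_rc_21_2 lc_c_rc_22_2 lc_c_rc_19_2 lc_c_rc_22_2 lc_c_rc_2_1 lc_c_Cert_tree lc_c_rc_10_3 lc_c_rc_18_2 lc_c_rc_20_2 lc_c_rc_22_2 lc_c_Cert_tree lc_c_rc_2_1 lc_c_rc_17_0 lc_c_rc_21_2 lc_c_rc_10_3) (@D3.rec (fun _ => (Cert rels S Gen.c)) lc_c_rc_18_2 lc_c_rc_19_2 lc_c_rc_2_1 lc_c_Cert_tree lc_c_rc_17_0 lc_c_rc_20_2 lc_c_rc_17_0 lc_c_rc_23_2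 lc_c_rc_22_2 lc_c_rc_22_2 lc_c_rc_22_2 lc_c_rc_18_2 lc_c_rc_21_2 lc_c_rc_22_2 lc_c_rc_18_2 lc_c_rc_19_2 lc_c_rc_21_2 lc_c_rc_18_2 lc_c_rc_21_2 lc_c_rc_22_2 lc_c_rc_19_2 lc_c_rc_21_2 lc_c_rc_2_1 lc_c_rc_10_3 lc_c_rc_18_2 lc_c_rc_21_2 lc_c_rc_22_2 lc_c_rc_18_2 lc_c_rc_22_2 lc_c_rc_18_2 lc_c_rc_18_2 lc_c_rc_23_2) (@D3.rec (fun _ => (Cert rels S Gen.c)) lc_c_rc_10_3 lc_c_rc_18_2 lc_c_rc_21_2 lc_c_rc_22_2 lc_c_rc_2_1 lc_c_rc_10_3 lc_c_rc_22_2 lc_c_rc_46_44 lc_c_rc_22_2 lc_c_rc_22_2 lc_c_rc_17_0 lc_c_rc_10_3 lc_c_rc_23_2 lc_c_rc_22_2 lc_c_rc_17_0 lc_c_rc_18_2 lc_c_rc_21_2 lc_c_rc_22_2 lc_c_rc_22_2 lc_c_rc_18_2 lc_c_rc_21_2 lc_c_rc_22_2 lc_c_rc_22_2 lc_c_rc_18_2 lc_c_rc_20_2 lc_c_rc_23_2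 lc_c_rc_2_1 lc_c_rc_17_0 lc_c_rc_19_2 lc_c_rc_21_2 lc_c_rc_18_2 lc_c_rc_21_2) (@D3.rec (fun _ => (Cert rels S Gen.c)) lc_c_rc_22_2 lc_c_rc_22_2 lc_c_rc_19_2 lc_c_rc_21_2 lc_c_rc_19_2 lc_c_rc_21_2 lc_c_rc_18_2 lc_c_rc_21_2 lc_c_rc_22_2 lc_c_rc_18_2 lc_c_rc_21_2 lc_c_rc_22_2 lc_c_rc_18_2 lc_c_rc_22_2 lc_c_rc_22_2 lc_c_rc_20_2 lc_c_rc_23_2 lc_c_rc_10_5 lc_c_rc_2_1 lc_c_rc_17_1 lc_c_rc_22_2 lc_c_rc_18_2 lc_c_rc_22_2 lc_c_rc_18_2 lc_c_rc_22_2 lc_c_rc_18_2 lc_c_rc_21_2 lc_c_rc_22_2 lc_c_rc_18_2 lc_c_rc_21_2 lc_c_rc_22_2 lc_c_rc_18_2) (@D3.rec (fun _ => (Cert rels S Gen.c)) lc_c_rc_22_2 lc_c_rc_22_2 lc_c_rc_10_5 lc_c_rc_22_2 lc_c_rc_46_44 lc_c_rc_10_3 lc_c_rc_22_2 lc_c_rc_20_2 lc_c_rc_18_2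 lc_c_rc_20_2 lc_c_rc_10_3 lc_c_rc_19_2 lc_c_rc_21_2 lc_c_rc_2_1 lc_c_rc_10_3 lc_c_rc_18_2 lc_c_rc_21_2 lc_c_rc_22_2 lc_c_rc_21_0 lc_c_rc_2_1 lc_c_rc_10_3 lc_c_rc_22_2 lc_c_rc_21_2 lc_c_rc_22_2 lc_c_rc_19_2 lc_c_rc_21_2 lc_c_rc_20_2 lc_c_rc_2_1 lc_c_rc_21_2 lc_c_rc_22_2 lc_c_rc_2_1 lc_c_rc_10_3) (@D3.rec (fun _ => (Cert rels S Gen.c)) lc_c_rc_21_2 lc_c_rc_22_2 lc_c_rc_2_1 lc_c_rc_10_3 lc_c_rc_22_2 lc_c_rc_21_2 lc_c_rc_22_2 lc_c_rc_10_3 lc_c_rc_18_2 lc_c_rc_22_2 lc_c_rc_2_1 lc_c_rc_10_3 lc_c_rc_23_2 lc_c_rc_19_2 lc_c_rc_21_2 lc_c_rc_20_2 lc_c_rc_20_2 lc_c_rc_21_2 lc_c_rc_22_2 lc_c_rc_47_22 lc_c_rc_22_2 lc_c_rc_19_2 lc_c_rc_21_2 lc_c_rc_10_3 lc_c_rc_18_2 lc_c_rc_21_2 lc_c_rc_22_2 lc_c_rc_18_2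 lc_c_rc_21_2 lc_c_rc_22_2 lc_c_rc_18_2 lc_c_rc_22_2) (@D3.rec (fun _ => (Cert rels S Gen.c)) lc_c_rc_22_2 lc_c_rc_21_2 lc_c_rc_22_2 lc_c_rc_17_1 lc_c_rc_2_3 lc_c_rc_21_2 lc_c_rc_22_2 lc_c_rc_19_2 lc_c_rc_23_2 lc_c_rc_19_2 lc_c_rc_21_2 lc_c_rc_21_2 lc_c_rc_21_2 lc_c_rc_22_2 lc_c_rc_23_2 lc_c_rc_21_2 lc_c_rc_22_2 lc_c_rc_20_2 lc_c_rc_22_2 lc_c_rc_22_2 lc_c_rc_18_2 lc_c_rc_21_2 lc_c_rc_22_2 lc_c_rc_22_2 lc_c_rc_17_1 lc_c_rc_22_2 lc_c_rc_18_2 lc_c_rc_22_2 lc_c_rc_18_2 lc_c_rc_10_3 lc_c_rc_18_2 lc_c_rc_22_2) (@D3.rec (fun _ => (Cert rels S Gen.c)) lc_c_rc_2_1 lc_c_rc_10_3 lc_c_rc_18_2 lc_c_rc_21_2 lc_c_rc_22_2 lc_c_rc_18_2 lc_c_rc_20_2 lc_c_rc_22_2 lc_c_rc_2_1 lc_c_rc_10_3 lc_c_rc_18_2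 lc_c_rc_21_2 lc_c_rc_22_2 lc_c_rc_2_1 lc_c_rc_10_3 lc_c_rc_18_2 lc_c_rc_21_2 lc_c_rc_22_2 lc_c_rc_2_1 lc_c_rc_10_3 lc_c_rc_22_2 lc_c_rc_46_30 lc_c_rc_18_2 lc_c_rc_20_2 lc_c_rc_2_1 lc_c_rc_10_3 lc_c_rc_18_2 lc_c_rc_21_2 lc_c_rc_22_2 lc_c_Cert_tree lc_c_rc_10_3 lc_c_rc_18_2) (@D3.rec (fun _ => (Cert rels S Gen.c)) lc_c_rc_22_2 lc_c_rc_10_3 lc_c_rc_10_3 lc_c_rc_18_2 lc_c_rc_21_2 lc_c_rc_22_2 lc_c_rc_23_0 lc_c_rc_10_3 lc_c_rc_18_2 lc_c_rc_20_2 lc_c_rc_22_2 lc_c_rc_10_3 lc_c_rc_18_2 lc_c_rc_20_2 lc_c_rc_23_2 lc_c_rc_2_1 lc_c_rc_45_37 lc_c_rc_20_2 lc_c_rc_23_2 lc_c_rc_19_0 lc_c_rc_21_2 lc_c_rc_22_2 lc_c_rc_22_2 lc_c_rc_23_2 lc_c_rc_21_0 lc_c_rc_10_3 lc_c_rc_18_2 lc_c_rc_22_2 lc_c_rc_45_46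 lc_c_rc_20_2 lc_c_rc_10_3 lc_c_rc_18_2) (@D3.rec (fun _ => (Cert rels S Gen.c)) lc_c_rc_46_23 lc_c_rc_18_2 lc_c_rc_21_2 lc_c_rc_22_2 lc_c_rc_45_19 lc_c_rc_21_0 lc_c_rc_18_2 lc_c_rc_21_2 lc_c_rc_22_2 lc_c_rc_47_22 lc_c_rc_21_0 lc_c_rc_20_2 lc_c_rc_18_2 lc_c_rc_22_2 lc_c_rc_21_2 lc_c_rc_22_2 lc_c_rc_2_1 lc_c_rc_23_0 lc_c_rc_18_2 lc_c_rc_22_2 lc_c_rc_2_1 lc_c_rc_10_3 lc_c_rc_18_2 lc_c_rc_21_2 lc_c_rc_22_2 lc_c_rc_18_2 lc_c_rc_21_2 lc_c_rc_22_2 lc_c_rc_18_2 lc_c_rc_22_2 lc_c_rc_18_2 lc_c_rc_20_2) (@D3.rec (fun _ => (Cert rels S Gen.c)) lc_c_rc_22_2 lc_c_rc_19_2 lc_c_rc_18_2 lc_c_rc_22_2 lc_c_rc_22_2 lc_c_rc_10_3 lc_c_rc_18_2 lc_c_rc_22_2 lc_c_rc_10_3 lc_c_rc_22_2 lc_c_rc_45_37 lc_c_rc_21_2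 lc_c_rc_10_3 lc_c_rc_20_2 lc_c_rc_17_1 lc_c_rc_21_0 lc_c_rc_20_2 lc_c_rc_46_44 lc_c_rc_20_2 lc_c_rc_23_0 lc_c_rc_20_2 lc_c_rc_46_23 lc_c_rc_18_2 lc_c_rc_21_2 lc_c_rc_22_2 lc_c_rc_10_3 lc_c_rc_18_2 lc_c_rc_21_2 lc_c_rc_22_2 lc_c_rc_18_2 lc_c_rc_18_2 lc_c_rc_22_2) (@D3.rec (fun _ => (Cert rels S Gen.c)) lc_c_rc_23_2 lc_c_rc_18_2 lc_c_rc_21_2 lc_c_rc_22_2 lc_c_rc_10_3 lc_c_rc_18_2 lc_c_rc_21_2 lc_c_rc_22_2 lc_c_rc_46_23 lc_c_rc_10_3 lc_c_rc_22_2 lc_c_rc_23_0 lc_c_rc_22_2 lc_c_rc_18_2 lc_c_rc_21_2 lc_c_rc_22_2 lc_c_rc_22_2 lc_c_rc_22_2 lc_c_rc_10_5 lc_c_rc_18_2 lc_c_rc_20_2 lc_c_rc_18_2 lc_c_rc_21_2 lc_c_rc_22_2 lc_c_rc_18_2 lc_c_rc_21_2 lc_c_rc_22_2 lc_c_rc_18_2 lc_c_rc_21_2 lc_c_rc_18_2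 lc_c_rc_22_2 lc_c_rc_22_2) (@D3.rec (fun _ => (Cert rels S Gen.c)) lc_c_rc_22_2 lc_c_rc_22_2 lc_c_rc_2_1 lc_c_rc_19_2 lc_c_rc_20_2 lc_c_rc_10_3 lc_c_rc_22_2 lc_c_rc_22_2 lc_c_rc_10_1 lc_c_rc_10_3 lc_c_rc_2_1 lc_c_rc_23_0 lc_c_rc_23_2 lc_c_rc_18_2 lc_c_rc_21_2 lc_c_rc_22_2 lc_c_rc_18_2 lc_c_rc_10_3 lc_c_rc_18_2 lc_c_rc_22_2 lc_c_rc_10_3 lc_c_rc_18_2 lc_c_rc_10_3 lc_c_rc_22_2 lc_c_rc_21_2 lc_c_rc_10_3 lc_c_rc_2_1 lc_c_rc_20_2 lc_c_rc_18_2 lc_c_rc_22_2 lc_c_rc_19_0 lc_c_rc_10_5) (@D3.rec (fun _ => (Cert rels S Gen.c)) lc_c_rc_21_2 lc_c_rc_22_2 lc_c_rc_22_2 lc_c_rc_18_2 lc_c_rc_21_2 lc_c_rc_22_2 lc_c_rc_20_2 lc_c_rc_2_1 lc_c_rc_18_2 lc_c_rc_21_2 lc_c_rc_22_2 lc_c_Cert_tree lc_c_rc_2_1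 lc_c_rc_18_2 lc_c_rc_22_2 lc_c_rc_10_3 lc_c_rc_23_2 lc_c_rc_23_2 lc_c_rc_18_2 lc_c_rc_20_2 lc_c_rc_22_2 lc_c_rc_45_55 lc_c_rc_19_2 lc_c_rc_21_2 lc_c_rc_21_0 lc_c_rc_19_2 lc_c_rc_18_2 lc_c_rc_2_1 lc_c_rc_19_2 lc_c_rc_18_2 lc_c_rc_22_2 lc_c_rc_18_2) (@D3.rec (fun _ => (Cert rels S Gen.c)) lc_c_rc_10_3 lc_c_rc_18_2 lc_c_rc_22_2 lc_c_rc_10_3 lc_c_rc_22_2 lc_c_rc_10_3 lc_c_rc_18_2 lc_c_rc_22_2 lc_c_rc_20_2 lc_c_rc_10_3 lc_c_rc_10_3 lc_c_rc_18_2 lc_c_rc_22_2 lc_c_rc_18_2 lc_c_rc_21_2 lc_c_rc_22_2 lc_c_rc_18_2 lc_c_rc_22_2 lc_c_rc_18_2 lc_c_rc_21_2 lc_c_rc_22_2 lc_c_rc_18_2 lc_c_rc_21_2 lc_c_rc_22_2 lc_c_rc_18_2 lc_c_rc_21_2 lc_c_rc_22_2 lc_c_rc_18_2 lc_c_rc_20_2 lc_c_rc_22_2 lc_c_Cert_tree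 lc_c_rc_10_3) (@D3.rec (fun _ => (Cert rels S Gen.c)) lc_c_rc_18_2 lc_c_rc_22_2 lc_c_rc_17_0 lc_c_rc_21_2 lc_c_rc_10_3 lc_c_rc_19_2 lc_c_rc_18_2 lc_c_rc_22_2 lc_c_rc_18_2 lc_c_rc_20_2 lc_c_rc_23_2 lc_c_rc_19_2 lc_c_rc_22_2 lc_c_rc_19_2 lc_c_Cert_tree lc_c_rc_2_1 lc_c_rc_17_0 lc_c_rc_21_2 lc_c_rc_22_2 lc_c_rc_10_3 lc_c_rc_18_2 lc_c_rc_20_2 lc_c_rc_17_0 lc_c_rc_21_2 lc_c_rc_2_1 lc_c_rc_21_2 lc_c_rc_22_2 lc_c_rc_17_0 lc_c_rc_2_1 lc_c_rc_18_2 lc_c_rc_22_2 lc_c_rc_18_2) (@D3.rec (fun _ => (Cert rels S Gen.c)) lc_c_rc_21_2 lc_c_rc_22_2 lc_c_rc_18_2 lc_c_rc_22_2 lc_c_rc_18_2 lc_c_rc_21_2 lc_c_rc_22_2 lc_c_rc_2_1 lc_c_rc_18_2 lc_c_rc_10_3 lc_c_rc_18_2 lc_c_rc_22_2 lc_c_rc_19_2 lc_c_rc_18_2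 lc_c_rc_18_2 lc_c_rc_23_2 lc_c_rc_45_55 lc_c_rc_20_2 lc_c_rc_18_2 lc_c_rc_22_2 lc_c_rc_2_1 lc_c_rc_10_3 lc_c_rc_10_3 lc_c_rc_2_1 lc_c_rc_18_2 lc_c_rc_22_2 lc_c_rc_18_2 lc_c_rc_22_2 lc_c_rc_20_2 lc_c_rc_23_2 lc_c_rc_18_2 lc_c_rc_21_2) (@D3.rec (fun _ => (Cert rels S Gen.c)) lc_c_rc_22_2 lc_c_rc_18_2 lc_c_rc_22_2 lc_c_rc_18_2 lc_c_rc_21_2 lc_c_rc_22_2 lc_c_rc_18_2 lc_c_rc_21_2 lc_c_rc_22_2 lc_c_rc_18_2 lc_c_rc_22_2 lc_c_rc_18_2 lc_c_rc_20_2 lc_c_rc_22_2 lc_c_rc_19_2 lc_c_rc_18_2 lc_c_rc_23_2 lc_c_rc_18_2 lc_c_rc_18_2 lc_c_rc_22_2 lc_c_rc_18_2 lc_c_rc_22_2 lc_c_rc_19_2 lc_c_rc_18_2 lc_c_rc_2_1 lc_c_rc_10_3 lc_c_rc_20_2 lc_c_rc_21_2 lc_c_rc_2_1 lc_c_rc_10_3 lc_c_rc_18_2 lc_c_rc_21_2) (@D3.rec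 (fun _ => (Cert rels S Gen.c)) lc_c_rc_22_2 lc_c_rc_2_1 lc_c_rc_20_2 lc_c_rc_10_3 lc_c_rc_18_2 lc_c_rc_22_2 lc_c_rc_2_1 lc_c_rc_10_3 lc_c_rc_22_2 lc_c_rc_20_2 lc_c_rc_21_2 lc_c_rc_22_2 lc_c_rc_20_2 lc_c_rc_2_1 lc_c_rc_22_2 lc_c_rc_2_1 lc_c_rc_10_3 lc_c_rc_22_2 lc_c_rc_2_1 lc_c_rc_10_3 lc_c_rc_22_2 lc_c_rc_22_2 lc_c_rc_18_2 lc_c_rc_2_1 lc_c_rc_23_2 lc_c_rc_20_2 lc_c_rc_21_2 lc_c_rc_22_2 lc_c_rc_46_30 lc_c_rc_21_2 lc_c_rc_20_2 lc_c_rc_22_2) (@D3.rec (fun _ => (Cert rels S Gen.c)) lc_c_rc_22_2 lc_c_rc_18_2 lc_c_rc_21_2 lc_c_rc_22_2 lc_c_rc_10_3 lc_c_rc_18_2 lc_c_rc_22_2 lc_c_rc_18_2 lc_c_rc_22_2 lc_c_rc_19_2 lc_c_rc_18_2 lc_c_rc_22_2 lc_c_rc_22_2 lc_c_rc_21_2 lc_c_rc_22_2 lc_c_rc_22_2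 lc_c_rc_22_2 lc_c_rc_23_2 lc_c_rc_22_2 lc_c_rc_20_2 lc_c_rc_22_2 lc_c_rc_18_2 lc_c_rc_18_2 lc_c_rc_2_1 lc_c_rc_10_3 lc_c_rc_10_3 lc_c_rc_18_2 lc_c_rc_20_2 lc_c_rc_22_2 lc_c_rc_19_2 lc_c_rc_18_2 lc_c_rc_20_2) (@D3.rec (fun _ => (Cert rels S Gen.c)) lc_c_rc_45_37 lc_c_rc_2_1 lc_c_Cert_tree lc_c_rc_10_3 lc_c_rc_18_2 lc_c_rc_22_2 lc_c_rc_2_1 lc_c_rc_47_29 lc_c_rc_10_3 lc_c_rc_18_2 lc_c_rc_22_2 lc_c_rc_2_1 lc_c_rc_10_3 lc_c_rc_21_2 lc_c_rc_45_55 lc_c_Cert_tree lc_c_rc_10_3 lc_c_rc_18_2 lc_c_rc_22_2 lc_c_rc_17_0 lc_c_rc_21_2 lc_c_rc_10_3 lc_c_rc_19_2 lc_c_rc_18_2 lc_c_rc_21_0 lc_c_rc_10_3 lc_c_rc_18_2 lc_c_rc_20_2 lc_c_rc_22_2 lc_c_rc_20_0 lc_c_rc_10_3 lc_c_rc_19_2) (@D3.rec (fun _ => (Cert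 rels S Gen.c)) lc_c_rc_18_2 lc_c_rc_21_2 lc_c_rc_23_2 lc_c_rc_20_2 lc_c_rc_23_2 lc_c_rc_22_2 lc_c_rc_46_9 lc_c_rc_23_2 lc_c_rc_23_2 lc_c_rc_22_2 lc_c_rc_47_29 lc_c_rc_10_3 lc_c_rc_10_3 lc_c_rc_18_2 lc_c_rc_20_2 lc_c_rc_18_2 lc_c_rc_22_2 lc_c_rc_45_28 lc_c_rc_21_0 lc_c_rc_10_3 lc_c_rc_18_2 lc_c_rc_22_2 lc_c_rc_2_1 lc_c_rc_45_28 lc_c_rc_23_0 lc_c_rc_20_2 lc_c_rc_19_2 lc_c_rc_18_2 lc_c_rc_22_2 lc_c_rc_2_1 lc_c_rc_22_2 lc_c_rc_18_2)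
def ce_c_19 : D2 → D3 → (Cert rels S Gen.c) := @D2.rec (fun _ => D3 → (Cert rels S Gen.c)) (@D3.rec (fun _ => (Cert rels S Gen.c)) lc_c_rc_2_1 lc_c_rc_18_2 lc_c_rc_22_2 lc_c_rc_18_2 lc_c_rc_22_2 lc_c_rc_19_2 lc_c_rc_18_2 lc_c_rc_19_2 lc_c_rc_18_2 lc_c_rc_20_2 lc_c_rc_19_2 lc_c_rc_10_3 lc_c_rc_22_2 lc_c_rc_2_1 lc_c_rc_46_23 lc_c_rc_22_2 lc_c_rc_22_2 lc_c_rc_20_2 lc_c_rc_21_0 lc_c_rc_2_1 lc_c_rc_18_2 lc_c_rc_22_2 lc_c_rc_10_3 lc_c_rc_10_3 lc_c_rc_18_2 lc_c_rc_22_2 lc_c_rc_19_2 lc_c_rc_18_2 lc_c_rc_21_2 lc_c_rc_45_28 lc_c_rc_23_2 lc_c_rc_18_2) (@D3.rec (fun _ => (Cert rels S Gen.c)) lc_c_rc_22_2 lc_c_rc_10_3 lc_c_rc_18_2 lc_c_rc_20_2 lc_c_rc_22_2 lc_c_rc_46_23 lc_c_rc_10_3 lc_c_rc_18_2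 lc_c_rc_22_2 lc_c_rc_20_2 lc_c_rc_18_2 lc_c_rc_22_2 lc_c_rc_18_2 lc_c_rc_22_2 lc_c_rc_18_2 lc_c_rc_17_0 lc_c_rc_19_2 lc_c_rc_18_2 lc_c_rc_2_1 lc_c_rc_18_2 lc_c_rc_20_2 lc_c_rc_22_2 lc_c_rc_18_2 lc_c_rc_10_3 lc_c_rc_19_2 lc_c_rc_18_2 lc_c_rc_18_2 lc_c_rc_20_2 lc_c_rc_22_2 lc_c_rc_2_1 lc_c_rc_20_2 lc_c_rc_18_4) (@D3.rec (fun _ => (Cert rels S Gen.c)) lc_c_rc_18_2 lc_c_rc_22_2 lc_c_rc_18_2 lc_c_rc_22_2 lc_c_rc_2_3 lc_c_rc_2_1 lc_c_rc_21_2 lc_c_rc_22_2 lc_c_rc_17_0 lc_c_rc_21_2 lc_c_rc_2_1 lc_c_rc_19_2 lc_c_rc_18_2 lc_c_rc_46_30 lc_c_rc_19_2 lc_c_rc_23_2 lc_c_rc_45_64 lc_c_rc_23_2 lc_c_rc_19_2 lc_c_rc_18_2 lc_c_rc_20_2 lc_c_rc_46_30 lc_c_rc_19_2 lc_c_rc_18_0 lc_c_rc_22_2 lc_c_rc_19_2 lc_c_rc_19_2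 lc_c_rc_18_2 lc_c_rc_18_2 lc_c_rc_10_3 lc_c_rc_19_2 lc_c_rc_18_2) (@D3.rec (fun _ => (Cert rels S Gen.c)) lc_c_rc_10_3 lc_c_rc_18_2 lc_c_rc_21_2 lc_c_rc_18_2 lc_c_rc_22_2 lc_c_rc_19_2 lc_c_rc_18_2 lc_c_rc_18_2 lc_c_rc_22_2 lc_c_rc_18_2 lc_c_rc_22_2 lc_c_rc_18_2 lc_c_rc_22_2 lc_c_rc_19_2 lc_c_rc_18_2 lc_c_rc_21_2 lc_c_rc_23_2 lc_c_rc_17_0 lc_c_rc_21_2 lc_c_rc_10_3 lc_c_rc_19_2 lc_c_rc_18_2 lc_c_rc_21_2 lc_c_rc_19_2 lc_c_rc_22_2 lc_c_rc_19_2 lc_c_rc_20_2 lc_c_rc_23_2 lc_c_rc_19_2 lc_c_rc_17_0 lc_c_rc_21_2 lc_c_rc_2_1) (@D3.rec (fun _ => (Cert rels S Gen.c)) lc_c_rc_2_1 lc_c_rc_21_2 lc_c_rc_22_2 lc_c_rc_21_2 lc_c_rc_20_2 lc_c_rc_21_2 lc_c_rc_22_2 lc_c_rc_22_2 lc_c_rc_18_2 lc_c_rc_18_2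 lc_c_rc_18_2 lc_c_rc_22_2 lc_c_rc_19_2 lc_c_rc_18_2 lc_c_rc_18_2 lc_c_rc_22_2 lc_c_rc_2_1 lc_c_rc_18_2 lc_c_rc_10_3 lc_c_rc_19_2 lc_c_rc_18_2 lc_c_rc_19_2 lc_c_rc_21_2 lc_c_rc_45_37 lc_c_rc_20_2 lc_c_rc_18_2 lc_c_rc_2_1 lc_c_rc_19_2 lc_c_rc_18_2 lc_c_rc_19_2 lc_c_rc_18_2 lc_c_rc_23_2) (@D3.rec (fun _ => (Cert rels S Gen.c)) lc_c_rc_18_2 lc_c_rc_20_2 lc_c_rc_22_2 lc_c_rc_19_2 lc_c_rc_18_2 lc_c_rc_18_2 lc_c_rc_22_2 lc_c_rc_18_2 lc_c_rc_22_2 lc_c_rc_19_2 lc_c_rc_18_2 lc_c_rc_19_2 lc_c_rc_18_2 lc_c_rc_20_2 lc_c_rc_19_2 lc_c_rc_19_2 lc_c_rc_18_2 lc_c_rc_19_2 lc_c_rc_18_2 lc_c_rc_19_2 lc_c_rc_2_1 lc_c_rc_2_1 lc_c_rc_23_2 lc_c_rc_10_3 lc_c_rc_18_2 lc_c_rc_22_2 lc_c_rc_2_1 lc_c_rc_21_2 lc_c_rc_10_3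 lc_c_rc_19_2 lc_c_rc_18_2 lc_c_rc_2_1) (@D3.rec (fun _ => (Cert rels S Gen.c)) lc_c_rc_22_0 lc_c_rc_22_2 lc_c_rc_22_2 lc_c_rc_18_2 lc_c_rc_2_1 lc_c_rc_10_3 lc_c_rc_2_1 lc_c_rc_21_0 lc_c_rc_47_22 lc_c_rc_20_2 lc_c_rc_22_2 lc_c_rc_45_28 lc_c_rc_2_1 lc_c_rc_10_5 lc_c_rc_20_2 lc_c_rc_18_2 lc_c_rc_22_2 lc_c_rc_19_2 lc_c_rc_18_2 lc_c_rc_19_2 lc_c_rc_18_2 lc_c_rc_19_2 lc_c_rc_22_2 lc_c_rc_23_2 lc_c_rc_2_1 lc_c_rc_2_1 lc_c_rc_10_3 lc_c_rc_45_73 lc_c_rc_10_3 lc_c_rc_19_2 lc_c_rc_18_2 lc_c_rc_20_2) (@D3.rec (fun _ => (Cert rels S Gen.c)) lc_c_rc_19_2 lc_c_rc_20_2 lc_c_rc_20_2 lc_c_rc_47_29 lc_c_rc_46_44 lc_c_rc_2_1 lc_c_rc_17_0 lc_c_rc_21_2 lc_c_rc_10_3 lc_c_rc_19_2 lc_c_rc_18_2 lc_c_rc_2_1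 lc_c_rc_45_64 lc_c_rc_10_3 lc_c_rc_18_2 lc_c_rc_2_1 lc_c_rc_47_8 lc_c_rc_17_0 lc_c_rc_21_2 lc_c_rc_10_3 lc_c_rc_19_2 lc_c_rc_18_2 lc_c_rc_21_2 lc_c_rc_19_2 lc_c_rc_22_2 lc_c_rc_19_2 lc_c_rc_18_4 lc_c_rc_21_0 lc_c_rc_10_3 lc_c_rc_19_2 lc_c_rc_18_2 lc_c_rc_20_2) (@D3.rec (fun _ => (Cert rels S Gen.c)) lc_c_rc_23_0 lc_c_rc_23_0 lc_c_rc_19_2 lc_c_rc_19_2 lc_c_rc_22_2 lc_c_rc_23_2 lc_c_rc_23_2 lc_c_rc_47_50 lc_c_rc_2_1 lc_c_rc_18_4 lc_c_rc_21_2 lc_c_rc_18_4 lc_c_rc_18_2 lc_c_rc_18_2 lc_c_rc_18_2 lc_c_rc_21_0 lc_c_rc_19_2 lc_c_rc_18_2 lc_c_rc_45_55 lc_c_rc_17_0 lc_c_rc_23_0 lc_c_rc_22_2 lc_c_rc_19_2 lc_c_rc_2_1 lc_c_rc_19_2 lc_c_rc_18_2 lc_c_rc_19_2 lc_c_rc_18_2 lc_c_rc_19_2 lc_c_rc_19_2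 lc_c_rc_2_1 lc_c_rc_20_2) (@D3.rec (fun _ => (Cert rels S Gen.c)) lc_c_rc_21_2 lc_c_rc_18_2 lc_c_rc_2_1 lc_c_rc_22_2 lc_c_rc_19_2 lc_c_rc_18_2 lc_c_rc_10_3 lc_c_rc_10_3 lc_c_rc_19_2 lc_c_rc_18_2 lc_c_rc_19_2 lc_c_rc_45_55 lc_c_rc_21_2 lc_c_rc_2_1 lc_c_rc_23_2 lc_c_rc_19_2 lc_c_rc_18_2 lc_c_rc_10_3 lc_c_rc_18_2 lc_c_rc_23_0 lc_c_rc_47_22 lc_c_rc_19_2 lc_c_rc_18_2 lc_c_rc_18_4 lc_c_rc_18_2 lc_c_rc_18_2 lc_c_rc_18_2 lc_c_rc_19_2 lc_c_rc_18_2 lc_c_rc_19_2 lc_c_rc_19_2 lc_c_rc_18_2) (@D3.rec (fun _ => (Cert rels S Gen.c)) lc_c_rc_20_2 lc_c_rc_19_2 lc_c_rc_18_2 lc_c_rc_19_2 lc_c_rc_20_2 lc_c_rc_10_1 lc_c_rc_47_29 lc_c_rc_18_4 lc_c_rc_19_2 lc_c_rc_18_2 lc_c_rc_2_3 lc_c_rc_2_1 lc_c_rc_47_29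 lc_c_rc_21_0 lc_c_rc_21_2 lc_c_rc_19_2 lc_c_rc_22_2 lc_c_rc_19_2 lc_c_rc_45_28 lc_c_rc_19_2 lc_c_rc_2_3 lc_c_rc_23_2 lc_c_rc_45_55 lc_c_rc_19_2 lc_c_rc_10_5 lc_c_rc_20_2 lc_c_rc_46_23 lc_c_rc_47_50 lc_c_rc_18_0 lc_c_rc_21_2 lc_c_rc_19_2 lc_c_rc_19_2) (@D3.rec (fun _ => (Cert rels S Gen.c)) lc_c_rc_18_2 lc_c_rc_19_2 lc_c_rc_19_2 lc_c_rc_18_2 lc_c_rc_19_2 lc_c_rc_19_2 lc_c_rc_18_2 lc_c_rc_19_2 lc_c_rc_18_2 lc_c_rc_19_2 lc_c_rc_18_2 lc_c_rc_19_2 lc_c_rc_10_3 lc_c_rc_22_2 lc_c_rc_23_2 lc_c_rc_21_2 lc_c_rc_19_2 lc_c_rc_22_2 lc_c_rc_19_2 lc_c_rc_19_2 lc_c_rc_22_2 lc_c_rc_19_2 lc_c_rc_21_2 lc_c_rc_23_2 lc_c_rc_21_2 lc_c_rc_22_2 lc_c_rc_2_1 lc_c_rc_22_2 lc_c_rc_21_2 lc_c_rc_22_2 lc_c_rc_18_2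 lc_c_rc_19_2) (@D3.rec (fun _ => (Cert rels S Gen.c)) lc_c_rc_18_2 lc_c_rc_19_2 lc_c_rc_19_2 lc_c_rc_18_2 lc_c_rc_2_1 lc_c_rc_19_2 lc_c_rc_18_2 lc_c_rc_19_2 lc_c_rc_21_2 lc_c_rc_23_2 lc_c_rc_2_1 lc_c_rc_19_2 lc_c_rc_19_2 lc_c_rc_19_2 lc_c_rc_18_2 lc_c_rc_20_2 lc_c_rc_19_2 lc_c_rc_19_2 lc_c_rc_18_2 lc_c_rc_18_4 lc_c_rc_18_2 lc_c_rc_19_2 lc_c_rc_19_2 lc_c_rc_20_2 lc_c_rc_20_2 lc_c_rc_21_2 lc_c_rc_19_2 lc_c_rc_19_2 lc_c_rc_21_2 lc_c_rc_2_1 lc_c_rc_23_2 lc_c_rc_10_3) (@D3.rec (fun _ => (Cert rels S Gen.c)) lc_c_rc_19_2 lc_c_rc_18_2 lc_c_rc_2_1 lc_c_rc_45_64 lc_c_rc_22_2 lc_c_rc_19_2 lc_c_rc_21_2 lc_c_rc_2_1 lc_c_rc_20_2 lc_c_rc_23_2 lc_c_rc_46_23 lc_c_rc_20_2 lc_c_rc_2_1 lc_c_rc_47_50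 lc_c_rc_47_43 lc_c_rc_19_2 lc_c_rc_18_2 lc_c_rc_19_2 lc_c_rc_19_2 lc_c_rc_21_2 lc_c_rc_46_30 lc_c_rc_2_1 lc_c_rc_10_3 lc_c_rc_10_3 lc_c_rc_45_55 lc_c_rc_19_2 lc_c_rc_20_2 lc_c_rc_20_2 lc_c_rc_21_2 lc_c_rc_20_2 lc_c_rc_2_1 lc_c_rc_2_1) (@D3.rec (fun _ => (Cert rels S Gen.c)) lc_c_rc_46_37 lc_c_rc_2_1 lc_c_rc_21_2 lc_c_rc_19_2 lc_c_rc_22_2 lc_c_rc_19_2 lc_c_rc_2_1 lc_c_rc_2_1 lc_c_rc_21_2 lc_c_rc_19_2 lc_c_rc_22_2 lc_c_rc_19_2 lc_c_rc_19_2 lc_c_rc_22_2 lc_c_rc_19_2 lc_c_rc_21_2 lc_c_rc_19_2 lc_c_rc_22_2 lc_c_rc_20_2 lc_c_rc_19_2 lc_c_rc_20_2 lc_c_rc_20_2 lc_c_rc_23_0 lc_c_rc_21_2 lc_c_rc_19_2 lc_c_rc_47_29 lc_c_rc_23_2 lc_c_rc_47_22 lc_c_rc_18_4 lc_c_rc_17_0 lc_c_rc_19_2 lc_c_rc_22_2)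 (@D3.rec (fun _ => (Cert rels S Gen.c)) lc_c_rc_19_2 lc_c_rc_46_23 lc_c_rc_2_1 lc_c_rc_23_0 lc_c_rc_21_2 lc_c_rc_19_2 lc_c_rc_19_2 lc_c_rc_21_2 lc_c_rc_21_2 lc_c_rc_10_5 lc_c_rc_2_1 lc_c_rc_19_2 lc_c_rc_10_3 lc_c_rc_10_3 lc_c_rc_19_2 lc_c_rc_21_2 lc_c_rc_2_3 lc_c_rc_45_28 lc_c_rc_10_3 lc_c_rc_19_2 lc_c_rc_22_2 lc_c_rc_19_2 lc_c_rc_18_4 lc_c_rc_18_2 lc_c_rc_19_2 lc_c_rc_21_2 lc_c_rc_19_2 lc_c_rc_20_2 lc_c_rc_20_2 lc_c_rc_19_2 lc_c_rc_21_2 lc_c_rc_10_1) (@D3.rec (fun _ => (Cert rels S Gen.c)) lc_c_rc_18_4 lc_c_rc_19_2 lc_c_rc_2_3 lc_c_rc_47_29 lc_c_rc_2_1 lc_c_rc_19_2 lc_c_rc_22_2 lc_c_rc_19_2 lc_c_rc_21_2 lc_c_rc_2_1 lc_c_rc_45_37 lc_c_rc_19_2 lc_c_rc_45_64 lc_c_rc_45_73 lc_c_rc_19_2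 lc_c_rc_17_0 lc_c_rc_47_29 lc_c_rc_20_2 lc_c_rc_19_2 lc_c_rc_19_2 lc_c_rc_19_2 lc_c_rc_19_2 lc_c_rc_19_2 lc_c_rc_19_2 lc_c_rc_19_2 lc_c_rc_19_2 lc_c_rc_21_2 lc_c_rc_10_3 lc_c_rc_2_3 lc_c_rc_23_2 lc_c_rc_19_2 lc_c_rc_22_2) (@D3.rec (fun _ => (Cert rels S Gen.c)) lc_c_rc_19_2 lc_c_rc_21_2 lc_c_rc_19_2 lc_c_rc_21_2 lc_c_rc_22_2 lc_c_rc_2_1 lc_c_rc_18_2 lc_c_rc_19_2 lc_c_rc_21_2 lc_c_rc_19_2 lc_c_rc_19_2 lc_c_rc_21_2 lc_c_rc_19_0 lc_c_rc_19_2 lc_c_rc_19_2 lc_c_rc_20_2 lc_c_rc_20_2 lc_c_rc_19_2 lc_c_rc_19_2 lc_c_rc_18_4 lc_c_rc_21_2 lc_c_rc_21_2 lc_c_rc_20_2 lc_c_rc_21_2 lc_c_rc_21_2 lc_c_rc_2_1 lc_c_rc_2_1 lc_c_rc_23_2 lc_c_rc_19_2 lc_c_rc_10_3 lc_c_rc_21_2 lc_c_rc_2_1) (@D3.rec (fun _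 => (Cert rels S Gen.c)) lc_c_rc_22_2 lc_c_rc_17_0 lc_c_rc_2_1 lc_c_rc_19_2 lc_c_rc_19_2 lc_c_rc_21_2 lc_c_rc_21_2 lc_c_rc_2_1 lc_c_rc_47_29 lc_c_rc_10_3 lc_c_rc_45_64 lc_c_rc_10_3 lc_c_rc_21_2 lc_c_rc_20_2 lc_c_rc_21_2 lc_c_rc_10_3 lc_c_rc_2_3 lc_c_rc_10_1 lc_c_rc_19_2 lc_c_rc_22_2 lc_c_rc_19_2 lc_c_rc_21_2 lc_c_rc_19_2 lc_c_rc_22_2 lc_c_rc_19_2 lc_c_rc_21_2 lc_c_rc_19_2 lc_c_rc_21_2 lc_c_rc_22_2 lc_c_rc_45_46 lc_c_rc_22_2 lc_c_rc_21_2) (@D3.rec (fun _ => (Cert rels S Gen.c)) lc_c_rc_20_2 lc_c_rc_47_29 lc_c_rc_20_2 lc_c_rc_19_2 lc_c_rc_18_4 lc_c_rc_22_2 lc_c_rc_21_2 lc_c_rc_2_1 lc_c_rc_10_3 lc_c_rc_21_2 lc_c_rc_21_2 lc_c_rc_19_2 lc_c_rc_21_2 lc_c_rc_10_3 lc_c_rc_21_2 lc_c_rc_2_3 lc_c_rc_10_3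 lc_c_rc_21_2 lc_c_rc_19_2 lc_c_rc_18_4 lc_c_rc_18_2 lc_c_rc_21_2 lc_c_rc_21_2 lc_c_rc_20_2 lc_c_rc_21_2 lc_c_rc_10_1 lc_c_rc_21_2 lc_c_rc_45_64 lc_c_rc_47_29 lc_c_rc_19_2 lc_c_rc_21_2 lc_c_rc_47_29) (@D3.rec (fun _ => (Cert rels S Gen.c)) lc_c_rc_20_0 lc_c_rc_10_3 lc_c_rc_19_0 lc_c_rc_47_22 lc_c_rc_21_2 lc_c_rc_21_2 lc_c_rc_21_2 lc_c_rc_21_2 lc_c_rc_21_2 lc_c_rc_10_3 lc_c_rc_10_3 lc_c_rc_19_2 lc_c_rc_21_2 lc_c_rc_21_2 lc_c_rc_21_2 lc_c_rc_21_2 lc_c_rc_21_2 lc_c_rc_21_2 lc_c_rc_20_2 lc_c_rc_21_2 lc_c_rc_18_4 lc_c_rc_21_2 lc_c_rc_10_3 lc_c_rc_21_2 lc_c_rc_10_3 lc_c_rc_2_1 lc_c_rc_18_2 lc_c_rc_17_1 lc_c_rc_21_2 lc_c_rc_2_1 lc_c_rc_10_3 lc_c_rc_47_29) (@D3.rec (fun _ => (Cert rels S Gen.c))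 lc_c_rc_21_2 lc_c_rc_17_1 lc_c_rc_17_0 lc_c_rc_19_2 lc_c_rc_21_2 lc_c_rc_19_2 lc_c_rc_21_2 lc_c_rc_21_2 lc_c_rc_18_2 lc_c_rc_17_0 lc_c_rc_21_2 lc_c_rc_21_2 lc_c_rc_18_0 lc_c_rc_2_1 lc_c_rc_10_3 lc_c_rc_45_46 lc_c_rc_21_2 lc_c_rc_47_22 lc_c_rc_21_2 lc_c_rc_47_22 lc_c_rc_21_2 lc_c_rc_19_2 lc_c_rc_21_2 lc_c_rc_21_2 lc_c_rc_19_2 lc_c_rc_19_2 lc_c_rc_2_1 lc_c_rc_10_3 lc_c_rc_19_0 lc_c_rc_21_2 lc_c_rc_21_2 lc_c_rc_20_2)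
def ce_c : Pt → (Cert rels S Gen.c) := @Pt.rec (fun _ => (Cert rels S Gen.c)) (@D1.rec (fun _ => D2 → D3 → (Cert rels S Gen.c)) ce_c_0 ce_c_1 ce_c_2 ce_c_3 ce_c_4 ce_c_5 ce_c_6 ce_c_7 ce_c_8 ce_c_9 ce_c_10 ce_c_11 ce_c_12 ce_c_13 ce_c_14 ce_c_15 ce_c_16 ce_c_17 ce_c_18 ce_c_19)
def isSeed_c (p : Pt) : Bool := false

end

end Cfsg.Agent.Helper28.S1685
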