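import Cfsg.Agent.Lib.Helper28.S1685.Tree

set_option autoImplicit false
set_option maxRecDepth 100000
set_option linter.all false

namespace Cfsg.Agent.Helper28.S1685

open Cfsg.Agent.Helper28
open Cfsg.Spor.Fi22 (Gen)

noncomputable section

def lv_d_0 : D2 → D3 → Nat := @D2.rec (fun _ => D3 → Nat) (@D3.rec (fun _ => Nat) 1 2 3 0 1 5 5 6 0 6 7 0 1 2 0 1 2 7 2 1 2 8 8 2 8 8 8 9 9 2 9 0) (@D3.rec (fun _ => Nat) 9 9 9 9 9 0 10 0 10 10 10 10 10 0 10 1 2 0 0 10 0 1 11 0 11 1 2 2 0 11 0 0) (@D3.rec (fun _ => Nat) 11 1 2 0 10 2 0 1 1 0 1 10 0 12 1 2 2 0 2 11 2 3 0 1 0 1 1 2 0 11 11 2) (@D3.rec (fun _ => Nat) 0 1 11 0 1 4 5 1 11 11 11 1 2 2 0 12 2 12 2 3 0 1 12 12 3 12 0 0 1 4 1 5) (@D3.rec (fun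 _ => Nat) 2 0 1 12 12 0 1 12 4 0 1 5 4 5 6 12 12 2 2 3 0 1 13 13 13 13 3 13 0 0 1 13) (@D3.rec (fun _ => Nat) 4 0 13 13 0 0 1 1 5 4 5 6 13 6 0 1 4 0 0 1 13 4 0 5 1 12 12 6 12 5 6 7) (@D3.rec (fun _ => Nat) 13 14 3 0 0 1 4 0 14 0 0 14 14 0 0 1 1 14 4 0 5 1 2 0 0 1 1 13 13 6 14 6) (@D3.rec (fun _ => Nat) 13 5 6 7 0 7 1 14 4 1 1 4 13 14 0 5 1 6 13 13 13 0 13 7 13 13 6 15 0 1 1 15) (@D3.rec (fun _ => Nat) 4 5 1 2 0 1 1 2 0 0 1 1 4 14 15 15 15 0 5 1 2 6 14 2 0 1 1 14 4 14 14 14) (@D3.rec (fun _ => Nat) 0 14 7 0 15 7 14 14 6 8 0 1 17 14 15 61 4 14 16 14 5 0 14 15 0 1 62 6 14 14 0 14) (@D3.rec (fun _ => Nat) 14 0 1 2 14 14 14 14 0 1 17 15 16 16 16 63 5 2 0 1 4 15 2 0 1 1 5 4 18 15 5 0) (@D3.rec (fun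 _ => Nat) 15 16 0 16 16 0 1 2 6 2 15 15 0 1 15 4 15 5 15 0 5 15 0 15 15 0 1 2 15 8 0 1) (@D3.rec (fun _ => Nat) 2 16 15 15 15 0 1 15 17 0 16 63 5 0 15 18 0 15 6 0 1 2 15 0 1 62 6 62 15 0 1 2) (@D3.rec (fun _ => Nat) 15 0 1 2 2 3 15 15 1 19 4 19 0 16 17 0 17 17 63 64 0 1 5 4 5 0 16 0 1 6 4 18) (@D3.rec (fun _ => Nat) 5 6 0 5 18 0 16 6 0 1 2 16 17 0 1 2 17 0 1 2 2 6 63 17 16 16 0 1 16 5 16 0) (@D3.rec (fun _ => Nat) 5 16 0 6 16 0 1 2 6 16 0 1 2 16 0 1 2 2 3 0 1 2 2 7 3 16 16 1 17 16 16 19) (@D3.rec (fun _ => Nat) 0 1 63 6 0 1 2 18 0 1 2 16 0 1 2 2 6 3 1 64 7 64 0 1 2 2 15 3 1 2 9 2) (@D3.rec (fun _ => Nat) 3 15 3 16 19 4 19 0 5 19 0 1 2 18 0 1 2 65 64 1 6 4 6 0 5 6 0 1 2 17 1 20) (@D3.rec (fun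 _ => Nat) 5 7 0 5 20 0 6 7 0 1 2 6 32 0 1 2 17 0 1 2 2 6 3 0 1 2 2 7 3 1 2 2) (@D3.rec (fun _ => Nat) 7 65 7 7 7 0 1 4 16 17 0 6 17 0 1 2 6 17 0 1 2 7 0 1 2 2 7 3 0 1 2 2) (@D3.rec (fun _ => Nat) 16 3 1 2 9 2 3 7 3 1 2 9 2 8 3 3 8 8 17 18 17 0 17 0 1 0 1 2 2 16 0 1) (@D3.rec (fun _ => Nat) 2 2 16 3 1 2 9 2 7 3 3 8 64 1 2 10 2 16 3 16 3 16 10 2 3 10 16 3 16 21 0 5)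
def lv_d_1 : D2 → D3 → Nat := @D2.rec (fun _ => D3 → Nat) (@D3.rec (fun _ => Nat) 21 0 1 2 0 1 2 2 0 1 2 2 7 66 17 17 7 0 5 7 0 1 2 6 0 1 2 2 17 3 17 17) (@D3.rec (fun _ => Nat) 20 0 6 8 0 1 2 6 20 0 1 2 7 0 1 2 2 7 3 0 1 2 2 17 3 1 2 9 2 7 3 7) (@D3.rec (fun _ => Nat) 3 7 7 1 2 9 2 8 3 7 3 8 8 2 8 65 8 8 8 0 1 4 17 5 0 17 18 0 1 2 7 0) (@D3.rec (fun _ => Nat) 1 2 2 17 3 0 1 2 2 17 3 1 2 10 2 8 3 7 3 8 8 1 2 10 2 17 3 9 3 17 10 2) (@D3.rec (fun _ => Nat) 3 10 8 3 8 10 2 9 3 10 0 3 9 9 9 9 19 0 18 1 2 1 18 1 2 16 2 17 17 17 1 2) (@D3.rec (fun _ => Nat) 10 2 17 3 3 10 2 8 3 10 16 3 11 2 17 3 11 0 17 3 17 17 0 17 11 11 17 3 0 11 17 17) (@D3.rec (fun _ => Nat) 21 0 1 2 0 1 2 2 7 1 2 19 2 7 1 2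 19 2 8 8 8 18 0 18 8 0 1 2 6 0 1 2) (@D3.rec (fun _ => Nat) 2 18 3 1 2 17 2 18 3 7 3 18 18 18 0 18 22 0 1 2 7 0 1 2 2 18 3 0 1 2 2 18) (@D3.rec (fun _ => Nat) 3 1 2 10 2 8 3 7 3 8 8 1 2 10 2 18 3 9 3 18 18 10 2 8 3 10 17 8 3 8 8 8) (@D3.rec (fun _ => Nat) 0 10 2 9 3 10 0 8 3 9 9 0 9 9 9 9 9 0 1 9 5 0 18 6 0 1 2 18 0 1 2 2) (@D3.rec (fun _ => Nat) 6 3 1 2 11 2 18 3 17 3 18 18 1 2 11 2 18 3 8 3 18 18 11 2 9 3 11 0 8 3 9 9) (@D3.rec (fun _ => Nat) 8 17 9 9 11 2 18 3 11 0 9 3 18 69 69 18 11 11 9 3 0 11 9 70 11 11 0 3 10 10 11 0) (@D3.rec (fun _ => Nat) 1 2 10 10 75 0 1 2 11 2 19 17 2 18 17 0 18 18 11 2 18 3 11 0 3 11 11 17 3 11 12 12) (@D3.rec (fun _ => Nat) 0 18 3 18 0 12 0 1 18 0 18 18 66 1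 12 0 12 18 1 2 18 0 1 2 2 19 1 2 20 2 8 7) (@D3.rec (fun _ => Nat) 8 8 20 2 20 8 20 2 9 20 0 9 9 9 19 0 1 2 19 0 1 2 2 6 3 1 2 18 2 19 3 7) (@D3.rec (fun _ => Nat) 3 19 19 18 2 19 3 18 0 8 3 19 19 8 0 19 19 19 0 1 2 19 0 1 2 2 6 3 1 2 11 2) (@D3.rec (fun _ => Nat) 19 3 18 3 19 19 1 2 11 2 19 3 8 3 19 19 11 2 9 3 11 0 8 3 9 9 8 0 9 9 11 2) (@D3.rec (fun _ => Nat) 19 3 11 0 9 3 19 19 9 63 11 11 18 9 3 9 9 0 11 18 18 9 0 1 11 11 0 9 3 10 10 18) (@D3.rec (fun _ => Nat) 11 0 1 2 0 10 10 1 2 10 0 1 9 10 6 0 1 67 19 0 1 2 2 6 70 1 2 12 2 7 3 18) (@D3.rec (fun _ => Nat) 3 70 69 12 2 19 3 12 0 18 3 19 19 18 73 19 19 12 2 19 3 12 0 10 3 19 19 12 12 0 9 3) (@D3.rec (fun _ => Nat) 10 10 0 12 0 1 2 9 18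 10 10 12 12 0 11 3 19 0 12 0 1 65 65 19 12 0 12 10 1 2 68 12) (@D3.rec (fun _ => Nat) 0 12 0 1 2 11 11 0 1 2 11 2 76 1 2 12 2 12 12 19 20 18 18 0 19 19 0 0 1 12 12 0)
def lv_d_2 : D2 → D3 → Nat := @D2.rec (fun _ => D3 → Nat) (@D3.rec (fun _ => Nat) 3 12 1 12 18 12 13 0 0 13 0 1 19 0 19 1 2 58 0 1 18 19 68 1 0 13 1 2 19 2 3 1) (@D3.rec (fun _ => Nat) 2 21 2 20 19 20 20 21 2 9 21 0 8 9 9 66 9 21 21 9 0 21 21 0 10 10 0 1 2 10 0 1) (@D3.rec (fun _ => Nat) 2 2 6 3 1 2 19 2 7 3 19 3 7 7 19 2 20 3 19 0 8 3 20 20 8 0 20 20 19 19 0 9) (@D3.rec (fun _ => Nat) 3 20 20 0 19 0 1 2 9 0 20 20 9 0 1 0 1 2 2 6 3 1 2 12 2 7 3 19 3 7 7 12) (@D3.rec (fun _ => Nat) 2 20 3 12 0 19 3 20 20 19 0 20 20 12 2 20 3 12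 0 10 3 20 20 10 0 20 20 12 12 0 9 3) (@D3.rec (fun _ => Nat) 10 10 0 12 0 1 2 9 0 10 10 64 65 1 2 10 12 12 0 11 3 20 20 0 12 0 1 2 11 70 12 19) (@D3.rec (fun _ => Nat) 0 12 19 19 10 0 1 2 0 1 19 12 0 19 12 0 1 2 0 11 11 0 0 1 2 20 2 1 2 11 20 2) (@D3.rec (fun _ => Nat) 1 19 10 11 0 1 67 1 2 13 2 7 69 13 2 8 3 13 0 19 3 71 69 13 13 0 19 3 20 20 0 13) (@D3.rec (fun _ => Nat) 0 1 2 19 75 20 20 13 13 0 10 3 20 20 0 13 0 1 2 13 0 0 13 0 1 2 10 19 11 11 1 2) (@D3.rec (fun _ => Nat) 0 0 1 2 19 2 13 0 0 13 0 1 70 70 20 1 2 0 0 1 19 0 13 1 2 70 2 19 3 13 0 1) (@D3.rec (fun _ => Nat) 2 0 1 2 12 2 74 1 2 19 2 12 12 20 21 13 2 13 13 20 13 13 0 19 0 0 0 1 1 1 13 0) (@D3.rec (fun _ => Nat) 13 1 13 0 14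 0 1 1 2 57 0 1 19 20 68 1 2 3 59 1 1 2 2 3 3 22 2 21 22 0 20 21) (@D3.rec (fun _ => Nat) 21 0 21 22 22 0 9 10 10 0 0 1 2 64 10 66 22 0 1 22 0 0 1 2 11 1 2 21 2 1 2 20) (@D3.rec (fun _ => Nat) 2 7 3 20 3 7 7 20 2 8 3 20 0 20 3 8 8 20 0 8 8 20 20 0 9 3 21 21 0 20 0 1) (@D3.rec (fun _ => Nat) 2 9 0 21 21 9 0 1 2 21 20 0 0 20 0 1 2 10 0 21 21 1 2 0 0 1 2 2 10 0 1 1) (@D3.rec (fun _ => Nat) 20 1 2 13 2 7 3 20 3 7 7 13 2 8 3 13 0 20 3 8 8 20 0 8 8 13 13 0 20 3 21 21) (@D3.rec (fun _ => Nat) 0 13 0 1 2 20 0 21 21 20 0 1 2 21 13 13 0 10 3 21 21 0 13 0 1 2 10 0 21 21 66 1) (@D3.rec (fun _ => Nat) 2 21 13 0 0 13 0 1 2 10 0 11 11 1 2 0 0 1 2 10 2 62 65 1 2 11 67 9 2 13 0 0) (@D3.rec (fun _ => Nat) 13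 0 1 2 11 63 1 2 0 1 2 0 13 20 20 1 2 0 1 2 0 1 6 20 20 13 0 1 2 0 0 1) (@D3.rec (fun _ => Nat) 2 21 2 1 2 12 1 2 1 2 3 2 21 21 21 6 2 21 21 20 20 11 1 69 21 14 2 8 70 14 0 14) (@D3.rec (fun _ => Nat) 14 0 20 3 66 69 0 14 0 1 2 14 0 0 14 0 1 2 20 77 21 21 1 2 0 0 1 2 20 2 14 0) (@D3.rec (fun _ => Nat) 0 14 0 1 2 1 1 20 2 0 14 0 1 2 1 2 0 0 1 2 20 2 2 0 1 1 3 2 20 20 10 0)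
def lv_d_3 : D2 → D3 → Nat := @D2.rec (fun _ => D3 → Nat) (@D3.rec (fun _ => Nat) 14 0 1 1 2 0 0 1 20 2 0 1 1 3 20 1 2 2 20 3 3 20 20 0 1 2 22 13 2 1 2 20) (@D3.rec (fun _ => Nat) 2 13 13 21 20 2 20 20 21 13 13 0 0 22 14 14 21 14 14 0 14 0 1 0 0 1 1 1 14 1 1 2) (@D3.rec (fun _ => Nat) 56 0 1 22 20 2 3 58 1 3 22 2 3 3 17 23 23 0 21 22 22 0 0 1 2 0 22 1 2 23 0 0) (@D3.rec (fun _ => Nat) 0 1 2 66 11 1 0 1 2 23 2 66 0 1 66 0 1 2 1 2 22 2 66 2 22 22 22 21 2 8 3 21) (@D3.rec (fun _ => Nat) 0 21 3 8 8 21 0 8 8 21 21 0 21 3 9 9 0 21 0 1 2 21 0 9 9 21 0 1 2 9 21 0) (@D3.rec (fun _ => Nat) 0 21 0 1 2 10 0 22 22 1 2 0 0 1 2 10 2 10 0 1 2 22 65 1 2 9 2 0 21 0 1 2) (@D3.rec (fun _ => Nat) 1 2 0 0 1 2 2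 11 0 1 2 0 3 0 1 1 3 2 1 6 21 21 14 2 8 3 14 0 21 3 8 8) (@D3.rec (fun _ => Nat) 21 0 8 8 14 14 0 21 3 9 9 0 14 0 1 2 21 0 9 9 0 1 2 9 14 0 0 14 0 1 2 21) (@D3.rec (fun _ => Nat) 0 22 22 1 2 0 0 1 2 11 2 21 0 1 2 22 64 1 2 9 2 14 0 0 14 0 1 2 12 0 22 22) (@D3.rec (fun _ => Nat) 1 2 0 0 1 2 24 2 64 1 2 22 66 2 0 14 0 1 2 1 2 0 0 1 2 11 2 67 65 1 2 12) (@D3.rec (fun _ => Nat) 2 0 3 0 1 2 1 2 3 2 11 11 10 65 6 2 10 10 0 14 0 1 2 1 2 0 1 2 2 0 1 3) (@D3.rec (fun _ => Nat) 1 2 0 2 0 1 6 65 1 2 6 7 21 0 0 1 2 13 22 2 1 2 1 2 3 2 22 22 22 6 2 6) (@D3.rec (fun _ => Nat) 3 2 65 2 4 4 22 22 22 0 7 7 22 22 21 21 22 15 15 0 1 15 0 0 15 0 1 2 1 1 21 2) (@D3.rec (fun _ => Nat) 0 15 0 1 2 1 2 0 0 1 2 21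 2 2 0 1 1 3 2 21 21 10 0 15 0 1 2 1 1 21 2 68) (@D3.rec (fun _ => Nat) 69 21 21 10 1 2 0 0 1 2 23 21 2 2 0 1 1 3 2 21 21 11 74 1 2 3 74 4 73 70 21 21) (@D3.rec (fun _ => Nat) 0 1 2 0 0 1 23 21 2 0 1 1 3 21 67 1 2 3 68 4 23 2 21 3 3 21 21 18 21 21 1 2) (@D3.rec (fun _ => Nat) 23 21 2 0 23 14 14 22 21 2 21 21 22 14 14 0 21 21 22 21 21 0 14 0 1 1 2 2 0 15 15 0) (@D3.rec (fun _ => Nat) 15 0 1 70 1 21 1 1 25 24 23 2 3 57 1 23 0 3 68 23 3 19 24 0 0 0 1 2 0 23 1 0) (@D3.rec (fun _ => Nat) 1 2 25 2 1 2 2 0 0 1 2 1 0 1 2 25 2 66 0 1 2 3 2 25 25 28 1 66 66 1 2 13) (@D3.rec (fun _ => Nat) 23 2 66 2 23 23 23 66 66 23 23 23 0 22 22 0 22 3 9 9 71 22 0 1 2 22 0 9 9 24 0 1) (@D3.rec (fun _ => Nat) 2 9 22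 0 0 22 0 1 2 22 0 10 10 1 2 0 0 1 2 11 2 22 0 1 2 10 0 1 2 9 2 0) (@D3.rec (fun _ => Nat) 22 0 1 2 1 2 0 0 1 2 11 2 11 0 1 2 23 2 0 3 0 1 2 1 2 3 2 11 11 27 67 1)
def lv_d_4 : D2 → D3 → Nat := @D2.rec (fun _ => D3 → Nat) (@D3.rec (fun _ => Nat) 2 6 2 67 10 2 10 10 1 2 0 0 1 2 25 2 2 0 3 0 1 1 3 2 1 6 3 0 1 2 1 6) (@D3.rec (fun _ => Nat) 3 5 67 7 7 22 22 15 15 0 22 3 9 9 67 68 1 2 22 0 9 9 24 0 1 2 9 15 0 0 15 0) (@D3.rec (fun _ => Nat) 1 2 22 0 10 10 1 68 0 70 1 2 24 2 0 1 2 10 1 2 65 2 0 15 0 1 2 1 2 0 0 1) (@D3.rec (fun _ => Nat) 2 12 2 22 0 1 2 23 2 0 3 0 1 2 1 2 3 2 12 12 10 67 1 2 6 2 69 2 10 10 10 0) (@D3.rec (fun _ => Nat) 15 0 1 2 1 2 0 0 1 2 24 2 72 1 2 23 2 0 0 1 2 1 2 3 2 24 24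 10 68 6 2 1) (@D3.rec (fun _ => Nat) 2 0 0 1 2 14 12 2 2 0 3 0 1 2 1 2 3 2 12 12 11 67 6 2 3 0 1 2 1 2 6 3) (@D3.rec (fun _ => Nat) 2 5 2 4 4 11 12 12 0 7 7 11 11 1 2 0 1 26 2 2 0 1 3 66 1 2 3 14 2 0 1 67) (@D3.rec (fun _ => Nat) 1 2 6 7 67 11 2 7 8 1 2 1 2 14 3 2 0 14 23 23 23 6 3 2 67 2 4 4 23 23 23 0) (@D3.rec (fun _ => Nat) 7 7 7 12 7 4 4 23 67 67 23 5 5 0 23 0 1 8 8 23 22 23 16 0 1 69 0 16 0 1 2 1) (@D3.rec (fun _ => Nat) 1 22 2 22 22 10 1 2 0 0 1 2 24 22 2 2 0 1 1 3 2 22 22 11 74 1 76 3 74 4 75 73) (@D3.rec (fun _ => Nat) 22 22 0 1 1 24 22 2 69 69 22 22 11 72 73 22 22 0 24 2 0 1 1 24 3 2 0 24 22 22 12 79) (@D3.rec (fun _ => Nat) 1 2 3 76 4 75 72 22 22 0 76 14 2 4 71 5 73 0 22 0 1 24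 2 0 1 1 24 3 0 22 69 1) (@D3.rec (fun _ => Nat) 2 3 68 4 72 14 2 4 24 0 3 22 22 18 22 22 68 22 24 22 2 0 24 22 22 23 1 2 2 0 15 15) (@D3.rec (fun _ => Nat) 0 22 22 23 22 22 0 15 0 1 22 22 0 22 0 1 70 1 13 2 25 2 3 3 0 1 16 0 1 72 1 22) (@D3.rec (fun _ => Nat) 68 68 24 3 24 1 70 24 19 0 0 1 2 1 0 1 2 25 2 1 2 0 1 2 3 2 25 25 28 6 2 28) (@D3.rec (fun _ => Nat) 1 0 1 2 14 25 2 0 1 2 3 2 25 25 28 1 2 3 2 4 4 28 25 25 0 14 72 68 14 71 2 0) (@D3.rec (fun _ => Nat) 14 24 24 24 68 68 24 24 24 0 68 68 0 24 0 1 23 0 71 23 0 1 2 23 0 10 10 69 0 1 2 22) (@D3.rec (fun _ => Nat) 2 0 1 2 10 0 1 2 22 2 0 23 0 1 2 1 2 0 0 1 2 12 2 23 0 1 2 11 2 0 3 0) (@D3.rec (fun _ => Nat) 1 2 1 2 3 2 12 12 29 0 1 2 6 2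 1 2 10 2 10 10 29 1 2 0 0 1 2 25 12 2 2 0) (@D3.rec (fun _ => Nat) 3 0 1 2 1 2 3 2 12 12 29 65 1 2 6 2 3 0 1 2 0 1 2 6 3 2 5 2 4 4 29 12) (@D3.rec (fun _ => Nat) 12 0 65 7 2 7 7 11 11 11 11 27 2 0 3 0 1 1 27 3 2 27 3 0 1 2 1 6 3 5 67 7) (@D3.rec (fun _ => Nat) 7 66 65 1 2 11 21 2 7 5 7 22 72 8 23 16 0 69 68 1 2 23 0 10 10 72 73 22 2 25 0 1)
def lv_d_5 : D2 → D3 → Nat := @D2.rec (fun _ => D3 → Nat) (@D3.rec (fun _ => Nat) 2 10 0 1 2 22 2 0 16 0 1 2 1 63 0 69 1 2 26 2 0 1 2 11 0 0 1 2 71 3 2 26) (@D3.rec (fun _ => Nat) 26 10 1 2 6 2 2 66 68 10 1 2 0 0 1 2 15 13 2 2 0 3 0 1 2 1 2 3 2 13 13 11) (@D3.rec (fun _ => Nat) 69 1 2 6 2 3 0 1 2 0 1 2 6 3 2 5 2 4 4 75 13 13 0 67 7 2 7 7 11 11 11 11) (@D3.rec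 (fun _ => Nat) 69 1 2 0 0 1 2 24 26 2 2 0 0 1 2 1 2 3 2 26 26 11 66 6 2 1 2 1 2 6 3 2) (@D3.rec (fun _ => Nat) 2 4 4 11 26 26 0 7 15 2 0 3 0 1 2 1 2 15 3 2 0 15 13 13 12 3 0 1 2 1 2 6) (@D3.rec (fun _ => Nat) 3 2 5 2 4 4 12 13 13 0 7 7 22 67 1 2 11 14 2 5 2 7 12 7 4 4 12 6 6 75 5 5) (@D3.rec (fun _ => Nat) 0 13 0 1 8 8 12 26 2 0 1 26 3 26 66 1 2 3 66 14 2 66 0 71 1 2 65 67 12 2 7 8) (@D3.rec (fun _ => Nat) 12 12 8 71 3 2 72 70 2 0 15 4 4 24 1 2 2 0 24 24 0 7 13 7 4 4 24 67 67 24 5 5) (@D3.rec (fun _ => Nat) 0 24 0 1 8 8 8 13 8 13 13 71 5 5 0 67 67 0 6 0 1 70 1 13 9 1 69 1 1 25 23 2) (@D3.rec (fun _ => Nat) 23 23 11 0 25 2 0 1 1 25 3 2 0 25 23 23 12 71 1 76 3 74 4 75 75 23 23 0 15 4 72 5) (@D3.rec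 (fun _ => Nat) 70 74 23 0 1 25 70 25 71 0 25 23 23 12 72 73 23 23 0 23 0 1 25 0 72 1 2 25 3 25 76 0) (@D3.rec (fun _ => Nat) 25 4 75 71 1 2 2 0 23 23 0 80 15 2 4 71 5 73 0 23 0 1 15 15 5 69 68 0 1 68 1 13) (@D3.rec (fun _ => Nat) 25 0 72 1 2 25 3 25 70 74 74 1 76 74 15 2 4 67 15 25 0 1 2 20 23 23 68 23 68 0 25 23) (@D3.rec (fun _ => Nat) 23 24 1 2 2 0 23 23 0 2 15 2 3 3 0 1 16 0 1 23 23 0 23 0 1 70 1 14 23 0 1 68) (@D3.rec (fun _ => Nat) 1 14 25 3 26 3 26 77 4 75 1 75 72 1 75 23 25 70 78 1 0 1 2 15 27 2 0 1 2 3 2 27) (@D3.rec (fun _ => Nat) 27 30 6 2 1 2 6 3 2 4 4 30 68 27 0 7 30 15 0 1 2 15 3 2 0 15 27 27 30 1 2 3) (@D3.rec (fun _ => Nat) 2 4 4 30 27 27 0 24 2 4 4 30 5 5 0 27 0 1 0 71 0 15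 71 71 25 1 2 2 0 25 25 0) (@D3.rec (fun _ => Nat) 68 68 0 25 0 1 68 0 1 0 1 13 73 0 1 2 71 0 1 2 23 2 0 1 2 11 71 1 2 69 2 23) (@D3.rec (fun _ => Nat) 23 30 1 2 69 2 1 2 23 2 23 23 30 1 2 0 0 1 2 25 13 2 2 0 3 0 1 2 1 2 3 2) (@D3.rec (fun _ => Nat) 13 13 29 0 1 2 6 2 3 0 1 2 0 1 2 6 3 2 5 2 4 4 29 13 13 0 1 2 7 2 7 7) (@D3.rec (fun _ => Nat) 29 23 2 11 11 70 11 11 71 27 2 0 3 0 1 2 1 2 27 3 2 0 25 13 13 29 3 0 1 2 0 1) (@D3.rec (fun _ => Nat) 2 6 3 2 5 2 4 4 29 13 13 0 73 7 2 7 7 23 0 1 2 11 22 2 1 2 7 5 2 7 23 7)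
def lv_d_6 : D2 → D3 → Nat := @D2.rec (fun _ => D3 → Nat) (@D3.rec (fun _ => Nat) 4 4 29 6 6 70 5 5 0 13 0 1 8 8 8 8 12 12 12 27 0 3 0 1 2 1 27 3 71 5 0 72) (@D3.rec (fun _ => Nat) 67 66 67 1 2 12 22 2 7 5 7 23 8 8 71 67 12 22 2 12 68 12 22 8 72 69 73 1 2 72 73 23) (@D3.rec (fun _ => Nat) 2 0 1 2 11 71 23 0 1 2 70 2 1 2 2 23 23 23 1 70 0 68 1 2 26 26 2 0 0 1 2 73) (@D3.rec (fun _ => Nat) 3 2 26 26 11 1 2 6 2 1 2 1 2 6 3 2 4 26 0 7 2 7 7 11 11 68 68 70 16 2 0 3) (@D3.rec (fun _ => Nat) 0 1 2 1 2 16 3 2 0 16 14 14 12 3 0 1 2 0 1 2 6 3 2 5 2 4 4 79 14 14 0 69) (@D3.rec (fun _ => Nat) 7 2 7 7 12 0 1 2 22 15 2 1 2 7 5 2 7 23 7 4 4 12 6 6 5 5 0 14 0 1 8 12) (@D3.rec (fun _ => Nat) 8 8 0 12 69 28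 2 0 0 1 2 1 2 28 3 2 0 26 26 26 12 1 2 1 2 6 3 2 2 4 4 12) (@D3.rec (fun _ => Nat) 26 26 0 7 7 66 2 2 23 7 4 4 12 5 26 0 1 71 0 3 0 1 2 1 2 16 3 2 71 5 2 0) (@D3.rec (fun _ => Nat) 16 4 4 13 1 2 2 0 14 14 0 23 67 1 2 12 15 2 5 2 7 13 7 4 4 13 6 6 77 5 5 0) (@D3.rec (fun _ => Nat) 14 0 1 8 8 67 67 76 2 12 22 12 15 15 13 6 6 13 8 13 8 13 13 69 5 5 0 7 7 75 6 0) (@D3.rec (fun _ => Nat) 1 70 1 13 9 28 0 68 1 2 28 3 78 68 15 2 15 0 1 2 70 3 2 70 13 13 8 13 13 70 0 73) (@D3.rec (fun _ => Nat) 4 4 25 0 72 72 72 25 1 2 2 0 5 5 0 2 15 2 3 3 0 1 25 0 1 8 14 8 14 14 74 5) (@D3.rec (fun _ => Nat) 5 0 69 69 0 6 0 1 72 1 14 9 14 9 14 14 74 14 14 0 6 0 1 69 0 1 70 1 14 26 71 26) (@D3.rec (fun _ => Nat) 26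 0 26 24 24 12 0 1 26 0 76 1 78 26 3 26 76 0 26 4 77 80 1 2 2 0 24 24 0 16 4 74) (@D3.rec (fun _ => Nat) 5 80 77 24 0 1 16 5 69 70 70 70 1 23 0 75 0 71 1 2 2 0 24 24 0 24 0 1 76 1 23 0) (@D3.rec (fun _ => Nat) 1 2 78 3 16 2 0 4 0 76 1 2 2 0 5 75 0 2 16 2 3 3 0 1 24 0 1 16 16 5 71 70) (@D3.rec (fun _ => Nat) 0 1 70 1 14 16 16 68 1 14 0 1 2 74 3 16 2 74 69 16 67 79 73 1 2 16 2 76 24 68 1 2) (@D3.rec (fun _ => Nat) 2 0 24 24 0 2 16 2 3 3 0 1 24 0 1 7 3 16 3 16 79 4 0 1 72 76 1 77 24 0 1 70) (@D3.rec (fun _ => Nat) 1 15 15 70 1 75 26 4 27 79 73 75 74 16 0 1 2 16 3 2 0 16 27 27 30 1 2 6 3 2 4 4) (@D3.rec (fun _ => Nat) 30 70 27 0 7 7 30 23 25 2 24 7 4 4 30 68 5 0 70 0 1 0 0 1 2 16 3 2 0 16 4 4)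 (@D3.rec (fun _ => Nat) 30 1 2 2 0 27 27 0 25 2 4 4 30 5 5 0 27 0 1 25 25 30 5 5 0 6 0 1 0 1 13 1) (@D3.rec (fun _ => Nat) 2 1 2 2 0 73 73 0 2 25 2 3 3 0 1 26 0 1 70 0 1 0 1 14 0 1 14 1 14 7 14 75)
def lv_d_7 : D2 → D3 → Nat := @D2.rec (fun _ => D3 → Nat) (@D3.rec (fun _ => Nat) 1 2 27 24 2 71 1 2 69 2 24 24 31 1 2 69 2 2 69 69 31 24 24 0 2 69 69 31 24 24 2 24) (@D3.rec (fun _ => Nat) 24 31 24 24 0 29 2 0 3 0 1 2 1 2 29 3 2 0 27 14 14 31 3 0 1 2 0 1 2 6 3 2) (@D3.rec (fun _ => Nat) 5 2 4 4 31 14 14 0 1 2 7 2 7 7 31 0 1 2 23 23 2 1 2 7 5 2 7 67 7 4 4 31) (@D3.rec (fun _ => Nat) 6 75 5 5 0 14 0 1 8 24 2 8 8 68 8 8 0 24 72 12 12 71 12 78 29 0 3 0 1 2 0 1) (@D3.rec (fun _ => Nat) 2 33 3 2 29 5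 2 0 29 4 4 31 1 2 2 0 14 14 0 24 0 1 2 12 23 2 1 2 7 5 2 7) (@D3.rec (fun _ => Nat) 24 7 4 4 31 6 6 75 5 5 0 14 0 1 8 8 8 8 71 1 2 12 23 2 12 67 12 23 23 31 24 2) (@D3.rec (fun _ => Nat) 8 24 8 6 6 68 8 24 8 24 24 73 5 5 0 7 7 0 6 0 1 77 1 24 9 9 9 13 67 0 1 2) (@D3.rec (fun _ => Nat) 66 67 1 2 3 23 2 68 5 72 0 75 1 76 73 67 13 23 2 13 69 13 23 8 8 24 72 72 13 23 13 13) (@D3.rec (fun _ => Nat) 69 73 75 26 24 2 73 24 1 2 72 2 1 2 68 2 79 68 24 2 24 24 24 0 28 0 0 1 2 74 28 3) (@D3.rec (fun _ => Nat) 2 0 26 28 28 12 1 2 1 2 6 3 2 4 28 0 7 2 7 7 12 2 7 2 7 7 4 12 76 1 8 12) (@D3.rec (fun _ => Nat) 8 8 0 70 79 69 0 3 0 1 2 0 1 2 17 3 2 69 5 2 0 17 4 4 79 1 2 2 0 15 15 0) (@D3.rec (fun _ => Nat)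 0 1 2 23 16 2 1 2 7 5 2 7 24 7 4 4 13 6 6 5 5 0 15 0 1 8 8 13 8 8 0 1) (@D3.rec (fun _ => Nat) 2 23 2 23 74 23 16 74 13 24 2 24 8 6 6 13 8 24 8 24 24 0 5 5 0 27 7 6 0 1 70 1) (@D3.rec (fun _ => Nat) 24 0 9 0 1 70 28 0 1 2 1 2 32 3 2 28 2 0 30 4 4 13 1 2 2 0 28 28 0 68 2 2) (@D3.rec (fun _ => Nat) 7 24 7 4 4 13 5 28 0 1 8 68 13 13 24 24 72 5 72 78 1 24 71 0 1 2 24 72 1 2 3 16) (@D3.rec (fun _ => Nat) 2 67 5 2 68 0 17 4 4 14 0 71 6 6 77 1 2 2 0 5 5 0 2 16 2 3 3 0 1 15 0 1) (@D3.rec (fun _ => Nat) 69 69 75 2 13 23 13 16 16 14 6 6 14 8 14 8 14 14 76 5 5 0 7 7 75 6 0 1 70 1 14 9) (@D3.rec (fun _ => Nat) 69 72 13 23 13 23 23 71 16 16 75 7 7 76 14 9 14 14 67 14 14 0 6 0 1 8 75 68 1 14 0 1) (@D3.rec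 (fun _ => Nat) 2 68 3 16 2 78 16 1 2 3 16 2 4 4 70 14 14 14 70 0 72 1 2 2 0 5 5 0 1 2 2 0) (@D3.rec (fun _ => Nat) 72 72 0 2 16 2 3 3 0 1 6 0 1 7 3 16 3 16 0 4 0 1 81 81 1 77 15 9 15 15 74 15) (@D3.rec (fun _ => Nat) 15 0 6 0 1 69 0 1 70 1 15 15 15 15 74 29 15 0 15 0 1 72 1 5 70 1 75 72 1 2 77 81) (@D3.rec (fun _ => Nat) 76 1 0 1 2 3 17 0 4 0 71 1 2 2 0 5 72 78 2 17 2 3 3 80 1 25 0 1 17 5 69 70)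
def lv_d_8 : D2 → D3 → Nat := @D2.rec (fun _ => D3 → Nat) (@D3.rec (fun _ => Nat) 70 70 1 24 29 68 1 2 1 2 2 17 2 3 3 79 1 25 0 1 78 1 24 1 2 3 17 2 0 4 17 17) (@D3.rec (fun _ => Nat) 1 2 5 1 2 73 2 17 2 3 3 0 1 70 0 1 7 3 17 3 17 76 4 0 1 75 70 1 76 17 17 68) (@D3.rec (fun _ => Nat) 1 15 15 17 1 2 3 17 2 4 17 69 80 17 2 17 17 16 78 2 17 2 3 3 0 1 25 0 1 6 3 17) (@D3.rec (fun _ => Nat) 3 17 0 4 0 1 4 70 1 5 7 4 17 77 73 0 1 70 1 75 16 76 75 0 1 2 17 3 2 0 17 4) (@D3.rec (fun _ => Nat) 4 32 1 2 2 0 70 29 0 24 26 2 7 25 7 4 4 32 68 5 0 70 0 1 8 0 24 26 32 25 0 5) (@D3.rec (fun _ => Nat) 0 68 0 1 73 1 25 1 1 2 3 26 2 0 17 4 4 32 1 2 2 0 5 5 0 2 26 2 3 3 0 1) (@D3.rec (fun _ => Nat) 29 0 1 26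 26 32 5 5 0 6 0 1 0 1 14 26 0 6 0 1 0 1 14 1 14 7 14 26 2 2 26 2) (@D3.rec (fun _ => Nat) 3 3 0 1 73 0 1 7 3 26 3 26 0 4 0 1 4 0 1 5 0 1 15 1 15 7 15 1 15 8 15 77) (@D3.rec (fun _ => Nat) 77 71 79 15 82 71 2 73 27 25 25 32 2 71 71 32 25 25 84 2 71 71 32 32 71 73 25 78 1 32 71 71) (@D3.rec (fun _ => Nat) 76 25 25 32 25 25 72 25 80 1 0 3 0 1 2 0 1 2 33 3 2 5 2 0 31 4 4 31 1 2 79 84) (@D3.rec (fun _ => Nat) 15 15 82 0 1 2 24 24 2 1 2 7 5 2 7 69 7 4 4 31 6 73 5 5 0 15 0 1 8 25 2 8) (@D3.rec (fun _ => Nat) 8 71 8 8 0 1 2 24 24 2 24 28 24 24 24 31 8 25 2 8 8 6 68 8 69 8 28 69 0 5 5 0) (@D3.rec (fun _ => Nat) 0 6 0 1 77 1 80 9 25 75 9 9 0 9 0 1 70 13 76 74 73 0 1 2 25 0 1 2 3 24 2 1) (@D3.rec (fun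 _ => Nat) 2 29 5 2 33 0 31 4 4 31 0 31 6 6 73 1 2 2 0 5 5 0 2 24 2 3 3 80 1 15 0 1) (@D3.rec (fun _ => Nat) 71 1 2 13 24 2 13 69 13 24 24 31 25 2 8 25 8 6 6 73 8 25 8 25 25 74 5 5 0 7 7 0) (@D3.rec (fun _ => Nat) 6 0 1 77 1 25 9 9 9 67 2 13 24 70 13 13 30 69 71 24 24 0 25 70 9 9 25 69 7 7 0 25) (@D3.rec (fun _ => Nat) 9 25 25 76 25 25 0 6 0 1 8 0 1 77 1 25 10 75 0 1 2 3 24 2 72 69 5 24 2 4 0 4) (@D3.rec (fun _ => Nat) 24 72 74 70 0 1 72 14 14 24 14 71 14 71 14 73 75 28 25 68 2 72 70 25 2 75 25 77 77 72 25 25) (@D3.rec (fun _ => Nat) 79 1 0 1 2 1 2 34 3 2 0 30 4 1 2 79 76 28 78 2 7 2 7 7 4 13 76 1 8 8 13 8) (@D3.rec (fun _ => Nat) 8 0 13 8 13 8 8 0 71 0 9 0 1 75 71 0 1 2 0 1 2 3 17 2 1 2 67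 5 2 18 0 18) (@D3.rec (fun _ => Nat) 4 4 14 0 71 6 6 1 2 2 0 5 5 0 2 17 2 3 3 79 1 16 0 1 1 2 24 2 24 76 24 17) (@D3.rec (fun _ => Nat) 76 14 25 2 8 25 8 6 6 14 8 25 8 25 25 0 5 5 0 29 7 6 0 1 72 1 25 9 0 9 0 1)
def lv_d_9 : D2 → D3 → Nat := @D2.rec (fun _ => D3 → Nat) (@D3.rec (fun _ => Nat) 2 24 71 24 24 76 0 74 77 25 75 25 0 7 76 25 9 25 0 25 0 1 6 0 1 29 70 1 1 0 1 25) (@D3.rec (fun _ => Nat) 1 2 3 2 30 2 34 0 30 4 4 14 30 1 2 2 0 5 2 17 2 3 3 78 1 28 0 1 71 68 14 14) (@D3.rec (fun _ => Nat) 25 8 25 25 75 5 72 76 1 25 72 25 0 76 76 0 1 2 3 17 2 76 71 5 76 2 4 0 4 17 17 15) (@D3.rec (fun _ => Nat) 0 69 6 6 15 66 0 68 1 2 2 0 5 5 0 1 2 2 0 7 7 77 2 17 2 3 3 0 1 6 0 1) (@D3.rec (fun _ =>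 Nat) 7 3 17 3 17 78 4 0 1 82 72 1 79 71 73 14 24 14 24 24 74 17 17 77 7 7 71 15 9 15 15 72) (@D3.rec (fun _ => Nat) 15 15 0 6 0 1 8 75 70 1 15 15 24 14 24 69 24 0 17 74 8 73 15 15 72 15 0 15 0 1 71 1) (@D3.rec (fun _ => Nat) 5 72 1 2 3 17 2 4 17 17 2 4 24 4 17 17 16 5 5 15 0 70 1 2 2 0 2 24 2 3 3 0) (@D3.rec (fun _ => Nat) 1 6 0 1 2 17 2 3 3 0 1 74 0 1 6 3 17 3 17 0 4 0 1 4 75 1 5 7 4 17 0 74) (@D3.rec (fun _ => Nat) 1 0 1 16 16 72 16 16 0 16 0 1 74 1 5 72 1 77 16 29 16 0 31 0 1 72 1 5 2 1 3 18) (@D3.rec (fun _ => Nat) 2 0 18 1 2 5 1 2 71 2 18 2 3 3 0 1 72 75 7 3 18 3 4 79 77 1 29 70 18 2 2 18) (@D3.rec (fun _ => Nat) 75 3 18 3 75 78 76 1 18 2 0 4 18 18 16 1 2 2 18 18 2 5 3 2 18 3 6 3 18 3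 18 0) (@D3.rec (fun _ => Nat) 4 0 1 4 70 1 5 7 4 18 77 0 1 79 18 16 18 2 4 18 16 18 17 18 18 0 25 3 18 3 18 0) (@D3.rec (fun _ => Nat) 4 0 1 4 72 1 5 8 4 18 78 0 1 0 1 5 4 6 75 74 1 77 1 2 3 27 2 18 0 18 4 4) (@D3.rec (fun _ => Nat) 32 1 2 2 0 70 5 0 2 27 2 3 3 80 1 72 0 1 25 25 27 32 26 8 26 0 5 0 70 0 1 73) (@D3.rec (fun _ => Nat) 1 26 0 1 0 0 0 1 0 1 73 1 26 26 3 27 2 0 4 27 27 32 1 2 2 0 5 5 0 2 27 2) (@D3.rec (fun _ => Nat) 3 3 0 1 6 0 1 7 3 27 3 27 80 4 0 1 77 0 1 82 27 0 6 0 1 0 1 15 1 15 7 15) (@D3.rec (fun _ => Nat) 0 1 0 1 78 1 15 8 15 15 27 27 32 6 3 27 3 27 0 4 0 1 4 0 1 5 7 4 27 0 72 1) (@D3.rec (fun _ => Nat) 0 1 5 4 1 6 7 83 1 16 8 16 80 79 16 81 81 16 81 71 71 76 33 73 26 26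 33 71 73 26 78 33) (@D3.rec (fun _ => Nat) 78 71 78 71 78 26 80 80 1 2 0 1 2 3 25 2 1 2 35 5 2 35 0 35 4 4 33 6 73 1 2 2) (@D3.rec (fun _ => Nat) 72 5 5 0 2 3 75 16 81 1 2 25 25 2 25 28 25 25 25 33 8 26 2 8 8 6 75 8 69 8 30 69) (@D3.rec (fun _ => Nat) 0 5 5 0 0 6 0 1 72 1 9 9 26 77 9 9 0 9 0 1 2 25 25 68 25 25 28 0 25 0 9 26) (@D3.rec (fun _ => Nat) 75 9 9 0 0 73 9 69 0 71 74 1 6 0 1 1 1 71 7 10 1 0 1 78 78 74 0 1 2 3 25 2)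
def lv_d_10 : D2 → D3 → Nat := @D2.rec (fun _ => D3 → Nat) (@D3.rec (fun _ => Nat) 73 1 2 5 25 2 4 0 4 25 25 33 69 26 2 70 0 31 6 6 75 68 0 31 1 2 2 0 5 5 0 1) (@D3.rec (fun _ => Nat) 2 2 74 7 7 0 2 25 2 3 3 0 1 6 0 1 7 3 25 3 4 79 79 1 69 2 14 14 25 75 14 69) (@D3.rec (fun _ => Nat) 14 30 69 76 25 25 0 26 77 9 26 9 26 78 7 7 0 26 9 26 26 76 26 26 0 6 0 1 8 0 1 79) (@D3.rec (fun _ => Nat) 1 26 10 72 73 0 14 76 30 0 25 0 1 0 10 74 0 8 0 1 26 26 76 26 0 26 0 1 75 1 5 1) (@D3.rec (fun _ => Nat) 26 26 26 1 2 5 25 2 4 77 4 25 25 31 74 6 80 6 25 5 0 5 1 84 1 15 15 71 77 26 76 68) (@D3.rec (fun _ => Nat) 74 77 79 1 2 3 2 34 2 34 0 34 4 14 1 2 2 77 78 14 8 8 14 8 8 0 75 9 0 9 0 1) (@D3.rec (fun _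 => Nat) 0 9 0 1 1 0 1 74 0 1 2 3 18 2 1 2 5 2 4 0 4 18 76 15 67 26 2 65 0 67 6 6) (@D3.rec (fun _ => Nat) 15 66 0 19 1 2 2 0 5 5 0 1 2 2 27 7 2 18 2 3 3 0 1 6 0 1 7 3 18 3 4 77) (@D3.rec (fun _ => Nat) 72 1 2 25 25 75 25 75 25 76 0 76 77 26 77 26 9 26 0 7 76 26 9 26 26 0 26 0 1 6 0 1) (@D3.rec (fun _ => Nat) 29 70 1 0 1 0 1 26 75 0 25 0 77 1 77 0 0 1 76 26 0 0 1 0 1 80 75 1 26 1 3 18) (@D3.rec (fun _ => Nat) 2 4 4 15 32 15 0 32 1 2 2 0 5 74 2 18 2 3 1 7 3 18 3 4 78 76 1 70 77 26 26 77) (@D3.rec (fun _ => Nat) 26 0 76 0 1 1 2 5 18 2 4 0 4 18 18 16 0 6 74 74 5 0 5 1 2 2 0 18 18 77 1 2) (@D3.rec (fun _ => Nat) 2 0 7 7 76 0 68 1 2 2 0 2 5 2 3 3 0 1 6 0 1 2 18 2 3 3 0 1 8 77 6 3) (@D3.rec (fun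 _ => Nat) 18 3 18 0 4 0 1 4 70 1 5 7 4 18 77 0 1 77 25 15 25 25 74 25 0 18 77 8 75 16 16 74) (@D3.rec (fun _ => Nat) 16 16 0 16 0 1 75 1 5 72 16 25 74 0 0 1 77 70 16 0 0 1 75 1 5 18 2 4 18 16 18 17) (@D3.rec (fun _ => Nat) 5 25 5 25 25 71 18 18 0 6 1 2 2 78 2 25 2 3 3 0 1 26 3 25 3 25 0 4 0 1 4 77) (@D3.rec (fun _ => Nat) 1 5 26 3 18 3 18 0 4 0 1 4 72 1 5 8 4 18 0 0 1 0 1 5 4 6 0 85 79 1 1 31) (@D3.rec (fun _ => Nat) 17 0 17 0 1 72 1 5 6 79 31 0 1 72 1 26 74 19 0 19 19 73 1 2 31 2 5 3 2 19 3 6) (@D3.rec (fun _ => Nat) 3 19 3 19 0 76 0 1 4 77 75 4 79 19 16 19 19 78 19 73 1 2 2 77 19 19 0 2 5 2 3 3) (@D3.rec (fun _ => Nat) 19 25 3 6 6 26 3 19 19 8 4 19 76 0 1 0 1 5 4 6 6 1 19 19 17 25 0 0 19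 0 1 26) (@D3.rec (fun _ => Nat) 4 19 0 0 1 0 1 5 4 6 6 81 80 1 1 6 3 28 2 4 0 4 28 34 0 19 1 2 2 0 5 0) (@D3.rec (fun _ => Nat) 2 28 2 3 3 0 1 70 0 1 7 3 28 3 4 84 75 1 26 0 0 27 0 0 1 0 1 75 1 27 1 27)
def lv_d_11 : D2 → D3 → Nat := @D2.rec (fun _ => D3 → Nat) (@D3.rec (fun _ => Nat) 1 1 1 4 1 5 27 0 4 28 28 34 1 2 2 0 28 0 2 5 2 3 3 0 1 6 0 1 6 3 28 3) (@D3.rec (fun _ => Nat) 28 0 4 0 1 4 0 1 5 7 4 28 78 0 1 1 81 7 0 1 0 1 77 1 16 8 16 16 1 1 78 76) (@D3.rec (fun _ => Nat) 75 16 28 28 0 8 4 28 0 0 1 0 1 5 4 1 6 8 6 0 0 74 1 1 6 9 17 17 73 76 75 27) (@D3.rec (fun _ => Nat) 73 78 73 3 26 2 1 2 69 26 2 4 0 4 26 26 33 69 27 2 35 71 35 6 71 35 0 35 1 2 2 0) (@D3.rec (fun _ => Nat) 5 5 0 0 2 26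 2 3 3 0 6 0 1 7 3 79 82 2 26 26 26 73 26 30 26 30 0 26 0 9 9 27) (@D3.rec (fun _ => Nat) 73 9 9 0 0 75 9 30 71 0 73 72 1 6 0 1 1 1 73 7 10 10 0 1 0 1 78 77 0 0 26 0) (@D3.rec (fun _ => Nat) 78 1 0 1 77 0 10 0 1 1 71 0 75 1 75 72 74 1 70 8 73 1 1 2 5 2 4 0 4 26 26 33) (@D3.rec (fun _ => Nat) 69 6 2 6 0 6 26 73 5 0 5 1 2 2 0 26 26 0 0 71 27 73 68 0 70 1 2 2 0 7 7 0) (@D3.rec (fun _ => Nat) 0 68 1 2 2 0 2 5 2 3 3 0 1 6 0 1 2 2 3 3 0 8 0 1 6 3 26 3 26 0 4 0) (@D3.rec (fun _ => Nat) 1 4 79 1 5 7 4 82 75 15 76 0 15 30 71 74 30 0 26 0 1 0 10 27 74 0 8 0 1 27 27 72) (@D3.rec (fun _ => Nat) 27 27 0 27 0 1 73 1 5 1 27 27 27 1 74 71 1 79 1 79 1 74 1 74 1 5 27 0 77 1 0 1) (@D3.rec (fun _ => Nat) 5 77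 72 27 27 27 2 6 80 6 26 26 70 5 76 5 80 71 26 26 0 7 6 1 76 75 74 3 2 4 15 36) (@D3.rec (fun _ => Nat) 36 15 36 36 1 2 0 75 2 72 9 0 9 0 1 0 1 0 1 74 1 0 1 1 1 2 5 19 2 4 0 4) (@D3.rec (fun _ => Nat) 19 19 16 6 2 6 6 75 5 0 5 1 2 2 0 76 75 0 69 27 73 0 67 1 2 2 0 7 78 0 66 1) (@D3.rec (fun _ => Nat) 2 2 0 2 5 2 3 3 0 1 6 0 1 2 19 2 3 3 31 6 3 19 3 19 0 4 0 1 4 72 1 5) (@D3.rec (fun _ => Nat) 7 4 80 77 26 0 26 78 0 78 1 74 0 27 0 0 1 78 27 0 27 0 1 0 1 80 74 1 1 27 1 20) (@D3.rec (fun _ => Nat) 27 1 0 1 1 1 78 0 1 1 1 4 70 4 19 16 5 0 0 1 2 2 0 2 68 2 3 0 1 76 6 19) (@D3.rec (fun _ => Nat) 3 19 77 79 74 73 7 76 4 79 75 27 0 0 1 1 2 0 6 19 71 5 0 5 1 2 2 0 19 19 0 1) (@D3.rec (fun _ => Nat)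 2 0 0 6 1 2 2 0 2 5 2 3 3 0 1 19 79 2 8 2 3 3 0 1 8 75 1 2 2 0 2 6) (@D3.rec (fun _ => Nat) 2 3 3 0 1 16 3 6 3 6 0 4 0 1 4 77 1 5 27 3 19 3 19 0 4 0 1 4 78 8 4 19) (@D3.rec (fun _ => Nat) 0 0 1 0 1 5 4 6 6 0 77 1 26 72 26 0 0 1 79 76 17 0 17 0 1 71 1 5 6 0 1 1) (@D3.rec (fun _ => Nat) 0 1 1 76 19 19 17 72 0 0 26 6 26 26 74 26 26 0 19 0 1 2 26 2 3 3 0 27 3 26 3 26)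
def lv_d_12 : D2 → D3 → Nat := @D2.rec (fun _ => D3 → Nat) (@D3.rec (fun _ => Nat) 0 4 0 1 4 27 4 26 0 0 1 0 1 5 4 5 6 27 4 19 0 0 1 0 1 5 4 6 6 0 0 79) (@D3.rec (fun _ => Nat) 1 1 7 18 1 6 1 31 0 1 74 1 11 27 6 74 1 1 20 0 2 5 3 26 3 6 6 27 3 20 20 20) (@D3.rec (fun _ => Nat) 0 1 72 1 4 0 20 0 2 28 2 3 0 20 0 1 26 3 6 3 6 79 4 7 20 79 1 77 1 6 6 74) (@D3.rec (fun _ => Nat) 20 0 1 1 1 26 74 77 0 1 1 1 6 27 6 4 0 4 29 29 34 5 1 2 0 0 1 2 0 2 5 2) (@D3.rec (fun _ => Nat) 3 0 1 0 1 6 3 29 3 29 0 4 0 1 4 75 1 5 7 4 80 0 1 1 0 1 1 4 1 5 28 20) (@D3.rec (fun _ => Nat) 28 28 68 70 5 4 78 1 2 2 0 29 29 0 2 5 2 3 0 1 0 1 29 3 6 3 6 0 4 0 1 4) (@D3.rec (fun _ => Nat) 0 1 5 8 4 29 0 0 1 0 1 5 4 1 6 8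 6 0 82 1 9 82 0 1 1 75 78 77 17 17 75 29) (@D3.rec (fun _ => Nat) 0 1 0 0 0 1 1 72 18 1 6 8 6 28 7 7 1 1 4 0 4 27 27 35 67 2 69 0 69 27 73 5) (@D3.rec (fun _ => Nat) 0 5 1 2 2 0 27 0 69 71 69 28 75 68 37 71 0 0 0 37 1 2 2 0 2 5 2 3 3 0 1 6) (@D3.rec (fun _ => Nat) 0 1 1 6 3 27 3 27 0 4 1 1 5 75 27 0 0 27 28 0 78 1 0 1 10 77 0 10 0 1 1 71) (@D3.rec (fun _ => Nat) 0 73 76 1 71 76 76 1 76 8 73 1 1 33 80 1 1 0 1 78 1 76 1 74 1 72 1 77 83 6 2 6) (@D3.rec (fun _ => Nat) 6 75 5 0 5 1 2 2 0 27 27 0 7 75 7 1 2 0 0 6 1 2 2 0 2 5 2 3 3 0 1 27) (@D3.rec (fun _ => Nat) 0 1 1 2 0 0 70 1 2 0 2 2 3 3 0 1 8 0 1 1 2 2 0 2 6 2 3 3 0 1 16 3) (@D3.rec (fun _ => Nat) 6 3 6 0 4 0 1 4 77 1 5 3 3 0 4 0 1 1 5 8 4 27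 0 0 1 0 1 5 4 6 6 76) (@D3.rec (fun _ => Nat) 1 74 32 0 78 1 79 1 81 1 76 0 1 76 1 5 28 0 28 0 1 0 1 5 6 6 28 28 28 28 28 79) (@D3.rec (fun _ => Nat) 76 73 5 69 69 77 1 1 77 77 72 73 7 79 72 27 0 73 6 78 76 80 27 0 1 4 16 0 36 0 36 0) (@D3.rec (fun _ => Nat) 2 0 1 72 0 1 0 1 1 1 34 76 1 6 2 6 75 6 77 78 5 69 5 1 76 2 0 20 0 7 75 7) (@D3.rec (fun _ => Nat) 0 6 1 2 0 2 5 2 3 0 1 76 1 2 0 0 1 2 0 2 78 2 3 0 1 78 1 2 0 2 69 2) (@D3.rec (fun _ => Nat) 3 0 1 17 3 6 3 6 0 4 0 1 4 72 1 5 28 3 20 3 20 78 4 8 4 20 0 0 1 0 1 5) (@D3.rec (fun _ => Nat) 4 6 0 1 0 83 1 1 0 1 1 80 0 1 0 1 10 76 1 69 28 70 0 1 1 5 73 0 0 0 1 1) (@D3.rec (fun _ => Nat) 2 70 2 3 0 1 30 68 3 70 0 0 1 4 77 8 20 77 77 74 0 1 1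 77 1 78 0 0 0 6 1 2) (@D3.rec (fun _ => Nat) 2 0 2 19 2 75 3 0 1 20 0 1 2 8 1 1 2 0 2 6 2 3 0 1 17 3 6 3 6 0 4 0)
def lv_d_13 : D2 → D3 → Nat := @D2.rec (fun _ => D3 → Nat) (@D3.rec (fun _ => Nat) 1 4 74 71 3 71 3 9 0 4 0 1 4 72 2 7 2 3 0 1 17 3 7 3 7 0 4 0 1 4 17 4) (@D3.rec (fun _ => Nat) 7 0 0 1 0 1 5 4 5 6 6 28 4 20 0 0 1 0 1 4 0 0 79 1 1 7 19 1 6 6 77 1) (@D3.rec (fun _ => Nat) 0 0 1 1 0 1 73 1 11 17 6 1 81 1 20 0 1 1 27 27 76 27 27 0 27 82 1 0 1 5 28 3) (@D3.rec (fun _ => Nat) 27 3 27 0 4 0 1 28 4 27 0 0 1 0 1 11 4 5 0 0 81 1 1 7 74 1 6 28 5 0 0 0) (@D3.rec (fun _ => Nat) 1 1 71 73 1 6 28 6 1 1 8 74 1 12 12 28 12 0 1 27 3 6 6 7 21 1 1 1 27 29 3 29) (@D3.rec (fun _ => Nat) 0 0 1 1 5 27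 4 7 79 82 77 1 27 27 29 27 1 40 5 1 39 2 0 30 0 0 5 2 0 1 1 37) (@D3.rec (fun _ => Nat) 2 0 1 29 35 3 6 0 0 1 4 1 5 8 4 30 0 0 1 0 1 5 4 6 6 1 70 72 1 10 4 5) (@D3.rec (fun _ => Nat) 4 82 6 29 0 2 19 2 70 3 0 1 30 0 1 70 6 3 6 0 0 1 4 1 5 36 4 7 0 0 1 0) (@D3.rec (fun _ => Nat) 1 5 4 5 1 6 76 6 0 0 0 1 1 7 19 1 6 8 6 34 7 7 0 7 1 1 80 82 0 1 72 1) (@D3.rec (fun _ => Nat) 1 1 74 78 81 85 72 83 7 7 29 5 36 5 1 38 2 0 28 0 69 73 71 1 2 0 0 6 1 2 0 2) (@D3.rec (fun _ => Nat) 5 2 3 0 1 0 1 69 73 0 0 70 0 0 1 1 1 2 0 2 30 2 3 0 1 17 3 30 3 6 0 4) (@D3.rec (fun _ => Nat) 0 1 4 82 1 5 76 4 28 82 0 1 5 84 6 0 1 1 0 73 1 80 1 78 77 1 75 1 73 1 77 10) (@D3.rec (fun _ => Nat) 78 75 72 75 35 35 0 1 72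 7 75 7 0 71 6 1 2 0 2 2 71 3 0 1 28 0 1 0 0 2 0 1) (@D3.rec (fun _ => Nat) 1 0 2 6 2 3 0 1 17 3 6 3 6 0 4 0 1 4 79 1 5 2 0 1 1 0 2 0 1 3 3 0) (@D3.rec (fun _ => Nat) 4 0 1 4 76 1 5 2 70 2 3 0 1 17 3 32 3 7 0 4 0 1 4 17 4 7 0 0 1 0 1 5) (@D3.rec (fun _ => Nat) 4 5 6 6 4 0 1 1 5 6 29 6 78 0 0 1 1 7 79 1 6 6 33 7 7 79 73 1 73 81 1 5) (@D3.rec (fun _ => Nat) 71 71 6 79 1 0 1 11 1 6 17 6 86 77 29 76 77 1 75 76 78 80 1 82 0 1 0 1 0 1 0 1) (@D3.rec (fun _ => Nat) 4 1 1 10 34 34 0 7 76 7 76 0 78 30 6 38 71 0 39 2 71 0 1 0 1 0 0 1 0 2 0 1) (@D3.rec (fun _ => Nat) 35 6 3 6 0 0 1 4 2 0 1 1 2 0 1 3 78 0 0 1 4 30 2 0 1 31 36 3 72 0 0 1) (@D3.rec (fun _ => Nat) 10 4 75 4 7 0 0 1 0 1 5 4 5 6 29 4 21 75 81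 77 0 79 1 1 7 20 1 6 77 1 1 11) (@D3.rec (fun _ => Nat) 1 11 74 1 11 1 11 0 0 1 0 0 1 1 1 75 74 3 70 0 0 1 4 35 68 0 0 1 1 4 5 80) (@D3.rec (fun _ => Nat) 75 1 11 71 0 1 1 1 2 0 2 70 2 3 0 1 29 36 3 20 0 73 0 1 4 0 1 5 9 81 7 2)
def lv_d_14 : D2 → D3 → Nat := @D2.rec (fun _ => D3 → Nat) (@D3.rec (fun _ => Nat) 0 1 37 7 3 7 0 0 1 4 18 4 7 0 0 1 0 1 4 5 71 4 72 0 0 1 0 1 4 5 31 38) (@D3.rec (fun _ => Nat) 3 8 0 0 1 4 18 4 8 0 0 1 0 1 11 4 5 0 0 0 1 1 7 20 1 6 18 6 81 5 6 0) (@D3.rec (fun _ => Nat) 0 0 1 1 73 1 29 1 1 8 8 20 8 0 78 1 1 12 83 1 12 12 18 12 77 1 73 28 78 28 1 82) (@D3.rec (fun _ => Nat) 5 1 86 18 6 29 4 28 0 0 1 0 1 12 0 0 81 1 1 18 72 1 12 12 80 5 1 1 83 8 79 29) (@D3.rec (fun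 _ => Nat) 1 1 1 73 80 78 13 13 1 79 7 77 84 28 30 0 0 1 1 5 6 30 6 0 74 76 28 28 28 40 0 2) (@D3.rec (fun _ => Nat) 41 0 1 0 1 1 6 0 1 4 5 39 0 1 10 4 75 37 0 0 1 1 5 4 5 6 6 75 0 0 1 1) (@D3.rec (fun _ => Nat) 7 20 1 6 6 85 7 11 70 80 11 4 0 84 6 1 3 20 0 70 0 1 4 0 1 5 74 7 0 0 1 1) (@D3.rec (fun _ => Nat) 5 4 5 6 0 0 0 1 1 7 20 1 6 36 6 34 5 6 7 7 0 7 1 1 1 8 76 8 20 8 0 7) (@D3.rec (fun _ => Nat) 7 83 7 34 1 74 83 1 82 78 74 80 76 81 79 83 77 85 30 6 36 0 2 38 0 1 0 1 0 0 2 0) (@D3.rec (fun _ => Nat) 1 1 0 2 0 1 3 6 0 0 1 4 1 5 0 0 1 1 0 1 1 4 5 2 0 1 3 0 0 1 10 4) (@D3.rec (fun _ => Nat) 4 36 0 0 1 0 1 5 4 5 6 6 80 75 1 7 6 7 1 1 11 78 78 11 11 0 74 1 0 0 1 71) (@D3.rec (fun _ => Nat)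 0 2 0 1 3 0 70 0 1 4 83 1 5 1 1 0 1 4 5 1 3 7 0 0 1 4 18 4 7 0 0 1) (@D3.rec (fun _ => Nat) 0 1 5 4 5 6 6 0 1 4 5 1 0 1 4 4 0 1 0 1 5 4 5 6 69 6 3 72 0 0 1 4) (@D3.rec (fun _ => Nat) 18 4 36 0 0 1 0 1 11 4 5 0 0 0 1 1 7 35 1 6 18 6 35 5 6 7 7 78 1 9 6 30) (@D3.rec (fun _ => Nat) 6 7 82 1 1 8 8 77 8 0 7 7 35 84 12 73 85 12 6 83 12 1 12 18 12 80 18 80 1 75 1 74) (@D3.rec (fun _ => Nat) 1 10 70 1 4 5 11 11 1 0 0 0 1 37 0 40 0 1 39 0 0 1 4 1 5 1 1 79 1 0 1 11) (@D3.rec (fun _ => Nat) 4 37 7 0 0 1 1 4 5 0 1 4 5 0 1 11 4 0 0 1 1 4 5 30 0 1 11 4 37 36 0 0) (@D3.rec (fun _ => Nat) 1 1 11 4 0 5 0 0 0 1 1 7 21 1 6 19 82 5 6 0 75 79 1 8 8 21 0 12 12 12 0 12) (@D3.rec (fun _ => Nat) 12 1 1 12 1 1 4 5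 73 77 76 0 0 1 1 11 4 5 0 0 1 1 36 35 5 6 12 71 1 4 5 2) (@D3.rec (fun _ => Nat) 0 1 3 72 0 0 1 4 31 36 0 0 1 0 1 5 4 5 1 6 19 6 80 8 0 1 4 39 8 0 0 1) (@D3.rec (fun _ => Nat) 1 12 4 5 0 0 0 1 1 7 1 19 5 6 0 0 0 1 1 71 1 73 5 6 37 38 0 0 1 1 12 4) (@D3.rec (fun _ => Nat) 5 0 0 0 1 1 18 72 1 12 19 12 75 5 6 1 1 1 8 4 8 21 8 0 21 19 80 19 78 80 6 1)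
def lv_d_15 : D2 → D3 → Nat := @D2.rec (fun _ => D3 → Nat) (@D3.rec (fun _ => Nat) 1 1 77 73 9 1 13 13 83 13 13 73 18 6 81 7 0 0 81 1 1 19 1 13 13 1 1 19 19 74 19 0) (@D3.rec (fun _ => Nat) 82 84 77 83 31 83 81 78 0 1 1 21 6 29 6 7 82 7 1 29 0 1 0 0 1 4 1 5 11 70 0 1) (@D3.rec (fun _ => Nat) 5 4 5 6 0 1 11 4 0 5 0 0 1 1 7 21 6 72 6 36 5 6 7 1 1 8 8 21 8 0 7 80) (@D3.rec (fun _ => Nat) 0 12 0 1 12 0 0 1 0 1 5 4 5 1 6 78 6 0 0 1 1 30 7 6 74 36 5 6 1 1 1 8) (@D3.rec (fun _ => Nat) 4 8 21 8 0 21 7 72 7 0 36 7 36 36 6 1 9 9 9 76 9 0 9 0 9 0 1 36 9 84 74 81) (@D3.rec (fun _ => Nat) 79 85 83 0 0 1 0 0 1 4 1 5 1 1 0 1 4 5 1 0 1 11 4 0 0 1 1 5 4 5 6 6) (@D3.rec (fun _ => Nat) 1 1 4 5 1 11 80 5 4 5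 0 1 11 4 0 1 1 4 0 5 0 0 1 1 7 37 1 6 19 6 35 5) (@D3.rec (fun _ => Nat) 6 7 8 8 7 12 12 0 1 12 1 1 73 0 1 0 1 4 0 1 0 1 5 4 5 6 19 6 71 71 1 5) (@D3.rec (fun _ => Nat) 4 5 6 73 0 0 1 1 12 4 5 0 0 0 1 1 28 7 1 6 19 6 35 5 6 7 7 1 5 4 5 75) (@D3.rec (fun _ => Nat) 1 12 4 5 0 1 9 76 1 6 71 6 74 5 6 7 86 0 0 1 1 12 4 5 0 0 0 1 1 29 37 1) (@D3.rec (fun _ => Nat) 12 19 12 82 5 6 1 1 1 8 4 8 37 8 0 37 19 7 81 19 7 35 35 6 10 73 10 7 85 81 9 9) (@D3.rec (fun _ => Nat) 9 0 9 0 1 35 13 13 0 80 75 77 11 75 78 11 70 81 72 36 5 6 78 1 1 1 4 0 1 0 1 28) (@D3.rec (fun _ => Nat) 4 0 1 1 5 4 5 6 20 6 35 12 83 82 12 32 1 4 83 5 0 0 1 1 7 20 5 6 1 5 4 5) (@D3.rec (fun _ => Nat) 1 12 4 0 5 1 1 71 31 5 6 0 1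 12 4 87 5 0 0 1 1 29 22 12 20 84 5 1 2 6 1 1) (@D3.rec (fun _ => Nat) 1 8 4 8 22 0 22 20 76 20 83 6 1 0 1 1 12 13 13 79 5 4 5 76 79 78 1 1 29 36 12 72) (@D3.rec (fun _ => Nat) 81 5 6 1 1 4 36 36 37 6 5 4 5 6 0 1 4 0 0 1 1 18 4 5 0 0 1 1 21 7 1 6) (@D3.rec (fun _ => Nat) 20 6 19 5 6 7 7 0 7 84 0 1 13 4 5 0 0 1 1 28 8 13 20 75 5 6 1 1 1 4 8 8) (@D3.rec (fun _ => Nat) 20 20 6 1 1 1 4 73 75 31 73 6 0 0 1 1 19 70 13 20 13 75 5 6 1 1 1 19 4 19 72 19) (@D3.rec (fun _ => Nat) 0 76 20 79 20 75 75 6 9 4 35 36 81 5 79 22 81 1 2 22 20 83 20 80 83 11 14 89 19 7 86 1) (@D3.rec (fun _ => Nat) 1 20 20 20 20 0 0 1 83 84 86 86 1 22 22 22 7 88 7 22 1 29 4 1 1 5 4 5 6 72 6 0) (@D3.rec (fun _ => Nat) 72 1 31 7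 6 36 5 6 1 30 22 12 0 5 1 2 6 1 1 8 4 8 22 8 0 22 80 76 7 36 36 6) (@D3.rec (fun _ => Nat) 9 9 0 9 0 1 84 1 1 12 13 1 1 31 7 1 6 79 6 36 5 6 7 7 0 7 1 1 31 4 31 8)
def lv_d_16 : D2 → D3 → Nat := @D2.rec (fun _ => D3 → Nat) (@D3.rec (fun _ => Nat) 0 8 82 73 36 6 9 4 9 37 9 37 9 0 5 9 0 22 9 0 1 2 22 82 74 80 1 2 38 36 36 36) (@D3.rec (fun _ => Nat) 9 10 0 1 10 0 1 0 1 82 87 1 1 29 4 1 1 5 4 5 6 20 6 69 12 32 1 5 4 5 12 31) (@D3.rec (fun _ => Nat) 1 4 0 5 1 1 29 7 6 20 6 37 5 6 34 5 4 5 79 81 77 74 5 6 1 4 79 5 1 72 20 5) (@D3.rec (fun _ => Nat) 1 2 6 1 1 85 8 72 8 78 37 20 85 20 7 37 37 6 9 1 12 71 80 73 1 4 1 4 5 1 29 7) (@D3.rec (fun _ => Nat) 1 6 20 6 37 5 6 0 7 71 75 29 71 6 76 5 6 75 1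 1 76 8 20 80 5 6 1 1 1 29 4 29) (@D3.rec (fun _ => Nat) 70 29 0 8 20 7 83 20 7 83 37 6 30 73 81 5 6 74 30 74 13 80 5 6 1 10 71 10 75 78 30 7) (@D3.rec (fun _ => Nat) 0 71 85 76 76 6 1 1 30 72 20 82 5 6 1 1 1 30 4 30 37 30 0 37 13 20 0 20 82 84 6 4) (@D3.rec (fun _ => Nat) 37 9 36 9 84 5 9 0 37 9 0 1 2 37 20 80 78 20 37 37 37 11 0 11 10 10 0 1 0 1 1 77) (@D3.rec (fun _ => Nat) 77 79 74 78 83 70 79 72 38 6 79 77 29 71 4 5 1 29 4 1 29 4 0 5 1 7 6 21 6 76 5 6) (@D3.rec (fun _ => Nat) 7 0 7 35 81 79 81 84 31 75 5 83 6 1 1 4 8 8 21 6 30 71 81 5 6 30 69 82 5 1 2 6) (@D3.rec (fun _ => Nat) 71 71 71 33 6 1 30 70 80 5 84 6 1 1 30 4 30 23 0 23 73 21 81 6 2 23 3 4 37 36 77 5) (@D3.rec (fun _ => Nat) 0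 23 1 2 23 21 80 21 77 1 13 13 14 79 19 5 6 76 30 39 30 38 0 38 76 74 81 6 4 39 5 38) (@D3.rec (fun _ => Nat) 38 37 6 79 5 6 7 1 4 5 1 1 29 8 78 19 76 5 6 1 1 22 4 22 8 22 77 8 7 21 7 0) (@D3.rec (fun _ => Nat) 21 7 81 20 6 8 1 1 29 9 14 75 5 6 1 1 29 4 29 9 0 9 79 21 77 6 22 4 37 36 5 9) (@D3.rec (fun _ => Nat) 9 21 21 11 4 36 36 5 76 77 32 75 1 1 20 4 20 72 20 78 72 81 21 80 75 6 20 4 37 36 80 5) (@D3.rec (fun _ => Nat) 0 75 0 1 2 76 21 77 21 77 75 79 5 37 36 80 6 84 23 80 2 3 21 82 80 20 21 21 1 1 90 89) (@D3.rec (fun _ => Nat) 23 23 23 23 30 4 0 5 32 7 6 72 6 38 5 6 7 0 7 1 2 72 32 45 32 0 8 38 38 6 31 23) (@D3.rec (fun _ => Nat) 31 0 23 82 1 2 6 2 23 3 4 9 37 84 5 9 0 23 9 0 1 2 23 80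 76 38 38 38 10 0 1 0) (@D3.rec (fun _ => Nat) 1 30 31 13 32 70 32 8 32 0 8 7 76 7 0 81 7 38 38 6 8 1 32 4 32 37 0 5 0 9 1 2) (@D3.rec (fun _ => Nat) 9 82 75 38 81 5 84 37 10 0 37 83 1 2 6 10 0 1 2 23 0 1 2 2 3 78 76 83 2 86 3 38) (@D3.rec (fun _ => Nat) 38 1 0 1 32 1 30 38 30 4 0 5 30 7 6 21 6 37 5 6 7 0 7 71 80 32 30 71 76 5 6 78) (@D3.rec (fun _ => Nat) 32 38 5 1 2 6 30 37 30 72 30 0 8 79 21 37 37 6 36 83 5 6 77 84 84 76 6 38 5 80 6 37)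
def lv_d_17 : D2 → D3 → Nat := @D2.rec (fun _ => D3 → Nat) (@D3.rec (fun _ => Nat) 72 21 6 2 81 3 37 38 88 75 74 9 80 82 39 21 86 21 37 37 37 30 73 80 75 4 5 8 5 6 30 44) (@D3.rec (fun _ => Nat) 30 0 8 21 0 21 7 37 37 6 1 73 77 30 0 73 81 76 6 75 38 80 72 82 9 21 78 6 30 4 37 30) (@D3.rec (fun _ => Nat) 38 30 0 5 30 0 74 30 0 1 2 9 21 81 82 21 89 80 37 0 75 84 6 74 31 0 74 82 82 6 37 11) (@D3.rec (fun _ => Nat) 0 73 11 77 75 81 33 76 1 2 73 76 74 37 31 40 0 72 21 83 6 31 4 31 37 31 38 0 5 31 0 39) (@D3.rec (fun _ => Nat) 0 1 2 39 75 21 1 2 21 83 82 5 37 10 83 38 81 84 6 10 0 1 2 39 0 1 2 2 3 21 81 85) (@D3.rec (fun _ => Nat) 37 37 1 0 1 30 1 31 31 79 81 75 77 72 83 38 81 0 71 5 6 30 4 0 5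 30 46 30 0 5 1 2) (@D3.rec (fun _ => Nat) 6 8 8 7 0 22 7 76 76 6 8 0 1 37 83 81 84 34 77 6 81 4 38 5 9 9 22 0 73 83 6 0) (@D3.rec (fun _ => Nat) 73 82 6 2 82 3 75 75 73 39 31 43 0 74 84 6 82 31 4 31 38 0 5 0 24 1 2 24 79 22 81 3) (@D3.rec (fun _ => Nat) 24 24 5 37 38 78 6 1 2 24 2 3 22 78 14 81 20 6 0 41 0 38 1 2 38 81 74 83 5 39 6 38) (@D3.rec (fun _ => Nat) 7 79 83 6 9 5 6 35 30 9 30 0 9 82 20 81 80 6 4 23 38 23 0 5 23 79 9 23 79 79 9 83) (@D3.rec (fun _ => Nat) 22 8 84 1 2 22 86 81 21 30 34 30 0 10 80 77 6 30 4 38 0 5 0 10 1 2 10 81 22 75 80 5) (@D3.rec (fun _ => Nat) 37 38 6 10 22 85 5 38 38 6 76 33 21 4 38 87 5 21 78 76 78 78 72 79 22 80 75 82 5 37 38 82) (@D3.rec (fun _ => Nat) 6 1 2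 77 1 2 2 3 22 81 75 81 6 38 37 80 81 82 3 24 24 31 0 5 1 2 6 33 0 8 7 0) (@D3.rec (fun _ => Nat) 72 7 38 38 6 8 0 1 2 9 3 33 0 45 0 1 2 9 38 38 32 0 24 0 1 2 24 76 2 6 3 79) (@D3.rec (fun _ => Nat) 3 24 24 5 81 41 86 6 10 0 1 2 24 0 1 2 2 3 82 38 0 1 1 31 32 0 72 33 0 9 33 0) (@D3.rec (fun _ => Nat) 1 2 9 83 76 8 84 1 2 81 38 38 38 0 5 0 39 1 2 6 1 2 10 2 3 84 84 6 79 39 82 1) (@D3.rec (fun _ => Nat) 2 39 80 2 3 0 1 2 2 10 3 1 2 2 3 3 84 81 3 84 38 1 33 0 38 31 0 5 1 2 6 31) (@D3.rec (fun _ => Nat) 0 8 7 0 22 7 39 39 6 1 71 83 34 0 73 76 6 74 33 40 6 2 9 3 0 42 0 72 0 1 2 9) (@D3.rec (fun _ => Nat) 79 22 39 39 36 79 6 81 83 74 40 6 82 41 74 22 3 79 39 40 82 79 74 87 84 82 22 85 80 39 73 82)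 (@D3.rec (fun _ => Nat) 5 6 9 6 0 42 0 1 2 9 22 1 2 22 39 39 39 31 0 1 2 73 85 76 39 82 74 80 10 22 80 0) (@D3.rec (fun _ => Nat) 5 39 31 0 38 0 1 2 6 31 0 1 2 74 0 1 2 2 3 22 82 83 84 82 1 2 75 79 0 1 2 76) (@D3.rec (fun _ => Nat) 82 82 39 87 1 2 73 87 77 77 32 81 2 3 76 41 0 40 1 2 74 22 80 0 5 0 39 0 40 1 2 6)
def lv_d_18 : D2 → D3 → Nat := @D2.rec (fun _ => D3 → Nat) (@D3.rec (fun _ => Nat) 0 1 2 39 1 2 2 3 83 22 2 7 3 84 6 38 83 81 38 85 84 0 1 2 2 10 3 1 2 9 2 3) (@D3.rec (fun _ => Nat) 3 83 39 1 32 31 32 32 81 79 79 1 2 73 6 0 5 1 2 6 0 44 31 0 1 2 6 2 3 9 9 8) (@D3.rec (fun _ => Nat) 0 1 2 23 87 76 76 1 83 81 77 5 38 6 10 1 2 73 83 1 2 75 84 3 82 82 75 77 0 43 1 2) (@D3.rec (fun _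 => Nat) 74 85 0 5 0 41 1 2 6 1 2 25 2 3 75 25 25 6 38 39 79 2 3 3 21 1 2 41 1 2 40 2) (@D3.rec (fun _ => Nat) 3 80 6 41 88 83 81 10 6 42 31 0 10 31 0 1 2 10 80 86 83 78 5 24 85 38 85 1 2 6 24 79) (@D3.rec (fun _ => Nat) 79 10 88 79 79 80 23 81 2 3 88 83 31 0 41 0 1 2 11 82 75 0 5 38 1 2 6 1 2 11 2 3) (@D3.rec (fun _ => Nat) 83 83 6 39 39 84 6 38 38 84 5 39 87 6 80 80 76 80 80 83 82 82 6 38 39 82 2 3 2 3 3 81) (@D3.rec (fun _ => Nat) 32 0 1 2 6 2 9 3 34 0 1 2 9 8 0 1 2 74 40 40 40 1 3 10 10 0 1 2 45 1 2 2) (@D3.rec (fun _ => Nat) 3 40 0 1 2 25 1 2 2 6 3 84 3 7 7 81 0 25 25 6 85 41 85 0 1 2 2 3 1 2 3 3) (@D3.rec (fun _ => Nat) 1 1 2 72 34 0 1 2 10 0 1 2 2 3 83 78 83 84 2 3 40 40 1 2 6 1 2 39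 2 3 2 10) (@D3.rec (fun _ => Nat) 3 7 3 83 86 83 2 3 86 3 1 2 2 82 3 3 11 2 3 3 86 34 1 2 40 0 1 2 6 2 9 3) (@D3.rec (fun _ => Nat) 0 1 2 9 82 1 2 23 39 39 39 32 81 1 2 75 76 80 42 3 10 1 2 42 1 2 74 1 2 2 3 80) (@D3.rec (fun _ => Nat) 39 79 40 41 81 39 42 79 84 82 84 6 10 1 2 44 1 2 2 3 23 2 7 3 39 39 1 2 2 3 83 40) (@D3.rec (fun _ => Nat) 83 76 84 1 2 6 43 0 1 2 44 1 2 2 3 0 1 2 2 10 3 1 2 2 3 7 3 80 82 2 3 1) (@D3.rec (fun _ => Nat) 2 2 3 84 39 89 2 3 88 77 78 3 41 1 2 42 2 3 1 2 6 1 2 40 1 2 42 2 7 3 1 2) (@D3.rec (fun _ => Nat) 2 3 9 2 3 7 3 77 3 8 8 83 85 83 1 2 10 2 11 3 3 11 78 2 3 10 3 33 32 2 3 1) (@D3.rec (fun _ => Nat) 2 6 2 3 1 2 46 88 1 2 2 3 24 3 10 84 1 2 2 3 86 78 6 40 2 3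 2 3 84 86 1 2) (@D3.rec (fun _ => Nat) 43 2 3 1 2 6 1 2 43 2 3 2 81 3 7 3 26 3 2 3 2 3 7 3 90 83 11 42 32 0 1 2) (@D3.rec (fun _ => Nat) 11 87 1 2 2 3 86 83 6 85 87 40 85 2 3 83 81 81 88 81 84 83 3 88 0 1 2 43 1 2 2 3) (@D3.rec (fun _ => Nat) 82 1 2 6 39 2 3 2 3 7 3 82 87 82 6 39 89 80 80 80 84 3 3 0 1 2 2 77 3 76 3 10) (@D3.rec (fun _ => Nat) 10 0 1 2 2 3 86 1 2 2 3 40 40 11 11 1 2 2 3 92 2 3 76 3 1 2 2 45 3 2 3 74) (@D3.rec (fun _ => Nat) 3 7 7 8 8 0 1 2 26 86 1 2 3 3 3 2 3 81 1 2 2 3 1 2 2 3 7 3 85 90 84 3)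
def lv_d_19 : D2 → D3 → Nat := @D2.rec (fun _ => D3 → Nat) (@D3.rec (fun _ => Nat) 40 2 3 2 3 7 3 9 3 11 8 85 3 2 83 3 3 84 12 3 2 3 1 2 2 3 24 3 10 1 2 2) (@D3.rec (fun _ => Nat) 3 84 2 46 3 41 41 2 3 11 2 3 2 3 2 3 7 3 84 2 7 3 2 3 7 3 3 8 41 2 3 73) (@D3.rec (fun _ => Nat) 3 84 2 3 1 2 2 3 80 2 3 7 3 1 2 2 11 3 9 3 11 2 3 8 3 8 75 3 2 3 77 3) (@D3.rec (fun _ => Nat) 89 3 79 2 3 79 3 2 3 2 3 2 3 7 3 8 8 10 2 3 9 3 10 81 3 8 9 9 85 89 2 84) (@D3.rec (fun _ => Nat) 3 11 3 12 12 81 3 11 73 3 2 3 25 3 2 3 78 2 3 7 3 25 86 2 3 3 78 77 3 35 3 84) (@D3.rec (fun _ => Nat) 2 82 3 90 3 2 3 2 3 7 3 9 3 83 8 7 3 76 3 8 90 89 1 2 2 3 91 2 3 87 3 85) (@D3.rec (fun _ => Nat) 87 85 87 3 83 81 90 1 2 2 3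 2 3 35 3 2 3 7 3 85 3 8 87 82 1 2 2 90 3 48 3 87) (@D3.rec (fun _ => Nat) 76 86 11 11 1 2 84 2 3 49 3 86 2 3 3 42 12 88 2 3 43 3 90 78 3 78 2 82 3 43 3 45) (@D3.rec (fun _ => Nat) 74 3 74 87 8 8 9 1 2 2 3 7 3 83 2 3 41 3 2 3 87 3 8 92 72 3 8 3 8 9 88 12) (@D3.rec (fun _ => Nat) 9 3 83 84 25 3 2 3 42 3 25 87 11 2 3 42 3 84 3 44 41 36 3 7 3 42 3 77 3 8 7 3) (@D3.rec (fun _ => Nat) 8 86 3 8 9 75 3 75 43 3 2 3 8 3 79 8 3 8 2 3 9 3 12 9 87 12 79 3 9 9 77 77) (@D3.rec (fun _ => Nat) 3 77 39 3 78 40 3 34 3 8 3 8 83 9 9 11 80 3 9 88 11 80 9 10 90 3 88 12 13 80 73 42) (@D3.rec (fun _ => Nat) 3 26 7 3 85 85 3 8 26 86 3 77 37 42 3 84 89 41 3 8 3 8 9 82 87 9 8 78 9 86 2 3) (@D3.rec (fun _ => Nat) 87 3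 89 88 3 92 87 85 2 3 46 3 88 3 35 45 3 8 87 9 2 3 50 3 88 50 50 79 78 90 90 12) (@D3.rec (fun _ => Nat) 2 3 85 49 3 49 88 3 87 43 3 43 90 90 78 82 43 3 82 43 49 45 76 76 88 89 9 2 8 83 93 3) (@D3.rec (fun _ => Nat) 43 91 3 86 9 74 10 9 11 91 85 26 44 3 44 26 85 44 3 44 46 36 8 42 80 9 8 87 9 86 9 75) (@D3.rec (fun _ => Nat) 75 43 10 3 10 86 82 9 9 82 3 11 94 13 11 88 82 10 77 79 81 41 81 40 36 10 9 88 91 10 90 12) (@D3.rec (fun _ => Nat) 83 11 87 83 89 86 75 42 27 8 91 9 81 37 44 88 84 91 43 10 9 11 91 9 80 91 86 3 91 86 89 89) (@D3.rec (fun _ => Nat) 3 46 89 37 47 9 87 50 3 50 50 89 50 50 92 91 51 3 51 89 51 51 50 92 45 45 88 80 45 51 84 45) (@D3.rec (fun _ => Nat) 51 76 89 87 9 87 43 88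 87 74 10 88 27 44 44 90 44 44 38 9 44 79 9 88 88 77 45 10 10 94 10 81) (@D3.rec (fun _ => Nat) 11 92 82 81 79 41 42 36 10 91 91 82 82 87 44 9 93 44 87 43 10 92 89 81 85 86 48 87 47 52 52 52) (@D3.rec (fun _ => Nat) 52 92 51 51 51 52 45 93 45 51 51 88 86 92 46 46 92 12 88 84 87 91 89 91 90 93 52 52 53 53 52 53)
def lv_d : Pt → Nat := @Pt.rec (fun _ => Nat) (@D1.rec (fun _ => D2 → D3 → Nat) lv_d_0 lv_d_1 lv_d_2 lv_d_3 lv_d_4 lv_d_5 lv_d_6 lv_d_7 lv_d_8 lv_d_9 lv_d_10 lv_d_11 lv_d_12 lv_d_13 lv_d_14 lv_d_15 lv_d_16 lv_d_17 lv_d_18 lv_d_19)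
abbrev lc_d_Cert_tree : Cert rels S Gen.d := Cert.tree
abbrev lc_d_rc_11_1 : Cert rels S Gen.d := rc_11_1
abbrev lc_d_rc_11_3 : Cert rels S Gen.d := rc_11_3
abbrev lc_d_rc_18_1 : Cert rels S Gen.d := rc_18_1
abbrev lc_d_rc_18_3 : Cert rels S Gen.d := rc_18_3
abbrev lc_d_rc_18_5 : Cert rels S Gen.d := rc_18_5
abbrev lc_d_rc_24_0 : Cert rels S Gen.d := rc_24_0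
abbrev lc_d_rc_24_1 : Cert rels S Gen.d := rc_24_1
abbrev lc_d_rc_25_0 : Cert rels S Gen.d := rc_25_0
abbrev lc_d_rc_25_2 : Cert rels S Gen.d := rc_25_2
abbrev lc_d_rc_25_4 : Cert rels S Gen.d := rc_25_4
abbrev lc_d_rc_26_0 : Cert rels S Gen.d := rc_26_0
abbrev lc_d_rc_26_2 : Cert rels S Gen.d := rc_26_2
abbrev lc_d_rc_26_4 : Cert rels S Gen.d := rc_26_4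
abbrev lc_d_rc_27_0 : Cert rels S Gen.d := rc_27_0
abbrev lc_d_rc_27_2 : Cert rels S Gen.d := rc_27_2
abbrev lc_d_rc_28_0 : Cert rels S Gen.d := rc_28_0
abbrev lc_d_rc_28_2 : Cert rels S Gen.d := rc_28_2
abbrev lc_d_rc_29_0 : Cert rels S Gen.d := rc_29_0
abbrev lc_d_rc_29_2 : Cert rels S Gen.d := rc_29_2
abbrev lc_d_rc_3_1 : Cert rels S Gen.d := rc_3_1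
abbrev lc_d_rc_3_3 : Cert rels S Gen.d := rc_3_3
abbrev lc_d_rc_45_15 : Cert rels S Gen.d := rc_45_15
abbrev lc_d_rc_45_18 : Cert rels S Gen.d := rc_45_18
abbrev lc_d_rc_45_21 : Cert rels S Gen.d := rc_45_21
abbrev lc_d_rc_45_24 : Cert rels S Gen.d := rc_45_24
abbrev lc_d_rc_45_27 : Cert rels S Gen.d := rc_45_27
abbrev lc_d_rc_45_30 : Cert rels S Gen.d := rc_45_30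
abbrev lc_d_rc_45_33 : Cert rels S Gen.d := rc_45_33
abbrev lc_d_rc_45_36 : Cert rels S Gen.d := rc_45_36
abbrev lc_d_rc_45_39 : Cert rels S Gen.d := rc_45_39
abbrev lc_d_rc_45_42 : Cert rels S Gen.d := rc_45_42
abbrev lc_d_rc_45_45 : Cert rels S Gen.d := rc_45_45
abbrev lc_d_rc_45_48 : Cert rels S Gen.d := rc_45_48
abbrev lc_d_rc_45_51 : Cert rels S Gen.d := rc_45_51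
abbrev lc_d_rc_45_54 : Cert rels S Gen.d := rc_45_54
abbrev lc_d_rc_45_57 : Cert rels S Gen.d := rc_45_57
abbrev lc_d_rc_45_60 : Cert rels S Gen.d := rc_45_60
abbrev lc_d_rc_45_63 : Cert rels S Gen.d := rc_45_63
abbrev lc_d_rc_45_66 : Cert rels S Gen.d := rc_45_66
abbrev lc_d_rc_45_69 : Cert rels S Gen.d := rc_45_69
abbrev lc_d_rc_45_72 : Cert rels S Gen.d := rc_45_72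
abbrev lc_d_rc_45_75 : Cert rels S Gen.d := rc_45_75
abbrev lc_d_rc_46_10 : Cert rels S Gen.d := rc_46_10
abbrev lc_d_rc_46_17 : Cert rels S Gen.d := rc_46_17
abbrev lc_d_rc_46_24 : Cert rels S Gen.d := rc_46_24
abbrev lc_d_rc_46_3 : Cert rels S Gen.d := rc_46_3
abbrev lc_d_rc_46_31 : Cert rels S Gen.d := rc_46_31
abbrev lc_d_rc_46_38 : Cert rels S Gen.d := rc_46_38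
abbrev lc_d_rc_46_45 : Cert rels S Gen.d := rc_46_45
abbrev lc_d_rc_46_52 : Cert rels S Gen.d := rc_46_52
abbrev lc_d_rc_46_59 : Cert rels S Gen.d := rc_46_59
abbrev lc_d_rc_47_16 : Cert rels S Gen.d := rc_47_16
abbrev lc_d_rc_47_2 : Cert rels S Gen.d := rc_47_2
abbrev lc_d_rc_47_23 : Cert rels S Gen.d := rc_47_23
abbrev lc_d_rc_47_30 : Cert rels S Gen.d := rc_47_30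
abbrev lc_d_rc_47_37 : Cert rels S Gen.d := rc_47_37
abbrev lc_d_rc_47_44 : Cert rels S Gen.d := rc_47_44
abbrev lc_d_rc_47_51 : Cert rels S Gen.d := rc_47_51
abbrev lc_d_rc_47_9 : Cert rels S Gen.d := rc_47_9
abbrev lc_d_sc_2_0 : Cert rels S Gen.d := sc_2_0
def ce_d_0 : D2 → D3 → (Cert rels S Gen.d) := @D2.rec (fun _ => D3 → (Cert rels S Gen.d)) (@D3.rec (fun _ => (Cert rels S Gen.d)) lc_d_sc_2_0 lc_d_rc_3_1 lc_d_rc_11_1 lc_d_Cert_tree lc_d_rc_24_0 lc_d_rc_25_2 lc_d_rc_26_2 lc_d_rc_27_2 lc_d_Cert_tree lc_d_rc_29_2 lc_d_rc_28_2 lc_d_Cert_tree lc_d_rc_24_0 lc_d_rc_29_2 lc_d_Cert_tree lc_d_rc_24_0 lc_d_rc_29_2 lc_d_rc_18_3 lc_d_rc_29_2 lc_d_rc_24_0 lc_d_rc_29_2 lc_d_rc_18_3 lc_d_rc_25_2 lc_d_rc_29_2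 lc_d_rc_11_1 lc_d_rc_18_3 lc_d_rc_26_2 lc_d_rc_18_3 lc_d_rc_25_2 lc_d_rc_29_2 lc_d_rc_11_1 lc_d_Cert_tree) (@D3.rec (fun _ => (Cert rels S Gen.d)) lc_d_rc_18_3 lc_d_rc_25_2 lc_d_rc_26_2 lc_d_rc_3_1 lc_d_rc_11_1 lc_d_Cert_tree lc_d_rc_11_1 lc_d_Cert_tree lc_d_rc_18_3 lc_d_rc_27_2 lc_d_rc_25_2 lc_d_rc_26_2 lc_d_rc_3_1 lc_d_Cert_tree lc_d_rc_11_1 lc_d_rc_24_0 lc_d_rc_29_2 lc_d_Cert_tree lc_d_Cert_tree lc_d_rc_3_1 lc_d_Cert_tree lc_d_rc_24_0 lc_d_rc_3_1 lc_d_Cert_tree lc_d_rc_11_1 lc_d_rc_24_0 lc_d_rc_27_2 lc_d_rc_29_2 lc_d_Cert_tree lc_d_rc_27_2 lc_d_Cert_tree lc_d_Cert_tree) (@D3.rec (fun _ => (Cert rels S Gen.d)) lc_d_rc_3_1 lc_d_rc_24_0 lc_d_rc_29_2 lc_d_Cert_tree lc_d_rc_26_2 lc_d_rc_29_2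 lc_d_Cert_tree lc_d_rc_24_0 lc_d_rc_24_0 lc_d_Cert_tree lc_d_rc_24_0 lc_d_rc_25_2 lc_d_Cert_tree lc_d_rc_3_1 lc_d_rc_24_0 lc_d_rc_27_2 lc_d_rc_29_2 lc_d_Cert_tree lc_d_rc_27_2 lc_d_rc_26_2 lc_d_rc_29_2 lc_d_rc_29_2 lc_d_Cert_tree lc_d_rc_24_0 lc_d_Cert_tree lc_d_rc_24_0 lc_d_rc_24_0 lc_d_rc_29_2 lc_d_Cert_tree lc_d_rc_18_3 lc_d_rc_26_2 lc_d_rc_29_2) (@D3.rec (fun _ => (Cert rels S Gen.d)) lc_d_Cert_tree lc_d_rc_24_0 lc_d_rc_29_2 lc_d_Cert_tree lc_d_rc_24_0 lc_d_rc_25_2 lc_d_rc_18_3 lc_d_rc_24_0 lc_d_rc_18_3 lc_d_rc_11_1 lc_d_rc_27_2 lc_d_rc_24_0 lc_d_rc_27_2 lc_d_rc_29_2 lc_d_Cert_tree lc_d_rc_18_3 lc_d_rc_27_2 lc_d_rc_26_2 lc_d_rc_29_2 lc_d_rc_29_2 lc_d_Cert_tree lc_d_rc_24_0 lc_d_rc_25_2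 lc_d_rc_26_2 lc_d_rc_29_2 lc_d_rc_29_2 lc_d_Cert_tree lc_d_Cert_tree lc_d_rc_24_0 lc_d_rc_25_2 lc_d_rc_24_0 lc_d_rc_18_3) (@D3.rec (fun _ => (Cert rels S Gen.d)) lc_d_rc_29_2 lc_d_Cert_tree lc_d_rc_24_0 lc_d_rc_18_3 lc_d_rc_29_2 lc_d_Cert_tree lc_d_rc_24_0 lc_d_rc_18_3 lc_d_rc_25_2 lc_d_Cert_tree lc_d_rc_24_0 lc_d_rc_18_3 lc_d_rc_25_2 lc_d_rc_27_2 lc_d_rc_11_1 lc_d_rc_11_1 lc_d_rc_28_2 lc_d_rc_27_2 lc_d_rc_29_2 lc_d_rc_29_2 lc_d_Cert_tree lc_d_rc_24_0 lc_d_rc_18_3 lc_d_rc_18_3 lc_d_rc_25_2 lc_d_rc_26_2 lc_d_rc_29_2 lc_d_rc_29_2 lc_d_Cert_tree lc_d_Cert_tree lc_d_rc_24_0 lc_d_rc_18_3) (@D3.rec (fun _ => (Cert rels S Gen.d)) lc_d_rc_25_2 lc_d_Cert_tree lc_d_rc_25_2 lc_d_rc_29_2 lc_d_Cert_tree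 lc_d_Cert_tree lc_d_rc_24_0 lc_d_rc_24_0 lc_d_rc_18_3 lc_d_rc_25_2 lc_d_rc_27_2 lc_d_rc_18_3 lc_d_rc_25_2 lc_d_rc_11_1 lc_d_Cert_tree lc_d_rc_24_0 lc_d_rc_25_2 lc_d_Cert_tree lc_d_Cert_tree lc_d_rc_24_0 lc_d_rc_18_3 lc_d_rc_25_2 lc_d_Cert_tree lc_d_rc_27_2 lc_d_rc_24_0 lc_d_rc_26_2 lc_d_rc_25_2 lc_d_rc_11_1 lc_d_rc_18_3 lc_d_rc_27_2 lc_d_rc_28_2 lc_d_rc_3_1) (@D3.rec (fun _ => (Cert rels S Gen.d)) lc_d_rc_11_1 lc_d_rc_3_1 lc_d_rc_29_2 lc_d_Cert_tree lc_d_Cert_tree lc_d_rc_24_0 lc_d_rc_25_2 lc_d_Cert_tree lc_d_rc_18_3 lc_d_Cert_tree lc_d_Cert_tree lc_d_rc_25_2 lc_d_rc_29_2 lc_d_Cert_tree lc_d_Cert_tree lc_d_rc_24_0 lc_d_rc_24_0 lc_d_rc_18_3 lc_d_rc_25_2 lc_d_Cert_tree lc_d_rc_27_2 lc_d_rc_24_0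 lc_d_rc_29_2 lc_d_Cert_tree lc_d_Cert_tree lc_d_rc_24_0 lc_d_rc_24_0 lc_d_rc_26_2 lc_d_rc_25_2 lc_d_rc_18_3 lc_d_rc_25_2 lc_d_rc_11_1) (@D3.rec (fun _ => (Cert rels S Gen.d)) lc_d_rc_18_3 lc_d_rc_27_2 lc_d_rc_28_2 lc_d_rc_11_1 lc_d_Cert_tree lc_d_rc_3_1 lc_d_rc_24_0 lc_d_rc_3_1 lc_d_rc_25_2 lc_d_rc_24_0 lc_d_rc_24_0 lc_d_rc_18_3 lc_d_rc_25_2 lc_d_rc_11_1 lc_d_Cert_tree lc_d_rc_27_2 lc_d_rc_24_0 lc_d_rc_28_2 lc_d_rc_29_2 lc_d_rc_25_2 lc_d_rc_11_1 lc_d_Cert_tree lc_d_rc_27_2 lc_d_rc_3_1 lc_d_rc_11_1 lc_d_rc_18_3 lc_d_rc_28_2 lc_d_rc_3_1 lc_d_Cert_tree lc_d_rc_24_0 lc_d_rc_24_0 lc_d_rc_3_1) (@D3.rec (fun _ => (Cert rels S Gen.d)) lc_d_rc_25_2 lc_d_rc_27_2 lc_d_rc_24_0 lc_d_rc_29_2 lc_d_Cert_tree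 lc_d_rc_24_0 lc_d_rc_24_0 lc_d_rc_29_2 lc_d_Cert_tree lc_d_Cert_tree lc_d_rc_24_0 lc_d_rc_24_0 lc_d_rc_18_3 lc_d_rc_25_2 lc_d_rc_18_3 lc_d_rc_25_2 lc_d_rc_11_1 lc_d_Cert_tree lc_d_rc_27_2 lc_d_rc_24_0 lc_d_rc_27_2 lc_d_rc_28_2 lc_d_rc_18_3 lc_d_rc_29_2 lc_d_Cert_tree lc_d_rc_24_0 lc_d_rc_24_0 lc_d_rc_18_3 lc_d_rc_25_2 lc_d_rc_29_2 lc_d_rc_25_2 lc_d_rc_11_1) (@D3.rec (fun _ => (Cert rels S Gen.d)) lc_d_Cert_tree lc_d_rc_27_2 lc_d_rc_11_1 lc_d_Cert_tree lc_d_rc_25_2 lc_d_rc_3_1 lc_d_rc_11_1 lc_d_rc_18_3 lc_d_rc_28_2 lc_d_rc_3_1 lc_d_Cert_tree lc_d_rc_24_0 lc_d_rc_18_3 lc_d_rc_3_1 lc_d_rc_11_1 lc_d_rc_26_0 lc_d_rc_18_3 lc_d_rc_25_2 lc_d_rc_18_3 lc_d_rc_25_2 lc_d_rc_11_1 lc_d_Cert_tree lc_d_rc_27_2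 lc_d_rc_3_1 lc_d_Cert_tree lc_d_rc_24_0 lc_d_rc_26_0 lc_d_rc_28_2 lc_d_rc_26_2 lc_d_rc_11_1 lc_d_Cert_tree lc_d_rc_27_2) (@D3.rec (fun _ => (Cert rels S Gen.d)) lc_d_rc_3_1 lc_d_Cert_tree lc_d_rc_24_0 lc_d_rc_27_2 lc_d_rc_28_2 lc_d_rc_3_1 lc_d_rc_11_1 lc_d_rc_18_3 lc_d_Cert_tree lc_d_rc_24_0 lc_d_rc_18_3 lc_d_rc_3_1 lc_d_rc_18_3 lc_d_rc_25_2 lc_d_rc_11_1 lc_d_rc_28_2 lc_d_rc_27_2 lc_d_rc_29_2 lc_d_Cert_tree lc_d_rc_24_0 lc_d_rc_18_3 lc_d_rc_25_2 lc_d_rc_29_2 lc_d_Cert_tree lc_d_rc_24_0 lc_d_rc_24_0 lc_d_rc_18_3 lc_d_rc_25_2 lc_d_rc_18_3 lc_d_rc_25_2 lc_d_rc_11_1 lc_d_Cert_tree) (@D3.rec (fun _ => (Cert rels S Gen.d)) lc_d_rc_27_2 lc_d_rc_11_1 lc_d_Cert_tree lc_d_rc_25_2 lc_d_rc_3_1 lc_d_Cert_tree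 lc_d_rc_24_0 lc_d_rc_27_2 lc_d_rc_28_2 lc_d_rc_27_2 lc_d_rc_26_2 lc_d_rc_18_3 lc_d_Cert_tree lc_d_rc_24_0 lc_d_rc_18_3 lc_d_rc_25_2 lc_d_rc_18_3 lc_d_rc_25_2 lc_d_rc_11_1 lc_d_Cert_tree lc_d_rc_27_2 lc_d_rc_11_1 lc_d_Cert_tree lc_d_rc_27_2 lc_d_rc_3_1 lc_d_Cert_tree lc_d_rc_24_0 lc_d_rc_27_2 lc_d_rc_28_2 lc_d_rc_3_1 lc_d_Cert_tree lc_d_rc_24_0) (@D3.rec (fun _ => (Cert rels S Gen.d)) lc_d_rc_27_2 lc_d_rc_25_2 lc_d_rc_3_1 lc_d_rc_11_1 lc_d_rc_18_3 lc_d_Cert_tree lc_d_rc_24_0 lc_d_rc_26_2 lc_d_rc_11_1 lc_d_Cert_tree lc_d_rc_3_1 lc_d_rc_26_0 lc_d_rc_11_1 lc_d_Cert_tree lc_d_rc_27_2 lc_d_rc_11_1 lc_d_Cert_tree lc_d_rc_27_2 lc_d_rc_3_1 lc_d_Cert_tree lc_d_rc_24_0 lc_d_rc_27_2 lc_d_rc_28_2 lc_d_Cert_tree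 lc_d_rc_24_0 lc_d_rc_26_0 lc_d_rc_26_2 lc_d_rc_28_2 lc_d_rc_3_1 lc_d_Cert_tree lc_d_rc_24_0 lc_d_rc_27_2) (@D3.rec (fun _ => (Cert rels S Gen.d)) lc_d_rc_28_2 lc_d_Cert_tree lc_d_rc_24_0 lc_d_rc_27_2 lc_d_rc_27_2 lc_d_rc_28_2 lc_d_rc_3_1 lc_d_rc_11_1 lc_d_rc_24_0 lc_d_rc_18_3 lc_d_rc_25_2 lc_d_rc_11_1 lc_d_Cert_tree lc_d_rc_3_1 lc_d_rc_11_1 lc_d_Cert_tree lc_d_rc_25_2 lc_d_rc_3_1 lc_d_rc_28_2 lc_d_rc_26_0 lc_d_Cert_tree lc_d_rc_24_0 lc_d_rc_18_3 lc_d_rc_25_2 lc_d_rc_11_1 lc_d_Cert_tree lc_d_rc_27_2 lc_d_Cert_tree lc_d_rc_24_0 lc_d_rc_18_3 lc_d_rc_25_2 lc_d_rc_18_3) (@D3.rec (fun _ => (Cert rels S Gen.d)) lc_d_rc_25_2 lc_d_rc_11_1 lc_d_Cert_tree lc_d_rc_27_2 lc_d_rc_11_1 lc_d_Cert_tree lc_d_rc_27_2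 lc_d_rc_3_1 lc_d_Cert_tree lc_d_rc_24_0 lc_d_rc_27_2 lc_d_rc_28_2 lc_d_rc_3_1 lc_d_Cert_tree lc_d_rc_24_0 lc_d_rc_27_2 lc_d_rc_25_2 lc_d_Cert_tree lc_d_rc_24_0 lc_d_rc_27_2 lc_d_rc_27_2 lc_d_rc_26_2 lc_d_rc_26_0 lc_d_rc_25_2 lc_d_rc_27_2 lc_d_rc_29_2 lc_d_Cert_tree lc_d_rc_24_0 lc_d_rc_18_3 lc_d_rc_25_2 lc_d_rc_11_1 lc_d_Cert_tree) (@D3.rec (fun _ => (Cert rels S Gen.d)) lc_d_rc_27_2 lc_d_rc_11_1 lc_d_Cert_tree lc_d_rc_27_2 lc_d_rc_3_1 lc_d_Cert_tree lc_d_rc_24_0 lc_d_rc_27_2 lc_d_rc_28_2 lc_d_rc_3_1 lc_d_Cert_tree lc_d_rc_24_0 lc_d_rc_27_2 lc_d_rc_28_2 lc_d_Cert_tree lc_d_rc_24_0 lc_d_rc_27_2 lc_d_rc_27_2 lc_d_rc_28_2 lc_d_Cert_tree lc_d_rc_24_0 lc_d_rc_27_2 lc_d_rc_27_2 lc_d_rc_26_2 lc_d_rc_28_2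 lc_d_rc_3_1 lc_d_rc_11_1 lc_d_rc_24_0 lc_d_rc_18_3 lc_d_rc_11_1 lc_d_rc_29_2 lc_d_rc_3_1) (@D3.rec (fun _ => (Cert rels S Gen.d)) lc_d_Cert_tree lc_d_rc_24_0 lc_d_rc_3_1 lc_d_rc_3_1 lc_d_Cert_tree lc_d_rc_24_0 lc_d_rc_27_2 lc_d_rc_3_1 lc_d_Cert_tree lc_d_rc_24_0 lc_d_rc_27_2 lc_d_rc_28_2 lc_d_Cert_tree lc_d_rc_24_0 lc_d_rc_27_2 lc_d_rc_27_2 lc_d_rc_26_2 lc_d_rc_28_2 lc_d_rc_24_0 lc_d_rc_3_1 lc_d_rc_11_1 lc_d_rc_28_2 lc_d_Cert_tree lc_d_rc_24_0 lc_d_rc_27_2 lc_d_rc_27_2 lc_d_rc_26_2 lc_d_rc_28_2 lc_d_rc_24_0 lc_d_rc_27_2 lc_d_rc_18_3 lc_d_rc_27_2) (@D3.rec (fun _ => (Cert rels S Gen.d)) lc_d_rc_28_2 lc_d_rc_25_2 lc_d_rc_28_2 lc_d_rc_3_1 lc_d_rc_18_3 lc_d_rc_25_2 lc_d_rc_11_1 lc_d_Cert_tree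 lc_d_rc_27_2 lc_d_rc_3_1 lc_d_Cert_tree lc_d_rc_24_0 lc_d_rc_27_2 lc_d_rc_3_1 lc_d_Cert_tree lc_d_rc_24_0 lc_d_rc_27_2 lc_d_rc_3_1 lc_d_rc_26_0 lc_d_rc_24_0 lc_d_rc_18_3 lc_d_rc_25_2 lc_d_rc_11_1 lc_d_Cert_tree lc_d_rc_27_2 lc_d_rc_3_1 lc_d_Cert_tree lc_d_rc_24_0 lc_d_rc_27_2 lc_d_rc_28_2 lc_d_rc_24_0 lc_d_rc_18_3) (@D3.rec (fun _ => (Cert rels S Gen.d)) lc_d_rc_25_2 lc_d_rc_11_1 lc_d_Cert_tree lc_d_rc_27_2 lc_d_rc_11_1 lc_d_Cert_tree lc_d_rc_27_2 lc_d_rc_3_1 lc_d_Cert_tree lc_d_rc_24_0 lc_d_rc_27_2 lc_d_rc_28_2 lc_d_rc_46_3 lc_d_Cert_tree lc_d_rc_24_0 lc_d_rc_27_2 lc_d_rc_28_2 lc_d_Cert_tree lc_d_rc_24_0 lc_d_rc_27_2 lc_d_rc_27_2 lc_d_rc_26_2 lc_d_rc_28_2 lc_d_Cert_tree lc_d_rc_24_0 lc_d_rc_27_2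 lc_d_rc_27_2 lc_d_rc_26_2 lc_d_rc_28_2 lc_d_rc_24_0 lc_d_rc_27_2 lc_d_rc_27_2) (@D3.rec (fun _ => (Cert rels S Gen.d)) lc_d_rc_11_1 lc_d_rc_26_0 lc_d_rc_25_2 lc_d_rc_26_2 lc_d_rc_29_2 lc_d_Cert_tree lc_d_rc_24_0 lc_d_rc_18_3 lc_d_rc_26_2 lc_d_rc_11_1 lc_d_Cert_tree lc_d_rc_27_2 lc_d_rc_3_1 lc_d_Cert_tree lc_d_rc_24_0 lc_d_rc_27_2 lc_d_rc_28_2 lc_d_rc_3_1 lc_d_Cert_tree lc_d_rc_24_0 lc_d_rc_27_2 lc_d_rc_28_2 lc_d_Cert_tree lc_d_rc_24_0 lc_d_rc_27_2 lc_d_rc_27_2 lc_d_rc_26_2 lc_d_rc_28_2 lc_d_Cert_tree lc_d_rc_24_0 lc_d_rc_27_2 lc_d_rc_27_2) (@D3.rec (fun _ => (Cert rels S Gen.d)) lc_d_rc_26_2 lc_d_rc_28_2 lc_d_rc_24_0 lc_d_rc_27_2 lc_d_rc_18_3 lc_d_rc_27_2 lc_d_rc_28_2 lc_d_rc_25_2 lc_d_rc_28_2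 lc_d_rc_24_0 lc_d_rc_27_2 lc_d_rc_18_3 lc_d_rc_27_2 lc_d_rc_11_1 lc_d_rc_28_2 lc_d_rc_28_2 lc_d_rc_26_2 lc_d_rc_29_2 lc_d_rc_3_1 lc_d_rc_3_1 lc_d_rc_3_1 lc_d_Cert_tree lc_d_rc_11_1 lc_d_Cert_tree lc_d_rc_24_0 lc_d_Cert_tree lc_d_rc_24_0 lc_d_rc_27_2 lc_d_rc_27_2 lc_d_rc_25_2 lc_d_Cert_tree lc_d_rc_24_0) (@D3.rec (fun _ => (Cert rels S Gen.d)) lc_d_rc_27_2 lc_d_rc_27_2 lc_d_rc_26_2 lc_d_rc_28_2 lc_d_rc_24_0 lc_d_rc_27_2 lc_d_rc_18_3 lc_d_rc_27_2 lc_d_rc_11_1 lc_d_rc_28_2 lc_d_rc_28_2 lc_d_rc_3_1 lc_d_rc_3_1 lc_d_rc_24_0 lc_d_rc_27_2 lc_d_rc_18_3 lc_d_rc_27_2 lc_d_rc_11_1 lc_d_rc_28_2 lc_d_rc_25_2 lc_d_rc_28_2 lc_d_rc_26_2 lc_d_rc_3_1 lc_d_rc_27_2 lc_d_rc_28_2 lc_d_rc_18_3 lc_d_rc_25_2 lc_d_rc_28_2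 lc_d_rc_25_2 lc_d_rc_11_1 lc_d_Cert_tree lc_d_rc_27_2)
def ce_d_1 : D2 → D3 → (Cert rels S Gen.d) := @D2.rec (fun _ => D3 → (Cert rels S Gen.d)) (@D3.rec (fun _ => (Cert rels S Gen.d)) lc_d_rc_3_1 lc_d_Cert_tree lc_d_rc_24_0 lc_d_rc_27_2 lc_d_Cert_tree lc_d_rc_24_0 lc_d_rc_27_2 lc_d_rc_27_2 lc_d_Cert_tree lc_d_rc_24_0 lc_d_rc_27_2 lc_d_rc_27_2 lc_d_rc_26_2 lc_d_rc_26_0 lc_d_rc_26_2 lc_d_rc_25_2 lc_d_rc_11_1 lc_d_Cert_tree lc_d_rc_27_2 lc_d_rc_3_1 lc_d_Cert_tree lc_d_rc_24_0 lc_d_rc_27_2 lc_d_rc_28_2 lc_d_Cert_tree lc_d_rc_24_0 lc_d_rc_27_2 lc_d_rc_27_2 lc_d_rc_25_2 lc_d_rc_28_2 lc_d_rc_18_3 lc_d_rc_26_2) (@D3.rec (fun _ => (Cert rels S Gen.d)) lc_d_rc_11_1 lc_d_Cert_tree lc_d_rc_27_2 lc_d_rc_3_1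 lc_d_Cert_tree lc_d_rc_24_0 lc_d_rc_27_2 lc_d_rc_28_2 lc_d_rc_3_1 lc_d_Cert_tree lc_d_rc_24_0 lc_d_rc_27_2 lc_d_rc_28_2 lc_d_Cert_tree lc_d_rc_24_0 lc_d_rc_27_2 lc_d_rc_27_2 lc_d_rc_26_2 lc_d_rc_28_2 lc_d_Cert_tree lc_d_rc_24_0 lc_d_rc_27_2 lc_d_rc_27_2 lc_d_rc_26_2 lc_d_rc_28_2 lc_d_rc_24_0 lc_d_rc_27_2 lc_d_rc_18_3 lc_d_rc_27_2 lc_d_rc_11_1 lc_d_rc_28_2 lc_d_rc_25_2) (@D3.rec (fun _ => (Cert rels S Gen.d)) lc_d_rc_28_2 lc_d_rc_26_2 lc_d_rc_29_2 lc_d_rc_24_0 lc_d_rc_27_2 lc_d_rc_18_3 lc_d_rc_27_2 lc_d_rc_11_1 lc_d_rc_28_2 lc_d_rc_25_2 lc_d_rc_28_2 lc_d_rc_26_2 lc_d_rc_29_2 lc_d_rc_27_2 lc_d_rc_3_1 lc_d_rc_26_0 lc_d_rc_11_1 lc_d_rc_11_1 lc_d_rc_11_1 lc_d_Cert_tree lc_d_rc_24_0 lc_d_rc_18_3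 lc_d_rc_25_2 lc_d_rc_11_1 lc_d_Cert_tree lc_d_rc_26_2 lc_d_rc_3_1 lc_d_Cert_tree lc_d_rc_24_0 lc_d_rc_27_2 lc_d_rc_28_2 lc_d_Cert_tree) (@D3.rec (fun _ => (Cert rels S Gen.d)) lc_d_rc_24_0 lc_d_rc_27_2 lc_d_rc_27_2 lc_d_rc_26_2 lc_d_rc_28_2 lc_d_Cert_tree lc_d_rc_24_0 lc_d_rc_27_2 lc_d_rc_27_2 lc_d_rc_26_2 lc_d_rc_28_2 lc_d_rc_24_0 lc_d_rc_27_2 lc_d_rc_18_3 lc_d_rc_27_2 lc_d_rc_11_1 lc_d_rc_28_2 lc_d_rc_25_2 lc_d_rc_28_2 lc_d_rc_26_2 lc_d_rc_29_2 lc_d_rc_24_0 lc_d_rc_27_2 lc_d_rc_18_3 lc_d_rc_27_2 lc_d_rc_11_1 lc_d_rc_28_2 lc_d_rc_25_2 lc_d_rc_28_2 lc_d_rc_26_2 lc_d_rc_3_1 lc_d_rc_27_2) (@D3.rec (fun _ => (Cert rels S Gen.d)) lc_d_rc_28_2 lc_d_rc_18_3 lc_d_rc_11_1 lc_d_rc_28_2 lc_d_rc_25_2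 lc_d_rc_3_1 lc_d_rc_27_2 lc_d_rc_3_1 lc_d_rc_28_2 lc_d_rc_18_3 lc_d_Cert_tree lc_d_rc_28_2 lc_d_rc_11_1 lc_d_rc_11_1 lc_d_rc_26_2 lc_d_rc_29_2 lc_d_rc_11_1 lc_d_Cert_tree lc_d_rc_3_1 lc_d_rc_24_0 lc_d_rc_29_2 lc_d_rc_24_0 lc_d_rc_18_3 lc_d_rc_24_0 lc_d_rc_27_2 lc_d_rc_18_3 lc_d_rc_27_2 lc_d_rc_25_2 lc_d_rc_25_2 lc_d_rc_26_2 lc_d_rc_24_0 lc_d_rc_27_2) (@D3.rec (fun _ => (Cert rels S Gen.d)) lc_d_rc_18_3 lc_d_rc_27_2 lc_d_rc_11_1 lc_d_rc_28_2 lc_d_rc_28_2 lc_d_rc_3_1 lc_d_rc_27_2 lc_d_rc_3_1 lc_d_rc_28_2 lc_d_rc_18_3 lc_d_rc_18_3 lc_d_rc_28_2 lc_d_rc_3_1 lc_d_rc_27_2 lc_d_rc_3_1 lc_d_rc_28_2 lc_d_rc_18_3 lc_d_Cert_tree lc_d_rc_25_2 lc_d_rc_28_2 lc_d_rc_11_1 lc_d_rc_25_2 lc_d_Cert_tree lc_d_rc_26_2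 lc_d_rc_11_1 lc_d_rc_3_1 lc_d_rc_3_1 lc_d_rc_28_2 lc_d_Cert_tree lc_d_rc_18_3 lc_d_rc_25_2 lc_d_rc_27_2) (@D3.rec (fun _ => (Cert rels S Gen.d)) lc_d_rc_3_1 lc_d_Cert_tree lc_d_rc_24_0 lc_d_rc_27_2 lc_d_Cert_tree lc_d_rc_24_0 lc_d_rc_27_2 lc_d_rc_27_2 lc_d_rc_26_2 lc_d_rc_24_0 lc_d_rc_27_2 lc_d_rc_18_3 lc_d_rc_27_2 lc_d_rc_25_2 lc_d_rc_24_0 lc_d_rc_27_2 lc_d_rc_18_3 lc_d_rc_27_2 lc_d_rc_11_1 lc_d_rc_26_2 lc_d_rc_29_2 lc_d_rc_11_1 lc_d_Cert_tree lc_d_rc_26_2 lc_d_rc_3_1 lc_d_Cert_tree lc_d_rc_24_0 lc_d_rc_27_2 lc_d_rc_28_2 lc_d_Cert_tree lc_d_rc_24_0 lc_d_rc_27_2) (@D3.rec (fun _ => (Cert rels S Gen.d)) lc_d_rc_27_2 lc_d_rc_26_2 lc_d_rc_28_2 lc_d_rc_24_0 lc_d_rc_27_2 lc_d_rc_18_3 lc_d_rc_27_2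 lc_d_rc_25_2 lc_d_rc_28_2 lc_d_rc_25_2 lc_d_rc_28_2 lc_d_rc_26_2 lc_d_rc_25_2 lc_d_rc_11_1 lc_d_Cert_tree lc_d_rc_26_2 lc_d_rc_3_1 lc_d_Cert_tree lc_d_rc_24_0 lc_d_rc_27_2 lc_d_rc_28_2 lc_d_Cert_tree lc_d_rc_24_0 lc_d_rc_27_2 lc_d_rc_27_2 lc_d_rc_26_2 lc_d_rc_28_2 lc_d_Cert_tree lc_d_rc_24_0 lc_d_rc_27_2 lc_d_rc_27_2 lc_d_rc_26_2) (@D3.rec (fun _ => (Cert rels S Gen.d)) lc_d_rc_28_2 lc_d_rc_24_0 lc_d_rc_27_2 lc_d_rc_18_3 lc_d_rc_27_2 lc_d_rc_11_1 lc_d_rc_28_2 lc_d_rc_25_2 lc_d_rc_28_2 lc_d_rc_26_2 lc_d_rc_29_2 lc_d_rc_24_0 lc_d_rc_27_2 lc_d_rc_18_3 lc_d_rc_27_2 lc_d_rc_11_1 lc_d_rc_28_2 lc_d_rc_25_2 lc_d_rc_28_2 lc_d_rc_26_2 lc_d_rc_29_2 lc_d_rc_3_1 lc_d_rc_27_2 lc_d_rc_3_1 lc_d_rc_28_2 lc_d_rc_18_3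 lc_d_rc_18_3 lc_d_rc_11_1 lc_d_rc_28_2 lc_d_rc_11_1 lc_d_rc_11_1 lc_d_rc_25_2) (@D3.rec (fun _ => (Cert rels S Gen.d)) lc_d_Cert_tree lc_d_rc_3_1 lc_d_rc_27_2 lc_d_rc_3_1 lc_d_rc_28_2 lc_d_rc_18_3 lc_d_Cert_tree lc_d_rc_11_1 lc_d_rc_28_2 lc_d_rc_11_1 lc_d_rc_11_1 lc_d_Cert_tree lc_d_rc_26_2 lc_d_rc_29_2 lc_d_rc_3_1 lc_d_rc_3_1 lc_d_rc_3_1 lc_d_Cert_tree lc_d_rc_24_0 lc_d_rc_18_3 lc_d_rc_11_1 lc_d_Cert_tree lc_d_rc_27_2 lc_d_rc_3_1 lc_d_Cert_tree lc_d_rc_24_0 lc_d_rc_27_2 lc_d_rc_26_2 lc_d_Cert_tree lc_d_rc_24_0 lc_d_rc_27_2 lc_d_rc_27_2) (@D3.rec (fun _ => (Cert rels S Gen.d)) lc_d_rc_26_2 lc_d_rc_28_2 lc_d_rc_24_0 lc_d_rc_27_2 lc_d_rc_18_3 lc_d_rc_27_2 lc_d_rc_11_1 lc_d_rc_28_2 lc_d_rc_25_2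 lc_d_rc_28_2 lc_d_rc_26_2 lc_d_rc_29_2 lc_d_rc_24_0 lc_d_rc_27_2 lc_d_rc_18_3 lc_d_rc_27_2 lc_d_rc_11_1 lc_d_rc_28_2 lc_d_rc_25_2 lc_d_rc_28_2 lc_d_rc_26_2 lc_d_rc_29_2 lc_d_rc_3_1 lc_d_rc_27_2 lc_d_rc_3_1 lc_d_rc_28_2 lc_d_rc_18_3 lc_d_Cert_tree lc_d_rc_11_1 lc_d_rc_28_2 lc_d_rc_11_1 lc_d_rc_11_1) (@D3.rec (fun _ => (Cert rels S Gen.d)) lc_d_rc_25_2 lc_d_rc_25_2 lc_d_rc_26_2 lc_d_rc_29_2 lc_d_rc_3_1 lc_d_rc_27_2 lc_d_rc_3_1 lc_d_rc_28_2 lc_d_rc_18_3 lc_d_Cert_tree lc_d_rc_11_1 lc_d_rc_28_2 lc_d_rc_11_1 lc_d_rc_25_2 lc_d_rc_46_59 lc_d_rc_26_2 lc_d_rc_11_1 lc_d_rc_3_1 lc_d_rc_3_1 lc_d_rc_28_2 lc_d_Cert_tree lc_d_rc_18_3 lc_d_rc_11_1 lc_d_rc_29_2 lc_d_rc_11_1 lc_d_rc_3_1 lc_d_Cert_tree lc_d_rc_28_2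 lc_d_rc_3_1 lc_d_rc_3_1 lc_d_rc_18_3 lc_d_Cert_tree) (@D3.rec (fun _ => (Cert rels S Gen.d)) lc_d_rc_24_0 lc_d_rc_29_2 lc_d_rc_11_1 lc_d_rc_11_1 lc_d_rc_47_16 lc_d_Cert_tree lc_d_rc_24_0 lc_d_rc_29_2 lc_d_rc_25_2 lc_d_rc_29_2 lc_d_rc_3_1 lc_d_rc_18_3 lc_d_rc_27_2 lc_d_rc_3_1 lc_d_rc_18_3 lc_d_Cert_tree lc_d_rc_25_2 lc_d_rc_26_2 lc_d_rc_3_1 lc_d_rc_27_2 lc_d_rc_3_1 lc_d_rc_28_2 lc_d_rc_18_3 lc_d_Cert_tree lc_d_rc_28_2 lc_d_rc_11_1 lc_d_rc_3_1 lc_d_rc_3_1 lc_d_rc_28_2 lc_d_rc_18_3 lc_d_rc_11_1 lc_d_rc_3_1) (@D3.rec (fun _ => (Cert rels S Gen.d)) lc_d_Cert_tree lc_d_rc_3_1 lc_d_rc_28_2 lc_d_rc_3_1 lc_d_Cert_tree lc_d_rc_18_3 lc_d_Cert_tree lc_d_rc_24_0 lc_d_rc_25_2 lc_d_Cert_tree lc_d_rc_11_1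 lc_d_rc_27_2 lc_d_rc_28_2 lc_d_rc_24_0 lc_d_rc_11_1 lc_d_Cert_tree lc_d_rc_3_1 lc_d_rc_3_1 lc_d_rc_24_0 lc_d_rc_28_2 lc_d_rc_27_2 lc_d_Cert_tree lc_d_rc_24_0 lc_d_rc_27_2 lc_d_rc_27_2 lc_d_rc_26_2 lc_d_rc_24_0 lc_d_rc_27_2 lc_d_rc_18_3 lc_d_rc_27_2 lc_d_rc_11_1 lc_d_rc_25_2) (@D3.rec (fun _ => (Cert rels S Gen.d)) lc_d_rc_26_2 lc_d_rc_29_2 lc_d_rc_3_1 lc_d_rc_27_2 lc_d_rc_18_3 lc_d_rc_11_1 lc_d_rc_3_1 lc_d_rc_27_2 lc_d_rc_3_1 lc_d_rc_18_3 lc_d_Cert_tree lc_d_rc_11_1 lc_d_rc_11_1 lc_d_rc_29_2 lc_d_rc_3_1 lc_d_Cert_tree lc_d_rc_24_0 lc_d_rc_27_2 lc_d_rc_26_2 lc_d_Cert_tree lc_d_rc_24_0 lc_d_rc_27_2 lc_d_rc_27_2 lc_d_rc_26_2 lc_d_rc_28_2 lc_d_rc_24_0 lc_d_rc_27_2 lc_d_rc_18_3 lc_d_rc_27_2 lc_d_rc_11_1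 lc_d_rc_28_2 lc_d_rc_25_2) (@D3.rec (fun _ => (Cert rels S Gen.d)) lc_d_rc_28_2 lc_d_rc_26_2 lc_d_rc_29_2 lc_d_rc_18_3 lc_d_rc_27_2 lc_d_rc_3_1 lc_d_rc_28_2 lc_d_rc_18_3 lc_d_Cert_tree lc_d_rc_11_1 lc_d_rc_28_2 lc_d_rc_26_2 lc_d_rc_25_2 lc_d_rc_25_2 lc_d_Cert_tree lc_d_rc_26_2 lc_d_rc_27_2 lc_d_rc_3_1 lc_d_Cert_tree lc_d_rc_24_0 lc_d_rc_27_2 lc_d_rc_26_2 lc_d_Cert_tree lc_d_rc_24_0 lc_d_rc_27_2 lc_d_rc_27_2 lc_d_rc_26_2 lc_d_rc_28_2 lc_d_rc_24_0 lc_d_rc_27_2 lc_d_rc_18_3 lc_d_rc_27_2) (@D3.rec (fun _ => (Cert rels S Gen.d)) lc_d_rc_11_1 lc_d_rc_28_2 lc_d_rc_25_2 lc_d_rc_28_2 lc_d_rc_26_2 lc_d_rc_29_2 lc_d_rc_24_0 lc_d_rc_27_2 lc_d_rc_18_3 lc_d_rc_27_2 lc_d_rc_11_1 lc_d_rc_28_2 lc_d_rc_25_2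 lc_d_rc_28_2 lc_d_rc_26_2 lc_d_rc_29_2 lc_d_rc_3_1 lc_d_rc_27_2 lc_d_rc_3_1 lc_d_rc_28_2 lc_d_rc_18_3 lc_d_Cert_tree lc_d_rc_11_1 lc_d_rc_28_2 lc_d_rc_11_1 lc_d_rc_11_1 lc_d_rc_25_2 lc_d_Cert_tree lc_d_rc_26_2 lc_d_rc_29_2 lc_d_rc_3_1 lc_d_rc_27_2) (@D3.rec (fun _ => (Cert rels S Gen.d)) lc_d_rc_3_1 lc_d_rc_28_2 lc_d_rc_18_3 lc_d_Cert_tree lc_d_rc_11_1 lc_d_rc_28_2 lc_d_rc_11_1 lc_d_rc_11_1 lc_d_rc_25_2 lc_d_rc_27_2 lc_d_rc_11_1 lc_d_rc_3_1 lc_d_rc_3_1 lc_d_rc_3_1 lc_d_rc_28_2 lc_d_rc_3_1 lc_d_rc_3_1 lc_d_Cert_tree lc_d_rc_18_3 lc_d_rc_18_3 lc_d_rc_18_3 lc_d_rc_11_1 lc_d_Cert_tree lc_d_rc_24_0 lc_d_rc_11_1 lc_d_rc_3_1 lc_d_Cert_tree lc_d_rc_3_1 lc_d_rc_28_2 lc_d_rc_3_1 lc_d_rc_3_1 lc_d_rc_18_3)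 (@D3.rec (fun _ => (Cert rels S Gen.d)) lc_d_rc_18_3 lc_d_Cert_tree lc_d_rc_24_0 lc_d_rc_29_2 lc_d_Cert_tree lc_d_rc_11_1 lc_d_rc_11_1 lc_d_rc_24_0 lc_d_rc_29_2 lc_d_rc_29_2 lc_d_Cert_tree lc_d_rc_24_0 lc_d_rc_18_3 lc_d_rc_11_1 lc_d_rc_3_1 lc_d_Cert_tree lc_d_rc_24_0 lc_d_rc_28_0 lc_d_rc_28_2 lc_d_Cert_tree lc_d_rc_24_0 lc_d_rc_27_2 lc_d_rc_27_2 lc_d_rc_26_2 lc_d_rc_3_1 lc_d_rc_24_0 lc_d_rc_27_2 lc_d_rc_18_3 lc_d_rc_27_2 lc_d_rc_11_1 lc_d_rc_28_2 lc_d_rc_25_2) (@D3.rec (fun _ => (Cert rels S Gen.d)) lc_d_rc_28_2 lc_d_rc_25_2 lc_d_rc_29_2 lc_d_rc_3_1 lc_d_rc_27_2 lc_d_rc_3_1 lc_d_rc_28_2 lc_d_rc_18_3 lc_d_Cert_tree lc_d_rc_11_1 lc_d_rc_28_2 lc_d_rc_11_1 lc_d_rc_11_1 lc_d_rc_25_2 lc_d_rc_45_27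 lc_d_rc_26_2 lc_d_rc_29_2 lc_d_rc_3_1 lc_d_rc_27_2 lc_d_rc_3_1 lc_d_rc_28_2 lc_d_rc_18_3 lc_d_Cert_tree lc_d_rc_11_1 lc_d_rc_28_2 lc_d_rc_11_1 lc_d_rc_11_1 lc_d_rc_11_1 lc_d_rc_3_1 lc_d_Cert_tree lc_d_rc_3_1 lc_d_rc_28_2) (@D3.rec (fun _ => (Cert rels S Gen.d)) lc_d_rc_3_1 lc_d_rc_3_1 lc_d_Cert_tree lc_d_rc_18_3 lc_d_Cert_tree lc_d_rc_24_0 lc_d_rc_29_2 lc_d_rc_11_1 lc_d_rc_25_2 lc_d_rc_11_1 lc_d_rc_11_1 lc_d_rc_11_1 lc_d_rc_3_1 lc_d_Cert_tree lc_d_rc_3_1 lc_d_rc_28_2 lc_d_rc_3_1 lc_d_Cert_tree lc_d_rc_18_3 lc_d_Cert_tree lc_d_rc_24_0 lc_d_rc_25_2 lc_d_rc_47_37 lc_d_rc_11_1 lc_d_rc_11_1 lc_d_Cert_tree lc_d_rc_3_1 lc_d_rc_3_1 lc_d_rc_24_0 lc_d_rc_28_2 lc_d_rc_29_2 lc_d_rc_11_1) (@D3.rec (fun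 _ => (Cert rels S Gen.d)) lc_d_Cert_tree lc_d_rc_3_1 lc_d_Cert_tree lc_d_rc_24_0 lc_d_rc_29_2 lc_d_rc_3_1 lc_d_rc_3_1 lc_d_Cert_tree lc_d_rc_24_0 lc_d_rc_29_2 lc_d_rc_25_2 lc_d_rc_29_2 lc_d_rc_47_51 lc_d_rc_24_0 lc_d_rc_29_2 lc_d_rc_3_1 lc_d_rc_29_2 lc_d_rc_27_2 lc_d_rc_25_2 lc_d_rc_26_2 lc_d_rc_11_1 lc_d_rc_11_1 lc_d_rc_18_3 lc_d_Cert_tree lc_d_rc_3_1 lc_d_rc_3_1 lc_d_Cert_tree lc_d_Cert_tree lc_d_rc_24_0 lc_d_rc_11_1 lc_d_rc_3_1 lc_d_Cert_tree)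
def ce_d_2 : D2 → D3 → (Cert rels S Gen.d) := @D2.rec (fun _ => D3 → (Cert rels S Gen.d)) (@D3.rec (fun _ => (Cert rels S Gen.d)) lc_d_rc_28_2 lc_d_rc_18_3 lc_d_rc_24_0 lc_d_rc_11_1 lc_d_rc_11_1 lc_d_rc_3_1 lc_d_rc_11_1 lc_d_Cert_tree lc_d_Cert_tree lc_d_rc_3_1 lc_d_Cert_tree lc_d_rc_24_0 lc_d_rc_3_1 lc_d_Cert_tree lc_d_rc_3_1 lc_d_rc_24_0 lc_d_rc_28_2 lc_d_rc_3_3 lc_d_Cert_tree lc_d_rc_24_0 lc_d_rc_25_2 lc_d_rc_27_2 lc_d_rc_11_1 lc_d_rc_24_0 lc_d_Cert_tree lc_d_rc_11_1 lc_d_rc_24_0 lc_d_rc_28_2 lc_d_rc_3_1 lc_d_rc_28_2 lc_d_rc_27_2 lc_d_rc_24_0) (@D3.rec (fun _ => (Cert rels S Gen.d)) lc_d_rc_27_2 lc_d_rc_18_3 lc_d_rc_27_2 lc_d_rc_11_1 lc_d_rc_25_2 lc_d_rc_26_2 lc_d_rc_29_2 lc_d_rc_3_1 lc_d_rc_27_2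 lc_d_rc_3_1 lc_d_rc_18_3 lc_d_Cert_tree lc_d_rc_11_1 lc_d_rc_11_1 lc_d_rc_11_1 lc_d_rc_11_3 lc_d_rc_29_2 lc_d_rc_11_1 lc_d_rc_3_1 lc_d_rc_3_1 lc_d_Cert_tree lc_d_rc_11_1 lc_d_rc_3_1 lc_d_Cert_tree lc_d_rc_3_1 lc_d_rc_3_1 lc_d_Cert_tree lc_d_rc_24_0 lc_d_rc_29_2 lc_d_rc_11_1 lc_d_Cert_tree lc_d_rc_24_0) (@D3.rec (fun _ => (Cert rels S Gen.d)) lc_d_rc_27_2 lc_d_rc_27_2 lc_d_rc_26_2 lc_d_rc_28_2 lc_d_rc_24_0 lc_d_rc_27_2 lc_d_rc_18_3 lc_d_rc_27_2 lc_d_rc_11_1 lc_d_rc_28_2 lc_d_rc_25_2 lc_d_rc_28_2 lc_d_rc_26_2 lc_d_rc_29_2 lc_d_rc_3_1 lc_d_rc_27_2 lc_d_rc_3_1 lc_d_rc_28_2 lc_d_rc_18_3 lc_d_Cert_tree lc_d_rc_11_1 lc_d_rc_28_2 lc_d_rc_11_1 lc_d_rc_11_1 lc_d_rc_25_2 lc_d_Cert_tree lc_d_rc_26_2 lc_d_rc_29_2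 lc_d_rc_11_1 lc_d_rc_18_3 lc_d_Cert_tree lc_d_rc_3_1) (@D3.rec (fun _ => (Cert rels S Gen.d)) lc_d_rc_28_2 lc_d_rc_3_1 lc_d_rc_3_1 lc_d_Cert_tree lc_d_rc_18_3 lc_d_Cert_tree lc_d_rc_24_0 lc_d_rc_29_2 lc_d_rc_11_1 lc_d_Cert_tree lc_d_rc_26_2 lc_d_rc_27_2 lc_d_rc_27_2 lc_d_Cert_tree lc_d_rc_24_0 lc_d_Cert_tree lc_d_rc_24_0 lc_d_rc_27_2 lc_d_rc_27_2 lc_d_rc_26_2 lc_d_rc_28_2 lc_d_rc_24_0 lc_d_rc_27_2 lc_d_rc_18_3 lc_d_rc_27_2 lc_d_rc_11_1 lc_d_rc_28_2 lc_d_rc_25_2 lc_d_rc_28_2 lc_d_rc_26_2 lc_d_rc_29_2 lc_d_rc_3_1) (@D3.rec (fun _ => (Cert rels S Gen.d)) lc_d_rc_27_2 lc_d_rc_3_1 lc_d_rc_28_2 lc_d_rc_18_3 lc_d_Cert_tree lc_d_rc_11_1 lc_d_rc_28_2 lc_d_rc_11_1 lc_d_rc_11_1 lc_d_rc_25_2 lc_d_Cert_tree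 lc_d_rc_26_2 lc_d_rc_29_2 lc_d_rc_3_1 lc_d_rc_27_2 lc_d_rc_3_1 lc_d_rc_28_2 lc_d_rc_18_3 lc_d_Cert_tree lc_d_rc_11_1 lc_d_rc_28_2 lc_d_rc_11_1 lc_d_rc_11_1 lc_d_rc_25_2 lc_d_Cert_tree lc_d_rc_26_2 lc_d_rc_29_2 lc_d_rc_11_1 lc_d_rc_3_1 lc_d_Cert_tree lc_d_rc_3_1 lc_d_rc_28_2) (@D3.rec (fun _ => (Cert rels S Gen.d)) lc_d_rc_3_1 lc_d_rc_3_1 lc_d_Cert_tree lc_d_rc_18_3 lc_d_Cert_tree lc_d_rc_24_0 lc_d_rc_29_2 lc_d_rc_11_1 lc_d_Cert_tree lc_d_rc_11_1 lc_d_rc_11_1 lc_d_rc_27_2 lc_d_rc_11_3 lc_d_rc_24_0 lc_d_rc_29_2 lc_d_rc_29_2 lc_d_rc_11_1 lc_d_rc_3_1 lc_d_Cert_tree lc_d_rc_3_1 lc_d_rc_28_2 lc_d_rc_3_1 lc_d_rc_3_1 lc_d_Cert_tree lc_d_rc_18_3 lc_d_Cert_tree lc_d_rc_24_0 lc_d_rc_29_2 lc_d_rc_11_1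 lc_d_rc_47_51 lc_d_rc_11_1 lc_d_rc_11_1) (@D3.rec (fun _ => (Cert rels S Gen.d)) lc_d_Cert_tree lc_d_rc_3_1 lc_d_rc_3_1 lc_d_rc_3_1 lc_d_rc_3_1 lc_d_Cert_tree lc_d_rc_24_0 lc_d_rc_28_2 lc_d_Cert_tree lc_d_rc_24_0 lc_d_rc_18_3 lc_d_rc_11_1 lc_d_Cert_tree lc_d_rc_3_1 lc_d_rc_3_1 lc_d_Cert_tree lc_d_rc_24_0 lc_d_rc_29_2 lc_d_Cert_tree lc_d_rc_3_1 lc_d_rc_3_1 lc_d_Cert_tree lc_d_Cert_tree lc_d_rc_24_0 lc_d_rc_29_2 lc_d_rc_25_2 lc_d_rc_29_2 lc_d_rc_24_0 lc_d_rc_29_2 lc_d_rc_11_1 lc_d_rc_26_2 lc_d_rc_29_2) (@D3.rec (fun _ => (Cert rels S Gen.d)) lc_d_rc_24_0 lc_d_rc_18_3 lc_d_rc_11_1 lc_d_rc_3_1 lc_d_Cert_tree lc_d_rc_24_0 lc_d_rc_11_1 lc_d_rc_24_0 lc_d_rc_27_2 lc_d_rc_18_3 lc_d_rc_27_2 lc_d_rc_11_1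 lc_d_rc_47_23 lc_d_rc_3_1 lc_d_rc_27_2 lc_d_rc_3_1 lc_d_rc_28_2 lc_d_rc_18_3 lc_d_Cert_tree lc_d_rc_11_1 lc_d_rc_28_2 lc_d_rc_25_2 lc_d_rc_29_2 lc_d_rc_11_1 lc_d_rc_3_1 lc_d_Cert_tree lc_d_rc_3_1 lc_d_rc_28_2 lc_d_rc_3_1 lc_d_rc_3_1 lc_d_Cert_tree lc_d_rc_18_3) (@D3.rec (fun _ => (Cert rels S Gen.d)) lc_d_Cert_tree lc_d_rc_24_0 lc_d_rc_29_2 lc_d_rc_11_1 lc_d_rc_3_3 lc_d_rc_11_1 lc_d_rc_11_1 lc_d_rc_11_1 lc_d_rc_3_1 lc_d_Cert_tree lc_d_rc_3_1 lc_d_rc_28_2 lc_d_rc_3_1 lc_d_rc_3_1 lc_d_Cert_tree lc_d_rc_18_3 lc_d_Cert_tree lc_d_rc_24_0 lc_d_rc_29_2 lc_d_rc_11_1 lc_d_Cert_tree lc_d_Cert_tree lc_d_rc_3_1 lc_d_Cert_tree lc_d_rc_24_0 lc_d_rc_29_2 lc_d_rc_3_1 lc_d_rc_3_1 lc_d_rc_3_1 lc_d_rc_3_1 lc_d_rc_24_0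 lc_d_rc_28_2) (@D3.rec (fun _ => (Cert rels S Gen.d)) lc_d_Cert_tree lc_d_Cert_tree lc_d_rc_24_0 lc_d_rc_29_2 lc_d_rc_25_2 lc_d_rc_29_2 lc_d_rc_11_1 lc_d_Cert_tree lc_d_Cert_tree lc_d_rc_3_1 lc_d_Cert_tree lc_d_rc_24_0 lc_d_rc_25_2 lc_d_rc_3_1 lc_d_rc_3_1 lc_d_rc_24_0 lc_d_rc_28_2 lc_d_Cert_tree lc_d_Cert_tree lc_d_rc_24_0 lc_d_rc_25_2 lc_d_Cert_tree lc_d_rc_11_1 lc_d_rc_24_0 lc_d_rc_28_2 lc_d_rc_29_2 lc_d_rc_28_2 lc_d_rc_26_2 lc_d_rc_27_2 lc_d_rc_11_1 lc_d_Cert_tree lc_d_rc_24_0) (@D3.rec (fun _ => (Cert rels S Gen.d)) lc_d_rc_29_2 lc_d_Cert_tree lc_d_rc_24_0 lc_d_rc_29_2 lc_d_rc_3_1 lc_d_rc_29_2 lc_d_rc_46_52 lc_d_rc_24_0 lc_d_rc_29_2 lc_d_rc_25_2 lc_d_rc_29_2 lc_d_rc_27_2 lc_d_rc_25_2 lc_d_rc_26_2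 lc_d_rc_18_3 lc_d_rc_11_1 lc_d_rc_29_2 lc_d_rc_3_1 lc_d_rc_3_1 lc_d_rc_3_1 lc_d_rc_28_2 lc_d_rc_27_2 lc_d_Cert_tree lc_d_rc_11_1 lc_d_Cert_tree lc_d_Cert_tree lc_d_Cert_tree lc_d_rc_24_0 lc_d_rc_24_0 lc_d_rc_24_0 lc_d_rc_11_1 lc_d_Cert_tree) (@D3.rec (fun _ => (Cert rels S Gen.d)) lc_d_rc_3_1 lc_d_rc_24_0 lc_d_rc_11_1 lc_d_Cert_tree lc_d_rc_11_1 lc_d_Cert_tree lc_d_rc_24_0 lc_d_rc_24_0 lc_d_rc_28_2 lc_d_rc_11_3 lc_d_Cert_tree lc_d_rc_24_0 lc_d_rc_25_2 lc_d_rc_3_1 lc_d_rc_27_2 lc_d_rc_24_0 lc_d_rc_28_2 lc_d_rc_27_2 lc_d_rc_3_3 lc_d_rc_24_0 lc_d_rc_24_0 lc_d_rc_28_2 lc_d_rc_28_2 lc_d_rc_27_2 lc_d_rc_27_2 lc_d_rc_3_1 lc_d_rc_27_2 lc_d_rc_3_1 lc_d_rc_18_3 lc_d_Cert_tree lc_d_rc_11_1 lc_d_rc_11_1)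 (@D3.rec (fun _ => (Cert rels S Gen.d)) lc_d_rc_11_1 lc_d_Cert_tree lc_d_rc_29_2 lc_d_rc_11_1 lc_d_rc_3_1 lc_d_Cert_tree lc_d_rc_3_1 lc_d_rc_3_1 lc_d_rc_3_1 lc_d_Cert_tree lc_d_Cert_tree lc_d_rc_24_0 lc_d_rc_29_2 lc_d_rc_18_5 lc_d_rc_11_1 lc_d_rc_11_3 lc_d_rc_11_1 lc_d_Cert_tree lc_d_rc_24_0 lc_d_rc_11_1 lc_d_Cert_tree lc_d_Cert_tree lc_d_rc_24_0 lc_d_rc_29_2 lc_d_rc_3_1 lc_d_rc_24_0 lc_d_rc_29_2 lc_d_rc_25_2 lc_d_rc_29_2 lc_d_rc_24_0 lc_d_rc_27_2 lc_d_rc_18_3) (@D3.rec (fun _ => (Cert rels S Gen.d)) lc_d_rc_27_2 lc_d_rc_11_1 lc_d_rc_28_2 lc_d_rc_25_2 lc_d_rc_28_2 lc_d_rc_26_2 lc_d_rc_29_2 lc_d_rc_3_1 lc_d_rc_27_2 lc_d_rc_3_1 lc_d_rc_28_2 lc_d_rc_18_3 lc_d_Cert_tree lc_d_rc_11_1 lc_d_rc_28_2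 lc_d_rc_11_1 lc_d_rc_11_1 lc_d_rc_25_2 lc_d_Cert_tree lc_d_rc_26_2 lc_d_rc_29_2 lc_d_rc_11_1 lc_d_rc_3_1 lc_d_Cert_tree lc_d_rc_3_1 lc_d_rc_28_2 lc_d_rc_3_1 lc_d_rc_3_1 lc_d_Cert_tree lc_d_rc_18_3 lc_d_Cert_tree lc_d_rc_24_0) (@D3.rec (fun _ => (Cert rels S Gen.d)) lc_d_rc_29_2 lc_d_rc_11_1 lc_d_Cert_tree lc_d_rc_11_1 lc_d_rc_11_1 lc_d_rc_27_2 lc_d_Cert_tree lc_d_rc_24_0 lc_d_rc_29_2 lc_d_rc_29_2 lc_d_rc_11_1 lc_d_Cert_tree lc_d_Cert_tree lc_d_rc_18_3 lc_d_Cert_tree lc_d_rc_24_0 lc_d_rc_29_2 lc_d_rc_3_1 lc_d_Cert_tree lc_d_rc_3_1 lc_d_rc_3_1 lc_d_rc_24_0 lc_d_rc_28_2 lc_d_Cert_tree lc_d_Cert_tree lc_d_rc_24_0 lc_d_rc_29_2 lc_d_rc_29_2 lc_d_rc_11_1 lc_d_Cert_tree lc_d_rc_24_0 lc_d_rc_24_0)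 (@D3.rec (fun _ => (Cert rels S Gen.d)) lc_d_rc_18_3 lc_d_rc_24_0 lc_d_rc_27_2 lc_d_rc_18_3 lc_d_rc_27_2 lc_d_rc_11_1 lc_d_rc_28_2 lc_d_rc_25_2 lc_d_rc_28_2 lc_d_rc_26_2 lc_d_rc_29_2 lc_d_rc_3_1 lc_d_rc_27_2 lc_d_rc_3_1 lc_d_rc_28_2 lc_d_rc_18_3 lc_d_Cert_tree lc_d_rc_11_1 lc_d_rc_28_2 lc_d_rc_11_1 lc_d_rc_11_1 lc_d_rc_25_2 lc_d_Cert_tree lc_d_rc_26_2 lc_d_rc_29_2 lc_d_rc_11_1 lc_d_rc_3_1 lc_d_Cert_tree lc_d_rc_3_1 lc_d_rc_28_2 lc_d_rc_3_1 lc_d_rc_3_1) (@D3.rec (fun _ => (Cert rels S Gen.d)) lc_d_Cert_tree lc_d_rc_18_3 lc_d_Cert_tree lc_d_rc_24_0 lc_d_rc_29_2 lc_d_rc_11_1 lc_d_Cert_tree lc_d_rc_11_1 lc_d_rc_11_1 lc_d_rc_27_2 lc_d_Cert_tree lc_d_rc_24_0 lc_d_rc_29_2 lc_d_rc_29_2 lc_d_rc_11_1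 lc_d_rc_3_1 lc_d_Cert_tree lc_d_rc_3_1 lc_d_rc_28_2 lc_d_rc_3_1 lc_d_rc_3_1 lc_d_Cert_tree lc_d_rc_18_3 lc_d_Cert_tree lc_d_rc_24_0 lc_d_rc_29_2 lc_d_rc_11_1 lc_d_Cert_tree lc_d_rc_11_1 lc_d_rc_11_1 lc_d_rc_26_2 lc_d_rc_24_0) (@D3.rec (fun _ => (Cert rels S Gen.d)) lc_d_rc_29_2 lc_d_rc_29_2 lc_d_rc_11_1 lc_d_Cert_tree lc_d_Cert_tree lc_d_rc_3_1 lc_d_Cert_tree lc_d_rc_24_0 lc_d_rc_29_2 lc_d_rc_3_1 lc_d_Cert_tree lc_d_rc_3_1 lc_d_rc_3_1 lc_d_rc_24_0 lc_d_rc_28_2 lc_d_Cert_tree lc_d_Cert_tree lc_d_rc_24_0 lc_d_rc_29_2 lc_d_rc_25_2 lc_d_rc_29_2 lc_d_rc_27_2 lc_d_rc_18_5 lc_d_rc_24_0 lc_d_rc_29_2 lc_d_rc_11_1 lc_d_rc_11_3 lc_d_rc_18_3 lc_d_rc_29_2 lc_d_rc_11_1 lc_d_Cert_tree lc_d_Cert_tree) (@D3.rec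 (fun _ => (Cert rels S Gen.d)) lc_d_rc_3_1 lc_d_Cert_tree lc_d_rc_24_0 lc_d_rc_29_2 lc_d_rc_3_1 lc_d_rc_27_2 lc_d_rc_24_0 lc_d_rc_28_2 lc_d_Cert_tree lc_d_rc_24_0 lc_d_rc_29_2 lc_d_Cert_tree lc_d_rc_11_1 lc_d_rc_11_1 lc_d_rc_11_1 lc_d_rc_24_0 lc_d_rc_28_2 lc_d_Cert_tree lc_d_rc_24_0 lc_d_rc_28_2 lc_d_Cert_tree lc_d_rc_24_0 lc_d_rc_18_3 lc_d_rc_11_1 lc_d_rc_11_1 lc_d_rc_11_1 lc_d_Cert_tree lc_d_rc_24_0 lc_d_rc_29_2 lc_d_Cert_tree lc_d_Cert_tree lc_d_rc_24_0) (@D3.rec (fun _ => (Cert rels S Gen.d)) lc_d_rc_29_2 lc_d_rc_3_1 lc_d_rc_29_2 lc_d_rc_24_0 lc_d_rc_29_2 lc_d_rc_3_1 lc_d_rc_24_0 lc_d_rc_29_2 lc_d_rc_24_0 lc_d_rc_29_2 lc_d_rc_25_2 lc_d_rc_29_2 lc_d_rc_27_2 lc_d_rc_25_2 lc_d_rc_26_2 lc_d_rc_18_3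 lc_d_rc_29_2 lc_d_rc_11_1 lc_d_rc_29_2 lc_d_rc_3_1 lc_d_rc_11_1 lc_d_rc_3_1 lc_d_rc_24_0 lc_d_rc_27_2 lc_d_rc_18_3 lc_d_rc_3_1 lc_d_rc_27_2 lc_d_rc_3_1 lc_d_rc_46_52 lc_d_rc_18_3 lc_d_Cert_tree lc_d_rc_11_1) (@D3.rec (fun _ => (Cert rels S Gen.d)) lc_d_rc_3_1 lc_d_Cert_tree lc_d_rc_3_1 lc_d_rc_28_2 lc_d_rc_25_2 lc_d_rc_29_2 lc_d_Cert_tree lc_d_rc_18_3 lc_d_Cert_tree lc_d_rc_24_0 lc_d_rc_29_2 lc_d_rc_11_1 lc_d_Cert_tree lc_d_Cert_tree lc_d_rc_3_1 lc_d_Cert_tree lc_d_rc_24_0 lc_d_rc_29_2 lc_d_rc_3_1 lc_d_rc_3_1 lc_d_rc_3_1 lc_d_rc_3_1 lc_d_rc_24_0 lc_d_rc_28_2 lc_d_Cert_tree lc_d_Cert_tree lc_d_rc_24_0 lc_d_rc_29_2 lc_d_rc_25_2 lc_d_rc_29_2 lc_d_rc_11_1 lc_d_Cert_tree) (@D3.rec (fun _ => (Cert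 rels S Gen.d)) lc_d_Cert_tree lc_d_rc_3_1 lc_d_Cert_tree lc_d_rc_24_0 lc_d_rc_29_2 lc_d_rc_24_0 lc_d_rc_24_0 lc_d_rc_25_2 lc_d_rc_29_2 lc_d_Cert_tree lc_d_rc_11_1 lc_d_Cert_tree lc_d_rc_24_0 lc_d_rc_29_2 lc_d_rc_24_0 lc_d_rc_28_2 lc_d_Cert_tree lc_d_Cert_tree lc_d_rc_24_0 lc_d_rc_29_2 lc_d_rc_3_1 lc_d_rc_29_2 lc_d_rc_28_2 lc_d_Cert_tree lc_d_rc_24_0 lc_d_rc_24_0 lc_d_rc_25_2 lc_d_rc_29_2 lc_d_rc_27_2 lc_d_rc_25_2 lc_d_rc_26_2 lc_d_Cert_tree)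
def ce_d_3 : D2 → D3 → (Cert rels S Gen.d) := @D2.rec (fun _ => D3 → (Cert rels S Gen.d)) (@D3.rec (fun _ => (Cert rels S Gen.d)) lc_d_rc_11_1 lc_d_Cert_tree lc_d_rc_24_0 lc_d_rc_24_0 lc_d_rc_28_2 lc_d_Cert_tree lc_d_Cert_tree lc_d_rc_24_0 lc_d_rc_25_2 lc_d_rc_28_2 lc_d_Cert_tree lc_d_rc_24_0 lc_d_rc_24_0 lc_d_rc_25_2 lc_d_rc_27_2 lc_d_rc_24_0 lc_d_rc_28_2 lc_d_rc_28_2 lc_d_rc_3_1 lc_d_rc_27_2 lc_d_rc_27_2 lc_d_rc_26_2 lc_d_rc_29_2 lc_d_Cert_tree lc_d_rc_24_0 lc_d_rc_29_2 lc_d_rc_18_3 lc_d_rc_11_1 lc_d_rc_29_2 lc_d_rc_24_0 lc_d_rc_29_2 lc_d_rc_3_1) (@D3.rec (fun _ => (Cert rels S Gen.d)) lc_d_rc_29_2 lc_d_rc_3_1 lc_d_rc_3_1 lc_d_rc_3_1 lc_d_rc_25_2 lc_d_rc_29_2 lc_d_rc_27_2 lc_d_rc_25_2 lc_d_rc_26_2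 lc_d_rc_28_2 lc_d_rc_27_2 lc_d_Cert_tree lc_d_Cert_tree lc_d_rc_18_3 lc_d_rc_11_1 lc_d_rc_11_1 lc_d_rc_11_1 lc_d_rc_3_1 lc_d_rc_3_1 lc_d_Cert_tree lc_d_rc_28_2 lc_d_Cert_tree lc_d_rc_24_0 lc_d_Cert_tree lc_d_Cert_tree lc_d_rc_24_0 lc_d_rc_24_0 lc_d_rc_24_0 lc_d_rc_11_1 lc_d_rc_24_0 lc_d_rc_24_0 lc_d_rc_28_2) (@D3.rec (fun _ => (Cert rels S Gen.d)) lc_d_rc_26_4 lc_d_Cert_tree lc_d_rc_24_0 lc_d_rc_18_3 lc_d_rc_11_1 lc_d_rc_28_2 lc_d_rc_27_2 lc_d_rc_11_3 lc_d_rc_24_0 lc_d_rc_27_2 lc_d_rc_18_3 lc_d_rc_28_2 lc_d_rc_27_2 lc_d_rc_27_2 lc_d_rc_25_2 lc_d_rc_11_1 lc_d_rc_3_1 lc_d_Cert_tree lc_d_rc_3_1 lc_d_rc_3_1 lc_d_rc_3_1 lc_d_Cert_tree lc_d_Cert_tree lc_d_rc_24_0 lc_d_rc_29_2 lc_d_Cert_tree lc_d_rc_11_1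 lc_d_rc_24_0 lc_d_rc_29_2 lc_d_rc_11_1 lc_d_Cert_tree lc_d_Cert_tree) (@D3.rec (fun _ => (Cert rels S Gen.d)) lc_d_Cert_tree lc_d_rc_24_0 lc_d_rc_29_2 lc_d_rc_3_1 lc_d_rc_3_1 lc_d_rc_24_0 lc_d_Cert_tree lc_d_rc_24_0 lc_d_rc_29_2 lc_d_rc_25_2 lc_d_rc_29_2 lc_d_rc_29_2 lc_d_Cert_tree lc_d_rc_24_0 lc_d_rc_18_5 lc_d_Cert_tree lc_d_rc_24_0 lc_d_rc_29_2 lc_d_rc_24_0 lc_d_rc_29_2 lc_d_rc_3_1 lc_d_rc_29_2 lc_d_rc_18_5 lc_d_rc_29_2 lc_d_rc_27_2 lc_d_rc_25_2 lc_d_rc_26_2 lc_d_rc_3_1 lc_d_rc_27_2 lc_d_rc_3_1 lc_d_rc_28_2 lc_d_rc_18_3) (@D3.rec (fun _ => (Cert rels S Gen.d)) lc_d_Cert_tree lc_d_rc_25_2 lc_d_rc_28_2 lc_d_rc_11_1 lc_d_rc_11_1 lc_d_rc_25_2 lc_d_Cert_tree lc_d_rc_26_2 lc_d_rc_29_2 lc_d_rc_11_1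 lc_d_rc_3_1 lc_d_Cert_tree lc_d_rc_3_1 lc_d_rc_28_2 lc_d_rc_3_1 lc_d_rc_3_1 lc_d_Cert_tree lc_d_rc_18_3 lc_d_Cert_tree lc_d_rc_24_0 lc_d_rc_29_2 lc_d_rc_11_1 lc_d_Cert_tree lc_d_rc_11_1 lc_d_rc_11_1 lc_d_rc_27_2 lc_d_Cert_tree lc_d_rc_24_0 lc_d_rc_29_2 lc_d_rc_29_2 lc_d_rc_11_1 lc_d_Cert_tree) (@D3.rec (fun _ => (Cert rels S Gen.d)) lc_d_Cert_tree lc_d_rc_3_1 lc_d_Cert_tree lc_d_rc_24_0 lc_d_rc_29_2 lc_d_rc_3_1 lc_d_Cert_tree lc_d_rc_3_1 lc_d_rc_3_1 lc_d_rc_24_0 lc_d_rc_28_2 lc_d_Cert_tree lc_d_Cert_tree lc_d_rc_24_0 lc_d_rc_29_2 lc_d_rc_25_2 lc_d_rc_29_2 lc_d_rc_11_1 lc_d_Cert_tree lc_d_rc_24_0 lc_d_rc_29_2 lc_d_rc_11_1 lc_d_rc_26_2 lc_d_rc_24_0 lc_d_rc_29_2 lc_d_rc_18_3 lc_d_rc_29_2 lc_d_Cert_tree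 lc_d_rc_11_1 lc_d_Cert_tree lc_d_rc_24_0 lc_d_rc_29_2) (@D3.rec (fun _ => (Cert rels S Gen.d)) lc_d_rc_24_0 lc_d_rc_28_2 lc_d_Cert_tree lc_d_Cert_tree lc_d_rc_24_0 lc_d_rc_29_2 lc_d_rc_29_2 lc_d_rc_3_1 lc_d_Cert_tree lc_d_rc_24_0 lc_d_rc_28_2 lc_d_Cert_tree lc_d_rc_27_2 lc_d_Cert_tree lc_d_rc_24_0 lc_d_rc_24_0 lc_d_rc_25_2 lc_d_rc_29_2 lc_d_rc_24_0 lc_d_rc_18_3 lc_d_rc_18_3 lc_d_rc_11_1 lc_d_rc_3_1 lc_d_rc_27_2 lc_d_rc_3_1 lc_d_rc_28_2 lc_d_rc_18_3 lc_d_Cert_tree lc_d_rc_25_2 lc_d_rc_28_2 lc_d_rc_11_1 lc_d_rc_11_1) (@D3.rec (fun _ => (Cert rels S Gen.d)) lc_d_rc_25_2 lc_d_Cert_tree lc_d_rc_26_2 lc_d_rc_29_2 lc_d_rc_11_1 lc_d_rc_3_1 lc_d_Cert_tree lc_d_rc_3_1 lc_d_rc_28_2 lc_d_rc_3_1 lc_d_rc_3_1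 lc_d_Cert_tree lc_d_rc_18_3 lc_d_Cert_tree lc_d_rc_24_0 lc_d_rc_29_2 lc_d_rc_11_1 lc_d_Cert_tree lc_d_rc_11_1 lc_d_rc_11_1 lc_d_Cert_tree lc_d_rc_24_0 lc_d_rc_29_2 lc_d_rc_29_2 lc_d_rc_11_1 lc_d_Cert_tree lc_d_Cert_tree lc_d_rc_3_1 lc_d_Cert_tree lc_d_rc_24_0 lc_d_rc_29_2 lc_d_rc_3_1) (@D3.rec (fun _ => (Cert rels S Gen.d)) lc_d_Cert_tree lc_d_rc_3_1 lc_d_rc_3_1 lc_d_rc_24_0 lc_d_rc_28_2 lc_d_Cert_tree lc_d_Cert_tree lc_d_rc_24_0 lc_d_rc_29_2 lc_d_rc_25_2 lc_d_rc_29_2 lc_d_rc_11_1 lc_d_Cert_tree lc_d_rc_24_0 lc_d_rc_29_2 lc_d_rc_11_1 lc_d_rc_3_3 lc_d_rc_24_0 lc_d_rc_29_2 lc_d_rc_18_3 lc_d_rc_29_2 lc_d_rc_11_1 lc_d_Cert_tree lc_d_Cert_tree lc_d_rc_3_1 lc_d_Cert_tree lc_d_rc_24_0 lc_d_rc_29_2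 lc_d_rc_3_1 lc_d_Cert_tree lc_d_rc_3_1 lc_d_rc_3_1) (@D3.rec (fun _ => (Cert rels S Gen.d)) lc_d_rc_24_0 lc_d_rc_28_2 lc_d_Cert_tree lc_d_Cert_tree lc_d_rc_24_0 lc_d_rc_29_2 lc_d_rc_25_2 lc_d_rc_29_2 lc_d_rc_26_2 lc_d_rc_24_0 lc_d_rc_29_2 lc_d_rc_11_1 lc_d_rc_29_2 lc_d_rc_29_2 lc_d_Cert_tree lc_d_rc_11_1 lc_d_Cert_tree lc_d_rc_24_0 lc_d_rc_29_2 lc_d_rc_24_0 lc_d_rc_28_2 lc_d_Cert_tree lc_d_Cert_tree lc_d_rc_24_0 lc_d_rc_29_2 lc_d_rc_3_1 lc_d_rc_29_2 lc_d_rc_28_0 lc_d_rc_3_1 lc_d_rc_24_0 lc_d_rc_29_2 lc_d_rc_3_1) (@D3.rec (fun _ => (Cert rels S Gen.d)) lc_d_rc_28_2 lc_d_Cert_tree lc_d_rc_27_2 lc_d_Cert_tree lc_d_rc_24_0 lc_d_rc_29_2 lc_d_rc_24_0 lc_d_rc_29_2 lc_d_rc_25_2 lc_d_rc_29_2 lc_d_rc_27_2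 lc_d_rc_25_2 lc_d_rc_26_2 lc_d_rc_29_2 lc_d_rc_18_3 lc_d_rc_29_2 lc_d_rc_11_1 lc_d_rc_18_3 lc_d_Cert_tree lc_d_rc_11_1 lc_d_Cert_tree lc_d_rc_24_0 lc_d_rc_29_2 lc_d_rc_24_0 lc_d_rc_28_2 lc_d_Cert_tree lc_d_rc_24_0 lc_d_rc_29_2 lc_d_rc_28_2 lc_d_Cert_tree lc_d_rc_24_0 lc_d_rc_25_2) (@D3.rec (fun _ => (Cert rels S Gen.d)) lc_d_rc_24_0 lc_d_rc_28_2 lc_d_Cert_tree lc_d_rc_28_2 lc_d_Cert_tree lc_d_rc_24_0 lc_d_rc_18_3 lc_d_rc_18_5 lc_d_rc_24_0 lc_d_rc_29_2 lc_d_rc_18_3 lc_d_rc_11_1 lc_d_rc_3_1 lc_d_Cert_tree lc_d_Cert_tree lc_d_rc_24_0 lc_d_rc_29_2 lc_d_rc_18_3 lc_d_rc_11_1 lc_d_rc_29_2 lc_d_rc_24_0 lc_d_rc_29_2 lc_d_rc_24_0 lc_d_rc_29_2 lc_d_rc_25_2 lc_d_rc_29_2 lc_d_rc_3_1 lc_d_rc_3_1 lc_d_rc_3_1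 lc_d_rc_18_3 lc_d_rc_29_2 lc_d_rc_18_3) (@D3.rec (fun _ => (Cert rels S Gen.d)) lc_d_rc_25_2 lc_d_rc_29_2 lc_d_rc_18_5 lc_d_rc_29_2 lc_d_rc_27_2 lc_d_rc_25_2 lc_d_rc_26_2 lc_d_rc_28_2 lc_d_rc_27_2 lc_d_Cert_tree lc_d_rc_11_1 lc_d_rc_18_3 lc_d_rc_3_1 lc_d_rc_11_1 lc_d_rc_11_1 lc_d_rc_3_1 lc_d_rc_3_1 lc_d_rc_11_1 lc_d_rc_3_1 lc_d_Cert_tree lc_d_rc_24_0 lc_d_rc_11_1 lc_d_Cert_tree lc_d_Cert_tree lc_d_rc_3_1 lc_d_Cert_tree lc_d_rc_24_0 lc_d_rc_29_2 lc_d_rc_24_0 lc_d_rc_24_0 lc_d_rc_25_2 lc_d_rc_29_2) (@D3.rec (fun _ => (Cert rels S Gen.d)) lc_d_Cert_tree lc_d_rc_11_1 lc_d_Cert_tree lc_d_rc_24_0 lc_d_rc_29_2 lc_d_rc_24_0 lc_d_rc_28_2 lc_d_Cert_tree lc_d_Cert_tree lc_d_rc_24_0 lc_d_rc_29_2 lc_d_rc_3_1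 lc_d_rc_29_2 lc_d_rc_28_2 lc_d_Cert_tree lc_d_rc_24_0 lc_d_rc_24_0 lc_d_rc_25_2 lc_d_rc_29_2 lc_d_rc_27_2 lc_d_rc_25_2 lc_d_rc_26_2 lc_d_Cert_tree lc_d_rc_11_1 lc_d_Cert_tree lc_d_rc_24_0 lc_d_rc_29_2 lc_d_rc_24_0 lc_d_rc_24_0 lc_d_rc_3_1 lc_d_rc_29_2 lc_d_rc_47_23) (@D3.rec (fun _ => (Cert rels S Gen.d)) lc_d_rc_25_2 lc_d_rc_27_2 lc_d_rc_25_2 lc_d_rc_26_2 lc_d_rc_24_0 lc_d_rc_28_2 lc_d_Cert_tree lc_d_Cert_tree lc_d_rc_24_0 lc_d_rc_29_2 lc_d_rc_18_3 lc_d_rc_11_1 lc_d_rc_29_2 lc_d_rc_28_2 lc_d_Cert_tree lc_d_rc_24_0 lc_d_rc_24_0 lc_d_rc_25_2 lc_d_rc_29_2 lc_d_rc_3_1 lc_d_rc_3_1 lc_d_rc_3_1 lc_d_rc_45_75 lc_d_rc_24_0 lc_d_rc_29_2 lc_d_rc_25_2 lc_d_rc_47_37 lc_d_rc_27_2 lc_d_rc_27_0 lc_d_rc_47_9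 lc_d_rc_28_2 lc_d_rc_27_2) (@D3.rec (fun _ => (Cert rels S Gen.d)) lc_d_Cert_tree lc_d_rc_24_0 lc_d_rc_28_2 lc_d_Cert_tree lc_d_Cert_tree lc_d_rc_24_0 lc_d_rc_18_3 lc_d_rc_11_1 lc_d_rc_28_2 lc_d_Cert_tree lc_d_rc_24_0 lc_d_rc_24_0 lc_d_rc_25_2 lc_d_rc_27_2 lc_d_rc_18_1 lc_d_rc_24_0 lc_d_rc_29_2 lc_d_rc_25_2 lc_d_rc_25_2 lc_d_rc_27_2 lc_d_rc_18_3 lc_d_rc_28_2 lc_d_rc_11_1 lc_d_rc_27_2 lc_d_rc_27_2 lc_d_rc_3_1 lc_d_rc_3_1 lc_d_rc_25_2 lc_d_rc_26_2 lc_d_rc_29_2 lc_d_rc_24_0 lc_d_rc_29_2) (@D3.rec (fun _ => (Cert rels S Gen.d)) lc_d_rc_18_3 lc_d_rc_11_1 lc_d_rc_29_2 lc_d_Cert_tree lc_d_rc_18_3 lc_d_rc_11_1 lc_d_rc_11_1 lc_d_rc_11_1 lc_d_rc_3_1 lc_d_rc_29_2 lc_d_rc_3_1 lc_d_rc_3_1 lc_d_rc_3_1 lc_d_rc_3_1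 lc_d_rc_3_1 lc_d_Cert_tree lc_d_rc_27_2 lc_d_rc_25_2 lc_d_rc_26_2 lc_d_rc_28_2 lc_d_rc_27_2 lc_d_Cert_tree lc_d_rc_28_2 lc_d_Cert_tree lc_d_rc_24_0 lc_d_rc_24_0 lc_d_rc_27_2 lc_d_rc_29_2 lc_d_Cert_tree lc_d_rc_11_1 lc_d_rc_11_1 lc_d_Cert_tree) (@D3.rec (fun _ => (Cert rels S Gen.d)) lc_d_rc_3_1 lc_d_Cert_tree lc_d_rc_24_0 lc_d_rc_26_4 lc_d_rc_24_0 lc_d_rc_18_3 lc_d_rc_24_0 lc_d_rc_24_0 lc_d_rc_18_3 lc_d_rc_18_3 lc_d_rc_18_3 lc_d_rc_28_2 lc_d_rc_27_2 lc_d_rc_28_2 lc_d_rc_24_0 lc_d_rc_18_3 lc_d_Cert_tree lc_d_rc_27_2 lc_d_rc_25_2 lc_d_rc_18_3 lc_d_rc_27_2 lc_d_rc_3_1 lc_d_rc_11_1 lc_d_Cert_tree lc_d_Cert_tree lc_d_Cert_tree lc_d_rc_24_0 lc_d_rc_29_2 lc_d_Cert_tree lc_d_rc_3_1 lc_d_rc_24_0 lc_d_Cert_tree)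 (@D3.rec (fun _ => (Cert rels S Gen.d)) lc_d_rc_24_0 lc_d_rc_29_2 lc_d_rc_11_1 lc_d_rc_29_2 lc_d_rc_24_0 lc_d_rc_29_2 lc_d_rc_29_2 lc_d_Cert_tree lc_d_Cert_tree lc_d_rc_24_0 lc_d_rc_29_2 lc_d_rc_24_0 lc_d_Cert_tree lc_d_rc_24_0 lc_d_rc_29_2 lc_d_rc_3_1 lc_d_rc_29_2 lc_d_rc_3_1 lc_d_Cert_tree lc_d_rc_24_0 lc_d_rc_29_2 lc_d_rc_25_2 lc_d_rc_29_2 lc_d_rc_27_2 lc_d_rc_25_2 lc_d_rc_26_2 lc_d_rc_24_0 lc_d_rc_18_5 lc_d_rc_18_5 lc_d_rc_24_0 lc_d_rc_29_2 lc_d_rc_18_3) (@D3.rec (fun _ => (Cert rels S Gen.d)) lc_d_rc_11_1 lc_d_rc_29_2 lc_d_rc_18_5 lc_d_rc_29_2 lc_d_rc_3_1 lc_d_rc_3_1 lc_d_rc_3_1 lc_d_rc_18_5 lc_d_rc_18_5 lc_d_rc_26_2 lc_d_rc_28_2 lc_d_rc_27_2 lc_d_Cert_tree lc_d_rc_11_1 lc_d_rc_3_1 lc_d_Cert_tree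 lc_d_rc_3_1 lc_d_rc_28_2 lc_d_rc_3_1 lc_d_rc_3_1 lc_d_rc_26_2 lc_d_rc_18_3 lc_d_Cert_tree lc_d_rc_24_0 lc_d_rc_29_2 lc_d_rc_25_2 lc_d_Cert_tree lc_d_rc_11_1 lc_d_rc_11_1 lc_d_rc_26_0 lc_d_Cert_tree lc_d_rc_24_0) (@D3.rec (fun _ => (Cert rels S Gen.d)) lc_d_rc_29_2 lc_d_rc_29_2 lc_d_rc_11_1 lc_d_Cert_tree lc_d_Cert_tree lc_d_rc_3_1 lc_d_Cert_tree lc_d_rc_24_0 lc_d_rc_29_2 lc_d_rc_3_1 lc_d_Cert_tree lc_d_rc_3_1 lc_d_rc_3_1 lc_d_rc_24_0 lc_d_rc_28_2 lc_d_Cert_tree lc_d_Cert_tree lc_d_rc_24_0 lc_d_rc_29_2 lc_d_rc_25_2 lc_d_rc_29_2 lc_d_rc_11_1 lc_d_Cert_tree lc_d_rc_24_0 lc_d_rc_29_2 lc_d_rc_11_1 lc_d_Cert_tree lc_d_rc_24_0 lc_d_rc_29_2 lc_d_rc_18_3 lc_d_rc_29_2 lc_d_Cert_tree) (@D3.rec (fun _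 => (Cert rels S Gen.d)) lc_d_rc_11_1 lc_d_Cert_tree lc_d_rc_24_0 lc_d_rc_29_2 lc_d_rc_24_0 lc_d_rc_28_2 lc_d_Cert_tree lc_d_Cert_tree lc_d_rc_24_0 lc_d_rc_29_2 lc_d_rc_3_1 lc_d_rc_29_2 lc_d_rc_3_1 lc_d_Cert_tree lc_d_rc_24_0 lc_d_rc_29_2 lc_d_rc_3_1 lc_d_rc_28_2 lc_d_Cert_tree lc_d_rc_27_2 lc_d_Cert_tree lc_d_rc_24_0 lc_d_rc_29_2 lc_d_rc_24_0 lc_d_rc_29_2 lc_d_rc_25_2 lc_d_rc_29_2 lc_d_rc_27_2 lc_d_rc_25_2 lc_d_rc_26_2 lc_d_rc_11_1 lc_d_rc_24_0)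
def ce_d_4 : D2 → D3 → (Cert rels S Gen.d) := @D2.rec (fun _ => D3 → (Cert rels S Gen.d)) (@D3.rec (fun _ => (Cert rels S Gen.d)) lc_d_rc_29_2 lc_d_rc_18_3 lc_d_rc_29_2 lc_d_rc_29_2 lc_d_rc_18_3 lc_d_rc_29_2 lc_d_rc_11_1 lc_d_rc_18_3 lc_d_rc_24_0 lc_d_rc_28_2 lc_d_Cert_tree lc_d_Cert_tree lc_d_rc_24_0 lc_d_rc_29_2 lc_d_rc_18_3 lc_d_rc_29_2 lc_d_rc_28_2 lc_d_Cert_tree lc_d_rc_27_2 lc_d_Cert_tree lc_d_rc_24_0 lc_d_rc_24_0 lc_d_rc_25_2 lc_d_rc_29_2 lc_d_rc_24_0 lc_d_rc_18_3 lc_d_rc_27_2 lc_d_Cert_tree lc_d_rc_24_0 lc_d_rc_29_2 lc_d_rc_24_0 lc_d_rc_18_3) (@D3.rec (fun _ => (Cert rels S Gen.d)) lc_d_rc_25_2 lc_d_rc_25_2 lc_d_rc_25_2 lc_d_rc_18_3 lc_d_rc_11_1 lc_d_rc_11_1 lc_d_rc_3_1 lc_d_rc_11_1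 lc_d_rc_3_1 lc_d_Cert_tree lc_d_rc_3_1 lc_d_rc_28_2 lc_d_rc_3_1 lc_d_rc_3_1 lc_d_rc_25_2 lc_d_rc_18_3 lc_d_rc_24_0 lc_d_rc_29_2 lc_d_rc_25_2 lc_d_Cert_tree lc_d_rc_11_1 lc_d_rc_11_1 lc_d_rc_26_0 lc_d_Cert_tree lc_d_rc_24_0 lc_d_rc_29_2 lc_d_rc_29_2 lc_d_rc_11_1 lc_d_Cert_tree lc_d_Cert_tree lc_d_rc_3_1 lc_d_Cert_tree) (@D3.rec (fun _ => (Cert rels S Gen.d)) lc_d_rc_24_0 lc_d_rc_29_2 lc_d_rc_3_1 lc_d_Cert_tree lc_d_rc_3_1 lc_d_rc_3_1 lc_d_rc_24_0 lc_d_rc_25_2 lc_d_Cert_tree lc_d_rc_18_1 lc_d_rc_24_0 lc_d_rc_29_2 lc_d_rc_11_1 lc_d_rc_29_2 lc_d_Cert_tree lc_d_rc_24_0 lc_d_rc_29_2 lc_d_rc_11_1 lc_d_rc_24_0 lc_d_rc_29_2 lc_d_rc_3_1 lc_d_rc_29_2 lc_d_Cert_tree lc_d_rc_11_1 lc_d_Cert_tree lc_d_rc_24_0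 lc_d_rc_29_2 lc_d_rc_24_0 lc_d_rc_28_2 lc_d_Cert_tree lc_d_Cert_tree lc_d_rc_24_0) (@D3.rec (fun _ => (Cert rels S Gen.d)) lc_d_rc_29_2 lc_d_rc_3_1 lc_d_rc_29_2 lc_d_rc_3_1 lc_d_Cert_tree lc_d_rc_24_0 lc_d_rc_29_2 lc_d_rc_3_1 lc_d_rc_28_2 lc_d_Cert_tree lc_d_rc_27_2 lc_d_Cert_tree lc_d_rc_24_0 lc_d_rc_29_2 lc_d_rc_24_0 lc_d_rc_29_2 lc_d_rc_25_2 lc_d_rc_29_2 lc_d_rc_27_2 lc_d_rc_25_2 lc_d_rc_26_2 lc_d_rc_27_2 lc_d_rc_24_0 lc_d_rc_29_2 lc_d_rc_18_3 lc_d_rc_29_2 lc_d_rc_11_3 lc_d_rc_29_2 lc_d_rc_11_1 lc_d_rc_18_3 lc_d_rc_26_2 lc_d_Cert_tree) (@D3.rec (fun _ => (Cert rels S Gen.d)) lc_d_rc_11_1 lc_d_Cert_tree lc_d_rc_24_0 lc_d_rc_29_2 lc_d_rc_24_0 lc_d_rc_28_2 lc_d_Cert_tree lc_d_Cert_tree lc_d_rc_24_0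 lc_d_rc_29_2 lc_d_rc_3_1 lc_d_rc_29_2 lc_d_rc_11_3 lc_d_rc_24_0 lc_d_rc_29_2 lc_d_rc_3_1 lc_d_rc_28_2 lc_d_Cert_tree lc_d_Cert_tree lc_d_rc_24_0 lc_d_rc_29_2 lc_d_rc_24_0 lc_d_rc_29_2 lc_d_rc_25_2 lc_d_rc_29_2 lc_d_rc_27_2 lc_d_rc_25_2 lc_d_rc_26_2 lc_d_rc_11_1 lc_d_rc_18_3 lc_d_rc_29_2 lc_d_rc_24_0) (@D3.rec (fun _ => (Cert rels S Gen.d)) lc_d_rc_28_2 lc_d_Cert_tree lc_d_Cert_tree lc_d_rc_24_0 lc_d_rc_29_2 lc_d_rc_18_3 lc_d_rc_11_1 lc_d_rc_29_2 lc_d_rc_28_2 lc_d_Cert_tree lc_d_rc_27_2 lc_d_Cert_tree lc_d_rc_24_0 lc_d_rc_29_2 lc_d_rc_24_0 lc_d_rc_29_2 lc_d_rc_25_2 lc_d_rc_29_2 lc_d_rc_3_1 lc_d_rc_3_1 lc_d_rc_3_1 lc_d_rc_3_1 lc_d_rc_18_3 lc_d_rc_29_2 lc_d_rc_27_2 lc_d_Cert_tree lc_d_rc_24_0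 lc_d_rc_29_2 lc_d_rc_24_0 lc_d_rc_29_2 lc_d_rc_18_3 lc_d_rc_25_2) (@D3.rec (fun _ => (Cert rels S Gen.d)) lc_d_rc_29_2 lc_d_rc_25_2 lc_d_rc_29_2 lc_d_rc_27_2 lc_d_rc_25_2 lc_d_rc_26_2 lc_d_rc_28_2 lc_d_rc_27_2 lc_d_Cert_tree lc_d_rc_11_1 lc_d_rc_18_3 lc_d_rc_3_1 lc_d_rc_11_1 lc_d_rc_24_0 lc_d_rc_28_2 lc_d_Cert_tree lc_d_rc_24_0 lc_d_rc_18_3 lc_d_rc_29_2 lc_d_rc_28_2 lc_d_Cert_tree lc_d_rc_24_0 lc_d_rc_25_2 lc_d_rc_11_3 lc_d_rc_24_0 lc_d_rc_29_2 lc_d_rc_25_2 lc_d_rc_18_3 lc_d_rc_28_2 lc_d_Cert_tree lc_d_rc_24_0 lc_d_rc_18_5) (@D3.rec (fun _ => (Cert rels S Gen.d)) lc_d_rc_24_0 lc_d_rc_29_2 lc_d_rc_18_3 lc_d_rc_11_1 lc_d_rc_18_5 lc_d_rc_26_2 lc_d_rc_29_2 lc_d_rc_11_1 lc_d_rc_3_1 lc_d_rc_24_0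 lc_d_rc_29_2 lc_d_rc_24_0 lc_d_rc_29_2 lc_d_rc_18_3 lc_d_rc_25_2 lc_d_rc_29_2 lc_d_Cert_tree lc_d_rc_18_3 lc_d_rc_11_1 lc_d_rc_11_1 lc_d_rc_11_1 lc_d_rc_18_3 lc_d_rc_25_2 lc_d_rc_29_2 lc_d_rc_18_5 lc_d_rc_29_2 lc_d_rc_27_2 lc_d_rc_25_2 lc_d_rc_3_1 lc_d_rc_3_1 lc_d_rc_3_1 lc_d_Cert_tree) (@D3.rec (fun _ => (Cert rels S Gen.d)) lc_d_rc_11_1 lc_d_rc_18_3 lc_d_rc_11_1 lc_d_rc_18_3 lc_d_rc_18_3 lc_d_rc_27_2 lc_d_rc_25_2 lc_d_rc_26_2 lc_d_rc_18_5 lc_d_rc_18_5 lc_d_rc_26_2 lc_d_rc_28_2 lc_d_rc_27_2 lc_d_Cert_tree lc_d_rc_28_2 lc_d_Cert_tree lc_d_rc_24_0 lc_d_rc_3_1 lc_d_rc_11_1 lc_d_rc_3_1 lc_d_rc_3_1 lc_d_rc_11_1 lc_d_rc_11_1 lc_d_Cert_tree lc_d_rc_24_0 lc_d_rc_25_2 lc_d_Cert_tree lc_d_rc_11_1 lc_d_Cert_tree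 lc_d_rc_24_0 lc_d_rc_29_2 lc_d_rc_24_0) (@D3.rec (fun _ => (Cert rels S Gen.d)) lc_d_rc_24_0 lc_d_rc_3_1 lc_d_rc_29_2 lc_d_rc_27_2 lc_d_rc_25_2 lc_d_rc_26_2 lc_d_rc_24_0 lc_d_rc_28_2 lc_d_Cert_tree lc_d_Cert_tree lc_d_rc_24_0 lc_d_rc_29_2 lc_d_rc_18_3 lc_d_rc_11_1 lc_d_rc_29_2 lc_d_rc_28_2 lc_d_Cert_tree lc_d_rc_24_0 lc_d_rc_24_0 lc_d_rc_25_2 lc_d_rc_29_2 lc_d_rc_3_1 lc_d_rc_3_1 lc_d_rc_3_1 lc_d_rc_11_3 lc_d_rc_24_0 lc_d_rc_25_4 lc_d_rc_25_2 lc_d_rc_27_0 lc_d_rc_27_2 lc_d_rc_45_66 lc_d_rc_47_30) (@D3.rec (fun _ => (Cert rels S Gen.d)) lc_d_rc_28_2 lc_d_rc_27_2 lc_d_Cert_tree lc_d_rc_24_0 lc_d_rc_24_0 lc_d_rc_18_3 lc_d_rc_11_1 lc_d_rc_29_2 lc_d_rc_11_3 lc_d_rc_25_2 lc_d_rc_3_1 lc_d_rc_3_1 lc_d_rc_3_1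 lc_d_rc_25_0 lc_d_rc_11_1 lc_d_rc_28_2 lc_d_rc_27_2 lc_d_Cert_tree lc_d_rc_11_1 lc_d_rc_28_2 lc_d_Cert_tree lc_d_rc_24_0 lc_d_rc_24_0 lc_d_rc_18_3 lc_d_rc_25_2 lc_d_rc_29_2 lc_d_Cert_tree lc_d_rc_18_3 lc_d_rc_11_1 lc_d_rc_11_1 lc_d_rc_11_1 lc_d_rc_47_37) (@D3.rec (fun _ => (Cert rels S Gen.d)) lc_d_rc_24_0 lc_d_rc_29_2 lc_d_rc_25_2 lc_d_rc_3_1 lc_d_rc_27_2 lc_d_rc_27_0 lc_d_rc_18_3 lc_d_rc_3_1 lc_d_rc_3_1 lc_d_Cert_tree lc_d_rc_25_0 lc_d_rc_25_2 lc_d_rc_29_2 lc_d_rc_27_2 lc_d_rc_28_0 lc_d_rc_28_2 lc_d_rc_26_0 lc_d_Cert_tree lc_d_rc_28_2 lc_d_Cert_tree lc_d_rc_24_0 lc_d_rc_18_3 lc_d_rc_28_2 lc_d_Cert_tree lc_d_rc_24_0 lc_d_rc_24_0 lc_d_rc_18_3 lc_d_rc_25_2 lc_d_Cert_tree lc_d_rc_11_1 lc_d_rc_18_1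 lc_d_rc_24_0) (@D3.rec (fun _ => (Cert rels S Gen.d)) lc_d_rc_29_2 lc_d_rc_25_2 lc_d_rc_3_1 lc_d_rc_27_2 lc_d_rc_28_2 lc_d_rc_25_2 lc_d_rc_29_2 lc_d_rc_27_2 lc_d_rc_18_3 lc_d_Cert_tree lc_d_rc_27_2 lc_d_rc_11_1 lc_d_rc_11_1 lc_d_rc_3_1 lc_d_rc_3_1 lc_d_rc_3_1 lc_d_rc_26_2 lc_d_rc_29_2 lc_d_rc_18_3 lc_d_rc_11_1 lc_d_rc_29_2 lc_d_Cert_tree lc_d_rc_18_3 lc_d_rc_11_1 lc_d_rc_11_1 lc_d_rc_11_1 lc_d_rc_24_0 lc_d_rc_27_2 lc_d_rc_29_2 lc_d_Cert_tree lc_d_rc_11_1 lc_d_rc_11_1) (@D3.rec (fun _ => (Cert rels S Gen.d)) lc_d_Cert_tree lc_d_rc_3_1 lc_d_rc_3_1 lc_d_rc_3_1 lc_d_rc_3_1 lc_d_rc_3_1 lc_d_Cert_tree lc_d_rc_3_1 lc_d_Cert_tree lc_d_rc_24_0 lc_d_rc_28_2 lc_d_rc_27_2 lc_d_Cert_tree lc_d_rc_28_2 lc_d_Cert_tree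 lc_d_rc_24_0 lc_d_rc_25_0 lc_d_rc_24_0 lc_d_rc_18_3 lc_d_rc_27_2 lc_d_rc_26_2 lc_d_rc_29_2 lc_d_rc_28_2 lc_d_rc_29_2 lc_d_Cert_tree lc_d_rc_24_0 lc_d_rc_11_1 lc_d_Cert_tree lc_d_rc_24_0 lc_d_rc_26_4 lc_d_rc_24_0 lc_d_rc_18_3) (@D3.rec (fun _ => (Cert rels S Gen.d)) lc_d_rc_29_2 lc_d_rc_27_2 lc_d_rc_18_3 lc_d_rc_27_2 lc_d_rc_18_3 lc_d_rc_24_0 lc_d_rc_25_2 lc_d_rc_18_3 lc_d_rc_11_1 lc_d_Cert_tree lc_d_Cert_tree lc_d_rc_24_0 lc_d_rc_29_2 lc_d_rc_24_0 lc_d_Cert_tree lc_d_rc_24_0 lc_d_rc_29_2 lc_d_rc_3_1 lc_d_rc_29_2 lc_d_rc_24_0 lc_d_rc_29_2 lc_d_Cert_tree lc_d_rc_24_0 lc_d_rc_29_2 lc_d_rc_25_2 lc_d_rc_29_2 lc_d_rc_11_1 lc_d_rc_11_1 lc_d_rc_11_1 lc_d_rc_18_3 lc_d_rc_29_2 lc_d_rc_26_2) (@D3.rec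 (fun _ => (Cert rels S Gen.d)) lc_d_rc_24_0 lc_d_Cert_tree lc_d_rc_24_0 lc_d_rc_29_2 lc_d_rc_18_3 lc_d_rc_11_1 lc_d_rc_29_2 lc_d_Cert_tree lc_d_rc_24_0 lc_d_rc_29_2 lc_d_rc_25_2 lc_d_rc_29_2 lc_d_rc_3_1 lc_d_rc_3_1 lc_d_rc_3_1 lc_d_rc_24_0 lc_d_rc_29_2 lc_d_rc_25_2 lc_d_rc_29_2 lc_d_rc_27_2 lc_d_rc_25_2 lc_d_rc_26_2 lc_d_rc_28_2 lc_d_rc_27_2 lc_d_Cert_tree lc_d_rc_18_3 lc_d_rc_18_5 lc_d_rc_18_5 lc_d_rc_18_3 lc_d_rc_18_5 lc_d_rc_29_2 lc_d_Cert_tree) (@D3.rec (fun _ => (Cert rels S Gen.d)) lc_d_rc_18_3 lc_d_rc_11_1 lc_d_rc_11_1 lc_d_rc_11_1 lc_d_rc_18_5 lc_d_rc_18_5 lc_d_rc_3_1 lc_d_rc_3_1 lc_d_rc_3_1 lc_d_Cert_tree lc_d_rc_18_5 lc_d_rc_18_5 lc_d_Cert_tree lc_d_rc_28_2 lc_d_Cert_tree lc_d_rc_24_0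 lc_d_rc_11_1 lc_d_Cert_tree lc_d_rc_26_2 lc_d_rc_3_1 lc_d_Cert_tree lc_d_rc_24_0 lc_d_rc_29_2 lc_d_rc_3_1 lc_d_Cert_tree lc_d_rc_3_1 lc_d_rc_3_1 lc_d_rc_25_4 lc_d_Cert_tree lc_d_rc_24_0 lc_d_rc_29_2 lc_d_rc_18_3) (@D3.rec (fun _ => (Cert rels S Gen.d)) lc_d_rc_29_2 lc_d_Cert_tree lc_d_rc_24_0 lc_d_rc_29_2 lc_d_rc_11_1 lc_d_Cert_tree lc_d_rc_24_0 lc_d_rc_29_2 lc_d_rc_18_3 lc_d_rc_29_2 lc_d_Cert_tree lc_d_rc_11_1 lc_d_Cert_tree lc_d_rc_24_0 lc_d_rc_29_2 lc_d_rc_24_0 lc_d_rc_28_2 lc_d_Cert_tree lc_d_Cert_tree lc_d_rc_24_0 lc_d_rc_29_2 lc_d_rc_3_1 lc_d_rc_29_2 lc_d_rc_3_1 lc_d_Cert_tree lc_d_rc_24_0 lc_d_rc_29_2 lc_d_rc_3_1 lc_d_rc_28_2 lc_d_Cert_tree lc_d_rc_27_2 lc_d_Cert_tree) (@D3.rec (fun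 _ => (Cert rels S Gen.d)) lc_d_rc_24_0 lc_d_rc_29_2 lc_d_rc_24_0 lc_d_rc_29_2 lc_d_rc_25_2 lc_d_rc_29_2 lc_d_rc_27_2 lc_d_rc_25_2 lc_d_rc_11_1 lc_d_Cert_tree lc_d_rc_24_0 lc_d_rc_29_2 lc_d_rc_18_3 lc_d_rc_29_2 lc_d_rc_24_0 lc_d_rc_29_2 lc_d_rc_18_3 lc_d_rc_29_2 lc_d_rc_11_1 lc_d_rc_18_3 lc_d_rc_26_2 lc_d_rc_24_0 lc_d_rc_28_2 lc_d_Cert_tree lc_d_Cert_tree lc_d_rc_24_0 lc_d_rc_29_2 lc_d_rc_18_3 lc_d_rc_11_1 lc_d_rc_29_2 lc_d_rc_28_2 lc_d_Cert_tree) (@D3.rec (fun _ => (Cert rels S Gen.d)) lc_d_rc_27_2 lc_d_Cert_tree lc_d_rc_24_0 lc_d_rc_29_2 lc_d_rc_24_0 lc_d_rc_29_2 lc_d_rc_25_2 lc_d_rc_29_2 lc_d_rc_3_1 lc_d_rc_3_1 lc_d_rc_3_1 lc_d_rc_26_2 lc_d_rc_24_0 lc_d_rc_29_2 lc_d_rc_18_3 lc_d_rc_29_2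 lc_d_rc_27_2 lc_d_Cert_tree lc_d_rc_24_0 lc_d_rc_29_2 lc_d_Cert_tree lc_d_rc_24_0 lc_d_rc_29_2 lc_d_rc_18_3 lc_d_rc_25_2 lc_d_rc_29_2 lc_d_rc_25_2 lc_d_rc_29_2 lc_d_rc_27_2 lc_d_rc_25_2 lc_d_rc_26_2 lc_d_rc_28_2) (@D3.rec (fun _ => (Cert rels S Gen.d)) lc_d_rc_27_2 lc_d_Cert_tree lc_d_rc_29_2 lc_d_rc_18_3 lc_d_rc_29_2 lc_d_rc_11_1 lc_d_rc_18_3 lc_d_rc_11_1 lc_d_rc_18_3 lc_d_rc_3_1 lc_d_rc_11_1 lc_d_rc_18_3 lc_d_rc_28_2 lc_d_Cert_tree lc_d_rc_27_2 lc_d_Cert_tree lc_d_rc_24_0 lc_d_rc_24_0 lc_d_rc_18_3 lc_d_rc_25_2 lc_d_rc_29_2 lc_d_rc_18_3 lc_d_rc_27_2 lc_d_Cert_tree lc_d_rc_24_0 lc_d_rc_29_2 lc_d_rc_24_0 lc_d_rc_18_3 lc_d_rc_25_2 lc_d_rc_25_2 lc_d_rc_25_2 lc_d_rc_18_3) (@D3.rec (fun _ => (Cert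 rels S Gen.d)) lc_d_rc_11_1 lc_d_rc_25_2 lc_d_rc_26_2 lc_d_rc_24_0 lc_d_rc_29_2 lc_d_rc_26_2 lc_d_rc_25_2 lc_d_rc_29_2 lc_d_rc_18_3 lc_d_rc_25_2 lc_d_rc_11_1 lc_d_rc_25_2 lc_d_rc_11_1 lc_d_rc_3_1 lc_d_rc_3_1 lc_d_rc_11_1 lc_d_Cert_tree lc_d_rc_3_1 lc_d_rc_18_3 lc_d_rc_24_0 lc_d_rc_29_2 lc_d_rc_3_1 lc_d_Cert_tree lc_d_rc_3_1 lc_d_rc_3_1 lc_d_rc_24_1 lc_d_rc_28_0 lc_d_rc_25_2 lc_d_rc_29_2 lc_d_rc_26_0 lc_d_Cert_tree lc_d_rc_24_0)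
def ce_d_5 : D2 → D3 → (Cert rels S Gen.d) := @D2.rec (fun _ => D3 → (Cert rels S Gen.d)) (@D3.rec (fun _ => (Cert rels S Gen.d)) lc_d_rc_29_2 lc_d_rc_11_1 lc_d_Cert_tree lc_d_rc_24_0 lc_d_rc_29_2 lc_d_rc_18_3 lc_d_rc_29_2 lc_d_Cert_tree lc_d_rc_11_1 lc_d_Cert_tree lc_d_rc_24_0 lc_d_rc_29_2 lc_d_rc_24_0 lc_d_rc_25_2 lc_d_Cert_tree lc_d_rc_3_1 lc_d_rc_24_0 lc_d_rc_29_2 lc_d_rc_3_1 lc_d_rc_29_2 lc_d_Cert_tree lc_d_rc_24_0 lc_d_rc_29_2 lc_d_rc_3_1 lc_d_Cert_tree lc_d_Cert_tree lc_d_rc_24_0 lc_d_rc_29_2 lc_d_rc_25_0 lc_d_rc_25_2 lc_d_rc_29_2 lc_d_rc_11_1) (@D3.rec (fun _ => (Cert rels S Gen.d)) lc_d_rc_11_1 lc_d_rc_26_2 lc_d_rc_24_0 lc_d_rc_29_2 lc_d_rc_18_3 lc_d_rc_29_2 lc_d_rc_29_2 lc_d_rc_27_0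 lc_d_rc_11_3 lc_d_rc_26_2 lc_d_rc_24_0 lc_d_rc_28_2 lc_d_Cert_tree lc_d_Cert_tree lc_d_rc_24_0 lc_d_rc_29_2 lc_d_rc_18_3 lc_d_rc_11_1 lc_d_rc_29_2 lc_d_rc_28_2 lc_d_Cert_tree lc_d_rc_27_2 lc_d_Cert_tree lc_d_rc_24_0 lc_d_rc_29_2 lc_d_rc_24_0 lc_d_rc_29_2 lc_d_rc_25_2 lc_d_rc_29_2 lc_d_rc_3_1 lc_d_rc_3_1 lc_d_rc_3_1) (@D3.rec (fun _ => (Cert rels S Gen.d)) lc_d_rc_27_2 lc_d_rc_24_0 lc_d_rc_29_2 lc_d_rc_18_3 lc_d_rc_29_2 lc_d_rc_27_2 lc_d_Cert_tree lc_d_rc_24_0 lc_d_rc_29_2 lc_d_Cert_tree lc_d_rc_24_0 lc_d_rc_29_2 lc_d_rc_18_3 lc_d_rc_25_2 lc_d_rc_29_2 lc_d_rc_25_2 lc_d_rc_29_2 lc_d_rc_27_2 lc_d_rc_25_2 lc_d_rc_25_0 lc_d_rc_28_2 lc_d_rc_27_2 lc_d_Cert_tree lc_d_rc_29_2 lc_d_rc_18_3 lc_d_rc_29_2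 lc_d_rc_11_1 lc_d_rc_18_3 lc_d_rc_26_2 lc_d_rc_26_2 lc_d_rc_3_1 lc_d_rc_11_1) (@D3.rec (fun _ => (Cert rels S Gen.d)) lc_d_rc_28_2 lc_d_rc_24_0 lc_d_rc_28_2 lc_d_Cert_tree lc_d_Cert_tree lc_d_rc_24_0 lc_d_rc_29_2 lc_d_rc_18_3 lc_d_rc_11_1 lc_d_rc_29_2 lc_d_rc_28_2 lc_d_Cert_tree lc_d_Cert_tree lc_d_rc_24_0 lc_d_rc_29_2 lc_d_rc_24_0 lc_d_rc_29_2 lc_d_rc_25_2 lc_d_rc_29_2 lc_d_rc_3_1 lc_d_rc_3_1 lc_d_rc_3_1 lc_d_rc_29_2 lc_d_rc_18_3 lc_d_rc_29_2 lc_d_rc_24_0 lc_d_rc_29_2 lc_d_rc_24_0 lc_d_rc_29_2 lc_d_rc_18_3 lc_d_rc_25_2 lc_d_rc_29_2) (@D3.rec (fun _ => (Cert rels S Gen.d)) lc_d_rc_29_2 lc_d_rc_27_2 lc_d_rc_25_2 lc_d_rc_26_2 lc_d_rc_28_2 lc_d_rc_27_2 lc_d_Cert_tree lc_d_rc_18_3 lc_d_rc_18_3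 lc_d_rc_28_2 lc_d_Cert_tree lc_d_rc_27_2 lc_d_Cert_tree lc_d_rc_24_0 lc_d_rc_29_2 lc_d_rc_24_0 lc_d_rc_29_2 lc_d_rc_18_3 lc_d_rc_25_2 lc_d_rc_29_2 lc_d_Cert_tree lc_d_rc_18_3 lc_d_rc_11_1 lc_d_rc_11_1 lc_d_rc_11_1 lc_d_rc_27_2 lc_d_Cert_tree lc_d_rc_24_0 lc_d_rc_29_2 lc_d_rc_24_0 lc_d_rc_29_2 lc_d_rc_18_3) (@D3.rec (fun _ => (Cert rels S Gen.d)) lc_d_rc_25_2 lc_d_rc_29_2 lc_d_rc_25_2 lc_d_rc_29_2 lc_d_rc_27_2 lc_d_rc_25_2 lc_d_rc_3_1 lc_d_rc_3_1 lc_d_rc_3_1 lc_d_Cert_tree lc_d_rc_11_1 lc_d_rc_18_3 lc_d_rc_25_2 lc_d_rc_27_2 lc_d_rc_24_0 lc_d_rc_29_2 lc_d_rc_26_2 lc_d_rc_25_2 lc_d_rc_29_2 lc_d_rc_25_2 lc_d_rc_29_2 lc_d_rc_11_1 lc_d_rc_18_3 lc_d_rc_18_3 lc_d_rc_27_2 lc_d_rc_25_2 lc_d_rc_26_2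 lc_d_rc_27_2 lc_d_rc_25_2 lc_d_rc_25_0 lc_d_rc_28_2 lc_d_rc_27_2) (@D3.rec (fun _ => (Cert rels S Gen.d)) lc_d_Cert_tree lc_d_rc_28_2 lc_d_Cert_tree lc_d_rc_24_0 lc_d_rc_3_1 lc_d_rc_11_1 lc_d_rc_3_1 lc_d_rc_18_3 lc_d_rc_28_2 lc_d_Cert_tree lc_d_rc_24_0 lc_d_rc_18_3 lc_d_rc_25_2 lc_d_rc_18_3 lc_d_rc_26_2 lc_d_rc_24_0 lc_d_rc_29_2 lc_d_rc_25_2 lc_d_rc_29_2 lc_d_rc_25_2 lc_d_rc_29_2 lc_d_rc_18_3 lc_d_Cert_tree lc_d_rc_18_5 lc_d_rc_24_0 lc_d_rc_29_2 lc_d_rc_18_3 lc_d_rc_18_5 lc_d_rc_3_1 lc_d_rc_29_2 lc_d_rc_11_1 lc_d_rc_3_1) (@D3.rec (fun _ => (Cert rels S Gen.d)) lc_d_rc_11_1 lc_d_rc_29_2 lc_d_rc_3_1 lc_d_rc_25_0 lc_d_rc_25_2 lc_d_rc_29_2 lc_d_rc_25_0 lc_d_rc_18_5 lc_d_rc_29_2 lc_d_Cert_tree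 lc_d_rc_18_3 lc_d_rc_27_2 lc_d_rc_25_2 lc_d_rc_11_1 lc_d_rc_24_0 lc_d_rc_27_2 lc_d_rc_29_2 lc_d_Cert_tree lc_d_rc_11_1 lc_d_rc_11_1 lc_d_Cert_tree lc_d_rc_11_1 lc_d_rc_18_3 lc_d_rc_18_3 lc_d_rc_27_2 lc_d_rc_25_2 lc_d_rc_3_1 lc_d_rc_18_5 lc_d_rc_18_5 lc_d_rc_3_1 lc_d_rc_28_2 lc_d_rc_27_2) (@D3.rec (fun _ => (Cert rels S Gen.d)) lc_d_Cert_tree lc_d_rc_3_1 lc_d_Cert_tree lc_d_rc_24_0 lc_d_rc_3_1 lc_d_rc_11_1 lc_d_rc_3_1 lc_d_rc_11_1 lc_d_rc_11_1 lc_d_rc_18_3 lc_d_rc_18_3 lc_d_rc_26_2 lc_d_rc_28_2 lc_d_rc_27_2 lc_d_Cert_tree lc_d_rc_18_5 lc_d_rc_18_5 lc_d_Cert_tree lc_d_rc_28_2 lc_d_Cert_tree lc_d_rc_24_0 lc_d_rc_29_2 lc_d_rc_24_0 lc_d_rc_18_3 lc_d_rc_3_1 lc_d_rc_24_0 lc_d_rc_25_2 lc_d_rc_24_0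 lc_d_rc_24_0 lc_d_rc_18_3 lc_d_rc_11_1 lc_d_rc_29_2) (@D3.rec (fun _ => (Cert rels S Gen.d)) lc_d_rc_3_1 lc_d_rc_3_1 lc_d_rc_3_1 lc_d_Cert_tree lc_d_rc_18_3 lc_d_rc_28_2 lc_d_Cert_tree lc_d_rc_24_0 lc_d_rc_24_0 lc_d_rc_18_3 lc_d_rc_25_2 lc_d_rc_29_2 lc_d_Cert_tree lc_d_rc_18_3 lc_d_rc_11_1 lc_d_rc_11_1 lc_d_rc_11_1 lc_d_rc_3_1 lc_d_rc_24_0 lc_d_rc_25_4 lc_d_rc_25_2 lc_d_rc_27_0 lc_d_rc_27_2 lc_d_rc_3_1 lc_d_rc_3_1 lc_d_rc_3_1 lc_d_rc_3_1 lc_d_Cert_tree lc_d_rc_25_2 lc_d_rc_27_2 lc_d_rc_26_0 lc_d_rc_28_2) (@D3.rec (fun _ => (Cert rels S Gen.d)) lc_d_rc_28_0 lc_d_rc_47_37 lc_d_rc_28_2 lc_d_Cert_tree lc_d_rc_24_0 lc_d_rc_11_1 lc_d_rc_11_1 lc_d_rc_18_3 lc_d_rc_25_2 lc_d_Cert_tree lc_d_rc_18_3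 lc_d_rc_11_1 lc_d_rc_11_1 lc_d_rc_11_1 lc_d_rc_25_0 lc_d_rc_11_3 lc_d_rc_3_1 lc_d_rc_3_1 lc_d_Cert_tree lc_d_rc_28_2 lc_d_Cert_tree lc_d_rc_24_0 lc_d_rc_11_1 lc_d_Cert_tree lc_d_rc_3_3 lc_d_rc_24_0 lc_d_rc_29_2 lc_d_rc_18_3 lc_d_rc_25_2 lc_d_rc_18_3 lc_d_rc_11_1 lc_d_Cert_tree) (@D3.rec (fun _ => (Cert rels S Gen.d)) lc_d_rc_18_3 lc_d_rc_27_2 lc_d_rc_11_1 lc_d_rc_47_23 lc_d_rc_24_0 lc_d_rc_27_2 lc_d_rc_29_2 lc_d_Cert_tree lc_d_rc_11_1 lc_d_rc_11_1 lc_d_Cert_tree lc_d_rc_25_0 lc_d_rc_25_2 lc_d_rc_29_2 lc_d_rc_27_2 lc_d_rc_3_1 lc_d_rc_28_2 lc_d_rc_26_0 lc_d_Cert_tree lc_d_rc_3_1 lc_d_Cert_tree lc_d_rc_24_0 lc_d_rc_26_2 lc_d_rc_25_2 lc_d_rc_28_2 lc_d_rc_26_4 lc_d_rc_26_0 lc_d_Cert_tree lc_d_rc_24_0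 lc_d_rc_25_0 lc_d_rc_24_0 lc_d_rc_18_3) (@D3.rec (fun _ => (Cert rels S Gen.d)) lc_d_rc_18_3 lc_d_Cert_tree lc_d_rc_26_2 lc_d_rc_24_0 lc_d_rc_29_2 lc_d_rc_18_3 lc_d_rc_25_2 lc_d_rc_18_3 lc_d_rc_11_1 lc_d_rc_46_38 lc_d_rc_46_45 lc_d_rc_24_0 lc_d_rc_3_3 lc_d_rc_28_2 lc_d_rc_25_2 lc_d_rc_29_2 lc_d_rc_27_2 lc_d_rc_26_2 lc_d_rc_25_2 lc_d_rc_18_3 lc_d_Cert_tree lc_d_rc_24_0 lc_d_rc_29_2 lc_d_rc_11_1 lc_d_rc_11_1 lc_d_rc_11_1 lc_d_rc_26_2 lc_d_rc_3_1 lc_d_rc_27_2 lc_d_Cert_tree lc_d_rc_18_3 lc_d_rc_11_1) (@D3.rec (fun _ => (Cert rels S Gen.d)) lc_d_rc_11_1 lc_d_rc_11_1 lc_d_rc_24_0 lc_d_rc_27_2 lc_d_rc_29_2 lc_d_Cert_tree lc_d_rc_11_1 lc_d_rc_11_1 lc_d_Cert_tree lc_d_rc_27_2 lc_d_rc_26_2 lc_d_rc_29_2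 lc_d_rc_28_2 lc_d_rc_29_2 lc_d_Cert_tree lc_d_rc_24_0 lc_d_rc_11_1 lc_d_Cert_tree lc_d_rc_24_0 lc_d_rc_3_1 lc_d_rc_3_1 lc_d_Cert_tree lc_d_rc_3_1 lc_d_Cert_tree lc_d_rc_24_0 lc_d_rc_25_0 lc_d_rc_24_0 lc_d_rc_18_3 lc_d_rc_28_2 lc_d_Cert_tree lc_d_rc_24_0 lc_d_rc_18_1) (@D3.rec (fun _ => (Cert rels S Gen.d)) lc_d_rc_24_0 lc_d_rc_18_3 lc_d_rc_25_2 lc_d_rc_28_2 lc_d_rc_26_2 lc_d_rc_29_2 lc_d_rc_29_2 lc_d_rc_46_17 lc_d_rc_29_2 lc_d_rc_3_1 lc_d_rc_24_0 lc_d_rc_46_10 lc_d_rc_11_1 lc_d_rc_24_0 lc_d_rc_3_1 lc_d_rc_11_1 lc_d_rc_18_3 lc_d_rc_25_2 lc_d_rc_3_1 lc_d_rc_24_0 lc_d_Cert_tree lc_d_rc_24_0 lc_d_rc_29_2 lc_d_rc_18_3 lc_d_rc_3_1 lc_d_rc_29_2 lc_d_Cert_tree lc_d_rc_24_0 lc_d_rc_29_2 lc_d_rc_25_2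 lc_d_rc_29_2 lc_d_rc_3_1) (@D3.rec (fun _ => (Cert rels S Gen.d)) lc_d_rc_3_1 lc_d_rc_3_1 lc_d_rc_18_3 lc_d_rc_29_2 lc_d_rc_24_0 lc_d_rc_29_2 lc_d_rc_18_3 lc_d_rc_25_2 lc_d_rc_29_2 lc_d_rc_27_2 lc_d_rc_25_2 lc_d_rc_11_1 lc_d_rc_46_24 lc_d_rc_11_1 lc_d_Cert_tree lc_d_rc_18_3 lc_d_rc_11_1 lc_d_rc_18_3 lc_d_Cert_tree lc_d_rc_24_0 lc_d_rc_29_2 lc_d_rc_18_3 lc_d_rc_25_2 lc_d_rc_29_2 lc_d_Cert_tree lc_d_rc_18_3 lc_d_rc_11_1 lc_d_rc_11_1 lc_d_rc_11_1 lc_d_rc_24_0 lc_d_rc_29_2 lc_d_rc_25_2) (@D3.rec (fun _ => (Cert rels S Gen.d)) lc_d_rc_29_2 lc_d_rc_27_2 lc_d_rc_25_2 lc_d_rc_3_1 lc_d_rc_3_1 lc_d_rc_3_1 lc_d_Cert_tree lc_d_rc_25_2 lc_d_rc_29_2 lc_d_rc_27_2 lc_d_rc_25_2 lc_d_rc_26_2 lc_d_rc_28_2 lc_d_rc_27_2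 lc_d_Cert_tree lc_d_rc_28_2 lc_d_Cert_tree lc_d_rc_24_0 lc_d_Cert_tree lc_d_rc_26_4 lc_d_Cert_tree lc_d_rc_18_3 lc_d_rc_27_2 lc_d_rc_29_2 lc_d_rc_11_1 lc_d_rc_24_0 lc_d_rc_27_2 lc_d_rc_29_2 lc_d_Cert_tree lc_d_rc_11_1 lc_d_rc_11_1 lc_d_Cert_tree) (@D3.rec (fun _ => (Cert rels S Gen.d)) lc_d_rc_18_5 lc_d_rc_18_5 lc_d_Cert_tree lc_d_rc_3_1 lc_d_Cert_tree lc_d_rc_24_0 lc_d_rc_18_5 lc_d_Cert_tree lc_d_rc_24_0 lc_d_Cert_tree lc_d_rc_24_0 lc_d_rc_18_3 lc_d_rc_11_1 lc_d_Cert_tree lc_d_rc_24_0 lc_d_rc_29_2 lc_d_rc_25_4 lc_d_Cert_tree lc_d_rc_24_0 lc_d_rc_29_2 lc_d_rc_18_3 lc_d_rc_29_2 lc_d_Cert_tree lc_d_rc_24_0 lc_d_rc_29_2 lc_d_rc_3_1 lc_d_rc_29_2 lc_d_rc_24_0 lc_d_rc_29_2 lc_d_rc_24_0 lc_d_rc_29_2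 lc_d_rc_18_3) (@D3.rec (fun _ => (Cert rels S Gen.d)) lc_d_rc_18_3 lc_d_rc_18_3 lc_d_rc_24_0 lc_d_rc_29_2 lc_d_rc_25_4 lc_d_rc_29_2 lc_d_rc_24_0 lc_d_rc_29_2 lc_d_rc_18_3 lc_d_rc_29_2 lc_d_rc_25_2 lc_d_rc_18_3 lc_d_rc_25_2 lc_d_rc_24_0 lc_d_rc_28_2 lc_d_Cert_tree lc_d_Cert_tree lc_d_rc_24_0 lc_d_rc_29_2 lc_d_rc_3_1 lc_d_rc_11_1 lc_d_rc_29_2 lc_d_rc_28_2 lc_d_Cert_tree lc_d_rc_27_2 lc_d_Cert_tree lc_d_rc_24_0 lc_d_rc_29_2 lc_d_rc_24_0 lc_d_rc_29_2 lc_d_rc_25_2 lc_d_rc_29_2) (@D3.rec (fun _ => (Cert rels S Gen.d)) lc_d_rc_3_1 lc_d_rc_3_1 lc_d_rc_3_1 lc_d_Cert_tree lc_d_rc_24_0 lc_d_rc_29_2 lc_d_rc_18_3 lc_d_rc_29_2 lc_d_rc_27_2 lc_d_Cert_tree lc_d_rc_24_0 lc_d_rc_29_2 lc_d_Cert_tree lc_d_rc_24_0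 lc_d_rc_29_2 lc_d_rc_18_3 lc_d_rc_25_2 lc_d_rc_29_2 lc_d_rc_25_2 lc_d_rc_29_2 lc_d_rc_27_2 lc_d_rc_25_2 lc_d_rc_11_1 lc_d_rc_28_2 lc_d_rc_27_2 lc_d_Cert_tree lc_d_rc_24_0 lc_d_rc_29_2 lc_d_rc_18_3 lc_d_rc_29_2 lc_d_rc_11_1 lc_d_rc_18_3) (@D3.rec (fun _ => (Cert rels S Gen.d)) lc_d_rc_11_1 lc_d_rc_25_2 lc_d_rc_29_2 lc_d_rc_11_1 lc_d_rc_18_3 lc_d_rc_26_2 lc_d_rc_3_1 lc_d_rc_11_1 lc_d_rc_26_2 lc_d_rc_18_3 lc_d_rc_28_2 lc_d_Cert_tree lc_d_rc_27_2 lc_d_Cert_tree lc_d_rc_24_0 lc_d_rc_29_2 lc_d_rc_24_0 lc_d_rc_29_2 lc_d_rc_18_3 lc_d_rc_25_2 lc_d_rc_29_2 lc_d_Cert_tree lc_d_rc_18_3 lc_d_rc_11_1 lc_d_rc_11_1 lc_d_rc_11_1 lc_d_rc_27_2 lc_d_Cert_tree lc_d_rc_24_0 lc_d_rc_29_2 lc_d_Cert_tree lc_d_rc_24_0)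 (@D3.rec (fun _ => (Cert rels S Gen.d)) lc_d_rc_29_2 lc_d_rc_18_3 lc_d_rc_25_2 lc_d_rc_29_2 lc_d_rc_25_2 lc_d_rc_29_2 lc_d_rc_27_2 lc_d_rc_25_2 lc_d_rc_3_1 lc_d_rc_3_1 lc_d_rc_3_1 lc_d_Cert_tree lc_d_rc_11_1 lc_d_rc_18_3 lc_d_rc_29_2 lc_d_rc_11_1 lc_d_rc_18_3 lc_d_rc_25_2 lc_d_Cert_tree lc_d_rc_24_0 lc_d_rc_29_2 lc_d_rc_26_2 lc_d_rc_25_2 lc_d_rc_29_2 lc_d_rc_24_0 lc_d_rc_29_2 lc_d_rc_18_3 lc_d_rc_25_2 lc_d_rc_29_2 lc_d_rc_11_1 lc_d_rc_18_3 lc_d_rc_18_3)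
def ce_d_6 : D2 → D3 → (Cert rels S Gen.d) := @D2.rec (fun _ => D3 → (Cert rels S Gen.d)) (@D3.rec (fun _ => (Cert rels S Gen.d)) lc_d_rc_27_2 lc_d_rc_25_2 lc_d_rc_26_2 lc_d_rc_27_2 lc_d_rc_25_2 lc_d_rc_26_2 lc_d_rc_28_2 lc_d_rc_27_2 lc_d_Cert_tree lc_d_rc_28_2 lc_d_Cert_tree lc_d_rc_24_0 lc_d_rc_11_1 lc_d_rc_18_3 lc_d_rc_3_1 lc_d_rc_11_1 lc_d_rc_3_1 lc_d_rc_11_1 lc_d_rc_3_1 lc_d_rc_18_3 lc_d_Cert_tree lc_d_rc_27_2 lc_d_Cert_tree lc_d_rc_24_0 lc_d_rc_29_2 lc_d_rc_24_0 lc_d_rc_18_3 lc_d_rc_25_2 lc_d_rc_27_2 lc_d_rc_25_2 lc_d_Cert_tree lc_d_rc_27_2) (@D3.rec (fun _ => (Cert rels S Gen.d)) lc_d_rc_25_2 lc_d_rc_25_2 lc_d_rc_24_0 lc_d_rc_24_0 lc_d_rc_29_2 lc_d_rc_3_1 lc_d_rc_25_2 lc_d_rc_29_2 lc_d_rc_18_3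 lc_d_rc_25_2 lc_d_rc_11_1 lc_d_rc_25_2 lc_d_rc_11_1 lc_d_rc_3_1 lc_d_rc_18_1 lc_d_rc_11_1 lc_d_rc_26_2 lc_d_rc_25_2 lc_d_rc_29_2 lc_d_rc_11_1 lc_d_rc_47_37 lc_d_rc_29_2 lc_d_rc_25_2 lc_d_rc_3_1 lc_d_rc_11_3 lc_d_rc_11_1 lc_d_rc_26_2 lc_d_rc_24_0 lc_d_rc_29_2 lc_d_rc_18_5 lc_d_rc_28_0 lc_d_rc_3_1) (@D3.rec (fun _ => (Cert rels S Gen.d)) lc_d_rc_29_2 lc_d_Cert_tree lc_d_rc_24_0 lc_d_rc_29_2 lc_d_rc_3_1 lc_d_rc_28_2 lc_d_rc_25_2 lc_d_Cert_tree lc_d_rc_24_0 lc_d_rc_29_2 lc_d_rc_47_30 lc_d_rc_29_2 lc_d_rc_24_0 lc_d_rc_29_2 lc_d_rc_29_2 lc_d_rc_11_1 lc_d_rc_18_3 lc_d_rc_26_2 lc_d_rc_24_0 lc_d_rc_25_2 lc_d_Cert_tree lc_d_rc_46_45 lc_d_rc_24_0 lc_d_rc_29_2 lc_d_rc_3_1 lc_d_rc_3_1 lc_d_rc_29_2 lc_d_Cert_tree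 lc_d_Cert_tree lc_d_rc_24_0 lc_d_rc_29_2 lc_d_rc_25_0) (@D3.rec (fun _ => (Cert rels S Gen.d)) lc_d_rc_25_2 lc_d_rc_29_2 lc_d_rc_3_1 lc_d_rc_3_1 lc_d_rc_3_1 lc_d_rc_24_0 lc_d_rc_29_2 lc_d_rc_18_3 lc_d_rc_29_2 lc_d_rc_24_0 lc_d_rc_29_2 lc_d_rc_24_0 lc_d_rc_29_2 lc_d_rc_18_3 lc_d_rc_25_2 lc_d_rc_29_2 lc_d_rc_25_2 lc_d_rc_11_1 lc_d_Cert_tree lc_d_rc_18_3 lc_d_rc_29_2 lc_d_rc_11_1 lc_d_rc_18_3 lc_d_rc_26_2 lc_d_rc_26_2 lc_d_rc_27_0 lc_d_rc_29_2 lc_d_rc_27_2 lc_d_rc_18_3 lc_d_rc_28_2 lc_d_Cert_tree lc_d_rc_27_2) (@D3.rec (fun _ => (Cert rels S Gen.d)) lc_d_Cert_tree lc_d_rc_24_0 lc_d_rc_29_2 lc_d_rc_24_0 lc_d_rc_29_2 lc_d_rc_18_3 lc_d_rc_25_2 lc_d_rc_29_2 lc_d_Cert_tree lc_d_rc_18_3 lc_d_rc_11_1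 lc_d_rc_11_1 lc_d_rc_11_1 lc_d_rc_27_2 lc_d_Cert_tree lc_d_rc_24_0 lc_d_rc_29_2 lc_d_Cert_tree lc_d_rc_24_0 lc_d_rc_29_2 lc_d_rc_18_3 lc_d_rc_25_2 lc_d_rc_29_2 lc_d_rc_25_2 lc_d_rc_29_2 lc_d_rc_27_2 lc_d_rc_25_2 lc_d_rc_25_0 lc_d_rc_3_1 lc_d_rc_3_1 lc_d_Cert_tree lc_d_rc_29_2) (@D3.rec (fun _ => (Cert rels S Gen.d)) lc_d_rc_18_3 lc_d_rc_29_2 lc_d_rc_11_1 lc_d_rc_18_3 lc_d_rc_3_1 lc_d_Cert_tree lc_d_rc_24_0 lc_d_rc_29_2 lc_d_rc_26_2 lc_d_rc_25_2 lc_d_rc_29_2 lc_d_rc_24_0 lc_d_rc_29_2 lc_d_rc_18_3 lc_d_rc_25_2 lc_d_rc_29_2 lc_d_rc_11_1 lc_d_rc_18_3 lc_d_rc_18_3 lc_d_rc_27_2 lc_d_rc_25_2 lc_d_rc_26_2 lc_d_rc_27_2 lc_d_rc_25_2 lc_d_rc_28_2 lc_d_rc_27_2 lc_d_Cert_tree lc_d_rc_28_2 lc_d_Cert_tree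 lc_d_rc_24_0 lc_d_rc_18_3 lc_d_rc_26_2) (@D3.rec (fun _ => (Cert rels S Gen.d)) lc_d_rc_3_1 lc_d_rc_11_1 lc_d_Cert_tree lc_d_rc_3_1 lc_d_rc_28_2 lc_d_rc_18_3 lc_d_rc_28_2 lc_d_Cert_tree lc_d_Cert_tree lc_d_rc_24_0 lc_d_rc_29_2 lc_d_rc_24_0 lc_d_rc_29_2 lc_d_rc_18_3 lc_d_rc_25_2 lc_d_rc_29_2 lc_d_Cert_tree lc_d_rc_18_3 lc_d_rc_11_1 lc_d_rc_11_1 lc_d_rc_11_1 lc_d_rc_24_0 lc_d_rc_29_2 lc_d_rc_24_0 lc_d_rc_29_2 lc_d_rc_18_3 lc_d_rc_25_2 lc_d_rc_29_2 lc_d_rc_29_2 lc_d_rc_27_2 lc_d_rc_25_2 lc_d_rc_3_1) (@D3.rec (fun _ => (Cert rels S Gen.d)) lc_d_rc_3_1 lc_d_rc_3_1 lc_d_Cert_tree lc_d_rc_11_1 lc_d_rc_18_3 lc_d_rc_27_0 lc_d_rc_29_2 lc_d_rc_29_2 lc_d_rc_18_3 lc_d_rc_18_3 lc_d_rc_27_2 lc_d_rc_25_2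 lc_d_rc_26_2 lc_d_rc_27_2 lc_d_rc_28_2 lc_d_Cert_tree lc_d_rc_24_0 lc_d_rc_18_3 lc_d_Cert_tree lc_d_rc_27_2 lc_d_Cert_tree lc_d_rc_24_0 lc_d_rc_29_2 lc_d_rc_24_0 lc_d_rc_29_2 lc_d_rc_18_3 lc_d_rc_25_2 lc_d_rc_29_2 lc_d_rc_18_3 lc_d_rc_25_2 lc_d_rc_29_2 lc_d_Cert_tree) (@D3.rec (fun _ => (Cert rels S Gen.d)) lc_d_rc_18_3 lc_d_rc_27_2 lc_d_rc_25_2 lc_d_rc_11_1 lc_d_rc_24_0 lc_d_rc_27_2 lc_d_rc_29_2 lc_d_Cert_tree lc_d_rc_11_1 lc_d_rc_11_1 lc_d_Cert_tree lc_d_rc_25_2 lc_d_rc_3_1 lc_d_rc_24_0 lc_d_rc_29_2 lc_d_rc_3_1 lc_d_rc_25_2 lc_d_rc_29_2 lc_d_rc_25_2 lc_d_rc_29_2 lc_d_rc_11_1 lc_d_rc_18_3 lc_d_rc_18_3 lc_d_rc_27_2 lc_d_rc_25_2 lc_d_rc_3_1 lc_d_rc_27_2 lc_d_rc_25_2 lc_d_rc_25_0 lc_d_rc_28_2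 lc_d_rc_27_2 lc_d_Cert_tree) (@D3.rec (fun _ => (Cert rels S Gen.d)) lc_d_rc_3_1 lc_d_Cert_tree lc_d_rc_24_0 lc_d_rc_3_1 lc_d_rc_11_1 lc_d_rc_47_37 lc_d_rc_29_2 lc_d_rc_45_63 lc_d_rc_29_2 lc_d_rc_11_1 lc_d_rc_25_2 lc_d_rc_29_2 lc_d_rc_26_2 lc_d_rc_25_2 lc_d_rc_29_2 lc_d_rc_27_2 lc_d_rc_25_2 lc_d_rc_26_2 lc_d_rc_3_1 lc_d_rc_11_1 lc_d_rc_11_1 lc_d_rc_18_3 lc_d_rc_18_3 lc_d_rc_26_2 lc_d_rc_28_2 lc_d_rc_27_2 lc_d_Cert_tree lc_d_rc_28_2 lc_d_rc_27_2 lc_d_rc_24_1 lc_d_rc_28_2 lc_d_Cert_tree) (@D3.rec (fun _ => (Cert rels S Gen.d)) lc_d_rc_24_0 lc_d_rc_29_2 lc_d_rc_24_0 lc_d_rc_18_3 lc_d_rc_3_1 lc_d_rc_18_3 lc_d_Cert_tree lc_d_rc_24_1 lc_d_rc_24_0 lc_d_rc_29_2 lc_d_rc_18_3 lc_d_rc_25_2 lc_d_rc_18_3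 lc_d_rc_24_1 lc_d_rc_25_2 lc_d_rc_29_2 lc_d_rc_25_2 lc_d_Cert_tree lc_d_rc_24_0 lc_d_rc_29_2 lc_d_rc_26_0 lc_d_rc_18_3 lc_d_rc_29_2 lc_d_rc_18_3 lc_d_rc_11_1 lc_d_rc_3_1 lc_d_rc_3_1 lc_d_rc_3_1 lc_d_rc_11_1 lc_d_rc_18_3 lc_d_Cert_tree lc_d_rc_29_2) (@D3.rec (fun _ => (Cert rels S Gen.d)) lc_d_rc_27_2 lc_d_rc_25_2 lc_d_rc_11_1 lc_d_Cert_tree lc_d_rc_29_2 lc_d_rc_27_2 lc_d_rc_29_2 lc_d_rc_11_1 lc_d_rc_24_0 lc_d_rc_27_2 lc_d_rc_29_2 lc_d_Cert_tree lc_d_rc_28_2 lc_d_rc_27_2 lc_d_Cert_tree lc_d_rc_27_2 lc_d_rc_26_2 lc_d_rc_29_2 lc_d_rc_28_2 lc_d_rc_29_2 lc_d_Cert_tree lc_d_rc_24_0 lc_d_rc_11_1 lc_d_Cert_tree lc_d_rc_24_0 lc_d_rc_3_1 lc_d_rc_11_1 lc_d_rc_11_1 lc_d_rc_18_3 lc_d_rc_18_3 lc_d_rc_26_2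 lc_d_rc_28_2) (@D3.rec (fun _ => (Cert rels S Gen.d)) lc_d_rc_27_2 lc_d_Cert_tree lc_d_rc_18_5 lc_d_rc_18_5 lc_d_Cert_tree lc_d_rc_28_2 lc_d_Cert_tree lc_d_rc_24_0 lc_d_rc_29_2 lc_d_rc_24_0 lc_d_rc_18_3 lc_d_rc_3_1 lc_d_rc_3_1 lc_d_rc_3_1 lc_d_rc_11_1 lc_d_rc_11_1 lc_d_rc_3_3 lc_d_rc_18_3 lc_d_rc_18_3 lc_d_Cert_tree lc_d_rc_28_2 lc_d_Cert_tree lc_d_rc_24_0 lc_d_rc_18_5 lc_d_Cert_tree lc_d_rc_24_0 lc_d_rc_29_2 lc_d_rc_24_0 lc_d_rc_18_3 lc_d_rc_18_3 lc_d_rc_25_2 lc_d_rc_18_3) (@D3.rec (fun _ => (Cert rels S Gen.d)) lc_d_rc_18_3 lc_d_Cert_tree lc_d_rc_18_3 lc_d_rc_11_1 lc_d_rc_11_1 lc_d_rc_11_1 lc_d_Cert_tree lc_d_rc_24_0 lc_d_rc_18_3 lc_d_Cert_tree lc_d_rc_18_5 lc_d_rc_24_0 lc_d_rc_25_4 lc_d_rc_18_3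 lc_d_rc_25_2 lc_d_rc_18_3 lc_d_rc_27_0 lc_d_Cert_tree lc_d_rc_18_3 lc_d_rc_27_2 lc_d_rc_3_1 lc_d_rc_11_1 lc_d_rc_24_0 lc_d_rc_27_2 lc_d_rc_29_2 lc_d_Cert_tree lc_d_rc_11_1 lc_d_rc_11_1 lc_d_Cert_tree lc_d_rc_25_2 lc_d_rc_27_2 lc_d_rc_26_0) (@D3.rec (fun _ => (Cert rels S Gen.d)) lc_d_rc_28_2 lc_d_rc_47_37 lc_d_rc_46_52 lc_d_rc_3_1 lc_d_Cert_tree lc_d_rc_24_0 lc_d_rc_26_2 lc_d_rc_28_2 lc_d_rc_26_0 lc_d_rc_26_0 lc_d_rc_28_0 lc_d_rc_25_0 lc_d_rc_24_0 lc_d_rc_18_3 lc_d_Cert_tree lc_d_rc_27_2 lc_d_Cert_tree lc_d_rc_3_1 lc_d_rc_24_0 lc_d_rc_27_2 lc_d_rc_29_2 lc_d_Cert_tree lc_d_rc_11_1 lc_d_rc_11_1 lc_d_Cert_tree lc_d_rc_3_1 lc_d_Cert_tree lc_d_rc_24_0 lc_d_rc_11_1 lc_d_rc_24_0 lc_d_rc_18_3 lc_d_Cert_tree)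 (@D3.rec (fun _ => (Cert rels S Gen.d)) lc_d_rc_24_0 lc_d_rc_29_2 lc_d_rc_25_0 lc_d_rc_18_3 lc_d_rc_25_2 lc_d_rc_29_2 lc_d_Cert_tree lc_d_rc_27_2 lc_d_Cert_tree lc_d_rc_3_3 lc_d_rc_24_0 lc_d_rc_27_2 lc_d_rc_29_2 lc_d_Cert_tree lc_d_rc_28_2 lc_d_rc_26_0 lc_d_Cert_tree lc_d_rc_27_2 lc_d_rc_26_2 lc_d_rc_29_2 lc_d_rc_28_2 lc_d_rc_29_2 lc_d_Cert_tree lc_d_rc_24_0 lc_d_rc_11_1 lc_d_Cert_tree lc_d_rc_24_0 lc_d_rc_26_2 lc_d_rc_25_2 lc_d_rc_28_2 lc_d_rc_3_1 lc_d_rc_26_0) (@D3.rec (fun _ => (Cert rels S Gen.d)) lc_d_Cert_tree lc_d_rc_24_0 lc_d_rc_25_0 lc_d_rc_24_0 lc_d_rc_18_3 lc_d_rc_26_2 lc_d_rc_27_2 lc_d_rc_24_1 lc_d_rc_24_0 lc_d_rc_18_3 lc_d_Cert_tree lc_d_rc_24_0 lc_d_rc_29_2 lc_d_rc_28_2 lc_d_rc_18_3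 lc_d_rc_25_2 lc_d_rc_29_2 lc_d_rc_47_9 lc_d_rc_26_2 lc_d_rc_25_2 lc_d_rc_27_2 lc_d_rc_11_3 lc_d_rc_25_2 lc_d_rc_24_0 lc_d_rc_29_2 lc_d_rc_25_2 lc_d_rc_29_2 lc_d_rc_47_51 lc_d_rc_11_1 lc_d_rc_27_2 lc_d_rc_24_0 lc_d_rc_27_2) (@D3.rec (fun _ => (Cert rels S Gen.d)) lc_d_rc_29_2 lc_d_Cert_tree lc_d_rc_11_1 lc_d_rc_11_1 lc_d_Cert_tree lc_d_rc_27_2 lc_d_rc_26_2 lc_d_rc_29_2 lc_d_rc_28_2 lc_d_rc_29_2 lc_d_Cert_tree lc_d_rc_24_0 lc_d_rc_11_1 lc_d_Cert_tree lc_d_rc_24_0 lc_d_rc_25_2 lc_d_rc_28_2 lc_d_rc_26_2 lc_d_rc_29_2 lc_d_rc_29_2 lc_d_rc_18_1 lc_d_rc_29_2 lc_d_Cert_tree lc_d_rc_24_0 lc_d_rc_25_2 lc_d_rc_3_3 lc_d_rc_24_0 lc_d_rc_3_1 lc_d_rc_3_1 lc_d_Cert_tree lc_d_rc_24_0 lc_d_rc_24_1) (@D3.rec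 (fun _ => (Cert rels S Gen.d)) lc_d_rc_24_0 lc_d_rc_18_3 lc_d_rc_11_1 lc_d_rc_27_2 lc_d_rc_24_0 lc_d_rc_46_24 lc_d_rc_25_2 lc_d_rc_29_2 lc_d_rc_29_2 lc_d_rc_24_0 lc_d_rc_18_1 lc_d_rc_3_1 lc_d_rc_18_3 lc_d_rc_18_3 lc_d_Cert_tree lc_d_rc_24_0 lc_d_rc_29_2 lc_d_rc_18_3 lc_d_rc_25_2 lc_d_rc_29_2 lc_d_Cert_tree lc_d_rc_18_3 lc_d_rc_3_1 lc_d_rc_3_1 lc_d_rc_3_1 lc_d_rc_24_0 lc_d_rc_29_2 lc_d_rc_18_3 lc_d_rc_25_2 lc_d_rc_29_2 lc_d_rc_27_2 lc_d_rc_25_2) (@D3.rec (fun _ => (Cert rels S Gen.d)) lc_d_rc_3_1 lc_d_rc_46_17 lc_d_rc_3_1 lc_d_Cert_tree lc_d_rc_11_1 lc_d_rc_18_3 lc_d_rc_3_1 lc_d_rc_26_2 lc_d_rc_25_2 lc_d_rc_29_2 lc_d_rc_18_3 lc_d_rc_18_3 lc_d_rc_27_2 lc_d_rc_25_2 lc_d_rc_11_1 lc_d_rc_28_2 lc_d_rc_27_2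 lc_d_Cert_tree lc_d_rc_25_2 lc_d_Cert_tree lc_d_rc_24_0 lc_d_Cert_tree lc_d_Cert_tree lc_d_rc_24_0 lc_d_rc_29_2 lc_d_rc_18_3 lc_d_rc_25_2 lc_d_rc_29_2 lc_d_Cert_tree lc_d_rc_18_3 lc_d_rc_27_2 lc_d_rc_25_2) (@D3.rec (fun _ => (Cert rels S Gen.d)) lc_d_rc_11_1 lc_d_rc_24_0 lc_d_rc_27_2 lc_d_rc_29_2 lc_d_Cert_tree lc_d_rc_11_1 lc_d_rc_11_1 lc_d_Cert_tree lc_d_rc_25_2 lc_d_rc_29_2 lc_d_rc_27_2 lc_d_rc_25_2 lc_d_rc_3_1 lc_d_rc_28_2 lc_d_rc_27_2 lc_d_Cert_tree lc_d_rc_3_1 lc_d_Cert_tree lc_d_rc_24_0 lc_d_rc_26_2 lc_d_rc_25_2 lc_d_rc_29_2 lc_d_rc_28_2 lc_d_rc_27_2 lc_d_Cert_tree lc_d_rc_28_2 lc_d_Cert_tree lc_d_rc_24_0 lc_d_Cert_tree lc_d_rc_24_0 lc_d_rc_18_3 lc_d_rc_24_0) (@D3.rec (fun _ => (Cert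 rels S Gen.d)) lc_d_rc_29_2 lc_d_rc_24_0 lc_d_rc_27_2 lc_d_rc_29_2 lc_d_Cert_tree lc_d_rc_28_2 lc_d_rc_29_2 lc_d_Cert_tree lc_d_rc_27_2 lc_d_rc_26_2 lc_d_rc_29_2 lc_d_rc_28_2 lc_d_rc_29_2 lc_d_Cert_tree lc_d_rc_24_0 lc_d_rc_11_1 lc_d_Cert_tree lc_d_rc_24_0 lc_d_rc_18_5 lc_d_Cert_tree lc_d_rc_24_0 lc_d_Cert_tree lc_d_rc_24_0 lc_d_rc_18_3 lc_d_Cert_tree lc_d_rc_24_0 lc_d_rc_18_3 lc_d_rc_24_0 lc_d_rc_18_3 lc_d_rc_25_2 lc_d_rc_11_1 lc_d_rc_45_72)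
def ce_d_7 : D2 → D3 → (Cert rels S Gen.d) := @D2.rec (fun _ => D3 → (Cert rels S Gen.d)) (@D3.rec (fun _ => (Cert rels S Gen.d)) lc_d_rc_24_0 lc_d_rc_29_2 lc_d_rc_11_1 lc_d_rc_11_1 lc_d_rc_29_2 lc_d_rc_29_2 lc_d_rc_24_0 lc_d_rc_29_2 lc_d_rc_18_5 lc_d_rc_29_2 lc_d_rc_18_3 lc_d_rc_18_3 lc_d_rc_3_1 lc_d_rc_24_0 lc_d_rc_29_2 lc_d_rc_25_4 lc_d_rc_29_2 lc_d_rc_29_2 lc_d_rc_27_2 lc_d_rc_29_2 lc_d_rc_18_3 lc_d_rc_18_3 lc_d_rc_18_3 lc_d_Cert_tree lc_d_rc_29_2 lc_d_rc_25_4 lc_d_rc_29_2 lc_d_rc_25_2 lc_d_rc_18_3 lc_d_rc_25_2 lc_d_rc_29_2 lc_d_rc_25_2) (@D3.rec (fun _ => (Cert rels S Gen.d)) lc_d_rc_18_3 lc_d_rc_26_2 lc_d_rc_3_1 lc_d_rc_25_2 lc_d_Cert_tree lc_d_rc_3_1 lc_d_rc_28_2 lc_d_Cert_tree lc_d_rc_27_2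 lc_d_Cert_tree lc_d_rc_24_0 lc_d_rc_29_2 lc_d_rc_24_0 lc_d_rc_29_2 lc_d_rc_3_1 lc_d_rc_25_2 lc_d_rc_29_2 lc_d_Cert_tree lc_d_rc_3_1 lc_d_rc_11_1 lc_d_rc_11_1 lc_d_rc_3_1 lc_d_rc_27_2 lc_d_Cert_tree lc_d_rc_24_0 lc_d_rc_29_2 lc_d_Cert_tree lc_d_rc_24_0 lc_d_rc_29_2 lc_d_rc_18_3 lc_d_rc_25_2 lc_d_rc_29_2) (@D3.rec (fun _ => (Cert rels S Gen.d)) lc_d_rc_25_2 lc_d_rc_29_2 lc_d_rc_27_2 lc_d_rc_25_2 lc_d_rc_3_1 lc_d_rc_3_1 lc_d_rc_3_1 lc_d_Cert_tree lc_d_rc_24_0 lc_d_rc_29_2 lc_d_rc_18_3 lc_d_rc_29_2 lc_d_rc_11_1 lc_d_rc_18_3 lc_d_rc_3_1 lc_d_Cert_tree lc_d_rc_24_0 lc_d_rc_29_2 lc_d_rc_26_2 lc_d_rc_25_2 lc_d_rc_29_2 lc_d_rc_24_0 lc_d_rc_29_2 lc_d_rc_18_3 lc_d_rc_25_2 lc_d_rc_29_2 lc_d_rc_11_1 lc_d_rc_45_72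 lc_d_rc_18_3 lc_d_rc_27_2 lc_d_rc_25_2 lc_d_rc_11_1) (@D3.rec (fun _ => (Cert rels S Gen.d)) lc_d_rc_25_2 lc_d_rc_3_3 lc_d_rc_28_2 lc_d_rc_27_2 lc_d_Cert_tree lc_d_rc_28_2 lc_d_Cert_tree lc_d_rc_24_0 lc_d_rc_18_3 lc_d_rc_25_2 lc_d_rc_29_2 lc_d_rc_11_1 lc_d_rc_18_3 lc_d_rc_28_2 lc_d_rc_3_1 lc_d_rc_11_1 lc_d_Cert_tree lc_d_rc_25_2 lc_d_rc_28_0 lc_d_rc_3_1 lc_d_rc_11_1 lc_d_rc_27_2 lc_d_rc_3_1 lc_d_rc_3_3 lc_d_rc_18_3 lc_d_Cert_tree lc_d_rc_27_2 lc_d_Cert_tree lc_d_rc_24_0 lc_d_rc_29_2 lc_d_Cert_tree lc_d_rc_24_0) (@D3.rec (fun _ => (Cert rels S Gen.d)) lc_d_rc_29_2 lc_d_rc_18_3 lc_d_rc_25_2 lc_d_rc_29_2 lc_d_rc_18_3 lc_d_rc_25_2 lc_d_rc_29_2 lc_d_Cert_tree lc_d_rc_18_3 lc_d_rc_27_2 lc_d_rc_25_2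 lc_d_rc_11_1 lc_d_rc_24_0 lc_d_rc_27_2 lc_d_rc_29_2 lc_d_Cert_tree lc_d_rc_11_1 lc_d_rc_11_1 lc_d_Cert_tree lc_d_rc_25_2 lc_d_Cert_tree lc_d_rc_24_0 lc_d_rc_29_2 lc_d_rc_3_1 lc_d_rc_25_2 lc_d_rc_29_2 lc_d_rc_24_0 lc_d_rc_29_2 lc_d_rc_18_3 lc_d_rc_25_2 lc_d_rc_29_2 lc_d_rc_11_1) (@D3.rec (fun _ => (Cert rels S Gen.d)) lc_d_rc_18_3 lc_d_rc_18_3 lc_d_rc_27_2 lc_d_rc_25_2 lc_d_rc_3_1 lc_d_rc_27_2 lc_d_rc_25_2 lc_d_rc_26_2 lc_d_rc_28_2 lc_d_rc_27_2 lc_d_Cert_tree lc_d_rc_3_1 lc_d_Cert_tree lc_d_rc_24_0 lc_d_rc_11_1 lc_d_rc_18_3 lc_d_rc_3_1 lc_d_rc_11_1 lc_d_rc_24_0 lc_d_rc_24_0 lc_d_rc_29_2 lc_d_rc_26_2 lc_d_rc_25_2 lc_d_rc_29_2 lc_d_rc_11_1 lc_d_rc_28_2 lc_d_rc_29_2 lc_d_rc_26_2 lc_d_rc_25_2 lc_d_rc_29_2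 lc_d_rc_25_2 lc_d_rc_29_2) (@D3.rec (fun _ => (Cert rels S Gen.d)) lc_d_rc_11_1 lc_d_rc_18_3 lc_d_rc_18_3 lc_d_rc_27_2 lc_d_rc_25_2 lc_d_rc_28_2 lc_d_rc_3_1 lc_d_rc_25_2 lc_d_rc_11_1 lc_d_rc_18_3 lc_d_rc_18_3 lc_d_rc_28_0 lc_d_rc_28_2 lc_d_rc_27_2 lc_d_Cert_tree lc_d_rc_28_2 lc_d_rc_27_2 lc_d_Cert_tree lc_d_rc_28_2 lc_d_Cert_tree lc_d_rc_24_0 lc_d_rc_18_1 lc_d_rc_24_0 lc_d_rc_18_3 lc_d_rc_3_1 lc_d_rc_11_1 lc_d_rc_3_1 lc_d_rc_3_1 lc_d_rc_18_3 lc_d_Cert_tree lc_d_rc_24_0 lc_d_rc_29_2) (@D3.rec (fun _ => (Cert rels S Gen.d)) lc_d_rc_25_2 lc_d_rc_11_1 lc_d_rc_24_0 lc_d_rc_29_2 lc_d_rc_18_3 lc_d_rc_25_2 lc_d_rc_29_2 lc_d_rc_18_3 lc_d_rc_25_2 lc_d_rc_18_3 lc_d_Cert_tree lc_d_rc_18_3 lc_d_rc_24_0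 lc_d_rc_25_4 lc_d_rc_24_0 lc_d_rc_29_2 lc_d_rc_3_1 lc_d_rc_25_2 lc_d_rc_29_2 lc_d_rc_11_1 lc_d_rc_3_1 lc_d_rc_3_1 lc_d_rc_25_2 lc_d_rc_11_1 lc_d_rc_3_1 lc_d_rc_11_1 lc_d_rc_3_1 lc_d_rc_28_0 lc_d_rc_29_2 lc_d_rc_25_2 lc_d_rc_3_1 lc_d_rc_11_1) (@D3.rec (fun _ => (Cert rels S Gen.d)) lc_d_rc_25_4 lc_d_rc_28_2 lc_d_rc_28_0 lc_d_rc_11_1 lc_d_rc_11_1 lc_d_rc_29_2 lc_d_rc_28_2 lc_d_rc_3_1 lc_d_rc_24_0 lc_d_rc_29_2 lc_d_rc_24_1 lc_d_rc_29_2 lc_d_rc_24_0 lc_d_rc_29_2 lc_d_rc_24_0 lc_d_rc_29_2 lc_d_rc_3_3 lc_d_rc_25_4 lc_d_rc_26_2 lc_d_rc_29_2 lc_d_rc_26_2 lc_d_rc_3_1 lc_d_rc_11_1 lc_d_Cert_tree lc_d_rc_3_1 lc_d_Cert_tree lc_d_Cert_tree lc_d_rc_24_0 lc_d_rc_29_2 lc_d_rc_25_0 lc_d_rc_3_1 lc_d_rc_25_2)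 (@D3.rec (fun _ => (Cert rels S Gen.d)) lc_d_rc_29_2 lc_d_Cert_tree lc_d_rc_3_1 lc_d_rc_3_1 lc_d_rc_3_1 lc_d_rc_11_1 lc_d_rc_24_0 lc_d_rc_29_2 lc_d_rc_24_0 lc_d_rc_29_2 lc_d_rc_18_3 lc_d_rc_25_2 lc_d_rc_29_2 lc_d_rc_25_2 lc_d_rc_3_1 lc_d_Cert_tree lc_d_rc_18_3 lc_d_rc_29_2 lc_d_rc_11_1 lc_d_rc_18_3 lc_d_rc_3_1 lc_d_rc_29_2 lc_d_rc_18_3 lc_d_rc_29_2 lc_d_rc_11_1 lc_d_rc_18_3 lc_d_rc_25_2 lc_d_rc_26_2 lc_d_rc_24_1 lc_d_rc_24_0 lc_d_rc_18_3 lc_d_rc_26_2) (@D3.rec (fun _ => (Cert rels S Gen.d)) lc_d_rc_3_1 lc_d_rc_11_1 lc_d_Cert_tree lc_d_rc_29_2 lc_d_rc_3_3 lc_d_rc_18_3 lc_d_Cert_tree lc_d_rc_27_2 lc_d_Cert_tree lc_d_rc_24_0 lc_d_rc_29_2 lc_d_Cert_tree lc_d_rc_24_0 lc_d_rc_29_2 lc_d_rc_18_3 lc_d_rc_25_2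 lc_d_rc_29_2 lc_d_rc_18_3 lc_d_rc_25_2 lc_d_rc_29_2 lc_d_Cert_tree lc_d_rc_18_3 lc_d_rc_27_2 lc_d_rc_25_2 lc_d_rc_25_0 lc_d_rc_24_0 lc_d_rc_27_2 lc_d_rc_29_2 lc_d_Cert_tree lc_d_rc_11_1 lc_d_rc_11_1 lc_d_Cert_tree) (@D3.rec (fun _ => (Cert rels S Gen.d)) lc_d_Cert_tree lc_d_rc_24_0 lc_d_rc_29_2 lc_d_rc_3_1 lc_d_rc_25_2 lc_d_rc_29_2 lc_d_rc_24_0 lc_d_rc_29_2 lc_d_rc_18_3 lc_d_rc_25_2 lc_d_rc_29_2 lc_d_rc_11_1 lc_d_rc_18_3 lc_d_rc_18_3 lc_d_rc_27_2 lc_d_rc_25_2 lc_d_rc_3_1 lc_d_rc_27_2 lc_d_rc_25_2 lc_d_rc_28_2 lc_d_rc_27_2 lc_d_Cert_tree lc_d_rc_3_1 lc_d_Cert_tree lc_d_rc_24_0 lc_d_rc_11_1 lc_d_rc_18_3 lc_d_rc_3_1 lc_d_rc_3_1 lc_d_rc_11_1 lc_d_Cert_tree lc_d_rc_24_0) (@D3.rec (fun _ => (Cert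 rels S Gen.d)) lc_d_rc_29_2 lc_d_rc_26_2 lc_d_rc_29_2 lc_d_rc_11_1 lc_d_rc_47_37 lc_d_rc_29_2 lc_d_rc_26_2 lc_d_rc_47_37 lc_d_rc_29_2 lc_d_rc_25_2 lc_d_rc_29_2 lc_d_rc_18_3 lc_d_rc_18_3 lc_d_rc_27_2 lc_d_rc_25_2 lc_d_rc_26_2 lc_d_rc_3_1 lc_d_rc_11_1 lc_d_rc_11_1 lc_d_rc_18_3 lc_d_rc_18_3 lc_d_Cert_tree lc_d_rc_28_2 lc_d_rc_27_2 lc_d_Cert_tree lc_d_rc_27_2 lc_d_rc_27_2 lc_d_rc_28_2 lc_d_Cert_tree lc_d_rc_24_0 lc_d_rc_29_2 lc_d_rc_24_0) (@D3.rec (fun _ => (Cert rels S Gen.d)) lc_d_rc_18_3 lc_d_Cert_tree lc_d_rc_3_1 lc_d_Cert_tree lc_d_rc_24_0 lc_d_rc_26_2 lc_d_rc_18_3 lc_d_Cert_tree lc_d_rc_24_0 lc_d_rc_29_2 lc_d_rc_24_0 lc_d_rc_29_2 lc_d_rc_18_3 lc_d_rc_25_2 lc_d_rc_29_2 lc_d_rc_18_3 lc_d_rc_29_2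 lc_d_Cert_tree lc_d_rc_18_3 lc_d_rc_27_2 lc_d_rc_25_2 lc_d_rc_11_1 lc_d_rc_24_0 lc_d_rc_27_2 lc_d_rc_29_2 lc_d_Cert_tree lc_d_rc_11_1 lc_d_rc_11_1 lc_d_Cert_tree lc_d_rc_3_1 lc_d_rc_29_2 lc_d_rc_29_2) (@D3.rec (fun _ => (Cert rels S Gen.d)) lc_d_rc_11_1 lc_d_rc_18_3 lc_d_rc_18_3 lc_d_rc_27_2 lc_d_rc_25_2 lc_d_rc_3_1 lc_d_rc_27_2 lc_d_rc_3_1 lc_d_Cert_tree lc_d_rc_24_0 lc_d_rc_11_1 lc_d_rc_29_2 lc_d_rc_29_2 lc_d_rc_26_2 lc_d_rc_18_3 lc_d_rc_18_3 lc_d_rc_27_2 lc_d_rc_27_2 lc_d_rc_28_2 lc_d_rc_25_4 lc_d_rc_24_0 lc_d_rc_18_3 lc_d_rc_18_3 lc_d_Cert_tree lc_d_rc_24_0 lc_d_rc_29_2 lc_d_rc_25_2 lc_d_rc_3_3 lc_d_rc_24_0 lc_d_rc_29_2 lc_d_rc_18_3 lc_d_rc_25_2) (@D3.rec (fun _ => (Cert rels S Gen.d))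 lc_d_rc_29_2 lc_d_rc_3_3 lc_d_rc_25_2 lc_d_rc_29_2 lc_d_rc_3_3 lc_d_Cert_tree lc_d_rc_18_3 lc_d_rc_27_2 lc_d_rc_25_2 lc_d_rc_11_1 lc_d_Cert_tree lc_d_rc_18_3 lc_d_rc_27_2 lc_d_rc_25_2 lc_d_rc_25_0 lc_d_rc_24_0 lc_d_rc_27_2 lc_d_rc_29_2 lc_d_Cert_tree lc_d_rc_28_2 lc_d_rc_27_2 lc_d_Cert_tree lc_d_rc_27_2 lc_d_rc_26_2 lc_d_rc_29_2 lc_d_rc_28_2 lc_d_rc_29_2 lc_d_Cert_tree lc_d_rc_24_0 lc_d_rc_11_1 lc_d_Cert_tree lc_d_rc_24_0) (@D3.rec (fun _ => (Cert rels S Gen.d)) lc_d_rc_24_1 lc_d_rc_3_1 lc_d_rc_3_1 lc_d_rc_29_2 lc_d_rc_11_1 lc_d_rc_25_2 lc_d_rc_3_1 lc_d_rc_26_2 lc_d_rc_25_2 lc_d_rc_3_1 lc_d_rc_27_2 lc_d_rc_25_2 lc_d_rc_3_1 lc_d_rc_3_1 lc_d_rc_11_1 lc_d_rc_11_1 lc_d_rc_18_3 lc_d_rc_18_3 lc_d_rc_26_2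 lc_d_rc_28_2 lc_d_rc_27_2 lc_d_Cert_tree lc_d_rc_28_2 lc_d_rc_27_2 lc_d_rc_3_1 lc_d_rc_28_2 lc_d_Cert_tree lc_d_rc_24_0 lc_d_rc_29_2 lc_d_rc_24_0 lc_d_rc_18_3 lc_d_rc_3_1) (@D3.rec (fun _ => (Cert rels S Gen.d)) lc_d_rc_28_0 lc_d_rc_28_2 lc_d_rc_3_1 lc_d_rc_25_2 lc_d_rc_11_1 lc_d_rc_26_2 lc_d_rc_25_2 lc_d_rc_26_2 lc_d_rc_26_2 lc_d_rc_27_2 lc_d_rc_45_57 lc_d_rc_28_2 lc_d_rc_27_2 lc_d_rc_11_1 lc_d_rc_3_1 lc_d_rc_3_1 lc_d_rc_11_1 lc_d_rc_11_1 lc_d_rc_28_2 lc_d_rc_18_3 lc_d_rc_18_3 lc_d_Cert_tree lc_d_rc_28_2 lc_d_Cert_tree lc_d_rc_24_0 lc_d_rc_28_2 lc_d_rc_24_1 lc_d_rc_29_2 lc_d_rc_24_0 lc_d_rc_18_3 lc_d_Cert_tree lc_d_rc_24_0) (@D3.rec (fun _ => (Cert rels S Gen.d)) lc_d_rc_29_2 lc_d_rc_11_1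 lc_d_rc_18_3 lc_d_rc_25_2 lc_d_rc_29_2 lc_d_rc_24_1 lc_d_rc_25_2 lc_d_rc_24_0 lc_d_rc_29_2 lc_d_rc_18_3 lc_d_rc_25_2 lc_d_rc_29_2 lc_d_rc_11_1 lc_d_rc_18_3 lc_d_rc_18_3 lc_d_rc_3_1 lc_d_rc_11_1 lc_d_rc_3_1 lc_d_rc_18_3 lc_d_Cert_tree lc_d_rc_18_3 lc_d_rc_24_0 lc_d_rc_27_2 lc_d_rc_29_2 lc_d_Cert_tree lc_d_rc_28_2 lc_d_rc_27_2 lc_d_Cert_tree lc_d_rc_24_0 lc_d_rc_27_2 lc_d_rc_29_2 lc_d_Cert_tree) (@D3.rec (fun _ => (Cert rels S Gen.d)) lc_d_rc_28_2 lc_d_rc_29_2 lc_d_Cert_tree lc_d_rc_27_2 lc_d_rc_26_2 lc_d_rc_29_2 lc_d_rc_28_2 lc_d_rc_29_2 lc_d_Cert_tree lc_d_rc_24_0 lc_d_rc_28_2 lc_d_Cert_tree lc_d_rc_24_0 lc_d_rc_25_2 lc_d_rc_28_2 lc_d_rc_26_2 lc_d_rc_29_2 lc_d_rc_29_2 lc_d_Cert_tree lc_d_rc_29_2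 lc_d_Cert_tree lc_d_rc_24_0 lc_d_rc_28_2 lc_d_rc_45_15 lc_d_rc_24_0 lc_d_rc_11_1 lc_d_rc_3_1 lc_d_rc_3_1 lc_d_rc_11_1 lc_d_rc_11_1 lc_d_rc_26_2 lc_d_rc_18_3) (@D3.rec (fun _ => (Cert rels S Gen.d)) lc_d_rc_18_3 lc_d_Cert_tree lc_d_rc_28_2 lc_d_Cert_tree lc_d_rc_24_0 lc_d_rc_18_5 lc_d_Cert_tree lc_d_rc_24_0 lc_d_rc_29_2 lc_d_rc_24_0 lc_d_rc_18_3 lc_d_rc_11_1 lc_d_rc_3_1 lc_d_rc_3_1 lc_d_rc_26_2 lc_d_rc_11_1 lc_d_rc_11_1 lc_d_Cert_tree lc_d_rc_18_3 lc_d_Cert_tree lc_d_rc_24_0 lc_d_rc_18_1 lc_d_rc_24_0 lc_d_rc_18_3 lc_d_rc_29_2 lc_d_rc_24_0 lc_d_rc_18_3 lc_d_rc_46_38 lc_d_rc_24_0 lc_d_rc_27_2 lc_d_rc_18_3 lc_d_rc_25_2) (@D3.rec (fun _ => (Cert rels S Gen.d)) lc_d_rc_46_45 lc_d_rc_24_0 lc_d_Cert_tree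 lc_d_rc_24_0 lc_d_rc_29_2 lc_d_rc_18_3 lc_d_rc_25_2 lc_d_Cert_tree lc_d_rc_27_2 lc_d_Cert_tree lc_d_rc_28_0 lc_d_rc_24_0 lc_d_rc_27_2 lc_d_rc_29_2 lc_d_Cert_tree lc_d_rc_28_2 lc_d_rc_3_1 lc_d_rc_3_3 lc_d_rc_27_2 lc_d_rc_26_2 lc_d_rc_29_2 lc_d_rc_28_2 lc_d_rc_29_2 lc_d_rc_11_3 lc_d_rc_24_0 lc_d_rc_11_1 lc_d_Cert_tree lc_d_rc_24_0 lc_d_rc_26_2 lc_d_rc_28_2 lc_d_rc_26_0 lc_d_rc_3_1)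
def ce_d_8 : D2 → D3 → (Cert rels S Gen.d) := @D2.rec (fun _ => D3 → (Cert rels S Gen.d)) (@D3.rec (fun _ => (Cert rels S Gen.d)) lc_d_rc_3_1 lc_d_rc_3_1 lc_d_rc_24_0 lc_d_rc_18_3 lc_d_rc_24_1 lc_d_rc_11_1 lc_d_rc_24_0 lc_d_rc_29_2 lc_d_rc_24_0 lc_d_rc_27_2 lc_d_rc_27_2 lc_d_rc_26_2 lc_d_rc_29_2 lc_d_rc_28_2 lc_d_rc_29_2 lc_d_rc_46_38 lc_d_rc_24_0 lc_d_rc_11_1 lc_d_Cert_tree lc_d_rc_24_0 lc_d_rc_46_17 lc_d_rc_24_0 lc_d_rc_18_3 lc_d_rc_24_0 lc_d_rc_29_2 lc_d_rc_18_3 lc_d_rc_25_2 lc_d_rc_29_2 lc_d_Cert_tree lc_d_rc_18_3 lc_d_rc_26_2 lc_d_rc_25_2) (@D3.rec (fun _ => (Cert rels S Gen.d)) lc_d_rc_24_0 lc_d_rc_27_2 lc_d_rc_28_2 lc_d_rc_24_0 lc_d_rc_27_2 lc_d_rc_46_45 lc_d_rc_27_2 lc_d_rc_26_2 lc_d_rc_29_2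 lc_d_rc_28_2 lc_d_rc_29_2 lc_d_Cert_tree lc_d_rc_24_0 lc_d_rc_26_0 lc_d_Cert_tree lc_d_rc_24_0 lc_d_rc_25_2 lc_d_rc_28_2 lc_d_rc_26_2 lc_d_rc_29_2 lc_d_rc_29_2 lc_d_rc_46_31 lc_d_rc_29_2 lc_d_Cert_tree lc_d_rc_24_0 lc_d_rc_25_2 lc_d_rc_25_0 lc_d_rc_24_0 lc_d_rc_3_1 lc_d_rc_26_2 lc_d_rc_27_2 lc_d_rc_3_1) (@D3.rec (fun _ => (Cert rels S Gen.d)) lc_d_rc_24_0 lc_d_rc_18_3 lc_d_rc_11_1 lc_d_rc_28_2 lc_d_rc_24_0 lc_d_rc_29_2 lc_d_rc_18_3 lc_d_rc_25_2 lc_d_rc_29_2 lc_d_rc_18_3 lc_d_rc_25_2 lc_d_rc_27_2 lc_d_rc_25_2 lc_d_rc_25_2 lc_d_rc_29_2 lc_d_rc_27_2 lc_d_rc_25_2 lc_d_rc_26_2 lc_d_rc_24_0 lc_d_rc_27_2 lc_d_rc_26_2 lc_d_rc_29_2 lc_d_rc_28_2 lc_d_rc_29_2 lc_d_Cert_tree lc_d_rc_24_0 lc_d_rc_11_1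 lc_d_Cert_tree lc_d_rc_24_0 lc_d_rc_25_2 lc_d_rc_28_2 lc_d_rc_26_2) (@D3.rec (fun _ => (Cert rels S Gen.d)) lc_d_rc_29_2 lc_d_rc_29_2 lc_d_Cert_tree lc_d_rc_29_2 lc_d_Cert_tree lc_d_rc_24_0 lc_d_rc_25_2 lc_d_rc_11_1 lc_d_rc_24_0 lc_d_rc_18_3 lc_d_rc_25_2 lc_d_rc_29_2 lc_d_rc_29_2 lc_d_rc_11_3 lc_d_rc_3_1 lc_d_Cert_tree lc_d_rc_24_0 lc_d_rc_27_2 lc_d_rc_24_0 lc_d_rc_3_1 lc_d_rc_11_1 lc_d_rc_25_2 lc_d_rc_18_1 lc_d_Cert_tree lc_d_rc_24_0 lc_d_rc_29_2 lc_d_rc_18_3 lc_d_rc_25_2 lc_d_rc_29_2 lc_d_Cert_tree lc_d_rc_18_3 lc_d_rc_27_2) (@D3.rec (fun _ => (Cert rels S Gen.d)) lc_d_rc_25_2 lc_d_rc_3_1 lc_d_rc_24_0 lc_d_rc_27_2 lc_d_rc_29_2 lc_d_Cert_tree lc_d_rc_11_1 lc_d_rc_3_1 lc_d_Cert_tree lc_d_rc_3_1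 lc_d_rc_25_2 lc_d_rc_29_2 lc_d_rc_11_1 lc_d_rc_18_3 lc_d_rc_18_3 lc_d_rc_27_2 lc_d_rc_25_2 lc_d_rc_3_1 lc_d_rc_3_1 lc_d_rc_27_2 lc_d_Cert_tree lc_d_rc_25_2 lc_d_Cert_tree lc_d_rc_24_0 lc_d_rc_11_1 lc_d_Cert_tree lc_d_rc_29_2 lc_d_rc_25_2 lc_d_rc_11_1 lc_d_rc_18_3 lc_d_Cert_tree lc_d_rc_27_2) (@D3.rec (fun _ => (Cert rels S Gen.d)) lc_d_Cert_tree lc_d_rc_29_2 lc_d_Cert_tree lc_d_rc_24_0 lc_d_rc_18_1 lc_d_rc_24_0 lc_d_rc_18_3 lc_d_rc_24_0 lc_d_rc_24_0 lc_d_rc_29_2 lc_d_rc_18_3 lc_d_rc_25_2 lc_d_rc_29_2 lc_d_Cert_tree lc_d_rc_18_3 lc_d_rc_27_2 lc_d_rc_25_2 lc_d_rc_11_1 lc_d_rc_24_0 lc_d_rc_27_2 lc_d_rc_29_2 lc_d_Cert_tree lc_d_rc_28_2 lc_d_rc_27_2 lc_d_Cert_tree lc_d_rc_27_2 lc_d_rc_26_2 lc_d_rc_29_2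 lc_d_rc_28_2 lc_d_rc_29_2 lc_d_Cert_tree lc_d_rc_24_0) (@D3.rec (fun _ => (Cert rels S Gen.d)) lc_d_rc_11_1 lc_d_Cert_tree lc_d_rc_24_0 lc_d_rc_26_2 lc_d_rc_25_2 lc_d_rc_3_1 lc_d_rc_28_2 lc_d_rc_27_2 lc_d_Cert_tree lc_d_rc_28_2 lc_d_Cert_tree lc_d_rc_24_0 lc_d_Cert_tree lc_d_rc_24_0 lc_d_rc_18_3 lc_d_rc_27_2 lc_d_Cert_tree lc_d_rc_28_2 lc_d_Cert_tree lc_d_rc_24_0 lc_d_Cert_tree lc_d_rc_24_0 lc_d_rc_18_3 lc_d_rc_24_0 lc_d_rc_18_3 lc_d_rc_25_2 lc_d_rc_11_1 lc_d_rc_25_2 lc_d_rc_29_2 lc_d_rc_27_2 lc_d_rc_26_2 lc_d_rc_29_2) (@D3.rec (fun _ => (Cert rels S Gen.d)) lc_d_rc_28_2 lc_d_rc_29_2 lc_d_Cert_tree lc_d_rc_24_0 lc_d_rc_29_2 lc_d_Cert_tree lc_d_rc_24_0 lc_d_rc_25_2 lc_d_rc_28_2 lc_d_rc_26_2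 lc_d_rc_29_2 lc_d_rc_29_2 lc_d_Cert_tree lc_d_rc_29_2 lc_d_Cert_tree lc_d_rc_24_0 lc_d_rc_25_2 lc_d_Cert_tree lc_d_rc_24_0 lc_d_rc_18_3 lc_d_Cert_tree lc_d_rc_24_0 lc_d_rc_18_3 lc_d_rc_24_0 lc_d_rc_18_3 lc_d_rc_25_2 lc_d_rc_11_1 lc_d_rc_24_0 lc_d_rc_18_3 lc_d_rc_25_2 lc_d_rc_11_1 lc_d_rc_28_2) (@D3.rec (fun _ => (Cert rels S Gen.d)) lc_d_rc_25_2 lc_d_rc_18_1 lc_d_rc_25_4 lc_d_rc_3_1 lc_d_rc_3_1 lc_d_rc_11_1 lc_d_rc_29_2 lc_d_rc_11_3 lc_d_rc_11_1 lc_d_rc_11_1 lc_d_rc_11_1 lc_d_rc_11_1 lc_d_rc_29_2 lc_d_rc_27_2 lc_d_rc_29_2 lc_d_rc_3_1 lc_d_rc_18_3 lc_d_rc_18_3 lc_d_rc_3_3 lc_d_rc_29_2 lc_d_rc_25_4 lc_d_rc_29_2 lc_d_rc_3_1 lc_d_rc_26_2 lc_d_rc_29_2 lc_d_rc_24_0 lc_d_rc_18_3 lc_d_rc_25_2 lc_d_rc_24_0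 lc_d_rc_26_2 lc_d_rc_46_52 lc_d_rc_29_2) (@D3.rec (fun _ => (Cert rels S Gen.d)) lc_d_rc_45_27 lc_d_rc_18_3 lc_d_rc_25_2 lc_d_rc_26_2 lc_d_rc_3_1 lc_d_rc_25_2 lc_d_rc_18_3 lc_d_rc_3_1 lc_d_rc_26_4 lc_d_rc_24_0 lc_d_Cert_tree lc_d_rc_27_2 lc_d_Cert_tree lc_d_rc_24_0 lc_d_rc_29_2 lc_d_Cert_tree lc_d_rc_24_0 lc_d_rc_29_2 lc_d_rc_18_3 lc_d_rc_25_2 lc_d_rc_29_2 lc_d_rc_25_2 lc_d_rc_29_2 lc_d_Cert_tree lc_d_rc_3_1 lc_d_rc_27_2 lc_d_rc_25_2 lc_d_rc_3_1 lc_d_rc_24_0 lc_d_rc_27_2 lc_d_rc_27_0 lc_d_rc_3_3) (@D3.rec (fun _ => (Cert rels S Gen.d)) lc_d_rc_11_1 lc_d_rc_11_1 lc_d_rc_27_0 lc_d_Cert_tree lc_d_rc_24_0 lc_d_rc_29_2 lc_d_rc_3_1 lc_d_rc_25_2 lc_d_rc_29_2 lc_d_rc_24_0 lc_d_rc_29_2 lc_d_rc_18_3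 lc_d_rc_25_2 lc_d_rc_29_2 lc_d_rc_11_1 lc_d_rc_24_0 lc_d_rc_18_3 lc_d_rc_27_2 lc_d_rc_25_2 lc_d_rc_3_1 lc_d_rc_25_2 lc_d_rc_26_2 lc_d_rc_28_2 lc_d_rc_27_2 lc_d_Cert_tree lc_d_rc_3_1 lc_d_Cert_tree lc_d_rc_24_0 lc_d_rc_18_3 lc_d_rc_25_2 lc_d_rc_29_2 lc_d_rc_11_1) (@D3.rec (fun _ => (Cert rels S Gen.d)) lc_d_rc_18_3 lc_d_rc_26_2 lc_d_rc_3_1 lc_d_rc_11_1 lc_d_Cert_tree lc_d_rc_24_0 lc_d_rc_29_2 lc_d_rc_26_2 lc_d_rc_25_2 lc_d_rc_29_2 lc_d_rc_11_1 lc_d_rc_28_2 lc_d_rc_29_2 lc_d_rc_26_2 lc_d_rc_25_2 lc_d_rc_11_1 lc_d_rc_18_3 lc_d_rc_25_2 lc_d_rc_29_2 lc_d_rc_11_1 lc_d_rc_18_3 lc_d_rc_25_2 lc_d_rc_28_2 lc_d_rc_3_1 lc_d_rc_18_3 lc_d_rc_11_1 lc_d_rc_28_2 lc_d_rc_29_2 lc_d_Cert_tree lc_d_rc_28_2 lc_d_rc_27_2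 lc_d_Cert_tree) (@D3.rec (fun _ => (Cert rels S Gen.d)) lc_d_Cert_tree lc_d_rc_28_2 lc_d_Cert_tree lc_d_rc_24_0 lc_d_rc_11_1 lc_d_rc_24_0 lc_d_rc_45_39 lc_d_rc_18_3 lc_d_rc_25_2 lc_d_rc_3_3 lc_d_rc_3_1 lc_d_rc_11_1 lc_d_Cert_tree lc_d_rc_3_1 lc_d_Cert_tree lc_d_rc_24_0 lc_d_rc_45_66 lc_d_rc_3_1 lc_d_rc_3_3 lc_d_rc_26_2 lc_d_rc_18_3 lc_d_Cert_tree lc_d_rc_24_0 lc_d_rc_29_2 lc_d_rc_25_2 lc_d_Cert_tree lc_d_rc_24_0 lc_d_rc_29_2 lc_d_rc_18_3 lc_d_rc_25_2 lc_d_rc_29_2 lc_d_rc_24_0) (@D3.rec (fun _ => (Cert rels S Gen.d)) lc_d_rc_29_2 lc_d_rc_18_3 lc_d_rc_25_2 lc_d_rc_29_2 lc_d_rc_11_1 lc_d_Cert_tree lc_d_rc_18_3 lc_d_rc_27_2 lc_d_rc_25_2 lc_d_rc_11_1 lc_d_Cert_tree lc_d_rc_18_3 lc_d_rc_27_2 lc_d_rc_25_2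 lc_d_rc_26_2 lc_d_rc_24_0 lc_d_rc_27_2 lc_d_rc_29_2 lc_d_Cert_tree lc_d_rc_28_2 lc_d_rc_27_2 lc_d_Cert_tree lc_d_rc_27_2 lc_d_rc_26_2 lc_d_rc_29_2 lc_d_rc_28_2 lc_d_rc_29_2 lc_d_rc_47_44 lc_d_rc_24_0 lc_d_rc_11_1 lc_d_Cert_tree lc_d_rc_24_0) (@D3.rec (fun _ => (Cert rels S Gen.d)) lc_d_rc_3_1 lc_d_rc_24_0 lc_d_rc_29_2 lc_d_rc_3_1 lc_d_rc_25_2 lc_d_rc_29_2 lc_d_rc_11_1 lc_d_rc_28_2 lc_d_rc_3_1 lc_d_rc_26_2 lc_d_rc_25_2 lc_d_rc_3_1 lc_d_rc_25_2 lc_d_rc_29_2 lc_d_rc_11_1 lc_d_rc_18_3 lc_d_rc_18_3 lc_d_rc_27_2 lc_d_rc_25_2 lc_d_rc_26_2 lc_d_rc_3_1 lc_d_rc_25_2 lc_d_rc_11_1 lc_d_rc_18_3 lc_d_rc_18_3 lc_d_rc_26_2 lc_d_rc_28_2 lc_d_rc_27_2 lc_d_Cert_tree lc_d_rc_28_2 lc_d_rc_27_2 lc_d_Cert_tree)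 (@D3.rec (fun _ => (Cert rels S Gen.d)) lc_d_rc_28_2 lc_d_Cert_tree lc_d_rc_24_0 lc_d_rc_3_1 lc_d_rc_24_0 lc_d_rc_18_3 lc_d_rc_3_1 lc_d_rc_11_1 lc_d_rc_3_1 lc_d_rc_25_4 lc_d_rc_29_2 lc_d_rc_29_2 lc_d_rc_25_2 lc_d_rc_26_2 lc_d_rc_3_1 lc_d_rc_11_1 lc_d_rc_18_3 lc_d_rc_29_2 lc_d_rc_26_2 lc_d_rc_26_2 lc_d_rc_27_2 lc_d_Cert_tree lc_d_rc_25_2 lc_d_rc_26_2 lc_d_rc_3_1 lc_d_rc_11_1 lc_d_rc_18_3 lc_d_rc_27_2 lc_d_rc_28_2 lc_d_rc_27_2 lc_d_Cert_tree lc_d_rc_3_1) (@D3.rec (fun _ => (Cert rels S Gen.d)) lc_d_rc_3_1 lc_d_rc_25_2 lc_d_rc_25_2 lc_d_rc_28_0 lc_d_rc_18_3 lc_d_rc_18_3 lc_d_Cert_tree lc_d_rc_28_2 lc_d_Cert_tree lc_d_rc_24_0 lc_d_rc_28_2 lc_d_Cert_tree lc_d_rc_24_0 lc_d_rc_25_2 lc_d_rc_24_0 lc_d_rc_18_3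 lc_d_rc_3_1 lc_d_rc_25_4 lc_d_Cert_tree lc_d_rc_24_0 lc_d_rc_29_2 lc_d_rc_18_3 lc_d_rc_25_2 lc_d_rc_29_2 lc_d_rc_28_0 lc_d_rc_24_0 lc_d_rc_18_3 lc_d_rc_25_2 lc_d_rc_29_2 lc_d_rc_11_1 lc_d_Cert_tree lc_d_rc_18_3) (@D3.rec (fun _ => (Cert rels S Gen.d)) lc_d_rc_25_2 lc_d_rc_18_3 lc_d_rc_45_72 lc_d_rc_18_3 lc_d_Cert_tree lc_d_rc_24_0 lc_d_rc_28_0 lc_d_rc_11_1 lc_d_rc_3_1 lc_d_rc_25_2 lc_d_rc_3_1 lc_d_rc_3_1 lc_d_rc_11_1 lc_d_rc_25_4 lc_d_rc_3_1 lc_d_rc_28_2 lc_d_rc_11_3 lc_d_rc_11_1 lc_d_rc_11_1 lc_d_rc_3_1 lc_d_rc_29_2 lc_d_rc_11_1 lc_d_rc_25_4 lc_d_rc_3_1 lc_d_rc_29_2 lc_d_rc_45_27 lc_d_rc_26_2 lc_d_rc_11_3 lc_d_rc_25_4 lc_d_rc_45_72 lc_d_rc_26_2 lc_d_rc_3_1) (@D3.rec (fun _ => (Cert rels S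 Gen.d)) lc_d_rc_28_2 lc_d_rc_24_0 lc_d_Cert_tree lc_d_rc_24_0 lc_d_rc_29_2 lc_d_rc_24_0 lc_d_rc_29_2 lc_d_rc_18_3 lc_d_rc_25_2 lc_d_rc_29_2 lc_d_Cert_tree lc_d_rc_3_1 lc_d_rc_25_2 lc_d_rc_24_0 lc_d_rc_27_2 lc_d_rc_28_2 lc_d_rc_29_2 lc_d_rc_3_1 lc_d_rc_27_0 lc_d_rc_29_2 lc_d_rc_18_3 lc_d_rc_29_2 lc_d_rc_11_1 lc_d_rc_18_3 lc_d_rc_25_2 lc_d_rc_3_1 lc_d_rc_3_1 lc_d_rc_24_0 lc_d_rc_11_1 lc_d_rc_18_3 lc_d_rc_3_1 lc_d_rc_3_1) (@D3.rec (fun _ => (Cert rels S Gen.d)) lc_d_rc_11_1 lc_d_Cert_tree lc_d_rc_29_2 lc_d_rc_18_3 lc_d_rc_26_2 lc_d_rc_3_1 lc_d_rc_11_1 lc_d_Cert_tree lc_d_rc_28_2 lc_d_Cert_tree lc_d_rc_3_1 lc_d_Cert_tree lc_d_rc_24_0 lc_d_rc_26_2 lc_d_rc_18_3 lc_d_Cert_tree lc_d_rc_24_0 lc_d_rc_29_2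 lc_d_Cert_tree lc_d_rc_24_0 lc_d_rc_29_2 lc_d_rc_18_3 lc_d_rc_25_2 lc_d_rc_29_2 lc_d_rc_24_0 lc_d_rc_29_2 lc_d_rc_24_1 lc_d_rc_25_2 lc_d_rc_29_2 lc_d_rc_11_1 lc_d_Cert_tree lc_d_rc_18_3) (@D3.rec (fun _ => (Cert rels S Gen.d)) lc_d_rc_27_2 lc_d_rc_25_2 lc_d_rc_11_1 lc_d_Cert_tree lc_d_rc_18_3 lc_d_rc_27_2 lc_d_rc_25_2 lc_d_rc_24_0 lc_d_rc_27_2 lc_d_rc_29_2 lc_d_Cert_tree lc_d_rc_28_2 lc_d_rc_27_2 lc_d_Cert_tree lc_d_rc_27_2 lc_d_rc_26_2 lc_d_rc_29_2 lc_d_rc_28_2 lc_d_rc_29_2 lc_d_rc_27_0 lc_d_rc_24_0 lc_d_rc_11_1 lc_d_Cert_tree lc_d_rc_24_0 lc_d_rc_24_0 lc_d_rc_29_2 lc_d_rc_3_1 lc_d_rc_29_2 lc_d_rc_11_1 lc_d_rc_47_30 lc_d_rc_3_1 lc_d_rc_26_2) (@D3.rec (fun _ => (Cert rels S Gen.d)) lc_d_rc_24_0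 lc_d_rc_3_1 lc_d_rc_25_2 lc_d_rc_29_2 lc_d_rc_11_1 lc_d_rc_18_3 lc_d_rc_18_3 lc_d_rc_27_2 lc_d_rc_25_2 lc_d_rc_3_1 lc_d_rc_3_1 lc_d_rc_11_1 lc_d_rc_11_1 lc_d_rc_18_3 lc_d_rc_18_3 lc_d_Cert_tree lc_d_rc_28_2 lc_d_rc_27_2 lc_d_Cert_tree lc_d_rc_28_2 lc_d_rc_27_2 lc_d_rc_28_2 lc_d_Cert_tree lc_d_rc_24_0 lc_d_rc_3_1 lc_d_rc_24_0 lc_d_rc_18_3 lc_d_rc_11_1 lc_d_Cert_tree lc_d_rc_3_1 lc_d_Cert_tree lc_d_rc_24_0)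
def ce_d_9 : D2 → D3 → (Cert rels S Gen.d) := @D2.rec (fun _ => D3 → (Cert rels S Gen.d)) (@D3.rec (fun _ => (Cert rels S Gen.d)) lc_d_rc_29_2 lc_d_rc_29_2 lc_d_rc_28_2 lc_d_rc_3_1 lc_d_rc_11_1 lc_d_rc_24_0 lc_d_Cert_tree lc_d_rc_45_63 lc_d_rc_24_0 lc_d_rc_25_2 lc_d_rc_27_2 lc_d_rc_18_3 lc_d_Cert_tree lc_d_rc_27_2 lc_d_rc_24_0 lc_d_rc_18_3 lc_d_rc_3_1 lc_d_rc_11_1 lc_d_Cert_tree lc_d_rc_18_3 lc_d_Cert_tree lc_d_rc_24_0 lc_d_rc_28_2 lc_d_Cert_tree lc_d_rc_24_0 lc_d_rc_29_2 lc_d_rc_29_2 lc_d_rc_24_0 lc_d_rc_24_0 lc_d_Cert_tree lc_d_rc_24_0 lc_d_rc_25_2) (@D3.rec (fun _ => (Cert rels S Gen.d)) lc_d_rc_24_0 lc_d_rc_29_2 lc_d_rc_18_3 lc_d_rc_29_2 lc_d_rc_18_3 lc_d_rc_29_2 lc_d_rc_11_1 lc_d_Cert_tree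 lc_d_rc_18_3 lc_d_rc_27_2 lc_d_rc_25_2 lc_d_rc_11_1 lc_d_rc_18_3 lc_d_rc_24_0 lc_d_rc_27_2 lc_d_rc_29_2 lc_d_Cert_tree lc_d_rc_27_2 lc_d_rc_27_2 lc_d_rc_26_2 lc_d_rc_29_2 lc_d_rc_28_2 lc_d_rc_29_2 lc_d_rc_27_0 lc_d_rc_24_0 lc_d_rc_11_1 lc_d_Cert_tree lc_d_rc_24_0 lc_d_rc_3_1 lc_d_rc_3_1 lc_d_rc_3_1 lc_d_rc_3_1) (@D3.rec (fun _ => (Cert rels S Gen.d)) lc_d_rc_11_1 lc_d_rc_11_1 lc_d_rc_18_3 lc_d_rc_18_3 lc_d_rc_26_2 lc_d_rc_27_2 lc_d_rc_3_1 lc_d_rc_25_4 lc_d_rc_24_0 lc_d_rc_18_3 lc_d_rc_28_2 lc_d_rc_18_3 lc_d_Cert_tree lc_d_rc_29_2 lc_d_rc_46_10 lc_d_Cert_tree lc_d_rc_24_0 lc_d_rc_29_2 lc_d_rc_18_3 lc_d_rc_25_2 lc_d_rc_29_2 lc_d_rc_46_31 lc_d_rc_3_3 lc_d_rc_18_3 lc_d_rc_3_1 lc_d_rc_29_2 lc_d_rc_11_1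 lc_d_Cert_tree lc_d_rc_18_3 lc_d_rc_26_2 lc_d_rc_25_2 lc_d_rc_11_1) (@D3.rec (fun _ => (Cert rels S Gen.d)) lc_d_Cert_tree lc_d_rc_3_3 lc_d_rc_27_2 lc_d_rc_25_2 lc_d_rc_11_1 lc_d_rc_11_3 lc_d_Cert_tree lc_d_rc_3_3 lc_d_rc_24_0 lc_d_rc_27_2 lc_d_rc_29_2 lc_d_Cert_tree lc_d_rc_28_2 lc_d_rc_27_2 lc_d_Cert_tree lc_d_rc_24_0 lc_d_rc_27_2 lc_d_rc_29_2 lc_d_Cert_tree lc_d_rc_28_2 lc_d_rc_27_2 lc_d_rc_24_1 lc_d_rc_27_2 lc_d_rc_26_2 lc_d_rc_29_2 lc_d_rc_28_2 lc_d_rc_29_2 lc_d_Cert_tree lc_d_rc_24_0 lc_d_rc_28_2 lc_d_Cert_tree lc_d_rc_24_0) (@D3.rec (fun _ => (Cert rels S Gen.d)) lc_d_rc_25_2 lc_d_rc_28_2 lc_d_rc_26_2 lc_d_rc_29_2 lc_d_rc_29_2 lc_d_rc_27_0 lc_d_rc_29_2 lc_d_Cert_tree lc_d_rc_24_0 lc_d_rc_29_2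 lc_d_rc_29_2 lc_d_rc_24_0 lc_d_rc_27_0 lc_d_rc_3_1 lc_d_rc_29_2 lc_d_rc_3_1 lc_d_rc_25_2 lc_d_rc_11_1 lc_d_rc_26_2 lc_d_rc_25_2 lc_d_rc_26_2 lc_d_rc_26_2 lc_d_rc_27_2 lc_d_rc_24_1 lc_d_rc_28_2 lc_d_rc_27_2 lc_d_rc_25_4 lc_d_rc_3_1 lc_d_rc_3_1 lc_d_rc_11_1 lc_d_rc_11_1 lc_d_rc_26_2) (@D3.rec (fun _ => (Cert rels S Gen.d)) lc_d_rc_18_3 lc_d_rc_18_3 lc_d_Cert_tree lc_d_rc_28_2 lc_d_Cert_tree lc_d_rc_24_0 lc_d_rc_28_2 lc_d_rc_3_1 lc_d_rc_29_2 lc_d_rc_24_0 lc_d_rc_18_3 lc_d_rc_11_1 lc_d_rc_3_1 lc_d_rc_3_1 lc_d_rc_25_2 lc_d_rc_28_2 lc_d_rc_27_2 lc_d_Cert_tree lc_d_rc_28_2 lc_d_rc_11_3 lc_d_rc_28_2 lc_d_rc_45_33 lc_d_rc_3_1 lc_d_rc_3_1 lc_d_rc_26_2 lc_d_rc_11_1 lc_d_Cert_tree lc_d_rc_18_3 lc_d_Cert_tree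 lc_d_rc_24_0 lc_d_rc_18_1 lc_d_rc_24_0) (@D3.rec (fun _ => (Cert rels S Gen.d)) lc_d_rc_18_3 lc_d_rc_18_3 lc_d_rc_24_0 lc_d_rc_29_2 lc_d_rc_18_3 lc_d_rc_25_2 lc_d_rc_29_2 lc_d_rc_18_3 lc_d_rc_25_2 lc_d_rc_25_2 lc_d_rc_29_2 lc_d_rc_11_1 lc_d_rc_25_2 lc_d_rc_18_3 lc_d_rc_27_2 lc_d_rc_25_2 lc_d_rc_26_2 lc_d_rc_3_1 lc_d_rc_11_1 lc_d_rc_3_1 lc_d_Cert_tree lc_d_rc_18_3 lc_d_rc_24_0 lc_d_rc_27_2 lc_d_rc_29_2 lc_d_Cert_tree lc_d_rc_27_2 lc_d_rc_26_2 lc_d_rc_29_2 lc_d_rc_28_2 lc_d_rc_29_2 lc_d_Cert_tree) (@D3.rec (fun _ => (Cert rels S Gen.d)) lc_d_rc_24_0 lc_d_rc_28_2 lc_d_Cert_tree lc_d_rc_24_0 lc_d_rc_27_2 lc_d_rc_26_2 lc_d_rc_29_2 lc_d_rc_28_2 lc_d_rc_29_2 lc_d_Cert_tree lc_d_rc_24_0 lc_d_rc_29_2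 lc_d_Cert_tree lc_d_rc_24_0 lc_d_rc_25_2 lc_d_rc_28_2 lc_d_rc_26_2 lc_d_rc_29_2 lc_d_rc_29_2 lc_d_Cert_tree lc_d_rc_29_2 lc_d_Cert_tree lc_d_rc_24_0 lc_d_rc_25_2 lc_d_rc_45_15 lc_d_rc_24_0 lc_d_rc_18_3 lc_d_rc_25_2 lc_d_rc_29_2 lc_d_rc_29_2 lc_d_Cert_tree lc_d_rc_11_1) (@D3.rec (fun _ => (Cert rels S Gen.d)) lc_d_rc_24_0 lc_d_Cert_tree lc_d_rc_24_0 lc_d_rc_3_1 lc_d_rc_3_1 lc_d_rc_26_2 lc_d_rc_11_1 lc_d_rc_11_1 lc_d_Cert_tree lc_d_rc_18_3 lc_d_Cert_tree lc_d_rc_24_0 lc_d_rc_24_1 lc_d_rc_24_0 lc_d_rc_18_3 lc_d_rc_29_2 lc_d_rc_24_0 lc_d_rc_24_1 lc_d_rc_11_1 lc_d_rc_28_2 lc_d_rc_3_1 lc_d_Cert_tree lc_d_rc_18_1 lc_d_Cert_tree lc_d_rc_24_0 lc_d_rc_24_1 lc_d_rc_24_0 lc_d_rc_18_3 lc_d_rc_27_2 lc_d_rc_24_0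 lc_d_rc_18_3 lc_d_rc_25_2) (@D3.rec (fun _ => (Cert rels S Gen.d)) lc_d_rc_29_2 lc_d_Cert_tree lc_d_rc_26_2 lc_d_rc_24_0 lc_d_rc_27_2 lc_d_rc_28_2 lc_d_rc_24_0 lc_d_rc_27_2 lc_d_rc_26_0 lc_d_rc_27_2 lc_d_rc_26_2 lc_d_rc_29_2 lc_d_rc_28_2 lc_d_rc_29_2 lc_d_Cert_tree lc_d_rc_24_0 lc_d_rc_46_31 lc_d_rc_3_3 lc_d_rc_25_2 lc_d_rc_28_2 lc_d_rc_26_2 lc_d_rc_29_2 lc_d_rc_29_2 lc_d_rc_18_1 lc_d_rc_47_51 lc_d_rc_24_0 lc_d_rc_3_1 lc_d_rc_3_1 lc_d_rc_25_2 lc_d_rc_29_2 lc_d_rc_27_2 lc_d_rc_26_2) (@D3.rec (fun _ => (Cert rels S Gen.d)) lc_d_rc_47_9 lc_d_rc_28_2 lc_d_rc_26_2 lc_d_rc_29_2 lc_d_rc_3_3 lc_d_rc_18_1 lc_d_rc_46_45 lc_d_rc_24_0 lc_d_rc_25_2 lc_d_rc_29_2 lc_d_Cert_tree lc_d_rc_18_3 lc_d_rc_27_2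 lc_d_rc_25_2 lc_d_rc_26_2 lc_d_rc_24_0 lc_d_rc_27_2 lc_d_rc_29_2 lc_d_rc_26_2 lc_d_rc_27_2 lc_d_rc_27_2 lc_d_rc_26_2 lc_d_rc_28_2 lc_d_rc_27_2 lc_d_rc_26_2 lc_d_rc_28_2 lc_d_rc_25_2 lc_d_rc_28_2 lc_d_rc_26_2 lc_d_rc_29_2 lc_d_rc_29_2 lc_d_Cert_tree) (@D3.rec (fun _ => (Cert rels S Gen.d)) lc_d_rc_29_2 lc_d_Cert_tree lc_d_rc_24_0 lc_d_rc_25_2 lc_d_rc_24_1 lc_d_rc_24_0 lc_d_rc_18_3 lc_d_rc_25_2 lc_d_rc_29_2 lc_d_rc_29_2 lc_d_rc_18_1 lc_d_Cert_tree lc_d_rc_24_0 lc_d_rc_3_1 lc_d_rc_28_2 lc_d_rc_11_1 lc_d_rc_25_2 lc_d_rc_29_2 lc_d_rc_18_3 lc_d_rc_25_2 lc_d_rc_26_2 lc_d_rc_25_2 lc_d_rc_26_2 lc_d_rc_28_2 lc_d_rc_27_2 lc_d_Cert_tree lc_d_rc_25_2 lc_d_rc_28_2 lc_d_rc_26_2 lc_d_rc_29_2 lc_d_rc_29_2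 lc_d_Cert_tree) (@D3.rec (fun _ => (Cert rels S Gen.d)) lc_d_rc_29_2 lc_d_Cert_tree lc_d_rc_24_0 lc_d_rc_25_2 lc_d_rc_11_1 lc_d_rc_24_0 lc_d_rc_18_3 lc_d_rc_25_2 lc_d_rc_29_2 lc_d_rc_29_2 lc_d_rc_26_4 lc_d_Cert_tree lc_d_rc_24_0 lc_d_Cert_tree lc_d_rc_24_0 lc_d_rc_18_3 lc_d_rc_25_2 lc_d_rc_11_1 lc_d_rc_25_2 lc_d_rc_46_31 lc_d_rc_24_0 lc_d_rc_46_45 lc_d_rc_24_0 lc_d_rc_29_2 lc_d_rc_18_3 lc_d_rc_25_2 lc_d_rc_29_2 lc_d_rc_11_1 lc_d_Cert_tree lc_d_rc_18_3 lc_d_rc_27_2 lc_d_rc_25_2) (@D3.rec (fun _ => (Cert rels S Gen.d)) lc_d_rc_3_1 lc_d_rc_24_0 lc_d_rc_27_2 lc_d_rc_29_2 lc_d_Cert_tree lc_d_rc_28_2 lc_d_rc_27_2 lc_d_Cert_tree lc_d_rc_27_2 lc_d_rc_26_2 lc_d_rc_29_2 lc_d_rc_28_2 lc_d_rc_29_2 lc_d_rc_45_66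 lc_d_rc_24_0 lc_d_rc_25_2 lc_d_Cert_tree lc_d_rc_24_0 lc_d_rc_11_1 lc_d_rc_3_1 lc_d_rc_25_2 lc_d_rc_3_1 lc_d_rc_11_1 lc_d_rc_11_1 lc_d_rc_18_3 lc_d_Cert_tree lc_d_rc_27_2 lc_d_Cert_tree lc_d_rc_29_2 lc_d_Cert_tree lc_d_rc_24_0 lc_d_rc_3_1) (@D3.rec (fun _ => (Cert rels S Gen.d)) lc_d_rc_24_0 lc_d_rc_18_3 lc_d_Cert_tree lc_d_rc_24_0 lc_d_Cert_tree lc_d_Cert_tree lc_d_Cert_tree lc_d_rc_24_0 lc_d_Cert_tree lc_d_rc_24_0 lc_d_rc_25_2 lc_d_rc_24_0 lc_d_rc_18_3 lc_d_rc_25_2 lc_d_rc_18_3 lc_d_rc_25_2 lc_d_rc_29_2 lc_d_Cert_tree lc_d_rc_18_3 lc_d_rc_26_2 lc_d_rc_25_2 lc_d_rc_11_1 lc_d_rc_24_0 lc_d_rc_27_2 lc_d_rc_29_2 lc_d_Cert_tree lc_d_rc_28_2 lc_d_rc_27_2 lc_d_Cert_tree lc_d_rc_27_2 lc_d_rc_26_2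 lc_d_rc_29_2) (@D3.rec (fun _ => (Cert rels S Gen.d)) lc_d_rc_28_2 lc_d_rc_29_2 lc_d_Cert_tree lc_d_rc_24_0 lc_d_rc_28_2 lc_d_Cert_tree lc_d_rc_24_0 lc_d_rc_25_2 lc_d_rc_28_2 lc_d_rc_26_2 lc_d_rc_29_2 lc_d_rc_29_2 lc_d_rc_28_0 lc_d_rc_29_2 lc_d_Cert_tree lc_d_rc_24_0 lc_d_rc_47_2 lc_d_Cert_tree lc_d_rc_24_0 lc_d_rc_27_0 lc_d_rc_27_2 lc_d_Cert_tree lc_d_rc_28_2 lc_d_Cert_tree lc_d_rc_24_0 lc_d_Cert_tree lc_d_rc_24_0 lc_d_rc_18_3 lc_d_rc_24_0 lc_d_rc_18_3 lc_d_rc_25_2 lc_d_rc_11_1) (@D3.rec (fun _ => (Cert rels S Gen.d)) lc_d_Cert_tree lc_d_rc_24_0 lc_d_Cert_tree lc_d_rc_24_0 lc_d_rc_24_1 lc_d_rc_24_0 lc_d_rc_18_3 lc_d_rc_25_2 lc_d_rc_11_1 lc_d_rc_3_1 lc_d_rc_27_2 lc_d_rc_25_2 lc_d_rc_26_2 lc_d_rc_25_2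 lc_d_rc_28_2 lc_d_rc_26_2 lc_d_rc_29_2 lc_d_rc_29_2 lc_d_Cert_tree lc_d_rc_29_2 lc_d_Cert_tree lc_d_rc_24_0 lc_d_rc_25_2 lc_d_Cert_tree lc_d_rc_24_0 lc_d_rc_18_3 lc_d_rc_25_2 lc_d_rc_29_2 lc_d_rc_29_2 lc_d_Cert_tree lc_d_rc_11_1 lc_d_rc_24_0) (@D3.rec (fun _ => (Cert rels S Gen.d)) lc_d_Cert_tree lc_d_rc_24_0 lc_d_rc_18_3 lc_d_rc_25_2 lc_d_rc_24_0 lc_d_rc_18_3 lc_d_rc_25_2 lc_d_rc_3_1 lc_d_rc_24_0 lc_d_rc_18_3 lc_d_rc_25_2 lc_d_rc_11_1 lc_d_rc_28_2 lc_d_rc_25_2 lc_d_rc_11_1 lc_d_rc_3_1 lc_d_rc_45_51 lc_d_rc_3_1 lc_d_rc_28_2 lc_d_rc_3_1 lc_d_rc_11_1 lc_d_rc_3_1 lc_d_rc_11_1 lc_d_rc_27_2 lc_d_rc_11_1 lc_d_rc_11_1 lc_d_rc_3_1 lc_d_rc_29_2 lc_d_rc_18_5 lc_d_rc_18_3 lc_d_rc_25_2 lc_d_rc_3_1) (@D3.rec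 (fun _ => (Cert rels S Gen.d)) lc_d_rc_47_51 lc_d_rc_29_2 lc_d_rc_18_3 lc_d_rc_3_1 lc_d_rc_24_0 lc_d_rc_3_1 lc_d_rc_28_2 lc_d_rc_3_1 lc_d_rc_24_0 lc_d_rc_29_2 lc_d_Cert_tree lc_d_rc_24_0 lc_d_rc_29_2 lc_d_rc_18_3 lc_d_rc_25_2 lc_d_rc_29_2 lc_d_rc_24_0 lc_d_rc_29_2 lc_d_rc_28_2 lc_d_rc_25_2 lc_d_rc_29_2 lc_d_rc_11_1 lc_d_Cert_tree lc_d_rc_29_2 lc_d_rc_27_2 lc_d_rc_25_2 lc_d_rc_3_1 lc_d_rc_25_2 lc_d_rc_26_2 lc_d_rc_24_0 lc_d_rc_27_2 lc_d_rc_29_2) (@D3.rec (fun _ => (Cert rels S Gen.d)) lc_d_rc_26_2 lc_d_rc_28_2 lc_d_rc_27_2 lc_d_Cert_tree lc_d_rc_27_2 lc_d_rc_28_2 lc_d_rc_29_2 lc_d_rc_11_1 lc_d_rc_26_4 lc_d_rc_24_0 lc_d_rc_29_2 lc_d_rc_3_1 lc_d_rc_25_2 lc_d_rc_29_2 lc_d_rc_11_1 lc_d_rc_28_2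 lc_d_rc_3_1 lc_d_rc_26_2 lc_d_rc_25_2 lc_d_rc_3_1 lc_d_rc_18_3 lc_d_rc_25_2 lc_d_rc_29_2 lc_d_rc_11_1 lc_d_rc_18_3 lc_d_rc_25_2 lc_d_rc_26_2 lc_d_rc_3_1 lc_d_rc_11_1 lc_d_rc_11_1 lc_d_rc_24_0 lc_d_rc_29_2) (@D3.rec (fun _ => (Cert rels S Gen.d)) lc_d_Cert_tree lc_d_rc_28_2 lc_d_rc_27_2 lc_d_Cert_tree lc_d_Cert_tree lc_d_rc_28_2 lc_d_Cert_tree lc_d_rc_24_0 lc_d_rc_26_4 lc_d_rc_24_0 lc_d_rc_11_1 lc_d_rc_18_3 lc_d_rc_25_2 lc_d_rc_26_2 lc_d_rc_3_1 lc_d_rc_11_1 lc_d_Cert_tree lc_d_rc_3_1 lc_d_Cert_tree lc_d_rc_24_0 lc_d_rc_29_2 lc_d_rc_29_2 lc_d_rc_25_2 lc_d_rc_28_2 lc_d_rc_3_1 lc_d_rc_11_1 lc_d_rc_29_2 lc_d_Cert_tree lc_d_rc_27_2 lc_d_Cert_tree lc_d_rc_18_3 lc_d_rc_25_2) (@D3.rec (fun _ => (Cert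 rels S Gen.d)) lc_d_rc_28_0 lc_d_rc_3_1 lc_d_rc_11_1 lc_d_Cert_tree lc_d_Cert_tree lc_d_rc_46_52 lc_d_rc_3_1 lc_d_rc_29_2 lc_d_Cert_tree lc_d_rc_18_3 lc_d_rc_45_27 lc_d_rc_24_0 lc_d_rc_28_2 lc_d_Cert_tree lc_d_rc_24_0 lc_d_rc_24_0 lc_d_rc_24_0 lc_d_rc_45_27 lc_d_rc_25_2 lc_d_rc_3_1 lc_d_rc_24_0 lc_d_Cert_tree lc_d_rc_24_0 lc_d_rc_25_2 lc_d_rc_26_2 lc_d_rc_25_2 lc_d_Cert_tree lc_d_rc_24_0 lc_d_rc_29_2 lc_d_rc_18_3 lc_d_rc_25_2 lc_d_rc_29_2)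
def ce_d_10 : D2 → D3 → (Cert rels S Gen.d) := @D2.rec (fun _ => D3 → (Cert rels S Gen.d)) (@D3.rec (fun _ => (Cert rels S Gen.d)) lc_d_rc_24_0 lc_d_rc_24_0 lc_d_rc_29_2 lc_d_rc_18_3 lc_d_rc_25_2 lc_d_rc_29_2 lc_d_rc_11_1 lc_d_Cert_tree lc_d_rc_18_3 lc_d_rc_26_2 lc_d_rc_25_2 lc_d_rc_11_1 lc_d_rc_3_3 lc_d_rc_25_2 lc_d_rc_29_2 lc_d_rc_3_3 lc_d_Cert_tree lc_d_rc_18_3 lc_d_rc_27_2 lc_d_rc_25_2 lc_d_rc_26_2 lc_d_rc_27_2 lc_d_Cert_tree lc_d_rc_11_1 lc_d_rc_24_0 lc_d_rc_27_2 lc_d_rc_29_2 lc_d_Cert_tree lc_d_rc_28_2 lc_d_rc_27_2 lc_d_Cert_tree lc_d_rc_24_0) (@D3.rec (fun _ => (Cert rels S Gen.d)) lc_d_rc_27_2 lc_d_rc_29_2 lc_d_rc_26_2 lc_d_rc_28_2 lc_d_rc_27_2 lc_d_Cert_tree lc_d_rc_27_2 lc_d_rc_26_2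 lc_d_rc_29_2 lc_d_rc_28_2 lc_d_rc_29_2 lc_d_Cert_tree lc_d_rc_24_0 lc_d_rc_28_2 lc_d_Cert_tree lc_d_rc_24_0 lc_d_rc_25_2 lc_d_rc_28_2 lc_d_rc_26_2 lc_d_rc_29_2 lc_d_rc_29_2 lc_d_rc_46_10 lc_d_rc_24_1 lc_d_rc_24_0 lc_d_rc_25_4 lc_d_rc_29_2 lc_d_rc_11_1 lc_d_rc_3_1 lc_d_rc_25_2 lc_d_rc_26_2 lc_d_rc_3_1 lc_d_rc_11_1) (@D3.rec (fun _ => (Cert rels S Gen.d)) lc_d_rc_11_1 lc_d_rc_28_2 lc_d_rc_3_1 lc_d_rc_26_2 lc_d_rc_26_2 lc_d_rc_27_2 lc_d_Cert_tree lc_d_rc_25_2 lc_d_rc_26_2 lc_d_rc_3_1 lc_d_rc_25_2 lc_d_rc_11_1 lc_d_rc_18_3 lc_d_rc_26_2 lc_d_rc_28_2 lc_d_rc_27_2 lc_d_Cert_tree lc_d_rc_3_1 lc_d_rc_3_1 lc_d_rc_25_2 lc_d_rc_25_2 lc_d_rc_26_2 lc_d_rc_18_3 lc_d_rc_18_3 lc_d_Cert_tree lc_d_rc_28_2 lc_d_Cert_tree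 lc_d_rc_24_0 lc_d_rc_28_2 lc_d_Cert_tree lc_d_rc_24_0 lc_d_rc_25_2) (@D3.rec (fun _ => (Cert rels S Gen.d)) lc_d_rc_24_0 lc_d_rc_18_3 lc_d_rc_3_1 lc_d_rc_26_2 lc_d_rc_28_2 lc_d_Cert_tree lc_d_rc_3_1 lc_d_rc_29_2 lc_d_rc_11_1 lc_d_Cert_tree lc_d_rc_28_2 lc_d_Cert_tree lc_d_rc_24_0 lc_d_Cert_tree lc_d_rc_3_1 lc_d_rc_27_2 lc_d_Cert_tree lc_d_rc_28_2 lc_d_Cert_tree lc_d_rc_24_0 lc_d_rc_3_1 lc_d_rc_3_1 lc_d_rc_26_2 lc_d_rc_25_2 lc_d_Cert_tree lc_d_rc_18_3 lc_d_Cert_tree lc_d_rc_24_0 lc_d_rc_25_2 lc_d_rc_24_0 lc_d_rc_18_3 lc_d_rc_24_0) (@D3.rec (fun _ => (Cert rels S Gen.d)) lc_d_rc_18_3 lc_d_rc_18_3 lc_d_rc_11_1 lc_d_rc_24_0 lc_d_rc_29_2 lc_d_rc_18_3 lc_d_rc_25_2 lc_d_rc_29_2 lc_d_rc_11_1 lc_d_rc_26_2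 lc_d_rc_18_3 lc_d_rc_27_2 lc_d_rc_25_2 lc_d_rc_26_2 lc_d_rc_28_0 lc_d_rc_11_1 lc_d_rc_11_3 lc_d_rc_18_3 lc_d_rc_25_2 lc_d_rc_3_1 lc_d_Cert_tree lc_d_rc_11_1 lc_d_rc_24_0 lc_d_rc_26_2 lc_d_rc_24_0 lc_d_rc_11_1 lc_d_rc_3_1 lc_d_rc_25_4 lc_d_rc_24_0 lc_d_rc_3_1 lc_d_rc_47_51 lc_d_rc_25_4) (@D3.rec (fun _ => (Cert rels S Gen.d)) lc_d_rc_18_3 lc_d_rc_25_4 lc_d_rc_28_2 lc_d_rc_24_0 lc_d_rc_29_2 lc_d_rc_18_3 lc_d_rc_29_2 lc_d_rc_28_2 lc_d_rc_29_2 lc_d_rc_11_1 lc_d_Cert_tree lc_d_rc_29_2 lc_d_rc_25_2 lc_d_rc_11_1 lc_d_rc_24_0 lc_d_rc_29_2 lc_d_rc_27_2 lc_d_rc_25_0 lc_d_rc_25_4 lc_d_rc_3_1 lc_d_rc_11_1 lc_d_rc_18_3 lc_d_rc_3_1 lc_d_rc_3_1 lc_d_rc_11_1 lc_d_Cert_tree lc_d_rc_28_2 lc_d_rc_11_1 lc_d_Cert_tree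 lc_d_rc_3_1 lc_d_Cert_tree lc_d_rc_24_0) (@D3.rec (fun _ => (Cert rels S Gen.d)) lc_d_Cert_tree lc_d_rc_3_1 lc_d_Cert_tree lc_d_rc_24_0 lc_d_rc_24_0 lc_d_Cert_tree lc_d_rc_24_0 lc_d_rc_25_2 lc_d_Cert_tree lc_d_rc_24_0 lc_d_rc_29_2 lc_d_rc_18_3 lc_d_rc_25_2 lc_d_rc_29_2 lc_d_rc_24_0 lc_d_rc_29_2 lc_d_rc_18_3 lc_d_rc_29_2 lc_d_rc_11_1 lc_d_Cert_tree lc_d_rc_18_3 lc_d_rc_26_2 lc_d_rc_11_1 lc_d_rc_11_1 lc_d_rc_27_2 lc_d_rc_25_2 lc_d_rc_29_2 lc_d_rc_3_1 lc_d_Cert_tree lc_d_rc_29_2 lc_d_rc_27_2 lc_d_rc_25_2) (@D3.rec (fun _ => (Cert rels S Gen.d)) lc_d_rc_11_1 lc_d_rc_24_0 lc_d_Cert_tree lc_d_rc_11_1 lc_d_rc_24_0 lc_d_rc_27_2 lc_d_rc_29_2 lc_d_Cert_tree lc_d_rc_28_2 lc_d_rc_27_2 lc_d_Cert_tree lc_d_rc_24_0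 lc_d_rc_27_2 lc_d_rc_29_2 lc_d_rc_3_3 lc_d_rc_27_2 lc_d_rc_27_2 lc_d_rc_26_2 lc_d_rc_29_2 lc_d_rc_28_2 lc_d_rc_29_2 lc_d_Cert_tree lc_d_rc_24_0 lc_d_rc_28_2 lc_d_Cert_tree lc_d_rc_24_0 lc_d_rc_25_2 lc_d_rc_28_2 lc_d_rc_26_2 lc_d_rc_29_2 lc_d_rc_29_2 lc_d_rc_25_0) (@D3.rec (fun _ => (Cert rels S Gen.d)) lc_d_rc_3_1 lc_d_rc_24_0 lc_d_rc_29_2 lc_d_rc_11_1 lc_d_rc_3_1 lc_d_rc_28_2 lc_d_rc_3_1 lc_d_rc_3_1 lc_d_rc_11_1 lc_d_rc_18_3 lc_d_Cert_tree lc_d_rc_24_0 lc_d_rc_25_4 lc_d_rc_25_2 lc_d_rc_26_2 lc_d_rc_11_1 lc_d_rc_11_1 lc_d_rc_18_3 lc_d_Cert_tree lc_d_rc_27_2 lc_d_rc_3_1 lc_d_rc_3_1 lc_d_rc_3_1 lc_d_rc_11_1 lc_d_rc_11_1 lc_d_Cert_tree lc_d_rc_18_3 lc_d_Cert_tree lc_d_rc_24_0 lc_d_rc_28_2 lc_d_Cert_tree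 lc_d_rc_24_0) (@D3.rec (fun _ => (Cert rels S Gen.d)) lc_d_rc_29_2 lc_d_rc_3_1 lc_d_rc_24_0 lc_d_Cert_tree lc_d_rc_24_0 lc_d_Cert_tree lc_d_rc_24_0 lc_d_rc_25_2 lc_d_rc_29_2 lc_d_Cert_tree lc_d_rc_3_1 lc_d_Cert_tree lc_d_rc_18_3 lc_d_rc_24_0 lc_d_rc_11_3 lc_d_Cert_tree lc_d_Cert_tree lc_d_rc_24_0 lc_d_rc_45_36 lc_d_rc_18_3 lc_d_Cert_tree lc_d_Cert_tree lc_d_rc_24_0 lc_d_Cert_tree lc_d_rc_24_0 lc_d_rc_28_0 lc_d_rc_11_1 lc_d_rc_24_0 lc_d_rc_25_2 lc_d_rc_24_0 lc_d_rc_18_3 lc_d_rc_25_2) (@D3.rec (fun _ => (Cert rels S Gen.d)) lc_d_rc_29_2 lc_d_rc_11_1 lc_d_rc_18_3 lc_d_rc_11_1 lc_d_rc_18_3 lc_d_rc_11_1 lc_d_Cert_tree lc_d_rc_11_1 lc_d_rc_24_0 lc_d_rc_27_2 lc_d_rc_29_2 lc_d_Cert_tree lc_d_rc_27_2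 lc_d_rc_28_2 lc_d_rc_27_2 lc_d_rc_26_2 lc_d_rc_29_2 lc_d_rc_29_2 lc_d_rc_24_0 lc_d_rc_25_2 lc_d_rc_28_2 lc_d_rc_26_2 lc_d_rc_29_2 lc_d_rc_29_2 lc_d_rc_25_0 lc_d_rc_25_4 lc_d_rc_24_0 lc_d_rc_11_1 lc_d_rc_28_2 lc_d_rc_11_1 lc_d_rc_11_1 lc_d_rc_26_2) (@D3.rec (fun _ => (Cert rels S Gen.d)) lc_d_rc_18_3 lc_d_Cert_tree lc_d_rc_28_2 lc_d_Cert_tree lc_d_rc_24_0 lc_d_rc_24_0 lc_d_rc_29_2 lc_d_rc_18_3 lc_d_rc_25_2 lc_d_rc_29_2 lc_d_rc_11_1 lc_d_Cert_tree lc_d_rc_18_3 lc_d_rc_27_2 lc_d_rc_25_2 lc_d_rc_26_2 lc_d_Cert_tree lc_d_rc_18_3 lc_d_rc_3_1 lc_d_rc_28_2 lc_d_rc_3_1 lc_d_Cert_tree lc_d_rc_11_1 lc_d_rc_24_0 lc_d_rc_27_2 lc_d_rc_29_2 lc_d_Cert_tree lc_d_rc_26_2 lc_d_rc_27_2 lc_d_rc_11_1 lc_d_rc_24_0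 lc_d_rc_27_2) (@D3.rec (fun _ => (Cert rels S Gen.d)) lc_d_rc_29_2 lc_d_Cert_tree lc_d_rc_28_2 lc_d_rc_27_2 lc_d_rc_25_4 lc_d_Cert_tree lc_d_rc_29_2 lc_d_rc_24_0 lc_d_rc_27_2 lc_d_rc_29_2 lc_d_Cert_tree lc_d_rc_27_2 lc_d_rc_26_2 lc_d_rc_29_2 lc_d_rc_28_2 lc_d_rc_29_2 lc_d_Cert_tree lc_d_rc_24_0 lc_d_rc_28_2 lc_d_Cert_tree lc_d_rc_24_0 lc_d_rc_27_2 lc_d_rc_26_2 lc_d_rc_29_2 lc_d_rc_28_2 lc_d_rc_29_2 lc_d_Cert_tree lc_d_rc_24_0 lc_d_rc_28_2 lc_d_rc_24_1 lc_d_rc_25_2 lc_d_rc_28_2) (@D3.rec (fun _ => (Cert rels S Gen.d)) lc_d_rc_26_2 lc_d_rc_29_2 lc_d_rc_29_2 lc_d_Cert_tree lc_d_rc_29_2 lc_d_Cert_tree lc_d_rc_24_0 lc_d_rc_25_2 lc_d_rc_29_2 lc_d_rc_24_0 lc_d_rc_18_3 lc_d_rc_25_2 lc_d_rc_29_2 lc_d_rc_29_2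 lc_d_rc_28_0 lc_d_Cert_tree lc_d_rc_24_0 lc_d_rc_25_0 lc_d_rc_3_1 lc_d_rc_3_1 lc_d_rc_26_2 lc_d_rc_25_2 lc_d_rc_26_2 lc_d_rc_27_2 lc_d_Cert_tree lc_d_rc_28_2 lc_d_rc_3_1 lc_d_rc_28_2 lc_d_rc_24_1 lc_d_rc_3_1 lc_d_rc_3_1 lc_d_rc_26_2) (@D3.rec (fun _ => (Cert rels S Gen.d)) lc_d_rc_11_1 lc_d_rc_11_1 lc_d_Cert_tree lc_d_rc_18_3 lc_d_Cert_tree lc_d_rc_24_0 lc_d_rc_3_1 lc_d_rc_24_0 lc_d_rc_18_3 lc_d_rc_18_3 lc_d_rc_11_1 lc_d_rc_3_1 lc_d_rc_26_2 lc_d_Cert_tree lc_d_Cert_tree lc_d_rc_24_0 lc_d_rc_18_1 lc_d_rc_25_4 lc_d_rc_3_1 lc_d_Cert_tree lc_d_Cert_tree lc_d_rc_24_0 lc_d_rc_18_3 lc_d_rc_24_0 lc_d_rc_18_3 lc_d_rc_25_2 lc_d_rc_29_2 lc_d_rc_18_3 lc_d_rc_25_2 lc_d_rc_26_2 lc_d_rc_25_2 lc_d_rc_26_2)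 (@D3.rec (fun _ => (Cert rels S Gen.d)) lc_d_rc_3_1 lc_d_rc_25_2 lc_d_rc_11_1 lc_d_rc_27_2 lc_d_rc_25_2 lc_d_rc_26_2 lc_d_rc_28_2 lc_d_rc_27_2 lc_d_Cert_tree lc_d_rc_3_1 lc_d_rc_24_0 lc_d_rc_27_2 lc_d_rc_29_2 lc_d_rc_26_2 lc_d_rc_27_2 lc_d_rc_26_2 lc_d_rc_29_2 lc_d_rc_28_2 lc_d_rc_29_2 lc_d_Cert_tree lc_d_rc_24_0 lc_d_rc_25_2 lc_d_rc_28_2 lc_d_rc_26_2 lc_d_rc_29_2 lc_d_rc_29_2 lc_d_Cert_tree lc_d_rc_29_2 lc_d_Cert_tree lc_d_rc_24_0 lc_d_rc_25_2 lc_d_rc_26_4) (@D3.rec (fun _ => (Cert rels S Gen.d)) lc_d_rc_24_0 lc_d_rc_18_3 lc_d_rc_25_2 lc_d_rc_28_2 lc_d_rc_26_2 lc_d_rc_29_2 lc_d_rc_29_2 lc_d_Cert_tree lc_d_rc_29_2 lc_d_Cert_tree lc_d_rc_24_0 lc_d_rc_25_2 lc_d_rc_11_1 lc_d_rc_24_0 lc_d_rc_18_3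 lc_d_rc_25_2 lc_d_rc_29_2 lc_d_rc_29_2 lc_d_Cert_tree lc_d_Cert_tree lc_d_rc_24_0 lc_d_Cert_tree lc_d_rc_24_0 lc_d_rc_18_3 lc_d_rc_25_2 lc_d_rc_11_1 lc_d_Cert_tree lc_d_rc_26_4 lc_d_rc_11_1 lc_d_rc_24_0 lc_d_rc_24_0 lc_d_rc_28_2) (@D3.rec (fun _ => (Cert rels S Gen.d)) lc_d_rc_3_1 lc_d_Cert_tree lc_d_rc_11_1 lc_d_Cert_tree lc_d_rc_24_0 lc_d_rc_3_1 lc_d_rc_24_0 lc_d_rc_18_3 lc_d_rc_11_1 lc_d_rc_27_2 lc_d_rc_28_2 lc_d_Cert_tree lc_d_rc_24_0 lc_d_rc_11_1 lc_d_rc_24_0 lc_d_rc_18_3 lc_d_rc_25_2 lc_d_rc_25_2 lc_d_Cert_tree lc_d_rc_27_2 lc_d_rc_25_2 lc_d_rc_26_2 lc_d_rc_24_0 lc_d_rc_27_2 lc_d_rc_24_1 lc_d_rc_27_2 lc_d_rc_26_2 lc_d_rc_28_2 lc_d_rc_27_2 lc_d_rc_26_2 lc_d_rc_28_2 lc_d_rc_25_2) (@D3.rec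 (fun _ => (Cert rels S Gen.d)) lc_d_rc_28_2 lc_d_rc_26_2 lc_d_rc_29_2 lc_d_rc_29_2 lc_d_Cert_tree lc_d_rc_46_38 lc_d_Cert_tree lc_d_rc_24_0 lc_d_rc_25_2 lc_d_rc_46_45 lc_d_rc_25_2 lc_d_rc_29_2 lc_d_rc_18_1 lc_d_rc_25_2 lc_d_rc_26_2 lc_d_rc_26_2 lc_d_rc_29_2 lc_d_rc_18_1 lc_d_rc_25_2 lc_d_rc_26_2 lc_d_rc_24_0 lc_d_rc_27_2 lc_d_rc_29_2 lc_d_rc_26_2 lc_d_rc_28_2 lc_d_rc_27_2 lc_d_Cert_tree lc_d_rc_27_2 lc_d_rc_26_2 lc_d_rc_29_2 lc_d_rc_28_2 lc_d_rc_29_2) (@D3.rec (fun _ => (Cert rels S Gen.d)) lc_d_rc_28_2 lc_d_rc_25_2 lc_d_rc_28_2 lc_d_rc_26_2 lc_d_rc_29_2 lc_d_rc_11_1 lc_d_rc_28_2 lc_d_rc_26_2 lc_d_rc_29_2 lc_d_rc_25_2 lc_d_rc_29_2 lc_d_rc_29_2 lc_d_rc_26_4 lc_d_Cert_tree lc_d_rc_24_0 lc_d_Cert_tree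 lc_d_rc_24_0 lc_d_rc_18_3 lc_d_rc_25_2 lc_d_rc_18_3 lc_d_rc_11_1 lc_d_rc_24_0 lc_d_rc_27_2 lc_d_rc_25_2 lc_d_rc_26_2 lc_d_rc_26_2 lc_d_Cert_tree lc_d_Cert_tree lc_d_rc_28_2 lc_d_Cert_tree lc_d_rc_24_0 lc_d_rc_25_2) (@D3.rec (fun _ => (Cert rels S Gen.d)) lc_d_rc_29_2 lc_d_rc_29_2 lc_d_Cert_tree lc_d_Cert_tree lc_d_rc_24_0 lc_d_Cert_tree lc_d_rc_24_0 lc_d_rc_18_3 lc_d_rc_25_2 lc_d_rc_18_3 lc_d_rc_11_1 lc_d_rc_25_2 lc_d_rc_28_2 lc_d_rc_24_0 lc_d_rc_24_0 lc_d_rc_11_1 lc_d_rc_18_3 lc_d_rc_25_2 lc_d_rc_29_2 lc_d_rc_11_1 lc_d_Cert_tree lc_d_rc_18_3 lc_d_rc_25_2 lc_d_rc_3_1 lc_d_Cert_tree lc_d_rc_11_1 lc_d_rc_24_0 lc_d_rc_27_2 lc_d_rc_29_2 lc_d_Cert_tree lc_d_rc_27_2 lc_d_Cert_tree) (@D3.rec (fun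 _ => (Cert rels S Gen.d)) lc_d_rc_27_2 lc_d_rc_26_2 lc_d_rc_29_2 lc_d_rc_28_2 lc_d_rc_29_2 lc_d_Cert_tree lc_d_rc_24_0 lc_d_rc_11_1 lc_d_Cert_tree lc_d_rc_24_0 lc_d_rc_25_2 lc_d_rc_28_2 lc_d_rc_26_2 lc_d_rc_29_2 lc_d_rc_29_2 lc_d_rc_46_10 lc_d_rc_24_1 lc_d_rc_24_0 lc_d_rc_11_1 lc_d_Cert_tree lc_d_Cert_tree lc_d_rc_11_1 lc_d_Cert_tree lc_d_Cert_tree lc_d_rc_24_0 lc_d_Cert_tree lc_d_rc_24_0 lc_d_rc_25_2 lc_d_rc_24_0 lc_d_rc_18_3 lc_d_rc_24_0 lc_d_rc_25_2)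
def ce_d_11 : D2 → D3 → (Cert rels S Gen.d) := @D2.rec (fun _ => D3 → (Cert rels S Gen.d)) (@D3.rec (fun _ => (Cert rels S Gen.d)) lc_d_rc_24_0 lc_d_rc_24_0 lc_d_rc_24_0 lc_d_rc_25_2 lc_d_rc_24_0 lc_d_rc_18_3 lc_d_rc_11_1 lc_d_Cert_tree lc_d_rc_18_3 lc_d_rc_27_2 lc_d_rc_25_2 lc_d_rc_26_2 lc_d_rc_24_0 lc_d_rc_27_2 lc_d_rc_29_2 lc_d_Cert_tree lc_d_rc_27_2 lc_d_Cert_tree lc_d_rc_27_2 lc_d_rc_26_2 lc_d_rc_29_2 lc_d_rc_28_2 lc_d_rc_29_2 lc_d_Cert_tree lc_d_rc_24_0 lc_d_rc_28_2 lc_d_Cert_tree lc_d_rc_24_0 lc_d_rc_25_2 lc_d_rc_28_2 lc_d_rc_26_2 lc_d_rc_29_2) (@D3.rec (fun _ => (Cert rels S Gen.d)) lc_d_rc_29_2 lc_d_Cert_tree lc_d_rc_29_2 lc_d_Cert_tree lc_d_rc_24_0 lc_d_rc_25_2 lc_d_Cert_tree lc_d_rc_24_0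 lc_d_rc_18_3 lc_d_rc_25_2 lc_d_rc_29_2 lc_d_rc_29_2 lc_d_rc_25_0 lc_d_Cert_tree lc_d_rc_24_0 lc_d_rc_24_0 lc_d_rc_26_2 lc_d_rc_25_2 lc_d_Cert_tree lc_d_rc_24_0 lc_d_Cert_tree lc_d_rc_24_0 lc_d_rc_26_2 lc_d_rc_24_0 lc_d_rc_18_3 lc_d_rc_25_2 lc_d_rc_11_1 lc_d_rc_11_1 lc_d_rc_24_0 lc_d_rc_24_0 lc_d_rc_18_3 lc_d_rc_25_2) (@D3.rec (fun _ => (Cert rels S Gen.d)) lc_d_rc_26_2 lc_d_rc_3_1 lc_d_rc_28_2 lc_d_rc_27_2 lc_d_Cert_tree lc_d_rc_25_2 lc_d_rc_29_2 lc_d_rc_29_2 lc_d_Cert_tree lc_d_Cert_tree lc_d_rc_24_0 lc_d_Cert_tree lc_d_rc_24_0 lc_d_rc_18_3 lc_d_rc_25_2 lc_d_rc_24_0 lc_d_rc_18_3 lc_d_rc_25_2 lc_d_rc_11_1 lc_d_Cert_tree lc_d_Cert_tree lc_d_rc_27_2 lc_d_rc_24_0 lc_d_rc_24_0 lc_d_rc_18_3 lc_d_rc_25_2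 lc_d_rc_11_1 lc_d_rc_3_1 lc_d_rc_11_1 lc_d_rc_26_2 lc_d_rc_28_2 lc_d_rc_11_1) (@D3.rec (fun _ => (Cert rels S Gen.d)) lc_d_rc_3_1 lc_d_rc_11_1 lc_d_rc_26_2 lc_d_rc_18_3 lc_d_rc_25_2 lc_d_rc_29_2 lc_d_rc_24_0 lc_d_rc_29_2 lc_d_rc_25_0 lc_d_rc_25_2 lc_d_rc_29_2 lc_d_rc_11_1 lc_d_Cert_tree lc_d_rc_18_3 lc_d_rc_26_2 lc_d_rc_25_2 lc_d_rc_3_1 lc_d_rc_28_2 lc_d_rc_25_2 lc_d_rc_29_2 lc_d_rc_11_1 lc_d_rc_25_2 lc_d_rc_29_2 lc_d_rc_25_2 lc_d_rc_26_2 lc_d_rc_3_1 lc_d_Cert_tree lc_d_rc_11_1 lc_d_rc_24_0 lc_d_rc_27_2 lc_d_rc_29_2 lc_d_Cert_tree) (@D3.rec (fun _ => (Cert rels S Gen.d)) lc_d_rc_28_2 lc_d_rc_27_2 lc_d_Cert_tree lc_d_Cert_tree lc_d_rc_27_2 lc_d_rc_26_2 lc_d_rc_29_2 lc_d_rc_28_2 lc_d_rc_29_2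 lc_d_Cert_tree lc_d_rc_28_2 lc_d_Cert_tree lc_d_rc_24_0 lc_d_rc_25_2 lc_d_rc_28_2 lc_d_rc_28_2 lc_d_rc_28_2 lc_d_rc_29_2 lc_d_rc_11_1 lc_d_rc_3_1 lc_d_rc_25_2 lc_d_rc_26_2 lc_d_rc_3_1 lc_d_rc_28_2 lc_d_rc_11_1 lc_d_rc_29_2 lc_d_Cert_tree lc_d_rc_27_2 lc_d_Cert_tree lc_d_rc_11_1 lc_d_rc_18_3 lc_d_rc_25_2) (@D3.rec (fun _ => (Cert rels S Gen.d)) lc_d_rc_26_2 lc_d_rc_3_1 lc_d_rc_11_1 lc_d_Cert_tree lc_d_Cert_tree lc_d_rc_46_45 lc_d_rc_3_1 lc_d_rc_11_1 lc_d_rc_29_2 lc_d_Cert_tree lc_d_rc_18_3 lc_d_rc_18_5 lc_d_rc_24_0 lc_d_rc_28_2 lc_d_Cert_tree lc_d_rc_24_0 lc_d_rc_24_0 lc_d_rc_24_0 lc_d_rc_24_0 lc_d_rc_25_2 lc_d_rc_11_1 lc_d_rc_3_1 lc_d_Cert_tree lc_d_rc_24_0 lc_d_Cert_tree lc_d_rc_24_0 lc_d_rc_25_2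 lc_d_rc_29_2 lc_d_Cert_tree lc_d_Cert_tree lc_d_rc_3_1 lc_d_Cert_tree) (@D3.rec (fun _ => (Cert rels S Gen.d)) lc_d_rc_24_0 lc_d_rc_24_0 lc_d_Cert_tree lc_d_rc_24_0 lc_d_rc_25_2 lc_d_Cert_tree lc_d_rc_3_1 lc_d_Cert_tree lc_d_rc_24_0 lc_d_rc_24_0 lc_d_rc_3_1 lc_d_Cert_tree lc_d_rc_18_1 lc_d_rc_24_0 lc_d_rc_25_4 lc_d_rc_25_2 lc_d_rc_18_3 lc_d_rc_24_0 lc_d_rc_45_27 lc_d_rc_25_2 lc_d_rc_18_3 lc_d_rc_24_0 lc_d_rc_24_0 lc_d_rc_29_2 lc_d_rc_18_3 lc_d_rc_29_2 lc_d_rc_11_1 lc_d_Cert_tree lc_d_rc_18_3 lc_d_rc_27_2 lc_d_rc_25_2 lc_d_rc_26_2) (@D3.rec (fun _ => (Cert rels S Gen.d)) lc_d_rc_25_4 lc_d_rc_27_2 lc_d_rc_29_2 lc_d_rc_11_1 lc_d_Cert_tree lc_d_rc_18_3 lc_d_rc_25_2 lc_d_rc_26_2 lc_d_rc_3_1 lc_d_Cert_tree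 lc_d_rc_11_1 lc_d_rc_24_0 lc_d_rc_27_2 lc_d_rc_29_2 lc_d_Cert_tree lc_d_rc_26_2 lc_d_rc_27_2 lc_d_Cert_tree lc_d_Cert_tree lc_d_rc_3_3 lc_d_rc_25_2 lc_d_rc_26_2 lc_d_rc_28_2 lc_d_Cert_tree lc_d_rc_3_3 lc_d_rc_24_0 lc_d_rc_27_2 lc_d_rc_29_2 lc_d_Cert_tree lc_d_rc_28_2 lc_d_rc_27_2 lc_d_Cert_tree) (@D3.rec (fun _ => (Cert rels S Gen.d)) lc_d_Cert_tree lc_d_rc_29_2 lc_d_rc_24_0 lc_d_rc_27_2 lc_d_rc_29_2 lc_d_Cert_tree lc_d_rc_27_2 lc_d_rc_26_2 lc_d_rc_29_2 lc_d_rc_28_2 lc_d_rc_29_2 lc_d_Cert_tree lc_d_rc_24_0 lc_d_rc_28_2 lc_d_Cert_tree lc_d_rc_24_0 lc_d_rc_27_2 lc_d_rc_29_2 lc_d_rc_28_2 lc_d_rc_29_2 lc_d_Cert_tree lc_d_rc_28_2 lc_d_Cert_tree lc_d_rc_24_0 lc_d_rc_25_2 lc_d_rc_28_2 lc_d_rc_26_2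 lc_d_rc_29_2 lc_d_rc_29_2 lc_d_Cert_tree lc_d_rc_29_2 lc_d_Cert_tree) (@D3.rec (fun _ => (Cert rels S Gen.d)) lc_d_rc_24_0 lc_d_rc_25_2 lc_d_rc_25_2 lc_d_rc_24_0 lc_d_rc_18_3 lc_d_rc_25_2 lc_d_rc_29_2 lc_d_rc_47_9 lc_d_rc_26_2 lc_d_rc_11_1 lc_d_rc_29_2 lc_d_Cert_tree lc_d_rc_3_1 lc_d_rc_28_2 lc_d_rc_29_2 lc_d_rc_26_2 lc_d_rc_28_2 lc_d_Cert_tree lc_d_rc_28_2 lc_d_Cert_tree lc_d_rc_24_0 lc_d_Cert_tree lc_d_rc_3_1 lc_d_rc_25_2 lc_d_rc_26_2 lc_d_Cert_tree lc_d_rc_28_2 lc_d_Cert_tree lc_d_rc_24_0 lc_d_rc_3_1 lc_d_rc_3_1 lc_d_rc_26_2) (@D3.rec (fun _ => (Cert rels S Gen.d)) lc_d_rc_25_2 lc_d_rc_25_2 lc_d_Cert_tree lc_d_rc_18_3 lc_d_Cert_tree lc_d_rc_24_0 lc_d_rc_25_2 lc_d_rc_24_0 lc_d_rc_18_3 lc_d_rc_24_0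 lc_d_rc_18_3 lc_d_rc_18_3 lc_d_rc_11_1 lc_d_rc_24_0 lc_d_rc_26_2 lc_d_rc_11_1 lc_d_rc_24_0 lc_d_rc_25_2 lc_d_rc_24_0 lc_d_rc_28_0 lc_d_rc_24_0 lc_d_rc_26_2 lc_d_rc_24_0 lc_d_rc_26_2 lc_d_rc_24_0 lc_d_rc_18_3 lc_d_rc_3_1 lc_d_Cert_tree lc_d_rc_24_1 lc_d_rc_24_0 lc_d_Cert_tree lc_d_rc_24_0) (@D3.rec (fun _ => (Cert rels S Gen.d)) lc_d_rc_18_3 lc_d_rc_27_2 lc_d_rc_11_1 lc_d_rc_18_3 lc_d_rc_25_2 lc_d_rc_3_1 lc_d_rc_29_2 lc_d_rc_11_1 lc_d_rc_25_4 lc_d_rc_18_3 lc_d_rc_27_2 lc_d_rc_25_2 lc_d_rc_26_2 lc_d_rc_3_1 lc_d_rc_26_2 lc_d_rc_11_1 lc_d_rc_28_0 lc_d_rc_26_2 lc_d_rc_28_2 lc_d_rc_27_2 lc_d_Cert_tree lc_d_rc_11_1 lc_d_rc_3_1 lc_d_rc_24_0 lc_d_rc_26_2 lc_d_rc_25_4 lc_d_rc_11_1 lc_d_rc_18_3 lc_d_rc_29_2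 lc_d_rc_18_3 lc_d_rc_11_1 lc_d_rc_11_1) (@D3.rec (fun _ => (Cert rels S Gen.d)) lc_d_rc_29_2 lc_d_rc_11_1 lc_d_rc_3_1 lc_d_rc_11_1 lc_d_rc_24_0 lc_d_rc_29_2 lc_d_Cert_tree lc_d_rc_29_2 lc_d_rc_29_2 lc_d_rc_25_2 lc_d_rc_11_1 lc_d_Cert_tree lc_d_rc_3_1 lc_d_Cert_tree lc_d_rc_24_0 lc_d_Cert_tree lc_d_rc_24_0 lc_d_Cert_tree lc_d_rc_24_0 lc_d_rc_25_2 lc_d_rc_24_0 lc_d_Cert_tree lc_d_rc_24_0 lc_d_rc_24_0 lc_d_rc_24_0 lc_d_rc_29_2 lc_d_rc_18_3 lc_d_rc_25_2 lc_d_rc_29_2 lc_d_rc_11_1 lc_d_Cert_tree lc_d_rc_18_3) (@D3.rec (fun _ => (Cert rels S Gen.d)) lc_d_rc_27_2 lc_d_rc_25_2 lc_d_rc_26_2 lc_d_rc_27_2 lc_d_rc_29_2 lc_d_rc_11_1 lc_d_rc_18_3 lc_d_rc_28_2 lc_d_rc_3_1 lc_d_Cert_tree lc_d_rc_11_1 lc_d_rc_24_0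 lc_d_rc_27_2 lc_d_rc_29_2 lc_d_Cert_tree lc_d_rc_11_1 lc_d_rc_25_4 lc_d_Cert_tree lc_d_rc_29_2 lc_d_rc_25_2 lc_d_rc_26_2 lc_d_Cert_tree lc_d_rc_29_2 lc_d_rc_24_0 lc_d_rc_27_2 lc_d_rc_29_2 lc_d_Cert_tree lc_d_rc_27_2 lc_d_rc_24_0 lc_d_Cert_tree lc_d_rc_29_2 lc_d_rc_24_0) (@D3.rec (fun _ => (Cert rels S Gen.d)) lc_d_rc_27_2 lc_d_rc_29_2 lc_d_Cert_tree lc_d_rc_27_2 lc_d_rc_26_2 lc_d_rc_29_2 lc_d_rc_28_2 lc_d_rc_29_2 lc_d_Cert_tree lc_d_rc_24_0 lc_d_rc_28_2 lc_d_Cert_tree lc_d_rc_24_0 lc_d_rc_27_2 lc_d_rc_26_2 lc_d_rc_29_2 lc_d_rc_28_2 lc_d_rc_29_2 lc_d_rc_29_2 lc_d_rc_25_2 lc_d_rc_28_2 lc_d_rc_26_2 lc_d_rc_29_2 lc_d_rc_29_2 lc_d_Cert_tree lc_d_rc_29_2 lc_d_Cert_tree lc_d_rc_24_0 lc_d_rc_25_2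 lc_d_rc_3_1 lc_d_rc_24_0 lc_d_rc_18_3) (@D3.rec (fun _ => (Cert rels S Gen.d)) lc_d_rc_25_2 lc_d_rc_29_2 lc_d_rc_25_0 lc_d_rc_3_1 lc_d_rc_11_1 lc_d_Cert_tree lc_d_rc_3_1 lc_d_rc_27_0 lc_d_Cert_tree lc_d_rc_26_2 lc_d_rc_24_0 lc_d_rc_3_1 lc_d_Cert_tree lc_d_rc_11_1 lc_d_Cert_tree lc_d_Cert_tree lc_d_rc_24_0 lc_d_rc_24_0 lc_d_rc_3_1 lc_d_Cert_tree lc_d_rc_11_1 lc_d_Cert_tree lc_d_rc_24_0 lc_d_Cert_tree lc_d_rc_24_0 lc_d_rc_28_0 lc_d_rc_18_1 lc_d_rc_24_0 lc_d_rc_24_0 lc_d_rc_25_2 lc_d_rc_24_0 lc_d_rc_18_3) (@D3.rec (fun _ => (Cert rels S Gen.d)) lc_d_rc_11_1 lc_d_rc_24_0 lc_d_Cert_tree lc_d_rc_24_0 lc_d_rc_24_0 lc_d_rc_24_0 lc_d_rc_25_2 lc_d_Cert_tree lc_d_rc_24_0 lc_d_rc_24_0 lc_d_rc_24_0 lc_d_rc_11_1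 lc_d_rc_26_0 lc_d_rc_18_3 lc_d_rc_25_2 lc_d_rc_26_2 lc_d_rc_11_1 lc_d_Cert_tree lc_d_Cert_tree lc_d_rc_24_0 lc_d_rc_27_2 lc_d_rc_29_2 lc_d_Cert_tree lc_d_rc_27_2 lc_d_rc_25_0 lc_d_rc_29_2 lc_d_rc_29_2 lc_d_Cert_tree lc_d_rc_24_0 lc_d_rc_28_2 lc_d_rc_25_2 lc_d_rc_26_2) (@D3.rec (fun _ => (Cert rels S Gen.d)) lc_d_rc_29_2 lc_d_rc_29_2 lc_d_rc_26_2 lc_d_rc_29_2 lc_d_rc_25_2 lc_d_rc_3_1 lc_d_rc_25_2 lc_d_rc_25_2 lc_d_rc_29_2 lc_d_rc_25_0 lc_d_rc_29_2 lc_d_rc_11_1 lc_d_Cert_tree lc_d_Cert_tree lc_d_rc_24_0 lc_d_rc_24_0 lc_d_rc_29_2 lc_d_Cert_tree lc_d_rc_18_3 lc_d_rc_25_2 lc_d_rc_26_2 lc_d_rc_3_1 lc_d_Cert_tree lc_d_rc_11_1 lc_d_rc_24_0 lc_d_rc_27_2 lc_d_rc_29_2 lc_d_Cert_tree lc_d_rc_28_2 lc_d_rc_27_2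 lc_d_Cert_tree lc_d_rc_24_0) (@D3.rec (fun _ => (Cert rels S Gen.d)) lc_d_rc_27_2 lc_d_Cert_tree lc_d_Cert_tree lc_d_rc_3_1 lc_d_rc_24_0 lc_d_rc_27_2 lc_d_rc_29_2 lc_d_Cert_tree lc_d_rc_27_2 lc_d_rc_26_2 lc_d_rc_29_2 lc_d_rc_28_2 lc_d_rc_29_2 lc_d_Cert_tree lc_d_rc_24_0 lc_d_rc_28_2 lc_d_rc_24_1 lc_d_rc_27_2 lc_d_rc_26_2 lc_d_rc_29_2 lc_d_rc_28_2 lc_d_rc_29_2 lc_d_Cert_tree lc_d_rc_24_0 lc_d_rc_28_2 lc_d_rc_11_1 lc_d_rc_24_0 lc_d_rc_27_2 lc_d_rc_29_2 lc_d_Cert_tree lc_d_rc_27_2 lc_d_rc_11_1) (@D3.rec (fun _ => (Cert rels S Gen.d)) lc_d_rc_29_2 lc_d_rc_28_2 lc_d_rc_29_2 lc_d_Cert_tree lc_d_rc_24_0 lc_d_rc_25_2 lc_d_rc_28_2 lc_d_rc_26_2 lc_d_rc_29_2 lc_d_rc_29_2 lc_d_Cert_tree lc_d_rc_29_2 lc_d_Cert_tree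 lc_d_rc_24_0 lc_d_rc_25_2 lc_d_rc_24_1 lc_d_rc_24_0 lc_d_rc_18_3 lc_d_rc_11_1 lc_d_rc_28_2 lc_d_rc_26_2 lc_d_rc_29_2 lc_d_rc_29_2 lc_d_Cert_tree lc_d_rc_29_2 lc_d_Cert_tree lc_d_rc_24_0 lc_d_rc_25_2 lc_d_rc_26_4 lc_d_rc_25_2 lc_d_rc_29_2 lc_d_rc_29_2) (@D3.rec (fun _ => (Cert rels S Gen.d)) lc_d_Cert_tree lc_d_Cert_tree lc_d_rc_24_0 lc_d_Cert_tree lc_d_rc_24_0 lc_d_rc_18_3 lc_d_rc_25_2 lc_d_rc_18_3 lc_d_rc_11_1 lc_d_Cert_tree lc_d_rc_26_4 lc_d_rc_24_0 lc_d_rc_3_1 lc_d_rc_26_2 lc_d_rc_27_2 lc_d_Cert_tree lc_d_Cert_tree lc_d_rc_24_0 lc_d_rc_24_1 lc_d_rc_25_0 lc_d_rc_3_1 lc_d_Cert_tree lc_d_rc_11_1 lc_d_Cert_tree lc_d_rc_24_0 lc_d_rc_3_1 lc_d_rc_24_0 lc_d_rc_18_3 lc_d_rc_11_1 lc_d_Cert_tree lc_d_rc_24_0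 lc_d_rc_24_0) (@D3.rec (fun _ => (Cert rels S Gen.d)) lc_d_Cert_tree lc_d_rc_24_0 lc_d_rc_24_0 lc_d_rc_25_2 lc_d_rc_27_2 lc_d_rc_25_2 lc_d_rc_26_2 lc_d_rc_28_2 lc_d_Cert_tree lc_d_Cert_tree lc_d_rc_3_1 lc_d_rc_3_1 lc_d_rc_27_2 lc_d_rc_25_2 lc_d_rc_26_2 lc_d_rc_28_2 lc_d_rc_27_2 lc_d_Cert_tree lc_d_rc_28_2 lc_d_Cert_tree lc_d_rc_24_0 lc_d_rc_27_2 lc_d_rc_3_1 lc_d_rc_29_2 lc_d_rc_28_2 lc_d_rc_29_2 lc_d_Cert_tree lc_d_rc_25_2 lc_d_rc_28_2 lc_d_rc_26_2 lc_d_rc_29_2 lc_d_rc_29_2)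
def ce_d_12 : D2 → D3 → (Cert rels S Gen.d) := @D2.rec (fun _ => D3 → (Cert rels S Gen.d)) (@D3.rec (fun _ => (Cert rels S Gen.d)) lc_d_Cert_tree lc_d_rc_29_2 lc_d_Cert_tree lc_d_rc_24_0 lc_d_rc_25_2 lc_d_rc_25_2 lc_d_rc_29_2 lc_d_rc_29_2 lc_d_Cert_tree lc_d_Cert_tree lc_d_rc_24_0 lc_d_Cert_tree lc_d_rc_24_0 lc_d_rc_18_3 lc_d_rc_25_2 lc_d_rc_27_2 lc_d_rc_11_1 lc_d_rc_25_2 lc_d_rc_29_2 lc_d_rc_29_2 lc_d_Cert_tree lc_d_Cert_tree lc_d_rc_24_0 lc_d_Cert_tree lc_d_rc_24_0 lc_d_rc_18_3 lc_d_rc_25_2 lc_d_rc_18_3 lc_d_rc_11_1 lc_d_Cert_tree lc_d_Cert_tree lc_d_rc_28_2) (@D3.rec (fun _ => (Cert rels S Gen.d)) lc_d_rc_24_0 lc_d_rc_24_0 lc_d_rc_26_2 lc_d_rc_25_2 lc_d_rc_24_0 lc_d_rc_11_1 lc_d_rc_24_0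 lc_d_rc_28_2 lc_d_Cert_tree lc_d_rc_24_0 lc_d_rc_24_1 lc_d_rc_24_0 lc_d_rc_18_3 lc_d_rc_25_2 lc_d_rc_11_1 lc_d_rc_3_1 lc_d_rc_24_0 lc_d_rc_24_0 lc_d_rc_27_2 lc_d_Cert_tree lc_d_rc_27_2 lc_d_rc_26_2 lc_d_rc_28_2 lc_d_rc_25_2 lc_d_rc_28_2 lc_d_rc_26_2 lc_d_rc_29_2 lc_d_rc_25_2 lc_d_rc_28_2 lc_d_rc_26_2 lc_d_rc_29_2 lc_d_rc_29_2) (@D3.rec (fun _ => (Cert rels S Gen.d)) lc_d_Cert_tree lc_d_rc_24_0 lc_d_rc_46_38 lc_d_rc_24_0 lc_d_rc_25_2 lc_d_Cert_tree lc_d_rc_29_2 lc_d_Cert_tree lc_d_rc_27_2 lc_d_rc_26_2 lc_d_rc_29_2 lc_d_rc_29_2 lc_d_Cert_tree lc_d_rc_28_2 lc_d_Cert_tree lc_d_rc_24_0 lc_d_rc_25_2 lc_d_rc_28_2 lc_d_rc_26_2 lc_d_rc_29_2 lc_d_rc_29_2 lc_d_rc_26_2 lc_d_rc_29_2 lc_d_rc_29_2 lc_d_rc_29_2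 lc_d_rc_27_2 lc_d_rc_24_0 lc_d_rc_3_1 lc_d_rc_24_0 lc_d_rc_18_3 lc_d_rc_11_1 lc_d_rc_47_23) (@D3.rec (fun _ => (Cert rels S Gen.d)) lc_d_rc_27_2 lc_d_Cert_tree lc_d_rc_24_0 lc_d_rc_24_0 lc_d_rc_24_0 lc_d_rc_18_3 lc_d_rc_28_2 lc_d_rc_26_4 lc_d_Cert_tree lc_d_rc_24_0 lc_d_rc_24_0 lc_d_rc_24_0 lc_d_rc_18_3 lc_d_rc_25_2 lc_d_rc_11_1 lc_d_rc_11_1 lc_d_Cert_tree lc_d_rc_18_3 lc_d_rc_27_2 lc_d_rc_25_2 lc_d_rc_3_1 lc_d_rc_11_1 lc_d_rc_24_0 lc_d_rc_29_2 lc_d_Cert_tree lc_d_Cert_tree lc_d_rc_24_0 lc_d_rc_29_2 lc_d_Cert_tree lc_d_rc_27_2 lc_d_rc_26_2 lc_d_rc_29_2) (@D3.rec (fun _ => (Cert rels S Gen.d)) lc_d_rc_29_2 lc_d_Cert_tree lc_d_rc_24_0 lc_d_Cert_tree lc_d_rc_24_0 lc_d_rc_25_2 lc_d_rc_28_2 lc_d_rc_26_2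 lc_d_rc_29_2 lc_d_rc_29_2 lc_d_Cert_tree lc_d_rc_29_2 lc_d_Cert_tree lc_d_rc_24_0 lc_d_rc_25_2 lc_d_rc_25_2 lc_d_rc_24_0 lc_d_rc_18_3 lc_d_rc_25_2 lc_d_rc_29_2 lc_d_rc_46_24 lc_d_Cert_tree lc_d_rc_24_0 lc_d_rc_24_0 lc_d_Cert_tree lc_d_rc_24_0 lc_d_rc_24_0 lc_d_rc_25_2 lc_d_rc_24_0 lc_d_rc_18_3 lc_d_rc_11_1 lc_d_rc_18_3) (@D3.rec (fun _ => (Cert rels S Gen.d)) lc_d_rc_11_1 lc_d_rc_27_2 lc_d_rc_25_2 lc_d_rc_18_3 lc_d_rc_18_3 lc_d_rc_25_2 lc_d_rc_45_24 lc_d_rc_24_0 lc_d_rc_27_2 lc_d_rc_29_2 lc_d_Cert_tree lc_d_rc_28_2 lc_d_rc_27_2 lc_d_Cert_tree lc_d_rc_27_2 lc_d_rc_26_2 lc_d_rc_29_2 lc_d_rc_29_2 lc_d_Cert_tree lc_d_rc_24_0 lc_d_Cert_tree lc_d_rc_24_0 lc_d_rc_25_2 lc_d_rc_28_2 lc_d_rc_26_2 lc_d_rc_29_2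 lc_d_rc_29_2 lc_d_Cert_tree lc_d_rc_29_2 lc_d_Cert_tree lc_d_rc_24_0 lc_d_rc_25_2) (@D3.rec (fun _ => (Cert rels S Gen.d)) lc_d_Cert_tree lc_d_rc_24_0 lc_d_rc_18_3 lc_d_rc_25_2 lc_d_rc_29_2 lc_d_rc_29_2 lc_d_Cert_tree lc_d_Cert_tree lc_d_rc_24_0 lc_d_Cert_tree lc_d_rc_24_0 lc_d_rc_18_3 lc_d_rc_25_2 lc_d_rc_24_0 lc_d_rc_18_3 lc_d_rc_25_2 lc_d_rc_11_1 lc_d_Cert_tree lc_d_rc_29_2 lc_d_rc_24_0 lc_d_rc_25_2 lc_d_rc_28_2 lc_d_Cert_tree lc_d_rc_24_0 lc_d_rc_24_0 lc_d_rc_18_3 lc_d_rc_25_2 lc_d_rc_3_3 lc_d_rc_11_1 lc_d_rc_3_1 lc_d_rc_26_2 lc_d_rc_28_2) (@D3.rec (fun _ => (Cert rels S Gen.d)) lc_d_Cert_tree lc_d_rc_24_0 lc_d_Cert_tree lc_d_Cert_tree lc_d_Cert_tree lc_d_rc_24_0 lc_d_rc_24_0 lc_d_rc_18_3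 lc_d_rc_25_2 lc_d_rc_24_0 lc_d_rc_18_3 lc_d_rc_25_2 lc_d_rc_11_1 lc_d_rc_18_3 lc_d_rc_11_1 lc_d_rc_3_1 lc_d_rc_24_0 lc_d_rc_24_0 lc_d_rc_11_1 lc_d_Cert_tree lc_d_rc_18_3 lc_d_rc_27_2 lc_d_rc_25_2 lc_d_rc_3_1 lc_d_rc_25_4 lc_d_rc_29_2 lc_d_rc_25_4 lc_d_Cert_tree lc_d_rc_25_0 lc_d_rc_25_2 lc_d_rc_26_2 lc_d_rc_3_1) (@D3.rec (fun _ => (Cert rels S Gen.d)) lc_d_Cert_tree lc_d_rc_11_1 lc_d_rc_24_0 lc_d_rc_27_2 lc_d_rc_29_2 lc_d_Cert_tree lc_d_rc_27_2 lc_d_Cert_tree lc_d_rc_11_1 lc_d_rc_25_2 lc_d_rc_29_2 lc_d_rc_25_2 lc_d_rc_26_2 lc_d_rc_28_2 lc_d_rc_11_1 lc_d_rc_29_2 lc_d_Cert_tree lc_d_Cert_tree lc_d_Cert_tree lc_d_rc_3_1 lc_d_rc_24_0 lc_d_rc_27_2 lc_d_rc_29_2 lc_d_Cert_tree lc_d_rc_27_2 lc_d_rc_26_2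 lc_d_rc_29_2 lc_d_rc_28_2 lc_d_rc_29_2 lc_d_Cert_tree lc_d_rc_24_0 lc_d_rc_28_2) (@D3.rec (fun _ => (Cert rels S Gen.d)) lc_d_Cert_tree lc_d_rc_24_0 lc_d_rc_24_0 lc_d_rc_25_2 lc_d_rc_28_2 lc_d_rc_26_2 lc_d_rc_29_2 lc_d_rc_29_2 lc_d_Cert_tree lc_d_rc_29_2 lc_d_rc_24_0 lc_d_rc_24_0 lc_d_rc_18_3 lc_d_rc_26_2 lc_d_rc_11_1 lc_d_Cert_tree lc_d_Cert_tree lc_d_rc_3_1 lc_d_rc_3_1 lc_d_Cert_tree lc_d_rc_18_5 lc_d_rc_24_0 lc_d_Cert_tree lc_d_rc_24_0 lc_d_rc_11_1 lc_d_rc_25_2 lc_d_Cert_tree lc_d_rc_3_1 lc_d_Cert_tree lc_d_rc_24_0 lc_d_rc_24_0 lc_d_rc_3_1) (@D3.rec (fun _ => (Cert rels S Gen.d)) lc_d_Cert_tree lc_d_rc_26_2 lc_d_rc_11_1 lc_d_rc_24_0 lc_d_rc_25_4 lc_d_rc_25_2 lc_d_rc_24_0 lc_d_rc_24_0 lc_d_rc_18_3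 lc_d_rc_25_2 lc_d_rc_11_1 lc_d_rc_24_0 lc_d_rc_24_0 lc_d_rc_11_1 lc_d_rc_25_2 lc_d_rc_24_0 lc_d_rc_24_0 lc_d_Cert_tree lc_d_rc_24_0 lc_d_rc_25_2 lc_d_rc_24_0 lc_d_rc_45_27 lc_d_rc_24_0 lc_d_rc_25_2 lc_d_rc_24_0 lc_d_rc_18_1 lc_d_rc_24_0 lc_d_rc_18_1 lc_d_rc_45_63 lc_d_rc_27_2 lc_d_rc_29_2 lc_d_rc_11_1) (@D3.rec (fun _ => (Cert rels S Gen.d)) lc_d_rc_18_3 lc_d_rc_26_2 lc_d_rc_3_1 lc_d_Cert_tree lc_d_rc_11_1 lc_d_rc_24_0 lc_d_rc_27_2 lc_d_rc_29_2 lc_d_Cert_tree lc_d_rc_28_2 lc_d_rc_27_2 lc_d_Cert_tree lc_d_rc_27_2 lc_d_rc_26_2 lc_d_rc_11_1 lc_d_rc_24_0 lc_d_rc_29_2 lc_d_Cert_tree lc_d_Cert_tree lc_d_rc_3_1 lc_d_rc_24_0 lc_d_rc_27_2 lc_d_rc_29_2 lc_d_Cert_tree lc_d_rc_27_2 lc_d_rc_26_2 lc_d_rc_29_2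 lc_d_rc_28_2 lc_d_rc_29_2 lc_d_Cert_tree lc_d_rc_24_0 lc_d_rc_28_2) (@D3.rec (fun _ => (Cert rels S Gen.d)) lc_d_Cert_tree lc_d_rc_24_0 lc_d_rc_24_0 lc_d_rc_29_2 lc_d_Cert_tree lc_d_Cert_tree lc_d_rc_29_2 lc_d_rc_24_0 lc_d_rc_29_2 lc_d_Cert_tree lc_d_rc_27_2 lc_d_rc_29_2 lc_d_rc_28_2 lc_d_rc_29_2 lc_d_Cert_tree lc_d_rc_24_0 lc_d_rc_28_2 lc_d_Cert_tree lc_d_rc_24_0 lc_d_rc_24_0 lc_d_rc_27_2 lc_d_rc_29_2 lc_d_Cert_tree lc_d_rc_27_2 lc_d_rc_11_1 lc_d_rc_29_2 lc_d_rc_28_2 lc_d_rc_29_2 lc_d_Cert_tree lc_d_rc_24_0 lc_d_rc_25_2 lc_d_rc_28_2) (@D3.rec (fun _ => (Cert rels S Gen.d)) lc_d_rc_26_2 lc_d_rc_29_2 lc_d_rc_29_2 lc_d_Cert_tree lc_d_rc_29_2 lc_d_Cert_tree lc_d_rc_24_0 lc_d_rc_25_2 lc_d_rc_25_2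 lc_d_rc_24_0 lc_d_rc_18_3 lc_d_rc_28_2 lc_d_rc_29_2 lc_d_Cert_tree lc_d_rc_29_2 lc_d_Cert_tree lc_d_rc_24_0 lc_d_rc_24_0 lc_d_rc_18_3 lc_d_rc_25_2 lc_d_rc_29_2 lc_d_rc_29_2 lc_d_Cert_tree lc_d_Cert_tree lc_d_rc_24_0 lc_d_Cert_tree lc_d_rc_24_0 lc_d_rc_18_3 lc_d_rc_25_2 lc_d_rc_18_3 lc_d_rc_11_1 lc_d_rc_28_2) (@D3.rec (fun _ => (Cert rels S Gen.d)) lc_d_rc_24_0 lc_d_rc_26_2 lc_d_rc_28_2 lc_d_Cert_tree lc_d_rc_3_1 lc_d_rc_24_0 lc_d_rc_25_2 lc_d_rc_24_0 lc_d_rc_28_0 lc_d_rc_24_0 lc_d_rc_26_2 lc_d_Cert_tree lc_d_rc_24_0 lc_d_rc_26_2 lc_d_rc_24_0 lc_d_rc_18_3 lc_d_rc_3_1 lc_d_Cert_tree lc_d_rc_25_2 lc_d_Cert_tree lc_d_rc_24_0 lc_d_Cert_tree lc_d_rc_24_0 lc_d_rc_18_3 lc_d_rc_18_3 lc_d_rc_11_1 lc_d_rc_18_3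 lc_d_rc_25_2 lc_d_rc_11_1 lc_d_rc_11_1 lc_d_rc_3_1 lc_d_rc_26_2) (@D3.rec (fun _ => (Cert rels S Gen.d)) lc_d_rc_11_1 lc_d_rc_27_2 lc_d_rc_18_3 lc_d_rc_18_3 lc_d_rc_25_2 lc_d_rc_3_1 lc_d_rc_24_0 lc_d_rc_24_0 lc_d_rc_25_2 lc_d_rc_3_1 lc_d_rc_26_2 lc_d_rc_18_1 lc_d_rc_11_1 lc_d_rc_26_2 lc_d_rc_29_0 lc_d_rc_27_2 lc_d_Cert_tree lc_d_rc_25_2 lc_d_rc_3_1 lc_d_rc_27_0 lc_d_rc_26_2 lc_d_rc_28_0 lc_d_rc_28_2 lc_d_Cert_tree lc_d_rc_24_0 lc_d_rc_18_3 lc_d_rc_26_2 lc_d_Cert_tree lc_d_rc_11_1 lc_d_Cert_tree lc_d_rc_3_1 lc_d_Cert_tree) (@D3.rec (fun _ => (Cert rels S Gen.d)) lc_d_rc_29_2 lc_d_Cert_tree lc_d_rc_24_0 lc_d_rc_26_2 lc_d_Cert_tree lc_d_rc_24_0 lc_d_Cert_tree lc_d_rc_24_0 lc_d_rc_24_0 lc_d_rc_24_0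 lc_d_rc_11_1 lc_d_rc_25_2 lc_d_rc_24_0 lc_d_rc_27_2 lc_d_rc_29_2 lc_d_rc_11_1 lc_d_rc_24_0 lc_d_rc_18_3 lc_d_rc_29_2 lc_d_rc_26_2 lc_d_rc_3_1 lc_d_rc_28_2 lc_d_rc_11_1 lc_d_rc_24_0 lc_d_rc_18_3 lc_d_rc_29_2 lc_d_Cert_tree lc_d_rc_27_2 lc_d_Cert_tree lc_d_rc_27_2 lc_d_rc_28_0 lc_d_rc_11_1) (@D3.rec (fun _ => (Cert rels S Gen.d)) lc_d_Cert_tree lc_d_rc_3_1 lc_d_rc_24_0 lc_d_rc_29_2 lc_d_Cert_tree lc_d_rc_27_2 lc_d_rc_26_2 lc_d_rc_29_2 lc_d_rc_29_2 lc_d_Cert_tree lc_d_rc_24_0 lc_d_rc_24_0 lc_d_rc_24_0 lc_d_rc_29_2 lc_d_Cert_tree lc_d_Cert_tree lc_d_rc_24_0 lc_d_rc_29_2 lc_d_Cert_tree lc_d_rc_27_2 lc_d_rc_3_3 lc_d_rc_29_2 lc_d_rc_29_2 lc_d_Cert_tree lc_d_rc_24_0 lc_d_rc_11_1 lc_d_rc_24_0 lc_d_rc_29_2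 lc_d_Cert_tree lc_d_rc_27_2 lc_d_rc_28_2 lc_d_rc_29_2) (@D3.rec (fun _ => (Cert rels S Gen.d)) lc_d_rc_29_2 lc_d_Cert_tree lc_d_rc_24_0 lc_d_rc_25_2 lc_d_rc_28_2 lc_d_rc_26_2 lc_d_rc_29_2 lc_d_rc_29_2 lc_d_Cert_tree lc_d_rc_29_2 lc_d_Cert_tree lc_d_rc_24_0 lc_d_rc_25_2 lc_d_rc_26_4 lc_d_rc_24_0 lc_d_rc_18_3 lc_d_rc_25_2 lc_d_rc_28_2 lc_d_rc_26_2 lc_d_rc_29_2 lc_d_rc_29_2 lc_d_rc_26_2 lc_d_rc_29_2 lc_d_rc_25_2 lc_d_rc_29_2 lc_d_rc_29_2 lc_d_Cert_tree lc_d_Cert_tree lc_d_rc_24_0 lc_d_Cert_tree lc_d_rc_24_0 lc_d_rc_18_3) (@D3.rec (fun _ => (Cert rels S Gen.d)) lc_d_rc_25_2 lc_d_rc_18_3 lc_d_Cert_tree lc_d_rc_24_0 lc_d_Cert_tree lc_d_rc_3_3 lc_d_rc_24_0 lc_d_rc_24_0 lc_d_Cert_tree lc_d_rc_24_0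 lc_d_rc_24_0 lc_d_rc_26_4 lc_d_Cert_tree lc_d_rc_24_0 lc_d_Cert_tree lc_d_rc_24_0 lc_d_rc_18_3 lc_d_rc_45_66 lc_d_rc_24_0 lc_d_rc_18_3 lc_d_rc_11_1 lc_d_rc_18_3 lc_d_Cert_tree lc_d_rc_24_0 lc_d_rc_24_0 lc_d_rc_11_1 lc_d_rc_25_2 lc_d_Cert_tree lc_d_Cert_tree lc_d_Cert_tree lc_d_rc_24_0 lc_d_rc_24_0) (@D3.rec (fun _ => (Cert rels S Gen.d)) lc_d_rc_27_2 lc_d_rc_25_0 lc_d_rc_29_2 lc_d_rc_29_2 lc_d_Cert_tree lc_d_rc_24_0 lc_d_rc_25_2 lc_d_rc_25_2 lc_d_rc_29_2 lc_d_rc_25_0 lc_d_Cert_tree lc_d_Cert_tree lc_d_rc_24_0 lc_d_rc_25_2 lc_d_rc_47_23 lc_d_rc_25_2 lc_d_rc_29_2 lc_d_rc_26_2 lc_d_rc_26_2 lc_d_rc_29_2 lc_d_Cert_tree lc_d_rc_24_0 lc_d_rc_24_0 lc_d_rc_28_2 lc_d_rc_24_0 lc_d_rc_25_2 lc_d_Cert_tree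 lc_d_Cert_tree lc_d_Cert_tree lc_d_rc_3_1 lc_d_rc_24_0 lc_d_rc_27_2) (@D3.rec (fun _ => (Cert rels S Gen.d)) lc_d_rc_29_2 lc_d_Cert_tree lc_d_rc_27_2 lc_d_rc_25_2 lc_d_rc_29_2 lc_d_rc_46_31 lc_d_rc_29_2 lc_d_Cert_tree lc_d_rc_24_0 lc_d_rc_28_2 lc_d_Cert_tree lc_d_rc_24_0 lc_d_rc_27_2 lc_d_rc_26_2 lc_d_rc_24_0 lc_d_rc_24_0 lc_d_rc_29_2 lc_d_Cert_tree lc_d_rc_27_2 lc_d_rc_11_1 lc_d_rc_29_2 lc_d_rc_29_2 lc_d_Cert_tree lc_d_rc_24_0 lc_d_rc_25_2 lc_d_rc_28_2 lc_d_rc_26_2 lc_d_rc_29_2 lc_d_rc_29_2 lc_d_Cert_tree lc_d_rc_29_2 lc_d_Cert_tree)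
def ce_d_13 : D2 → D3 → (Cert rels S Gen.d) := @D2.rec (fun _ => D3 → (Cert rels S Gen.d)) (@D3.rec (fun _ => (Cert rels S Gen.d)) lc_d_rc_24_0 lc_d_rc_25_2 lc_d_rc_26_2 lc_d_rc_25_2 lc_d_rc_28_2 lc_d_rc_25_2 lc_d_rc_29_2 lc_d_rc_29_2 lc_d_Cert_tree lc_d_rc_29_2 lc_d_Cert_tree lc_d_rc_24_0 lc_d_rc_25_2 lc_d_rc_25_4 lc_d_rc_27_2 lc_d_rc_3_1 lc_d_rc_29_2 lc_d_rc_29_2 lc_d_Cert_tree lc_d_rc_24_0 lc_d_rc_11_1 lc_d_rc_28_2 lc_d_rc_11_1 lc_d_rc_29_2 lc_d_rc_11_1 lc_d_Cert_tree lc_d_rc_29_2 lc_d_Cert_tree lc_d_rc_24_0 lc_d_rc_25_2 lc_d_rc_25_2 lc_d_rc_29_2) (@D3.rec (fun _ => (Cert rels S Gen.d)) lc_d_rc_29_2 lc_d_Cert_tree lc_d_Cert_tree lc_d_rc_24_0 lc_d_Cert_tree lc_d_rc_24_0 lc_d_rc_18_3 lc_d_rc_25_2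 lc_d_rc_27_2 lc_d_rc_18_3 lc_d_rc_11_1 lc_d_rc_11_1 lc_d_rc_29_2 lc_d_rc_29_2 lc_d_Cert_tree lc_d_Cert_tree lc_d_rc_24_0 lc_d_Cert_tree lc_d_rc_24_0 lc_d_rc_25_2 lc_d_Cert_tree lc_d_Cert_tree lc_d_rc_27_2 lc_d_rc_24_0 lc_d_rc_24_0 lc_d_rc_26_2 lc_d_rc_25_2 lc_d_rc_24_0 lc_d_rc_18_3 lc_d_rc_11_1 lc_d_rc_25_2 lc_d_rc_24_0) (@D3.rec (fun _ => (Cert rels S Gen.d)) lc_d_Cert_tree lc_d_Cert_tree lc_d_rc_24_0 lc_d_rc_24_0 lc_d_Cert_tree lc_d_rc_24_0 lc_d_rc_24_1 lc_d_rc_24_0 lc_d_rc_18_3 lc_d_rc_25_2 lc_d_rc_11_1 lc_d_rc_24_0 lc_d_rc_45_54 lc_d_rc_24_0 lc_d_rc_27_2 lc_d_Cert_tree lc_d_rc_24_0 lc_d_rc_24_0 lc_d_rc_3_1 lc_d_rc_3_1 lc_d_rc_26_2 lc_d_rc_28_2 lc_d_rc_27_2 lc_d_Cert_tree lc_d_rc_28_2 lc_d_rc_11_3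 lc_d_rc_24_0 lc_d_Cert_tree lc_d_rc_24_0 lc_d_rc_18_3 lc_d_rc_3_1 lc_d_rc_28_2) (@D3.rec (fun _ => (Cert rels S Gen.d)) lc_d_rc_3_1 lc_d_rc_29_2 lc_d_rc_3_1 lc_d_Cert_tree lc_d_rc_29_2 lc_d_Cert_tree lc_d_rc_24_0 lc_d_rc_25_2 lc_d_rc_29_2 lc_d_rc_29_2 lc_d_Cert_tree lc_d_Cert_tree lc_d_rc_24_0 lc_d_Cert_tree lc_d_rc_24_0 lc_d_rc_18_3 lc_d_rc_25_2 lc_d_rc_27_2 lc_d_Cert_tree lc_d_Cert_tree lc_d_rc_18_3 lc_d_rc_24_0 lc_d_rc_24_0 lc_d_rc_26_2 lc_d_rc_25_2 lc_d_rc_24_0 lc_d_rc_11_1 lc_d_rc_18_3 lc_d_rc_27_2 lc_d_Cert_tree lc_d_Cert_tree lc_d_Cert_tree) (@D3.rec (fun _ => (Cert rels S Gen.d)) lc_d_rc_24_0 lc_d_rc_24_0 lc_d_rc_18_3 lc_d_rc_25_2 lc_d_rc_24_0 lc_d_rc_18_3 lc_d_rc_25_2 lc_d_rc_11_1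 lc_d_rc_24_0 lc_d_rc_24_0 lc_d_rc_11_1 lc_d_rc_3_1 lc_d_rc_24_0 lc_d_rc_3_1 lc_d_rc_18_3 lc_d_rc_25_2 lc_d_rc_18_3 lc_d_Cert_tree lc_d_rc_24_0 lc_d_rc_25_2 lc_d_rc_28_2 lc_d_rc_26_2 lc_d_rc_29_2 lc_d_rc_29_2 lc_d_rc_29_2 lc_d_rc_24_0 lc_d_rc_24_0 lc_d_rc_24_0 lc_d_rc_25_2 lc_d_rc_27_2 lc_d_rc_29_2 lc_d_rc_29_2) (@D3.rec (fun _ => (Cert rels S Gen.d)) lc_d_Cert_tree lc_d_Cert_tree lc_d_rc_24_0 lc_d_rc_24_0 lc_d_rc_18_3 lc_d_rc_25_2 lc_d_rc_29_2 lc_d_rc_29_2 lc_d_rc_26_2 lc_d_rc_28_0 lc_d_rc_27_2 lc_d_rc_24_0 lc_d_rc_18_3 lc_d_rc_18_3 lc_d_rc_25_2 lc_d_rc_11_1 lc_d_rc_24_0 lc_d_rc_27_2 lc_d_rc_11_1 lc_d_rc_24_0 lc_d_rc_27_2 lc_d_rc_29_2 lc_d_Cert_tree lc_d_rc_27_2 lc_d_Cert_tree lc_d_Cert_tree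 lc_d_rc_26_2 lc_d_rc_29_2 lc_d_Cert_tree lc_d_rc_24_0 lc_d_rc_24_0 lc_d_rc_27_2) (@D3.rec (fun _ => (Cert rels S Gen.d)) lc_d_rc_29_2 lc_d_Cert_tree lc_d_rc_24_0 lc_d_rc_27_2 lc_d_rc_25_2 lc_d_rc_29_2 lc_d_rc_29_2 lc_d_Cert_tree lc_d_Cert_tree lc_d_rc_24_0 lc_d_rc_25_2 lc_d_rc_24_0 lc_d_rc_18_3 lc_d_rc_25_2 lc_d_rc_29_2 lc_d_rc_29_2 lc_d_Cert_tree lc_d_Cert_tree lc_d_rc_24_0 lc_d_Cert_tree lc_d_rc_24_0 lc_d_rc_18_3 lc_d_rc_25_2 lc_d_rc_18_3 lc_d_rc_11_1 lc_d_rc_24_0 lc_d_rc_25_2 lc_d_rc_18_3 lc_d_rc_24_0 lc_d_rc_18_3 lc_d_rc_25_2 lc_d_rc_18_3) (@D3.rec (fun _ => (Cert rels S Gen.d)) lc_d_rc_25_2 lc_d_rc_3_1 lc_d_rc_11_1 lc_d_rc_3_1 lc_d_Cert_tree lc_d_rc_27_2 lc_d_rc_25_2 lc_d_rc_29_2 lc_d_rc_28_2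 lc_d_rc_29_2 lc_d_Cert_tree lc_d_rc_24_0 lc_d_rc_28_2 lc_d_Cert_tree lc_d_rc_24_0 lc_d_rc_25_2 lc_d_rc_26_2 lc_d_rc_29_2 lc_d_rc_29_2 lc_d_Cert_tree lc_d_Cert_tree lc_d_rc_24_0 lc_d_rc_25_2 lc_d_rc_24_0 lc_d_rc_18_3 lc_d_rc_25_2 lc_d_rc_29_2 lc_d_rc_29_2 lc_d_Cert_tree lc_d_Cert_tree lc_d_rc_24_0 lc_d_Cert_tree) (@D3.rec (fun _ => (Cert rels S Gen.d)) lc_d_rc_24_0 lc_d_rc_18_3 lc_d_rc_25_2 lc_d_rc_27_2 lc_d_rc_24_0 lc_d_rc_18_3 lc_d_rc_25_2 lc_d_rc_11_1 lc_d_Cert_tree lc_d_Cert_tree lc_d_Cert_tree lc_d_rc_24_0 lc_d_rc_24_0 lc_d_rc_26_2 lc_d_rc_25_2 lc_d_rc_24_0 lc_d_rc_18_3 lc_d_rc_25_2 lc_d_rc_11_1 lc_d_rc_18_3 lc_d_rc_18_3 lc_d_rc_11_1 lc_d_Cert_tree lc_d_rc_3_1 lc_d_rc_24_0 lc_d_rc_24_0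 lc_d_rc_3_1 lc_d_rc_47_51 lc_d_Cert_tree lc_d_rc_24_0 lc_d_rc_18_3 lc_d_rc_24_0) (@D3.rec (fun _ => (Cert rels S Gen.d)) lc_d_rc_24_0 lc_d_rc_24_0 lc_d_rc_18_3 lc_d_rc_24_1 lc_d_rc_18_3 lc_d_rc_11_3 lc_d_rc_11_1 lc_d_rc_18_3 lc_d_rc_11_1 lc_d_rc_3_1 lc_d_rc_11_1 lc_d_rc_3_1 lc_d_rc_25_4 lc_d_rc_11_1 lc_d_rc_24_0 lc_d_rc_27_2 lc_d_rc_29_2 lc_d_Cert_tree lc_d_rc_27_2 lc_d_Cert_tree lc_d_rc_25_4 lc_d_rc_26_2 lc_d_rc_25_4 lc_d_rc_24_0 lc_d_rc_29_2 lc_d_Cert_tree lc_d_Cert_tree lc_d_rc_3_1 lc_d_rc_24_0 lc_d_rc_29_2 lc_d_Cert_tree lc_d_rc_27_2) (@D3.rec (fun _ => (Cert rels S Gen.d)) lc_d_rc_26_2 lc_d_rc_29_2 lc_d_rc_29_2 lc_d_Cert_tree lc_d_rc_24_0 lc_d_Cert_tree lc_d_rc_24_0 lc_d_rc_29_2 lc_d_rc_25_2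 lc_d_Cert_tree lc_d_Cert_tree lc_d_rc_11_1 lc_d_Cert_tree lc_d_Cert_tree lc_d_rc_24_0 lc_d_rc_24_0 lc_d_rc_24_0 lc_d_rc_29_2 lc_d_Cert_tree lc_d_rc_27_2 lc_d_rc_24_0 lc_d_rc_29_2 lc_d_rc_29_2 lc_d_Cert_tree lc_d_rc_24_0 lc_d_rc_25_2 lc_d_rc_28_2 lc_d_rc_11_1 lc_d_rc_29_2 lc_d_rc_29_2 lc_d_Cert_tree lc_d_rc_29_2) (@D3.rec (fun _ => (Cert rels S Gen.d)) lc_d_Cert_tree lc_d_rc_24_0 lc_d_rc_25_2 lc_d_rc_45_60 lc_d_rc_24_0 lc_d_rc_18_3 lc_d_rc_26_0 lc_d_rc_29_2 lc_d_rc_29_2 lc_d_rc_18_5 lc_d_Cert_tree lc_d_rc_24_0 lc_d_rc_18_3 lc_d_rc_11_3 lc_d_rc_11_1 lc_d_Cert_tree lc_d_rc_24_0 lc_d_rc_24_0 lc_d_Cert_tree lc_d_rc_26_2 lc_d_rc_24_0 lc_d_rc_25_2 lc_d_rc_24_0 lc_d_rc_24_0 lc_d_rc_25_2 lc_d_rc_24_0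 lc_d_rc_26_2 lc_d_rc_24_0 lc_d_rc_26_2 lc_d_rc_24_0 lc_d_rc_25_4 lc_d_rc_18_3) (@D3.rec (fun _ => (Cert rels S Gen.d)) lc_d_rc_25_2 lc_d_rc_25_2 lc_d_rc_11_1 lc_d_rc_3_1 lc_d_rc_18_3 lc_d_rc_3_1 lc_d_Cert_tree lc_d_rc_24_0 lc_d_rc_3_1 lc_d_rc_27_2 lc_d_rc_26_2 lc_d_rc_11_1 lc_d_Cert_tree lc_d_rc_25_2 lc_d_rc_3_1 lc_d_rc_24_0 lc_d_rc_29_2 lc_d_Cert_tree lc_d_rc_27_2 lc_d_rc_29_2 lc_d_rc_28_2 lc_d_rc_29_2 lc_d_Cert_tree lc_d_rc_24_0 lc_d_rc_28_2 lc_d_Cert_tree lc_d_rc_24_0 lc_d_Cert_tree lc_d_Cert_tree lc_d_rc_29_2 lc_d_Cert_tree lc_d_rc_24_0) (@D3.rec (fun _ => (Cert rels S Gen.d)) lc_d_rc_24_0 lc_d_Cert_tree lc_d_rc_27_2 lc_d_rc_11_1 lc_d_rc_29_2 lc_d_rc_29_2 lc_d_Cert_tree lc_d_rc_24_0 lc_d_rc_25_2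 lc_d_rc_28_2 lc_d_rc_26_2 lc_d_rc_29_2 lc_d_rc_29_2 lc_d_Cert_tree lc_d_rc_29_2 lc_d_Cert_tree lc_d_rc_24_0 lc_d_rc_25_2 lc_d_rc_29_2 lc_d_rc_24_0 lc_d_rc_18_3 lc_d_rc_29_2 lc_d_Cert_tree lc_d_rc_24_0 lc_d_rc_24_0 lc_d_Cert_tree lc_d_rc_29_2 lc_d_Cert_tree lc_d_rc_24_0 lc_d_rc_28_2 lc_d_rc_29_2 lc_d_Cert_tree) (@D3.rec (fun _ => (Cert rels S Gen.d)) lc_d_rc_29_2 lc_d_Cert_tree lc_d_rc_24_0 lc_d_rc_25_2 lc_d_rc_26_2 lc_d_rc_24_0 lc_d_rc_18_3 lc_d_rc_27_2 lc_d_rc_25_2 lc_d_rc_29_2 lc_d_rc_29_2 lc_d_Cert_tree lc_d_rc_24_0 lc_d_rc_11_1 lc_d_rc_28_2 lc_d_rc_3_1 lc_d_rc_29_2 lc_d_rc_11_1 lc_d_Cert_tree lc_d_rc_29_2 lc_d_Cert_tree lc_d_rc_24_0 lc_d_rc_25_2 lc_d_rc_25_2 lc_d_rc_29_2 lc_d_rc_29_2 lc_d_Cert_tree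 lc_d_Cert_tree lc_d_rc_24_0 lc_d_Cert_tree lc_d_rc_24_0 lc_d_rc_18_3) (@D3.rec (fun _ => (Cert rels S Gen.d)) lc_d_rc_25_2 lc_d_rc_27_2 lc_d_rc_18_3 lc_d_rc_11_1 lc_d_rc_29_2 lc_d_Cert_tree lc_d_rc_24_0 lc_d_rc_24_0 lc_d_rc_18_3 lc_d_rc_18_3 lc_d_rc_25_2 lc_d_rc_11_1 lc_d_rc_27_2 lc_d_Cert_tree lc_d_Cert_tree lc_d_rc_24_0 lc_d_rc_24_0 lc_d_rc_26_2 lc_d_rc_25_2 lc_d_rc_24_0 lc_d_rc_18_3 lc_d_rc_11_1 lc_d_rc_18_3 lc_d_rc_11_1 lc_d_rc_3_1 lc_d_rc_25_2 lc_d_rc_3_1 lc_d_rc_24_0 lc_d_rc_3_1 lc_d_rc_11_1 lc_d_rc_24_0 lc_d_rc_18_3) (@D3.rec (fun _ => (Cert rels S Gen.d)) lc_d_rc_18_3 lc_d_rc_25_2 lc_d_rc_11_1 lc_d_rc_24_1 lc_d_rc_24_0 lc_d_Cert_tree lc_d_rc_24_0 lc_d_rc_18_3 lc_d_rc_24_0 lc_d_rc_18_3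 lc_d_rc_25_2 lc_d_rc_11_1 lc_d_rc_24_1 lc_d_rc_3_1 lc_d_rc_11_1 lc_d_rc_28_2 lc_d_rc_25_2 lc_d_rc_24_0 lc_d_rc_29_2 lc_d_rc_26_2 lc_d_rc_27_0 lc_d_rc_11_3 lc_d_rc_24_0 lc_d_rc_11_3 lc_d_Cert_tree lc_d_rc_24_0 lc_d_Cert_tree lc_d_rc_24_0 lc_d_Cert_tree lc_d_rc_24_0 lc_d_Cert_tree lc_d_rc_24_0) (@D3.rec (fun _ => (Cert rels S Gen.d)) lc_d_rc_25_2 lc_d_rc_24_0 lc_d_rc_24_0 lc_d_rc_18_3 lc_d_rc_18_3 lc_d_rc_3_1 lc_d_Cert_tree lc_d_rc_27_2 lc_d_rc_26_2 lc_d_rc_11_1 lc_d_rc_25_2 lc_d_Cert_tree lc_d_rc_25_2 lc_d_rc_25_2 lc_d_rc_3_1 lc_d_rc_25_2 lc_d_rc_28_2 lc_d_Cert_tree lc_d_rc_25_2 lc_d_rc_29_2 lc_d_rc_25_2 lc_d_Cert_tree lc_d_rc_24_0 lc_d_Cert_tree lc_d_rc_24_0 lc_d_Cert_tree lc_d_Cert_tree lc_d_rc_24_0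 lc_d_Cert_tree lc_d_rc_29_2 lc_d_Cert_tree lc_d_rc_24_0) (@D3.rec (fun _ => (Cert rels S Gen.d)) lc_d_rc_25_2 lc_d_rc_26_2 lc_d_rc_29_2 lc_d_rc_29_2 lc_d_Cert_tree lc_d_Cert_tree lc_d_rc_24_0 lc_d_rc_25_2 lc_d_rc_29_2 lc_d_Cert_tree lc_d_rc_24_0 lc_d_rc_24_0 lc_d_rc_29_2 lc_d_Cert_tree lc_d_rc_24_0 lc_d_rc_29_2 lc_d_rc_27_0 lc_d_Cert_tree lc_d_Cert_tree lc_d_rc_24_0 lc_d_rc_25_2 lc_d_rc_27_2 lc_d_rc_29_2 lc_d_Cert_tree lc_d_rc_24_0 lc_d_rc_11_1 lc_d_rc_25_2 lc_d_rc_29_2 lc_d_rc_28_2 lc_d_Cert_tree lc_d_Cert_tree lc_d_rc_24_0) (@D3.rec (fun _ => (Cert rels S Gen.d)) lc_d_rc_18_3 lc_d_rc_25_2 lc_d_rc_24_1 lc_d_rc_29_2 lc_d_rc_29_2 lc_d_Cert_tree lc_d_Cert_tree lc_d_rc_24_0 lc_d_Cert_tree lc_d_rc_24_0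 lc_d_rc_18_3 lc_d_rc_25_2 lc_d_rc_27_2 lc_d_rc_18_3 lc_d_rc_25_2 lc_d_rc_29_2 lc_d_rc_29_2 lc_d_rc_26_2 lc_d_rc_28_2 lc_d_rc_26_2 lc_d_Cert_tree lc_d_rc_27_2 lc_d_rc_24_0 lc_d_rc_24_0 lc_d_rc_26_2 lc_d_rc_25_2 lc_d_rc_24_0 lc_d_rc_18_3 lc_d_rc_25_2 lc_d_rc_24_0 lc_d_rc_24_0 lc_d_rc_18_3) (@D3.rec (fun _ => (Cert rels S Gen.d)) lc_d_rc_24_0 lc_d_rc_18_3 lc_d_rc_45_57 lc_d_rc_24_0 lc_d_rc_3_1 lc_d_rc_24_0 lc_d_rc_18_3 lc_d_Cert_tree lc_d_Cert_tree lc_d_rc_24_0 lc_d_Cert_tree lc_d_Cert_tree lc_d_rc_24_0 lc_d_rc_24_0 lc_d_rc_24_0 lc_d_rc_25_2 lc_d_rc_25_2 lc_d_rc_29_2 lc_d_rc_25_0 lc_d_Cert_tree lc_d_Cert_tree lc_d_rc_24_0 lc_d_rc_25_2 lc_d_rc_25_2 lc_d_rc_25_2 lc_d_Cert_tree lc_d_Cert_tree lc_d_rc_24_0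 lc_d_rc_24_0 lc_d_rc_25_2 lc_d_rc_27_2 lc_d_rc_28_0) (@D3.rec (fun _ => (Cert rels S Gen.d)) lc_d_rc_26_2 lc_d_rc_24_0 lc_d_rc_18_3 lc_d_rc_25_2 lc_d_Cert_tree lc_d_rc_24_0 lc_d_rc_24_0 lc_d_rc_24_0 lc_d_rc_29_2 lc_d_Cert_tree lc_d_rc_27_2 lc_d_rc_25_2 lc_d_rc_29_2 lc_d_rc_29_2 lc_d_Cert_tree lc_d_rc_24_0 lc_d_rc_26_2 lc_d_rc_25_2 lc_d_rc_29_2 lc_d_rc_25_2 lc_d_Cert_tree lc_d_rc_25_0 lc_d_Cert_tree lc_d_rc_24_0 lc_d_rc_25_2 lc_d_Cert_tree lc_d_rc_24_0 lc_d_rc_18_3 lc_d_rc_29_2 lc_d_rc_28_2 lc_d_rc_3_1 lc_d_rc_29_2)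
def ce_d_14 : D2 → D3 → (Cert rels S Gen.d) := @D2.rec (fun _ => D3 → (Cert rels S Gen.d)) (@D3.rec (fun _ => (Cert rels S Gen.d)) lc_d_Cert_tree lc_d_rc_24_0 lc_d_rc_26_2 lc_d_rc_11_1 lc_d_rc_29_2 lc_d_rc_11_1 lc_d_Cert_tree lc_d_Cert_tree lc_d_rc_24_0 lc_d_rc_25_2 lc_d_rc_25_2 lc_d_rc_29_2 lc_d_rc_29_2 lc_d_Cert_tree lc_d_Cert_tree lc_d_rc_24_0 lc_d_Cert_tree lc_d_rc_24_0 lc_d_rc_25_2 lc_d_rc_27_2 lc_d_rc_25_2 lc_d_rc_29_2 lc_d_rc_25_2 lc_d_Cert_tree lc_d_Cert_tree lc_d_rc_24_0 lc_d_Cert_tree lc_d_rc_24_0 lc_d_rc_25_2 lc_d_rc_27_2 lc_d_rc_3_1 lc_d_rc_26_2) (@D3.rec (fun _ => (Cert rels S Gen.d)) lc_d_rc_29_2 lc_d_rc_3_1 lc_d_Cert_tree lc_d_Cert_tree lc_d_rc_24_0 lc_d_rc_25_2 lc_d_rc_11_1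 lc_d_rc_29_2 lc_d_rc_11_1 lc_d_Cert_tree lc_d_Cert_tree lc_d_rc_24_0 lc_d_Cert_tree lc_d_rc_24_0 lc_d_rc_18_3 lc_d_rc_25_2 lc_d_rc_27_2 lc_d_Cert_tree lc_d_Cert_tree lc_d_Cert_tree lc_d_rc_24_0 lc_d_rc_24_0 lc_d_rc_26_2 lc_d_rc_25_2 lc_d_rc_24_0 lc_d_rc_18_3 lc_d_rc_25_2 lc_d_rc_11_1 lc_d_rc_29_0 lc_d_rc_27_2 lc_d_rc_28_2 lc_d_Cert_tree) (@D3.rec (fun _ => (Cert rels S Gen.d)) lc_d_Cert_tree lc_d_Cert_tree lc_d_rc_24_0 lc_d_rc_24_0 lc_d_rc_25_2 lc_d_rc_24_0 lc_d_rc_25_2 lc_d_rc_24_0 lc_d_rc_24_0 lc_d_rc_18_3 lc_d_rc_29_2 lc_d_rc_25_2 lc_d_rc_11_1 lc_d_Cert_tree lc_d_rc_25_2 lc_d_rc_24_0 lc_d_rc_24_0 lc_d_rc_18_3 lc_d_rc_45_45 lc_d_rc_24_0 lc_d_rc_3_1 lc_d_rc_18_3 lc_d_rc_25_2 lc_d_rc_18_3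 lc_d_rc_11_3 lc_d_rc_24_0 lc_d_rc_18_3 lc_d_rc_3_1 lc_d_rc_25_2 lc_d_rc_28_2 lc_d_rc_24_0 lc_d_rc_11_3) (@D3.rec (fun _ => (Cert rels S Gen.d)) lc_d_rc_18_3 lc_d_rc_24_0 lc_d_rc_11_3 lc_d_rc_25_2 lc_d_rc_11_1 lc_d_rc_3_1 lc_d_rc_29_2 lc_d_rc_3_1 lc_d_Cert_tree lc_d_Cert_tree lc_d_rc_24_0 lc_d_Cert_tree lc_d_rc_24_0 lc_d_rc_3_1 lc_d_Cert_tree lc_d_Cert_tree lc_d_rc_3_3 lc_d_rc_24_0 lc_d_rc_24_0 lc_d_rc_18_3 lc_d_rc_25_2 lc_d_rc_24_0 lc_d_rc_18_3 lc_d_rc_18_3 lc_d_rc_25_2 lc_d_rc_27_2 lc_d_rc_24_0 lc_d_rc_24_0 lc_d_rc_11_3 lc_d_rc_11_1 lc_d_rc_11_3 lc_d_rc_11_1) (@D3.rec (fun _ => (Cert rels S Gen.d)) lc_d_rc_24_0 lc_d_rc_24_0 lc_d_rc_24_0 lc_d_rc_18_3 lc_d_rc_45_66 lc_d_rc_3_3 lc_d_rc_3_1 lc_d_rc_11_1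 lc_d_rc_24_0 lc_d_rc_25_2 lc_d_rc_29_2 lc_d_rc_26_0 lc_d_rc_18_3 lc_d_rc_25_2 lc_d_rc_29_2 lc_d_Cert_tree lc_d_Cert_tree lc_d_rc_24_0 lc_d_rc_24_0 lc_d_rc_18_3 lc_d_rc_18_3 lc_d_rc_25_2 lc_d_rc_11_1 lc_d_Cert_tree lc_d_rc_26_2 lc_d_rc_29_2 lc_d_rc_11_1 lc_d_rc_11_1 lc_d_rc_3_1 lc_d_rc_29_2 lc_d_Cert_tree lc_d_rc_29_2) (@D3.rec (fun _ => (Cert rels S Gen.d)) lc_d_rc_29_2 lc_d_Cert_tree lc_d_rc_24_0 lc_d_Cert_tree lc_d_rc_24_0 lc_d_rc_24_0 lc_d_rc_29_2 lc_d_Cert_tree lc_d_rc_24_0 lc_d_rc_25_2 lc_d_rc_18_3 lc_d_rc_27_2 lc_d_Cert_tree lc_d_rc_24_0 lc_d_rc_18_3 lc_d_rc_25_2 lc_d_rc_27_2 lc_d_rc_25_2 lc_d_Cert_tree lc_d_Cert_tree lc_d_rc_24_0 lc_d_rc_24_0 lc_d_rc_18_3 lc_d_rc_25_2 lc_d_rc_27_2 lc_d_rc_18_3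 lc_d_rc_11_1 lc_d_rc_29_0 lc_d_Cert_tree lc_d_Cert_tree lc_d_rc_24_0 lc_d_rc_24_0) (@D3.rec (fun _ => (Cert rels S Gen.d)) lc_d_rc_26_2 lc_d_rc_25_2 lc_d_rc_24_0 lc_d_rc_18_3 lc_d_rc_11_1 lc_d_rc_18_3 lc_d_rc_3_1 lc_d_rc_18_3 lc_d_rc_25_2 lc_d_rc_45_66 lc_d_rc_18_3 lc_d_rc_25_2 lc_d_Cert_tree lc_d_rc_11_1 lc_d_rc_11_1 lc_d_rc_24_0 lc_d_rc_29_2 lc_d_rc_25_2 lc_d_Cert_tree lc_d_rc_28_2 lc_d_Cert_tree lc_d_rc_24_0 lc_d_rc_25_2 lc_d_Cert_tree lc_d_rc_24_0 lc_d_rc_18_3 lc_d_rc_25_2 lc_d_rc_29_2 lc_d_Cert_tree lc_d_Cert_tree lc_d_rc_24_0 lc_d_rc_24_0) (@D3.rec (fun _ => (Cert rels S Gen.d)) lc_d_rc_18_3 lc_d_rc_25_2 lc_d_rc_27_2 lc_d_rc_18_3 lc_d_Cert_tree lc_d_Cert_tree lc_d_Cert_tree lc_d_rc_24_0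 lc_d_rc_24_0 lc_d_rc_26_2 lc_d_rc_25_2 lc_d_rc_24_0 lc_d_rc_18_3 lc_d_rc_25_2 lc_d_rc_11_1 lc_d_rc_18_3 lc_d_rc_27_2 lc_d_rc_28_2 lc_d_rc_18_3 lc_d_rc_11_1 lc_d_Cert_tree lc_d_rc_3_1 lc_d_rc_24_0 lc_d_rc_24_0 lc_d_rc_24_0 lc_d_rc_18_3 lc_d_rc_45_21 lc_d_rc_29_2 lc_d_rc_25_2 lc_d_rc_11_1 lc_d_Cert_tree lc_d_rc_18_3) (@D3.rec (fun _ => (Cert rels S Gen.d)) lc_d_rc_11_1 lc_d_rc_11_1 lc_d_rc_3_1 lc_d_rc_11_1 lc_d_rc_24_0 lc_d_rc_45_27 lc_d_rc_45_57 lc_d_rc_24_0 lc_d_rc_18_3 lc_d_rc_11_3 lc_d_rc_11_1 lc_d_rc_45_36 lc_d_rc_25_2 lc_d_rc_11_1 lc_d_rc_3_3 lc_d_rc_18_3 lc_d_rc_26_2 lc_d_rc_25_4 lc_d_rc_3_1 lc_d_rc_3_1 lc_d_rc_25_4 lc_d_Cert_tree lc_d_rc_29_2 lc_d_rc_27_2 lc_d_Cert_tree lc_d_rc_24_0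 lc_d_Cert_tree lc_d_rc_24_0 lc_d_Cert_tree lc_d_Cert_tree lc_d_rc_29_2 lc_d_Cert_tree) (@D3.rec (fun _ => (Cert rels S Gen.d)) lc_d_rc_24_0 lc_d_rc_24_0 lc_d_Cert_tree lc_d_rc_29_2 lc_d_Cert_tree lc_d_rc_24_0 lc_d_rc_29_2 lc_d_rc_29_2 lc_d_Cert_tree lc_d_Cert_tree lc_d_rc_24_0 lc_d_rc_25_2 lc_d_rc_24_0 lc_d_rc_18_3 lc_d_Cert_tree lc_d_Cert_tree lc_d_rc_24_0 lc_d_rc_24_0 lc_d_Cert_tree lc_d_rc_24_0 lc_d_rc_24_0 lc_d_rc_25_2 lc_d_rc_18_3 lc_d_rc_29_2 lc_d_Cert_tree lc_d_rc_24_0 lc_d_rc_29_2 lc_d_Cert_tree lc_d_Cert_tree lc_d_rc_24_0 lc_d_rc_18_3 lc_d_rc_25_2) (@D3.rec (fun _ => (Cert rels S Gen.d)) lc_d_rc_29_2 lc_d_rc_25_2 lc_d_Cert_tree lc_d_Cert_tree lc_d_rc_24_0 lc_d_Cert_tree lc_d_rc_24_0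 lc_d_rc_18_3 lc_d_rc_25_2 lc_d_rc_27_2 lc_d_rc_18_3 lc_d_rc_11_1 lc_d_rc_11_1 lc_d_rc_25_2 lc_d_rc_24_0 lc_d_rc_26_2 lc_d_rc_11_1 lc_d_rc_3_1 lc_d_rc_24_0 lc_d_rc_24_0 lc_d_rc_18_3 lc_d_rc_29_2 lc_d_rc_11_1 lc_d_rc_18_3 lc_d_rc_3_1 lc_d_Cert_tree lc_d_rc_3_1 lc_d_rc_24_0 lc_d_Cert_tree lc_d_Cert_tree lc_d_rc_24_0 lc_d_rc_25_2) (@D3.rec (fun _ => (Cert rels S Gen.d)) lc_d_Cert_tree lc_d_rc_29_2 lc_d_Cert_tree lc_d_rc_24_0 lc_d_rc_29_2 lc_d_Cert_tree lc_d_rc_28_2 lc_d_Cert_tree lc_d_rc_24_0 lc_d_rc_25_2 lc_d_rc_18_5 lc_d_rc_24_0 lc_d_rc_18_3 lc_d_rc_24_0 lc_d_rc_24_0 lc_d_Cert_tree lc_d_rc_24_0 lc_d_rc_25_2 lc_d_rc_18_3 lc_d_rc_24_0 lc_d_rc_29_2 lc_d_rc_11_1 lc_d_Cert_tree lc_d_Cert_tree lc_d_rc_24_0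 lc_d_rc_25_2 lc_d_rc_25_2 lc_d_rc_29_2 lc_d_rc_29_2 lc_d_Cert_tree lc_d_Cert_tree lc_d_rc_24_0) (@D3.rec (fun _ => (Cert rels S Gen.d)) lc_d_Cert_tree lc_d_rc_24_0 lc_d_rc_18_3 lc_d_rc_25_2 lc_d_rc_27_2 lc_d_rc_18_3 lc_d_rc_11_1 lc_d_Cert_tree lc_d_rc_24_0 lc_d_rc_25_2 lc_d_rc_18_3 lc_d_rc_24_0 lc_d_Cert_tree lc_d_rc_24_0 lc_d_rc_25_2 lc_d_rc_29_2 lc_d_Cert_tree lc_d_rc_24_0 lc_d_Cert_tree lc_d_rc_24_0 lc_d_rc_18_3 lc_d_rc_25_2 lc_d_rc_27_2 lc_d_rc_18_3 lc_d_rc_25_2 lc_d_rc_11_1 lc_d_rc_29_2 lc_d_rc_25_2 lc_d_Cert_tree lc_d_Cert_tree lc_d_rc_24_0 lc_d_rc_25_2) (@D3.rec (fun _ => (Cert rels S Gen.d)) lc_d_rc_11_1 lc_d_rc_29_2 lc_d_rc_25_2 lc_d_Cert_tree lc_d_Cert_tree lc_d_rc_24_0 lc_d_Cert_tree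 lc_d_rc_24_0 lc_d_rc_18_3 lc_d_rc_25_2 lc_d_rc_27_2 lc_d_Cert_tree lc_d_Cert_tree lc_d_Cert_tree lc_d_rc_24_0 lc_d_rc_24_0 lc_d_rc_26_2 lc_d_rc_26_2 lc_d_rc_24_0 lc_d_rc_18_3 lc_d_rc_25_2 lc_d_rc_11_1 lc_d_rc_18_3 lc_d_rc_27_2 lc_d_rc_28_2 lc_d_rc_11_1 lc_d_rc_3_1 lc_d_rc_11_1 lc_d_rc_24_0 lc_d_rc_26_2 lc_d_rc_18_3 lc_d_rc_25_2) (@D3.rec (fun _ => (Cert rels S Gen.d)) lc_d_rc_11_1 lc_d_rc_11_1 lc_d_rc_3_1 lc_d_rc_24_0 lc_d_rc_24_0 lc_d_rc_18_3 lc_d_rc_29_2 lc_d_rc_25_2 lc_d_rc_11_1 lc_d_Cert_tree lc_d_rc_11_1 lc_d_rc_3_1 lc_d_rc_11_1 lc_d_rc_3_1 lc_d_rc_18_3 lc_d_rc_3_1 lc_d_rc_3_1 lc_d_rc_18_3 lc_d_rc_11_1 lc_d_rc_3_3 lc_d_rc_3_1 lc_d_rc_24_0 lc_d_rc_18_3 lc_d_rc_25_2 lc_d_rc_18_3 lc_d_rc_27_0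 lc_d_rc_25_2 lc_d_rc_18_5 lc_d_rc_24_0 lc_d_rc_25_2 lc_d_rc_24_0 lc_d_rc_25_2) (@D3.rec (fun _ => (Cert rels S Gen.d)) lc_d_rc_24_0 lc_d_rc_18_3 lc_d_rc_25_2 lc_d_rc_24_0 lc_d_rc_25_2 lc_d_rc_27_2 lc_d_rc_18_3 lc_d_rc_3_1 lc_d_rc_24_0 lc_d_Cert_tree lc_d_Cert_tree lc_d_Cert_tree lc_d_rc_24_0 lc_d_rc_25_2 lc_d_Cert_tree lc_d_rc_25_2 lc_d_Cert_tree lc_d_rc_24_0 lc_d_rc_25_2 lc_d_Cert_tree lc_d_Cert_tree lc_d_rc_24_0 lc_d_rc_25_2 lc_d_rc_24_0 lc_d_rc_18_3 lc_d_rc_24_0 lc_d_rc_24_0 lc_d_rc_11_3 lc_d_rc_24_0 lc_d_Cert_tree lc_d_rc_24_0 lc_d_rc_18_3) (@D3.rec (fun _ => (Cert rels S Gen.d)) lc_d_rc_25_2 lc_d_rc_25_2 lc_d_rc_29_2 lc_d_Cert_tree lc_d_Cert_tree lc_d_rc_24_0 lc_d_rc_24_0 lc_d_rc_25_2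 lc_d_rc_27_2 lc_d_Cert_tree lc_d_rc_24_0 lc_d_rc_25_2 lc_d_rc_18_3 lc_d_Cert_tree lc_d_rc_24_0 lc_d_rc_18_3 lc_d_rc_25_2 lc_d_Cert_tree lc_d_Cert_tree lc_d_rc_24_0 lc_d_rc_24_0 lc_d_rc_25_2 lc_d_rc_27_2 lc_d_rc_29_2 lc_d_Cert_tree lc_d_rc_24_0 lc_d_rc_3_1 lc_d_rc_25_2 lc_d_rc_25_2 lc_d_rc_25_2 lc_d_Cert_tree lc_d_Cert_tree) (@D3.rec (fun _ => (Cert rels S Gen.d)) lc_d_rc_24_0 lc_d_rc_24_0 lc_d_rc_18_3 lc_d_rc_25_2 lc_d_Cert_tree lc_d_rc_27_2 lc_d_Cert_tree lc_d_Cert_tree lc_d_Cert_tree lc_d_rc_24_0 lc_d_rc_24_0 lc_d_rc_26_2 lc_d_rc_25_2 lc_d_rc_24_0 lc_d_rc_18_3 lc_d_rc_25_2 lc_d_rc_11_1 lc_d_rc_27_2 lc_d_rc_28_2 lc_d_Cert_tree lc_d_rc_26_2 lc_d_rc_28_0 lc_d_rc_24_0 lc_d_rc_18_3 lc_d_rc_29_2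 lc_d_rc_25_2 lc_d_Cert_tree lc_d_rc_18_3 lc_d_rc_3_1 lc_d_rc_18_3 lc_d_Cert_tree lc_d_rc_3_1) (@D3.rec (fun _ => (Cert rels S Gen.d)) lc_d_rc_18_3 lc_d_rc_24_0 lc_d_rc_24_0 lc_d_rc_26_2 lc_d_rc_24_0 lc_d_rc_24_0 lc_d_rc_25_2 lc_d_rc_18_3 lc_d_rc_25_2 lc_d_rc_26_0 lc_d_rc_27_2 lc_d_Cert_tree lc_d_Cert_tree lc_d_rc_24_0 lc_d_rc_24_0 lc_d_rc_18_3 lc_d_rc_25_2 lc_d_rc_27_2 lc_d_Cert_tree lc_d_Cert_tree lc_d_rc_24_0 lc_d_rc_24_0 lc_d_rc_26_2 lc_d_rc_25_2 lc_d_rc_27_2 lc_d_rc_28_2 lc_d_rc_18_3 lc_d_rc_25_2 lc_d_rc_24_0 lc_d_rc_25_2 lc_d_rc_18_3 lc_d_rc_29_2) (@D3.rec (fun _ => (Cert rels S Gen.d)) lc_d_Cert_tree lc_d_rc_24_0 lc_d_rc_29_2 lc_d_rc_25_2 lc_d_Cert_tree lc_d_Cert_tree lc_d_rc_24_0 lc_d_rc_25_2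 lc_d_rc_29_2 lc_d_rc_25_2 lc_d_Cert_tree lc_d_Cert_tree lc_d_rc_24_0 lc_d_Cert_tree lc_d_rc_24_0 lc_d_rc_18_3 lc_d_rc_25_2 lc_d_rc_27_2 lc_d_rc_24_0 lc_d_rc_18_3 lc_d_rc_25_2 lc_d_rc_11_1 lc_d_rc_11_3 lc_d_rc_3_1 lc_d_Cert_tree lc_d_rc_24_0 lc_d_rc_25_2 lc_d_rc_29_2 lc_d_rc_11_1 lc_d_Cert_tree lc_d_Cert_tree lc_d_rc_24_0) (@D3.rec (fun _ => (Cert rels S Gen.d)) lc_d_rc_24_0 lc_d_rc_18_3 lc_d_rc_25_2 lc_d_rc_27_2 lc_d_Cert_tree lc_d_Cert_tree lc_d_Cert_tree lc_d_rc_24_0 lc_d_rc_24_0 lc_d_rc_25_2 lc_d_rc_24_0 lc_d_rc_25_2 lc_d_rc_27_2 lc_d_rc_28_2 lc_d_Cert_tree lc_d_Cert_tree lc_d_Cert_tree lc_d_rc_24_0 lc_d_rc_24_0 lc_d_rc_25_2 lc_d_rc_24_0 lc_d_rc_25_2 lc_d_rc_27_2 lc_d_rc_28_2 lc_d_rc_25_2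 lc_d_rc_29_2 lc_d_Cert_tree lc_d_Cert_tree lc_d_rc_24_0 lc_d_rc_24_0 lc_d_rc_3_1 lc_d_rc_25_2) (@D3.rec (fun _ => (Cert rels S Gen.d)) lc_d_rc_27_2 lc_d_Cert_tree lc_d_Cert_tree lc_d_Cert_tree lc_d_rc_24_0 lc_d_rc_24_0 lc_d_rc_18_3 lc_d_rc_25_2 lc_d_rc_24_0 lc_d_rc_18_3 lc_d_rc_25_2 lc_d_rc_18_3 lc_d_rc_25_2 lc_d_rc_27_2 lc_d_rc_28_2 lc_d_rc_24_0 lc_d_rc_24_0 lc_d_rc_24_0 lc_d_rc_18_3 lc_d_rc_25_2 lc_d_rc_29_2 lc_d_rc_25_2 lc_d_rc_11_1 lc_d_Cert_tree lc_d_rc_26_2 lc_d_rc_25_2 lc_d_rc_3_3 lc_d_rc_25_2 lc_d_rc_25_2 lc_d_rc_11_3 lc_d_rc_28_2 lc_d_rc_24_0)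
def ce_d_15 : D2 → D3 → (Cert rels S Gen.d) := @D2.rec (fun _ => D3 → (Cert rels S Gen.d)) (@D3.rec (fun _ => (Cert rels S Gen.d)) lc_d_rc_24_0 lc_d_rc_24_0 lc_d_rc_45_21 lc_d_rc_25_2 lc_d_rc_18_3 lc_d_rc_24_0 lc_d_rc_3_1 lc_d_rc_18_3 lc_d_rc_11_1 lc_d_rc_3_1 lc_d_rc_11_1 lc_d_rc_11_1 lc_d_rc_18_3 lc_d_rc_11_1 lc_d_rc_18_5 lc_d_rc_3_1 lc_d_Cert_tree lc_d_Cert_tree lc_d_rc_11_3 lc_d_rc_24_0 lc_d_rc_24_0 lc_d_rc_3_1 lc_d_rc_24_0 lc_d_rc_3_1 lc_d_rc_11_1 lc_d_rc_24_0 lc_d_rc_24_0 lc_d_rc_18_3 lc_d_rc_18_3 lc_d_rc_25_2 lc_d_rc_18_3 lc_d_Cert_tree) (@D3.rec (fun _ => (Cert rels S Gen.d)) lc_d_rc_25_2 lc_d_rc_26_0 lc_d_rc_3_3 lc_d_rc_26_0 lc_d_rc_25_2 lc_d_rc_25_2 lc_d_rc_25_2 lc_d_rc_29_2 lc_d_Cert_tree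 lc_d_rc_24_0 lc_d_rc_24_0 lc_d_rc_26_2 lc_d_rc_18_3 lc_d_rc_25_2 lc_d_rc_11_1 lc_d_rc_11_1 lc_d_rc_26_4 lc_d_rc_3_1 lc_d_rc_24_0 lc_d_rc_3_1 lc_d_Cert_tree lc_d_rc_24_0 lc_d_Cert_tree lc_d_Cert_tree lc_d_rc_24_0 lc_d_rc_25_2 lc_d_rc_24_0 lc_d_rc_18_3 lc_d_rc_18_3 lc_d_rc_25_2 lc_d_Cert_tree lc_d_rc_24_0) (@D3.rec (fun _ => (Cert rels S Gen.d)) lc_d_rc_18_3 lc_d_rc_25_2 lc_d_rc_27_2 lc_d_rc_11_1 lc_d_Cert_tree lc_d_rc_24_0 lc_d_rc_18_3 lc_d_rc_25_2 lc_d_Cert_tree lc_d_rc_27_2 lc_d_Cert_tree lc_d_Cert_tree lc_d_rc_24_0 lc_d_rc_24_0 lc_d_rc_26_2 lc_d_rc_25_2 lc_d_rc_18_3 lc_d_rc_25_2 lc_d_rc_11_1 lc_d_rc_18_3 lc_d_rc_27_2 lc_d_rc_28_2 lc_d_rc_3_1 lc_d_rc_24_0 lc_d_rc_24_0 lc_d_rc_18_3 lc_d_rc_29_2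 lc_d_rc_25_2 lc_d_rc_11_1 lc_d_Cert_tree lc_d_rc_3_1 lc_d_rc_25_2) (@D3.rec (fun _ => (Cert rels S Gen.d)) lc_d_Cert_tree lc_d_rc_18_3 lc_d_Cert_tree lc_d_rc_24_0 lc_d_rc_26_2 lc_d_Cert_tree lc_d_Cert_tree lc_d_rc_24_0 lc_d_Cert_tree lc_d_rc_24_0 lc_d_rc_18_3 lc_d_rc_25_2 lc_d_rc_27_2 lc_d_rc_24_0 lc_d_rc_18_3 lc_d_rc_3_3 lc_d_rc_11_1 lc_d_Cert_tree lc_d_Cert_tree lc_d_rc_24_0 lc_d_rc_24_0 lc_d_rc_26_2 lc_d_rc_25_2 lc_d_rc_18_3 lc_d_rc_25_2 lc_d_rc_18_3 lc_d_rc_27_2 lc_d_rc_28_2 lc_d_rc_24_0 lc_d_rc_24_0 lc_d_rc_24_0 lc_d_rc_18_3) (@D3.rec (fun _ => (Cert rels S Gen.d)) lc_d_rc_25_2 lc_d_rc_29_2 lc_d_rc_25_2 lc_d_rc_11_1 lc_d_Cert_tree lc_d_rc_26_2 lc_d_rc_18_3 lc_d_rc_25_2 lc_d_rc_11_1 lc_d_Cert_tree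 lc_d_rc_27_2 lc_d_rc_3_1 lc_d_rc_11_1 lc_d_rc_18_3 lc_d_rc_28_2 lc_d_rc_24_0 lc_d_rc_18_3 lc_d_rc_18_3 lc_d_rc_18_3 lc_d_rc_25_2 lc_d_rc_11_1 lc_d_Cert_tree lc_d_rc_11_1 lc_d_Cert_tree lc_d_rc_3_1 lc_d_Cert_tree lc_d_rc_24_0 lc_d_rc_3_1 lc_d_rc_26_2 lc_d_rc_25_2 lc_d_rc_3_1 lc_d_rc_11_1) (@D3.rec (fun _ => (Cert rels S Gen.d)) lc_d_rc_11_1 lc_d_rc_45_21 lc_d_rc_28_2 lc_d_Cert_tree lc_d_Cert_tree lc_d_rc_24_0 lc_d_Cert_tree lc_d_Cert_tree lc_d_rc_24_0 lc_d_rc_25_2 lc_d_rc_24_0 lc_d_rc_18_3 lc_d_rc_24_0 lc_d_rc_24_0 lc_d_Cert_tree lc_d_rc_24_0 lc_d_rc_25_2 lc_d_rc_18_3 lc_d_rc_24_0 lc_d_Cert_tree lc_d_rc_24_0 lc_d_rc_18_3 lc_d_rc_25_2 lc_d_Cert_tree lc_d_Cert_tree lc_d_rc_24_0 lc_d_rc_24_0 lc_d_rc_18_3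 lc_d_rc_25_2 lc_d_rc_27_2 lc_d_rc_18_3 lc_d_rc_11_1) (@D3.rec (fun _ => (Cert rels S Gen.d)) lc_d_rc_24_0 lc_d_rc_24_0 lc_d_rc_25_2 lc_d_rc_18_3 lc_d_rc_24_0 lc_d_rc_18_3 lc_d_rc_28_2 lc_d_rc_18_3 lc_d_rc_25_2 lc_d_rc_27_2 lc_d_Cert_tree lc_d_rc_24_0 lc_d_rc_3_1 lc_d_rc_25_2 lc_d_Cert_tree lc_d_rc_24_0 lc_d_rc_24_0 lc_d_rc_25_2 lc_d_Cert_tree lc_d_rc_27_2 lc_d_Cert_tree lc_d_Cert_tree lc_d_rc_24_0 lc_d_rc_24_0 lc_d_rc_26_2 lc_d_rc_3_1 lc_d_rc_24_0 lc_d_rc_18_3 lc_d_rc_25_2 lc_d_rc_11_1 lc_d_rc_18_3 lc_d_rc_27_2) (@D3.rec (fun _ => (Cert rels S Gen.d)) lc_d_rc_28_2 lc_d_rc_3_1 lc_d_rc_29_2 lc_d_rc_11_1 lc_d_rc_3_1 lc_d_rc_18_3 lc_d_rc_3_1 lc_d_Cert_tree lc_d_rc_24_0 lc_d_rc_26_2 lc_d_rc_24_0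 lc_d_rc_24_0 lc_d_rc_25_2 lc_d_Cert_tree lc_d_rc_24_0 lc_d_Cert_tree lc_d_rc_24_0 lc_d_rc_25_2 lc_d_Cert_tree lc_d_rc_24_0 lc_d_Cert_tree lc_d_rc_24_0 lc_d_rc_18_3 lc_d_rc_25_2 lc_d_rc_27_2 lc_d_rc_18_3 lc_d_rc_25_2 lc_d_rc_11_1 lc_d_rc_25_2 lc_d_rc_25_2 lc_d_rc_24_0 lc_d_rc_18_3) (@D3.rec (fun _ => (Cert rels S Gen.d)) lc_d_rc_25_2 lc_d_rc_27_2 lc_d_rc_11_1 lc_d_rc_25_2 lc_d_Cert_tree lc_d_Cert_tree lc_d_rc_24_0 lc_d_rc_24_0 lc_d_rc_18_3 lc_d_rc_25_2 lc_d_rc_27_2 lc_d_Cert_tree lc_d_Cert_tree lc_d_Cert_tree lc_d_rc_24_0 lc_d_rc_24_0 lc_d_rc_26_2 lc_d_rc_25_2 lc_d_rc_24_0 lc_d_rc_18_3 lc_d_rc_25_2 lc_d_rc_11_1 lc_d_rc_18_3 lc_d_rc_27_2 lc_d_rc_28_2 lc_d_rc_11_1 lc_d_rc_3_1 lc_d_rc_24_0 lc_d_rc_18_3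 lc_d_rc_25_2 lc_d_rc_27_2 lc_d_rc_25_2) (@D3.rec (fun _ => (Cert rels S Gen.d)) lc_d_rc_24_0 lc_d_rc_18_3 lc_d_rc_25_2 lc_d_rc_27_2 lc_d_Cert_tree lc_d_rc_24_0 lc_d_rc_26_2 lc_d_rc_25_2 lc_d_rc_24_0 lc_d_rc_18_3 lc_d_rc_25_2 lc_d_rc_11_1 lc_d_rc_25_2 lc_d_rc_27_2 lc_d_rc_28_2 lc_d_rc_11_1 lc_d_rc_3_1 lc_d_Cert_tree lc_d_Cert_tree lc_d_rc_24_0 lc_d_rc_24_0 lc_d_rc_3_1 lc_d_rc_25_2 lc_d_rc_27_2 lc_d_Cert_tree lc_d_Cert_tree lc_d_Cert_tree lc_d_rc_24_0 lc_d_rc_24_0 lc_d_rc_18_3 lc_d_rc_11_1 lc_d_rc_24_0) (@D3.rec (fun _ => (Cert rels S Gen.d)) lc_d_rc_18_3 lc_d_rc_25_2 lc_d_rc_18_3 lc_d_rc_29_2 lc_d_rc_27_2 lc_d_rc_28_2 lc_d_rc_24_0 lc_d_rc_24_0 lc_d_rc_24_0 lc_d_rc_18_3 lc_d_rc_25_2 lc_d_rc_29_2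 lc_d_rc_29_2 lc_d_rc_11_1 lc_d_Cert_tree lc_d_rc_27_2 lc_d_rc_25_2 lc_d_rc_11_1 lc_d_rc_18_3 lc_d_rc_25_2 lc_d_rc_3_1 lc_d_rc_11_1 lc_d_rc_18_3 lc_d_rc_28_2 lc_d_rc_18_3 lc_d_rc_25_2 lc_d_rc_11_1 lc_d_rc_11_1 lc_d_rc_28_2 lc_d_rc_3_1 lc_d_rc_18_3 lc_d_rc_11_1) (@D3.rec (fun _ => (Cert rels S Gen.d)) lc_d_rc_11_1 lc_d_Cert_tree lc_d_rc_3_1 lc_d_Cert_tree lc_d_rc_24_0 lc_d_rc_3_1 lc_d_rc_18_3 lc_d_rc_18_3 lc_d_Cert_tree lc_d_rc_46_24 lc_d_rc_25_2 lc_d_rc_25_0 lc_d_rc_18_3 lc_d_rc_25_2 lc_d_rc_26_0 lc_d_rc_3_1 lc_d_rc_25_2 lc_d_rc_28_0 lc_d_rc_25_4 lc_d_rc_3_1 lc_d_rc_27_2 lc_d_rc_28_2 lc_d_rc_26_2 lc_d_rc_24_0 lc_d_rc_24_0 lc_d_rc_24_0 lc_d_rc_25_2 lc_d_Cert_tree lc_d_rc_24_0 lc_d_Cert_tree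 lc_d_rc_24_0 lc_d_rc_26_2) (@D3.rec (fun _ => (Cert rels S Gen.d)) lc_d_rc_25_2 lc_d_Cert_tree lc_d_rc_24_0 lc_d_rc_24_0 lc_d_rc_18_3 lc_d_rc_25_2 lc_d_rc_27_2 lc_d_rc_18_3 lc_d_rc_25_2 lc_d_rc_11_1 lc_d_rc_25_2 lc_d_rc_18_3 lc_d_rc_3_1 lc_d_rc_29_2 lc_d_rc_3_1 lc_d_rc_25_2 lc_d_rc_24_0 lc_d_rc_25_2 lc_d_rc_11_1 lc_d_rc_27_2 lc_d_Cert_tree lc_d_Cert_tree lc_d_rc_24_0 lc_d_rc_24_0 lc_d_rc_25_2 lc_d_rc_25_2 lc_d_rc_27_2 lc_d_rc_28_2 lc_d_rc_24_0 lc_d_rc_18_3 lc_d_rc_25_2 lc_d_rc_27_2) (@D3.rec (fun _ => (Cert rels S Gen.d)) lc_d_rc_24_0 lc_d_rc_18_3 lc_d_rc_25_2 lc_d_Cert_tree lc_d_rc_27_2 lc_d_rc_24_0 lc_d_rc_24_0 lc_d_rc_25_2 lc_d_rc_25_2 lc_d_rc_27_2 lc_d_rc_28_2 lc_d_Cert_tree lc_d_rc_24_0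 lc_d_rc_3_1 lc_d_rc_25_2 lc_d_rc_25_2 lc_d_rc_27_2 lc_d_Cert_tree lc_d_Cert_tree lc_d_rc_24_0 lc_d_rc_24_0 lc_d_rc_18_3 lc_d_rc_25_2 lc_d_rc_18_3 lc_d_rc_25_2 lc_d_rc_11_1 lc_d_rc_27_2 lc_d_rc_24_0 lc_d_rc_27_2 lc_d_rc_28_2 lc_d_rc_24_0 lc_d_rc_24_0) (@D3.rec (fun _ => (Cert rels S Gen.d)) lc_d_rc_24_0 lc_d_rc_18_3 lc_d_rc_25_2 lc_d_rc_29_2 lc_d_rc_25_2 lc_d_Cert_tree lc_d_rc_26_2 lc_d_rc_25_2 lc_d_rc_25_2 lc_d_rc_25_2 lc_d_rc_3_1 lc_d_rc_28_2 lc_d_rc_24_0 lc_d_Cert_tree lc_d_rc_24_0 lc_d_rc_24_0 lc_d_rc_26_2 lc_d_rc_26_2 lc_d_rc_29_2 lc_d_rc_11_3 lc_d_rc_18_3 lc_d_rc_25_2 lc_d_rc_27_2 lc_d_rc_27_2 lc_d_rc_26_0 lc_d_rc_25_4 lc_d_rc_24_0 lc_d_rc_24_0 lc_d_rc_18_3 lc_d_rc_11_1 lc_d_rc_18_3 lc_d_rc_25_2)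 (@D3.rec (fun _ => (Cert rels S Gen.d)) lc_d_rc_29_0 lc_d_rc_27_2 lc_d_rc_28_2 lc_d_rc_24_0 lc_d_rc_24_0 lc_d_rc_25_2 lc_d_rc_29_2 lc_d_rc_27_2 lc_d_rc_27_2 lc_d_rc_28_2 lc_d_rc_18_3 lc_d_rc_25_2 lc_d_rc_27_2 lc_d_rc_11_1 lc_d_Cert_tree lc_d_rc_24_0 lc_d_rc_25_2 lc_d_Cert_tree lc_d_Cert_tree lc_d_rc_24_0 lc_d_rc_24_0 lc_d_rc_18_3 lc_d_rc_25_2 lc_d_rc_27_2 lc_d_Cert_tree lc_d_Cert_tree lc_d_rc_24_0 lc_d_rc_24_0 lc_d_rc_26_2 lc_d_rc_25_2 lc_d_rc_24_0 lc_d_rc_18_3) (@D3.rec (fun _ => (Cert rels S Gen.d)) lc_d_rc_25_2 lc_d_rc_11_1 lc_d_rc_18_3 lc_d_rc_27_2 lc_d_rc_28_2 lc_d_rc_18_3 lc_d_rc_11_1 lc_d_Cert_tree lc_d_rc_3_1 lc_d_rc_3_3 lc_d_Cert_tree lc_d_rc_24_0 lc_d_rc_3_1 lc_d_rc_25_2 lc_d_rc_27_2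 lc_d_Cert_tree lc_d_Cert_tree lc_d_rc_24_0 lc_d_rc_24_0 lc_d_rc_26_2 lc_d_rc_25_2 lc_d_rc_18_3 lc_d_rc_25_2 lc_d_rc_25_2 lc_d_rc_27_2 lc_d_rc_28_2 lc_d_rc_24_0 lc_d_rc_24_0 lc_d_rc_24_0 lc_d_rc_25_2 lc_d_rc_25_2 lc_d_rc_27_2) (@D3.rec (fun _ => (Cert rels S Gen.d)) lc_d_rc_25_2 lc_d_rc_25_2 lc_d_rc_28_2 lc_d_rc_24_0 lc_d_rc_24_0 lc_d_rc_24_0 lc_d_rc_25_2 lc_d_rc_25_2 lc_d_rc_25_0 lc_d_rc_25_2 lc_d_rc_25_2 lc_d_rc_28_2 lc_d_Cert_tree lc_d_Cert_tree lc_d_rc_24_0 lc_d_rc_24_0 lc_d_rc_3_1 lc_d_rc_25_2 lc_d_rc_3_1 lc_d_rc_3_1 lc_d_rc_11_1 lc_d_rc_25_2 lc_d_rc_27_2 lc_d_rc_28_2 lc_d_rc_24_0 lc_d_rc_24_0 lc_d_rc_24_0 lc_d_rc_18_3 lc_d_rc_25_2 lc_d_rc_18_3 lc_d_rc_25_2 lc_d_rc_18_3) (@D3.rec (fun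 _ => (Cert rels S Gen.d)) lc_d_Cert_tree lc_d_rc_25_0 lc_d_rc_25_2 lc_d_rc_11_1 lc_d_rc_25_2 lc_d_rc_11_1 lc_d_rc_27_2 lc_d_rc_28_2 lc_d_rc_18_3 lc_d_rc_25_2 lc_d_rc_25_2 lc_d_rc_25_2 lc_d_rc_28_0 lc_d_rc_27_2 lc_d_rc_25_2 lc_d_rc_27_2 lc_d_rc_45_51 lc_d_rc_24_0 lc_d_rc_27_2 lc_d_rc_26_2 lc_d_rc_27_2 lc_d_rc_29_0 lc_d_rc_25_2 lc_d_rc_3_3 lc_d_rc_29_0 lc_d_rc_18_3 lc_d_rc_11_1 lc_d_rc_45_66 lc_d_rc_11_1 lc_d_rc_3_1 lc_d_rc_3_1 lc_d_rc_24_0) (@D3.rec (fun _ => (Cert rels S Gen.d)) lc_d_rc_24_0 lc_d_rc_3_1 lc_d_rc_3_1 lc_d_rc_11_1 lc_d_rc_18_3 lc_d_Cert_tree lc_d_Cert_tree lc_d_rc_24_0 lc_d_rc_26_0 lc_d_rc_3_1 lc_d_rc_28_0 lc_d_rc_27_2 lc_d_rc_24_0 lc_d_rc_26_2 lc_d_rc_29_2 lc_d_rc_11_1 lc_d_rc_11_1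 lc_d_rc_27_2 lc_d_rc_3_1 lc_d_rc_18_3 lc_d_rc_24_0 lc_d_rc_26_2 lc_d_rc_25_2 lc_d_rc_24_0 lc_d_rc_24_0 lc_d_rc_18_3 lc_d_rc_25_2 lc_d_rc_27_2 lc_d_rc_18_3 lc_d_rc_25_2 lc_d_rc_11_1 lc_d_Cert_tree) (@D3.rec (fun _ => (Cert rels S Gen.d)) lc_d_rc_25_2 lc_d_rc_24_0 lc_d_rc_26_2 lc_d_rc_25_2 lc_d_rc_11_1 lc_d_rc_18_3 lc_d_rc_27_2 lc_d_rc_28_2 lc_d_rc_24_0 lc_d_rc_18_3 lc_d_rc_25_2 lc_d_rc_18_3 lc_d_Cert_tree lc_d_rc_27_2 lc_d_rc_24_0 lc_d_rc_27_2 lc_d_rc_28_2 lc_d_rc_24_0 lc_d_rc_24_0 lc_d_rc_18_3 lc_d_rc_25_2 lc_d_rc_29_2 lc_d_rc_25_2 lc_d_rc_11_1 lc_d_Cert_tree lc_d_rc_26_2 lc_d_rc_25_2 lc_d_rc_25_2 lc_d_rc_3_1 lc_d_rc_11_1 lc_d_rc_18_3 lc_d_rc_28_2) (@D3.rec (fun _ => (Cert rels S Gen.d)) lc_d_rc_18_3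 lc_d_rc_11_1 lc_d_Cert_tree lc_d_rc_3_1 lc_d_Cert_tree lc_d_rc_24_0 lc_d_rc_27_2 lc_d_rc_24_0 lc_d_rc_24_0 lc_d_rc_26_2 lc_d_rc_29_2 lc_d_rc_24_0 lc_d_rc_24_0 lc_d_rc_26_2 lc_d_rc_25_2 lc_d_rc_24_0 lc_d_rc_18_3 lc_d_rc_26_2 lc_d_rc_11_1 lc_d_rc_18_3 lc_d_rc_27_2 lc_d_rc_28_2 lc_d_rc_18_3 lc_d_rc_11_1 lc_d_Cert_tree lc_d_rc_3_1 lc_d_rc_24_0 lc_d_rc_24_0 lc_d_rc_26_2 lc_d_rc_25_2 lc_d_rc_26_2 lc_d_rc_25_2)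
def ce_d_16 : D2 → D3 → (Cert rels S Gen.d) := @D2.rec (fun _ => D3 → (Cert rels S Gen.d)) (@D3.rec (fun _ => (Cert rels S Gen.d)) lc_d_Cert_tree lc_d_rc_27_2 lc_d_rc_3_1 lc_d_rc_26_0 lc_d_rc_18_3 lc_d_rc_28_2 lc_d_rc_18_3 lc_d_rc_25_2 lc_d_rc_18_3 lc_d_rc_25_2 lc_d_rc_18_3 lc_d_rc_25_2 lc_d_rc_11_1 lc_d_Cert_tree lc_d_rc_27_2 lc_d_rc_11_1 lc_d_Cert_tree lc_d_rc_27_2 lc_d_rc_3_1 lc_d_Cert_tree lc_d_rc_24_0 lc_d_rc_27_2 lc_d_rc_26_2 lc_d_rc_3_1 lc_d_rc_25_0 lc_d_rc_18_1 lc_d_rc_24_0 lc_d_rc_27_2 lc_d_rc_28_2 lc_d_rc_3_1 lc_d_rc_11_1 lc_d_rc_18_3) (@D3.rec (fun _ => (Cert rels S Gen.d)) lc_d_rc_26_2 lc_d_rc_11_1 lc_d_Cert_tree lc_d_rc_24_0 lc_d_rc_3_1 lc_d_Cert_tree lc_d_rc_24_0 lc_d_Cert_tree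 lc_d_rc_24_0 lc_d_rc_28_0 lc_d_rc_11_1 lc_d_rc_24_0 lc_d_rc_24_0 lc_d_rc_26_2 lc_d_rc_25_2 lc_d_rc_24_0 lc_d_rc_24_0 lc_d_rc_18_3 lc_d_rc_25_2 lc_d_rc_27_2 lc_d_rc_18_3 lc_d_rc_25_2 lc_d_rc_11_1 lc_d_rc_25_2 lc_d_rc_18_3 lc_d_rc_25_2 lc_d_rc_24_0 lc_d_rc_18_3 lc_d_rc_25_2 lc_d_rc_27_2 lc_d_rc_3_1 lc_d_rc_25_2) (@D3.rec (fun _ => (Cert rels S Gen.d)) lc_d_rc_24_0 lc_d_rc_25_2 lc_d_Cert_tree lc_d_rc_27_2 lc_d_rc_24_0 lc_d_rc_24_0 lc_d_rc_26_2 lc_d_rc_25_2 lc_d_rc_18_3 lc_d_rc_25_2 lc_d_rc_11_1 lc_d_rc_18_3 lc_d_rc_27_2 lc_d_rc_28_2 lc_d_rc_25_2 lc_d_rc_18_3 lc_d_rc_25_2 lc_d_rc_27_2 lc_d_rc_29_0 lc_d_rc_18_1 lc_d_rc_46_17 lc_d_rc_25_2 lc_d_rc_27_2 lc_d_rc_28_2 lc_d_rc_24_0 lc_d_rc_25_2 lc_d_rc_18_3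 lc_d_rc_27_2 lc_d_rc_24_0 lc_d_rc_25_2 lc_d_rc_25_2 lc_d_rc_27_2) (@D3.rec (fun _ => (Cert rels S Gen.d)) lc_d_rc_24_0 lc_d_rc_27_2 lc_d_rc_28_2 lc_d_rc_24_0 lc_d_rc_24_0 lc_d_rc_3_3 lc_d_rc_29_2 lc_d_rc_25_2 lc_d_rc_11_1 lc_d_rc_28_2 lc_d_rc_3_1 lc_d_rc_25_2 lc_d_rc_25_2 lc_d_rc_25_2 lc_d_rc_3_1 lc_d_rc_11_1 lc_d_rc_18_3 lc_d_rc_28_2 lc_d_rc_3_1 lc_d_rc_24_0 lc_d_rc_26_2 lc_d_rc_25_2 lc_d_rc_25_2 lc_d_rc_26_4 lc_d_rc_24_0 lc_d_rc_25_2 lc_d_rc_24_0 lc_d_rc_25_2 lc_d_rc_27_2 lc_d_rc_24_0 lc_d_rc_26_2 lc_d_rc_25_2) (@D3.rec (fun _ => (Cert rels S Gen.d)) lc_d_rc_24_0 lc_d_rc_18_3 lc_d_rc_25_2 lc_d_rc_11_1 lc_d_rc_18_3 lc_d_rc_27_2 lc_d_rc_28_2 lc_d_Cert_tree lc_d_rc_3_1 lc_d_rc_25_4 lc_d_rc_25_2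 lc_d_rc_26_2 lc_d_rc_25_2 lc_d_rc_11_1 lc_d_rc_25_2 lc_d_rc_27_2 lc_d_rc_28_2 lc_d_rc_25_4 lc_d_rc_24_0 lc_d_rc_24_0 lc_d_rc_26_2 lc_d_rc_25_2 lc_d_rc_25_2 lc_d_rc_28_0 lc_d_rc_27_2 lc_d_rc_28_2 lc_d_rc_24_0 lc_d_rc_24_0 lc_d_rc_24_0 lc_d_rc_26_2 lc_d_rc_25_2 lc_d_rc_26_2) (@D3.rec (fun _ => (Cert rels S Gen.d)) lc_d_rc_25_2 lc_d_rc_11_1 lc_d_Cert_tree lc_d_rc_27_2 lc_d_rc_25_2 lc_d_rc_11_1 lc_d_rc_45_63 lc_d_rc_25_2 lc_d_rc_3_1 lc_d_rc_11_1 lc_d_rc_18_3 lc_d_rc_28_2 lc_d_rc_26_2 lc_d_rc_25_2 lc_d_rc_29_0 lc_d_rc_27_2 lc_d_rc_28_2 lc_d_rc_26_0 lc_d_rc_18_3 lc_d_rc_25_2 lc_d_rc_18_3 lc_d_rc_29_0 lc_d_rc_27_2 lc_d_rc_28_2 lc_d_rc_24_0 lc_d_rc_18_3 lc_d_rc_25_2 lc_d_rc_11_1 lc_d_rc_29_0 lc_d_rc_26_2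 lc_d_rc_25_2 lc_d_rc_11_1) (@D3.rec (fun _ => (Cert rels S Gen.d)) lc_d_Cert_tree lc_d_rc_25_2 lc_d_rc_3_1 lc_d_rc_11_1 lc_d_rc_27_2 lc_d_rc_28_2 lc_d_rc_24_0 lc_d_rc_24_0 lc_d_rc_26_2 lc_d_rc_25_2 lc_d_rc_3_1 lc_d_rc_3_1 lc_d_rc_27_2 lc_d_rc_28_2 lc_d_rc_24_0 lc_d_rc_24_0 lc_d_rc_24_0 lc_d_rc_18_3 lc_d_rc_25_2 lc_d_rc_18_3 lc_d_rc_11_1 lc_d_rc_18_3 lc_d_Cert_tree lc_d_rc_11_1 lc_d_rc_18_3 lc_d_rc_25_2 lc_d_Cert_tree lc_d_rc_25_2 lc_d_rc_11_1 lc_d_rc_11_3 lc_d_rc_28_2 lc_d_rc_25_2) (@D3.rec (fun _ => (Cert rels S Gen.d)) lc_d_rc_25_2 lc_d_rc_18_3 lc_d_rc_25_2 lc_d_rc_11_1 lc_d_rc_18_1 lc_d_rc_27_2 lc_d_rc_11_1 lc_d_Cert_tree lc_d_rc_29_2 lc_d_rc_3_1 lc_d_Cert_tree lc_d_rc_24_0 lc_d_rc_27_2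 lc_d_rc_28_2 lc_d_rc_27_2 lc_d_rc_25_2 lc_d_rc_18_3 lc_d_rc_25_2 lc_d_rc_3_1 lc_d_rc_11_1 lc_d_rc_18_3 lc_d_rc_11_1 lc_d_Cert_tree lc_d_rc_3_1 lc_d_rc_11_1 lc_d_rc_3_1 lc_d_Cert_tree lc_d_rc_24_0 lc_d_Cert_tree lc_d_rc_24_0 lc_d_rc_24_0 lc_d_rc_27_2) (@D3.rec (fun _ => (Cert rels S Gen.d)) lc_d_rc_27_0 lc_d_rc_25_2 lc_d_rc_27_2 lc_d_rc_26_0 lc_d_rc_46_31 lc_d_rc_25_4 lc_d_rc_18_3 lc_d_rc_25_4 lc_d_rc_3_1 lc_d_rc_28_2 lc_d_rc_28_2 lc_d_rc_26_4 lc_d_rc_26_2 lc_d_rc_25_2 lc_d_rc_25_2 lc_d_rc_27_2 lc_d_rc_24_0 lc_d_rc_3_1 lc_d_rc_25_2 lc_d_rc_24_0 lc_d_rc_18_3 lc_d_rc_25_2 lc_d_Cert_tree lc_d_rc_27_2 lc_d_rc_24_0 lc_d_rc_25_2 lc_d_rc_18_3 lc_d_rc_25_2 lc_d_rc_11_1 lc_d_rc_29_0 lc_d_rc_27_2 lc_d_rc_28_2)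 (@D3.rec (fun _ => (Cert rels S Gen.d)) lc_d_rc_11_1 lc_d_Cert_tree lc_d_rc_3_1 lc_d_rc_27_2 lc_d_rc_11_1 lc_d_rc_27_2 lc_d_rc_11_3 lc_d_rc_11_1 lc_d_rc_27_2 lc_d_rc_26_2 lc_d_rc_27_2 lc_d_rc_3_3 lc_d_rc_28_2 lc_d_rc_24_0 lc_d_rc_24_0 lc_d_rc_25_2 lc_d_rc_25_2 lc_d_rc_27_2 lc_d_rc_25_2 lc_d_rc_28_2 lc_d_rc_26_2 lc_d_rc_25_2 lc_d_rc_3_1 lc_d_rc_27_2 lc_d_rc_28_2 lc_d_rc_18_3 lc_d_rc_25_2 lc_d_rc_24_1 lc_d_rc_27_2 lc_d_rc_24_0 lc_d_rc_27_2 lc_d_rc_28_2) (@D3.rec (fun _ => (Cert rels S Gen.d)) lc_d_rc_25_2 lc_d_rc_25_2 lc_d_rc_26_2 lc_d_rc_27_2 lc_d_rc_28_2 lc_d_rc_24_0 lc_d_rc_3_1 lc_d_rc_25_2 lc_d_rc_25_2 lc_d_rc_27_2 lc_d_rc_25_2 lc_d_rc_28_2 lc_d_rc_24_0 lc_d_rc_24_0 lc_d_rc_18_3 lc_d_rc_25_2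 lc_d_rc_18_3 lc_d_rc_25_2 lc_d_Cert_tree lc_d_rc_26_2 lc_d_rc_25_2 lc_d_rc_25_2 lc_d_rc_11_1 lc_d_rc_28_2 lc_d_rc_27_2 lc_d_rc_26_2 lc_d_rc_28_2 lc_d_rc_25_2 lc_d_rc_25_2 lc_d_rc_25_2 lc_d_rc_11_3 lc_d_rc_27_2) (@D3.rec (fun _ => (Cert rels S Gen.d)) lc_d_Cert_tree lc_d_rc_27_2 lc_d_rc_24_0 lc_d_rc_27_2 lc_d_rc_26_2 lc_d_rc_27_2 lc_d_rc_29_2 lc_d_rc_25_2 lc_d_rc_18_3 lc_d_rc_24_0 lc_d_rc_26_2 lc_d_rc_29_2 lc_d_rc_29_2 lc_d_rc_3_3 lc_d_rc_18_3 lc_d_rc_27_2 lc_d_rc_28_2 lc_d_rc_27_2 lc_d_rc_18_3 lc_d_rc_11_3 lc_d_rc_18_3 lc_d_rc_11_1 lc_d_Cert_tree lc_d_rc_11_1 lc_d_rc_28_2 lc_d_rc_25_2 lc_d_rc_29_0 lc_d_rc_28_2 lc_d_rc_25_2 lc_d_rc_29_2 lc_d_rc_27_2 lc_d_rc_29_2) (@D3.rec (fun _ => (Cert rels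 S Gen.d)) lc_d_rc_28_2 lc_d_rc_28_2 lc_d_rc_11_1 lc_d_rc_28_2 lc_d_rc_27_2 lc_d_rc_28_2 lc_d_rc_3_1 lc_d_rc_24_0 lc_d_rc_25_2 lc_d_rc_27_2 lc_d_rc_24_0 lc_d_rc_24_0 lc_d_rc_26_2 lc_d_rc_25_2 lc_d_rc_25_2 lc_d_rc_11_1 lc_d_rc_28_2 lc_d_rc_27_2 lc_d_rc_28_2 lc_d_rc_24_0 lc_d_rc_24_0 lc_d_rc_26_2 lc_d_rc_25_2 lc_d_rc_29_2 lc_d_rc_25_2 lc_d_rc_11_1 lc_d_rc_26_4 lc_d_rc_27_2 lc_d_rc_18_3 lc_d_rc_25_2 lc_d_rc_11_1 lc_d_Cert_tree) (@D3.rec (fun _ => (Cert rels S Gen.d)) lc_d_rc_25_2 lc_d_rc_3_1 lc_d_rc_11_1 lc_d_rc_18_3 lc_d_rc_28_2 lc_d_rc_3_1 lc_d_rc_24_0 lc_d_rc_24_0 lc_d_rc_26_2 lc_d_rc_3_1 lc_d_rc_11_1 lc_d_rc_25_2 lc_d_rc_27_2 lc_d_rc_28_2 lc_d_rc_24_0 lc_d_rc_24_0 lc_d_rc_26_2 lc_d_rc_25_2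 lc_d_rc_26_2 lc_d_rc_25_2 lc_d_Cert_tree lc_d_rc_27_2 lc_d_rc_45_48 lc_d_rc_25_2 lc_d_rc_27_2 lc_d_rc_28_2 lc_d_rc_18_3 lc_d_rc_25_2 lc_d_rc_25_2 lc_d_rc_25_2 lc_d_rc_27_2 lc_d_rc_27_2) (@D3.rec (fun _ => (Cert rels S Gen.d)) lc_d_rc_28_2 lc_d_rc_27_2 lc_d_rc_25_2 lc_d_rc_18_3 lc_d_rc_25_2 lc_d_rc_25_2 lc_d_rc_25_2 lc_d_rc_27_2 lc_d_rc_25_0 lc_d_rc_25_0 lc_d_rc_27_2 lc_d_rc_25_2 lc_d_rc_24_0 lc_d_rc_24_0 lc_d_rc_3_1 lc_d_rc_25_2 lc_d_rc_3_1 lc_d_rc_25_2 lc_d_rc_11_1 lc_d_rc_26_4 lc_d_rc_26_2 lc_d_rc_18_3 lc_d_rc_3_1 lc_d_rc_11_1 lc_d_rc_27_2 lc_d_rc_28_2 lc_d_rc_18_3 lc_d_rc_25_2 lc_d_rc_25_2 lc_d_rc_25_2 lc_d_rc_11_1 lc_d_rc_27_2) (@D3.rec (fun _ => (Cert rels S Gen.d)) lc_d_Cert_tree lc_d_rc_25_0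 lc_d_Cert_tree lc_d_rc_24_0 lc_d_rc_27_2 lc_d_rc_25_0 lc_d_rc_27_2 lc_d_rc_45_57 lc_d_rc_25_2 lc_d_rc_11_1 lc_d_rc_27_2 lc_d_rc_25_2 lc_d_rc_27_2 lc_d_rc_27_2 lc_d_rc_27_2 lc_d_rc_45_21 lc_d_rc_28_2 lc_d_rc_3_3 lc_d_rc_28_2 lc_d_rc_27_2 lc_d_rc_27_2 lc_d_rc_28_2 lc_d_rc_27_2 lc_d_rc_3_3 lc_d_rc_28_2 lc_d_rc_3_1 lc_d_rc_3_1 lc_d_rc_11_1 lc_d_rc_24_0 lc_d_rc_24_0 lc_d_rc_45_48 lc_d_rc_27_0) (@D3.rec (fun _ => (Cert rels S Gen.d)) lc_d_rc_29_2 lc_d_rc_11_1 lc_d_rc_11_1 lc_d_rc_3_1 lc_d_rc_18_3 lc_d_rc_25_2 lc_d_Cert_tree lc_d_rc_27_2 lc_d_rc_26_2 lc_d_rc_25_2 lc_d_rc_18_3 lc_d_rc_25_2 lc_d_rc_11_1 lc_d_rc_18_3 lc_d_rc_27_2 lc_d_rc_28_2 lc_d_rc_11_1 lc_d_Cert_tree lc_d_rc_3_1 lc_d_rc_24_0 lc_d_rc_27_2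 lc_d_rc_25_2 lc_d_rc_26_2 lc_d_rc_11_1 lc_d_rc_11_1 lc_d_Cert_tree lc_d_rc_27_2 lc_d_rc_11_1 lc_d_rc_18_3 lc_d_rc_28_2 lc_d_rc_18_3 lc_d_rc_25_2) (@D3.rec (fun _ => (Cert rels S Gen.d)) lc_d_rc_18_3 lc_d_Cert_tree lc_d_rc_26_2 lc_d_rc_18_3 lc_d_rc_24_0 lc_d_rc_27_2 lc_d_rc_28_2 lc_d_rc_27_2 lc_d_rc_26_2 lc_d_rc_28_2 lc_d_rc_25_2 lc_d_rc_18_3 lc_d_rc_25_2 lc_d_rc_18_1 lc_d_rc_27_2 lc_d_rc_11_1 lc_d_Cert_tree lc_d_rc_27_2 lc_d_rc_3_1 lc_d_Cert_tree lc_d_rc_24_0 lc_d_rc_27_2 lc_d_rc_26_2 lc_d_rc_27_2 lc_d_rc_25_2 lc_d_rc_3_1 lc_d_rc_11_1 lc_d_rc_18_3 lc_d_rc_3_1 lc_d_Cert_tree lc_d_rc_24_0 lc_d_Cert_tree) (@D3.rec (fun _ => (Cert rels S Gen.d)) lc_d_rc_24_0 lc_d_rc_26_2 lc_d_rc_26_2 lc_d_rc_29_2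 lc_d_rc_26_2 lc_d_rc_25_2 lc_d_rc_26_2 lc_d_rc_25_2 lc_d_rc_11_1 lc_d_Cert_tree lc_d_rc_27_2 lc_d_rc_18_3 lc_d_rc_26_2 lc_d_rc_11_1 lc_d_Cert_tree lc_d_rc_3_3 lc_d_rc_3_1 lc_d_rc_11_1 lc_d_rc_18_3 lc_d_rc_28_2 lc_d_rc_3_1 lc_d_rc_24_0 lc_d_rc_18_3 lc_d_rc_25_2 lc_d_rc_26_2 lc_d_rc_25_2 lc_d_Cert_tree lc_d_rc_27_2 lc_d_Cert_tree lc_d_rc_27_2 lc_d_rc_24_0 lc_d_rc_27_2) (@D3.rec (fun _ => (Cert rels S Gen.d)) lc_d_rc_28_2 lc_d_rc_3_1 lc_d_rc_26_0 lc_d_rc_18_3 lc_d_rc_29_0 lc_d_rc_27_2 lc_d_rc_18_3 lc_d_rc_27_2 lc_d_rc_11_1 lc_d_Cert_tree lc_d_rc_27_2 lc_d_rc_18_1 lc_d_rc_24_0 lc_d_rc_27_2 lc_d_rc_28_2 lc_d_rc_3_1 lc_d_Cert_tree lc_d_rc_24_0 lc_d_rc_27_2 lc_d_rc_28_2 lc_d_Cert_tree lc_d_rc_24_0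 lc_d_rc_27_2 lc_d_rc_27_2 lc_d_rc_28_2 lc_d_rc_18_3 lc_d_rc_25_0 lc_d_rc_18_1 lc_d_rc_27_2 lc_d_rc_25_2 lc_d_rc_28_2 lc_d_rc_3_1) (@D3.rec (fun _ => (Cert rels S Gen.d)) lc_d_rc_11_1 lc_d_rc_24_0 lc_d_Cert_tree lc_d_rc_24_0 lc_d_rc_26_2 lc_d_rc_24_0 lc_d_rc_3_1 lc_d_rc_25_2 lc_d_rc_18_3 lc_d_rc_25_2 lc_d_Cert_tree lc_d_rc_27_2 lc_d_rc_26_2 lc_d_rc_25_2 lc_d_rc_18_3 lc_d_rc_25_2 lc_d_rc_11_1 lc_d_rc_18_3 lc_d_rc_27_2 lc_d_rc_28_2 lc_d_rc_11_1 lc_d_Cert_tree lc_d_rc_3_1 lc_d_rc_25_4 lc_d_rc_3_3 lc_d_rc_27_2 lc_d_rc_26_2 lc_d_rc_25_2 lc_d_rc_25_2 lc_d_rc_27_2 lc_d_rc_28_2 lc_d_rc_25_2) (@D3.rec (fun _ => (Cert rels S Gen.d)) lc_d_rc_27_2 lc_d_rc_25_2 lc_d_rc_27_2 lc_d_rc_24_0 lc_d_rc_27_2 lc_d_rc_28_2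 lc_d_rc_26_2 lc_d_rc_25_2 lc_d_rc_26_2 lc_d_rc_25_2 lc_d_rc_11_1 lc_d_Cert_tree lc_d_rc_27_2 lc_d_rc_28_2 lc_d_rc_25_2 lc_d_rc_11_1 lc_d_rc_18_3 lc_d_rc_28_2 lc_d_rc_27_2 lc_d_rc_3_1 lc_d_rc_27_2 lc_d_rc_28_2 lc_d_rc_27_2 lc_d_rc_18_1 lc_d_rc_29_0 lc_d_rc_27_2 lc_d_rc_28_2 lc_d_rc_29_2 lc_d_rc_27_2 lc_d_rc_18_3 lc_d_rc_28_2 lc_d_rc_25_2)
def ce_d_17 : D2 → D3 → (Cert rels S Gen.d) := @D2.rec (fun _ => D3 → (Cert rels S Gen.d)) (@D3.rec (fun _ => (Cert rels S Gen.d)) lc_d_rc_26_2 lc_d_rc_25_2 lc_d_rc_28_2 lc_d_rc_27_2 lc_d_rc_26_2 lc_d_rc_28_2 lc_d_rc_25_2 lc_d_rc_25_2 lc_d_rc_18_1 lc_d_rc_28_2 lc_d_rc_26_0 lc_d_rc_3_1 lc_d_rc_11_1 lc_d_rc_28_0 lc_d_rc_3_1 lc_d_rc_27_2 lc_d_rc_26_2 lc_d_rc_25_2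 lc_d_rc_3_1 lc_d_rc_11_1 lc_d_rc_18_3 lc_d_rc_26_2 lc_d_rc_26_2 lc_d_rc_27_2 lc_d_rc_26_4 lc_d_rc_25_2 lc_d_rc_27_2 lc_d_rc_25_2 lc_d_rc_27_2 lc_d_rc_28_2 lc_d_rc_26_2 lc_d_rc_3_1) (@D3.rec (fun _ => (Cert rels S Gen.d)) lc_d_rc_11_1 lc_d_Cert_tree lc_d_rc_27_2 lc_d_rc_25_2 lc_d_Cert_tree lc_d_rc_25_2 lc_d_rc_3_1 lc_d_rc_11_1 lc_d_rc_18_3 lc_d_rc_28_2 lc_d_rc_24_0 lc_d_rc_25_4 lc_d_rc_25_2 lc_d_rc_11_1 lc_d_Cert_tree lc_d_rc_25_4 lc_d_rc_11_1 lc_d_rc_27_2 lc_d_rc_28_2 lc_d_rc_25_4 lc_d_rc_25_2 lc_d_rc_28_0 lc_d_rc_25_2 lc_d_rc_26_2 lc_d_rc_27_2 lc_d_rc_25_2 lc_d_rc_18_3 lc_d_rc_28_2 lc_d_rc_18_3 lc_d_rc_25_2 lc_d_rc_25_2 lc_d_rc_26_2) (@D3.rec (fun _ => (Cert rels S Gen.d)) lc_d_rc_25_2 lc_d_rc_11_1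 lc_d_Cert_tree lc_d_rc_27_2 lc_d_rc_11_1 lc_d_Cert_tree lc_d_rc_26_2 lc_d_rc_3_1 lc_d_Cert_tree lc_d_rc_24_0 lc_d_rc_27_2 lc_d_rc_28_2 lc_d_rc_27_2 lc_d_rc_11_1 lc_d_rc_3_3 lc_d_rc_25_2 lc_d_rc_25_2 lc_d_rc_11_1 lc_d_rc_18_3 lc_d_Cert_tree lc_d_rc_26_2 lc_d_rc_11_3 lc_d_rc_28_2 lc_d_rc_26_0 lc_d_rc_18_3 lc_d_Cert_tree lc_d_rc_26_2 lc_d_rc_11_1 lc_d_rc_29_0 lc_d_rc_28_2 lc_d_rc_25_2 lc_d_rc_11_1) (@D3.rec (fun _ => (Cert rels S Gen.d)) lc_d_Cert_tree lc_d_rc_26_4 lc_d_rc_3_1 lc_d_rc_11_1 lc_d_rc_29_0 lc_d_rc_27_2 lc_d_rc_27_2 lc_d_rc_18_1 lc_d_rc_24_0 lc_d_rc_27_2 lc_d_rc_25_2 lc_d_rc_11_1 lc_d_rc_27_2 lc_d_rc_25_2 lc_d_rc_29_2 lc_d_rc_11_1 lc_d_Cert_tree lc_d_rc_26_2 lc_d_rc_3_1 lc_d_rc_11_3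 lc_d_rc_28_2 lc_d_rc_18_3 lc_d_rc_25_2 lc_d_rc_18_3 lc_d_rc_25_2 lc_d_rc_18_3 lc_d_rc_25_2 lc_d_Cert_tree lc_d_rc_27_2 lc_d_rc_18_3 lc_d_Cert_tree lc_d_rc_11_1) (@D3.rec (fun _ => (Cert rels S Gen.d)) lc_d_Cert_tree lc_d_rc_24_0 lc_d_rc_27_2 lc_d_rc_11_1 lc_d_rc_18_3 lc_d_rc_27_2 lc_d_rc_24_0 lc_d_rc_27_2 lc_d_rc_25_2 lc_d_rc_45_18 lc_d_rc_11_3 lc_d_rc_27_2 lc_d_rc_27_2 lc_d_rc_11_1 lc_d_rc_18_3 lc_d_rc_27_2 lc_d_rc_25_2 lc_d_rc_25_4 lc_d_rc_28_2 lc_d_rc_3_1 lc_d_Cert_tree lc_d_rc_24_0 lc_d_rc_27_2 lc_d_rc_29_2 lc_d_Cert_tree lc_d_rc_24_0 lc_d_rc_27_2 lc_d_rc_27_2 lc_d_rc_28_2 lc_d_rc_27_2 lc_d_rc_25_4 lc_d_rc_18_3) (@D3.rec (fun _ => (Cert rels S Gen.d)) lc_d_rc_3_1 lc_d_rc_11_1 lc_d_rc_24_0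 lc_d_Cert_tree lc_d_rc_24_0 lc_d_rc_26_2 lc_d_rc_24_0 lc_d_rc_18_3 lc_d_rc_26_2 lc_d_rc_26_2 lc_d_rc_27_2 lc_d_rc_27_2 lc_d_rc_18_1 lc_d_rc_25_4 lc_d_rc_47_16 lc_d_rc_3_1 lc_d_rc_3_1 lc_d_Cert_tree lc_d_rc_25_2 lc_d_rc_27_2 lc_d_rc_28_2 lc_d_rc_18_3 lc_d_rc_25_2 lc_d_Cert_tree lc_d_rc_27_2 lc_d_rc_18_3 lc_d_rc_11_1 lc_d_rc_11_1 lc_d_Cert_tree lc_d_rc_27_2 lc_d_rc_24_0 lc_d_rc_27_2) (@D3.rec (fun _ => (Cert rels S Gen.d)) lc_d_rc_28_2 lc_d_rc_25_2 lc_d_rc_27_2 lc_d_rc_11_1 lc_d_Cert_tree lc_d_rc_25_2 lc_d_rc_3_1 lc_d_rc_11_1 lc_d_rc_29_0 lc_d_rc_28_2 lc_d_rc_3_1 lc_d_Cert_tree lc_d_rc_24_0 lc_d_rc_28_2 lc_d_rc_11_1 lc_d_rc_3_1 lc_d_rc_3_1 lc_d_rc_28_2 lc_d_rc_27_2 lc_d_rc_28_2 lc_d_rc_3_3 lc_d_rc_25_2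 lc_d_rc_25_2 lc_d_rc_27_2 lc_d_rc_27_2 lc_d_rc_28_2 lc_d_rc_25_2 lc_d_Cert_tree lc_d_rc_26_2 lc_d_rc_3_1 lc_d_rc_28_2 lc_d_Cert_tree) (@D3.rec (fun _ => (Cert rels S Gen.d)) lc_d_rc_26_2 lc_d_rc_11_1 lc_d_rc_28_2 lc_d_rc_27_2 lc_d_rc_25_2 lc_d_rc_28_2 lc_d_rc_26_4 lc_d_rc_25_0 lc_d_rc_26_2 lc_d_rc_27_0 lc_d_rc_3_1 lc_d_rc_3_1 lc_d_Cert_tree lc_d_rc_26_2 lc_d_rc_25_2 lc_d_rc_28_2 lc_d_rc_25_2 lc_d_rc_18_3 lc_d_rc_25_2 lc_d_rc_18_3 lc_d_rc_25_2 lc_d_Cert_tree lc_d_rc_27_2 lc_d_Cert_tree lc_d_rc_27_2 lc_d_rc_24_0 lc_d_rc_27_2 lc_d_rc_26_2 lc_d_rc_27_2 lc_d_rc_25_2 lc_d_rc_25_0 lc_d_rc_28_2) (@D3.rec (fun _ => (Cert rels S Gen.d)) lc_d_rc_26_2 lc_d_rc_29_2 lc_d_rc_27_2 lc_d_rc_27_2 lc_d_rc_27_2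 lc_d_rc_27_2 lc_d_rc_28_2 lc_d_rc_24_0 lc_d_rc_27_2 lc_d_rc_28_2 lc_d_rc_27_2 lc_d_rc_28_2 lc_d_rc_27_2 lc_d_rc_28_2 lc_d_rc_29_2 lc_d_rc_11_3 lc_d_rc_18_3 lc_d_rc_28_2 lc_d_Cert_tree lc_d_rc_11_3 lc_d_Cert_tree lc_d_rc_11_1 lc_d_rc_24_0 lc_d_rc_27_2 lc_d_rc_11_1 lc_d_rc_45_48 lc_d_rc_25_2 lc_d_rc_29_0 lc_d_rc_27_2 lc_d_rc_29_2 lc_d_rc_28_2 lc_d_rc_29_2) (@D3.rec (fun _ => (Cert rels S Gen.d)) lc_d_rc_3_1 lc_d_rc_11_1 lc_d_rc_28_0 lc_d_rc_28_2 lc_d_rc_3_1 lc_d_rc_27_2 lc_d_rc_28_2 lc_d_rc_25_2 lc_d_rc_29_2 lc_d_rc_25_2 lc_d_rc_11_1 lc_d_Cert_tree lc_d_rc_27_2 lc_d_rc_3_1 lc_d_rc_3_1 lc_d_rc_18_1 lc_d_rc_28_0 lc_d_rc_28_2 lc_d_rc_25_2 lc_d_rc_29_2 lc_d_rc_25_2 lc_d_rc_11_1 lc_d_Cert_tree lc_d_rc_27_2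 lc_d_rc_11_1 lc_d_rc_29_2 lc_d_rc_27_2 lc_d_rc_3_1 lc_d_rc_11_1 lc_d_rc_27_2 lc_d_rc_28_2 lc_d_rc_25_2) (@D3.rec (fun _ => (Cert rels S Gen.d)) lc_d_rc_27_2 lc_d_rc_3_1 lc_d_rc_25_2 lc_d_rc_24_0 lc_d_rc_27_2 lc_d_rc_25_2 lc_d_rc_25_2 lc_d_rc_11_1 lc_d_rc_18_3 lc_d_rc_26_2 lc_d_rc_25_2 lc_d_rc_11_1 lc_d_Cert_tree lc_d_rc_3_1 lc_d_rc_11_1 lc_d_rc_27_2 lc_d_rc_28_2 lc_d_rc_18_3 lc_d_rc_25_2 lc_d_rc_25_2 lc_d_Cert_tree lc_d_rc_27_2 lc_d_Cert_tree lc_d_rc_27_2 lc_d_rc_24_0 lc_d_rc_27_2 lc_d_rc_28_2 lc_d_rc_11_1 lc_d_rc_25_2 lc_d_rc_27_2 lc_d_rc_18_3 lc_d_rc_27_2) (@D3.rec (fun _ => (Cert rels S Gen.d)) lc_d_rc_27_2 lc_d_rc_27_2 lc_d_rc_28_2 lc_d_rc_28_2 lc_d_rc_27_2 lc_d_rc_18_3 lc_d_rc_27_2 lc_d_rc_27_2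 lc_d_rc_27_2 lc_d_rc_28_2 lc_d_rc_25_0 lc_d_rc_28_2 lc_d_rc_3_1 lc_d_rc_25_2 lc_d_rc_25_2 lc_d_rc_25_2 lc_d_rc_27_2 lc_d_rc_11_1 lc_d_rc_29_2 lc_d_rc_25_2 lc_d_rc_11_1 lc_d_rc_27_2 lc_d_rc_26_2 lc_d_rc_45_30 lc_d_rc_3_1 lc_d_rc_3_1 lc_d_rc_27_2 lc_d_rc_18_3 lc_d_rc_27_2 lc_d_rc_27_2 lc_d_rc_27_2 lc_d_rc_11_1) (@D3.rec (fun _ => (Cert rels S Gen.d)) lc_d_rc_28_2 lc_d_rc_24_0 lc_d_rc_27_2 lc_d_rc_25_0 lc_d_rc_24_0 lc_d_rc_27_2 lc_d_rc_27_2 lc_d_rc_28_2 lc_d_rc_27_2 lc_d_rc_11_1 lc_d_rc_11_1 lc_d_rc_27_2 lc_d_rc_28_2 lc_d_rc_27_2 lc_d_rc_27_2 lc_d_rc_3_3 lc_d_rc_25_2 lc_d_rc_3_3 lc_d_rc_28_2 lc_d_rc_11_1 lc_d_rc_3_1 lc_d_rc_11_1 lc_d_Cert_tree lc_d_rc_27_2 lc_d_rc_24_0 lc_d_rc_27_2 lc_d_rc_28_2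 lc_d_rc_11_1 lc_d_Cert_tree lc_d_rc_27_2 lc_d_rc_11_1 lc_d_Cert_tree) (@D3.rec (fun _ => (Cert rels S Gen.d)) lc_d_rc_26_2 lc_d_rc_3_1 lc_d_rc_11_1 lc_d_rc_18_3 lc_d_rc_28_2 lc_d_rc_3_1 lc_d_Cert_tree lc_d_rc_24_0 lc_d_rc_27_2 lc_d_rc_26_2 lc_d_rc_28_2 lc_d_rc_11_1 lc_d_Cert_tree lc_d_rc_11_1 lc_d_Cert_tree lc_d_rc_24_0 lc_d_rc_27_2 lc_d_rc_28_2 lc_d_rc_11_1 lc_d_rc_18_3 lc_d_rc_18_3 lc_d_Cert_tree lc_d_rc_27_2 lc_d_Cert_tree lc_d_rc_24_0 lc_d_rc_27_2 lc_d_rc_26_2 lc_d_rc_18_3 lc_d_rc_27_2 lc_d_rc_26_2 lc_d_rc_28_2 lc_d_rc_25_2) (@D3.rec (fun _ => (Cert rels S Gen.d)) lc_d_rc_28_2 lc_d_rc_26_2 lc_d_rc_29_2 lc_d_rc_27_2 lc_d_rc_18_1 lc_d_rc_26_2 lc_d_rc_25_4 lc_d_rc_28_2 lc_d_rc_3_1 lc_d_Cert_tree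 lc_d_rc_24_0 lc_d_rc_27_2 lc_d_rc_28_2 lc_d_Cert_tree lc_d_rc_24_0 lc_d_rc_27_2 lc_d_rc_27_2 lc_d_rc_28_2 lc_d_rc_28_2 lc_d_rc_11_1 lc_d_Cert_tree lc_d_rc_24_0 lc_d_rc_24_0 lc_d_rc_29_2 lc_d_rc_29_2 lc_d_Cert_tree lc_d_rc_25_4 lc_d_rc_11_1 lc_d_Cert_tree lc_d_rc_27_2 lc_d_rc_3_1 lc_d_Cert_tree) (@D3.rec (fun _ => (Cert rels S Gen.d)) lc_d_rc_24_0 lc_d_rc_27_2 lc_d_rc_28_2 lc_d_rc_25_2 lc_d_rc_27_2 lc_d_rc_3_1 lc_d_rc_25_2 lc_d_rc_24_0 lc_d_rc_27_2 lc_d_rc_28_2 lc_d_rc_3_1 lc_d_rc_11_1 lc_d_rc_18_3 lc_d_Cert_tree lc_d_rc_27_2 lc_d_Cert_tree lc_d_rc_27_2 lc_d_rc_24_0 lc_d_rc_27_2 lc_d_rc_28_2 lc_d_rc_24_0 lc_d_rc_27_2 lc_d_rc_28_2 lc_d_rc_27_2 lc_d_rc_28_2 lc_d_rc_3_1 lc_d_rc_45_45 lc_d_rc_28_2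 lc_d_rc_11_1 lc_d_rc_27_2 lc_d_rc_18_3 lc_d_rc_24_0) (@D3.rec (fun _ => (Cert rels S Gen.d)) lc_d_rc_27_2 lc_d_rc_28_2 lc_d_rc_11_3 lc_d_rc_27_2 lc_d_rc_28_2 lc_d_Cert_tree lc_d_rc_24_0 lc_d_rc_27_2 lc_d_rc_27_2 lc_d_rc_26_2 lc_d_rc_28_2 lc_d_rc_24_0 lc_d_rc_27_2 lc_d_rc_27_2 lc_d_rc_28_2 lc_d_rc_28_2 lc_d_rc_3_1 lc_d_rc_18_1 lc_d_rc_28_2 lc_d_rc_26_2 lc_d_rc_3_1 lc_d_rc_24_0 lc_d_rc_11_1 lc_d_Cert_tree lc_d_rc_27_2 lc_d_rc_11_1 lc_d_Cert_tree lc_d_rc_27_2 lc_d_rc_24_0 lc_d_rc_27_2 lc_d_rc_28_2 lc_d_rc_11_1) (@D3.rec (fun _ => (Cert rels S Gen.d)) lc_d_Cert_tree lc_d_rc_27_2 lc_d_rc_11_1 lc_d_Cert_tree lc_d_rc_25_2 lc_d_rc_3_1 lc_d_rc_11_1 lc_d_rc_18_3 lc_d_rc_28_2 lc_d_rc_24_0 lc_d_rc_25_4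 lc_d_rc_11_3 lc_d_rc_27_2 lc_d_Cert_tree lc_d_rc_26_2 lc_d_rc_27_2 lc_d_rc_28_2 lc_d_rc_27_2 lc_d_rc_28_2 lc_d_rc_26_2 lc_d_rc_28_2 lc_d_rc_27_2 lc_d_rc_26_2 lc_d_rc_28_2 lc_d_Cert_tree lc_d_rc_25_4 lc_d_Cert_tree lc_d_rc_25_2 lc_d_Cert_tree lc_d_rc_24_0 lc_d_rc_27_2 lc_d_rc_28_2) (@D3.rec (fun _ => (Cert rels S Gen.d)) lc_d_rc_18_3 lc_d_rc_25_2 lc_d_rc_11_1 lc_d_rc_18_3 lc_d_rc_28_2 lc_d_rc_18_3 lc_d_rc_28_2 lc_d_rc_29_0 lc_d_rc_18_1 lc_d_rc_27_2 lc_d_rc_29_2 lc_d_rc_28_2 lc_d_rc_18_3 lc_d_rc_26_4 lc_d_rc_26_2 lc_d_rc_25_2 lc_d_rc_28_2 lc_d_rc_26_2 lc_d_rc_27_2 lc_d_rc_26_2 lc_d_rc_25_4 lc_d_rc_28_0 lc_d_rc_26_0 lc_d_rc_28_2 lc_d_rc_11_1 lc_d_rc_27_2 lc_d_rc_27_2 lc_d_rc_27_2 lc_d_rc_25_2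 lc_d_rc_11_1 lc_d_rc_26_2 lc_d_rc_28_2) (@D3.rec (fun _ => (Cert rels S Gen.d)) lc_d_rc_27_2 lc_d_rc_28_2 lc_d_rc_27_2 lc_d_rc_28_2 lc_d_Cert_tree lc_d_rc_3_1 lc_d_Cert_tree lc_d_rc_24_0 lc_d_rc_27_2 lc_d_rc_28_2 lc_d_rc_27_2 lc_d_rc_24_0 lc_d_rc_27_2 lc_d_rc_25_2 lc_d_rc_3_1 lc_d_rc_11_1 lc_d_rc_18_3 lc_d_rc_26_2 lc_d_Cert_tree lc_d_rc_24_0 lc_d_rc_27_2 lc_d_rc_25_4 lc_d_rc_11_1 lc_d_rc_27_2 lc_d_rc_27_2 lc_d_rc_18_3 lc_d_rc_26_2 lc_d_rc_26_2 lc_d_rc_28_2 lc_d_rc_25_2 lc_d_rc_18_3 lc_d_Cert_tree) (@D3.rec (fun _ => (Cert rels S Gen.d)) lc_d_rc_27_2 lc_d_rc_27_2 lc_d_rc_11_1 lc_d_Cert_tree lc_d_rc_27_2 lc_d_Cert_tree lc_d_rc_24_0 lc_d_rc_27_2 lc_d_rc_28_2 lc_d_rc_3_1 lc_d_Cert_tree lc_d_rc_24_0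 lc_d_rc_27_2 lc_d_rc_26_2 lc_d_Cert_tree lc_d_rc_24_0 lc_d_rc_27_2 lc_d_rc_27_2 lc_d_rc_28_2 lc_d_rc_27_2 lc_d_rc_47_23 lc_d_rc_18_3 lc_d_rc_25_2 lc_d_rc_25_0 lc_d_rc_24_0 lc_d_rc_27_2 lc_d_rc_26_2 lc_d_rc_18_3 lc_d_Cert_tree lc_d_rc_24_0 lc_d_rc_27_2 lc_d_rc_26_2) (@D3.rec (fun _ => (Cert rels S Gen.d)) lc_d_rc_11_1 lc_d_rc_29_0 lc_d_rc_27_2 lc_d_rc_26_4 lc_d_rc_24_0 lc_d_rc_27_2 lc_d_rc_26_4 lc_d_rc_45_60 lc_d_rc_11_1 lc_d_rc_29_0 lc_d_rc_28_2 lc_d_rc_3_1 lc_d_rc_27_2 lc_d_rc_28_2 lc_d_rc_11_1 lc_d_rc_26_4 lc_d_Cert_tree lc_d_rc_11_1 lc_d_rc_24_0 lc_d_rc_27_2 lc_d_rc_26_2 lc_d_rc_3_1 lc_d_rc_18_3 lc_d_Cert_tree lc_d_rc_27_2 lc_d_Cert_tree lc_d_rc_27_2 lc_d_Cert_tree lc_d_rc_26_2 lc_d_rc_24_0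 lc_d_rc_27_2 lc_d_rc_28_2)
def ce_d_18 : D2 → D3 → (Cert rels S Gen.d) := @D2.rec (fun _ => D3 → (Cert rels S Gen.d)) (@D3.rec (fun _ => (Cert rels S Gen.d)) lc_d_Cert_tree lc_d_rc_24_0 lc_d_rc_27_2 lc_d_rc_11_1 lc_d_rc_24_0 lc_d_rc_27_2 lc_d_rc_27_2 lc_d_rc_28_2 lc_d_rc_18_3 lc_d_rc_27_2 lc_d_rc_27_2 lc_d_rc_26_2 lc_d_rc_28_2 lc_d_rc_18_1 lc_d_rc_28_2 lc_d_rc_27_2 lc_d_rc_29_2 lc_d_rc_45_27 lc_d_rc_28_2 lc_d_rc_26_2 lc_d_rc_26_4 lc_d_Cert_tree lc_d_rc_24_0 lc_d_rc_27_2 lc_d_rc_27_2 lc_d_rc_26_2 lc_d_rc_28_2 lc_d_rc_24_0 lc_d_rc_27_2 lc_d_rc_18_3 lc_d_rc_27_2 lc_d_rc_28_2) (@D3.rec (fun _ => (Cert rels S Gen.d)) lc_d_rc_28_2 lc_d_rc_25_4 lc_d_rc_3_1 lc_d_rc_24_0 lc_d_rc_18_3 lc_d_rc_11_1 lc_d_rc_3_1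 lc_d_rc_29_2 lc_d_rc_28_2 lc_d_rc_18_1 lc_d_rc_28_2 lc_d_rc_24_0 lc_d_rc_27_2 lc_d_rc_25_2 lc_d_rc_28_2 lc_d_Cert_tree lc_d_rc_27_2 lc_d_rc_24_0 lc_d_rc_27_2 lc_d_rc_28_2 lc_d_Cert_tree lc_d_rc_11_1 lc_d_rc_3_1 lc_d_Cert_tree lc_d_rc_24_0 lc_d_rc_27_2 lc_d_rc_28_2 lc_d_rc_27_2 lc_d_rc_28_2 lc_d_rc_27_2 lc_d_rc_28_2 lc_d_rc_3_1) (@D3.rec (fun _ => (Cert rels S Gen.d)) lc_d_Cert_tree lc_d_rc_24_0 lc_d_rc_27_2 lc_d_rc_25_2 lc_d_rc_46_38 lc_d_rc_11_1 lc_d_rc_29_0 lc_d_rc_24_0 lc_d_rc_11_1 lc_d_rc_24_1 lc_d_rc_28_2 lc_d_rc_27_2 lc_d_rc_27_2 lc_d_rc_28_2 lc_d_rc_28_2 lc_d_rc_24_0 lc_d_rc_27_2 lc_d_rc_26_2 lc_d_rc_3_1 lc_d_rc_24_0 lc_d_rc_27_2 lc_d_rc_26_2 lc_d_rc_24_1 lc_d_rc_28_2 lc_d_rc_26_2 lc_d_rc_29_2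 lc_d_rc_26_4 lc_d_rc_25_0 lc_d_Cert_tree lc_d_rc_3_1 lc_d_rc_24_0 lc_d_rc_27_2) (@D3.rec (fun _ => (Cert rels S Gen.d)) lc_d_rc_26_2 lc_d_rc_25_2 lc_d_Cert_tree lc_d_rc_27_2 lc_d_Cert_tree lc_d_rc_25_4 lc_d_rc_24_0 lc_d_rc_27_2 lc_d_rc_28_2 lc_d_rc_24_0 lc_d_rc_27_2 lc_d_rc_28_2 lc_d_rc_27_2 lc_d_rc_28_2 lc_d_rc_28_2 lc_d_rc_26_2 lc_d_rc_29_2 lc_d_rc_28_2 lc_d_rc_27_2 lc_d_rc_27_2 lc_d_rc_11_3 lc_d_rc_27_2 lc_d_rc_28_2 lc_d_rc_28_2 lc_d_rc_18_3 lc_d_rc_24_0 lc_d_rc_27_2 lc_d_rc_11_3 lc_d_rc_24_0 lc_d_rc_27_2 lc_d_rc_11_1 lc_d_rc_27_2) (@D3.rec (fun _ => (Cert rels S Gen.d)) lc_d_rc_28_2 lc_d_rc_18_3 lc_d_rc_28_2 lc_d_rc_29_2 lc_d_rc_28_2 lc_d_rc_11_1 lc_d_rc_27_2 lc_d_rc_3_1 lc_d_rc_28_2 lc_d_rc_25_4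 lc_d_rc_11_1 lc_d_Cert_tree lc_d_rc_27_2 lc_d_rc_3_1 lc_d_Cert_tree lc_d_rc_24_0 lc_d_rc_27_2 lc_d_rc_28_2 lc_d_rc_25_2 lc_d_rc_45_39 lc_d_rc_18_1 lc_d_rc_27_2 lc_d_rc_27_2 lc_d_rc_11_1 lc_d_rc_3_1 lc_d_rc_27_2 lc_d_rc_25_2 lc_d_rc_24_0 lc_d_rc_27_2 lc_d_rc_28_2 lc_d_rc_3_1 lc_d_rc_11_1) (@D3.rec (fun _ => (Cert rels S Gen.d)) lc_d_rc_29_2 lc_d_rc_28_2 lc_d_rc_26_2 lc_d_rc_11_1 lc_d_rc_28_2 lc_d_rc_11_1 lc_d_rc_27_2 lc_d_rc_11_3 lc_d_rc_27_2 lc_d_rc_28_2 lc_d_rc_27_2 lc_d_rc_11_1 lc_d_rc_11_1 lc_d_Cert_tree lc_d_rc_25_2 lc_d_Cert_tree lc_d_rc_24_0 lc_d_rc_27_2 lc_d_rc_3_1 lc_d_rc_11_1 lc_d_rc_27_2 lc_d_Cert_tree lc_d_rc_27_2 lc_d_rc_27_2 lc_d_rc_24_0 lc_d_rc_27_2 lc_d_rc_28_2 lc_d_rc_24_0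 lc_d_rc_27_2 lc_d_rc_28_2 lc_d_rc_27_2 lc_d_rc_28_2) (@D3.rec (fun _ => (Cert rels S Gen.d)) lc_d_rc_11_1 lc_d_rc_18_3 lc_d_rc_28_2 lc_d_rc_28_2 lc_d_rc_27_2 lc_d_rc_18_3 lc_d_rc_28_2 lc_d_rc_28_2 lc_d_rc_27_2 lc_d_rc_46_38 lc_d_rc_27_2 lc_d_rc_27_2 lc_d_rc_27_2 lc_d_rc_28_2 lc_d_rc_11_1 lc_d_rc_29_2 lc_d_rc_25_2 lc_d_rc_11_1 lc_d_rc_28_2 lc_d_rc_18_3 lc_d_rc_11_1 lc_d_rc_18_3 lc_d_rc_28_2 lc_d_rc_27_2 lc_d_rc_27_2 lc_d_rc_11_1 lc_d_rc_27_2 lc_d_rc_28_2 lc_d_rc_27_2 lc_d_rc_28_2 lc_d_rc_28_2 lc_d_rc_28_2) (@D3.rec (fun _ => (Cert rels S Gen.d)) lc_d_rc_3_1 lc_d_Cert_tree lc_d_rc_24_0 lc_d_rc_27_2 lc_d_rc_28_2 lc_d_rc_27_2 lc_d_rc_26_2 lc_d_rc_28_2 lc_d_rc_3_1 lc_d_Cert_tree lc_d_rc_24_0 lc_d_rc_27_2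 lc_d_rc_28_2 lc_d_rc_3_1 lc_d_Cert_tree lc_d_rc_24_0 lc_d_rc_27_2 lc_d_rc_26_2 lc_d_rc_3_1 lc_d_rc_11_1 lc_d_rc_18_3 lc_d_rc_24_0 lc_d_rc_28_2 lc_d_rc_27_2 lc_d_rc_29_2 lc_d_Cert_tree lc_d_rc_24_0 lc_d_rc_27_2 lc_d_rc_11_1 lc_d_rc_24_0 lc_d_rc_27_2 lc_d_rc_27_2) (@D3.rec (fun _ => (Cert rels S Gen.d)) lc_d_rc_28_2 lc_d_rc_11_1 lc_d_Cert_tree lc_d_rc_24_0 lc_d_rc_27_2 lc_d_rc_28_2 lc_d_rc_24_0 lc_d_rc_27_2 lc_d_rc_27_2 lc_d_rc_26_2 lc_d_rc_28_2 lc_d_rc_18_3 lc_d_rc_28_2 lc_d_rc_26_2 lc_d_rc_29_2 lc_d_rc_25_2 lc_d_Cert_tree lc_d_rc_26_2 lc_d_rc_29_2 lc_d_rc_28_2 lc_d_rc_18_1 lc_d_rc_26_2 lc_d_rc_25_4 lc_d_Cert_tree lc_d_rc_24_0 lc_d_rc_27_2 lc_d_rc_27_2 lc_d_rc_28_2 lc_d_rc_24_0 lc_d_rc_27_2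 lc_d_rc_28_2 lc_d_rc_28_2) (@D3.rec (fun _ => (Cert rels S Gen.d)) lc_d_rc_24_0 lc_d_rc_24_0 lc_d_rc_27_2 lc_d_rc_25_4 lc_d_rc_3_1 lc_d_Cert_tree lc_d_rc_24_0 lc_d_rc_27_2 lc_d_rc_28_2 lc_d_Cert_tree lc_d_rc_24_0 lc_d_rc_27_2 lc_d_rc_27_2 lc_d_rc_28_2 lc_d_rc_25_2 lc_d_rc_28_2 lc_d_rc_46_38 lc_d_rc_25_2 lc_d_rc_27_2 lc_d_rc_28_2 lc_d_rc_3_1 lc_d_rc_11_1 lc_d_rc_24_0 lc_d_rc_27_2 lc_d_rc_28_2 lc_d_rc_24_0 lc_d_rc_27_2 lc_d_rc_28_2 lc_d_rc_27_2 lc_d_rc_28_2 lc_d_rc_27_2 lc_d_rc_26_2) (@D3.rec (fun _ => (Cert rels S Gen.d)) lc_d_rc_28_2 lc_d_rc_25_2 lc_d_rc_28_2 lc_d_rc_25_2 lc_d_rc_18_3 lc_d_rc_18_3 lc_d_rc_27_2 lc_d_rc_28_2 lc_d_rc_18_1 lc_d_rc_28_2 lc_d_rc_24_0 lc_d_rc_27_2 lc_d_rc_27_2 lc_d_rc_26_2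 lc_d_rc_28_2 lc_d_rc_28_2 lc_d_rc_26_2 lc_d_rc_27_2 lc_d_rc_28_2 lc_d_rc_28_2 lc_d_rc_27_2 lc_d_rc_3_1 lc_d_rc_24_0 lc_d_rc_27_2 lc_d_rc_28_2 lc_d_Cert_tree lc_d_rc_24_0 lc_d_rc_27_2 lc_d_rc_28_2 lc_d_rc_27_2 lc_d_rc_26_2 lc_d_rc_28_2) (@D3.rec (fun _ => (Cert rels S Gen.d)) lc_d_Cert_tree lc_d_rc_24_0 lc_d_rc_27_2 lc_d_rc_28_2 lc_d_rc_26_4 lc_d_rc_24_0 lc_d_rc_27_2 lc_d_rc_25_2 lc_d_rc_3_1 lc_d_rc_11_1 lc_d_rc_18_3 lc_d_rc_26_2 lc_d_rc_11_3 lc_d_rc_24_0 lc_d_rc_27_2 lc_d_rc_26_2 lc_d_rc_27_2 lc_d_rc_28_2 lc_d_rc_26_2 lc_d_rc_28_2 lc_d_rc_27_2 lc_d_rc_24_0 lc_d_rc_27_2 lc_d_rc_25_4 lc_d_rc_24_0 lc_d_rc_27_2 lc_d_rc_25_2 lc_d_rc_24_0 lc_d_rc_27_2 lc_d_rc_27_2 lc_d_rc_28_2 lc_d_rc_18_3) (@D3.rec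 (fun _ => (Cert rels S Gen.d)) lc_d_rc_11_1 lc_d_rc_18_3 lc_d_rc_29_2 lc_d_rc_26_4 lc_d_rc_26_2 lc_d_rc_28_2 lc_d_rc_26_2 lc_d_rc_27_2 lc_d_rc_3_1 lc_d_rc_11_1 lc_d_rc_25_2 lc_d_rc_28_2 lc_d_rc_28_2 lc_d_rc_24_0 lc_d_rc_27_2 lc_d_rc_3_1 lc_d_rc_24_0 lc_d_rc_27_2 lc_d_rc_27_2 lc_d_rc_28_2 lc_d_rc_27_2 lc_d_rc_27_2 lc_d_rc_26_2 lc_d_rc_28_2 lc_d_rc_3_1 lc_d_rc_11_1 lc_d_rc_24_0 lc_d_rc_27_2 lc_d_rc_27_2 lc_d_rc_28_2 lc_d_rc_11_1 lc_d_rc_27_2) (@D3.rec (fun _ => (Cert rels S Gen.d)) lc_d_rc_18_3 lc_d_rc_26_2 lc_d_rc_26_2 lc_d_rc_24_0 lc_d_rc_27_2 lc_d_rc_28_2 lc_d_rc_27_2 lc_d_Cert_tree lc_d_rc_24_0 lc_d_rc_27_2 lc_d_rc_27_2 lc_d_rc_24_0 lc_d_rc_27_2 lc_d_rc_27_2 lc_d_rc_28_2 lc_d_Cert_tree lc_d_rc_24_0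 lc_d_rc_27_2 lc_d_rc_27_2 lc_d_rc_26_2 lc_d_rc_28_2 lc_d_rc_24_0 lc_d_rc_27_2 lc_d_rc_27_2 lc_d_rc_28_2 lc_d_rc_25_2 lc_d_rc_28_2 lc_d_rc_47_16 lc_d_rc_25_2 lc_d_rc_27_2 lc_d_rc_28_2 lc_d_rc_24_0) (@D3.rec (fun _ => (Cert rels S Gen.d)) lc_d_rc_27_2 lc_d_rc_27_2 lc_d_rc_28_2 lc_d_rc_11_1 lc_d_rc_28_2 lc_d_rc_27_2 lc_d_rc_27_2 lc_d_rc_28_2 lc_d_rc_45_24 lc_d_rc_11_1 lc_d_rc_18_1 lc_d_rc_28_2 lc_d_rc_26_4 lc_d_rc_24_0 lc_d_rc_27_2 lc_d_rc_11_1 lc_d_rc_27_2 lc_d_rc_28_2 lc_d_rc_24_0 lc_d_rc_27_2 lc_d_rc_28_2 lc_d_rc_24_0 lc_d_rc_27_2 lc_d_rc_27_2 lc_d_rc_24_0 lc_d_rc_27_2 lc_d_rc_26_2 lc_d_rc_27_2 lc_d_rc_26_2 lc_d_rc_28_2 lc_d_rc_24_0 lc_d_rc_27_2) (@D3.rec (fun _ => (Cert rels S Gen.d)) lc_d_rc_27_2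 lc_d_rc_28_2 lc_d_rc_18_3 lc_d_rc_27_2 lc_d_rc_28_2 lc_d_rc_25_2 lc_d_rc_28_2 lc_d_rc_18_3 lc_d_rc_28_2 lc_d_rc_26_2 lc_d_rc_29_2 lc_d_rc_29_2 lc_d_rc_18_3 lc_d_rc_26_2 lc_d_rc_24_0 lc_d_rc_27_2 lc_d_rc_18_3 lc_d_rc_27_2 lc_d_rc_11_1 lc_d_rc_28_2 lc_d_rc_28_2 lc_d_rc_26_2 lc_d_rc_18_3 lc_d_rc_27_2 lc_d_rc_28_2 lc_d_rc_18_3 lc_d_rc_28_2 lc_d_rc_3_1 lc_d_rc_3_1 lc_d_rc_27_2 lc_d_rc_28_2 lc_d_rc_24_0) (@D3.rec (fun _ => (Cert rels S Gen.d)) lc_d_rc_27_2 lc_d_rc_28_2 lc_d_rc_27_2 lc_d_rc_28_2 lc_d_rc_24_0 lc_d_rc_27_2 lc_d_rc_11_1 lc_d_rc_45_54 lc_d_rc_24_0 lc_d_rc_27_2 lc_d_rc_27_2 lc_d_rc_28_2 lc_d_rc_25_2 lc_d_rc_28_2 lc_d_rc_28_2 lc_d_rc_25_2 lc_d_rc_24_0 lc_d_rc_27_2 lc_d_rc_27_2 lc_d_rc_28_2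 lc_d_rc_45_30 lc_d_rc_11_1 lc_d_rc_28_2 lc_d_rc_28_2 lc_d_rc_27_2 lc_d_rc_28_2 lc_d_rc_27_2 lc_d_rc_28_2 lc_d_rc_26_2 lc_d_rc_29_2 lc_d_rc_24_0 lc_d_rc_27_2) (@D3.rec (fun _ => (Cert rels S Gen.d)) lc_d_rc_3_1 lc_d_rc_27_2 lc_d_rc_28_2 lc_d_rc_24_0 lc_d_rc_27_2 lc_d_rc_28_2 lc_d_rc_24_0 lc_d_rc_27_2 lc_d_rc_25_4 lc_d_rc_27_2 lc_d_rc_28_2 lc_d_rc_27_2 lc_d_rc_26_2 lc_d_rc_28_2 lc_d_rc_25_2 lc_d_rc_28_2 lc_d_rc_29_2 lc_d_rc_28_2 lc_d_rc_27_2 lc_d_rc_28_2 lc_d_rc_27_2 lc_d_rc_28_2 lc_d_rc_25_2 lc_d_rc_28_2 lc_d_rc_45_57 lc_d_rc_11_1 lc_d_rc_3_1 lc_d_rc_25_4 lc_d_rc_3_1 lc_d_Cert_tree lc_d_rc_24_0 lc_d_rc_27_2) (@D3.rec (fun _ => (Cert rels S Gen.d)) lc_d_rc_28_2 lc_d_rc_45_54 lc_d_rc_24_0 lc_d_rc_27_2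 lc_d_rc_27_2 lc_d_rc_28_2 lc_d_rc_45_30 lc_d_rc_18_1 lc_d_rc_28_2 lc_d_rc_29_2 lc_d_rc_45_51 lc_d_rc_28_2 lc_d_rc_27_2 lc_d_rc_27_2 lc_d_rc_28_2 lc_d_rc_26_0 lc_d_rc_11_1 lc_d_rc_29_2 lc_d_rc_27_2 lc_d_rc_11_1 lc_d_rc_25_2 lc_d_rc_25_2 lc_d_rc_28_2 lc_d_rc_28_2 lc_d_Cert_tree lc_d_rc_24_0 lc_d_rc_27_2 lc_d_rc_25_2 lc_d_rc_24_0 lc_d_rc_27_2 lc_d_rc_27_2 lc_d_rc_28_2) (@D3.rec (fun _ => (Cert rels S Gen.d)) lc_d_rc_11_1 lc_d_rc_24_0 lc_d_rc_27_2 lc_d_rc_28_2 lc_d_rc_27_2 lc_d_rc_27_2 lc_d_rc_28_2 lc_d_rc_27_2 lc_d_rc_28_2 lc_d_rc_25_2 lc_d_rc_28_2 lc_d_rc_18_3 lc_d_rc_18_3 lc_d_rc_46_24 lc_d_rc_28_2 lc_d_rc_27_0 lc_d_rc_28_2 lc_d_rc_11_1 lc_d_rc_29_2 lc_d_rc_11_1 lc_d_rc_18_3 lc_d_rc_28_2 lc_d_rc_28_2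 lc_d_Cert_tree lc_d_rc_24_0 lc_d_rc_27_2 lc_d_rc_27_2 lc_d_rc_26_2 lc_d_rc_28_2 lc_d_rc_25_2 lc_d_rc_28_2 lc_d_rc_27_2) (@D3.rec (fun _ => (Cert rels S Gen.d)) lc_d_rc_29_2 lc_d_Cert_tree lc_d_rc_24_0 lc_d_rc_27_2 lc_d_rc_27_2 lc_d_rc_28_2 lc_d_rc_29_2 lc_d_rc_24_0 lc_d_rc_27_2 lc_d_rc_27_2 lc_d_rc_28_2 lc_d_rc_3_1 lc_d_rc_11_1 lc_d_rc_28_2 lc_d_rc_29_2 lc_d_rc_24_0 lc_d_rc_27_2 lc_d_rc_27_2 lc_d_rc_28_2 lc_d_rc_46_45 lc_d_rc_27_2 lc_d_rc_28_2 lc_d_rc_25_2 lc_d_rc_28_2 lc_d_rc_24_0 lc_d_rc_27_2 lc_d_rc_27_2 lc_d_rc_27_0 lc_d_rc_28_2 lc_d_rc_27_2 lc_d_rc_28_2 lc_d_rc_25_2) (@D3.rec (fun _ => (Cert rels S Gen.d)) lc_d_rc_28_2 lc_d_rc_26_2 lc_d_rc_29_2 lc_d_rc_26_2 lc_d_rc_29_2 lc_d_Cert_tree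 lc_d_rc_24_0 lc_d_rc_29_2 lc_d_rc_29_2 lc_d_rc_18_1 lc_d_rc_24_0 lc_d_rc_27_2 lc_d_rc_28_2 lc_d_rc_28_2 lc_d_rc_28_2 lc_d_rc_27_2 lc_d_rc_28_2 lc_d_rc_11_1 lc_d_rc_24_0 lc_d_rc_27_2 lc_d_rc_27_2 lc_d_rc_28_2 lc_d_rc_24_0 lc_d_rc_27_2 lc_d_rc_27_2 lc_d_rc_28_2 lc_d_rc_25_2 lc_d_rc_28_2 lc_d_rc_25_2 lc_d_rc_45_30 lc_d_rc_25_2 lc_d_rc_28_2)
def ce_d_19 : D2 → D3 → (Cert rels S Gen.d) := @D2.rec (fun _ => D3 → (Cert rels S Gen.d)) (@D3.rec (fun _ => (Cert rels S Gen.d)) lc_d_rc_3_1 lc_d_rc_27_2 lc_d_rc_28_2 lc_d_rc_27_2 lc_d_rc_28_2 lc_d_rc_25_2 lc_d_rc_28_2 lc_d_rc_25_2 lc_d_rc_28_2 lc_d_rc_26_2 lc_d_rc_25_2 lc_d_rc_18_3 lc_d_rc_28_2 lc_d_rc_27_2 lc_d_rc_26_2 lc_d_rc_28_2 lc_d_rc_28_2 lc_d_rc_26_2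 lc_d_rc_26_2 lc_d_rc_28_2 lc_d_rc_27_2 lc_d_rc_28_2 lc_d_rc_24_0 lc_d_rc_27_2 lc_d_rc_27_2 lc_d_rc_28_2 lc_d_rc_25_2 lc_d_rc_28_2 lc_d_rc_27_2 lc_d_rc_24_0 lc_d_rc_27_2 lc_d_rc_27_2) (@D3.rec (fun _ => (Cert rels S Gen.d)) lc_d_rc_28_2 lc_d_rc_27_2 lc_d_rc_27_2 lc_d_rc_27_0 lc_d_rc_28_2 lc_d_rc_3_1 lc_d_rc_11_1 lc_d_rc_27_2 lc_d_rc_28_2 lc_d_rc_28_2 lc_d_rc_27_2 lc_d_rc_28_2 lc_d_rc_27_2 lc_d_rc_28_2 lc_d_rc_27_2 lc_d_rc_28_2 lc_d_rc_25_2 lc_d_rc_28_2 lc_d_rc_3_1 lc_d_rc_27_2 lc_d_rc_26_2 lc_d_rc_28_2 lc_d_rc_27_2 lc_d_rc_28_2 lc_d_rc_25_2 lc_d_rc_28_2 lc_d_rc_28_2 lc_d_rc_26_2 lc_d_rc_3_1 lc_d_rc_27_2 lc_d_rc_28_2 lc_d_rc_25_2) (@D3.rec (fun _ => (Cert rels S Gen.d)) lc_d_rc_28_2 lc_d_rc_18_3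 lc_d_rc_27_2 lc_d_rc_28_2 lc_d_rc_24_0 lc_d_rc_27_2 lc_d_rc_27_2 lc_d_rc_28_2 lc_d_rc_18_3 lc_d_rc_27_2 lc_d_rc_28_2 lc_d_rc_25_2 lc_d_rc_28_2 lc_d_rc_24_0 lc_d_rc_27_2 lc_d_rc_27_2 lc_d_rc_11_1 lc_d_rc_28_2 lc_d_rc_25_2 lc_d_rc_28_2 lc_d_rc_26_2 lc_d_rc_27_2 lc_d_rc_28_2 lc_d_rc_11_1 lc_d_rc_28_2 lc_d_rc_25_2 lc_d_rc_25_2 lc_d_rc_28_2 lc_d_rc_27_2 lc_d_rc_28_2 lc_d_rc_25_2 lc_d_rc_28_2) (@D3.rec (fun _ => (Cert rels S Gen.d)) lc_d_rc_28_2 lc_d_rc_28_2 lc_d_rc_3_1 lc_d_rc_27_2 lc_d_rc_28_2 lc_d_rc_25_2 lc_d_rc_28_2 lc_d_rc_27_2 lc_d_rc_28_2 lc_d_rc_27_2 lc_d_rc_28_2 lc_d_rc_27_2 lc_d_rc_28_2 lc_d_rc_25_2 lc_d_rc_28_2 lc_d_rc_26_2 lc_d_rc_29_2 lc_d_rc_18_3 lc_d_rc_27_2 lc_d_rc_28_2 lc_d_rc_25_2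 lc_d_rc_28_2 lc_d_rc_18_3 lc_d_rc_25_2 lc_d_rc_28_2 lc_d_rc_25_2 lc_d_rc_26_2 lc_d_rc_29_2 lc_d_rc_29_2 lc_d_rc_3_1 lc_d_rc_27_2 lc_d_rc_29_2) (@D3.rec (fun _ => (Cert rels S Gen.d)) lc_d_rc_28_2 lc_d_rc_18_3 lc_d_rc_28_2 lc_d_rc_11_1 lc_d_rc_26_2 lc_d_rc_18_3 lc_d_rc_28_2 lc_d_rc_18_3 lc_d_rc_25_2 lc_d_rc_28_2 lc_d_rc_27_2 lc_d_rc_28_2 lc_d_rc_25_2 lc_d_rc_28_2 lc_d_rc_27_2 lc_d_rc_28_2 lc_d_rc_27_2 lc_d_rc_27_2 lc_d_rc_28_2 lc_d_rc_25_2 lc_d_rc_28_2 lc_d_rc_25_2 lc_d_rc_27_2 lc_d_rc_27_2 lc_d_rc_28_2 lc_d_rc_28_2 lc_d_rc_3_1 lc_d_rc_25_2 lc_d_rc_28_2 lc_d_rc_25_2 lc_d_rc_28_2 lc_d_rc_29_2) (@D3.rec (fun _ => (Cert rels S Gen.d)) lc_d_rc_27_2 lc_d_rc_26_2 lc_d_rc_28_2 lc_d_rc_45_36 lc_d_rc_28_2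 lc_d_rc_27_2 lc_d_rc_28_2 lc_d_rc_27_2 lc_d_rc_28_2 lc_d_rc_25_2 lc_d_rc_28_2 lc_d_rc_25_2 lc_d_rc_28_2 lc_d_rc_26_2 lc_d_rc_25_2 lc_d_rc_25_2 lc_d_rc_28_2 lc_d_rc_25_2 lc_d_rc_28_2 lc_d_rc_25_2 lc_d_rc_47_16 lc_d_rc_45_45 lc_d_rc_24_0 lc_d_rc_27_2 lc_d_rc_27_2 lc_d_rc_28_2 lc_d_rc_3_3 lc_d_rc_27_2 lc_d_rc_28_2 lc_d_rc_45_63 lc_d_rc_28_2 lc_d_rc_3_1) (@D3.rec (fun _ => (Cert rels S Gen.d)) lc_d_rc_29_2 lc_d_rc_3_1 lc_d_rc_28_2 lc_d_rc_28_2 lc_d_rc_27_2 lc_d_rc_11_1 lc_d_rc_28_2 lc_d_rc_24_0 lc_d_rc_27_2 lc_d_rc_27_2 lc_d_rc_28_2 lc_d_rc_27_2 lc_d_rc_28_2 lc_d_rc_25_2 lc_d_rc_28_2 lc_d_rc_27_2 lc_d_rc_28_2 lc_d_rc_25_2 lc_d_rc_28_2 lc_d_rc_25_2 lc_d_rc_28_2 lc_d_rc_25_2 lc_d_rc_47_23 lc_d_rc_11_1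 lc_d_rc_24_0 lc_d_rc_27_2 lc_d_rc_27_2 lc_d_rc_3_1 lc_d_rc_28_2 lc_d_rc_29_2 lc_d_rc_28_2 lc_d_rc_45_36) (@D3.rec (fun _ => (Cert rels S Gen.d)) lc_d_rc_25_2 lc_d_rc_45_33 lc_d_rc_28_2 lc_d_rc_29_2 lc_d_rc_24_0 lc_d_rc_27_2 lc_d_rc_29_0 lc_d_rc_27_2 lc_d_rc_28_2 lc_d_rc_29_0 lc_d_rc_28_2 lc_d_rc_29_2 lc_d_rc_27_2 lc_d_rc_28_2 lc_d_rc_28_2 lc_d_rc_3_1 lc_d_rc_29_2 lc_d_rc_46_31 lc_d_rc_27_2 lc_d_rc_28_2 lc_d_rc_25_2 lc_d_rc_28_2 lc_d_rc_3_1 lc_d_rc_25_2 lc_d_rc_28_2 lc_d_rc_25_2 lc_d_rc_27_2 lc_d_rc_11_1 lc_d_rc_28_2 lc_d_rc_25_2 lc_d_rc_28_2 lc_d_rc_26_2) (@D3.rec (fun _ => (Cert rels S Gen.d)) lc_d_rc_11_1 lc_d_rc_28_2 lc_d_rc_25_2 lc_d_rc_45_42 lc_d_rc_26_2 lc_d_rc_29_2 lc_d_rc_29_2 lc_d_rc_24_0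 lc_d_rc_29_2 lc_d_rc_29_2 lc_d_rc_28_2 lc_d_rc_25_2 lc_d_rc_28_2 lc_d_rc_27_2 lc_d_rc_27_2 lc_d_rc_28_2 lc_d_rc_25_2 lc_d_rc_28_2 lc_d_rc_27_2 lc_d_rc_28_2 lc_d_rc_45_60 lc_d_rc_28_2 lc_d_rc_25_2 lc_d_rc_46_17 lc_d_rc_25_2 lc_d_rc_28_2 lc_d_rc_25_2 lc_d_rc_28_2 lc_d_rc_25_2 lc_d_rc_25_2 lc_d_rc_45_60 lc_d_rc_26_2) (@D3.rec (fun _ => (Cert rels S Gen.d)) lc_d_rc_27_2 lc_d_rc_28_2 lc_d_rc_27_2 lc_d_rc_26_2 lc_d_rc_25_2 lc_d_rc_28_2 lc_d_rc_27_2 lc_d_rc_28_2 lc_d_rc_25_2 lc_d_rc_28_2 lc_d_rc_25_2 lc_d_rc_46_24 lc_d_rc_28_2 lc_d_rc_27_2 lc_d_rc_28_2 lc_d_rc_25_2 lc_d_rc_28_2 lc_d_rc_28_2 lc_d_rc_28_2 lc_d_rc_26_2 lc_d_rc_3_1 lc_d_rc_25_2 lc_d_rc_28_2 lc_d_rc_25_2 lc_d_rc_28_2 lc_d_rc_25_2 lc_d_rc_28_2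 lc_d_rc_25_2 lc_d_rc_28_2 lc_d_rc_25_2 lc_d_rc_25_2 lc_d_rc_28_2) (@D3.rec (fun _ => (Cert rels S Gen.d)) lc_d_rc_26_2 lc_d_rc_25_2 lc_d_rc_28_2 lc_d_rc_25_2 lc_d_rc_26_2 lc_d_rc_11_1 lc_d_rc_28_2 lc_d_rc_25_2 lc_d_rc_25_2 lc_d_rc_28_2 lc_d_rc_27_2 lc_d_rc_28_2 lc_d_rc_25_2 lc_d_rc_28_2 lc_d_rc_18_3 lc_d_rc_11_1 lc_d_rc_28_2 lc_d_rc_25_2 lc_d_rc_27_2 lc_d_rc_28_2 lc_d_rc_11_1 lc_d_rc_28_2 lc_d_rc_11_1 lc_d_rc_25_2 lc_d_rc_11_3 lc_d_rc_26_2 lc_d_rc_25_2 lc_d_rc_28_2 lc_d_rc_11_1 lc_d_rc_27_2 lc_d_rc_25_2 lc_d_rc_25_2) (@D3.rec (fun _ => (Cert rels S Gen.d)) lc_d_rc_28_2 lc_d_rc_25_2 lc_d_rc_25_2 lc_d_rc_28_2 lc_d_rc_25_2 lc_d_rc_25_2 lc_d_rc_28_2 lc_d_rc_25_2 lc_d_rc_28_2 lc_d_rc_25_2 lc_d_rc_28_2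 lc_d_rc_25_2 lc_d_rc_45_24 lc_d_rc_26_2 lc_d_rc_29_2 lc_d_rc_18_3 lc_d_rc_25_2 lc_d_rc_28_2 lc_d_rc_25_2 lc_d_rc_45_66 lc_d_rc_18_3 lc_d_rc_25_2 lc_d_rc_27_2 lc_d_rc_29_2 lc_d_rc_3_1 lc_d_rc_28_2 lc_d_rc_29_2 lc_d_rc_18_3 lc_d_rc_11_1 lc_d_rc_18_3 lc_d_rc_25_2 lc_d_rc_25_2) (@D3.rec (fun _ => (Cert rels S Gen.d)) lc_d_rc_28_2 lc_d_rc_25_2 lc_d_rc_25_2 lc_d_rc_28_2 lc_d_rc_3_3 lc_d_rc_45_54 lc_d_rc_28_2 lc_d_rc_25_2 lc_d_rc_27_2 lc_d_rc_28_2 lc_d_rc_28_2 lc_d_rc_25_2 lc_d_rc_25_2 lc_d_rc_25_2 lc_d_rc_28_2 lc_d_rc_27_2 lc_d_rc_3_3 lc_d_rc_25_2 lc_d_rc_28_2 lc_d_rc_25_2 lc_d_rc_28_2 lc_d_rc_25_2 lc_d_rc_25_2 lc_d_rc_45_33 lc_d_rc_26_2 lc_d_rc_27_2 lc_d_rc_25_2 lc_d_rc_25_2 lc_d_rc_27_2 lc_d_rc_45_36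 lc_d_rc_27_2 lc_d_rc_28_2) (@D3.rec (fun _ => (Cert rels S Gen.d)) lc_d_rc_45_54 lc_d_rc_28_2 lc_d_rc_3_3 lc_d_rc_45_24 lc_d_rc_28_2 lc_d_rc_18_5 lc_d_rc_29_2 lc_d_rc_28_2 lc_d_rc_27_2 lc_d_rc_28_2 lc_d_rc_25_2 lc_d_rc_28_2 lc_d_rc_24_0 lc_d_rc_28_2 lc_d_rc_25_2 lc_d_rc_25_2 lc_d_rc_28_2 lc_d_rc_25_2 lc_d_rc_25_2 lc_d_rc_27_2 lc_d_rc_27_2 lc_d_rc_28_2 lc_d_rc_11_1 lc_d_rc_28_2 lc_d_rc_3_1 lc_d_rc_29_2 lc_d_rc_26_4 lc_d_rc_28_2 lc_d_rc_27_2 lc_d_rc_3_3 lc_d_rc_3_3 lc_d_rc_29_2) (@D3.rec (fun _ => (Cert rels S Gen.d)) lc_d_rc_27_2 lc_d_rc_28_2 lc_d_rc_29_0 lc_d_rc_11_1 lc_d_rc_28_2 lc_d_rc_29_0 lc_d_rc_29_2 lc_d_rc_28_2 lc_d_rc_45_36 lc_d_rc_25_2 lc_d_rc_28_2 lc_d_rc_25_2 lc_d_rc_45_36 lc_d_rc_3_1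 lc_d_rc_25_2 lc_d_rc_25_0 lc_d_rc_11_1 lc_d_rc_28_2 lc_d_rc_27_2 lc_d_rc_25_2 lc_d_rc_26_2 lc_d_rc_26_2 lc_d_rc_11_1 lc_d_rc_27_2 lc_d_rc_45_24 lc_d_rc_3_1 lc_d_rc_29_2 lc_d_rc_29_2 lc_d_rc_25_2 lc_d_rc_28_2 lc_d_rc_3_3 lc_d_rc_28_2) (@D3.rec (fun _ => (Cert rels S Gen.d)) lc_d_rc_25_2 lc_d_rc_47_23 lc_d_rc_28_2 lc_d_rc_47_30 lc_d_rc_27_2 lc_d_rc_25_2 lc_d_rc_25_2 lc_d_rc_27_2 lc_d_rc_27_2 lc_d_rc_11_3 lc_d_rc_28_2 lc_d_rc_25_2 lc_d_rc_25_2 lc_d_rc_28_2 lc_d_rc_25_2 lc_d_rc_27_2 lc_d_rc_47_30 lc_d_rc_11_1 lc_d_rc_28_2 lc_d_rc_25_2 lc_d_rc_26_2 lc_d_rc_25_2 lc_d_rc_25_2 lc_d_rc_25_2 lc_d_rc_25_2 lc_d_rc_27_2 lc_d_rc_25_2 lc_d_rc_45_66 lc_d_rc_26_2 lc_d_rc_25_2 lc_d_rc_27_2 lc_d_rc_11_1) (@D3.rec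 (fun _ => (Cert rels S Gen.d)) lc_d_rc_27_2 lc_d_rc_25_2 lc_d_rc_11_1 lc_d_rc_28_2 lc_d_rc_25_2 lc_d_rc_45_45 lc_d_rc_18_3 lc_d_rc_11_1 lc_d_rc_27_2 lc_d_rc_25_2 lc_d_rc_28_2 lc_d_rc_11_1 lc_d_rc_3_3 lc_d_rc_11_1 lc_d_rc_27_2 lc_d_rc_47_30 lc_d_rc_25_2 lc_d_rc_11_1 lc_d_rc_27_2 lc_d_rc_25_2 lc_d_rc_25_4 lc_d_rc_25_2 lc_d_rc_27_2 lc_d_rc_25_2 lc_d_rc_25_2 lc_d_rc_25_2 lc_d_rc_27_2 lc_d_rc_47_44 lc_d_rc_3_1 lc_d_rc_29_2 lc_d_rc_45_39 lc_d_rc_18_3) (@D3.rec (fun _ => (Cert rels S Gen.d)) lc_d_rc_25_2 lc_d_rc_27_2 lc_d_rc_47_30 lc_d_rc_27_2 lc_d_rc_3_1 lc_d_rc_29_2 lc_d_rc_27_2 lc_d_rc_25_2 lc_d_rc_27_2 lc_d_rc_25_2 lc_d_rc_3_3 lc_d_rc_27_2 lc_d_rc_25_2 lc_d_rc_27_2 lc_d_rc_25_2 lc_d_rc_45_57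 lc_d_rc_28_2 lc_d_rc_3_3 lc_d_rc_25_2 lc_d_rc_25_2 lc_d_rc_27_2 lc_d_rc_27_2 lc_d_rc_18_1 lc_d_rc_27_2 lc_d_rc_25_4 lc_d_rc_3_3 lc_d_rc_45_51 lc_d_rc_28_2 lc_d_rc_45_69 lc_d_rc_47_30 lc_d_rc_24_1 lc_d_rc_45_24) (@D3.rec (fun _ => (Cert rels S Gen.d)) lc_d_rc_28_2 lc_d_rc_25_2 lc_d_rc_24_0 lc_d_rc_27_2 lc_d_rc_25_2 lc_d_rc_27_2 lc_d_rc_27_2 lc_d_rc_3_1 lc_d_rc_28_2 lc_d_rc_11_1 lc_d_rc_26_4 lc_d_rc_11_1 lc_d_rc_29_2 lc_d_rc_26_4 lc_d_rc_3_3 lc_d_rc_11_1 lc_d_rc_3_1 lc_d_rc_28_2 lc_d_rc_18_3 lc_d_rc_29_0 lc_d_rc_11_1 lc_d_rc_29_0 lc_d_rc_18_1 lc_d_rc_3_1 lc_d_rc_25_2 lc_d_rc_27_2 lc_d_rc_11_3 lc_d_rc_27_2 lc_d_rc_11_1 lc_d_rc_26_2 lc_d_rc_28_2 lc_d_rc_27_2) (@D3.rec (fun _ => (Cert rels S Gen.d))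 lc_d_rc_26_2 lc_d_rc_11_1 lc_d_rc_26_2 lc_d_rc_25_2 lc_d_rc_27_2 lc_d_rc_47_30 lc_d_rc_27_2 lc_d_rc_3_1 lc_d_rc_47_23 lc_d_rc_27_2 lc_d_rc_27_2 lc_d_rc_47_30 lc_d_rc_27_2 lc_d_rc_25_2 lc_d_rc_27_2 lc_d_rc_3_1 lc_d_rc_11_1 lc_d_rc_27_2 lc_d_rc_27_2 lc_d_rc_27_2 lc_d_rc_27_2 lc_d_rc_27_2 lc_d_rc_27_2 lc_d_rc_47_30 lc_d_rc_27_2 lc_d_rc_11_1 lc_d_rc_27_2 lc_d_rc_11_1 lc_d_rc_27_2 lc_d_rc_3_1 lc_d_rc_11_1 lc_d_rc_25_2) (@D3.rec (fun _ => (Cert rels S Gen.d)) lc_d_rc_11_1 lc_d_rc_11_1 lc_d_rc_25_4 lc_d_rc_27_2 lc_d_rc_27_2 lc_d_rc_27_2 lc_d_rc_27_2 lc_d_rc_27_2 lc_d_rc_27_2 lc_d_rc_3_1 lc_d_rc_3_1 lc_d_rc_11_1 lc_d_rc_27_2 lc_d_rc_11_1 lc_d_rc_27_2 lc_d_rc_27_2 lc_d_rc_3_3 lc_d_rc_27_2 lc_d_rc_47_30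 lc_d_rc_27_2 lc_d_rc_27_2 lc_d_rc_18_1 lc_d_rc_11_1 lc_d_rc_25_2 lc_d_rc_47_30 lc_d_rc_25_2 lc_d_rc_27_2 lc_d_rc_26_2 lc_d_rc_27_2 lc_d_rc_3_1 lc_d_rc_11_1 lc_d_rc_26_4) (@D3.rec (fun _ => (Cert rels S Gen.d)) lc_d_rc_26_4 lc_d_rc_24_1 lc_d_rc_3_1 lc_d_rc_18_3 lc_d_rc_11_1 lc_d_rc_18_1 lc_d_rc_27_2 lc_d_rc_18_3 lc_d_rc_11_1 lc_d_rc_26_2 lc_d_rc_26_2 lc_d_rc_26_2 lc_d_rc_47_30 lc_d_rc_11_3 lc_d_rc_27_2 lc_d_rc_11_1 lc_d_rc_3_1 lc_d_rc_11_1 lc_d_rc_3_1 lc_d_rc_27_2 lc_d_rc_25_4 lc_d_rc_3_1 lc_d_rc_45_18 lc_d_rc_47_30 lc_d_rc_25_2 lc_d_rc_26_0 lc_d_rc_3_1 lc_d_rc_26_4 lc_d_rc_3_1 lc_d_rc_18_3 lc_d_rc_18_1 lc_d_rc_26_2)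
def ce_d : Pt → (Cert rels S Gen.d) := @Pt.rec (fun _ => (Cert rels S Gen.d)) (@D1.rec (fun _ => D2 → D3 → (Cert rels S Gen.d)) ce_d_0 ce_d_1 ce_d_2 ce_d_3 ce_d_4 ce_d_5 ce_d_6 ce_d_7 ce_d_8 ce_d_9 ce_d_10 ce_d_11 ce_d_12 ce_d_13 ce_d_14 ce_d_15 ce_d_16 ce_d_17 ce_d_18 ce_d_19)
def isSeed_d (p : Pt) : Bool := false

end

end Cfsg.Agent.Helper28.S1685
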