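import Cfsg.Agent.Lib.Helper28.S1685.Tree

set_option autoImplicit false
set_option maxRecDepth 100000
set_option linter.all false

namespace Cfsg.Agent.Helper28.S1685

open Cfsg.Agent.Helper28
open Cfsg.Spor.Fi22 (Gen)

noncomputable section

def lv_e_0 : D2 → D3 → Nat := @D2.rec (fun _ => D3 → Nat) (@D3.rec (fun _ => Nat) 1 2 3 4 0 1 2 6 2 3 7 7 6 3 8 0 8 7 7 0 9 0 1 2 8 8 8 0 1 2 0 1) (@D3.rec (fun _ => Nat) 2 2 3 9 9 9 0 1 2 10 2 3 0 1 2 9 2 3 3 10 10 0 0 1 2 10 11 2 3 11 3 1) (@D3.rec (fun _ => Nat) 2 10 2 3 10 10 3 0 10 11 0 1 1 2 11 12 2 3 0 11 11 12 3 0 12 11 11 2 3 11 11 11) (@D3.rec (fun _ => Nat) 3 0 11 11 0 1 11 62 61 1 9 12 13 2 3 12 0 12 12 13 3 0 1 2 2 12 12 13 0 1 0 12) (@D3.rec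 (fun _ => Nat) 12 3 0 12 12 12 0 0 1 12 0 0 1 8 12 9 9 0 13 14 3 0 0 13 1 2 2 13 13 14 0 0) (@D3.rec (fun _ => Nat) 1 2 2 3 3 13 0 0 0 1 14 0 1 13 13 0 1 13 13 0 0 1 1 10 0 0 1 0 1 12 10 13) (@D3.rec (fun _ => Nat) 11 1 2 14 15 0 1 1 2 14 2 2 3 3 14 0 0 0 1 1 15 13 3 3 4 0 0 0 1 0 1 0) (@D3.rec (fun _ => Nat) 1 5 15 0 1 14 0 0 1 0 0 0 1 0 1 13 13 10 0 1 0 1 13 0 1 13 13 2 3 0 0 0) (@D3.rec (fun _ => Nat) 1 16 14 2 3 0 14 3 3 4 0 0 0 1 0 1 0 1 5 14 16 16 14 14 4 0 0 0 1 0 1 0) (@D3.rec (fun _ => Nat) 1 5 0 1 5 0 1 6 6 0 1 7 0 1 0 1 0 1 0 1 0 1 14 0 1 14 14 14 14 0 1 14) (@D3.rec (fun _ => Nat) 0 1 13 14 14 1 14 14 3 0 0 1 0 1 0 1 5 15 3 0 0 1 15 4 0 0 0 1 0 1 0 1) (@D3.rec (fun _ => Nat) 5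 0 1 5 0 1 15 6 6 0 15 15 15 0 0 1 0 1 0 1 5 0 1 7 0 1 14 6 6 0 1 7) (@D3.rec (fun _ => Nat) 6 6 1 7 7 1 8 8 0 1 0 1 0 1 15 0 1 15 0 1 5 15 15 1 15 15 15 15 0 1 14 15) (@D3.rec (fun _ => Nat) 15 1 14 15 0 15 15 15 0 0 1 0 1 5 0 1 5 0 1 6 16 0 0 1 0 1 5 16 0 0 1 0) (@D3.rec (fun _ => Nat) 1 0 1 5 0 1 7 0 1 5 6 6 0 1 16 6 6 1 16 7 0 16 7 1 2 16 16 0 0 1 0 1) (@D3.rec (fun _ => Nat) 15 0 1 6 0 1 15 6 6 0 1 15 7 7 1 15 7 0 7 1 8 7 15 8 7 8 8 9 9 9 9 0) (@D3.rec (fun _ => Nat) 1 17 1 0 1 5 16 0 1 18 16 16 1 6 16 60 6 16 16 16 16 16 1 15 16 0 15 16 15 16 15 0) (@D3.rec (fun _ => Nat) 16 1 2 16 0 1 0 1 5 0 1 19 6 0 1 17 6 1 7 0 0 1 0 1 5 0 1 5 6 6 0 0) (@D3.rec (fun _ => Nat) 1 0 1 16 0 1 6 0 1 6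 6 6 0 1 18 7 7 1 6 7 0 6 7 1 17 7 0 17 7 17 8 0) (@D3.rec (fun _ => Nat) 17 8 1 2 17 2 0 0 1 0 1 16 0 1 16 16 16 0 1 16 8 8 1 16 7 0 16 7 1 16 9 0) (@D3.rec (fun _ => Nat) 16 9 16 8 16 0 8 1 2 9 8 9 16 9 8 16 16 9 9 10 10 10 10 1 19 1 6 17 0 6 1 18) (@D3.rec (fun _ => Nat) 17 62 61 17 7 17 7 62 7 17 62 17 17 16 17 16 0 16 17 1 2 2 16 0 17 0 1 2 2 0 1 17)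
def lv_e_1 : D2 → D3 → Nat := @D2.rec (fun _ => D3 → Nat) (@D3.rec (fun _ => Nat) 0 1 19 6 1 19 7 0 1 18 7 63 18 8 0 1 0 1 17 0 1 6 6 6 1 6 7 0 6 7 0 1) (@D3.rec (fun _ => Nat) 0 1 17 0 1 7 17 17 0 1 20 8 8 1 7 7 0 7 7 1 20 9 0 61 9 7 8 7 0 7 8 1) (@D3.rec (fun _ => Nat) 2 2 7 18 8 18 0 18 8 1 67 2 18 0 18 9 1 2 18 2 17 0 1 0 1 17 0 1 17 17 17 1) (@D3.rec (fun _ => Nat) 17 17 0 17 17 1 17 8 0 17 8 17 8 17 0 17 8 1 2 2 17 17 9 17 0 17 9 1 2 2 17 0) (@D3.rec (fun _ => Nat) 9 0 1 2 2 10 17 10 9 17 10 17 17 10 17 17 11 11 11 0 11 19 19 7 18 7 0 7 1 61 20 18) (@D3.rec (fun _ => Nat) 20 62 61 18 62 8 62 8 18 62 8 62 17 0 17 18 0 17 1 2 2 2 2 4 17 0 1 2 1 2 2 15) (@D3.rec (fun _ => Nat) 0 1 21 18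 1 21 7 0 21 21 8 21 0 1 19 8 19 66 19 66 19 0 1 18 0 1 7 18 18 1 7 7) (@D3.rec (fun _ => Nat) 0 7 7 7 8 7 0 7 8 1 2 2 7 0 1 18 0 1 20 18 18 1 8 18 0 8 18 1 20 8 0 20) (@D3.rec (fun _ => Nat) 8 8 8 8 0 8 8 1 2 2 8 20 9 20 0 63 9 1 2 2 63 8 0 8 9 0 8 1 2 2 8 2) (@D3.rec (fun _ => Nat) 2 19 0 19 9 0 19 1 67 2 19 2 67 3 1 2 19 2 8 18 0 1 18 0 1 5 18 18 1 18 18 0) (@D3.rec (fun _ => Nat) 18 18 18 18 18 0 18 18 1 2 2 18 18 10 18 0 18 10 1 69 67 18 18 0 18 9 0 18 1 2 2 18) (@D3.rec (fun _ => Nat) 2 2 77 76 18 0 18 11 0 18 1 2 2 2 2 64 18 0 1 2 1 2 2 14 11 18 11 18 18 11 18 18) (@D3.rec (fun _ => Nat) 0 11 18 18 18 12 0 12 1 2 21 8 0 8 0 8 1 63 20 64 63 19 64 63 64 9 62 9 64 64 18 0) (@D3.rec (fun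 _ => Nat) 18 1 2 2 1 2 2 0 2 2 4 68 4 17 0 1 2 2 64 2 15 1 21 19 0 21 21 8 21 0 21 1) (@D3.rec (fun _ => Nat) 2 21 21 0 0 1 20 68 20 67 20 66 20 68 0 1 18 19 19 1 8 19 0 8 19 8 8 8 0 8 8 1) (@D3.rec (fun _ => Nat) 2 2 8 8 0 8 9 0 8 1 2 2 8 2 2 4 63 0 1 18 19 19 1 22 19 0 22 19 9 19 9 0) (@D3.rec (fun _ => Nat) 9 19 1 2 2 9 22 10 22 0 22 10 1 2 2 22 9 0 9 9 0 9 1 2 2 9 2 2 4 3 22 0) (@D3.rec (fun _ => Nat) 63 11 0 63 1 2 2 63 2 2 9 0 9 1 2 2 9 1 2 2 9 2 2 8 20 0 20 1 67 2 20 1) (@D3.rec (fun _ => Nat) 68 2 0 20 2 65 3 9 3 67 2 9 9 19 0 1 5 19 19 1 6 19 65 67 19 19 19 19 0 19 19 1) (@D3.rec (fun _ => Nat) 68 68 19 19 0 19 19 0 19 1 2 2 19 2 2 71 76 19 0 19 10 0 19 1 70 60 19 19 0 19 1 2) (@D3.rec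 (fun _ => Nat) 2 19 1 2 2 0 19 2 2 75 71 19 0 19 1 2 2 1 2 2 0 2 2 66 0 1 2 2 11 2 16 19) (@D3.rec (fun _ => Nat) 12 19 19 0 12 19 19 19 0 19 1 2 19 0 13 1 2 21 2 3 21 9 0 9 1 63 1 63 17 22 64 63)
def lv_e_2 : D2 → D3 → Nat := @D2.rec (fun _ => D3 → Nat) (@D3.rec (fun _ => Nat) 64 64 63 64 10 64 0 19 1 2 2 0 2 2 4 64 2 2 4 59 1 66 4 18 1 2 64 2 17 64 17 37) (@D3.rec (fun _ => Nat) 20 23 0 23 1 2 23 23 0 23 0 23 1 2 23 2 3 23 0 1 1 21 68 21 66 21 68 0 21 66 1 19) (@D3.rec (fun _ => Nat) 20 0 19 20 9 20 9 0 9 20 1 2 2 9 9 0 9 9 0 9 1 2 2 9 2 2 4 3 9 0 9 1) (@D3.rec (fun _ => Nat) 2 2 9 1 2 2 18 9 2 2 4 65 64 4 19 1 19 20 0 19 20 36 20 22 0 22 20 1 2 2 22 10) (@D3.rec (fun _ => Nat) 0 10 20 0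 10 1 2 2 10 2 2 4 3 22 0 22 10 0 22 1 2 2 22 2 2 4 3 10 0 10 1 2) (@D3.rec (fun _ => Nat) 2 10 1 2 2 0 10 2 2 4 3 19 4 9 3 5 22 0 65 1 2 2 65 1 2 2 65 65 2 2 0 10) (@D3.rec (fun _ => Nat) 1 2 2 10 2 2 11 2 2 9 9 0 21 1 68 2 0 21 2 67 3 2 69 0 3 1 2 10 3 67 10 10) (@D3.rec (fun _ => Nat) 10 10 10 20 1 6 20 7 20 7 65 67 20 20 0 20 20 0 20 1 68 64 20 20 0 20 1 2 2 20 1 2) (@D3.rec (fun _ => Nat) 2 0 20 2 2 77 76 20 0 20 1 65 62 20 1 68 67 0 20 0 20 1 2 2 0 20 2 2 75 73 12 2) (@D3.rec (fun _ => Nat) 2 78 0 69 1 2 0 20 1 2 2 0 2 2 66 12 2 2 66 0 1 1 2 12 2 16 12 12 16 20 20 0) (@D3.rec (fun _ => Nat) 13 20 0 20 1 2 20 0 20 1 2 5 2 3 0 1 2 22 2 3 22 22 3 0 10 1 65 18 18 65 66 63) (@D3.rec (fun _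 => Nat) 66 65 66 1 2 2 0 66 2 2 4 58 1 68 4 19 66 68 4 60 66 2 66 17 0 37 0 35 0 23 1 2) (@D3.rec (fun _ => Nat) 23 2 3 23 0 23 1 2 23 1 2 0 23 2 3 3 0 1 21 69 22 68 0 22 68 0 68 1 2 20 21 20) (@D3.rec (fun _ => Nat) 0 20 21 1 2 2 20 10 0 10 21 0 10 1 2 2 10 2 2 4 3 10 0 10 1 2 2 10 1 2 2 0) (@D3.rec (fun _ => Nat) 10 2 2 4 3 20 4 20 3 5 0 10 1 2 2 19 10 2 2 4 65 19 2 2 4 0 65 19 64 4 20 20) (@D3.rec (fun _ => Nat) 20 20 21 20 0 20 21 1 2 2 20 38 0 38 21 0 24 1 2 2 24 2 2 4 3 11 0 11 1 2 2 11) (@D3.rec (fun _ => Nat) 1 2 2 0 11 2 2 4 3 20 4 20 3 5 24 0 24 1 2 2 24 1 2 2 0 24 2 2 4 3 4 20) (@D3.rec (fun _ => Nat) 3 5 0 11 1 2 2 0 11 2 2 4 3 12 2 2 4 0 3 1 2 20 4 10 3 5 5 10 10 0 65 1) (@D3.rec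 (fun _ => Nat) 2 2 65 65 2 2 12 2 2 0 65 1 2 2 11 12 2 2 10 12 12 19 10 10 1 70 2 0 22 2 69 0) (@D3.rec (fun _ => Nat) 3 1 2 11 3 67 0 3 0 67 1 2 5 2 3 11 11 11 11 11 11 11 7 21 7 8 67 67 21 67 67 21) (@D3.rec (fun _ => Nat) 0 21 1 61 69 21 1 68 67 0 21 0 21 1 2 2 0 21 2 2 72 74 13 2 2 75 0 76 1 2 0 21) (@D3.rec (fun _ => Nat) 1 68 62 0 21 13 0 1 2 1 2 2 0 21 13 2 2 72 0 74 1 2 13 13 0 0 1 2 5 2 3 1)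
def lv_e_3 : D2 → D3 → Nat := @D2.rec (fun _ => D3 → Nat) (@D3.rec (fun _ => Nat) 2 2 0 13 2 2 68 0 1 13 13 0 0 1 5 13 2 13 13 18 0 13 13 21 0 21 0 1 2 0 21 1) (@D3.rec (fun _ => Nat) 2 5 2 3 1 2 4 2 3 5 5 3 1 2 23 2 3 23 23 3 23 23 20 1 65 19 19 65 66 65 66 2) (@D3.rec (fun _ => Nat) 2 4 57 0 1 66 68 4 59 0 66 66 19 0 1 35 0 37 1 2 39 1 2 0 25 2 3 21 3 0 25 1) (@D3.rec (fun _ => Nat) 2 0 25 2 3 22 2 0 3 1 2 3 1 22 22 70 0 23 0 68 1 2 1 2 5 2 3 21 0 21 22 0) (@D3.rec (fun _ => Nat) 21 1 2 2 21 2 2 4 3 11 0 11 1 2 2 11 1 2 2 0 11 2 2 4 3 21 4 8 3 5 0 11) (@D3.rec (fun _ => Nat) 1 2 2 0 11 2 2 4 3 20 2 2 4 0 3 1 2 21 4 21 3 5 21 21 5 21 21 1 2 2 20 11) (@D3.rec (fun _ => Nat) 20 2 2 4 0 65 20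 64 4 21 20 20 66 4 0 0 1 2 21 21 21 21 21 0 21 22 0 21 1 2 2 21) (@D3.rec (fun _ => Nat) 2 2 4 3 36 0 36 1 2 2 36 1 2 2 0 24 2 2 4 3 4 8 3 5 0 12 1 2 2 0 12 2) (@D3.rec (fun _ => Nat) 2 4 3 13 2 2 4 0 3 1 2 21 4 21 3 5 21 21 5 21 21 0 24 1 2 2 0 24 2 2 4 3) (@D3.rec (fun _ => Nat) 13 2 2 4 0 3 1 2 4 21 3 5 5 21 1 2 2 0 12 13 2 2 4 0 3 1 2 21 4 11 3 5) (@D3.rec (fun _ => Nat) 13 13 21 4 0 3 0 5 1 2 5 2 3 5 11 11 11 11 1 2 2 67 67 13 2 2 0 67 13 13 0 1) (@D3.rec (fun _ => Nat) 13 2 2 13 13 20 11 13 20 13 20 11 11 2 72 0 3 0 1 2 0 3 0 69 1 2 5 2 3 12 12 0) (@D3.rec (fun _ => Nat) 1 2 1 2 4 2 3 5 5 3 12 12 12 12 12 12 8 9 67 69 0 0 22 1 68 66 0 22 14 69 1 2) (@D3.rec (fun _ => Nat) 1 2 2 0 22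 14 2 2 70 0 76 1 2 14 14 0 0 1 2 5 2 3 1 70 69 0 22 14 0 1 2 14) (@D3.rec (fun _ => Nat) 1 5 2 3 14 2 2 72 0 71 0 1 2 14 14 0 0 1 2 5 2 3 14 0 14 1 1 4 2 3 5 5) (@D3.rec (fun _ => Nat) 3 14 2 2 68 0 0 1 14 14 0 0 1 5 14 0 14 1 1 4 14 14 14 18 0 14 14 1 2 14 0 22) (@D3.rec (fun _ => Nat) 0 1 2 1 2 5 2 3 1 2 4 2 3 5 5 3 21 2 3 6 6 3 7 7 21 22 24 2 3 24 24 3) (@D3.rec (fun _ => Nat) 24 24 21 24 75 25 20 67 20 67 68 68 70 4 58 58 1 0 1 68 0 1 0 35 1 2 0 37 2 3 23 2) (@D3.rec (fun _ => Nat) 0 3 1 2 22 3 22 1 2 0 25 23 2 0 3 1 2 3 23 0 3 1 2 5 2 3 23 23 23 0 73 0) (@D3.rec (fun _ => Nat) 1 2 1 2 5 2 3 4 2 3 5 5 3 22 0 22 1 2 2 22 1 74 2 0 22 2 2 4 3 22 4 8) (@D3.rec (fun _ => Nat) 3 5 0 12 1 2 2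 0 12 2 2 4 3 21 2 2 4 0 3 1 2 22 4 9 3 5 22 9 5 9 9 1) (@D3.rec (fun _ => Nat) 2 2 0 12 21 2 2 4 0 3 1 2 22 4 22 3 5 21 21 22 4 0 3 0 5 1 2 5 2 3 22 22)
def lv_e_4 : D2 → D3 → Nat := @D2.rec (fun _ => D3 → Nat) (@D3.rec (fun _ => Nat) 5 22 22 22 22 22 22 22 21 2 2 4 0 65 21 21 21 21 66 4 0 0 1 2 22 22 0 21 0 21 0 0) (@D3.rec (fun _ => Nat) 1 1 2 22 22 22 22 22 0 22 1 2 2 22 1 2 0 22 2 2 4 3 22 4 8 3 5 0 34 1 2 2) (@D3.rec (fun _ => Nat) 0 38 2 2 4 3 14 2 2 4 0 3 1 2 4 9 3 5 9 5 9 9 1 2 2 0 13 14 2 2 4 0) (@D3.rec (fun _ => Nat) 3 1 2 22 4 22 3 5 14 14 22 4 0 3 0 5 1 2 5 2 3 22 22 5 22 22 22 22 22 22 22 1) (@D3.rec (fun _ => Nat) 2 2 0 26 14 2 2 4 0 3 1 2 4 22 3 5 68 14 4 0 3 69 5 1 2 5 2 3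 5 22 22 14) (@D3.rec (fun _ => Nat) 2 2 4 0 3 0 1 2 14 14 22 4 0 3 0 5 1 2 5 2 3 5 12 12 0 14 0 14 0 5 0 1) (@D3.rec (fun _ => Nat) 2 1 2 4 2 3 5 5 3 12 12 12 12 14 2 2 0 67 67 14 14 0 1 14 0 14 1 14 14 14 21 14) (@D3.rec (fun _ => Nat) 21 14 21 12 14 21 21 21 12 0 3 0 71 0 1 2 1 2 5 2 3 0 1 2 1 2 4 2 3 5 5 3) (@D3.rec (fun _ => Nat) 13 13 0 1 2 22 2 3 22 2 3 6 6 3 7 7 22 13 13 13 13 9 69 69 0 1 1 70 69 0 23 15) (@D3.rec (fun _ => Nat) 69 1 2 68 2 3 15 2 2 72 0 71 0 1 2 15 15 0 0 1 2 5 2 3 15 0 15 1 1 4 2 3) (@D3.rec (fun _ => Nat) 5 5 3 15 0 0 1 2 15 1 5 2 3 15 4 66 78 3 15 15 15 0 0 0 1 2 1 2 5 2 3 15) (@D3.rec (fun _ => Nat) 0 15 1 1 4 2 3 5 5 3 15 1 2 21 22 6 6 3 7 7 11 15 15 15 0 0 0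 1 1 5 15 0) (@D3.rec (fun _ => Nat) 15 1 1 4 15 1 2 21 15 15 0 15 15 1 2 15 2 3 0 1 2 1 2 4 2 3 23 5 2 3 5 5) (@D3.rec (fun _ => Nat) 3 22 2 3 6 6 3 7 7 22 22 22 3 6 6 22 7 73 24 0 23 23 25 25 3 0 25 25 22 25 75 26) (@D3.rec (fun _ => Nat) 21 67 68 0 59 23 1 0 1 1 2 0 35 24 2 0 3 1 2 23 3 24 0 3 1 2 5 2 3 23 23 23) (@D3.rec (fun _ => Nat) 24 2 0 3 0 1 2 24 0 3 1 2 5 2 3 0 24 1 2 4 2 3 5 5 3 24 24 24 0 1 2 1) (@D3.rec (fun _ => Nat) 2 5 2 3 4 2 3 5 5 3 6 6 3 7 7 23 0 23 1 76 2 0 23 2 2 4 3 2 74 0 3 1) (@D3.rec (fun _ => Nat) 2 4 9 3 5 23 9 5 9 9 1 2 2 0 13 22 2 2 4 0 3 1 2 23 4 10 3 5 22 22 23 4) (@D3.rec (fun _ => Nat) 0 3 0 5 1 2 5 2 3 23 10 5 10 10 0 23 10 10 10 10 10 22 2 2 4 0 3 0 1 2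 22 22) (@D3.rec (fun _ => Nat) 23 4 0 3 0 5 1 2 5 2 3 23 23 5 23 23 0 22 0 22 23 0 5 0 1 2 1 2 4 2 3 5) (@D3.rec (fun _ => Nat) 5 3 23 23 23 23 23 23 23 23 23 22 22 22 66 4 0 0 0 1 2 22 0 22 0 22 0 0 1 1 2 23) (@D3.rec (fun _ => Nat) 23 1 2 0 22 0 1 2 72 1 67 1 23 23 23 0 23 1 2 0 23 2 2 4 3 2 3 1 2 23 4 9)
def lv_e_5 : D2 → D3 → Nat := @D2.rec (fun _ => D3 → Nat) (@D3.rec (fun _ => Nat) 3 5 23 9 5 9 9 1 2 2 0 36 15 2 2 4 0 3 1 2 4 10 3 5 68 4 0 3 5 1 2 70) (@D3.rec (fun _ => Nat) 2 3 10 5 10 10 10 10 10 10 15 2 2 4 0 3 0 1 2 15 15 23 4 0 3 0 5 1 2 5 2 3) (@D3.rec (fun _ => Nat) 23 23 5 23 23 76 15 0 15 23 0 5 0 1 2 1 2 4 2 3 5 5 3 23 23 23 23 23 23 23 23 23) (@D3.rec (fun _ => Nat) 23 15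 2 2 4 0 3 0 1 2 67 15 4 0 3 69 5 1 2 5 2 3 5 23 23 70 15 67 5 0 1 2) (@D3.rec (fun _ => Nat) 69 4 2 75 70 5 3 23 15 15 15 23 4 0 3 0 5 0 1 2 1 2 5 2 3 0 15 0 15 0 5 0) (@D3.rec (fun _ => Nat) 1 2 1 2 4 2 3 5 5 3 13 13 1 2 0 15 0 1 2 1 2 0 1 2 12 2 3 23 2 3 6 6) (@D3.rec (fun _ => Nat) 3 7 7 11 13 13 13 15 15 15 0 0 1 69 15 0 15 1 15 1 2 15 15 15 22 15 22 15 22 22 22 13) (@D3.rec (fun _ => Nat) 22 22 22 0 1 2 0 1 2 1 2 4 2 3 14 5 2 3 5 5 3 0 1 2 23 2 3 23 2 3 6 6) (@D3.rec (fun _ => Nat) 3 7 7 23 14 14 0 1 2 23 2 3 23 23 3 23 23 3 6 6 23 7 75 25 14 0 1 16 71 0 1 2) (@D3.rec (fun _ => Nat) 73 2 3 3 16 16 16 0 0 0 1 2 1 2 5 2 3 16 0 16 1 1 4 2 3 5 5 3 1 22 23 6) (@D3.rec (fun _ => Nat) 6 3 7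 7 11 16 16 0 1 1 2 5 2 3 16 4 73 75 3 75 78 11 16 16 16 0 16 0 1 0 1 1) (@D3.rec (fun _ => Nat) 2 4 2 3 24 5 2 3 5 5 3 16 1 2 22 23 6 6 3 7 7 12 22 2 22 23 6 6 73 7 73 12) (@D3.rec (fun _ => Nat) 16 16 16 0 16 76 1 0 1 1 4 24 73 16 1 2 22 22 2 0 16 0 16 1 2 16 2 3 3 1 2 23) (@D3.rec (fun _ => Nat) 2 3 24 6 2 3 6 6 3 0 24 24 7 7 3 0 7 7 23 23 23 3 6 6 23 7 75 25 23 23 23 8) (@D3.rec (fun _ => Nat) 73 23 1 31 30 2 24 24 26 26 74 1 26 77 23 27 0 1 1 25 2 0 3 0 1 2 25 0 3 1 2 5) (@D3.rec (fun _ => Nat) 2 3 24 24 0 25 0 1 2 4 2 3 5 5 3 24 24 25 25 0 3 0 1 2 1 2 5 2 3 0 25 1) (@D3.rec (fun _ => Nat) 2 4 2 3 5 5 3 1 2 25 2 3 6 6 3 7 7 27 25 25 1 2 4 2 3 14 5 2 3 5 5 3) (@D3.rec (fun _ => Nat) 6 6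 3 7 7 24 6 6 24 7 0 24 1 2 0 24 2 74 0 3 1 2 4 10 3 5 3 72 74 1 2 5) (@D3.rec (fun _ => Nat) 2 3 10 5 10 10 0 24 10 10 10 10 10 23 2 2 4 0 3 0 1 2 23 23 24 4 0 3 0 5 1 2) (@D3.rec (fun _ => Nat) 5 2 3 24 11 5 11 11 75 23 0 23 24 0 5 0 1 2 1 2 4 2 3 5 5 3 0 24 72 11 11 11) (@D3.rec (fun _ => Nat) 11 1 2 11 11 11 11 11 11 23 23 23 24 4 0 3 0 5 0 1 2 1 2 5 2 3 0 23 0 23 24 0) (@D3.rec (fun _ => Nat) 5 0 1 2 1 2 4 2 3 5 5 3 24 24 24 24 24 1 2 0 23 0 1 2 0 24 0 1 2 0 1 2)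
def lv_e_6 : D2 → D3 → Nat := @D2.rec (fun _ => D3 → Nat) (@D3.rec (fun _ => Nat) 12 2 3 24 2 3 6 6 3 7 7 26 24 24 24 24 24 24 24 23 23 0 23 0 23 0 0 1 0 1 1 2) (@D3.rec (fun _ => Nat) 2 1 2 0 23 0 1 2 69 1 0 1 24 24 2 3 69 1 2 67 1 2 2 69 24 1 2 0 24 2 3 1) (@D3.rec (fun _ => Nat) 2 4 10 3 5 3 2 24 10 5 10 10 68 24 10 10 10 10 16 2 2 4 0 3 0 1 2 71 4 0 3 5) (@D3.rec (fun _ => Nat) 1 2 70 2 3 11 5 11 11 66 71 69 5 66 1 2 2 70 3 11 11 11 11 11 11 11 11 11 16 16 16 24) (@D3.rec (fun _ => Nat) 4 0 3 0 5 0 1 2 1 2 5 2 3 77 16 0 16 24 0 5 0 1 2 1 2 4 2 3 5 5 3 24) (@D3.rec (fun _ => Nat) 24 24 24 24 24 79 72 74 0 1 2 0 24 0 1 2 0 1 2 13 2 3 24 2 6 6 3 7 7 11 24 24) (@D3.rec (fun _ => Nat) 24 24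 24 24 24 16 70 16 4 0 3 70 5 0 1 2 1 2 5 2 3 70 16 67 5 0 1 2 76 4 2 75) (@D3.rec (fun _ => Nat) 68 5 3 24 24 68 70 70 1 2 26 2 3 6 70 74 11 16 16 0 16 0 16 0 5 0 1 2 0 1 2 1) (@D3.rec (fun _ => Nat) 2 4 2 3 15 5 2 3 5 5 3 1 2 0 16 0 1 2 1 2 0 1 2 13 2 3 24 2 3 6 6 3) (@D3.rec (fun _ => Nat) 7 7 12 14 14 2 75 1 74 0 1 2 13 2 3 65 2 3 0 1 2 13 2 3 13 13 3 24 24 3 6 6) (@D3.rec (fun _ => Nat) 73 7 73 12 14 16 16 16 0 16 0 1 1 16 1 2 2 16 0 16 16 23 23 23 23 23 23 23 23 0 1 2) (@D3.rec (fun _ => Nat) 24 2 3 1 2 24 2 3 15 6 2 3 6 6 3 0 15 15 7 7 3 0 7 7 24 0 1 2 24 2 3 24) (@D3.rec (fun _ => Nat) 24 3 24 24 3 6 6 24 7 75 26 15 1 2 24 2 3 24 24 3 24 24 24 24 24 24 8 73 24 0 1 17) (@D3.rec (fun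 _ => Nat) 70 1 2 71 2 3 3 11 17 17 17 0 17 0 1 0 1 1 2 4 2 3 25 5 2 3 5 5 3 1 23 24) (@D3.rec (fun _ => Nat) 6 6 3 7 7 12 23 23 24 6 6 7 72 79 17 17 1 4 25 5 2 3 68 76 3 74 78 12 78 73 12 17) (@D3.rec (fun _ => Nat) 0 17 17 0 1 2 1 23 1 24 25 6 2 3 6 6 3 0 25 25 7 7 3 0 7 7 13 23 2 23 24 6) (@D3.rec (fun _ => Nat) 6 73 7 73 13 23 23 8 71 73 17 0 17 17 76 1 2 1 23 2 23 1 71 0 17 1 2 2 3 3 25 24) (@D3.rec (fun _ => Nat) 2 3 24 24 3 0 25 25 6 6 3 0 6 6 24 1 31 32 2 25 25 7 7 72 1 7 75 24 24 24 24 8) (@D3.rec (fun _ => Nat) 73 24 26 24 72 24 2 31 32 77 25 27 1 26 26 0 3 0 1 2 1 2 5 2 3 0 26 0 1 2 4 2) (@D3.rec (fun _ => Nat) 3 5 5 3 25 25 25 66 1 2 1 2 68 2 3 6 6 3 7 7 27 25 26 0 26 0 1 2 1 2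 4 2) (@D3.rec (fun _ => Nat) 3 15 5 2 3 5 5 3 1 2 27 2 3 6 6 3 7 7 27 68 2 3 68 32 3 6 6 30 7 0 27 0) (@D3.rec (fun _ => Nat) 26 15 6 2 3 6 6 3 0 15 15 7 7 3 0 7 7 25 6 6 25 7 0 25 8 0 25 0 0 1 25 2)
def lv_e_7 : D2 → D3 → Nat := @D2.rec (fun _ => D3 → Nat) (@D3.rec (fun _ => Nat) 0 3 0 1 2 3 74 76 1 2 5 2 3 11 5 11 11 74 4 2 3 71 5 3 11 11 11 11 69 1 2 11) (@D3.rec (fun _ => Nat) 11 11 11 11 11 24 24 24 25 4 0 3 0 5 0 1 2 1 2 5 2 3 74 24 0 24 25 0 5 0 1 2) (@D3.rec (fun _ => Nat) 1 2 4 2 3 5 5 3 0 25 74 12 12 12 12 77 0 24 0 1 2 0 25 72 1 2 0 1 2 13 2 3) (@D3.rec (fun _ => Nat) 2 3 6 6 3 7 7 28 74 1 2 71 74 12 12 12 12 2 3 12 12 12 12 12 24 24 0 24 0 24 25 0) (@D3.rec (fun _ => Nat) 5 0 1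 2 0 1 2 1 2 4 2 3 27 5 2 3 5 5 3 1 2 0 24 0 1 2 0 25 0 1 2 0) (@D3.rec (fun _ => Nat) 1 2 13 2 3 25 2 3 6 6 3 7 7 28 25 25 25 25 2 65 3 67 1 2 69 1 2 13 2 3 1 2) (@D3.rec (fun _ => Nat) 69 1 2 65 2 3 0 1 2 13 2 3 13 13 3 25 25 3 6 6 29 7 74 28 25 25 25 25 0 24 0 24) (@D3.rec (fun _ => Nat) 1 2 0 24 0 1 2 0 1 0 1 1 80 2 2 3 71 1 2 0 1 2 2 72 72 1 25 3 69 2 69 71) (@D3.rec (fun _ => Nat) 2 2 3 0 1 2 3 2 11 5 11 11 75 25 11 11 11 11 11 70 11 11 11 11 17 70 4 0 3 5 0 1) (@D3.rec (fun _ => Nat) 2 1 2 72 2 3 68 70 71 5 68 1 2 2 70 3 12 12 12 12 12 68 69 71 64 66 2 3 78 11 12 12) (@D3.rec (fun _ => Nat) 12 12 12 12 12 17 17 74 17 0 17 25 0 5 0 1 2 0 1 2 1 2 4 2 3 16 5 2 3 5 5 3) (@D3.rec (fun _ =>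 Nat) 77 74 76 0 1 2 0 25 0 1 2 0 1 2 14 2 3 25 2 6 6 3 7 7 12 25 25 25 25 25 25 29) (@D3.rec (fun _ => Nat) 77 72 74 26 1 2 14 2 3 1 2 1 2 27 2 3 0 1 2 14 2 3 14 14 3 25 25 6 6 75 7 72) (@D3.rec (fun _ => Nat) 76 25 25 25 0 25 71 17 69 17 72 5 0 1 2 71 74 1 2 4 2 77 28 5 2 3 74 5 3 70 72 69) (@D3.rec (fun _ => Nat) 0 1 2 26 2 3 6 70 76 12 25 70 72 69 66 2 3 31 3 76 75 12 0 17 0 17 1 2 0 17 0 1) (@D3.rec (fun _ => Nat) 2 0 1 2 0 1 2 14 2 3 1 2 25 2 3 16 6 2 3 6 6 3 0 16 16 7 7 3 0 7 7 13) (@D3.rec (fun _ => Nat) 2 77 1 78 0 1 2 14 2 3 67 2 3 0 1 2 14 2 3 14 14 3 25 25 3 6 6 75 7 75 13 15) (@D3.rec (fun _ => Nat) 27 72 0 1 2 14 2 3 14 14 3 25 67 3 1 2 14 2 3 14 14 3 14 14 76 25 25 8 73 73 17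 0) (@D3.rec (fun _ => Nat) 17 17 70 1 2 1 2 0 17 0 1 2 24 24 24 24 24 24 0 1 2 71 25 2 3 25 25 3 70 25 2 3) (@D3.rec (fun _ => Nat) 25 25 3 0 16 16 6 6 3 0 6 6 25 1 33 30 2 16 16 7 7 79 1 7 77 25 1 2 25 2 3 25) (@D3.rec (fun _ => Nat) 25 3 25 25 25 25 25 25 8 75 25 27 25 2 3 25 25 3 25 25 71 25 75 25 25 72 25 1 26 73 2 74) (@D3.rec (fun _ => Nat) 3 12 18 0 18 0 1 1 24 1 25 26 6 2 3 6 6 3 0 26 26 7 7 3 74 7 7 77 24 24 25 6)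
def lv_e_8 : D2 → D3 → Nat := @D2.rec (fun _ => D3 → Nat) (@D3.rec (fun _ => Nat) 6 7 72 76 24 8 0 18 26 6 0 26 26 68 75 3 75 73 76 13 76 75 13 0 18 0 1 2 1 2 24 2) (@D3.rec (fun _ => Nat) 26 24 24 26 25 25 0 26 26 6 6 3 0 6 6 75 1 31 30 2 26 26 7 7 80 1 7 75 76 24 24 8) (@D3.rec (fun _ => Nat) 73 73 75 24 0 18 76 1 2 76 2 24 80 1 2 26 2 3 3 0 26 26 25 25 3 0 25 25 25 1 31 32) (@D3.rec (fun _ => Nat) 2 26 26 8 8 0 1 8 75 25 2 33 32 79 26 9 71 25 72 25 25 33 32 27 0 27 0 1 2 1 2 4) (@D3.rec (fun _ => Nat) 2 3 16 5 2 3 5 5 3 68 1 2 0 1 2 68 2 3 6 6 3 7 7 29 26 26 66 2 3 2 3 68) (@D3.rec (fun _ => Nat) 3 6 6 30 7 72 29 0 0 27 0 1 2 1 2 27 2 3 16 6 2 3 6 6 3 0 16 16 7 7 3 0) (@D3.rec (fun _ =>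 Nat) 7 7 29 70 2 3 68 32 3 6 6 30 7 0 29 70 3 70 32 30 8 0 30 76 77 1 80 1 2 0 16 16) (@D3.rec (fun _ => Nat) 6 6 3 0 6 6 26 1 35 31 2 16 16 7 7 0 1 7 0 26 8 0 26 0 0 1 26 77 77 1 26 0) (@D3.rec (fun _ => Nat) 1 72 1 26 3 1 2 1 82 5 2 79 74 4 2 3 73 5 3 12 12 12 12 74 6 3 73 76 31 12 12 12) (@D3.rec (fun _ => Nat) 12 69 2 79 12 12 12 12 12 73 25 73 25 0 25 26 0 5 0 1 2 1 2 1 2 4 2 3 29 5 2 77) (@D3.rec (fun _ => Nat) 5 5 3 77 0 25 0 1 2 0 26 72 1 2 0 1 2 14 2 3 2 3 6 6 3 7 7 28 74 1 2 76) (@D3.rec (fun _ => Nat) 74 13 13 13 13 65 77 26 1 2 25 1 2 14 2 3 30 1 2 28 72 2 3 0 1 2 14 2 3 14 14 3) (@D3.rec (fun _ => Nat) 3 6 6 31 75 0 28 74 2 76 74 73 75 13 13 0 3 13 13 13 0 25 0 25 1 2 0 25 0 1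 2 0) (@D3.rec (fun _ => Nat) 26 0 1 2 0 1 2 14 2 3 1 2 26 2 3 29 6 2 3 6 6 3 0 29 29 7 7 3 83 7 7 28) (@D3.rec (fun _ => Nat) 2 67 3 69 1 2 0 1 2 14 2 3 1 2 0 1 2 67 2 3 0 1 2 14 2 3 14 14 3 26 26 3) (@D3.rec (fun _ => Nat) 6 6 31 7 76 28 26 26 26 3 67 69 2 3 73 69 14 2 3 14 14 3 2 3 69 69 2 3 24 67 3 1) (@D3.rec (fun _ => Nat) 2 14 2 3 14 14 3 14 14 31 26 26 72 8 76 31 26 1 73 0 25 0 1 2 2 3 0 1 2 0 1 2) (@D3.rec (fun _ => Nat) 2 72 1 69 1 76 3 71 71 2 71 1 2 2 75 3 1 80 2 12 12 12 12 12 77 12 12 12 12 12 74 12) (@D3.rec (fun _ => Nat) 12 72 71 68 75 71 5 0 1 2 1 2 2 28 72 2 78 72 3 75 69 71 66 68 2 3 78 12 75 13 13 13) (@D3.rec (fun _ => Nat) 13 13 71 69 71 66 66 68 3 73 13 75 0 13 76 18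 0 18 77 76 78 0 1 2 0 26 0 1 2 0 1 2) (@D3.rec (fun _ => Nat) 15 2 3 1 2 26 2 17 6 2 3 6 6 3 0 17 17 7 7 3 76 7 7 79 31 77 74 74 0 1 2 15) (@D3.rec (fun _ => Nat) 2 3 1 2 0 1 2 27 2 3 0 1 2 15 2 3 15 15 3 26 26 6 6 79 7 74 81 26 26 26 26 0)
def lv_e_9 : D2 → D3 → Nat := @D2.rec (fun _ => D3 → Nat) (@D3.rec (fun _ => Nat) 31 74 77 25 25 2 3 15 3 2 3 2 3 27 3 1 2 2 3 15 3 0 15 15 73 26 8 72 0 26 81 1) (@D3.rec (fun _ => Nat) 0 18 70 73 71 74 0 1 2 28 2 3 72 28 6 2 77 6 0 28 28 72 7 3 75 74 76 13 70 70 72 76) (@D3.rec (fun _ => Nat) 1 2 66 2 3 33 3 76 75 13 70 66 3 31 1 71 0 18 0 1 2 2 77 0 1 78 0 1 2 15 2 3) (@D3.rec (fun _ => Nat) 1 2 67 2 3 0 1 2 17 15 2 3 15 15 3 69 26 2 3 26 26 3 0 17 17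 6 6 3 0 6 6 77) (@D3.rec (fun _ => Nat) 1 33 30 2 17 17 7 7 76 1 7 77 78 29 76 0 1 2 15 2 3 15 15 3 26 67 3 1 2 15 2 3) (@D3.rec (fun _ => Nat) 15 15 3 15 15 78 26 26 8 73 75 80 1 2 2 3 15 3 15 15 26 67 15 2 3 15 3 15 15 69 15 74) (@D3.rec (fun _ => Nat) 76 26 0 18 76 1 2 76 2 1 2 0 1 2 15 2 3 25 25 25 1 2 70 26 2 3 0 71 71 26 26 3) (@D3.rec (fun _ => Nat) 0 26 26 26 0 72 72 26 26 3 0 26 26 26 1 31 30 2 17 17 8 8 0 1 8 75 26 2 33 32 3 17) (@D3.rec (fun _ => Nat) 81 9 77 26 2 3 26 26 3 26 26 76 26 75 26 26 74 26 26 26 26 3 26 26 76 26 77 71 0 0 0 1) (@D3.rec (fun _ => Nat) 2 1 25 27 25 25 27 26 26 0 27 27 6 6 3 0 6 6 1 29 30 2 7 7 7 77 25 8 1 2 75 27) (@D3.rec (fun _ => Nat) 1 77 77 78 74 78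 76 77 1 2 1 2 27 2 3 4 25 2 25 25 0 27 25 0 27 26 1 29 34 2 27 27) (@D3.rec (fun _ => Nat) 8 8 0 1 8 75 75 2 31 32 75 9 73 79 25 75 1 2 76 2 3 2 3 27 27 3 1 32 34 2 27 27) (@D3.rec (fun _ => Nat) 26 26 0 1 26 75 26 2 31 34 79 27 74 8 77 75 1 26 33 34 74 26 0 28 0 1 2 0 1 2 70 2) (@D3.rec (fun _ => Nat) 3 17 6 2 3 6 6 3 0 17 17 7 7 3 80 7 7 79 66 68 2 3 1 2 2 3 70 3 6 6 32 7) (@D3.rec (fun _ => Nat) 74 82 27 0 68 3 3 0 70 32 8 72 32 1 0 1 2 1 2 70 2 3 17 29 2 3 72 34 3 0 17 17) (@D3.rec (fun _ => Nat) 6 6 3 0 6 6 32 1 33 33 2 17 17 7 7 82 1 7 0 80 70 3 74 32 32 8 0 32 76 79 1 79) (@D3.rec (fun _ => Nat) 70 32 70 0 32 76 80 1 32 73 74 2 3 1 35 31 2 17 17 8 8 0 1 8 0 27 2 37 33 3 17 83) (@D3.rec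 (fun _ => Nat) 9 0 80 1 85 83 1 27 77 76 1 27 86 1 81 1 27 27 1 73 4 2 3 72 76 5 76 6 3 73 78 13) (@D3.rec (fun _ => Nat) 13 13 13 13 13 13 13 13 0 26 75 0 26 0 1 2 0 27 0 1 2 0 1 2 15 2 3 2 3 29 6 2) (@D3.rec (fun _ => Nat) 3 6 6 3 0 7 7 7 7 69 75 28 1 2 0 1 2 15 2 3 30 1 2 74 74 2 3 0 1 2 15 2) (@D3.rec (fun _ => Nat) 3 15 15 3 3 6 6 31 78 0 76 76 2 78 77 76 75 14 14 0 65 28 2 3 26 26 2 3 15 3 30 2) (@D3.rec (fun _ => Nat) 3 28 71 75 3 1 2 2 3 15 3 0 15 15 31 75 0 31 1 73 75 14 77 1 80 1 73 71 26 0 1 2)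
def lv_e_10 : D2 → D3 → Nat := @D2.rec (fun _ => D3 → Nat) (@D3.rec (fun _ => Nat) 2 67 3 0 1 2 0 1 2 15 2 3 0 1 2 0 1 2 67 2 3 0 1 2 33 15 2 3 15 15 3 67) (@D3.rec (fun _ => Nat) 27 2 3 27 27 3 0 29 31 6 6 3 0 6 6 31 1 28 30 2 7 7 7 77 3 69 69 69 2 3 71 1) (@D3.rec (fun _ => Nat) 2 15 2 3 15 15 3 2 3 71 1 2 2 3 27 69 3 1 2 15 2 3 15 15 3 15 15 31 27 27 75 8) (@D3.rec (fun _ => Nat) 76 31 27 67 69 3 69 71 15 3 15 15 31 3 71 71 3 27 67 70 15 2 3 15 3 15 15 71 15 76 31 0) (@D3.rec (fun _ => Nat) 72 78 31 80 84 0 1 2 0 1 2 15 2 3 3 71 1 79 2 73 1 2 78 2 76 71 73 2 13 13 13 13) (@D3.rec (fun _ => Nat) 13 13 13 71 72 71 73 71 74 68 1 2 2 3 30 2 0 72 76 70 71 71 73 68 68 70 3 75 76 14 14 0) (@D3.rec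 (fun _ => Nat) 71 70 66 72 71 77 77 1 77 0 78 0 1 2 33 75 74 76 0 1 2 16 2 3 0 1 2 0 1 2 29 2) (@D3.rec (fun _ => Nat) 3 0 1 2 18 16 2 3 16 16 3 69 27 2 27 27 0 18 18 6 6 3 0 6 6 77 1 28 28 2 7 7) (@D3.rec (fun _ => Nat) 7 77 31 75 74 73 28 1 2 2 3 16 3 2 3 1 2 2 3 29 3 1 2 16 2 3 16 3 0 16 16 74) (@D3.rec (fun _ => Nat) 27 8 72 27 0 27 0 1 31 75 28 28 3 79 16 3 3 0 29 2 3 3 77 16 78 1 16 73 1 78 0 1) (@D3.rec (fun _ => Nat) 2 72 73 75 72 74 1 2 34 28 2 3 33 3 0 30 30 6 0 1 2 2 2 74 76 74 77 72 72 68 2 3) (@D3.rec (fun _ => Nat) 68 3 33 68 70 73 75 0 1 2 0 1 2 16 2 3 1 76 29 76 0 1 2 4 16 2 3 16 16 3 69 69) (@D3.rec (fun _ => Nat) 2 3 27 69 3 1 2 68 16 2 3 0 18 18 16 16 3 0 16 16 76 0 71 71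 27 27 3 0 27 27 1 31) (@D3.rec (fun _ => Nat) 32 2 18 18 8 8 0 1 8 75 75 2 35 30 3 9 77 77 1 2 16 2 3 16 3 16 16 27 69 16 2 3) (@D3.rec (fun _ => Nat) 16 16 3 16 16 71 16 77 78 27 75 2 3 3 16 71 16 27 16 3 16 69 16 75 71 1 2 75 2 3 2 3) (@D3.rec (fun _ => Nat) 0 1 2 75 2 3 16 16 3 26 68 27 2 3 0 70 70 27 27 3 0 1 31 32 2 73 72 27 27 0 1 27) (@D3.rec (fun _ => Nat) 77 27 1 32 34 2 72 73 27 27 0 1 27 74 27 2 31 32 3 18 0 8 77 77 1 27 3 35 32 78 83 27) (@D3.rec (fun _ => Nat) 27 3 27 27 74 27 0 73 27 27 27 27 74 27 79 76 1 1 1 28 2 3 4 26 26 0 28 26 0 28 27 1) (@D3.rec (fun _ => Nat) 29 33 75 28 28 8 8 0 1 8 2 74 9 2 3 77 28 76 2 3 4 26 2 3 28 28 3 0 5 5 26 26) (@D3.rec (fun _ => Nat) 26 1 31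 29 28 1 30 36 28 2 31 34 77 28 79 8 75 0 1 73 75 74 71 2 3 76 3 3 28 28 17 2) (@D3.rec (fun _ => Nat) 32 36 3 28 84 27 0 82 1 77 27 33 34 76 81 75 0 1 2 68 1 2 2 3 1 2 18 68 2 3 70 3) (@D3.rec (fun _ => Nat) 0 18 18 6 6 3 0 6 6 32 1 33 29 2 7 7 7 74 68 70 3 2 3 3 0 70 32 8 77 32 0 1)
def lv_e_11 : D2 → D3 → Nat := @D2.rec (fun _ => D3 → Nat) (@D3.rec (fun _ => Nat) 0 32 0 1 76 32 32 1 2 74 2 3 4 70 2 3 72 3 0 18 18 70 34 3 0 72 34 32 1 35 33 2) (@D3.rec (fun _ => Nat) 18 18 8 8 0 1 8 0 32 2 35 72 3 9 0 78 0 1 72 32 70 0 32 78 77 1 32 81 78 78 76 1) (@D3.rec (fun _ => Nat) 32 32 83 78 3 2 35 33 3 18 0 8 0 0 1 82 80 1 28 3 33 33 83 81 83 1 80 28 6 3 76 75) (@D3.rec (fun _ => Nat) 14 14 14 0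 1 2 65 75 0 1 2 0 1 2 16 2 3 0 1 2 74 1 2 2 3 0 1 2 35 16 2 3) (@D3.rec (fun _ => Nat) 16 16 3 3 0 72 31 6 6 3 6 6 33 1 28 7 81 67 30 28 2 3 27 1 2 2 3 16 3 32 32 2) (@D3.rec (fun _ => Nat) 3 30 76 78 3 1 2 16 2 3 16 3 0 16 16 33 75 0 33 1 78 78 78 77 79 0 1 67 28 3 27 27) (@D3.rec (fun _ => Nat) 3 0 16 33 32 3 73 72 75 70 2 3 3 79 16 1 16 73 33 1 33 78 72 73 69 73 0 1 2 16 2 3) (@D3.rec (fun _ => Nat) 3 67 67 69 1 2 2 3 70 1 2 4 16 2 3 16 16 3 1 2 2 3 69 1 2 70 67 2 3 26 67 3) (@D3.rec (fun _ => Nat) 1 2 35 16 2 3 0 35 31 16 16 3 0 16 16 33 72 72 28 28 3 28 28 75 1 30 34 2 31 31 8 8) (@D3.rec (fun _ => Nat) 0 1 8 81 33 2 35 9 69 71 71 3 73 16 2 3 16 3 16 16 33 3 71 2 3 3 26 69 70 16 2 3)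 (@D3.rec (fun _ => Nat) 16 16 3 16 16 78 16 79 33 0 72 79 33 70 75 16 73 16 77 79 74 71 73 26 0 70 16 3 16 76 16 0) (@D3.rec (fun _ => Nat) 78 80 33 78 1 33 73 0 1 77 73 2 3 0 1 2 2 3 16 16 3 73 73 75 2 14 14 66 68 73 75 70) (@D3.rec (fun _ => Nat) 72 74 66 68 34 2 3 3 32 1 71 71 66 68 77 73 73 77 0 1 75 68 77 77 74 77 0 1 2 0 1 2) (@D3.rec (fun _ => Nat) 17 2 3 31 33 74 76 75 27 1 2 4 17 2 3 17 3 1 2 2 3 1 2 67 29 2 3 31 3 1 2 19) (@D3.rec (fun _ => Nat) 17 2 3 0 19 19 17 17 3 0 17 17 75 0 69 69 28 28 28 1 32 31 2 19 19 8 8 0 1 8 77 77) (@D3.rec (fun _ => Nat) 2 34 9 33 76 77 27 2 3 3 79 17 3 2 3 3 0 29 2 3 17 3 0 17 80 1 17 73 0 1 83 0) (@D3.rec (fun _ => Nat) 1 77 27 78 79 78 1 3 78 79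 69 74 1 2 2 3 71 73 74 34 70 2 3 0 34 32 35 3 0 33 1 2) (@D3.rec (fun _ => Nat) 2 30 32 1 2 2 2 74 3 76 72 68 3 68 79 78 76 1 2 2 3 0 1 2 4 17 2 3 17 17 3 6) (@D3.rec (fun _ => Nat) 31 78 1 2 5 17 2 3 0 5 5 17 17 3 0 17 17 0 69 69 28 71 3 0 28 69 68 17 2 3 0 70) (@D3.rec (fun _ => Nat) 70 17 17 3 0 1 33 32 2 19 19 17 17 0 1 17 77 77 1 32 36 2 71 71 28 28 0 1 28 2 33 32) (@D3.rec (fun _ => Nat) 3 19 0 8 74 0 1 75 75 3 35 74 2 3 17 3 17 71 17 28 17 3 17 17 73 17 0 71 76 3 71 76) (@D3.rec (fun _ => Nat) 17 71 77 76 70 2 3 78 3 3 1 2 78 2 3 83 75 3 17 17 17 0 70 70 28 28 3 1 33 32 2 72)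
def lv_e_12 : D2 → D3 → Nat := @D2.rec (fun _ => D3 → Nat) (@D3.rec (fun _ => Nat) 72 28 28 0 1 2 33 32 3 74 0 28 84 0 1 28 28 2 32 34 3 73 0 28 0 79 1 84 28 3 33 32) (@D3.rec (fun _ => Nat) 77 85 79 1 74 77 78 28 28 74 28 0 75 1 80 28 79 4 29 3 0 80 27 1 71 27 29 1 30 32 29 33) (@D3.rec (fun _ => Nat) 29 79 8 74 1 3 75 3 0 5 5 27 3 29 29 17 1 35 29 2 6 6 27 36 32 36 79 77 72 75 75 1) (@D3.rec (fun _ => Nat) 75 3 17 18 0 83 3 34 34 81 84 74 82 1 79 0 1 2 68 2 3 68 4 2 3 3 19 2 3 0 19 19) (@D3.rec (fun _ => Nat) 70 3 0 72 34 1 33 31 2 19 19 8 8 0 1 8 72 34 2 31 9 68 0 34 3 0 0 1 76 34 34 0) (@D3.rec (fun _ => Nat) 1 84 1 34 76 1 74 4 75 2 3 77 78 3 0 5 5 72 3 0 72 34 1 37 33 2 19 19 70 34 0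 1) (@D3.rec (fun _ => Nat) 74 0 34 2 35 33 3 19 0 8 0 0 1 78 0 1 34 3 82 85 1 78 1 76 76 77 1 34 82 34 34 78) (@D3.rec (fun _ => Nat) 78 32 3 33 33 0 0 0 1 83 83 1 0 1 86 29 78 78 0 1 2 17 2 3 67 69 28 1 2 2 3 28) (@D3.rec (fun _ => Nat) 1 2 4 17 2 3 17 3 32 1 2 2 3 30 74 2 3 3 1 2 68 17 2 3 0 70 35 17 17 3 0 17) (@D3.rec (fun _ => Nat) 17 33 73 1 28 36 77 72 33 8 76 81 33 71 30 30 3 28 2 3 3 0 17 33 34 32 3 76 76 78 72 2) (@D3.rec (fun _ => Nat) 3 17 3 0 17 1 17 0 33 1 33 79 85 0 1 75 72 28 74 1 74 33 77 74 74 3 76 79 79 69 73 69) (@D3.rec (fun _ => Nat) 71 73 0 1 2 4 17 2 3 17 17 3 69 69 69 69 2 3 3 71 5 17 2 3 0 68 5 17 17 3 0 17) (@D3.rec (fun _ => Nat) 17 33 69 2 3 3 73 73 2 3 69 74 29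 69 3 0 29 69 72 68 17 2 3 0 35 33 17 17 3 0 1 33) (@D3.rec (fun _ => Nat) 34 2 35 33 17 17 0 1 17 78 33 30 69 76 29 29 78 0 74 2 37 36 3 33 0 8 82 0 1 79 33 71) (@D3.rec (fun _ => Nat) 72 73 17 3 17 76 17 79 79 75 73 3 76 29 0 72 17 3 17 17 74 17 0 80 77 33 80 1 81 79 33 77) (@D3.rec (fun _ => Nat) 73 80 76 78 1 17 74 71 1 33 75 1 77 76 76 75 3 1 2 2 3 3 17 17 33 73 75 73 73 74 68 70) (@D3.rec (fun _ => Nat) 36 3 0 32 73 77 70 75 73 79 0 1 75 69 75 67 1 2 2 3 0 1 2 4 18 2 3 18 3 33 35 76) (@D3.rec (fun _ => Nat) 76 30 71 2 3 0 5 5 18 3 0 18 69 2 3 3 67 2 3 69 69 69 29 3 0 31 66 2 3 0 20 20) (@D3.rec (fun _ => Nat) 18 3 0 1 33 34 2 20 20 18 18 0 1 18 76 77 1 30 34 2 71 71 29 2 32 33 3 20 0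 8 76 0) (@D3.rec (fun _ => Nat) 1 75 77 79 30 3 81 77 3 0 78 1 3 85 18 80 0 1 75 0 1 80 1 78 81 76 2 3 3 74 0 0) (@D3.rec (fun _ => Nat) 36 36 32 70 3 0 1 35 2 36 32 35 0 1 2 2 79 3 32 3 70 75 75 78 6 2 3 3 1 2 5 78) (@D3.rec (fun _ => Nat) 2 3 0 5 5 18 18 3 0 18 18 17 70 7 0 6 2 3 0 6 6 18 3 0 1 33 34 2 6 6 18 18)
def lv_e_13 : D2 → D3 → Nat := @D2.rec (fun _ => D3 → Nat) (@D3.rec (fun _ => Nat) 0 1 18 1 34 36 2 71 71 29 71 0 1 29 0 68 68 18 3 0 1 33 34 2 70 70 18 18 0 1 2 33) (@D3.rec (fun _ => Nat) 34 3 20 0 18 0 0 1 18 75 78 2 34 36 3 73 0 29 0 1 3 33 34 79 0 0 1 72 75 77 1 76) (@D3.rec (fun _ => Nat) 3 18 73 0 18 73 18 0 73 1 76 73 78 79 79 3 17 18 78 2 3 81 78 3 85 82 71 18 0 84 1 36)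 (@D3.rec (fun _ => Nat) 35 2 70 70 29 29 86 2 33 34 3 72 0 29 86 0 1 29 3 33 34 82 0 0 1 85 0 1 82 3 34 34) (@D3.rec (fun _ => Nat) 0 82 79 1 74 79 1 79 77 74 79 29 80 75 76 1 82 30 77 1 35 29 79 77 32 76 17 78 1 31 2 6) (@D3.rec (fun _ => Nat) 6 28 85 0 22 2 35 36 3 7 77 18 86 85 1 85 80 1 2 4 68 2 3 73 3 70 37 5 3 0 34 20) (@D3.rec (fun _ => Nat) 20 3 0 1 35 2 20 20 70 0 1 78 34 2 36 31 3 20 0 8 81 0 1 74 34 0 1 34 0 0 1 72) (@D3.rec (fun _ => Nat) 1 80 34 34 1 68 5 5 72 76 3 0 78 78 34 1 35 2 6 6 74 0 1 74 34 2 37 35 3 20 0 72) (@D3.rec (fun _ => Nat) 0 0 1 34 74 0 1 34 3 35 35 0 0 0 1 82 0 1 0 1 74 83 1 34 78 80 80 34 80 0 34 77) (@D3.rec (fun _ => Nat) 79 0 80 1 0 1 0 1 82 0 1 34 1 2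 4 18 2 3 18 3 67 67 30 67 2 3 3 29 34 2 3 35) (@D3.rec (fun _ => Nat) 68 5 18 3 0 18 35 32 2 3 3 76 76 3 0 72 34 2 3 35 70 70 18 3 0 1 35 34 75 70 33 18) (@D3.rec (fun _ => Nat) 18 0 1 18 78 35 74 30 74 79 72 73 78 82 35 32 78 74 29 3 0 1 76 35 34 77 77 79 3 81 18 0) (@D3.rec (fun _ => Nat) 1 1 35 35 85 81 1 70 75 69 73 77 71 1 2 5 2 3 27 5 18 18 3 0 18 18 35 69 71 69 3 0) (@D3.rec (fun _ => Nat) 74 71 34 68 6 18 3 0 1 34 34 2 68 6 18 18 0 1 18 79 35 71 3 0 77 73 72 3 0 35 69 74) (@D3.rec (fun _ => Nat) 28 69 0 1 28 0 74 31 35 70 18 3 0 1 35 32 2 37 33 18 18 0 1 2 35 34 3 33 0 18 0 0) (@D3.rec (fun _ => Nat) 1 18 80 35 37 71 76 0 78 0 1 81 3 37 36 82 0 0 1 80 86 0 1 84 35 79 18 76 79 79 78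 78) (@D3.rec (fun _ => Nat) 78 1 85 18 76 18 0 80 77 80 1 80 82 35 78 78 75 72 2 3 3 18 0 33 75 0 72 0 68 0 34 0) (@D3.rec (fun _ => Nat) 1 77 75 79 73 75 1 76 77 69 2 3 3 1 2 38 2 3 5 5 19 3 0 19 77 33 77 0 29 73 3 0) (@D3.rec (fun _ => Nat) 1 34 2 6 6 19 0 1 69 3 0 77 67 3 0 69 69 69 31 0 1 30 68 3 0 1 34 2 21 21 19 0) (@D3.rec (fun _ => Nat) 0 1 2 35 34 3 21 0 19 0 0 1 19 76 2 32 35 3 71 3 34 33 76 0 0 1 78 77 1 78 80 81) (@D3.rec (fun _ => Nat) 77 0 1 78 79 71 86 1 1 21 76 3 0 17 0 1 1 34 36 34 72 0 1 2 35 3 34 0 0 1 35 3) (@D3.rec (fun _ => Nat) 79 77 81 7 3 0 74 6 2 3 31 6 6 78 3 0 1 29 2 6 6 19 19 0 1 19 0 20 8 1 32 7)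
def lv_e_14 : D2 → D3 → Nat := @D2.rec (fun _ => D3 → Nat) (@D3.rec (fun _ => Nat) 3 0 1 34 2 7 7 19 0 1 2 35 34 3 7 0 19 0 1 19 2 34 36 3 71 0 30 0 1 73 1 35) (@D3.rec (fun _ => Nat) 2 70 70 19 0 1 2 35 34 3 72 0 19 0 0 1 19 3 35 34 0 0 0 1 0 0 1 0 1 5 19 3) (@D3.rec (fun _ => Nat) 34 34 0 0 1 74 1 77 74 77 77 1 77 1 78 73 0 75 1 81 73 80 1 79 78 18 84 77 3 80 76 81) (@D3.rec (fun _ => Nat) 79 80 79 1 85 2 36 37 3 72 84 30 85 87 3 35 34 83 0 0 1 80 84 0 1 84 86 83 1 0 1 1) (@D3.rec (fun _ => Nat) 81 76 79 78 1 79 78 79 0 79 29 22 79 2 38 3 7 82 0 87 0 1 85 3 37 38 81 83 86 2 3 5) (@D3.rec (fun _ => Nat) 70 3 0 72 36 0 39 6 0 1 36 21 21 0 0 1 2 35 3 21 0 0 0 1 36 78 36 3 33 33 81 0) (@D3.rec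 (fun _ => Nat) 0 1 80 87 0 1 36 0 1 36 0 1 1 84 74 21 68 6 6 72 78 0 1 80 0 38 2 35 3 7 0 0) (@D3.rec (fun _ => Nat) 0 1 36 82 3 35 35 0 0 0 1 0 0 1 0 1 5 36 80 82 1 36 78 82 0 0 1 0 1 0 1 85) (@D3.rec (fun _ => Nat) 84 1 0 1 80 76 81 83 84 1 40 83 1 83 0 1 0 1 1 36 2 3 5 19 3 0 19 35 69 30 69 3) (@D3.rec (fun _ => Nat) 0 74 30 36 3 0 35 70 6 19 0 1 76 35 34 3 0 73 75 0 0 1 74 36 3 0 35 70 19 0 0 1) (@D3.rec (fun _ => Nat) 35 36 77 72 0 19 0 0 1 19 85 35 79 75 75 78 80 35 80 76 0 1 35 87 81 1 82 35 71 78 0 2) (@D3.rec (fun _ => Nat) 3 6 3 0 31 6 19 19 0 1 19 0 37 0 0 71 0 1 74 0 36 70 7 19 0 1 2 35 36 3 70 0) (@D3.rec (fun _ => Nat) 19 0 0 1 19 79 87 73 0 1 81 0 72 0 1 35 71 0 31 0 0 1 9 0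 1 85 35 34 70 19 0 1) (@D3.rec (fun _ => Nat) 2 35 36 3 35 0 19 0 0 1 19 3 35 36 0 0 0 1 0 0 1 0 1 5 19 86 35 39 0 75 0 1) (@D3.rec (fun _ => Nat) 80 81 1 80 76 82 0 1 0 1 86 0 1 84 80 79 87 82 85 76 78 73 0 1 79 3 1 39 0 1 0 1) (@D3.rec (fun _ => Nat) 0 0 1 0 1 35 79 77 36 78 69 3 0 2 3 38 3 0 6 6 20 0 1 0 76 0 0 1 0 73 0 0) (@D3.rec (fun _ => Nat) 1 2 36 3 7 0 0 1 20 71 0 1 77 69 0 0 1 71 71 0 0 1 9 28 68 0 0 1 2 36 3 22) (@D3.rec (fun _ => Nat) 0 0 0 1 1 20 3 35 36 0 0 0 1 0 0 1 1 5 20 3 32 32 80 77 0 1 1 83 78 85 1 88) (@D3.rec (fun _ => Nat) 77 11 85 22 0 0 1 20 1 35 76 36 34 0 0 0 1 72 3 37 0 0 1 1 5 35 78 8 0 1 79 7) (@D3.rec (fun _ => Nat) 3 0 33 7 7 78 0 1 2 36 3 7 0 20 0 0 1 20 80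 0 1 83 73 32 8 0 1 2 36 3 8 0) (@D3.rec (fun _ => Nat) 0 0 1 20 3 35 36 0 0 1 0 1 5 20 3 36 36 0 0 1 0 1 5 73 2 35 3 70 0 0 0 1) (@D3.rec (fun _ => Nat) 20 3 35 36 0 0 0 1 0 0 1 0 1 5 20 0 0 0 0 1 0 1 0 1 5 1 1 5 1 6 6 82)
def lv_e_15 : D2 → D3 → Nat := @D2.rec (fun _ => D3 → Nat) (@D3.rec (fun _ => Nat) 74 80 1 1 79 8 75 77 1 85 76 84 76 84 84 84 3 35 36 85 83 83 85 87 87 86 85 84 0 1 0 1) (@D3.rec (fun _ => Nat) 1 82 1 0 1 79 79 3 38 85 84 85 0 1 86 83 1 86 80 86 3 0 6 70 0 1 0 38 0 1 39 0) (@D3.rec (fun _ => Nat) 0 1 36 36 22 0 0 1 1 36 3 37 0 0 0 1 0 1 0 1 5 36 36 77 75 84 0 1 0 1 0 1) (@D3.rec (fun _ => Nat) 1 83 1 11 22 70 7 0 74 0 0 1 36 83 0 1 38 3 37 0 0 0 1 0 1 1 5 36 0 0 0 0) (@D3.rec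 (fun _ => Nat) 1 0 1 0 1 5 0 1 0 1 5 0 1 6 6 7 76 82 0 1 81 1 0 1 0 1 8 1 84 84 40 78) (@D3.rec (fun _ => Nat) 0 1 1 36 3 0 6 20 0 1 0 39 0 0 69 0 1 74 0 36 0 0 1 37 70 0 0 0 1 20 77 37) (@D3.rec (fun _ => Nat) 0 0 1 81 0 0 1 0 1 9 36 0 0 1 37 0 0 1 1 20 37 36 0 0 0 1 0 0 1 0 1 5) (@D3.rec (fun _ => Nat) 20 37 75 80 85 81 72 1 11 37 0 0 1 3 0 7 0 1 29 0 20 0 0 1 20 0 1 39 1 1 0 0) (@D3.rec (fun _ => Nat) 1 9 78 1 37 70 0 0 0 1 20 3 37 36 0 0 0 1 0 0 1 0 1 5 20 82 79 0 0 1 8 1) (@D3.rec (fun _ => Nat) 0 0 1 75 37 0 0 1 0 0 1 0 1 5 9 81 1 37 37 0 0 0 1 20 3 37 36 0 0 0 1 0) (@D3.rec (fun _ => Nat) 0 1 0 1 5 20 0 0 0 0 1 0 1 0 1 5 1 0 1 5 0 1 6 6 0 1 77 85 1 87 82 81) (@D3.rec (fun _ => Nat)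 0 1 0 1 8 1 79 84 1 41 1 37 0 1 76 0 1 1 37 1 74 37 36 0 0 0 1 3 0 40 0 0) (@D3.rec (fun _ => Nat) 1 7 0 0 0 1 21 0 1 76 1 0 1 9 0 1 0 1 1 21 3 36 0 0 1 1 5 21 0 0 1 8) (@D3.rec (fun _ => Nat) 0 0 1 1 69 0 0 1 1 5 9 32 0 0 1 1 21 3 36 0 0 0 1 0 1 1 5 11 21 21 0 0) (@D3.rec (fun _ => Nat) 0 0 1 0 1 1 5 1 1 5 6 6 84 1 8 12 12 80 23 1 0 1 37 72 37 76 0 0 0 1 0 1) (@D3.rec (fun _ => Nat) 1 5 74 0 0 1 1 5 5 6 0 1 73 79 8 0 1 33 8 0 0 0 1 21 3 36 0 0 0 1 0 0) (@D3.rec (fun _ => Nat) 1 0 1 5 21 83 82 1 86 73 34 0 0 1 21 3 36 0 0 0 1 0 1 1 5 21 0 0 0 1 1 5) (@D3.rec (fun _ => Nat) 1 5 6 0 0 0 1 1 5 1 5 6 3 37 0 0 0 1 0 1 0 1 5 21 0 0 0 0 1 0 1 0) (@D3.rec (fun _ => Nat) 1 5 1 1 5 1 6 6 0 1 1 1 1 5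 1 7 1 8 6 6 11 6 6 77 7 83 78 86 83 86 79 85) (@D3.rec (fun _ => Nat) 85 85 85 80 82 1 1 19 0 1 88 86 84 80 84 79 85 1 86 85 0 0 1 0 0 0 1 38 0 1 40 1) (@D3.rec (fun _ => Nat) 70 0 0 1 0 1 74 38 0 0 1 0 1 70 11 38 38 0 0 0 1 0 1 0 1 5 1 5 0 1 6 6) (@D3.rec (fun _ => Nat) 84 0 1 0 1 8 1 12 12 12 23 0 0 0 1 0 0 1 0 1 5 38 83 82 1 40 0 0 0 1 0 1)
def lv_e_16 : D2 → D3 → Nat := @D2.rec (fun _ => D3 → Nat) (@D3.rec (fun _ => Nat) 1 5 1 5 6 6 0 1 0 1 0 1 0 1 5 0 1 7 0 1 8 6 6 1 74 1 7 6 6 1 7 7) (@D3.rec (fun _ => Nat) 8 83 1 9 0 1 9 1 9 85 1 0 0 0 1 0 0 0 1 21 0 1 39 1 0 1 0 0 1 9 0 1) (@D3.rec (fun _ => Nat) 0 1 1 21 0 0 0 1 0 1 0 1 5 21 1 0 1 8 1 1 9 1 79 9 0 1 1 21 0 1 1 5) (@D3.rec (fun _ =>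 Nat) 11 21 21 0 0 1 0 1 0 1 5 1 1 5 0 1 6 6 87 12 12 1 1 9 0 1 0 1 21 0 0 1) (@D3.rec (fun _ => Nat) 0 0 1 0 1 5 21 1 39 8 75 0 1 0 1 71 9 21 0 0 0 1 1 1 5 21 0 0 0 0 1 0) (@D3.rec (fun _ => Nat) 1 0 1 5 1 0 1 5 0 1 6 6 0 1 1 71 10 75 0 1 0 1 73 77 0 0 1 0 1 5 1 0) (@D3.rec (fun _ => Nat) 1 5 84 1 6 6 0 0 0 1 1 1 5 21 0 0 0 0 1 0 1 0 1 5 0 1 1 5 1 6 6 1) (@D3.rec (fun _ => Nat) 1 0 1 0 1 5 0 1 7 0 1 8 6 6 11 1 6 6 1 7 7 87 1 85 81 0 1 9 1 9 13 37) (@D3.rec (fun _ => Nat) 37 1 74 76 1 70 37 37 76 76 83 1 0 1 1 9 0 0 1 0 0 1 1 22 0 1 0 1 0 1 5 22) (@D3.rec (fun _ => Nat) 0 1 84 8 1 34 9 1 22 1 31 22 22 0 0 1 1 5 5 6 0 1 1 33 10 0 1 1 33 12 71 71) (@D3.rec (fun _ => Nat) 1 1 5 5 6 0 0 1 1 31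 22 22 0 0 0 1 0 1 1 5 1 5 6 6 83 12 22 1 1 1 1 5) (@D3.rec (fun _ => Nat) 1 7 8 6 6 37 6 6 7 9 13 13 82 74 1 78 37 74 0 1 0 1 1 5 1 5 6 6 1 1 5 7) (@D3.rec (fun _ => Nat) 6 6 0 1 83 75 86 0 1 22 0 0 0 1 1 0 1 5 22 0 0 0 1 0 1 0 1 5 0 1 0 1) (@D3.rec (fun _ => Nat) 5 0 1 6 6 82 7 0 0 1 0 1 31 22 0 0 0 1 0 1 1 5 1 5 6 6 0 1 1 1 5 7) (@D3.rec (fun _ => Nat) 6 31 6 0 1 1 1 5 7 6 10 6 0 0 0 1 0 1 0 1 5 1 5 1 6 6 0 1 1 1 1 5) (@D3.rec (fun _ => Nat) 1 7 1 19 6 6 73 6 6 78 7 1 22 11 6 6 6 79 7 81 81 7 11 7 80 85 89 80 20 20 84 1) (@D3.rec (fun _ => Nat) 86 83 81 86 0 1 1 74 0 1 0 1 0 1 5 38 0 1 40 12 72 72 0 1 0 1 74 1 74 74 0 1) (@D3.rec (fun _ => Nat) 0 1 72 1 12 72 72 0 12 38 1 0 1 1 5 0 1 7 0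 1 8 6 6 6 6 1 78 7 0 1 9 1) (@D3.rec (fun _ => Nat) 9 13 13 13 0 1 0 1 0 1 5 0 1 0 1 5 0 1 6 6 85 7 0 1 0 1 1 5 1 7 31 6) (@D3.rec (fun _ => Nat) 6 6 6 7 1 22 1 74 0 1 6 1 9 6 6 0 1 9 7 7 1 9 7 84 7 75 74 7 80 8 7 84) (@D3.rec (fun _ => Nat) 8 10 1 10 10 10 0 1 0 1 1 22 0 1 0 1 0 1 5 22 86 1 41 8 1 34 0 1 1 32 9 1) (@D3.rec (fun _ => Nat) 22 1 32 12 22 22 0 1 0 1 0 1 5 1 5 1 6 6 10 1 35 10 77 81 11 78 78 1 32 22 22 1)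
def lv_e_17 : D2 → D3 → Nat := @D2.rec (fun _ => D3 → Nat) (@D3.rec (fun _ => Nat) 5 5 6 86 12 22 1 1 5 1 7 0 1 79 6 35 6 6 1 78 7 13 8 75 9 1 22 1 78 22 0 1) (@D3.rec (fun _ => Nat) 0 1 5 1 1 5 0 1 6 6 7 10 75 0 1 71 1 71 71 22 1 0 1 1 5 5 79 6 0 1 1 0) (@D3.rec (fun _ => Nat) 1 0 1 5 0 1 7 0 1 29 6 6 30 1 6 6 1 7 7 1 73 71 71 77 0 1 75 1 75 75 1 0) (@D3.rec (fun _ => Nat) 1 5 0 1 6 6 10 1 83 6 6 7 7 1 0 1 1 5 5 77 6 0 1 0 1 0 1 1 5 0 1 7) (@D3.rec (fun _ => Nat) 1 30 6 6 1 35 13 6 6 79 7 37 11 0 1 6 1 6 6 0 1 9 7 7 1 9 7 85 7 11 7 7) (@D3.rec (fun _ => Nat) 82 8 11 1 10 10 10 10 14 39 81 78 70 70 39 76 8 1 71 82 9 0 1 1 23 0 1 0 1 5 29 23) (@D3.rec (fun _ => Nat) 23 1 78 0 1 5 0 1 6 6 84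 1 7 10 36 36 23 23 33 36 23 1 1 5 7 6 6 1 75 35 35 1) (@D3.rec (fun _ => Nat) 33 33 33 83 13 71 5 75 6 6 0 1 1 31 81 31 23 0 1 0 1 1 5 1 7 30 6 6 6 6 7 85) (@D3.rec (fun _ => Nat) 83 13 23 33 6 6 6 9 79 7 86 7 33 7 14 74 81 82 1 5 1 74 30 6 6 6 6 7 38 6 6 7) (@D3.rec (fun _ => Nat) 0 1 82 82 1 82 23 1 0 1 0 1 5 5 0 1 83 6 1 0 1 0 1 5 0 1 7 0 1 6 6 1) (@D3.rec (fun _ => Nat) 76 81 1 7 6 6 1 7 7 0 1 0 1 33 1 36 36 0 1 1 1 5 1 7 29 6 6 6 6 7 1 9) (@D3.rec (fun _ => Nat) 33 6 6 7 33 1 75 12 6 6 7 12 0 1 1 1 5 0 1 7 1 6 6 6 6 81 7 1 74 75 6 6) (@D3.rec (fun _ => Nat) 6 20 83 7 20 80 80 7 75 7 79 23 23 13 8 7 79 79 84 85 85 0 1 44 30 74 74 0 1 45 0 1) (@D3.rec (fun _ => Nat) 5 0 1 6 6 84 1 7 82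 13 72 0 1 41 1 32 76 76 76 76 0 1 41 1 31 72 72 72 83 13 72 1) (@D3.rec (fun _ => Nat) 2 2 13 23 1 6 6 6 0 1 9 7 7 1 9 84 83 7 7 84 1 10 10 14 14 1 5 0 1 39 0 1) (@D3.rec (fun _ => Nat) 32 6 6 1 76 0 1 7 6 6 1 7 7 1 70 1 6 32 6 6 32 7 7 0 7 7 23 23 78 76 1 10) (@D3.rec (fun _ => Nat) 8 8 7 80 7 1 10 9 83 10 9 10 87 84 8 83 79 8 82 82 82 11 11 1 23 0 1 40 30 23 23 0) (@D3.rec (fun _ => Nat) 1 40 0 1 5 0 1 6 6 7 10 34 34 1 34 34 34 23 23 36 38 76 13 23 1 5 1 40 1 30 6 6) (@D3.rec (fun _ => Nat) 6 6 75 7 10 35 35 75 81 79 32 32 23 5 6 6 83 85 32 6 6 83 7 1 76 84 32 7 76 76 10 77) (@D3.rec (fun _ => Nat) 80 23 74 80 1 5 1 30 6 6 74 7 6 6 1 82 7 8 1 30 73 73 73 73 5 1 40 77 6 6 77 1) (@D3.rec (fun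 _ => Nat) 41 32 0 1 6 1 30 6 6 0 1 30 7 7 1 30 7 0 7 32 7 7 77 8 31 75 75 73 1 31 75 75) (@D3.rec (fun _ => Nat) 75 75 12 1 11 6 6 1 7 7 12 7 83 7 8 5 1 37 31 76 6 6 76 1 38 1 32 1 6 31 6 6)
def lv_e_18 : D2 → D3 → Nat := @D2.rec (fun _ => D3 → Nat) (@D3.rec (fun _ => Nat) 1 31 7 7 31 78 0 7 32 32 84 14 7 78 39 13 1 8 8 7 7 1 10 9 85 10 9 10 84 10 81 8) (@D3.rec (fun _ => Nat) 84 8 86 11 11 11 11 15 83 72 10 30 71 71 80 1 40 30 24 24 1 5 0 1 30 6 6 0 24 77 77 0) (@D3.rec (fun _ => Nat) 1 7 6 6 1 7 7 8 36 24 33 75 6 6 7 31 75 75 35 31 35 35 35 79 79 14 6 75 1 40 31 77) (@D3.rec (fun _ => Nat) 33 77 1 41 1 6 31 6 6 31 7 7 0 7 7 87 85 24 37 8 7 84 81 83 81 31 6 6 31 76 76 0) (@D3.rec (fun _ =>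 Nat) 7 7 38 8 1 85 85 39 82 5 0 1 40 0 1 30 84 6 6 1 84 83 9 0 1 6 1 83 6 6 0 1) (@D3.rec (fun _ => Nat) 7 7 1 7 7 81 79 7 81 7 84 8 0 1 41 1 30 33 33 82 33 1 40 6 30 6 6 30 85 7 0 7) (@D3.rec (fun _ => Nat) 7 82 10 33 8 75 75 12 8 1 41 6 6 6 1 79 7 82 7 7 82 76 76 75 8 7 82 83 82 82 82 24) (@D3.rec (fun _ => Nat) 0 1 31 46 46 0 31 76 0 1 33 45 45 0 1 7 6 6 1 7 7 8 83 85 14 1 33 41 41 33 76 0) (@D3.rec (fun _ => Nat) 76 76 1 32 41 41 32 74 0 32 74 74 83 83 14 2 2 4 3 24 8 8 7 1 10 80 83 9 10 80 80 85) (@D3.rec (fun _ => Nat) 11 33 6 6 0 1 33 41 41 1 33 87 0 7 81 78 1 7 38 7 8 8 33 72 72 33 8 8 0 7 0 33) (@D3.rec (fun _ => Nat) 9 1 2 24 77 8 87 8 8 86 11 81 84 11 9 84 84 87 84 87 82 12 31 24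 24 1 31 42 42 0 31 24) (@D3.rec (fun _ => Nat) 1 31 42 42 1 7 6 6 1 7 7 8 36 31 34 34 34 24 34 82 82 31 6 6 31 40 42 31 78 0 7 7) (@D3.rec (fun _ => Nat) 78 37 34 6 83 34 8 79 79 79 80 80 76 31 6 6 31 84 0 7 78 39 8 7 80 84 31 73 0 73 73 6) (@D3.rec (fun _ => Nat) 42 42 80 31 41 41 32 1 31 8 8 31 7 0 7 1 31 9 0 31 9 31 80 0 8 1 2 8 80 0 75 32) (@D3.rec (fun _ => Nat) 77 0 77 85 12 7 75 7 81 8 8 83 6 32 39 39 0 79 32 38 38 32 34 34 32 8 8 0 32 7 32 81) (@D3.rec (fun _ => Nat) 0 9 32 0 81 1 2 37 80 83 15 8 8 8 11 84 11 83 11 9 87 84 11 90 86 88 88 12 12 0 73 31) (@D3.rec (fun _ => Nat) 40 40 0 25 31 6 6 1 31 84 0 7 1 2 77 1 8 7 76 7 8 8 77 8 0 77 0 35 85 81 32 42) (@D3.rec (fun _ => Nat) 42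 0 83 32 41 41 32 8 8 0 7 0 32 9 1 2 87 81 0 7 0 76 1 2 88 87 41 6 0 1 31 86) (@D3.rec (fun _ => Nat) 40 1 31 85 0 80 83 86 10 1 8 8 7 82 7 1 9 9 90 8 81 8 83 83 1 31 44 41 31 84 0 35) (@D3.rec (fun _ => Nat) 84 31 45 42 8 0 7 0 85 1 2 82 77 41 41 8 7 83 81 82 76 82 82 1 32 46 0 32 46 1 2 2) (@D3.rec (fun _ => Nat) 32 1 34 47 0 47 1 8 7 40 7 8 8 81 84 34 43 0 43 34 0 78 1 2 33 43 0 33 43 0 74 1) (@D3.rec (fun _ => Nat) 2 2 33 85 85 4 84 3 5 8 11 84 82 86 88 0 7 1 34 87 0 41 34 83 0 88 1 2 83 8 8 40)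
def lv_e_19 : D2 → D3 → Nat := @D2.rec (fun _ => D3 → Nat) (@D3.rec (fun _ => Nat) 9 0 72 0 8 1 2 1 2 2 2 10 84 84 12 83 88 85 81 89 0 25 32 42 0 42 1 2 2 32 42 0) (@D3.rec (fun _ => Nat) 42 7 39 8 7 84 8 0 36 78 0 7 0 42 0 77 1 2 78 0 32 7 0 86 1 2 39 84 80 0 75 1) (@D3.rec (fun _ => Nat) 2 42 0 43 32 8 0 8 32 0 8 1 2 32 79 0 32 9 1 2 2 0 79 1 2 2 1 2 0 77 1 2) (@D3.rec (fun _ => Nat) 8 77 83 0 39 1 2 0 40 0 34 0 8 1 2 2 33 33 0 80 1 2 0 1 2 2 84 86 10 12 88 12) (@D3.rec (fun _ => Nat) 88 86 83 88 87 88 89 90 1 2 0 42 1 2 0 7 83 0 85 1 2 2 8 91 8 76 9 1 2 1 2 81) (@D3.rec (fun _ => Nat) 0 33 42 1 2 0 41 0 8 1 2 1 2 2 2 1 2 1 2 2 88 1 32 89 0 88 84 0 89 1 2 85) (@D3.rec (fun _ => Nat) 8 8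 8 85 85 9 92 32 84 0 46 0 84 1 2 0 45 1 2 1 2 2 43 87 33 48 0 33 48 1 2 2) (@D3.rec (fun _ => Nat) 2 2 4 3 35 47 35 0 47 1 2 8 84 8 40 9 85 35 0 43 1 2 0 1 2 2 0 34 43 1 2 2) (@D3.rec (fun _ => Nat) 1 2 2 2 4 3 85 90 5 86 82 1 2 87 0 87 1 2 0 91 1 2 2 9 1 2 1 2 2 2 2 4) (@D3.rec (fun _ => Nat) 82 84 86 87 1 2 0 44 1 2 2 2 4 0 44 1 2 8 41 84 84 1 2 1 2 1 2 1 2 2 1 2) (@D3.rec (fun _ => Nat) 2 1 2 2 85 1 2 2 1 2 0 10 1 2 0 1 2 2 0 82 1 2 2 2 2 4 1 2 2 15 2 1) (@D3.rec (fun _ => Nat) 2 2 1 2 2 1 2 1 2 1 2 2 2 4 3 0 1 2 2 1 2 2 15 82 88 84 87 88 90 89 2 1) (@D3.rec (fun _ => Nat) 2 2 1 2 85 1 2 2 13 9 91 2 2 1 2 2 2 1 2 1 2 2 2 2 4 15 2 2 85 89 0 89) (@D3.rec (fun _ => Nat) 1 2 88 1 2 2 10 85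 0 86 1 2 1 2 2 1 2 2 2 81 0 48 1 2 2 2 2 4 75 4 3 5) (@D3.rec (fun _ => Nat) 0 49 0 1 2 2 9 86 0 1 2 2 1 2 2 80 1 2 2 2 2 4 2 76 4 3 5 91 2 89 1 2) (@D3.rec (fun _ => Nat) 2 1 2 2 82 2 2 82 80 4 90 2 1 2 2 79 4 1 2 2 84 2 2 2 2 15 2 2 4 2 76 2) (@D3.rec (fun _ => Nat) 14 2 1 2 2 1 2 2 79 1 2 2 2 4 77 4 2 15 84 2 16 2 81 2 2 2 9 4 3 5 1 2) (@D3.rec (fun _ => Nat) 2 81 2 17 91 90 14 2 74 2 2 77 77 16 2 2 4 75 2 2 39 75 4 82 80 91 1 2 2 2 83 1) (@D3.rec (fun _ => Nat) 2 2 2 81 2 85 79 1 2 2 2 4 77 4 80 5 1 2 1 2 2 78 1 2 2 78 2 82 2 2 4 76) (@D3.rec (fun _ => Nat) 4 86 89 5 78 2 80 2 79 76 80 79 83 2 80 84 2 78 14 42 77 86 76 4 88 16 45 2 46 2 85 2) (@D3.rec (fun _ => Nat) 79 4 79 86 16 81 86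 9 46 87 5 2 81 81 78 80 80 77 4 42 41 77 2 81 80 2 79 81 45 2 82 4) (@D3.rec (fun _ => Nat) 86 86 2 2 80 2 80 92 88 4 78 95 81 93 82 78 76 81 81 96 79 87 83 77 80 79 86 90 95 94 83 82)
def lv_e : Pt → Nat := @Pt.rec (fun _ => Nat) (@D1.rec (fun _ => D2 → D3 → Nat) lv_e_0 lv_e_1 lv_e_2 lv_e_3 lv_e_4 lv_e_5 lv_e_6 lv_e_7 lv_e_8 lv_e_9 lv_e_10 lv_e_11 lv_e_12 lv_e_13 lv_e_14 lv_e_15 lv_e_16 lv_e_17 lv_e_18 lv_e_19)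
abbrev lc_e_Cert_tree : Cert rels S Gen.e := Cert.tree
abbrev lc_e_rc_12_1 : Cert rels S Gen.e := rc_12_1
abbrev lc_e_rc_12_3 : Cert rels S Gen.e := rc_12_3
abbrev lc_e_rc_19_1 : Cert rels S Gen.e := rc_19_1
abbrev lc_e_rc_19_3 : Cert rels S Gen.e := rc_19_3
abbrev lc_e_rc_25_1 : Cert rels S Gen.e := rc_25_1
abbrev lc_e_rc_25_3 : Cert rels S Gen.e := rc_25_3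
abbrev lc_e_rc_25_5 : Cert rels S Gen.e := rc_25_5
abbrev lc_e_rc_30_0 : Cert rels S Gen.e := rc_30_0
abbrev lc_e_rc_30_1 : Cert rels S Gen.e := rc_30_1
abbrev lc_e_rc_31_0 : Cert rels S Gen.e := rc_31_0
abbrev lc_e_rc_31_2 : Cert rels S Gen.e := rc_31_2
abbrev lc_e_rc_32_0 : Cert rels S Gen.e := rc_32_0
abbrev lc_e_rc_32_2 : Cert rels S Gen.e := rc_32_2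
abbrev lc_e_rc_32_4 : Cert rels S Gen.e := rc_32_4
abbrev lc_e_rc_33_0 : Cert rels S Gen.e := rc_33_0
abbrev lc_e_rc_33_2 : Cert rels S Gen.e := rc_33_2
abbrev lc_e_rc_34_0 : Cert rels S Gen.e := rc_34_0
abbrev lc_e_rc_34_2 : Cert rels S Gen.e := rc_34_2
abbrev lc_e_rc_45_13 : Cert rels S Gen.e := rc_45_13
abbrev lc_e_rc_45_22 : Cert rels S Gen.e := rc_45_22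
abbrev lc_e_rc_45_31 : Cert rels S Gen.e := rc_45_31
abbrev lc_e_rc_45_40 : Cert rels S Gen.e := rc_45_40
abbrev lc_e_rc_45_49 : Cert rels S Gen.e := rc_45_49
abbrev lc_e_rc_45_58 : Cert rels S Gen.e := rc_45_58
abbrev lc_e_rc_45_67 : Cert rels S Gen.e := rc_45_67
abbrev lc_e_rc_45_76 : Cert rels S Gen.e := rc_45_76
abbrev lc_e_rc_45_85 : Cert rels S Gen.e := rc_45_85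
abbrev lc_e_rc_46_11 : Cert rels S Gen.e := rc_46_11
abbrev lc_e_rc_46_25 : Cert rels S Gen.e := rc_46_25
abbrev lc_e_rc_46_32 : Cert rels S Gen.e := rc_46_32
abbrev lc_e_rc_46_39 : Cert rels S Gen.e := rc_46_39
abbrev lc_e_rc_46_4 : Cert rels S Gen.e := rc_46_4
abbrev lc_e_rc_46_46 : Cert rels S Gen.e := rc_46_46
abbrev lc_e_rc_46_53 : Cert rels S Gen.e := rc_46_53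
abbrev lc_e_rc_47_10 : Cert rels S Gen.e := rc_47_10
abbrev lc_e_rc_47_17 : Cert rels S Gen.e := rc_47_17
abbrev lc_e_rc_47_24 : Cert rels S Gen.e := rc_47_24
abbrev lc_e_rc_47_3 : Cert rels S Gen.e := rc_47_3
abbrev lc_e_rc_47_31 : Cert rels S Gen.e := rc_47_31
abbrev lc_e_rc_47_38 : Cert rels S Gen.e := rc_47_38
abbrev lc_e_rc_47_45 : Cert rels S Gen.e := rc_47_45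
abbrev lc_e_rc_47_52 : Cert rels S Gen.e := rc_47_52
abbrev lc_e_rc_4_1 : Cert rels S Gen.e := rc_4_1
abbrev lc_e_rc_4_3 : Cert rels S Gen.e := rc_4_3
abbrev lc_e_sc_3_0 : Cert rels S Gen.e := sc_3_0
def ce_e_0 : D2 → D3 → (Cert rels S Gen.e) := @D2.rec (fun _ => D3 → (Cert rels S Gen.e)) (@D3.rec (fun _ => (Cert rels S Gen.e)) lc_e_sc_3_0 lc_e_rc_4_1 lc_e_rc_12_1 lc_e_rc_19_1 lc_e_Cert_tree lc_e_rc_30_0 lc_e_rc_31_2 lc_e_rc_32_2 lc_e_rc_31_2 lc_e_rc_34_2 lc_e_rc_33_2 lc_e_rc_32_2 lc_e_rc_25_3 lc_e_rc_34_2 lc_e_rc_33_2 lc_e_Cert_tree lc_e_rc_34_2 lc_e_rc_19_1 lc_e_rc_25_3 lc_e_Cert_tree lc_e_rc_34_2 lc_e_Cert_tree lc_e_rc_30_0 lc_e_rc_34_2 lc_e_rc_12_1 lc_e_rc_19_1 lc_e_rc_31_2 lc_e_Cert_tree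 lc_e_rc_30_0 lc_e_rc_34_2 lc_e_Cert_tree lc_e_rc_30_0) (@D3.rec (fun _ => (Cert rels S Gen.e)) lc_e_rc_34_2 lc_e_rc_34_2 lc_e_rc_31_2 lc_e_rc_4_1 lc_e_rc_12_1 lc_e_rc_19_1 lc_e_Cert_tree lc_e_rc_30_0 lc_e_rc_34_2 lc_e_rc_32_2 lc_e_rc_34_2 lc_e_rc_31_2 lc_e_Cert_tree lc_e_rc_30_0 lc_e_rc_34_2 lc_e_rc_25_3 lc_e_rc_34_2 lc_e_rc_31_2 lc_e_rc_31_2 lc_e_rc_4_1 lc_e_rc_12_1 lc_e_Cert_tree lc_e_Cert_tree lc_e_rc_30_0 lc_e_rc_34_2 lc_e_rc_25_3 lc_e_rc_32_2 lc_e_rc_34_2 lc_e_rc_31_2 lc_e_rc_32_2 lc_e_rc_31_2 lc_e_rc_30_0) (@D3.rec (fun _ => (Cert rels S Gen.e)) lc_e_rc_34_2 lc_e_rc_12_1 lc_e_rc_34_2 lc_e_rc_31_2 lc_e_rc_31_2 lc_e_rc_25_3 lc_e_rc_31_2 lc_e_Cert_tree lc_e_rc_25_3 lc_e_rc_4_1 lc_e_Cert_tree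 lc_e_rc_30_0 lc_e_rc_30_0 lc_e_rc_34_2 lc_e_rc_12_1 lc_e_rc_12_1 lc_e_rc_34_2 lc_e_rc_31_2 lc_e_Cert_tree lc_e_rc_31_2 lc_e_rc_25_3 lc_e_rc_32_2 lc_e_rc_31_2 lc_e_Cert_tree lc_e_rc_31_2 lc_e_rc_25_3 lc_e_rc_4_1 lc_e_rc_34_2 lc_e_rc_31_2 lc_e_rc_19_1 lc_e_rc_12_1 lc_e_rc_12_1) (@D3.rec (fun _ => (Cert rels S Gen.e)) lc_e_rc_31_2 lc_e_Cert_tree lc_e_rc_34_2 lc_e_rc_31_2 lc_e_Cert_tree lc_e_rc_30_0 lc_e_rc_19_1 lc_e_rc_32_0 lc_e_rc_32_0 lc_e_rc_30_0 lc_e_rc_32_2 lc_e_rc_4_1 lc_e_rc_4_1 lc_e_rc_34_2 lc_e_rc_31_2 lc_e_rc_19_1 lc_e_Cert_tree lc_e_rc_12_1 lc_e_rc_12_1 lc_e_rc_12_1 lc_e_rc_31_2 lc_e_Cert_tree lc_e_rc_30_0 lc_e_rc_31_2 lc_e_rc_34_2 lc_e_rc_34_2 lc_e_rc_31_2 lc_e_rc_31_2 lc_e_Cert_tree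 lc_e_rc_30_0 lc_e_Cert_tree lc_e_rc_19_1) (@D3.rec (fun _ => (Cert rels S Gen.e)) lc_e_rc_4_1 lc_e_rc_31_2 lc_e_Cert_tree lc_e_rc_19_1 lc_e_rc_12_1 lc_e_rc_12_1 lc_e_Cert_tree lc_e_Cert_tree lc_e_rc_30_0 lc_e_rc_34_2 lc_e_Cert_tree lc_e_Cert_tree lc_e_rc_30_0 lc_e_rc_32_2 lc_e_rc_12_1 lc_e_rc_32_2 lc_e_rc_33_2 lc_e_Cert_tree lc_e_rc_4_1 lc_e_rc_4_1 lc_e_rc_31_2 lc_e_Cert_tree lc_e_Cert_tree lc_e_rc_19_1 lc_e_rc_30_0 lc_e_rc_31_2 lc_e_rc_34_2 lc_e_rc_12_1 lc_e_rc_12_1 lc_e_rc_31_2 lc_e_Cert_tree lc_e_Cert_tree) (@D3.rec (fun _ => (Cert rels S Gen.e)) lc_e_rc_30_0 lc_e_rc_31_2 lc_e_rc_34_2 lc_e_rc_34_2 lc_e_rc_31_2 lc_e_rc_34_2 lc_e_Cert_tree lc_e_Cert_tree lc_e_Cert_tree lc_e_rc_30_0 lc_e_rc_32_2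 lc_e_Cert_tree lc_e_rc_30_0 lc_e_rc_12_1 lc_e_rc_4_1 lc_e_Cert_tree lc_e_rc_30_0 lc_e_rc_19_1 lc_e_rc_12_1 lc_e_Cert_tree lc_e_Cert_tree lc_e_rc_30_0 lc_e_rc_30_0 lc_e_rc_32_2 lc_e_Cert_tree lc_e_Cert_tree lc_e_rc_30_0 lc_e_Cert_tree lc_e_rc_30_0 lc_e_rc_32_2 lc_e_rc_33_2 lc_e_rc_4_1) (@D3.rec (fun _ => (Cert rels S Gen.e)) lc_e_rc_33_2 lc_e_rc_30_0 lc_e_rc_34_2 lc_e_rc_4_1 lc_e_rc_4_1 lc_e_Cert_tree lc_e_rc_30_0 lc_e_rc_30_0 lc_e_rc_34_2 lc_e_rc_19_1 lc_e_rc_31_2 lc_e_rc_34_2 lc_e_rc_34_2 lc_e_rc_31_2 lc_e_rc_12_1 lc_e_Cert_tree lc_e_Cert_tree lc_e_Cert_tree lc_e_rc_30_0 lc_e_rc_30_0 lc_e_rc_32_2 lc_e_rc_25_3 lc_e_rc_34_2 lc_e_rc_31_2 lc_e_rc_31_2 lc_e_Cert_tree lc_e_Cert_tree lc_e_Cert_tree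 lc_e_rc_30_0 lc_e_Cert_tree lc_e_rc_30_0 lc_e_Cert_tree) (@D3.rec (fun _ => (Cert rels S Gen.e)) lc_e_rc_30_0 lc_e_rc_32_2 lc_e_rc_33_2 lc_e_Cert_tree lc_e_rc_30_0 lc_e_rc_4_1 lc_e_Cert_tree lc_e_Cert_tree lc_e_rc_30_0 lc_e_Cert_tree lc_e_Cert_tree lc_e_Cert_tree lc_e_rc_30_0 lc_e_Cert_tree lc_e_rc_30_0 lc_e_rc_12_1 lc_e_rc_25_3 lc_e_rc_33_2 lc_e_Cert_tree lc_e_rc_30_0 lc_e_Cert_tree lc_e_rc_30_0 lc_e_rc_31_2 lc_e_Cert_tree lc_e_rc_30_0 lc_e_rc_19_1 lc_e_rc_33_2 lc_e_rc_34_2 lc_e_rc_31_2 lc_e_Cert_tree lc_e_Cert_tree lc_e_Cert_tree) (@D3.rec (fun _ => (Cert rels S Gen.e)) lc_e_rc_30_0 lc_e_rc_4_1 lc_e_rc_25_3 lc_e_rc_34_2 lc_e_rc_31_2 lc_e_Cert_tree lc_e_rc_25_3 lc_e_rc_34_2 lc_e_rc_31_2 lc_e_rc_31_2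 lc_e_Cert_tree lc_e_Cert_tree lc_e_Cert_tree lc_e_rc_30_0 lc_e_Cert_tree lc_e_rc_30_0 lc_e_Cert_tree lc_e_rc_30_0 lc_e_rc_32_2 lc_e_rc_25_3 lc_e_rc_19_1 lc_e_rc_33_2 lc_e_rc_19_1 lc_e_rc_25_3 lc_e_rc_31_2 lc_e_Cert_tree lc_e_Cert_tree lc_e_Cert_tree lc_e_rc_30_0 lc_e_Cert_tree lc_e_rc_30_0 lc_e_Cert_tree) (@D3.rec (fun _ => (Cert rels S Gen.e)) lc_e_rc_30_0 lc_e_rc_32_2 lc_e_Cert_tree lc_e_rc_30_0 lc_e_rc_32_2 lc_e_Cert_tree lc_e_rc_30_0 lc_e_rc_19_1 lc_e_rc_33_2 lc_e_Cert_tree lc_e_rc_30_0 lc_e_rc_25_3 lc_e_Cert_tree lc_e_rc_30_0 lc_e_Cert_tree lc_e_rc_30_0 lc_e_Cert_tree lc_e_rc_30_0 lc_e_Cert_tree lc_e_rc_30_0 lc_e_Cert_tree lc_e_rc_30_0 lc_e_rc_31_2 lc_e_Cert_tree lc_e_rc_30_0 lc_e_rc_25_3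 lc_e_rc_19_1 lc_e_rc_12_1 lc_e_rc_31_2 lc_e_Cert_tree lc_e_rc_30_0 lc_e_rc_32_2) (@D3.rec (fun _ => (Cert rels S Gen.e)) lc_e_Cert_tree lc_e_rc_30_0 lc_e_rc_25_3 lc_e_rc_31_2 lc_e_rc_31_2 lc_e_rc_30_0 lc_e_rc_12_1 lc_e_rc_19_1 lc_e_rc_31_2 lc_e_Cert_tree lc_e_Cert_tree lc_e_rc_30_0 lc_e_Cert_tree lc_e_rc_30_0 lc_e_Cert_tree lc_e_rc_30_0 lc_e_rc_32_2 lc_e_rc_25_3 lc_e_rc_31_2 lc_e_Cert_tree lc_e_Cert_tree lc_e_rc_30_0 lc_e_rc_25_3 lc_e_rc_31_2 lc_e_Cert_tree lc_e_Cert_tree lc_e_Cert_tree lc_e_rc_30_0 lc_e_Cert_tree lc_e_rc_30_0 lc_e_Cert_tree lc_e_rc_30_0) (@D3.rec (fun _ => (Cert rels S Gen.e)) lc_e_rc_32_2 lc_e_Cert_tree lc_e_rc_30_0 lc_e_rc_32_2 lc_e_Cert_tree lc_e_rc_30_0 lc_e_rc_25_3 lc_e_rc_19_1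 lc_e_rc_33_2 lc_e_Cert_tree lc_e_rc_31_2 lc_e_rc_19_1 lc_e_rc_31_2 lc_e_Cert_tree lc_e_Cert_tree lc_e_rc_30_0 lc_e_Cert_tree lc_e_rc_30_0 lc_e_Cert_tree lc_e_rc_30_0 lc_e_rc_32_2 lc_e_Cert_tree lc_e_rc_30_0 lc_e_rc_32_2 lc_e_Cert_tree lc_e_rc_30_0 lc_e_rc_25_3 lc_e_rc_19_1 lc_e_rc_33_2 lc_e_Cert_tree lc_e_rc_30_0 lc_e_rc_25_3) (@D3.rec (fun _ => (Cert rels S Gen.e)) lc_e_rc_19_1 lc_e_rc_33_2 lc_e_rc_30_0 lc_e_rc_12_1 lc_e_rc_19_1 lc_e_rc_30_0 lc_e_rc_12_1 lc_e_rc_31_2 lc_e_Cert_tree lc_e_rc_30_0 lc_e_Cert_tree lc_e_rc_30_0 lc_e_Cert_tree lc_e_rc_30_0 lc_e_rc_32_2 lc_e_Cert_tree lc_e_rc_30_0 lc_e_rc_32_2 lc_e_Cert_tree lc_e_rc_30_0 lc_e_rc_25_3 lc_e_rc_31_2 lc_e_rc_31_2 lc_e_rc_30_0 lc_e_rc_12_1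 lc_e_rc_12_1 lc_e_rc_31_2 lc_e_rc_19_1 lc_e_Cert_tree lc_e_rc_30_0 lc_e_rc_25_3 lc_e_rc_32_2) (@D3.rec (fun _ => (Cert rels S Gen.e)) lc_e_rc_33_2 lc_e_rc_30_0 lc_e_rc_25_3 lc_e_rc_12_1 lc_e_Cert_tree lc_e_rc_31_2 lc_e_rc_4_1 lc_e_rc_12_1 lc_e_Cert_tree lc_e_Cert_tree lc_e_rc_30_0 lc_e_Cert_tree lc_e_rc_30_0 lc_e_rc_32_2 lc_e_Cert_tree lc_e_rc_30_0 lc_e_rc_32_2 lc_e_Cert_tree lc_e_rc_30_0 lc_e_rc_19_1 lc_e_rc_31_2 lc_e_Cert_tree lc_e_Cert_tree lc_e_rc_30_0 lc_e_Cert_tree lc_e_rc_30_0 lc_e_rc_32_2 lc_e_rc_31_2 lc_e_Cert_tree lc_e_Cert_tree lc_e_rc_30_0 lc_e_Cert_tree) (@D3.rec (fun _ => (Cert rels S Gen.e)) lc_e_rc_30_0 lc_e_Cert_tree lc_e_rc_30_0 lc_e_rc_32_2 lc_e_Cert_tree lc_e_rc_30_0 lc_e_rc_32_2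 lc_e_Cert_tree lc_e_rc_30_0 lc_e_rc_25_3 lc_e_rc_19_1 lc_e_rc_33_2 lc_e_Cert_tree lc_e_rc_30_0 lc_e_rc_25_3 lc_e_rc_19_1 lc_e_rc_33_2 lc_e_rc_30_0 lc_e_rc_12_1 lc_e_rc_12_1 lc_e_Cert_tree lc_e_rc_31_2 lc_e_rc_19_1 lc_e_rc_30_0 lc_e_rc_31_2 lc_e_rc_34_2 lc_e_rc_19_1 lc_e_Cert_tree lc_e_Cert_tree lc_e_rc_30_0 lc_e_Cert_tree lc_e_rc_30_0) (@D3.rec (fun _ => (Cert rels S Gen.e)) lc_e_rc_32_2 lc_e_Cert_tree lc_e_rc_30_0 lc_e_rc_32_2 lc_e_Cert_tree lc_e_rc_30_0 lc_e_rc_25_3 lc_e_rc_19_1 lc_e_rc_33_2 lc_e_Cert_tree lc_e_rc_30_0 lc_e_rc_25_3 lc_e_rc_19_1 lc_e_rc_33_2 lc_e_rc_30_0 lc_e_rc_25_3 lc_e_rc_12_1 lc_e_Cert_tree lc_e_rc_19_1 lc_e_rc_30_0 lc_e_rc_12_1 lc_e_rc_12_1 lc_e_rc_25_3 lc_e_rc_31_2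 lc_e_rc_19_1 lc_e_rc_4_1 lc_e_rc_12_1 lc_e_rc_4_1 lc_e_rc_19_1 lc_e_rc_12_1 lc_e_rc_34_2 lc_e_Cert_tree) (@D3.rec (fun _ => (Cert rels S Gen.e)) lc_e_rc_30_0 lc_e_rc_25_3 lc_e_rc_30_0 lc_e_Cert_tree lc_e_rc_30_0 lc_e_rc_25_3 lc_e_rc_32_2 lc_e_Cert_tree lc_e_rc_30_0 lc_e_rc_25_3 lc_e_rc_32_2 lc_e_rc_33_2 lc_e_rc_30_0 lc_e_rc_12_1 lc_e_rc_12_1 lc_e_rc_4_3 lc_e_rc_31_2 lc_e_rc_31_2 lc_e_rc_4_1 lc_e_rc_4_1 lc_e_rc_12_1 lc_e_rc_12_1 lc_e_rc_30_0 lc_e_rc_25_3 lc_e_rc_12_1 lc_e_Cert_tree lc_e_rc_31_2 lc_e_rc_33_2 lc_e_rc_4_1 lc_e_rc_4_1 lc_e_rc_19_1 lc_e_Cert_tree) (@D3.rec (fun _ => (Cert rels S Gen.e)) lc_e_rc_12_1 lc_e_rc_30_0 lc_e_rc_33_2 lc_e_rc_4_1 lc_e_Cert_tree lc_e_rc_30_0 lc_e_Cert_tree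 lc_e_rc_30_0 lc_e_rc_32_2 lc_e_Cert_tree lc_e_rc_30_0 lc_e_rc_25_3 lc_e_rc_19_1 lc_e_Cert_tree lc_e_rc_30_0 lc_e_rc_25_3 lc_e_rc_19_1 lc_e_rc_30_0 lc_e_rc_12_1 lc_e_Cert_tree lc_e_Cert_tree lc_e_rc_30_0 lc_e_Cert_tree lc_e_rc_30_0 lc_e_rc_32_2 lc_e_Cert_tree lc_e_rc_30_0 lc_e_rc_25_3 lc_e_rc_19_1 lc_e_rc_33_2 lc_e_Cert_tree lc_e_Cert_tree) (@D3.rec (fun _ => (Cert rels S Gen.e)) lc_e_rc_30_0 lc_e_Cert_tree lc_e_rc_30_0 lc_e_rc_32_2 lc_e_Cert_tree lc_e_rc_30_0 lc_e_rc_32_2 lc_e_Cert_tree lc_e_rc_30_0 lc_e_rc_25_3 lc_e_rc_19_1 lc_e_rc_33_2 lc_e_Cert_tree lc_e_rc_30_0 lc_e_rc_25_3 lc_e_rc_19_1 lc_e_rc_33_2 lc_e_rc_30_0 lc_e_rc_12_1 lc_e_rc_12_1 lc_e_Cert_tree lc_e_rc_31_2 lc_e_rc_19_1 lc_e_rc_30_0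 lc_e_rc_12_1 lc_e_rc_12_1 lc_e_Cert_tree lc_e_rc_31_2 lc_e_rc_19_1 lc_e_rc_4_1 lc_e_rc_4_1 lc_e_Cert_tree) (@D3.rec (fun _ => (Cert rels S Gen.e)) lc_e_rc_12_1 lc_e_rc_12_1 lc_e_rc_30_0 lc_e_rc_31_2 lc_e_rc_34_2 lc_e_rc_31_2 lc_e_Cert_tree lc_e_Cert_tree lc_e_rc_30_0 lc_e_Cert_tree lc_e_rc_30_0 lc_e_rc_32_2 lc_e_Cert_tree lc_e_rc_30_0 lc_e_rc_25_3 lc_e_rc_19_1 lc_e_rc_33_2 lc_e_Cert_tree lc_e_rc_30_0 lc_e_rc_25_3 lc_e_rc_19_1 lc_e_rc_33_2 lc_e_rc_30_0 lc_e_rc_12_1 lc_e_rc_12_1 lc_e_Cert_tree lc_e_rc_31_2 lc_e_rc_19_1 lc_e_rc_30_0 lc_e_rc_25_3 lc_e_rc_12_1 lc_e_Cert_tree) (@D3.rec (fun _ => (Cert rels S Gen.e)) lc_e_rc_31_2 lc_e_rc_19_1 lc_e_rc_4_1 lc_e_rc_4_1 lc_e_rc_19_1 lc_e_Cert_tree lc_e_rc_12_1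 lc_e_rc_30_0 lc_e_rc_33_2 lc_e_rc_4_1 lc_e_rc_4_1 lc_e_rc_19_1 lc_e_rc_12_1 lc_e_rc_12_1 lc_e_rc_12_1 lc_e_rc_25_3 lc_e_rc_31_2 lc_e_rc_34_2 lc_e_rc_4_1 lc_e_rc_4_1 lc_e_rc_4_1 lc_e_rc_19_1 lc_e_rc_12_1 lc_e_rc_30_0 lc_e_rc_12_1 lc_e_rc_30_0 lc_e_rc_12_1 lc_e_rc_12_1 lc_e_Cert_tree lc_e_rc_31_2 lc_e_rc_30_0 lc_e_rc_12_1) (@D3.rec (fun _ => (Cert rels S Gen.e)) lc_e_rc_12_1 lc_e_rc_32_4 lc_e_rc_4_1 lc_e_rc_33_2 lc_e_rc_4_1 lc_e_rc_4_1 lc_e_rc_19_1 lc_e_rc_12_1 lc_e_rc_12_1 lc_e_rc_12_1 lc_e_rc_33_2 lc_e_rc_4_1 lc_e_rc_4_1 lc_e_rc_4_1 lc_e_rc_4_1 lc_e_rc_19_1 lc_e_Cert_tree lc_e_rc_31_2 lc_e_rc_12_1 lc_e_rc_30_0 lc_e_rc_33_2 lc_e_rc_31_2 lc_e_rc_19_1 lc_e_Cert_tree lc_e_rc_4_1 lc_e_Cert_tree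 lc_e_rc_30_0 lc_e_rc_33_2 lc_e_rc_33_2 lc_e_Cert_tree lc_e_rc_30_0 lc_e_rc_4_1)
def ce_e_1 : D2 → D3 → (Cert rels S Gen.e) := @D2.rec (fun _ => D3 → (Cert rels S Gen.e)) (@D3.rec (fun _ => (Cert rels S Gen.e)) lc_e_Cert_tree lc_e_rc_30_0 lc_e_rc_25_3 lc_e_rc_19_1 lc_e_rc_30_0 lc_e_rc_12_1 lc_e_rc_12_1 lc_e_Cert_tree lc_e_rc_30_0 lc_e_rc_12_1 lc_e_rc_12_1 lc_e_rc_46_4 lc_e_rc_31_2 lc_e_rc_4_1 lc_e_Cert_tree lc_e_rc_30_0 lc_e_Cert_tree lc_e_rc_30_0 lc_e_rc_32_2 lc_e_Cert_tree lc_e_rc_30_0 lc_e_rc_25_3 lc_e_rc_19_1 lc_e_rc_33_2 lc_e_rc_30_0 lc_e_rc_12_1 lc_e_rc_12_1 lc_e_Cert_tree lc_e_rc_31_2 lc_e_rc_19_1 lc_e_Cert_tree lc_e_rc_30_0) (@D3.rec (fun _ => (Cert rels S Gen.e)) lc_e_Cert_tree lc_e_rc_30_0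 lc_e_rc_32_2 lc_e_Cert_tree lc_e_rc_30_0 lc_e_rc_25_3 lc_e_rc_19_1 lc_e_rc_33_2 lc_e_Cert_tree lc_e_rc_30_0 lc_e_rc_25_3 lc_e_rc_19_1 lc_e_rc_33_2 lc_e_rc_30_0 lc_e_rc_12_1 lc_e_rc_12_1 lc_e_Cert_tree lc_e_rc_31_2 lc_e_rc_19_1 lc_e_rc_30_0 lc_e_rc_12_1 lc_e_rc_12_1 lc_e_Cert_tree lc_e_rc_33_2 lc_e_rc_19_1 lc_e_rc_4_1 lc_e_rc_4_1 lc_e_rc_19_1 lc_e_Cert_tree lc_e_rc_12_1 lc_e_rc_12_1 lc_e_rc_30_0) (@D3.rec (fun _ => (Cert rels S Gen.e)) lc_e_rc_33_2 lc_e_rc_31_2 lc_e_rc_34_2 lc_e_rc_4_1 lc_e_rc_4_1 lc_e_rc_19_1 lc_e_Cert_tree lc_e_rc_12_1 lc_e_rc_12_1 lc_e_rc_30_0 lc_e_rc_12_3 lc_e_rc_31_2 lc_e_rc_34_2 lc_e_Cert_tree lc_e_rc_4_1 lc_e_rc_4_1 lc_e_rc_30_0 lc_e_rc_31_2 lc_e_rc_12_1 lc_e_rc_31_2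 lc_e_rc_25_3 lc_e_Cert_tree lc_e_rc_30_0 lc_e_Cert_tree lc_e_rc_30_0 lc_e_rc_31_2 lc_e_Cert_tree lc_e_rc_30_0 lc_e_rc_25_3 lc_e_rc_19_1 lc_e_rc_33_2 lc_e_rc_30_0) (@D3.rec (fun _ => (Cert rels S Gen.e)) lc_e_rc_12_1 lc_e_rc_12_1 lc_e_Cert_tree lc_e_rc_31_2 lc_e_rc_19_1 lc_e_rc_30_0 lc_e_rc_12_1 lc_e_rc_12_1 lc_e_Cert_tree lc_e_rc_31_2 lc_e_rc_19_1 lc_e_rc_4_1 lc_e_rc_4_1 lc_e_rc_19_1 lc_e_Cert_tree lc_e_rc_12_1 lc_e_rc_12_1 lc_e_rc_30_0 lc_e_rc_33_2 lc_e_rc_31_2 lc_e_rc_34_2 lc_e_rc_4_1 lc_e_rc_4_1 lc_e_rc_19_1 lc_e_Cert_tree lc_e_rc_31_2 lc_e_rc_12_1 lc_e_rc_30_0 lc_e_rc_33_2 lc_e_rc_31_2 lc_e_rc_19_1 lc_e_Cert_tree) (@D3.rec (fun _ => (Cert rels S Gen.e)) lc_e_rc_4_1 lc_e_Cert_tree lc_e_rc_30_0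 lc_e_rc_33_2 lc_e_rc_33_2 lc_e_rc_4_1 lc_e_rc_4_1 lc_e_rc_4_1 lc_e_rc_4_1 lc_e_rc_19_1 lc_e_rc_19_1 lc_e_rc_12_1 lc_e_rc_12_1 lc_e_rc_12_1 lc_e_rc_31_2 lc_e_rc_34_2 lc_e_rc_12_1 lc_e_rc_4_1 lc_e_rc_4_1 lc_e_Cert_tree lc_e_rc_19_1 lc_e_rc_4_1 lc_e_rc_19_1 lc_e_rc_4_1 lc_e_rc_4_1 lc_e_rc_19_1 lc_e_Cert_tree lc_e_rc_12_1 lc_e_rc_30_0 lc_e_rc_32_2 lc_e_rc_4_1 lc_e_rc_4_1) (@D3.rec (fun _ => (Cert rels S Gen.e)) lc_e_rc_19_1 lc_e_rc_32_4 lc_e_rc_12_1 lc_e_rc_12_1 lc_e_rc_34_2 lc_e_rc_4_1 lc_e_rc_4_1 lc_e_rc_4_1 lc_e_rc_4_1 lc_e_rc_19_1 lc_e_rc_19_1 lc_e_rc_33_2 lc_e_rc_19_1 lc_e_Cert_tree lc_e_rc_4_1 lc_e_rc_4_1 lc_e_Cert_tree lc_e_rc_19_1 lc_e_rc_30_0 lc_e_rc_33_2 lc_e_rc_31_2 lc_e_rc_33_2 lc_e_rc_31_2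 lc_e_rc_33_2 lc_e_rc_12_1 lc_e_Cert_tree lc_e_rc_30_0 lc_e_rc_33_2 lc_e_rc_30_0 lc_e_rc_33_2 lc_e_rc_33_2 lc_e_rc_32_2) (@D3.rec (fun _ => (Cert rels S Gen.e)) lc_e_Cert_tree lc_e_rc_30_0 lc_e_rc_19_1 lc_e_rc_19_1 lc_e_rc_30_0 lc_e_rc_12_1 lc_e_rc_12_1 lc_e_Cert_tree lc_e_rc_31_2 lc_e_rc_4_1 lc_e_rc_4_1 lc_e_rc_19_1 lc_e_Cert_tree lc_e_rc_30_0 lc_e_rc_4_1 lc_e_rc_4_1 lc_e_rc_19_1 lc_e_rc_31_0 lc_e_rc_12_1 lc_e_rc_12_3 lc_e_rc_34_2 lc_e_Cert_tree lc_e_rc_30_0 lc_e_rc_31_2 lc_e_Cert_tree lc_e_rc_30_0 lc_e_rc_25_3 lc_e_rc_19_1 lc_e_rc_33_2 lc_e_rc_30_0 lc_e_rc_12_1 lc_e_rc_12_1) (@D3.rec (fun _ => (Cert rels S Gen.e)) lc_e_Cert_tree lc_e_rc_31_2 lc_e_rc_19_1 lc_e_rc_4_1 lc_e_rc_4_1 lc_e_rc_19_1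 lc_e_Cert_tree lc_e_rc_12_1 lc_e_rc_12_1 lc_e_rc_30_0 lc_e_rc_33_2 lc_e_rc_31_2 lc_e_rc_34_2 lc_e_Cert_tree lc_e_rc_30_0 lc_e_rc_31_2 lc_e_Cert_tree lc_e_rc_30_0 lc_e_rc_19_1 lc_e_rc_19_1 lc_e_rc_33_2 lc_e_rc_30_0 lc_e_rc_12_1 lc_e_rc_12_1 lc_e_Cert_tree lc_e_rc_31_2 lc_e_rc_19_1 lc_e_rc_30_0 lc_e_rc_12_1 lc_e_rc_12_1 lc_e_Cert_tree lc_e_rc_31_2) (@D3.rec (fun _ => (Cert rels S Gen.e)) lc_e_rc_19_1 lc_e_rc_4_1 lc_e_rc_4_1 lc_e_rc_19_1 lc_e_Cert_tree lc_e_rc_12_1 lc_e_rc_12_1 lc_e_rc_30_0 lc_e_rc_33_2 lc_e_rc_31_2 lc_e_rc_34_2 lc_e_rc_4_1 lc_e_rc_4_1 lc_e_rc_19_1 lc_e_Cert_tree lc_e_rc_33_2 lc_e_rc_12_1 lc_e_rc_30_0 lc_e_rc_33_2 lc_e_rc_31_2 lc_e_rc_34_2 lc_e_rc_4_1 lc_e_Cert_tree lc_e_rc_4_1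 lc_e_rc_4_1 lc_e_Cert_tree lc_e_rc_19_1 lc_e_rc_30_0 lc_e_rc_33_2 lc_e_rc_31_2 lc_e_rc_12_1 lc_e_rc_33_2) (@D3.rec (fun _ => (Cert rels S Gen.e)) lc_e_rc_31_2 lc_e_rc_4_1 lc_e_Cert_tree lc_e_rc_4_1 lc_e_rc_4_1 lc_e_Cert_tree lc_e_rc_19_1 lc_e_rc_30_0 lc_e_rc_31_0 lc_e_rc_31_2 lc_e_rc_12_1 lc_e_rc_31_2 lc_e_rc_12_3 lc_e_rc_34_2 lc_e_rc_30_0 lc_e_rc_31_2 lc_e_rc_4_1 lc_e_rc_31_2 lc_e_rc_25_3 lc_e_rc_19_1 lc_e_Cert_tree lc_e_rc_30_0 lc_e_rc_32_2 lc_e_Cert_tree lc_e_rc_30_0 lc_e_rc_25_3 lc_e_rc_31_2 lc_e_rc_31_2 lc_e_rc_30_0 lc_e_rc_12_1 lc_e_rc_12_1 lc_e_Cert_tree) (@D3.rec (fun _ => (Cert rels S Gen.e)) lc_e_rc_31_2 lc_e_rc_19_1 lc_e_rc_4_1 lc_e_rc_4_1 lc_e_rc_19_1 lc_e_Cert_tree lc_e_rc_12_1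 lc_e_rc_12_1 lc_e_rc_30_0 lc_e_rc_33_2 lc_e_rc_31_2 lc_e_rc_34_2 lc_e_rc_4_1 lc_e_rc_4_1 lc_e_rc_19_1 lc_e_Cert_tree lc_e_rc_12_1 lc_e_rc_12_1 lc_e_rc_30_0 lc_e_rc_4_3 lc_e_rc_47_17 lc_e_rc_34_2 lc_e_rc_4_1 lc_e_Cert_tree lc_e_rc_4_1 lc_e_rc_4_1 lc_e_Cert_tree lc_e_rc_19_1 lc_e_rc_30_0 lc_e_rc_33_2 lc_e_rc_31_2 lc_e_rc_12_1) (@D3.rec (fun _ => (Cert rels S Gen.e)) lc_e_rc_33_2 lc_e_rc_31_2 lc_e_rc_12_3 lc_e_rc_47_31 lc_e_rc_19_1 lc_e_Cert_tree lc_e_rc_4_1 lc_e_rc_4_1 lc_e_Cert_tree lc_e_rc_19_1 lc_e_rc_30_0 lc_e_rc_33_2 lc_e_rc_31_2 lc_e_rc_33_2 lc_e_rc_31_2 lc_e_rc_47_31 lc_e_rc_12_1 lc_e_Cert_tree lc_e_rc_30_0 lc_e_rc_33_2 lc_e_rc_30_0 lc_e_rc_33_2 lc_e_rc_33_2 lc_e_rc_32_2 lc_e_rc_12_1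 lc_e_rc_4_1 lc_e_rc_4_1 lc_e_rc_4_1 lc_e_rc_4_1 lc_e_rc_4_1 lc_e_rc_19_1 lc_e_rc_19_1) (@D3.rec (fun _ => (Cert rels S Gen.e)) lc_e_Cert_tree lc_e_rc_19_1 lc_e_rc_12_1 lc_e_rc_12_1 lc_e_rc_34_2 lc_e_rc_12_1 lc_e_Cert_tree lc_e_rc_4_1 lc_e_rc_30_0 lc_e_rc_34_2 lc_e_rc_4_1 lc_e_rc_4_1 lc_e_Cert_tree lc_e_rc_4_1 lc_e_Cert_tree lc_e_rc_19_1 lc_e_rc_30_0 lc_e_rc_32_2 lc_e_rc_4_1 lc_e_rc_4_1 lc_e_rc_4_1 lc_e_rc_4_1 lc_e_rc_32_4 lc_e_rc_19_1 lc_e_rc_34_2 lc_e_rc_12_1 lc_e_rc_46_39 lc_e_rc_4_1 lc_e_rc_4_1 lc_e_rc_33_2 lc_e_rc_12_1 lc_e_Cert_tree) (@D3.rec (fun _ => (Cert rels S Gen.e)) lc_e_rc_19_1 lc_e_rc_30_0 lc_e_rc_33_2 lc_e_rc_31_2 lc_e_rc_30_0 lc_e_rc_33_2 lc_e_rc_31_2 lc_e_Cert_tree lc_e_rc_33_2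 lc_e_rc_31_2 lc_e_rc_33_2 lc_e_rc_31_2 lc_e_rc_33_2 lc_e_rc_25_3 lc_e_Cert_tree lc_e_rc_30_0 lc_e_rc_33_2 lc_e_rc_33_2 lc_e_rc_25_3 lc_e_rc_33_2 lc_e_rc_12_1 lc_e_rc_30_0 lc_e_rc_12_1 lc_e_rc_12_1 lc_e_Cert_tree lc_e_rc_19_1 lc_e_rc_4_1 lc_e_rc_4_1 lc_e_rc_19_1 lc_e_Cert_tree lc_e_rc_12_1 lc_e_rc_30_0) (@D3.rec (fun _ => (Cert rels S Gen.e)) lc_e_rc_31_2 lc_e_rc_34_2 lc_e_rc_4_1 lc_e_Cert_tree lc_e_Cert_tree lc_e_rc_30_0 lc_e_rc_4_1 lc_e_rc_4_1 lc_e_rc_4_1 lc_e_rc_47_17 lc_e_rc_19_1 lc_e_rc_25_5 lc_e_rc_12_1 lc_e_rc_12_3 lc_e_Cert_tree lc_e_rc_30_0 lc_e_rc_25_3 lc_e_rc_31_2 lc_e_rc_31_2 lc_e_rc_30_0 lc_e_rc_12_1 lc_e_rc_12_1 lc_e_Cert_tree lc_e_rc_31_2 lc_e_rc_19_1 lc_e_rc_4_1 lc_e_rc_4_1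 lc_e_rc_19_1 lc_e_Cert_tree lc_e_rc_12_1 lc_e_rc_12_1 lc_e_rc_30_0) (@D3.rec (fun _ => (Cert rels S Gen.e)) lc_e_rc_33_2 lc_e_rc_31_2 lc_e_rc_34_2 lc_e_rc_4_1 lc_e_Cert_tree lc_e_rc_4_1 lc_e_rc_4_1 lc_e_Cert_tree lc_e_rc_19_1 lc_e_rc_30_0 lc_e_rc_33_2 lc_e_rc_31_2 lc_e_rc_12_1 lc_e_rc_33_2 lc_e_rc_31_2 lc_e_rc_33_2 lc_e_rc_32_2 lc_e_Cert_tree lc_e_rc_30_0 lc_e_rc_25_3 lc_e_rc_31_2 lc_e_rc_31_2 lc_e_rc_30_0 lc_e_rc_12_1 lc_e_rc_12_1 lc_e_Cert_tree lc_e_rc_19_1 lc_e_rc_19_1 lc_e_rc_4_1 lc_e_rc_4_1 lc_e_rc_19_1 lc_e_Cert_tree) (@D3.rec (fun _ => (Cert rels S Gen.e)) lc_e_rc_12_1 lc_e_rc_12_1 lc_e_rc_30_0 lc_e_rc_33_2 lc_e_rc_31_2 lc_e_rc_34_2 lc_e_rc_4_1 lc_e_rc_4_1 lc_e_rc_19_1 lc_e_Cert_tree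 lc_e_rc_12_1 lc_e_rc_12_1 lc_e_rc_30_0 lc_e_rc_33_2 lc_e_rc_31_2 lc_e_rc_34_2 lc_e_rc_4_1 lc_e_Cert_tree lc_e_rc_4_1 lc_e_rc_4_1 lc_e_Cert_tree lc_e_rc_19_1 lc_e_rc_30_0 lc_e_rc_33_2 lc_e_rc_31_2 lc_e_rc_12_1 lc_e_rc_33_2 lc_e_rc_31_2 lc_e_rc_33_2 lc_e_rc_34_2 lc_e_rc_4_1 lc_e_Cert_tree) (@D3.rec (fun _ => (Cert rels S Gen.e)) lc_e_rc_4_1 lc_e_rc_4_1 lc_e_Cert_tree lc_e_rc_33_2 lc_e_rc_30_0 lc_e_rc_33_2 lc_e_rc_31_2 lc_e_rc_34_2 lc_e_rc_33_2 lc_e_rc_31_2 lc_e_rc_12_1 lc_e_Cert_tree lc_e_rc_4_1 lc_e_rc_30_0 lc_e_rc_33_2 lc_e_rc_31_2 lc_e_rc_4_1 lc_e_rc_30_0 lc_e_rc_33_2 lc_e_rc_31_2 lc_e_rc_19_1 lc_e_rc_33_2 lc_e_rc_31_2 lc_e_rc_25_3 lc_e_rc_12_1 lc_e_Cert_tree lc_e_rc_4_1 lc_e_rc_30_0 lc_e_rc_4_1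 lc_e_rc_31_2 lc_e_rc_4_1 lc_e_rc_30_0) (@D3.rec (fun _ => (Cert rels S Gen.e)) lc_e_rc_12_1 lc_e_rc_31_2 lc_e_Cert_tree lc_e_rc_19_1 lc_e_rc_31_2 lc_e_rc_25_5 lc_e_rc_34_2 lc_e_rc_25_3 lc_e_rc_34_2 lc_e_rc_12_3 lc_e_rc_31_2 lc_e_rc_25_3 lc_e_rc_19_1 lc_e_rc_12_1 lc_e_Cert_tree lc_e_rc_30_0 lc_e_rc_25_3 lc_e_rc_32_2 lc_e_rc_33_2 lc_e_rc_30_0 lc_e_rc_12_1 lc_e_rc_12_1 lc_e_rc_4_1 lc_e_rc_31_2 lc_e_rc_31_2 lc_e_rc_4_1 lc_e_rc_4_1 lc_e_rc_19_1 lc_e_Cert_tree lc_e_rc_12_1 lc_e_rc_12_1 lc_e_rc_30_0) (@D3.rec (fun _ => (Cert rels S Gen.e)) lc_e_rc_4_1 lc_e_rc_47_24 lc_e_rc_34_2 lc_e_rc_4_1 lc_e_Cert_tree lc_e_rc_4_1 lc_e_rc_4_1 lc_e_Cert_tree lc_e_rc_19_1 lc_e_rc_30_0 lc_e_rc_33_2 lc_e_rc_31_2 lc_e_rc_12_1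 lc_e_rc_33_2 lc_e_rc_31_2 lc_e_rc_45_76 lc_e_rc_12_3 lc_e_rc_4_1 lc_e_Cert_tree lc_e_rc_4_1 lc_e_rc_4_1 lc_e_Cert_tree lc_e_rc_19_1 lc_e_rc_30_0 lc_e_rc_4_3 lc_e_rc_47_38 lc_e_rc_12_1 lc_e_rc_12_1 lc_e_Cert_tree lc_e_rc_4_1 lc_e_rc_30_0 lc_e_rc_33_2) (@D3.rec (fun _ => (Cert rels S Gen.e)) lc_e_rc_31_2 lc_e_rc_4_1 lc_e_rc_30_0 lc_e_rc_33_2 lc_e_rc_31_2 lc_e_Cert_tree lc_e_rc_19_1 lc_e_rc_33_2 lc_e_rc_31_2 lc_e_rc_47_52 lc_e_rc_47_52 lc_e_rc_12_1 lc_e_Cert_tree lc_e_rc_19_1 lc_e_rc_30_0 lc_e_rc_33_2 lc_e_rc_31_2 lc_e_rc_30_0 lc_e_rc_33_2 lc_e_rc_31_2 lc_e_Cert_tree lc_e_rc_33_2 lc_e_rc_31_2 lc_e_rc_12_1 lc_e_Cert_tree lc_e_rc_30_0 lc_e_rc_33_2 lc_e_rc_33_2 lc_e_rc_25_3 lc_e_rc_33_2 lc_e_rc_12_1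 lc_e_rc_12_1) (@D3.rec (fun _ => (Cert rels S Gen.e)) lc_e_rc_12_1 lc_e_rc_4_1 lc_e_rc_4_1 lc_e_Cert_tree lc_e_rc_4_1 lc_e_rc_4_1 lc_e_rc_4_1 lc_e_rc_19_1 lc_e_Cert_tree lc_e_rc_19_1 lc_e_rc_30_0 lc_e_rc_34_2 lc_e_rc_12_1 lc_e_Cert_tree lc_e_rc_12_1 lc_e_rc_30_0 lc_e_rc_34_2 lc_e_rc_32_2 lc_e_rc_34_2 lc_e_rc_31_2 lc_e_rc_12_1 lc_e_rc_12_1 lc_e_Cert_tree lc_e_rc_4_1 lc_e_rc_30_0 lc_e_rc_4_1 lc_e_rc_30_0 lc_e_rc_32_2 lc_e_rc_25_3 lc_e_rc_12_1 lc_e_rc_4_1 lc_e_rc_4_1)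
def ce_e_2 : D2 → D3 → (Cert rels S Gen.e) := @D2.rec (fun _ => D3 → (Cert rels S Gen.e)) (@D3.rec (fun _ => (Cert rels S Gen.e)) lc_e_rc_4_1 lc_e_rc_34_2 lc_e_rc_25_3 lc_e_rc_12_1 lc_e_rc_12_1 lc_e_rc_4_1 lc_e_Cert_tree lc_e_rc_12_1 lc_e_rc_30_0 lc_e_rc_33_2 lc_e_rc_31_2 lc_e_Cert_tree lc_e_rc_33_2 lc_e_rc_31_2 lc_e_rc_33_2 lc_e_rc_25_3 lc_e_rc_33_2 lc_e_rc_31_2 lc_e_rc_33_2 lc_e_rc_4_3 lc_e_rc_30_0 lc_e_rc_31_2 lc_e_rc_33_2 lc_e_rc_25_3 lc_e_rc_30_0 lc_e_rc_33_2 lc_e_rc_4_1 lc_e_rc_33_2 lc_e_rc_4_1 lc_e_rc_33_2 lc_e_rc_19_1 lc_e_rc_32_0) (@D3.rec (fun _ => (Cert rels S Gen.e)) lc_e_rc_4_1 lc_e_rc_12_1 lc_e_Cert_tree lc_e_rc_12_1 lc_e_rc_30_0 lc_e_rc_31_2 lc_e_rc_19_1 lc_e_rc_4_1 lc_e_Cert_tree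 lc_e_rc_4_1 lc_e_Cert_tree lc_e_rc_19_1 lc_e_rc_30_0 lc_e_rc_31_2 lc_e_rc_12_1 lc_e_rc_31_2 lc_e_rc_34_2 lc_e_rc_12_1 lc_e_Cert_tree lc_e_rc_30_0 lc_e_rc_30_0 lc_e_rc_12_1 lc_e_rc_19_1 lc_e_rc_4_1 lc_e_rc_4_1 lc_e_rc_4_1 lc_e_rc_47_45 lc_e_Cert_tree lc_e_rc_19_1 lc_e_rc_34_2 lc_e_rc_30_0 lc_e_rc_25_3) (@D3.rec (fun _ => (Cert rels S Gen.e)) lc_e_rc_12_1 lc_e_Cert_tree lc_e_rc_25_3 lc_e_rc_31_2 lc_e_rc_4_1 lc_e_rc_4_1 lc_e_rc_19_1 lc_e_Cert_tree lc_e_rc_12_1 lc_e_rc_12_1 lc_e_rc_30_0 lc_e_rc_33_2 lc_e_rc_31_2 lc_e_rc_34_2 lc_e_rc_4_1 lc_e_Cert_tree lc_e_rc_4_1 lc_e_rc_4_1 lc_e_Cert_tree lc_e_rc_19_1 lc_e_rc_30_0 lc_e_rc_33_2 lc_e_rc_31_2 lc_e_rc_12_1 lc_e_rc_33_2 lc_e_rc_31_2 lc_e_rc_33_2 lc_e_rc_34_2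 lc_e_rc_12_1 lc_e_Cert_tree lc_e_rc_4_1 lc_e_rc_30_0) (@D3.rec (fun _ => (Cert rels S Gen.e)) lc_e_rc_33_2 lc_e_rc_31_2 lc_e_rc_4_1 lc_e_rc_30_0 lc_e_rc_33_2 lc_e_rc_31_2 lc_e_rc_25_3 lc_e_rc_19_1 lc_e_rc_33_2 lc_e_rc_31_2 lc_e_rc_33_2 lc_e_rc_32_2 lc_e_rc_32_2 lc_e_rc_33_2 lc_e_rc_32_2 lc_e_rc_30_0 lc_e_rc_12_1 lc_e_rc_12_1 lc_e_Cert_tree lc_e_rc_31_2 lc_e_rc_31_2 lc_e_rc_32_0 lc_e_rc_4_1 lc_e_rc_12_1 lc_e_Cert_tree lc_e_rc_12_1 lc_e_rc_12_1 lc_e_rc_30_0 lc_e_rc_33_2 lc_e_rc_31_2 lc_e_rc_19_1 lc_e_rc_4_1) (@D3.rec (fun _ => (Cert rels S Gen.e)) lc_e_Cert_tree lc_e_rc_4_1 lc_e_rc_4_1 lc_e_Cert_tree lc_e_rc_19_1 lc_e_rc_30_0 lc_e_rc_33_2 lc_e_rc_31_2 lc_e_rc_12_1 lc_e_rc_33_2 lc_e_rc_31_2 lc_e_rc_33_2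 lc_e_rc_34_2 lc_e_rc_4_1 lc_e_Cert_tree lc_e_rc_4_1 lc_e_rc_4_1 lc_e_Cert_tree lc_e_rc_19_1 lc_e_rc_30_0 lc_e_rc_33_2 lc_e_rc_31_2 lc_e_rc_12_1 lc_e_rc_33_2 lc_e_rc_31_2 lc_e_rc_33_2 lc_e_rc_34_2 lc_e_rc_12_1 lc_e_Cert_tree lc_e_rc_4_1 lc_e_rc_30_0 lc_e_rc_33_2) (@D3.rec (fun _ => (Cert rels S Gen.e)) lc_e_rc_31_2 lc_e_rc_4_1 lc_e_rc_30_0 lc_e_rc_33_2 lc_e_rc_31_2 lc_e_Cert_tree lc_e_rc_19_1 lc_e_rc_33_2 lc_e_rc_31_2 lc_e_rc_33_2 lc_e_rc_34_2 lc_e_rc_32_2 lc_e_rc_33_2 lc_e_rc_25_3 lc_e_rc_34_2 lc_e_rc_34_2 lc_e_rc_12_1 lc_e_Cert_tree lc_e_rc_4_1 lc_e_rc_30_0 lc_e_rc_33_2 lc_e_rc_31_2 lc_e_rc_4_1 lc_e_rc_30_0 lc_e_rc_33_2 lc_e_rc_31_2 lc_e_rc_33_2 lc_e_rc_34_2 lc_e_rc_33_2 lc_e_rc_31_2 lc_e_Cert_tree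 lc_e_rc_12_1) (@D3.rec (fun _ => (Cert rels S Gen.e)) lc_e_rc_30_0 lc_e_rc_33_2 lc_e_rc_31_2 lc_e_rc_4_1 lc_e_rc_33_2 lc_e_rc_31_2 lc_e_rc_25_3 lc_e_rc_33_2 lc_e_rc_31_2 lc_e_rc_25_3 lc_e_rc_19_1 lc_e_Cert_tree lc_e_rc_12_1 lc_e_rc_30_0 lc_e_rc_4_1 lc_e_rc_31_2 lc_e_Cert_tree lc_e_rc_4_1 lc_e_rc_31_2 lc_e_rc_4_1 lc_e_rc_34_2 lc_e_rc_31_2 lc_e_rc_12_1 lc_e_Cert_tree lc_e_rc_34_2 lc_e_rc_30_0 lc_e_rc_34_2 lc_e_rc_25_3 lc_e_rc_34_2 lc_e_rc_34_2 lc_e_rc_19_1 lc_e_rc_25_3) (@D3.rec (fun _ => (Cert rels S Gen.e)) lc_e_rc_4_1 lc_e_rc_19_1 lc_e_rc_12_1 lc_e_rc_4_1 lc_e_rc_30_0 lc_e_rc_12_1 lc_e_rc_12_1 lc_e_rc_4_1 lc_e_rc_4_1 lc_e_rc_19_1 lc_e_rc_12_1 lc_e_rc_31_2 lc_e_rc_12_1 lc_e_rc_4_1 lc_e_Cert_tree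 lc_e_rc_4_1 lc_e_rc_4_1 lc_e_Cert_tree lc_e_rc_19_1 lc_e_rc_30_0 lc_e_rc_12_1 lc_e_rc_47_24 lc_e_rc_12_1 lc_e_rc_12_1 lc_e_Cert_tree lc_e_rc_4_1 lc_e_rc_30_0 lc_e_rc_33_2 lc_e_rc_31_2 lc_e_rc_4_1 lc_e_rc_30_0 lc_e_rc_33_2) (@D3.rec (fun _ => (Cert rels S Gen.e)) lc_e_rc_31_2 lc_e_Cert_tree lc_e_rc_19_1 lc_e_rc_33_2 lc_e_rc_31_2 lc_e_rc_12_1 lc_e_rc_4_3 lc_e_rc_12_1 lc_e_Cert_tree lc_e_rc_4_1 lc_e_rc_30_0 lc_e_rc_4_1 lc_e_rc_12_3 lc_e_rc_4_1 lc_e_rc_30_0 lc_e_rc_12_3 lc_e_rc_47_38 lc_e_Cert_tree lc_e_rc_19_1 lc_e_Cert_tree lc_e_rc_12_1 lc_e_rc_30_0 lc_e_rc_33_2 lc_e_rc_31_2 lc_e_Cert_tree lc_e_rc_4_1 lc_e_rc_33_2 lc_e_rc_31_2 lc_e_rc_46_53 lc_e_rc_12_3 lc_e_rc_25_3 lc_e_rc_33_2) (@D3.rec (fun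 _ => (Cert rels S Gen.e)) lc_e_rc_31_2 lc_e_rc_47_45 lc_e_Cert_tree lc_e_rc_47_45 lc_e_rc_30_0 lc_e_rc_34_2 lc_e_Cert_tree lc_e_rc_12_1 lc_e_rc_30_0 lc_e_rc_33_2 lc_e_rc_31_2 lc_e_Cert_tree lc_e_rc_33_2 lc_e_rc_31_2 lc_e_rc_4_1 lc_e_rc_25_3 lc_e_rc_33_2 lc_e_rc_31_2 lc_e_rc_19_1 lc_e_Cert_tree lc_e_rc_30_0 lc_e_rc_30_0 lc_e_rc_33_2 lc_e_rc_4_1 lc_e_rc_33_2 lc_e_rc_4_1 lc_e_rc_25_3 lc_e_rc_31_2 lc_e_rc_19_1 lc_e_rc_12_1 lc_e_rc_12_1 lc_e_Cert_tree) (@D3.rec (fun _ => (Cert rels S Gen.e)) lc_e_rc_12_1 lc_e_rc_4_1 lc_e_Cert_tree lc_e_rc_4_1 lc_e_rc_30_0 lc_e_rc_34_2 lc_e_rc_4_1 lc_e_Cert_tree lc_e_rc_19_1 lc_e_rc_30_0 lc_e_rc_34_2 lc_e_rc_32_2 lc_e_rc_34_2 lc_e_rc_31_2 lc_e_Cert_tree lc_e_rc_30_0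 lc_e_rc_34_2 lc_e_rc_4_1 lc_e_rc_34_2 lc_e_rc_31_2 lc_e_rc_33_2 lc_e_rc_32_2 lc_e_rc_31_2 lc_e_Cert_tree lc_e_rc_12_1 lc_e_rc_30_0 lc_e_rc_4_1 lc_e_rc_4_1 lc_e_rc_25_3 lc_e_rc_25_3 lc_e_rc_12_1 lc_e_rc_12_1) (@D3.rec (fun _ => (Cert rels S Gen.e)) lc_e_rc_4_1 lc_e_rc_4_1 lc_e_rc_12_1 lc_e_rc_30_0 lc_e_rc_33_2 lc_e_rc_31_2 lc_e_Cert_tree lc_e_rc_25_3 lc_e_rc_33_2 lc_e_rc_31_2 lc_e_rc_33_2 lc_e_rc_25_1 lc_e_rc_30_0 lc_e_rc_31_2 lc_e_rc_33_2 lc_e_rc_4_1 lc_e_rc_34_2 lc_e_rc_31_2 lc_e_rc_33_2 lc_e_rc_4_3 lc_e_rc_12_1 lc_e_rc_33_2 lc_e_rc_4_1 lc_e_rc_4_1 lc_e_Cert_tree lc_e_rc_32_0 lc_e_Cert_tree lc_e_rc_32_0 lc_e_Cert_tree lc_e_rc_12_1 lc_e_rc_30_0 lc_e_rc_31_2) (@D3.rec (fun _ => (Cert rels S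 Gen.e)) lc_e_rc_12_1 lc_e_rc_31_2 lc_e_rc_34_2 lc_e_rc_12_1 lc_e_Cert_tree lc_e_rc_4_1 lc_e_rc_30_0 lc_e_rc_31_2 lc_e_rc_4_1 lc_e_rc_30_0 lc_e_rc_31_2 lc_e_Cert_tree lc_e_rc_19_1 lc_e_rc_31_2 lc_e_rc_34_2 lc_e_rc_34_2 lc_e_Cert_tree lc_e_rc_30_0 lc_e_rc_25_3 lc_e_rc_12_1 lc_e_rc_12_1 lc_e_rc_19_1 lc_e_Cert_tree lc_e_rc_4_1 lc_e_rc_4_1 lc_e_Cert_tree lc_e_rc_19_1 lc_e_rc_30_0 lc_e_rc_34_2 lc_e_rc_4_1 lc_e_rc_4_1 lc_e_rc_19_1) (@D3.rec (fun _ => (Cert rels S Gen.e)) lc_e_Cert_tree lc_e_rc_25_3 lc_e_rc_12_1 lc_e_rc_30_0 lc_e_rc_33_2 lc_e_rc_31_2 lc_e_rc_25_3 lc_e_rc_4_1 lc_e_Cert_tree lc_e_rc_4_1 lc_e_rc_4_1 lc_e_Cert_tree lc_e_rc_19_1 lc_e_rc_30_0 lc_e_rc_33_2 lc_e_rc_31_2 lc_e_rc_12_1 lc_e_rc_33_2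 lc_e_rc_31_2 lc_e_rc_33_2 lc_e_rc_34_2 lc_e_rc_12_1 lc_e_Cert_tree lc_e_rc_4_1 lc_e_rc_30_0 lc_e_rc_33_2 lc_e_rc_31_2 lc_e_rc_4_1 lc_e_rc_30_0 lc_e_rc_33_2 lc_e_rc_31_2 lc_e_Cert_tree) (@D3.rec (fun _ => (Cert rels S Gen.e)) lc_e_rc_19_1 lc_e_rc_33_2 lc_e_rc_31_2 lc_e_rc_33_2 lc_e_rc_34_2 lc_e_rc_32_2 lc_e_rc_33_2 lc_e_rc_25_3 lc_e_rc_34_2 lc_e_rc_34_2 lc_e_Cert_tree lc_e_rc_12_1 lc_e_rc_30_0 lc_e_rc_33_2 lc_e_rc_31_2 lc_e_rc_4_1 lc_e_rc_4_1 lc_e_rc_33_2 lc_e_rc_31_2 lc_e_rc_33_2 lc_e_rc_32_2 lc_e_rc_25_3 lc_e_rc_33_2 lc_e_rc_31_2 lc_e_rc_33_2 lc_e_Cert_tree lc_e_rc_32_2 lc_e_rc_25_3 lc_e_rc_32_2 lc_e_rc_33_2 lc_e_rc_32_2 lc_e_rc_33_2) (@D3.rec (fun _ => (Cert rels S Gen.e)) lc_e_rc_19_1 lc_e_rc_4_1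 lc_e_rc_4_1 lc_e_rc_19_1 lc_e_Cert_tree lc_e_rc_12_1 lc_e_rc_12_1 lc_e_rc_30_0 lc_e_rc_33_2 lc_e_rc_31_2 lc_e_rc_34_2 lc_e_rc_33_0 lc_e_Cert_tree lc_e_rc_32_0 lc_e_rc_4_1 lc_e_Cert_tree lc_e_rc_12_1 lc_e_rc_30_0 lc_e_rc_33_2 lc_e_rc_31_2 lc_e_rc_12_1 lc_e_rc_33_2 lc_e_rc_31_2 lc_e_rc_33_2 lc_e_rc_34_2 lc_e_rc_12_1 lc_e_Cert_tree lc_e_rc_4_1 lc_e_rc_30_0 lc_e_rc_33_2 lc_e_rc_31_2 lc_e_rc_4_1) (@D3.rec (fun _ => (Cert rels S Gen.e)) lc_e_rc_30_0 lc_e_rc_33_2 lc_e_rc_31_2 lc_e_Cert_tree lc_e_rc_19_1 lc_e_rc_33_2 lc_e_rc_31_2 lc_e_rc_33_2 lc_e_rc_34_2 lc_e_rc_32_2 lc_e_rc_33_2 lc_e_rc_25_3 lc_e_rc_34_2 lc_e_rc_34_2 lc_e_rc_12_1 lc_e_Cert_tree lc_e_rc_4_1 lc_e_rc_30_0 lc_e_rc_33_2 lc_e_rc_31_2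 lc_e_rc_4_1 lc_e_rc_30_0 lc_e_rc_33_2 lc_e_rc_31_2 lc_e_Cert_tree lc_e_rc_19_1 lc_e_rc_33_2 lc_e_rc_31_2 lc_e_rc_33_2 lc_e_rc_34_2 lc_e_rc_33_2 lc_e_rc_25_3) (@D3.rec (fun _ => (Cert rels S Gen.e)) lc_e_rc_34_2 lc_e_rc_34_2 lc_e_Cert_tree lc_e_rc_12_1 lc_e_rc_30_0 lc_e_rc_33_2 lc_e_rc_31_2 lc_e_Cert_tree lc_e_rc_4_1 lc_e_rc_33_2 lc_e_rc_31_2 lc_e_rc_33_2 lc_e_rc_34_2 lc_e_rc_25_3 lc_e_rc_33_2 lc_e_rc_31_2 lc_e_rc_33_2 lc_e_Cert_tree lc_e_rc_34_2 lc_e_rc_30_0 lc_e_rc_34_2 lc_e_rc_32_2 lc_e_rc_33_2 lc_e_rc_25_3 lc_e_rc_34_2 lc_e_rc_34_2 lc_e_rc_34_2 lc_e_rc_19_1 lc_e_rc_25_3 lc_e_Cert_tree lc_e_rc_12_1 lc_e_rc_30_0) (@D3.rec (fun _ => (Cert rels S Gen.e)) lc_e_rc_33_2 lc_e_rc_31_2 lc_e_rc_4_1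 lc_e_rc_4_1 lc_e_rc_33_2 lc_e_rc_31_2 lc_e_rc_25_3 lc_e_rc_33_2 lc_e_rc_31_2 lc_e_Cert_tree lc_e_rc_34_2 lc_e_rc_30_0 lc_e_rc_33_2 lc_e_rc_31_2 lc_e_rc_12_1 lc_e_rc_4_1 lc_e_rc_33_2 lc_e_rc_31_2 lc_e_rc_4_1 lc_e_rc_25_3 lc_e_rc_31_2 lc_e_rc_25_3 lc_e_rc_19_1 lc_e_rc_12_1 lc_e_rc_30_0 lc_e_rc_25_3 lc_e_rc_31_2 lc_e_Cert_tree lc_e_rc_12_1 lc_e_rc_31_2 lc_e_rc_4_1 lc_e_Cert_tree) (@D3.rec (fun _ => (Cert rels S Gen.e)) lc_e_rc_34_2 lc_e_rc_30_0 lc_e_rc_34_2 lc_e_rc_4_1 lc_e_rc_34_2 lc_e_rc_4_1 lc_e_Cert_tree lc_e_rc_34_2 lc_e_Cert_tree lc_e_rc_19_1 lc_e_rc_30_0 lc_e_rc_34_2 lc_e_rc_32_2 lc_e_rc_34_2 lc_e_rc_31_2 lc_e_rc_19_1 lc_e_rc_25_3 lc_e_rc_12_1 lc_e_rc_19_1 lc_e_rc_19_1 lc_e_rc_12_1 lc_e_rc_4_1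 lc_e_rc_4_1 lc_e_rc_4_1 lc_e_rc_19_1 lc_e_rc_4_1 lc_e_rc_4_1 lc_e_rc_31_2 lc_e_rc_4_1 lc_e_rc_19_1 lc_e_rc_31_2 lc_e_rc_12_1) (@D3.rec (fun _ => (Cert rels S Gen.e)) lc_e_Cert_tree lc_e_rc_4_1 lc_e_rc_30_0 lc_e_rc_4_1 lc_e_rc_46_32 lc_e_rc_4_1 lc_e_rc_30_0 lc_e_rc_12_3 lc_e_rc_47_38 lc_e_Cert_tree lc_e_rc_19_1 lc_e_Cert_tree lc_e_rc_12_1 lc_e_rc_30_0 lc_e_rc_33_2 lc_e_rc_31_2 lc_e_Cert_tree lc_e_rc_4_1 lc_e_rc_33_2 lc_e_rc_31_2 lc_e_rc_4_1 lc_e_rc_46_53 lc_e_rc_25_3 lc_e_rc_33_2 lc_e_rc_31_2 lc_e_rc_4_3 lc_e_Cert_tree lc_e_rc_12_1 lc_e_rc_30_0 lc_e_rc_34_2 lc_e_Cert_tree lc_e_rc_12_1) (@D3.rec (fun _ => (Cert rels S Gen.e)) lc_e_rc_30_0 lc_e_rc_4_1 lc_e_rc_19_1 lc_e_Cert_tree lc_e_rc_4_1 lc_e_rc_25_3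 lc_e_Cert_tree lc_e_rc_30_0 lc_e_rc_34_2 lc_e_rc_30_0 lc_e_rc_33_2 lc_e_rc_31_2 lc_e_Cert_tree lc_e_rc_12_1 lc_e_rc_4_1 lc_e_rc_33_2 lc_e_rc_31_2 lc_e_rc_12_3 lc_e_Cert_tree lc_e_rc_46_53 lc_e_rc_30_0 lc_e_rc_34_2 lc_e_rc_25_3 lc_e_rc_31_2 lc_e_Cert_tree lc_e_Cert_tree lc_e_rc_30_0 lc_e_rc_34_2 lc_e_rc_32_2 lc_e_rc_34_2 lc_e_rc_31_2 lc_e_rc_30_0)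
def ce_e_3 : D2 → D3 → (Cert rels S Gen.e) := @D2.rec (fun _ => D3 → (Cert rels S Gen.e)) (@D3.rec (fun _ => (Cert rels S Gen.e)) lc_e_rc_33_2 lc_e_rc_31_2 lc_e_Cert_tree lc_e_rc_4_1 lc_e_rc_33_2 lc_e_rc_31_2 lc_e_rc_4_1 lc_e_Cert_tree lc_e_rc_30_0 lc_e_rc_25_3 lc_e_rc_31_2 lc_e_Cert_tree lc_e_Cert_tree lc_e_rc_30_0 lc_e_rc_32_2 lc_e_rc_12_1 lc_e_rc_33_2 lc_e_rc_4_1 lc_e_rc_4_1 lc_e_rc_4_1 lc_e_Cert_tree lc_e_rc_31_2 lc_e_rc_34_2 lc_e_rc_12_1 lc_e_Cert_tree lc_e_rc_12_1 lc_e_Cert_tree lc_e_rc_30_0 lc_e_rc_34_2 lc_e_Cert_tree lc_e_rc_4_1 lc_e_rc_30_0) (@D3.rec (fun _ => (Cert rels S Gen.e)) lc_e_rc_34_2 lc_e_rc_32_2 lc_e_rc_34_2 lc_e_rc_31_2 lc_e_rc_30_0 lc_e_rc_34_2 lc_e_rc_32_2 lc_e_rc_34_2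 lc_e_rc_31_2 lc_e_rc_33_2 lc_e_rc_34_2 lc_e_rc_31_2 lc_e_rc_30_0 lc_e_rc_34_2 lc_e_rc_12_1 lc_e_rc_34_2 lc_e_rc_31_2 lc_e_rc_4_1 lc_e_rc_4_1 lc_e_rc_31_2 lc_e_rc_33_2 lc_e_rc_31_2 lc_e_rc_25_3 lc_e_rc_30_0 lc_e_rc_12_1 lc_e_rc_12_1 lc_e_rc_25_3 lc_e_rc_25_3 lc_e_rc_12_1 lc_e_rc_12_1 lc_e_rc_25_3 lc_e_rc_33_2) (@D3.rec (fun _ => (Cert rels S Gen.e)) lc_e_rc_31_2 lc_e_rc_33_2 lc_e_rc_25_1 lc_e_Cert_tree lc_e_rc_30_0 lc_e_rc_4_1 lc_e_rc_31_2 lc_e_rc_33_2 lc_e_rc_25_1 lc_e_Cert_tree lc_e_rc_19_1 lc_e_rc_12_1 lc_e_rc_12_1 lc_e_Cert_tree lc_e_rc_30_0 lc_e_rc_32_0 lc_e_Cert_tree lc_e_rc_33_2 lc_e_rc_30_0 lc_e_rc_31_2 lc_e_rc_34_2 lc_e_rc_30_0 lc_e_rc_31_2 lc_e_Cert_tree lc_e_rc_12_1 lc_e_rc_31_2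 lc_e_rc_34_2 lc_e_rc_25_3 lc_e_rc_34_2 lc_e_Cert_tree lc_e_rc_12_1 lc_e_rc_30_0) (@D3.rec (fun _ => (Cert rels S Gen.e)) lc_e_rc_31_2 lc_e_Cert_tree lc_e_rc_4_1 lc_e_rc_31_2 lc_e_rc_34_2 lc_e_rc_19_1 lc_e_rc_31_2 lc_e_Cert_tree lc_e_rc_34_2 lc_e_rc_30_0 lc_e_rc_34_2 lc_e_rc_34_2 lc_e_rc_30_0 lc_e_rc_4_1 lc_e_rc_31_2 lc_e_rc_12_1 lc_e_Cert_tree lc_e_rc_12_1 lc_e_Cert_tree lc_e_rc_19_1 lc_e_rc_30_0 lc_e_rc_34_2 lc_e_rc_30_0 lc_e_rc_34_2 lc_e_rc_32_2 lc_e_rc_34_2 lc_e_rc_31_2 lc_e_rc_19_1 lc_e_Cert_tree lc_e_rc_4_1 lc_e_rc_4_1 lc_e_Cert_tree) (@D3.rec (fun _ => (Cert rels S Gen.e)) lc_e_rc_19_1 lc_e_rc_30_0 lc_e_rc_33_2 lc_e_rc_31_2 lc_e_rc_25_3 lc_e_rc_33_2 lc_e_rc_31_2 lc_e_rc_33_2 lc_e_rc_34_2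 lc_e_rc_12_1 lc_e_Cert_tree lc_e_rc_4_1 lc_e_rc_30_0 lc_e_rc_33_2 lc_e_rc_31_2 lc_e_rc_4_1 lc_e_rc_30_0 lc_e_rc_33_2 lc_e_rc_31_2 lc_e_Cert_tree lc_e_rc_19_1 lc_e_rc_33_2 lc_e_rc_31_2 lc_e_rc_33_2 lc_e_rc_34_2 lc_e_rc_32_2 lc_e_rc_33_2 lc_e_rc_25_3 lc_e_rc_34_2 lc_e_rc_34_2 lc_e_Cert_tree lc_e_rc_12_1) (@D3.rec (fun _ => (Cert rels S Gen.e)) lc_e_rc_30_0 lc_e_rc_33_2 lc_e_rc_31_2 lc_e_Cert_tree lc_e_rc_4_1 lc_e_rc_33_2 lc_e_rc_31_2 lc_e_rc_33_2 lc_e_rc_34_2 lc_e_rc_25_3 lc_e_rc_33_2 lc_e_rc_31_2 lc_e_rc_33_2 lc_e_Cert_tree lc_e_rc_34_2 lc_e_rc_30_0 lc_e_rc_34_2 lc_e_rc_32_2 lc_e_rc_33_2 lc_e_rc_25_3 lc_e_rc_34_2 lc_e_rc_34_2 lc_e_rc_31_2 lc_e_rc_25_3 lc_e_rc_34_2 lc_e_rc_31_2 lc_e_rc_25_3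 lc_e_rc_30_0 lc_e_rc_33_2 lc_e_rc_31_2 lc_e_rc_12_1 lc_e_rc_12_1) (@D3.rec (fun _ => (Cert rels S Gen.e)) lc_e_rc_25_3 lc_e_rc_33_2 lc_e_rc_31_2 lc_e_rc_33_2 lc_e_Cert_tree lc_e_rc_32_2 lc_e_rc_4_1 lc_e_rc_32_2 lc_e_rc_33_2 lc_e_rc_4_1 lc_e_rc_25_3 lc_e_rc_31_2 lc_e_rc_32_2 lc_e_rc_33_2 lc_e_Cert_tree lc_e_Cert_tree lc_e_rc_30_0 lc_e_rc_34_2 lc_e_rc_33_2 lc_e_rc_19_1 lc_e_rc_19_1 lc_e_rc_12_1 lc_e_rc_4_1 lc_e_Cert_tree lc_e_rc_4_1 lc_e_rc_4_1 lc_e_Cert_tree lc_e_rc_19_1 lc_e_rc_30_0 lc_e_rc_33_2 lc_e_rc_31_2 lc_e_rc_12_1) (@D3.rec (fun _ => (Cert rels S Gen.e)) lc_e_rc_33_2 lc_e_rc_31_2 lc_e_rc_33_2 lc_e_rc_34_2 lc_e_rc_32_0 lc_e_Cert_tree lc_e_rc_32_0 lc_e_rc_30_0 lc_e_rc_33_2 lc_e_rc_31_2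 lc_e_rc_34_2 lc_e_rc_30_0 lc_e_rc_33_2 lc_e_rc_31_2 lc_e_Cert_tree lc_e_rc_12_1 lc_e_rc_33_2 lc_e_rc_31_2 lc_e_rc_33_2 lc_e_rc_34_2 lc_e_rc_33_2 lc_e_rc_25_3 lc_e_rc_34_2 lc_e_rc_34_2 lc_e_Cert_tree lc_e_rc_12_1 lc_e_rc_30_0 lc_e_rc_33_2 lc_e_rc_31_2 lc_e_Cert_tree lc_e_rc_4_1 lc_e_rc_33_2) (@D3.rec (fun _ => (Cert rels S Gen.e)) lc_e_rc_31_2 lc_e_rc_33_2 lc_e_rc_34_2 lc_e_rc_25_3 lc_e_rc_33_2 lc_e_rc_31_2 lc_e_rc_33_2 lc_e_Cert_tree lc_e_rc_34_2 lc_e_rc_30_0 lc_e_rc_34_2 lc_e_rc_12_1 lc_e_rc_33_2 lc_e_rc_25_3 lc_e_rc_34_2 lc_e_rc_34_2 lc_e_rc_31_2 lc_e_rc_25_3 lc_e_rc_34_2 lc_e_rc_19_1 lc_e_rc_25_3 lc_e_Cert_tree lc_e_rc_12_1 lc_e_rc_30_0 lc_e_rc_33_2 lc_e_rc_31_2 lc_e_Cert_tree lc_e_rc_4_1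 lc_e_rc_33_2 lc_e_rc_31_2 lc_e_rc_33_2 lc_e_rc_34_2) (@D3.rec (fun _ => (Cert rels S Gen.e)) lc_e_rc_25_3 lc_e_rc_33_2 lc_e_rc_31_2 lc_e_rc_33_2 lc_e_Cert_tree lc_e_rc_34_2 lc_e_rc_30_0 lc_e_rc_34_2 lc_e_rc_33_2 lc_e_rc_25_3 lc_e_rc_34_2 lc_e_rc_34_2 lc_e_rc_34_2 lc_e_rc_25_3 lc_e_rc_30_0 lc_e_rc_33_2 lc_e_rc_31_2 lc_e_Cert_tree lc_e_rc_12_1 lc_e_rc_4_1 lc_e_rc_33_2 lc_e_rc_31_2 lc_e_rc_33_2 lc_e_Cert_tree lc_e_rc_34_2 lc_e_rc_30_0 lc_e_rc_34_2 lc_e_rc_4_1 lc_e_rc_33_2 lc_e_rc_4_1 lc_e_rc_34_2 lc_e_rc_34_2) (@D3.rec (fun _ => (Cert rels S Gen.e)) lc_e_rc_25_3 lc_e_rc_31_2 lc_e_rc_32_2 lc_e_rc_33_2 lc_e_Cert_tree lc_e_rc_34_2 lc_e_Cert_tree lc_e_rc_34_2 lc_e_rc_30_0 lc_e_rc_34_2 lc_e_rc_32_2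 lc_e_rc_34_2 lc_e_rc_31_2 lc_e_rc_34_2 lc_e_rc_19_1 lc_e_rc_25_3 lc_e_rc_12_1 lc_e_rc_19_1 lc_e_rc_30_0 lc_e_rc_33_2 lc_e_rc_31_2 lc_e_rc_12_1 lc_e_rc_12_1 lc_e_rc_4_1 lc_e_rc_33_2 lc_e_rc_31_2 lc_e_Cert_tree lc_e_rc_4_1 lc_e_rc_25_3 lc_e_rc_31_2 lc_e_Cert_tree lc_e_rc_30_0) (@D3.rec (fun _ => (Cert rels S Gen.e)) lc_e_rc_12_1 lc_e_rc_33_2 lc_e_rc_31_2 lc_e_rc_4_1 lc_e_rc_4_1 lc_e_rc_4_1 lc_e_rc_19_1 lc_e_rc_31_2 lc_e_rc_31_2 lc_e_rc_34_2 lc_e_rc_25_3 lc_e_rc_12_1 lc_e_rc_4_1 lc_e_rc_31_2 lc_e_rc_25_5 lc_e_Cert_tree lc_e_rc_34_2 lc_e_Cert_tree lc_e_rc_30_0 lc_e_rc_34_2 lc_e_Cert_tree lc_e_rc_34_2 lc_e_Cert_tree lc_e_rc_19_1 lc_e_rc_30_0 lc_e_rc_34_2 lc_e_rc_32_2 lc_e_rc_34_2 lc_e_rc_31_2 lc_e_rc_19_1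 lc_e_rc_4_1 lc_e_Cert_tree) (@D3.rec (fun _ => (Cert rels S Gen.e)) lc_e_rc_30_0 lc_e_rc_34_2 lc_e_rc_30_0 lc_e_rc_34_2 lc_e_rc_32_2 lc_e_rc_34_2 lc_e_rc_31_2 lc_e_rc_33_2 lc_e_rc_34_2 lc_e_rc_31_2 lc_e_rc_12_1 lc_e_rc_19_1 lc_e_rc_4_1 lc_e_rc_12_1 lc_e_rc_12_1 lc_e_rc_4_1 lc_e_rc_4_1 lc_e_rc_12_1 lc_e_rc_4_1 lc_e_rc_31_2 lc_e_Cert_tree lc_e_Cert_tree lc_e_rc_12_1 lc_e_rc_30_0 lc_e_rc_4_1 lc_e_rc_19_1 lc_e_Cert_tree lc_e_rc_4_1 lc_e_rc_25_3 lc_e_rc_25_3 lc_e_rc_30_0 lc_e_rc_34_2) (@D3.rec (fun _ => (Cert rels S Gen.e)) lc_e_rc_30_0 lc_e_rc_33_2 lc_e_rc_31_2 lc_e_Cert_tree lc_e_rc_12_1 lc_e_rc_4_1 lc_e_rc_33_2 lc_e_rc_31_2 lc_e_rc_4_1 lc_e_Cert_tree lc_e_rc_47_45 lc_e_rc_30_0 lc_e_rc_34_2 lc_e_rc_25_3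 lc_e_rc_31_2 lc_e_Cert_tree lc_e_Cert_tree lc_e_rc_30_0 lc_e_rc_34_2 lc_e_rc_32_2 lc_e_rc_34_2 lc_e_rc_31_2 lc_e_rc_30_0 lc_e_rc_19_3 lc_e_rc_12_1 lc_e_Cert_tree lc_e_rc_12_1 lc_e_rc_4_1 lc_e_Cert_tree lc_e_rc_30_0 lc_e_rc_34_2 lc_e_rc_31_2) (@D3.rec (fun _ => (Cert rels S Gen.e)) lc_e_rc_30_0 lc_e_rc_32_2 lc_e_rc_34_2 lc_e_rc_31_2 lc_e_rc_12_1 lc_e_rc_33_2 lc_e_rc_31_2 lc_e_rc_4_3 lc_e_Cert_tree lc_e_rc_46_46 lc_e_Cert_tree lc_e_rc_30_0 lc_e_rc_34_2 lc_e_rc_4_1 lc_e_rc_4_1 lc_e_Cert_tree lc_e_Cert_tree lc_e_rc_30_0 lc_e_rc_34_2 lc_e_rc_32_2 lc_e_rc_34_2 lc_e_rc_31_2 lc_e_rc_31_2 lc_e_Cert_tree lc_e_rc_34_2 lc_e_rc_30_0 lc_e_rc_30_0 lc_e_rc_32_2 lc_e_rc_34_2 lc_e_rc_31_2 lc_e_rc_33_2 lc_e_rc_34_2)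 (@D3.rec (fun _ => (Cert rels S Gen.e)) lc_e_rc_31_2 lc_e_rc_12_1 lc_e_rc_33_2 lc_e_rc_31_2 lc_e_rc_12_1 lc_e_Cert_tree lc_e_Cert_tree lc_e_rc_30_0 lc_e_rc_4_1 lc_e_rc_4_1 lc_e_Cert_tree lc_e_Cert_tree lc_e_rc_30_0 lc_e_rc_32_2 lc_e_rc_31_2 lc_e_Cert_tree lc_e_rc_34_2 lc_e_rc_30_0 lc_e_rc_30_0 lc_e_rc_32_2 lc_e_rc_19_1 lc_e_rc_12_1 lc_e_rc_12_1 lc_e_rc_12_1 lc_e_Cert_tree lc_e_rc_4_1 lc_e_rc_4_1 lc_e_rc_30_0 lc_e_rc_31_2 lc_e_rc_34_2 lc_e_Cert_tree lc_e_rc_12_1) (@D3.rec (fun _ => (Cert rels S Gen.e)) lc_e_Cert_tree lc_e_rc_30_0 lc_e_rc_34_2 lc_e_rc_30_0 lc_e_rc_34_2 lc_e_rc_32_2 lc_e_rc_34_2 lc_e_rc_31_2 lc_e_rc_30_0 lc_e_rc_34_2 lc_e_rc_32_2 lc_e_rc_34_2 lc_e_rc_31_2 lc_e_rc_33_2 lc_e_rc_34_2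 lc_e_rc_31_2 lc_e_rc_32_2 lc_e_rc_34_2 lc_e_rc_31_2 lc_e_rc_33_2 lc_e_rc_34_2 lc_e_rc_31_2 lc_e_rc_34_2 lc_e_rc_31_2 lc_e_rc_25_3 lc_e_rc_25_3 lc_e_rc_19_1 lc_e_rc_34_2 lc_e_rc_31_2 lc_e_rc_12_1 lc_e_rc_12_1 lc_e_rc_31_2) (@D3.rec (fun _ => (Cert rels S Gen.e)) lc_e_rc_4_1 lc_e_rc_31_2 lc_e_rc_25_3 lc_e_rc_31_2 lc_e_rc_31_0 lc_e_rc_31_0 lc_e_rc_12_1 lc_e_rc_25_3 lc_e_rc_19_1 lc_e_rc_19_1 lc_e_rc_34_2 lc_e_rc_12_1 lc_e_rc_12_1 lc_e_rc_33_2 lc_e_rc_25_1 lc_e_rc_19_1 lc_e_rc_30_0 lc_e_Cert_tree lc_e_rc_30_0 lc_e_rc_19_1 lc_e_Cert_tree lc_e_rc_30_0 lc_e_Cert_tree lc_e_rc_32_0 lc_e_rc_30_0 lc_e_rc_31_2 lc_e_Cert_tree lc_e_rc_34_2 lc_e_rc_31_2 lc_e_rc_34_2 lc_e_rc_25_3 lc_e_rc_31_2) (@D3.rec (fun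 _ => (Cert rels S Gen.e)) lc_e_Cert_tree lc_e_rc_34_2 lc_e_rc_30_0 lc_e_rc_34_2 lc_e_rc_25_3 lc_e_rc_34_2 lc_e_rc_25_3 lc_e_rc_30_0 lc_e_rc_31_2 lc_e_Cert_tree lc_e_rc_12_1 lc_e_rc_4_1 lc_e_rc_31_2 lc_e_Cert_tree lc_e_rc_34_2 lc_e_rc_30_0 lc_e_rc_34_2 lc_e_rc_34_2 lc_e_rc_31_2 lc_e_Cert_tree lc_e_rc_34_2 lc_e_rc_30_0 lc_e_rc_34_2 lc_e_rc_32_2 lc_e_rc_34_2 lc_e_rc_31_2 lc_e_rc_12_1 lc_e_rc_4_1 lc_e_rc_34_2 lc_e_Cert_tree lc_e_rc_34_2 lc_e_Cert_tree) (@D3.rec (fun _ => (Cert rels S Gen.e)) lc_e_rc_30_0 lc_e_rc_34_2 lc_e_rc_30_0 lc_e_rc_34_2 lc_e_rc_32_2 lc_e_rc_34_2 lc_e_rc_31_2 lc_e_rc_32_2 lc_e_rc_34_2 lc_e_rc_31_2 lc_e_rc_33_2 lc_e_rc_34_2 lc_e_rc_31_2 lc_e_rc_12_1 lc_e_Cert_tree lc_e_rc_19_1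 lc_e_rc_30_0 lc_e_rc_33_2 lc_e_rc_31_2 lc_e_rc_4_1 lc_e_rc_30_0 lc_e_rc_31_0 lc_e_rc_31_2 lc_e_Cert_tree lc_e_rc_19_1 lc_e_rc_33_2 lc_e_rc_31_2 lc_e_rc_33_2 lc_e_rc_34_2 lc_e_rc_32_2 lc_e_rc_33_2 lc_e_rc_25_3) (@D3.rec (fun _ => (Cert rels S Gen.e)) lc_e_rc_34_2 lc_e_rc_34_2 lc_e_Cert_tree lc_e_rc_12_1 lc_e_rc_30_0 lc_e_rc_33_2 lc_e_rc_31_2 lc_e_Cert_tree lc_e_rc_4_1 lc_e_rc_33_2 lc_e_rc_31_2 lc_e_rc_33_2 lc_e_rc_34_2 lc_e_rc_25_3 lc_e_rc_33_2 lc_e_rc_31_2 lc_e_rc_33_2 lc_e_Cert_tree lc_e_rc_34_2 lc_e_rc_30_0 lc_e_rc_34_2 lc_e_rc_12_1 lc_e_rc_33_2 lc_e_rc_25_3 lc_e_rc_34_2 lc_e_rc_34_2 lc_e_rc_31_2 lc_e_rc_25_3 lc_e_rc_34_2 lc_e_rc_19_1 lc_e_rc_25_3 lc_e_rc_30_0) (@D3.rec (fun _ => (Cert rels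 S Gen.e)) lc_e_rc_33_2 lc_e_rc_31_2 lc_e_Cert_tree lc_e_rc_12_1 lc_e_rc_4_1 lc_e_rc_33_2 lc_e_rc_31_2 lc_e_rc_33_2 lc_e_Cert_tree lc_e_rc_34_2 lc_e_rc_30_0 lc_e_rc_34_2 lc_e_rc_4_1 lc_e_rc_33_2 lc_e_rc_4_1 lc_e_rc_34_2 lc_e_rc_34_2 lc_e_rc_25_3 lc_e_rc_31_2 lc_e_rc_32_2 lc_e_rc_33_2 lc_e_Cert_tree lc_e_rc_34_2 lc_e_Cert_tree lc_e_rc_34_2 lc_e_rc_30_0 lc_e_rc_34_2 lc_e_rc_32_2 lc_e_rc_34_2 lc_e_rc_31_2 lc_e_rc_31_2 lc_e_rc_25_3)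
def ce_e_4 : D2 → D3 → (Cert rels S Gen.e) := @D2.rec (fun _ => D3 → (Cert rels S Gen.e)) (@D3.rec (fun _ => (Cert rels S Gen.e)) lc_e_rc_34_2 lc_e_rc_31_2 lc_e_rc_25_3 lc_e_rc_32_2 lc_e_rc_31_2 lc_e_rc_25_3 lc_e_rc_12_1 lc_e_rc_32_2 lc_e_rc_12_1 lc_e_rc_33_2 lc_e_rc_31_2 lc_e_rc_33_2 lc_e_Cert_tree lc_e_rc_32_2 lc_e_rc_19_1 lc_e_rc_12_1 lc_e_rc_25_3 lc_e_rc_31_2 lc_e_rc_32_2 lc_e_rc_33_2 lc_e_Cert_tree lc_e_Cert_tree lc_e_rc_30_0 lc_e_rc_34_2 lc_e_rc_4_1 lc_e_rc_19_1 lc_e_Cert_tree lc_e_rc_31_2 lc_e_Cert_tree lc_e_rc_34_2 lc_e_Cert_tree lc_e_Cert_tree) (@D3.rec (fun _ => (Cert rels S Gen.e)) lc_e_rc_30_0 lc_e_rc_30_0 lc_e_rc_34_2 lc_e_rc_19_1 lc_e_rc_12_1 lc_e_rc_12_1 lc_e_rc_4_1 lc_e_rc_12_1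 lc_e_Cert_tree lc_e_rc_4_1 lc_e_rc_30_0 lc_e_rc_33_2 lc_e_rc_31_2 lc_e_rc_4_1 lc_e_rc_30_0 lc_e_rc_31_2 lc_e_Cert_tree lc_e_rc_19_1 lc_e_rc_33_2 lc_e_rc_31_2 lc_e_rc_33_2 lc_e_rc_34_2 lc_e_rc_32_2 lc_e_rc_33_2 lc_e_rc_25_3 lc_e_rc_34_2 lc_e_rc_34_2 lc_e_Cert_tree lc_e_rc_32_0 lc_e_rc_30_0 lc_e_rc_33_2 lc_e_rc_31_2) (@D3.rec (fun _ => (Cert rels S Gen.e)) lc_e_Cert_tree lc_e_rc_34_2 lc_e_rc_33_2 lc_e_rc_31_2 lc_e_rc_33_2 lc_e_rc_34_2 lc_e_rc_25_3 lc_e_rc_33_2 lc_e_rc_31_2 lc_e_rc_33_2 lc_e_Cert_tree lc_e_rc_34_2 lc_e_rc_30_0 lc_e_rc_34_2 lc_e_rc_33_2 lc_e_rc_25_3 lc_e_rc_34_2 lc_e_rc_34_2 lc_e_rc_25_3 lc_e_rc_34_2 lc_e_rc_19_1 lc_e_rc_25_3 lc_e_rc_30_0 lc_e_rc_33_2 lc_e_rc_31_2 lc_e_Cert_tree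 lc_e_rc_12_1 lc_e_rc_4_1 lc_e_rc_33_2 lc_e_rc_31_2 lc_e_rc_33_2 lc_e_Cert_tree) (@D3.rec (fun _ => (Cert rels S Gen.e)) lc_e_rc_34_2 lc_e_rc_30_0 lc_e_rc_34_2 lc_e_rc_4_1 lc_e_rc_33_2 lc_e_rc_4_1 lc_e_rc_34_2 lc_e_rc_34_2 lc_e_rc_25_3 lc_e_rc_31_2 lc_e_rc_12_1 lc_e_rc_33_2 lc_e_Cert_tree lc_e_rc_34_2 lc_e_Cert_tree lc_e_rc_34_2 lc_e_rc_30_0 lc_e_rc_34_2 lc_e_rc_32_2 lc_e_rc_34_2 lc_e_rc_31_2 lc_e_rc_31_2 lc_e_rc_25_3 lc_e_rc_34_2 lc_e_rc_19_1 lc_e_rc_25_3 lc_e_rc_32_2 lc_e_rc_25_3 lc_e_rc_25_3 lc_e_rc_19_1 lc_e_rc_31_2 lc_e_rc_30_0) (@D3.rec (fun _ => (Cert rels S Gen.e)) lc_e_rc_33_2 lc_e_rc_31_2 lc_e_Cert_tree lc_e_rc_12_1 lc_e_rc_4_1 lc_e_rc_33_2 lc_e_rc_31_2 lc_e_rc_33_2 lc_e_Cert_tree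 lc_e_rc_34_2 lc_e_rc_30_0 lc_e_rc_34_2 lc_e_rc_33_2 lc_e_rc_4_1 lc_e_rc_34_2 lc_e_rc_34_2 lc_e_rc_25_3 lc_e_rc_31_2 lc_e_rc_33_2 lc_e_Cert_tree lc_e_rc_34_2 lc_e_rc_19_3 lc_e_rc_34_2 lc_e_rc_30_0 lc_e_rc_34_2 lc_e_rc_32_2 lc_e_rc_34_2 lc_e_rc_31_2 lc_e_rc_34_2 lc_e_rc_19_1 lc_e_rc_25_3 lc_e_rc_12_1) (@D3.rec (fun _ => (Cert rels S Gen.e)) lc_e_rc_33_2 lc_e_rc_31_2 lc_e_rc_33_2 lc_e_Cert_tree lc_e_rc_34_2 lc_e_Cert_tree lc_e_rc_30_0 lc_e_rc_34_2 lc_e_rc_4_1 lc_e_rc_4_1 lc_e_rc_4_1 lc_e_rc_33_2 lc_e_Cert_tree lc_e_rc_34_2 lc_e_Cert_tree lc_e_rc_34_2 lc_e_rc_30_0 lc_e_rc_34_2 lc_e_rc_32_2 lc_e_rc_34_2 lc_e_rc_31_2 lc_e_rc_34_2 lc_e_rc_19_1 lc_e_rc_4_1 lc_e_Cert_tree lc_e_rc_31_2 lc_e_Cert_tree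 lc_e_rc_34_2 lc_e_Cert_tree lc_e_rc_34_2 lc_e_Cert_tree lc_e_rc_30_0) (@D3.rec (fun _ => (Cert rels S Gen.e)) lc_e_rc_34_2 lc_e_rc_30_0 lc_e_rc_34_2 lc_e_rc_32_2 lc_e_rc_34_2 lc_e_rc_31_2 lc_e_rc_33_2 lc_e_rc_34_2 lc_e_rc_31_2 lc_e_rc_12_1 lc_e_rc_19_1 lc_e_rc_4_1 lc_e_rc_12_1 lc_e_rc_12_1 lc_e_rc_33_2 lc_e_rc_31_2 lc_e_Cert_tree lc_e_rc_19_1 lc_e_rc_12_1 lc_e_rc_4_1 lc_e_rc_4_1 lc_e_Cert_tree lc_e_rc_30_0 lc_e_rc_31_2 lc_e_Cert_tree lc_e_rc_34_2 lc_e_rc_30_0 lc_e_rc_19_1 lc_e_rc_12_1 lc_e_rc_12_1 lc_e_rc_12_1 lc_e_rc_4_1) (@D3.rec (fun _ => (Cert rels S Gen.e)) lc_e_rc_4_1 lc_e_rc_4_1 lc_e_rc_4_1 lc_e_rc_12_1 lc_e_rc_34_2 lc_e_rc_31_2 lc_e_rc_34_2 lc_e_rc_12_1 lc_e_rc_4_1 lc_e_Cert_tree lc_e_rc_34_2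 lc_e_Cert_tree lc_e_rc_34_2 lc_e_Cert_tree lc_e_rc_30_0 lc_e_rc_34_2 lc_e_rc_30_0 lc_e_rc_34_2 lc_e_rc_32_2 lc_e_rc_34_2 lc_e_rc_31_2 lc_e_Cert_tree lc_e_rc_30_0 lc_e_rc_34_2 lc_e_rc_30_0 lc_e_rc_34_2 lc_e_rc_32_2 lc_e_rc_34_2 lc_e_rc_31_2 lc_e_rc_33_2 lc_e_rc_34_2 lc_e_rc_31_2) (@D3.rec (fun _ => (Cert rels S Gen.e)) lc_e_rc_12_1 lc_e_rc_19_1 lc_e_Cert_tree lc_e_rc_30_0 lc_e_rc_34_2 lc_e_rc_32_2 lc_e_rc_34_2 lc_e_rc_31_2 lc_e_rc_32_2 lc_e_rc_34_2 lc_e_rc_31_2 lc_e_rc_33_2 lc_e_rc_34_2 lc_e_rc_31_2 lc_e_rc_34_2 lc_e_rc_31_2 lc_e_rc_25_3 lc_e_rc_4_1 lc_e_rc_12_1 lc_e_rc_4_1 lc_e_rc_4_1 lc_e_rc_12_1 lc_e_rc_12_1 lc_e_rc_12_1 lc_e_Cert_tree lc_e_rc_30_0 lc_e_rc_30_0 lc_e_rc_19_1 lc_e_rc_12_1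 lc_e_Cert_tree lc_e_rc_12_1 lc_e_rc_4_1) (@D3.rec (fun _ => (Cert rels S Gen.e)) lc_e_rc_25_3 lc_e_rc_30_0 lc_e_rc_34_2 lc_e_rc_47_17 lc_e_rc_34_2 lc_e_rc_31_2 lc_e_rc_12_1 lc_e_rc_33_2 lc_e_rc_31_2 lc_e_rc_4_3 lc_e_Cert_tree lc_e_rc_47_52 lc_e_Cert_tree lc_e_rc_30_0 lc_e_rc_34_2 lc_e_rc_4_1 lc_e_rc_4_1 lc_e_Cert_tree lc_e_Cert_tree lc_e_rc_30_0 lc_e_rc_34_2 lc_e_rc_32_2 lc_e_rc_34_2 lc_e_rc_31_2 lc_e_rc_31_2 lc_e_Cert_tree lc_e_rc_34_2 lc_e_rc_30_0 lc_e_rc_30_0 lc_e_rc_32_2 lc_e_rc_34_2 lc_e_rc_31_2) (@D3.rec (fun _ => (Cert rels S Gen.e)) lc_e_rc_33_2 lc_e_rc_34_2 lc_e_rc_31_2 lc_e_rc_12_1 lc_e_Cert_tree lc_e_Cert_tree lc_e_rc_30_0 lc_e_rc_34_2 lc_e_rc_4_1 lc_e_rc_30_0 lc_e_rc_32_2 lc_e_rc_34_2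 lc_e_rc_31_2 lc_e_rc_34_2 lc_e_rc_32_2 lc_e_rc_12_1 lc_e_rc_4_3 lc_e_rc_31_2 lc_e_rc_19_1 lc_e_rc_12_1 lc_e_rc_12_1 lc_e_Cert_tree lc_e_Cert_tree lc_e_Cert_tree lc_e_rc_30_0 lc_e_rc_34_2 lc_e_rc_30_0 lc_e_rc_34_2 lc_e_rc_32_2 lc_e_rc_34_2 lc_e_rc_31_2 lc_e_rc_4_1) (@D3.rec (fun _ => (Cert rels S Gen.e)) lc_e_Cert_tree lc_e_rc_4_1 lc_e_rc_30_0 lc_e_rc_30_0 lc_e_rc_32_2 lc_e_rc_34_2 lc_e_rc_31_2 lc_e_rc_33_2 lc_e_rc_34_2 lc_e_rc_31_2 lc_e_rc_34_2 lc_e_rc_30_0 lc_e_rc_34_2 lc_e_rc_32_2 lc_e_rc_19_1 lc_e_rc_33_2 lc_e_rc_34_2 lc_e_rc_31_2 lc_e_rc_34_2 lc_e_rc_31_2 lc_e_rc_25_3 lc_e_rc_19_1 lc_e_rc_12_1 lc_e_rc_12_1 lc_e_Cert_tree lc_e_Cert_tree lc_e_Cert_tree lc_e_rc_30_0 lc_e_rc_30_0 lc_e_rc_32_2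 lc_e_rc_4_1 lc_e_Cert_tree) (@D3.rec (fun _ => (Cert rels S Gen.e)) lc_e_rc_4_1 lc_e_rc_30_0 lc_e_rc_30_0 lc_e_rc_32_2 lc_e_rc_34_2 lc_e_rc_30_0 lc_e_rc_34_2 lc_e_rc_32_2 lc_e_rc_19_1 lc_e_rc_19_1 lc_e_Cert_tree lc_e_rc_12_1 lc_e_rc_12_1 lc_e_rc_30_0 lc_e_rc_31_2 lc_e_rc_4_1 lc_e_rc_31_2 lc_e_rc_34_2 lc_e_Cert_tree lc_e_rc_30_0 lc_e_rc_34_2 lc_e_rc_30_0 lc_e_rc_34_2 lc_e_rc_32_2 lc_e_rc_34_2 lc_e_rc_31_2 lc_e_rc_25_3 lc_e_rc_19_1 lc_e_rc_34_2 lc_e_rc_31_2 lc_e_rc_33_2 lc_e_rc_34_2) (@D3.rec (fun _ => (Cert rels S Gen.e)) lc_e_rc_31_2 lc_e_rc_4_1 lc_e_rc_34_2 lc_e_rc_31_2 lc_e_rc_33_2 lc_e_rc_34_2 lc_e_rc_31_2 lc_e_rc_34_2 lc_e_rc_31_2 lc_e_rc_25_3 lc_e_rc_33_2 lc_e_rc_32_2 lc_e_rc_31_2 lc_e_rc_34_2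 lc_e_rc_31_2 lc_e_rc_25_3 lc_e_rc_31_2 lc_e_rc_25_3 lc_e_rc_25_5 lc_e_Cert_tree lc_e_rc_31_2 lc_e_rc_25_3 lc_e_rc_19_1 lc_e_rc_19_1 lc_e_rc_31_2 lc_e_Cert_tree lc_e_rc_12_1 lc_e_rc_31_2 lc_e_rc_25_3 lc_e_rc_31_2 lc_e_rc_31_0 lc_e_rc_31_0) (@D3.rec (fun _ => (Cert rels S Gen.e)) lc_e_rc_19_1 lc_e_rc_45_67 lc_e_rc_19_1 lc_e_Cert_tree lc_e_rc_19_1 lc_e_rc_25_3 lc_e_rc_30_0 lc_e_Cert_tree lc_e_rc_30_0 lc_e_rc_30_0 lc_e_rc_31_2 lc_e_Cert_tree lc_e_rc_34_2 lc_e_rc_4_1 lc_e_rc_31_2 lc_e_Cert_tree lc_e_rc_34_2 lc_e_rc_30_0 lc_e_rc_34_2 lc_e_rc_4_1 lc_e_rc_34_2 lc_e_rc_31_2 lc_e_Cert_tree lc_e_rc_34_2 lc_e_rc_30_0 lc_e_rc_34_2 lc_e_rc_32_2 lc_e_rc_34_2 lc_e_rc_31_2 lc_e_rc_19_1 lc_e_rc_25_3 lc_e_rc_31_2)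 (@D3.rec (fun _ => (Cert rels S Gen.e)) lc_e_rc_12_1 lc_e_rc_31_2 lc_e_Cert_tree lc_e_rc_34_2 lc_e_Cert_tree lc_e_rc_30_0 lc_e_rc_34_2 lc_e_rc_4_1 lc_e_Cert_tree lc_e_rc_34_2 lc_e_rc_30_0 lc_e_rc_34_2 lc_e_rc_32_2 lc_e_rc_34_2 lc_e_rc_31_2 lc_e_Cert_tree lc_e_rc_34_2 lc_e_rc_30_0 lc_e_rc_34_2 lc_e_rc_32_2 lc_e_rc_34_2 lc_e_rc_31_2 lc_e_rc_33_2 lc_e_rc_34_2 lc_e_rc_31_2 lc_e_rc_19_1 lc_e_rc_12_1 lc_e_rc_4_1 lc_e_Cert_tree lc_e_rc_30_0 lc_e_rc_34_2 lc_e_rc_30_0) (@D3.rec (fun _ => (Cert rels S Gen.e)) lc_e_rc_34_2 lc_e_rc_32_2 lc_e_rc_34_2 lc_e_rc_31_2 lc_e_rc_32_2 lc_e_rc_34_2 lc_e_rc_31_2 lc_e_rc_33_2 lc_e_rc_34_2 lc_e_rc_31_2 lc_e_rc_33_2 lc_e_rc_34_2 lc_e_rc_31_2 lc_e_rc_34_2 lc_e_rc_31_2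 lc_e_rc_25_3 lc_e_Cert_tree lc_e_rc_12_1 lc_e_rc_30_0 lc_e_rc_31_0 lc_e_rc_31_2 lc_e_Cert_tree lc_e_rc_19_1 lc_e_rc_33_2 lc_e_rc_31_2 lc_e_rc_33_2 lc_e_rc_34_2 lc_e_rc_31_2 lc_e_rc_25_1 lc_e_Cert_tree lc_e_rc_34_2 lc_e_rc_30_0) (@D3.rec (fun _ => (Cert rels S Gen.e)) lc_e_rc_34_2 lc_e_rc_33_2 lc_e_rc_25_3 lc_e_rc_34_2 lc_e_rc_34_2 lc_e_rc_32_2 lc_e_rc_25_3 lc_e_rc_34_2 lc_e_rc_19_1 lc_e_rc_25_3 lc_e_rc_30_0 lc_e_rc_33_2 lc_e_rc_31_2 lc_e_Cert_tree lc_e_rc_12_1 lc_e_rc_4_1 lc_e_rc_33_2 lc_e_rc_31_2 lc_e_rc_33_2 lc_e_Cert_tree lc_e_rc_34_2 lc_e_rc_30_0 lc_e_rc_34_2 lc_e_rc_4_1 lc_e_rc_33_2 lc_e_rc_4_1 lc_e_rc_34_2 lc_e_rc_34_2 lc_e_rc_25_3 lc_e_rc_31_2 lc_e_rc_12_1 lc_e_rc_33_2) (@D3.rec (fun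 _ => (Cert rels S Gen.e)) lc_e_Cert_tree lc_e_rc_34_2 lc_e_Cert_tree lc_e_rc_34_2 lc_e_rc_30_0 lc_e_rc_34_2 lc_e_rc_32_2 lc_e_rc_34_2 lc_e_rc_31_2 lc_e_rc_31_2 lc_e_rc_25_3 lc_e_rc_34_2 lc_e_rc_19_1 lc_e_rc_25_3 lc_e_Cert_tree lc_e_rc_32_2 lc_e_rc_19_1 lc_e_rc_25_3 lc_e_rc_12_1 lc_e_rc_19_1 lc_e_rc_31_2 lc_e_rc_12_1 lc_e_rc_33_2 lc_e_rc_31_2 lc_e_rc_33_2 lc_e_Cert_tree lc_e_rc_34_2 lc_e_Cert_tree lc_e_rc_30_0 lc_e_rc_34_2 lc_e_rc_4_1 lc_e_rc_4_1) (@D3.rec (fun _ => (Cert rels S Gen.e)) lc_e_rc_4_1 lc_e_rc_33_2 lc_e_Cert_tree lc_e_rc_34_2 lc_e_Cert_tree lc_e_rc_34_2 lc_e_rc_30_0 lc_e_rc_34_2 lc_e_rc_32_2 lc_e_rc_34_2 lc_e_rc_31_2 lc_e_rc_31_2 lc_e_rc_4_1 lc_e_rc_34_2 lc_e_rc_4_1 lc_e_rc_4_1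 lc_e_Cert_tree lc_e_rc_31_2 lc_e_Cert_tree lc_e_rc_34_2 lc_e_rc_31_2 lc_e_Cert_tree lc_e_rc_34_2 lc_e_Cert_tree lc_e_rc_30_0 lc_e_rc_34_2 lc_e_rc_30_0 lc_e_rc_34_2 lc_e_rc_32_2 lc_e_rc_34_2 lc_e_rc_31_2 lc_e_rc_33_2) (@D3.rec (fun _ => (Cert rels S Gen.e)) lc_e_rc_34_2 lc_e_rc_31_2 lc_e_rc_32_2 lc_e_rc_31_2 lc_e_rc_25_3 lc_e_rc_12_1 lc_e_rc_32_2 lc_e_rc_12_1 lc_e_rc_33_2 lc_e_rc_4_1 lc_e_rc_12_1 lc_e_rc_19_1 lc_e_rc_12_1 lc_e_rc_12_1 lc_e_rc_32_2 lc_e_rc_33_2 lc_e_Cert_tree lc_e_Cert_tree lc_e_Cert_tree lc_e_rc_30_0 lc_e_rc_34_2 lc_e_rc_19_1 lc_e_Cert_tree lc_e_rc_31_2 lc_e_Cert_tree lc_e_rc_34_2 lc_e_Cert_tree lc_e_Cert_tree lc_e_rc_30_0 lc_e_rc_30_0 lc_e_rc_34_2 lc_e_rc_19_1) (@D3.rec (fun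 _ => (Cert rels S Gen.e)) lc_e_rc_12_1 lc_e_rc_30_0 lc_e_rc_31_2 lc_e_Cert_tree lc_e_rc_34_2 lc_e_Cert_tree lc_e_rc_30_0 lc_e_rc_34_2 lc_e_rc_12_1 lc_e_rc_30_0 lc_e_rc_12_3 lc_e_rc_30_0 lc_e_rc_12_1 lc_e_rc_4_1 lc_e_rc_4_1 lc_e_Cert_tree lc_e_rc_12_1 lc_e_rc_30_0 lc_e_rc_31_2 lc_e_Cert_tree lc_e_rc_4_1 lc_e_rc_33_2 lc_e_rc_31_2 lc_e_rc_33_2 lc_e_rc_34_2 lc_e_rc_31_2 lc_e_rc_34_2 lc_e_rc_30_0 lc_e_rc_34_2 lc_e_rc_32_2 lc_e_rc_33_2 lc_e_rc_25_3)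
def ce_e_5 : D2 → D3 → (Cert rels S Gen.e) := @D2.rec (fun _ => D3 → (Cert rels S Gen.e)) (@D3.rec (fun _ => (Cert rels S Gen.e)) lc_e_rc_34_2 lc_e_rc_34_2 lc_e_rc_32_2 lc_e_rc_25_3 lc_e_rc_34_2 lc_e_rc_19_1 lc_e_rc_25_3 lc_e_rc_30_0 lc_e_rc_33_2 lc_e_rc_31_2 lc_e_Cert_tree lc_e_rc_34_2 lc_e_rc_4_1 lc_e_rc_33_2 lc_e_rc_31_2 lc_e_rc_33_2 lc_e_Cert_tree lc_e_rc_34_2 lc_e_rc_30_0 lc_e_rc_34_2 lc_e_rc_33_2 lc_e_rc_4_1 lc_e_rc_34_2 lc_e_rc_34_2 lc_e_rc_47_31 lc_e_rc_33_2 lc_e_Cert_tree lc_e_rc_34_2 lc_e_rc_34_2 lc_e_rc_30_0 lc_e_rc_34_2 lc_e_rc_19_1) (@D3.rec (fun _ => (Cert rels S Gen.e)) lc_e_rc_34_2 lc_e_rc_31_2 lc_e_rc_25_3 lc_e_rc_34_2 lc_e_rc_19_1 lc_e_rc_25_3 lc_e_rc_25_3 lc_e_rc_12_1 lc_e_rc_19_1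 lc_e_rc_31_2 lc_e_rc_12_1 lc_e_rc_33_2 lc_e_rc_31_2 lc_e_rc_33_2 lc_e_Cert_tree lc_e_rc_34_2 lc_e_Cert_tree lc_e_rc_30_0 lc_e_rc_34_2 lc_e_rc_4_1 lc_e_rc_4_1 lc_e_rc_4_1 lc_e_rc_33_2 lc_e_Cert_tree lc_e_rc_34_2 lc_e_Cert_tree lc_e_rc_34_2 lc_e_rc_30_0 lc_e_rc_34_2 lc_e_rc_32_2 lc_e_rc_34_2 lc_e_rc_31_2) (@D3.rec (fun _ => (Cert rels S Gen.e)) lc_e_rc_4_1 lc_e_rc_4_1 lc_e_rc_34_2 lc_e_rc_19_1 lc_e_rc_4_1 lc_e_rc_4_3 lc_e_rc_31_2 lc_e_Cert_tree lc_e_rc_34_2 lc_e_rc_31_2 lc_e_Cert_tree lc_e_rc_34_2 lc_e_Cert_tree lc_e_rc_30_0 lc_e_rc_34_2 lc_e_rc_30_0 lc_e_rc_34_2 lc_e_rc_32_2 lc_e_rc_34_2 lc_e_rc_31_2 lc_e_rc_33_2 lc_e_rc_34_2 lc_e_rc_31_2 lc_e_rc_32_2 lc_e_rc_19_1 lc_e_rc_25_3 lc_e_rc_12_1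 lc_e_rc_19_1 lc_e_rc_31_2 lc_e_rc_31_2 lc_e_rc_4_1 lc_e_rc_25_3) (@D3.rec (fun _ => (Cert rels S Gen.e)) lc_e_rc_19_1 lc_e_rc_12_1 lc_e_rc_33_2 lc_e_rc_31_2 lc_e_rc_33_2 lc_e_Cert_tree lc_e_rc_34_2 lc_e_Cert_tree lc_e_rc_30_0 lc_e_rc_34_2 lc_e_rc_25_3 lc_e_rc_4_1 lc_e_rc_33_2 lc_e_Cert_tree lc_e_rc_34_2 lc_e_rc_4_1 lc_e_rc_34_2 lc_e_rc_30_0 lc_e_rc_34_2 lc_e_rc_32_2 lc_e_rc_34_2 lc_e_rc_31_2 lc_e_rc_34_2 lc_e_rc_19_1 lc_e_rc_4_1 lc_e_rc_19_3 lc_e_rc_34_2 lc_e_rc_19_3 lc_e_rc_34_2 lc_e_Cert_tree lc_e_rc_30_0 lc_e_rc_34_2) (@D3.rec (fun _ => (Cert rels S Gen.e)) lc_e_rc_25_3 lc_e_rc_32_2 lc_e_rc_34_2 lc_e_rc_25_5 lc_e_rc_12_1 lc_e_rc_34_2 lc_e_rc_31_2 lc_e_rc_19_1 lc_e_rc_19_1 lc_e_rc_12_1 lc_e_rc_12_1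 lc_e_rc_12_1 lc_e_rc_33_2 lc_e_Cert_tree lc_e_rc_34_2 lc_e_Cert_tree lc_e_rc_34_2 lc_e_Cert_tree lc_e_rc_30_0 lc_e_rc_34_2 lc_e_rc_30_0 lc_e_rc_34_2 lc_e_rc_32_2 lc_e_rc_34_2 lc_e_rc_31_2 lc_e_Cert_tree lc_e_rc_4_1 lc_e_Cert_tree lc_e_rc_4_1 lc_e_Cert_tree lc_e_rc_34_2 lc_e_Cert_tree) (@D3.rec (fun _ => (Cert rels S Gen.e)) lc_e_rc_30_0 lc_e_rc_34_2 lc_e_rc_30_0 lc_e_rc_34_2 lc_e_rc_32_2 lc_e_rc_34_2 lc_e_rc_31_2 lc_e_rc_33_2 lc_e_rc_34_2 lc_e_rc_31_2 lc_e_rc_12_1 lc_e_rc_19_1 lc_e_rc_30_0 lc_e_rc_31_2 lc_e_Cert_tree lc_e_rc_34_2 lc_e_Cert_tree lc_e_rc_30_0 lc_e_rc_34_2 lc_e_rc_30_0 lc_e_rc_34_2 lc_e_Cert_tree lc_e_rc_30_0 lc_e_rc_34_2 lc_e_rc_32_2 lc_e_rc_34_2 lc_e_rc_31_2 lc_e_rc_19_1 lc_e_rc_34_2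 lc_e_rc_31_2 lc_e_rc_33_2 lc_e_rc_34_2) (@D3.rec (fun _ => (Cert rels S Gen.e)) lc_e_rc_31_2 lc_e_rc_34_2 lc_e_rc_31_2 lc_e_rc_25_3 lc_e_rc_4_1 lc_e_rc_12_1 lc_e_rc_4_1 lc_e_rc_19_1 lc_e_rc_12_1 lc_e_rc_12_1 lc_e_Cert_tree lc_e_Cert_tree lc_e_rc_30_0 lc_e_rc_19_1 lc_e_rc_4_1 lc_e_Cert_tree lc_e_rc_4_1 lc_e_rc_30_0 lc_e_rc_34_2 lc_e_rc_30_0 lc_e_rc_34_2 lc_e_rc_19_1 lc_e_rc_19_1 lc_e_rc_12_1 lc_e_rc_12_1 lc_e_rc_12_1 lc_e_rc_19_1 lc_e_rc_4_1 lc_e_rc_4_1 lc_e_rc_4_1 lc_e_rc_12_1 lc_e_rc_4_1) (@D3.rec (fun _ => (Cert rels S Gen.e)) lc_e_rc_12_1 lc_e_rc_34_2 lc_e_rc_4_1 lc_e_Cert_tree lc_e_rc_30_0 lc_e_rc_34_2 lc_e_Cert_tree lc_e_rc_30_0 lc_e_rc_34_2 lc_e_rc_30_0 lc_e_rc_34_2 lc_e_rc_32_2 lc_e_rc_34_2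 lc_e_rc_31_2 lc_e_rc_25_3 lc_e_rc_19_1 lc_e_rc_34_2 lc_e_rc_31_2 lc_e_rc_33_2 lc_e_rc_34_2 lc_e_rc_31_2 lc_e_Cert_tree lc_e_rc_30_0 lc_e_rc_34_2 lc_e_rc_4_1 lc_e_rc_34_2 lc_e_rc_31_2 lc_e_rc_4_1 lc_e_rc_34_2 lc_e_rc_31_2 lc_e_rc_33_2 lc_e_rc_34_2) (@D3.rec (fun _ => (Cert rels S Gen.e)) lc_e_rc_31_2 lc_e_rc_34_2 lc_e_rc_31_2 lc_e_rc_25_3 lc_e_rc_4_1 lc_e_rc_12_1 lc_e_Cert_tree lc_e_rc_30_0 lc_e_rc_34_2 lc_e_rc_32_2 lc_e_rc_34_2 lc_e_rc_31_2 lc_e_rc_33_2 lc_e_rc_32_2 lc_e_rc_31_2 lc_e_rc_33_2 lc_e_rc_32_2 lc_e_rc_31_2 lc_e_rc_34_2 lc_e_rc_31_2 lc_e_rc_25_3 lc_e_rc_31_2 lc_e_rc_34_2 lc_e_rc_25_5 lc_e_rc_4_1 lc_e_Cert_tree lc_e_rc_30_0 lc_e_rc_12_1 lc_e_rc_25_3 lc_e_Cert_tree lc_e_rc_30_0 lc_e_rc_34_2)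 (@D3.rec (fun _ => (Cert rels S Gen.e)) lc_e_rc_12_3 lc_e_rc_34_2 lc_e_rc_31_2 lc_e_rc_31_2 lc_e_rc_19_1 lc_e_rc_12_1 lc_e_rc_12_1 lc_e_Cert_tree lc_e_Cert_tree lc_e_Cert_tree lc_e_rc_30_0 lc_e_rc_34_2 lc_e_rc_30_0 lc_e_rc_34_2 lc_e_rc_32_2 lc_e_rc_34_2 lc_e_rc_31_2 lc_e_rc_4_1 lc_e_Cert_tree lc_e_rc_4_1 lc_e_rc_30_0 lc_e_rc_30_0 lc_e_rc_32_2 lc_e_rc_34_2 lc_e_rc_31_2 lc_e_rc_33_2 lc_e_rc_34_2 lc_e_rc_31_2 lc_e_rc_30_0 lc_e_rc_32_2 lc_e_rc_32_2 lc_e_rc_33_2) (@D3.rec (fun _ => (Cert rels S Gen.e)) lc_e_rc_34_2 lc_e_rc_31_2 lc_e_rc_34_2 lc_e_rc_31_2 lc_e_rc_25_3 lc_e_rc_19_1 lc_e_rc_12_1 lc_e_Cert_tree lc_e_rc_30_0 lc_e_rc_30_0 lc_e_rc_34_2 lc_e_rc_32_2 lc_e_rc_34_2 lc_e_rc_31_2 lc_e_rc_4_1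 lc_e_rc_32_2 lc_e_rc_12_3 lc_e_rc_34_2 lc_e_rc_31_2 lc_e_rc_4_3 lc_e_rc_4_3 lc_e_rc_25_3 lc_e_rc_19_1 lc_e_rc_19_1 lc_e_rc_12_1 lc_e_Cert_tree lc_e_rc_12_1 lc_e_Cert_tree lc_e_rc_30_0 lc_e_Cert_tree lc_e_rc_30_0 lc_e_rc_30_0) (@D3.rec (fun _ => (Cert rels S Gen.e)) lc_e_rc_34_2 lc_e_rc_32_2 lc_e_rc_34_2 lc_e_rc_31_2 lc_e_rc_25_3 lc_e_rc_19_1 lc_e_rc_34_2 lc_e_rc_31_2 lc_e_rc_33_2 lc_e_rc_34_2 lc_e_rc_31_2 lc_e_rc_4_1 lc_e_rc_30_0 lc_e_rc_34_2 lc_e_rc_4_1 lc_e_rc_19_1 lc_e_rc_33_2 lc_e_rc_34_2 lc_e_rc_31_2 lc_e_rc_34_2 lc_e_rc_31_2 lc_e_rc_25_3 lc_e_rc_31_2 lc_e_rc_34_2 lc_e_rc_33_2 lc_e_rc_19_1 lc_e_rc_34_2 lc_e_rc_31_2 lc_e_rc_32_0 lc_e_rc_31_2 lc_e_rc_25_3 lc_e_rc_19_1) (@D3.rec (fun _ =>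 (Cert rels S Gen.e)) lc_e_rc_19_1 lc_e_rc_19_1 lc_e_rc_12_1 lc_e_Cert_tree lc_e_rc_12_1 lc_e_rc_12_1 lc_e_rc_30_0 lc_e_Cert_tree lc_e_rc_30_0 lc_e_rc_30_0 lc_e_rc_32_2 lc_e_rc_25_3 lc_e_rc_47_45 lc_e_rc_4_1 lc_e_rc_30_0 lc_e_rc_34_2 lc_e_rc_32_2 lc_e_rc_31_2 lc_e_rc_34_2 lc_e_Cert_tree lc_e_rc_19_1 lc_e_Cert_tree lc_e_rc_19_1 lc_e_rc_30_0 lc_e_rc_31_2 lc_e_rc_12_1 lc_e_rc_31_2 lc_e_rc_34_2 lc_e_rc_34_2 lc_e_rc_30_0 lc_e_rc_34_2 lc_e_rc_12_1) (@D3.rec (fun _ => (Cert rels S Gen.e)) lc_e_rc_34_2 lc_e_rc_31_2 lc_e_rc_25_3 lc_e_rc_19_1 lc_e_rc_34_2 lc_e_rc_31_2 lc_e_rc_33_2 lc_e_rc_34_2 lc_e_rc_31_2 lc_e_Cert_tree lc_e_rc_31_2 lc_e_rc_25_3 lc_e_rc_19_1 lc_e_rc_19_1 lc_e_rc_31_2 lc_e_Cert_tree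 lc_e_rc_34_2 lc_e_rc_31_2 lc_e_rc_25_3 lc_e_rc_4_1 lc_e_rc_4_1 lc_e_rc_31_2 lc_e_rc_34_2 lc_e_rc_31_2 lc_e_rc_25_3 lc_e_rc_31_2 lc_e_rc_25_3 lc_e_rc_25_5 lc_e_rc_33_2 lc_e_rc_31_2 lc_e_rc_25_3 lc_e_rc_31_2) (@D3.rec (fun _ => (Cert rels S Gen.e)) lc_e_rc_19_1 lc_e_rc_19_1 lc_e_rc_30_0 lc_e_rc_31_2 lc_e_rc_31_2 lc_e_rc_34_2 lc_e_rc_34_2 lc_e_rc_31_2 lc_e_rc_19_1 lc_e_rc_31_2 lc_e_rc_4_1 lc_e_rc_30_0 lc_e_rc_31_2 lc_e_rc_12_1 lc_e_rc_19_1 lc_e_rc_12_1 lc_e_Cert_tree lc_e_rc_30_0 lc_e_rc_30_0 lc_e_rc_12_1 lc_e_rc_31_2 lc_e_Cert_tree lc_e_rc_34_2 lc_e_Cert_tree lc_e_rc_30_0 lc_e_rc_34_2 lc_e_rc_4_1 lc_e_Cert_tree lc_e_rc_34_2 lc_e_rc_30_0 lc_e_rc_34_2 lc_e_rc_32_2) (@D3.rec (fun _ => (Cert rels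 S Gen.e)) lc_e_rc_34_2 lc_e_rc_31_2 lc_e_rc_19_1 lc_e_rc_4_1 lc_e_Cert_tree lc_e_rc_34_2 lc_e_Cert_tree lc_e_rc_30_0 lc_e_rc_34_2 lc_e_rc_32_2 lc_e_rc_34_2 lc_e_rc_31_2 lc_e_rc_33_2 lc_e_rc_34_2 lc_e_rc_31_2 lc_e_rc_19_1 lc_e_rc_31_2 lc_e_rc_12_1 lc_e_rc_12_1 lc_e_Cert_tree lc_e_rc_34_2 lc_e_Cert_tree lc_e_rc_30_0 lc_e_rc_34_2 lc_e_rc_30_0 lc_e_rc_34_2 lc_e_rc_32_2 lc_e_rc_34_2 lc_e_rc_31_2 lc_e_Cert_tree lc_e_rc_4_1 lc_e_rc_30_0) (@D3.rec (fun _ => (Cert rels S Gen.e)) lc_e_rc_34_2 lc_e_rc_32_2 lc_e_rc_34_2 lc_e_rc_31_2 lc_e_rc_33_2 lc_e_rc_34_2 lc_e_rc_31_2 lc_e_rc_30_0 lc_e_rc_34_2 lc_e_rc_32_2 lc_e_rc_34_2 lc_e_rc_31_2 lc_e_rc_33_2 lc_e_rc_34_2 lc_e_rc_31_2 lc_e_rc_34_2 lc_e_rc_31_2 lc_e_rc_31_0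 lc_e_rc_19_1 lc_e_rc_12_1 lc_e_rc_30_0 lc_e_rc_34_2 lc_e_rc_32_2 lc_e_rc_34_2 lc_e_rc_31_2 lc_e_rc_25_3 lc_e_rc_19_1 lc_e_rc_34_2 lc_e_rc_31_2 lc_e_rc_33_2 lc_e_rc_34_2 lc_e_rc_31_2) (@D3.rec (fun _ => (Cert rels S Gen.e)) lc_e_rc_33_2 lc_e_rc_34_2 lc_e_rc_31_2 lc_e_rc_34_2 lc_e_rc_31_2 lc_e_rc_25_3 lc_e_rc_34_2 lc_e_rc_31_2 lc_e_rc_25_3 lc_e_rc_31_2 lc_e_Cert_tree lc_e_rc_19_1 lc_e_rc_30_0 lc_e_rc_31_2 lc_e_Cert_tree lc_e_rc_12_1 lc_e_rc_31_2 lc_e_rc_25_1 lc_e_Cert_tree lc_e_rc_34_2 lc_e_rc_30_0 lc_e_rc_34_2 lc_e_rc_33_2 lc_e_rc_4_1 lc_e_rc_34_2 lc_e_rc_34_2 lc_e_rc_34_2 lc_e_rc_19_3 lc_e_rc_34_2 lc_e_rc_30_0 lc_e_rc_34_2 lc_e_rc_32_2) (@D3.rec (fun _ => (Cert rels S Gen.e)) lc_e_rc_34_2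 lc_e_rc_31_2 lc_e_rc_25_3 lc_e_rc_34_2 lc_e_rc_19_1 lc_e_rc_25_3 lc_e_Cert_tree lc_e_rc_32_2 lc_e_rc_19_1 lc_e_rc_25_3 lc_e_rc_12_1 lc_e_rc_19_1 lc_e_rc_31_2 lc_e_rc_12_1 lc_e_rc_33_2 lc_e_rc_31_2 lc_e_rc_33_2 lc_e_Cert_tree lc_e_rc_34_2 lc_e_Cert_tree lc_e_rc_30_0 lc_e_rc_34_2 lc_e_rc_4_1 lc_e_rc_4_1 lc_e_rc_4_1 lc_e_rc_33_2 lc_e_Cert_tree lc_e_rc_34_2 lc_e_Cert_tree lc_e_rc_34_2 lc_e_rc_30_0 lc_e_rc_34_2) (@D3.rec (fun _ => (Cert rels S Gen.e)) lc_e_rc_32_2 lc_e_rc_34_2 lc_e_rc_31_2 lc_e_rc_4_1 lc_e_rc_4_1 lc_e_rc_34_2 lc_e_rc_19_1 lc_e_rc_4_1 lc_e_rc_4_3 lc_e_rc_31_2 lc_e_Cert_tree lc_e_rc_34_2 lc_e_rc_31_2 lc_e_Cert_tree lc_e_rc_34_2 lc_e_Cert_tree lc_e_rc_30_0 lc_e_rc_34_2 lc_e_rc_30_0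 lc_e_rc_34_2 lc_e_rc_32_2 lc_e_rc_34_2 lc_e_rc_31_2 lc_e_rc_33_2 lc_e_rc_34_2 lc_e_rc_31_2 lc_e_Cert_tree lc_e_rc_32_2 lc_e_rc_25_1 lc_e_rc_25_3 lc_e_rc_12_1 lc_e_rc_19_1) (@D3.rec (fun _ => (Cert rels S Gen.e)) lc_e_rc_31_2 lc_e_rc_30_0 lc_e_rc_34_2 lc_e_rc_12_1 lc_e_rc_19_1 lc_e_rc_31_2 lc_e_rc_4_1 lc_e_rc_12_1 lc_e_rc_19_1 lc_e_rc_19_1 lc_e_rc_12_1 lc_e_rc_12_1 lc_e_rc_12_1 lc_e_rc_33_2 lc_e_Cert_tree lc_e_rc_34_2 lc_e_Cert_tree lc_e_rc_34_2 lc_e_Cert_tree lc_e_rc_30_0 lc_e_rc_34_2 lc_e_rc_30_0 lc_e_rc_34_2 lc_e_rc_32_2 lc_e_rc_34_2 lc_e_rc_31_2 lc_e_Cert_tree lc_e_rc_4_1 lc_e_Cert_tree lc_e_rc_4_1 lc_e_rc_31_2 lc_e_Cert_tree) (@D3.rec (fun _ => (Cert rels S Gen.e)) lc_e_rc_34_2 lc_e_Cert_tree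 lc_e_rc_30_0 lc_e_rc_34_2 lc_e_rc_30_0 lc_e_rc_34_2 lc_e_rc_32_2 lc_e_rc_34_2 lc_e_rc_31_2 lc_e_rc_33_2 lc_e_rc_34_2 lc_e_rc_31_2 lc_e_rc_32_2 lc_e_rc_4_1 lc_e_rc_4_1 lc_e_rc_12_1 lc_e_rc_4_1 lc_e_rc_30_0 lc_e_rc_31_2 lc_e_Cert_tree lc_e_rc_34_2 lc_e_Cert_tree lc_e_rc_30_0 lc_e_rc_34_2 lc_e_Cert_tree lc_e_rc_32_2 lc_e_Cert_tree lc_e_rc_30_0 lc_e_rc_34_2 lc_e_Cert_tree lc_e_rc_30_0 lc_e_rc_34_2)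
def ce_e_6 : D2 → D3 → (Cert rels S Gen.e) := @D2.rec (fun _ => D3 → (Cert rels S Gen.e)) (@D3.rec (fun _ => (Cert rels S Gen.e)) lc_e_rc_32_2 lc_e_rc_34_2 lc_e_rc_31_2 lc_e_rc_32_2 lc_e_rc_34_2 lc_e_rc_31_2 lc_e_rc_33_2 lc_e_rc_34_2 lc_e_rc_31_2 lc_e_rc_34_2 lc_e_rc_31_2 lc_e_rc_31_2 lc_e_rc_12_1 lc_e_rc_33_2 lc_e_rc_4_1 lc_e_rc_12_1 lc_e_rc_4_1 lc_e_rc_12_1 lc_e_rc_4_1 lc_e_rc_19_1 lc_e_rc_19_1 lc_e_Cert_tree lc_e_rc_12_1 lc_e_Cert_tree lc_e_rc_12_1 lc_e_Cert_tree lc_e_Cert_tree lc_e_rc_30_0 lc_e_Cert_tree lc_e_rc_30_0 lc_e_rc_30_0 lc_e_rc_34_2) (@D3.rec (fun _ => (Cert rels S Gen.e)) lc_e_rc_34_2 lc_e_rc_30_0 lc_e_rc_31_2 lc_e_Cert_tree lc_e_rc_34_2 lc_e_Cert_tree lc_e_rc_30_0 lc_e_rc_34_2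 lc_e_rc_4_1 lc_e_rc_30_0 lc_e_Cert_tree lc_e_rc_30_0 lc_e_rc_12_1 lc_e_rc_4_1 lc_e_rc_31_2 lc_e_rc_34_2 lc_e_rc_19_3 lc_e_rc_30_0 lc_e_rc_34_2 lc_e_rc_47_31 lc_e_rc_30_0 lc_e_rc_34_2 lc_e_rc_34_2 lc_e_rc_12_3 lc_e_rc_4_1 lc_e_rc_30_0 lc_e_rc_31_2 lc_e_Cert_tree lc_e_rc_12_1 lc_e_rc_31_2 lc_e_rc_34_2 lc_e_rc_30_0) (@D3.rec (fun _ => (Cert rels S Gen.e)) lc_e_rc_34_2 lc_e_rc_33_2 lc_e_rc_4_1 lc_e_rc_34_2 lc_e_rc_34_2 lc_e_rc_34_2 lc_e_rc_34_2 lc_e_rc_32_2 lc_e_rc_25_3 lc_e_rc_34_2 lc_e_rc_19_1 lc_e_rc_25_3 lc_e_rc_32_2 lc_e_rc_32_2 lc_e_rc_25_3 lc_e_rc_12_1 lc_e_rc_19_1 lc_e_rc_31_2 lc_e_rc_12_1 lc_e_rc_33_2 lc_e_rc_31_2 lc_e_rc_33_2 lc_e_Cert_tree lc_e_rc_34_2 lc_e_Cert_tree lc_e_rc_30_0 lc_e_rc_34_2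 lc_e_rc_12_3 lc_e_rc_33_2 lc_e_Cert_tree lc_e_rc_34_2 lc_e_rc_34_2) (@D3.rec (fun _ => (Cert rels S Gen.e)) lc_e_rc_30_0 lc_e_rc_34_2 lc_e_rc_19_1 lc_e_rc_34_2 lc_e_rc_31_2 lc_e_rc_4_1 lc_e_rc_34_2 lc_e_rc_19_1 lc_e_rc_4_1 lc_e_rc_47_31 lc_e_rc_25_1 lc_e_rc_47_31 lc_e_rc_34_2 lc_e_rc_32_4 lc_e_rc_30_0 lc_e_rc_34_2 lc_e_rc_34_2 lc_e_rc_25_5 lc_e_rc_31_2 lc_e_rc_19_1 lc_e_rc_25_3 lc_e_rc_12_1 lc_e_rc_19_1 lc_e_rc_31_2 lc_e_rc_31_2 lc_e_rc_4_1 lc_e_rc_12_1 lc_e_rc_19_1 lc_e_rc_19_1 lc_e_rc_12_1 lc_e_rc_12_1 lc_e_rc_4_1) (@D3.rec (fun _ => (Cert rels S Gen.e)) lc_e_rc_33_2 lc_e_Cert_tree lc_e_rc_34_2 lc_e_Cert_tree lc_e_rc_34_2 lc_e_Cert_tree lc_e_rc_30_0 lc_e_rc_34_2 lc_e_rc_30_0 lc_e_rc_34_2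 lc_e_rc_32_2 lc_e_rc_34_2 lc_e_rc_31_2 lc_e_rc_34_2 lc_e_rc_4_1 lc_e_Cert_tree lc_e_rc_4_1 lc_e_rc_4_1 lc_e_Cert_tree lc_e_rc_34_2 lc_e_Cert_tree lc_e_rc_30_0 lc_e_rc_34_2 lc_e_rc_30_0 lc_e_rc_34_2 lc_e_rc_32_2 lc_e_rc_34_2 lc_e_rc_31_2 lc_e_rc_33_2 lc_e_rc_34_2 lc_e_rc_31_2 lc_e_rc_4_1) (@D3.rec (fun _ => (Cert rels S Gen.e)) lc_e_rc_19_1 lc_e_rc_4_1 lc_e_rc_12_1 lc_e_rc_19_1 lc_e_rc_4_1 lc_e_rc_4_3 lc_e_rc_32_0 lc_e_rc_25_1 lc_e_Cert_tree lc_e_rc_30_0 lc_e_rc_34_2 lc_e_Cert_tree lc_e_rc_32_2 lc_e_Cert_tree lc_e_rc_30_0 lc_e_rc_34_2 lc_e_Cert_tree lc_e_rc_30_0 lc_e_rc_34_2 lc_e_rc_32_2 lc_e_rc_34_2 lc_e_rc_31_2 lc_e_rc_32_2 lc_e_rc_34_2 lc_e_rc_33_2 lc_e_rc_34_2 lc_e_rc_31_2 lc_e_rc_34_2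 lc_e_rc_31_2 lc_e_rc_25_3 lc_e_rc_19_1 lc_e_rc_31_2) (@D3.rec (fun _ => (Cert rels S Gen.e)) lc_e_rc_19_1 lc_e_rc_12_1 lc_e_rc_19_1 lc_e_rc_4_1 lc_e_rc_31_2 lc_e_rc_19_1 lc_e_rc_25_3 lc_e_rc_12_1 lc_e_rc_33_2 lc_e_Cert_tree lc_e_rc_34_2 lc_e_rc_4_1 lc_e_rc_34_2 lc_e_Cert_tree lc_e_rc_30_0 lc_e_rc_34_2 lc_e_rc_30_0 lc_e_rc_34_2 lc_e_rc_32_2 lc_e_rc_34_2 lc_e_rc_31_2 lc_e_rc_4_1 lc_e_rc_4_1 lc_e_rc_4_1 lc_e_rc_34_2 lc_e_Cert_tree lc_e_rc_30_0 lc_e_rc_34_2 lc_e_rc_25_3 lc_e_rc_32_2 lc_e_rc_34_2 lc_e_rc_25_5) (@D3.rec (fun _ => (Cert rels S Gen.e)) lc_e_rc_4_1 lc_e_rc_34_2 lc_e_rc_31_2 lc_e_rc_12_1 lc_e_rc_19_1 lc_e_rc_33_2 lc_e_rc_19_3 lc_e_rc_19_3 lc_e_rc_30_0 lc_e_rc_34_2 lc_e_rc_32_2 lc_e_rc_34_2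 lc_e_rc_31_2 lc_e_rc_34_2 lc_e_rc_25_5 lc_e_rc_45_22 lc_e_rc_25_3 lc_e_rc_19_1 lc_e_rc_19_1 lc_e_Cert_tree lc_e_rc_12_1 lc_e_Cert_tree lc_e_rc_12_1 lc_e_Cert_tree lc_e_rc_34_2 lc_e_Cert_tree lc_e_rc_30_0 lc_e_rc_34_2 lc_e_Cert_tree lc_e_rc_30_0 lc_e_rc_34_2 lc_e_rc_30_0) (@D3.rec (fun _ => (Cert rels S Gen.e)) lc_e_rc_34_2 lc_e_rc_32_2 lc_e_rc_34_2 lc_e_rc_31_2 lc_e_rc_25_3 lc_e_rc_19_1 lc_e_rc_34_2 lc_e_rc_31_2 lc_e_rc_33_2 lc_e_rc_34_2 lc_e_rc_31_2 lc_e_rc_30_0 lc_e_rc_31_2 lc_e_Cert_tree lc_e_rc_4_1 lc_e_Cert_tree lc_e_rc_30_0 lc_e_rc_34_2 lc_e_rc_30_0 lc_e_rc_34_2 lc_e_Cert_tree lc_e_rc_30_0 lc_e_rc_34_2 lc_e_rc_4_1 lc_e_rc_34_2 lc_e_rc_31_2 lc_e_rc_19_1 lc_e_rc_34_2 lc_e_rc_31_2 lc_e_rc_33_2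 lc_e_rc_34_2 lc_e_rc_31_2) (@D3.rec (fun _ => (Cert rels S Gen.e)) lc_e_rc_34_2 lc_e_rc_31_2 lc_e_rc_25_3 lc_e_rc_4_1 lc_e_rc_12_1 lc_e_rc_31_2 lc_e_rc_12_1 lc_e_rc_30_0 lc_e_rc_12_3 lc_e_Cert_tree lc_e_rc_30_0 lc_e_rc_34_2 lc_e_rc_31_2 lc_e_rc_34_2 lc_e_rc_31_2 lc_e_rc_32_2 lc_e_rc_34_2 lc_e_rc_31_2 lc_e_Cert_tree lc_e_rc_30_0 lc_e_rc_34_2 lc_e_rc_19_1 lc_e_rc_34_2 lc_e_rc_31_2 lc_e_rc_33_2 lc_e_rc_32_2 lc_e_rc_31_2 lc_e_rc_19_1 lc_e_rc_19_1 lc_e_rc_31_2 lc_e_rc_34_2 lc_e_rc_31_2) (@D3.rec (fun _ => (Cert rels S Gen.e)) lc_e_rc_34_2 lc_e_rc_31_2 lc_e_rc_34_2 lc_e_rc_19_1 lc_e_rc_4_1 lc_e_rc_19_1 lc_e_rc_19_1 lc_e_rc_12_1 lc_e_Cert_tree lc_e_rc_12_1 lc_e_Cert_tree lc_e_rc_30_0 lc_e_rc_30_0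 lc_e_rc_4_1 lc_e_rc_30_0 lc_e_rc_34_2 lc_e_rc_34_2 lc_e_rc_19_1 lc_e_Cert_tree lc_e_rc_19_1 lc_e_rc_12_1 lc_e_rc_19_1 lc_e_rc_12_1 lc_e_rc_19_1 lc_e_rc_12_1 lc_e_rc_4_1 lc_e_rc_4_1 lc_e_rc_4_1 lc_e_rc_12_1 lc_e_Cert_tree lc_e_rc_30_0 lc_e_rc_34_2) (@D3.rec (fun _ => (Cert rels S Gen.e)) lc_e_rc_12_1 lc_e_rc_34_2 lc_e_rc_31_2 lc_e_rc_30_0 lc_e_rc_34_2 lc_e_rc_12_1 lc_e_rc_34_2 lc_e_rc_31_2 lc_e_rc_25_3 lc_e_rc_19_1 lc_e_rc_34_2 lc_e_rc_31_2 lc_e_rc_33_2 lc_e_rc_34_2 lc_e_rc_31_2 lc_e_Cert_tree lc_e_rc_31_2 lc_e_rc_25_3 lc_e_rc_19_1 lc_e_rc_19_1 lc_e_rc_31_2 lc_e_Cert_tree lc_e_rc_34_2 lc_e_rc_31_2 lc_e_rc_25_3 lc_e_Cert_tree lc_e_rc_30_0 lc_e_rc_34_2 lc_e_rc_4_1 lc_e_rc_34_2 lc_e_rc_31_2 lc_e_rc_4_1)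 (@D3.rec (fun _ => (Cert rels S Gen.e)) lc_e_rc_4_1 lc_e_rc_31_2 lc_e_rc_4_1 lc_e_rc_4_1 lc_e_rc_31_2 lc_e_rc_34_2 lc_e_rc_31_2 lc_e_rc_25_3 lc_e_rc_31_2 lc_e_rc_34_2 lc_e_rc_25_5 lc_e_rc_4_1 lc_e_rc_30_0 lc_e_rc_34_2 lc_e_rc_12_1 lc_e_rc_34_2 lc_e_rc_31_2 lc_e_rc_33_2 lc_e_rc_32_2 lc_e_rc_31_2 lc_e_rc_33_2 lc_e_rc_31_2 lc_e_rc_25_3 lc_e_rc_33_2 lc_e_rc_31_2 lc_e_rc_25_3 lc_e_rc_31_2 lc_e_rc_34_2 lc_e_rc_19_1 lc_e_Cert_tree lc_e_rc_30_0 lc_e_rc_19_1) (@D3.rec (fun _ => (Cert rels S Gen.e)) lc_e_rc_31_2 lc_e_rc_30_0 lc_e_rc_34_2 lc_e_rc_4_3 lc_e_rc_34_2 lc_e_rc_31_2 lc_e_rc_31_2 lc_e_rc_25_3 lc_e_rc_19_1 lc_e_rc_19_1 lc_e_rc_12_1 lc_e_Cert_tree lc_e_rc_12_1 lc_e_Cert_tree lc_e_rc_30_0 lc_e_Cert_tree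 lc_e_rc_30_0 lc_e_rc_30_0 lc_e_rc_34_2 lc_e_rc_32_2 lc_e_rc_34_2 lc_e_rc_31_2 lc_e_rc_25_3 lc_e_rc_19_1 lc_e_rc_34_2 lc_e_rc_31_2 lc_e_rc_33_2 lc_e_rc_34_2 lc_e_rc_31_2 lc_e_rc_30_0 lc_e_rc_4_1 lc_e_rc_4_1) (@D3.rec (fun _ => (Cert rels S Gen.e)) lc_e_rc_33_2 lc_e_rc_34_2 lc_e_rc_31_2 lc_e_rc_34_2 lc_e_rc_31_2 lc_e_rc_25_3 lc_e_rc_31_2 lc_e_rc_33_2 lc_e_rc_32_2 lc_e_rc_34_2 lc_e_rc_31_2 lc_e_rc_31_2 lc_e_rc_33_2 lc_e_rc_12_1 lc_e_rc_19_1 lc_e_rc_12_1 lc_e_rc_30_0 lc_e_rc_32_2 lc_e_rc_25_3 lc_e_rc_19_1 lc_e_rc_34_2 lc_e_rc_31_2 lc_e_rc_4_1 lc_e_rc_34_2 lc_e_rc_31_2 lc_e_rc_34_2 lc_e_rc_34_0 lc_e_rc_25_3 lc_e_rc_4_3 lc_e_rc_32_4 lc_e_rc_19_1 lc_e_rc_19_1) (@D3.rec (fun _ => (Cert rels S Gen.e))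 lc_e_Cert_tree lc_e_rc_19_1 lc_e_rc_12_1 lc_e_Cert_tree lc_e_rc_30_0 lc_e_rc_34_2 lc_e_rc_30_0 lc_e_rc_12_1 lc_e_rc_30_0 lc_e_rc_32_2 lc_e_rc_25_3 lc_e_rc_19_1 lc_e_rc_34_2 lc_e_rc_31_2 lc_e_rc_33_2 lc_e_rc_34_2 lc_e_rc_31_2 lc_e_Cert_tree lc_e_rc_31_2 lc_e_rc_25_3 lc_e_rc_19_1 lc_e_rc_19_1 lc_e_rc_31_2 lc_e_Cert_tree lc_e_rc_34_2 lc_e_rc_31_2 lc_e_rc_25_3 lc_e_rc_31_2 lc_e_rc_34_2 lc_e_rc_4_1 lc_e_rc_19_1 lc_e_rc_34_2) (@D3.rec (fun _ => (Cert rels S Gen.e)) lc_e_rc_31_2 lc_e_rc_32_0 lc_e_rc_31_2 lc_e_rc_25_3 lc_e_rc_19_1 lc_e_rc_31_2 lc_e_rc_32_2 lc_e_rc_31_2 lc_e_rc_19_1 lc_e_rc_32_2 lc_e_rc_19_1 lc_e_Cert_tree lc_e_rc_19_1 lc_e_rc_12_1 lc_e_rc_12_1 lc_e_rc_30_0 lc_e_rc_34_2 lc_e_rc_30_0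 lc_e_rc_31_2 lc_e_rc_34_2 lc_e_rc_32_2 lc_e_rc_30_0 lc_e_rc_47_45 lc_e_Cert_tree lc_e_rc_19_1 lc_e_rc_30_0 lc_e_rc_34_2 lc_e_rc_31_2 lc_e_rc_34_2 lc_e_rc_34_2 lc_e_rc_25_3 lc_e_rc_19_1) (@D3.rec (fun _ => (Cert rels S Gen.e)) lc_e_rc_34_2 lc_e_rc_31_2 lc_e_rc_12_1 lc_e_rc_12_1 lc_e_rc_31_2 lc_e_Cert_tree lc_e_rc_31_2 lc_e_rc_25_3 lc_e_rc_19_1 lc_e_rc_19_1 lc_e_rc_31_2 lc_e_Cert_tree lc_e_rc_34_2 lc_e_rc_31_2 lc_e_rc_25_3 lc_e_rc_30_0 lc_e_rc_25_3 lc_e_rc_25_1 lc_e_rc_34_2 lc_e_rc_34_2 lc_e_rc_31_2 lc_e_rc_19_1 lc_e_rc_31_2 lc_e_rc_4_1 lc_e_rc_30_0 lc_e_rc_31_2 lc_e_rc_12_1 lc_e_rc_19_1 lc_e_rc_4_1 lc_e_rc_31_2 lc_e_rc_25_3 lc_e_rc_31_2) (@D3.rec (fun _ => (Cert rels S Gen.e)) lc_e_rc_19_1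 lc_e_rc_19_1 lc_e_rc_12_1 lc_e_rc_31_2 lc_e_rc_33_2 lc_e_rc_19_1 lc_e_rc_34_2 lc_e_rc_34_2 lc_e_rc_34_2 lc_e_rc_19_3 lc_e_rc_34_2 lc_e_rc_31_2 lc_e_rc_30_0 lc_e_rc_19_1 lc_e_rc_12_1 lc_e_Cert_tree lc_e_rc_34_2 lc_e_Cert_tree lc_e_rc_30_0 lc_e_rc_34_2 lc_e_rc_30_0 lc_e_rc_34_2 lc_e_rc_32_2 lc_e_rc_34_2 lc_e_rc_31_2 lc_e_Cert_tree lc_e_rc_4_1 lc_e_Cert_tree lc_e_rc_30_0 lc_e_rc_34_2 lc_e_rc_32_2 lc_e_rc_34_2) (@D3.rec (fun _ => (Cert rels S Gen.e)) lc_e_rc_31_2 lc_e_rc_33_2 lc_e_rc_34_2 lc_e_rc_31_2 lc_e_rc_12_1 lc_e_rc_19_1 lc_e_rc_4_1 lc_e_rc_32_2 lc_e_rc_30_0 lc_e_rc_34_2 lc_e_rc_30_0 lc_e_rc_34_2 lc_e_rc_33_0 lc_e_rc_34_2 lc_e_rc_31_2 lc_e_rc_33_2 lc_e_rc_34_2 lc_e_rc_31_2 lc_e_rc_34_2 lc_e_rc_31_2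 lc_e_rc_12_1 lc_e_rc_19_1 lc_e_rc_12_1 lc_e_Cert_tree lc_e_rc_12_1 lc_e_Cert_tree lc_e_rc_30_0 lc_e_rc_34_2 lc_e_rc_30_0 lc_e_rc_34_2 lc_e_rc_32_2 lc_e_rc_34_2) (@D3.rec (fun _ => (Cert rels S Gen.e)) lc_e_rc_31_2 lc_e_rc_25_3 lc_e_rc_19_1 lc_e_rc_34_2 lc_e_rc_31_2 lc_e_rc_33_2 lc_e_rc_34_2 lc_e_rc_31_2 lc_e_rc_30_0 lc_e_rc_34_2 lc_e_rc_4_1 lc_e_rc_34_2 lc_e_rc_31_2 lc_e_rc_33_2 lc_e_rc_34_2 lc_e_rc_31_2 lc_e_rc_34_2 lc_e_rc_31_2 lc_e_rc_4_1 lc_e_rc_33_0 lc_e_rc_34_2 lc_e_rc_31_2 lc_e_rc_12_1 lc_e_rc_32_2 lc_e_rc_31_2 lc_e_rc_34_2 lc_e_rc_31_2 lc_e_rc_25_3 lc_e_rc_31_2 lc_e_Cert_tree lc_e_rc_19_1 lc_e_Cert_tree) (@D3.rec (fun _ => (Cert rels S Gen.e)) lc_e_rc_19_1 lc_e_rc_25_3 lc_e_rc_19_1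 lc_e_rc_34_2 lc_e_rc_31_2 lc_e_rc_33_2 lc_e_rc_34_2 lc_e_rc_31_2 lc_e_Cert_tree lc_e_rc_31_2 lc_e_rc_25_3 lc_e_rc_19_1 lc_e_rc_19_1 lc_e_rc_31_2 lc_e_Cert_tree lc_e_rc_34_2 lc_e_rc_31_2 lc_e_rc_25_3 lc_e_rc_34_2 lc_e_rc_31_2 lc_e_rc_25_3 lc_e_rc_31_2 lc_e_Cert_tree lc_e_rc_19_1 lc_e_rc_31_2 lc_e_Cert_tree lc_e_rc_19_1 lc_e_Cert_tree lc_e_Cert_tree lc_e_rc_30_0 lc_e_rc_12_1 lc_e_rc_31_2)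
def ce_e_7 : D2 → D3 → (Cert rels S Gen.e) := @D2.rec (fun _ => D3 → (Cert rels S Gen.e)) (@D3.rec (fun _ => (Cert rels S Gen.e)) lc_e_Cert_tree lc_e_rc_34_2 lc_e_Cert_tree lc_e_rc_30_0 lc_e_rc_34_2 lc_e_rc_34_2 lc_e_rc_19_3 lc_e_rc_34_2 lc_e_rc_30_0 lc_e_rc_34_2 lc_e_rc_32_2 lc_e_rc_34_2 lc_e_rc_31_2 lc_e_rc_4_1 lc_e_rc_34_2 lc_e_rc_19_1 lc_e_rc_4_1 lc_e_rc_34_2 lc_e_rc_32_2 lc_e_rc_34_2 lc_e_rc_31_2 lc_e_rc_33_2 lc_e_rc_34_2 lc_e_rc_31_2 lc_e_rc_25_3 lc_e_rc_12_1 lc_e_rc_19_1 lc_e_rc_31_2 lc_e_rc_32_2 lc_e_rc_30_0 lc_e_rc_34_2 lc_e_rc_12_1) (@D3.rec (fun _ => (Cert rels S Gen.e)) lc_e_rc_19_1 lc_e_rc_31_2 lc_e_rc_4_1 lc_e_rc_12_1 lc_e_rc_19_1 lc_e_rc_19_1 lc_e_rc_12_1 lc_e_rc_12_1 lc_e_rc_4_1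 lc_e_rc_33_2 lc_e_Cert_tree lc_e_rc_34_2 lc_e_Cert_tree lc_e_rc_34_2 lc_e_Cert_tree lc_e_rc_30_0 lc_e_rc_34_2 lc_e_rc_30_0 lc_e_rc_34_2 lc_e_rc_32_2 lc_e_rc_34_2 lc_e_rc_31_2 lc_e_rc_34_2 lc_e_rc_4_1 lc_e_Cert_tree lc_e_rc_4_1 lc_e_rc_4_1 lc_e_Cert_tree lc_e_rc_34_2 lc_e_Cert_tree lc_e_rc_30_0 lc_e_rc_34_2) (@D3.rec (fun _ => (Cert rels S Gen.e)) lc_e_rc_30_0 lc_e_rc_34_2 lc_e_rc_32_2 lc_e_rc_34_2 lc_e_rc_31_2 lc_e_rc_33_2 lc_e_rc_34_2 lc_e_rc_31_2 lc_e_Cert_tree lc_e_rc_4_1 lc_e_rc_25_1 lc_e_rc_4_1 lc_e_rc_12_1 lc_e_rc_19_1 lc_e_rc_4_1 lc_e_rc_4_3 lc_e_Cert_tree lc_e_rc_34_2 lc_e_Cert_tree lc_e_rc_30_0 lc_e_rc_34_2 lc_e_Cert_tree lc_e_rc_32_2 lc_e_rc_19_3 lc_e_rc_30_0 lc_e_rc_34_2 lc_e_Cert_tree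 lc_e_rc_30_0 lc_e_rc_34_2 lc_e_rc_32_2 lc_e_rc_34_2 lc_e_rc_31_2) (@D3.rec (fun _ => (Cert rels S Gen.e)) lc_e_rc_34_2 lc_e_rc_31_2 lc_e_rc_33_2 lc_e_rc_34_2 lc_e_rc_31_2 lc_e_rc_34_2 lc_e_rc_31_2 lc_e_rc_12_1 lc_e_rc_32_2 lc_e_rc_30_0 lc_e_rc_34_2 lc_e_rc_33_2 lc_e_rc_34_2 lc_e_rc_31_2 lc_e_rc_4_1 lc_e_rc_12_1 lc_e_rc_19_1 lc_e_rc_34_2 lc_e_rc_31_2 lc_e_rc_4_1 lc_e_rc_12_1 lc_e_rc_19_1 lc_e_rc_4_1 lc_e_rc_12_1 lc_e_rc_19_1 lc_e_rc_19_1 lc_e_Cert_tree lc_e_rc_12_1 lc_e_Cert_tree lc_e_rc_12_1 lc_e_rc_31_2 lc_e_Cert_tree) (@D3.rec (fun _ => (Cert rels S Gen.e)) lc_e_rc_34_2 lc_e_Cert_tree lc_e_rc_30_0 lc_e_rc_34_2 lc_e_Cert_tree lc_e_rc_30_0 lc_e_rc_34_2 lc_e_rc_30_0 lc_e_rc_34_2 lc_e_rc_32_2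 lc_e_rc_34_2 lc_e_rc_31_2 lc_e_rc_19_1 lc_e_rc_19_1 lc_e_rc_34_2 lc_e_rc_31_2 lc_e_rc_33_2 lc_e_rc_34_2 lc_e_rc_31_2 lc_e_rc_30_0 lc_e_rc_31_2 lc_e_Cert_tree lc_e_rc_4_1 lc_e_Cert_tree lc_e_rc_30_0 lc_e_rc_34_2 lc_e_Cert_tree lc_e_rc_32_2 lc_e_Cert_tree lc_e_rc_30_0 lc_e_rc_34_2 lc_e_Cert_tree) (@D3.rec (fun _ => (Cert rels S Gen.e)) lc_e_rc_30_0 lc_e_rc_34_2 lc_e_rc_4_1 lc_e_rc_34_2 lc_e_rc_31_2 lc_e_rc_32_2 lc_e_rc_34_2 lc_e_rc_31_2 lc_e_rc_33_2 lc_e_rc_34_2 lc_e_rc_31_2 lc_e_rc_34_2 lc_e_rc_31_2 lc_e_rc_4_1 lc_e_rc_12_1 lc_e_rc_4_1 lc_e_rc_4_1 lc_e_rc_12_1 lc_e_rc_31_2 lc_e_rc_32_4 lc_e_rc_34_2 lc_e_rc_33_2 lc_e_rc_30_0 lc_e_rc_34_2 lc_e_rc_12_3 lc_e_rc_30_0 lc_e_rc_34_2 lc_e_rc_31_2 lc_e_rc_34_2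 lc_e_rc_31_2 lc_e_rc_30_0 lc_e_rc_34_2) (@D3.rec (fun _ => (Cert rels S Gen.e)) lc_e_rc_33_2 lc_e_rc_30_0 lc_e_rc_34_2 lc_e_rc_32_2 lc_e_rc_34_2 lc_e_rc_31_2 lc_e_Cert_tree lc_e_rc_30_0 lc_e_rc_34_2 lc_e_rc_19_1 lc_e_rc_34_2 lc_e_rc_31_2 lc_e_rc_33_2 lc_e_rc_32_2 lc_e_rc_31_2 lc_e_rc_32_2 lc_e_rc_32_2 lc_e_rc_31_2 lc_e_rc_34_2 lc_e_rc_31_2 lc_e_rc_25_3 lc_e_rc_31_2 lc_e_rc_19_1 lc_e_rc_19_1 lc_e_rc_4_1 lc_e_rc_12_1 lc_e_rc_4_1 lc_e_rc_4_1 lc_e_Cert_tree lc_e_rc_19_1 lc_e_Cert_tree lc_e_rc_19_1) (@D3.rec (fun _ => (Cert rels S Gen.e)) lc_e_rc_30_0 lc_e_rc_31_2 lc_e_Cert_tree lc_e_rc_12_1 lc_e_Cert_tree lc_e_rc_30_0 lc_e_rc_34_2 lc_e_Cert_tree lc_e_rc_30_0 lc_e_Cert_tree lc_e_rc_30_0 lc_e_rc_30_0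 lc_e_rc_25_3 lc_e_rc_34_2 lc_e_rc_31_2 lc_e_rc_34_2 lc_e_rc_19_3 lc_e_rc_30_0 lc_e_rc_34_2 lc_e_Cert_tree lc_e_rc_30_0 lc_e_rc_34_2 lc_e_rc_34_2 lc_e_rc_4_1 lc_e_rc_47_10 lc_e_rc_30_0 lc_e_rc_4_1 lc_e_rc_34_2 lc_e_rc_25_1 lc_e_rc_34_2 lc_e_rc_19_1 lc_e_rc_25_1) (@D3.rec (fun _ => (Cert rels S Gen.e)) lc_e_rc_34_2 lc_e_rc_31_2 lc_e_rc_34_2 lc_e_Cert_tree lc_e_rc_30_0 lc_e_rc_34_2 lc_e_rc_34_2 lc_e_rc_34_2 lc_e_rc_4_1 lc_e_rc_34_2 lc_e_rc_19_1 lc_e_rc_4_1 lc_e_rc_47_52 lc_e_rc_32_2 lc_e_rc_19_1 lc_e_rc_25_3 lc_e_rc_12_1 lc_e_rc_19_1 lc_e_rc_31_2 lc_e_rc_32_2 lc_e_rc_31_2 lc_e_rc_4_1 lc_e_rc_12_1 lc_e_rc_19_1 lc_e_rc_19_1 lc_e_rc_12_1 lc_e_rc_33_2 lc_e_Cert_tree lc_e_rc_34_2 lc_e_rc_34_2 lc_e_Cert_tree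 lc_e_rc_30_0) (@D3.rec (fun _ => (Cert rels S Gen.e)) lc_e_rc_34_2 lc_e_rc_30_0 lc_e_rc_34_2 lc_e_rc_19_3 lc_e_rc_34_2 lc_e_rc_31_2 lc_e_rc_19_1 lc_e_rc_25_1 lc_e_rc_19_3 lc_e_rc_34_2 lc_e_rc_32_4 lc_e_rc_30_0 lc_e_rc_34_2 lc_e_rc_34_2 lc_e_rc_25_5 lc_e_rc_31_2 lc_e_rc_19_1 lc_e_rc_4_1 lc_e_rc_12_1 lc_e_rc_19_1 lc_e_rc_4_1 lc_e_rc_19_1 lc_e_rc_33_2 lc_e_rc_19_3 lc_e_rc_32_4 lc_e_rc_34_2 lc_e_rc_34_2 lc_e_rc_31_2 lc_e_rc_12_3 lc_e_rc_25_3 lc_e_rc_19_1 lc_e_rc_31_2) (@D3.rec (fun _ => (Cert rels S Gen.e)) lc_e_rc_4_1 lc_e_rc_12_1 lc_e_rc_19_1 lc_e_rc_4_1 lc_e_rc_12_1 lc_e_rc_19_1 lc_e_rc_19_1 lc_e_rc_34_2 lc_e_rc_12_1 lc_e_Cert_tree lc_e_rc_12_1 lc_e_rc_12_1 lc_e_Cert_tree lc_e_rc_34_2 lc_e_Cert_tree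 lc_e_rc_30_0 lc_e_rc_34_2 lc_e_Cert_tree lc_e_rc_30_0 lc_e_rc_34_2 lc_e_rc_30_0 lc_e_rc_34_2 lc_e_rc_32_2 lc_e_rc_34_2 lc_e_rc_31_2 lc_e_rc_25_3 lc_e_rc_19_1 lc_e_rc_34_2 lc_e_rc_31_2 lc_e_rc_33_2 lc_e_rc_34_2 lc_e_rc_31_2) (@D3.rec (fun _ => (Cert rels S Gen.e)) lc_e_rc_34_0 lc_e_rc_32_0 lc_e_rc_25_1 lc_e_Cert_tree lc_e_rc_30_0 lc_e_rc_34_2 lc_e_Cert_tree lc_e_rc_4_1 lc_e_Cert_tree lc_e_rc_30_0 lc_e_rc_34_2 lc_e_Cert_tree lc_e_rc_30_0 lc_e_rc_34_2 lc_e_rc_4_1 lc_e_rc_34_2 lc_e_rc_31_2 lc_e_rc_4_1 lc_e_rc_34_2 lc_e_rc_33_2 lc_e_rc_34_2 lc_e_rc_31_2 lc_e_rc_34_2 lc_e_rc_31_2 lc_e_rc_25_3 lc_e_rc_12_1 lc_e_rc_19_1 lc_e_rc_4_1 lc_e_rc_4_1 lc_e_rc_12_1 lc_e_rc_19_1 lc_e_rc_31_2) (@D3.rec (fun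 _ => (Cert rels S Gen.e)) lc_e_rc_4_3 lc_e_rc_32_2 lc_e_rc_34_2 lc_e_rc_31_2 lc_e_rc_30_0 lc_e_rc_34_2 lc_e_rc_31_2 lc_e_rc_34_2 lc_e_rc_31_2 lc_e_rc_30_0 lc_e_rc_34_2 lc_e_rc_30_0 lc_e_rc_34_2 lc_e_rc_19_1 lc_e_rc_34_2 lc_e_rc_31_2 lc_e_Cert_tree lc_e_rc_30_0 lc_e_rc_34_2 lc_e_rc_19_1 lc_e_rc_34_2 lc_e_rc_31_2 lc_e_rc_33_2 lc_e_rc_32_2 lc_e_rc_31_2 lc_e_rc_32_2 lc_e_rc_32_2 lc_e_rc_34_2 lc_e_rc_31_2 lc_e_rc_12_1 lc_e_rc_31_2 lc_e_rc_34_2) (@D3.rec (fun _ => (Cert rels S Gen.e)) lc_e_rc_12_1 lc_e_rc_19_1 lc_e_rc_19_1 lc_e_rc_12_1 lc_e_Cert_tree lc_e_rc_4_1 lc_e_rc_31_0 lc_e_rc_19_1 lc_e_rc_25_3 lc_e_rc_12_1 lc_e_rc_19_3 lc_e_rc_34_2 lc_e_Cert_tree lc_e_rc_30_0 lc_e_rc_34_2 lc_e_rc_19_1 lc_e_rc_25_3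 lc_e_rc_30_0 lc_e_rc_34_2 lc_e_rc_32_2 lc_e_rc_34_2 lc_e_rc_25_5 lc_e_rc_19_1 lc_e_rc_19_1 lc_e_rc_34_2 lc_e_rc_31_2 lc_e_rc_19_3 lc_e_rc_34_2 lc_e_rc_31_2 lc_e_rc_4_1 lc_e_rc_19_3 lc_e_rc_19_3) (@D3.rec (fun _ => (Cert rels S Gen.e)) lc_e_Cert_tree lc_e_rc_30_0 lc_e_rc_34_2 lc_e_rc_4_1 lc_e_rc_34_2 lc_e_rc_31_2 lc_e_rc_34_2 lc_e_rc_25_5 lc_e_rc_33_0 lc_e_rc_25_3 lc_e_rc_12_1 lc_e_rc_34_2 lc_e_rc_31_2 lc_e_rc_31_2 lc_e_rc_32_2 lc_e_rc_34_2 lc_e_rc_31_2 lc_e_rc_32_2 lc_e_rc_31_2 lc_e_rc_4_3 lc_e_rc_34_2 lc_e_rc_19_1 lc_e_Cert_tree lc_e_rc_19_1 lc_e_Cert_tree lc_e_rc_19_1 lc_e_rc_30_0 lc_e_rc_31_2 lc_e_Cert_tree lc_e_rc_12_1 lc_e_Cert_tree lc_e_rc_30_0) (@D3.rec (fun _ => (Cert rels S Gen.e))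 lc_e_rc_34_2 lc_e_Cert_tree lc_e_rc_30_0 lc_e_rc_34_2 lc_e_Cert_tree lc_e_rc_30_0 lc_e_rc_34_2 lc_e_rc_12_1 lc_e_rc_34_2 lc_e_rc_31_2 lc_e_rc_30_0 lc_e_rc_34_2 lc_e_rc_32_2 lc_e_rc_34_2 lc_e_rc_31_2 lc_e_rc_25_3 lc_e_rc_19_1 lc_e_rc_34_2 lc_e_rc_31_2 lc_e_rc_33_2 lc_e_rc_34_2 lc_e_rc_31_2 lc_e_Cert_tree lc_e_rc_31_2 lc_e_rc_25_3 lc_e_rc_19_1 lc_e_rc_19_1 lc_e_rc_31_2 lc_e_Cert_tree lc_e_rc_34_2 lc_e_rc_31_2 lc_e_rc_25_3) (@D3.rec (fun _ => (Cert rels S Gen.e)) lc_e_rc_31_2 lc_e_rc_12_3 lc_e_rc_30_0 lc_e_rc_12_3 lc_e_Cert_tree lc_e_rc_30_0 lc_e_rc_34_2 lc_e_rc_31_2 lc_e_rc_34_2 lc_e_rc_31_2 lc_e_rc_4_1 lc_e_rc_34_2 lc_e_rc_31_2 lc_e_Cert_tree lc_e_rc_30_0 lc_e_rc_34_2 lc_e_rc_19_1 lc_e_rc_34_2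 lc_e_rc_31_2 lc_e_rc_4_1 lc_e_rc_4_1 lc_e_rc_31_2 lc_e_rc_19_1 lc_e_rc_19_1 lc_e_rc_31_2 lc_e_rc_34_2 lc_e_rc_31_2 lc_e_rc_34_2 lc_e_rc_31_2 lc_e_rc_34_2 lc_e_rc_19_1 lc_e_rc_4_1) (@D3.rec (fun _ => (Cert rels S Gen.e)) lc_e_rc_33_0 lc_e_rc_25_3 lc_e_Cert_tree lc_e_rc_30_0 lc_e_rc_34_2 lc_e_rc_31_2 lc_e_rc_34_2 lc_e_rc_31_2 lc_e_rc_31_2 lc_e_rc_32_2 lc_e_rc_31_2 lc_e_rc_31_0 lc_e_rc_34_2 lc_e_rc_31_2 lc_e_rc_30_0 lc_e_rc_34_2 lc_e_rc_12_1 lc_e_rc_34_2 lc_e_rc_31_2 lc_e_rc_19_1 lc_e_rc_19_1 lc_e_rc_31_2 lc_e_rc_33_2 lc_e_rc_31_2 lc_e_rc_19_3 lc_e_rc_19_1 lc_e_rc_31_2 lc_e_rc_31_2 lc_e_rc_34_2 lc_e_rc_34_2 lc_e_rc_19_1 lc_e_Cert_tree) (@D3.rec (fun _ => (Cert rels S Gen.e)) lc_e_rc_19_1 lc_e_rc_12_1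 lc_e_rc_46_39 lc_e_rc_30_0 lc_e_rc_34_2 lc_e_rc_30_0 lc_e_rc_34_2 lc_e_Cert_tree lc_e_rc_19_1 lc_e_Cert_tree lc_e_rc_30_0 lc_e_rc_34_2 lc_e_rc_19_1 lc_e_rc_19_1 lc_e_rc_4_1 lc_e_rc_4_1 lc_e_rc_12_1 lc_e_rc_4_1 lc_e_Cert_tree lc_e_rc_30_0 lc_e_rc_34_2 lc_e_rc_19_1 lc_e_rc_19_1 lc_e_rc_34_2 lc_e_rc_31_2 lc_e_rc_12_1 lc_e_rc_12_1 lc_e_rc_31_2 lc_e_rc_19_1 lc_e_rc_19_1 lc_e_rc_34_2 lc_e_rc_31_2) (@D3.rec (fun _ => (Cert rels S Gen.e)) lc_e_rc_12_1 lc_e_rc_12_1 lc_e_rc_31_2 lc_e_Cert_tree lc_e_rc_31_2 lc_e_rc_25_3 lc_e_rc_19_1 lc_e_rc_19_1 lc_e_rc_31_2 lc_e_Cert_tree lc_e_rc_34_2 lc_e_rc_31_2 lc_e_rc_25_3 lc_e_rc_30_0 lc_e_rc_31_2 lc_e_rc_12_3 lc_e_rc_34_2 lc_e_rc_34_2 lc_e_rc_31_2 lc_e_rc_19_1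 lc_e_rc_31_2 lc_e_rc_19_1 lc_e_rc_30_0 lc_e_rc_31_2 lc_e_rc_12_1 lc_e_rc_19_1 lc_e_rc_30_0 lc_e_rc_34_2 lc_e_rc_12_1 lc_e_rc_34_2 lc_e_rc_31_2 lc_e_rc_4_1) (@D3.rec (fun _ => (Cert rels S Gen.e)) lc_e_rc_4_1 lc_e_rc_31_2 lc_e_rc_4_1 lc_e_rc_31_2 lc_e_rc_25_3 lc_e_rc_4_1 lc_e_rc_31_2 lc_e_rc_25_3 lc_e_rc_31_2 lc_e_rc_34_2 lc_e_rc_19_1 lc_e_rc_12_1 lc_e_rc_4_1 lc_e_rc_34_2 lc_e_rc_31_2 lc_e_rc_12_1 lc_e_rc_12_1 lc_e_rc_31_2 lc_e_rc_33_2 lc_e_rc_31_2 lc_e_rc_25_3 lc_e_rc_31_2 lc_e_rc_19_1 lc_e_rc_19_1 lc_e_rc_31_2 lc_e_rc_34_2 lc_e_rc_19_1 lc_e_rc_30_0 lc_e_rc_25_3 lc_e_rc_4_3 lc_e_rc_34_2 lc_e_rc_46_39) (@D3.rec (fun _ => (Cert rels S Gen.e)) lc_e_rc_31_2 lc_e_rc_25_3 lc_e_rc_19_1 lc_e_Cert_tree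 lc_e_rc_19_1 lc_e_Cert_tree lc_e_rc_30_0 lc_e_rc_30_0 lc_e_rc_12_1 lc_e_rc_30_0 lc_e_rc_4_1 lc_e_rc_25_3 lc_e_rc_19_1 lc_e_rc_34_2 lc_e_rc_31_2 lc_e_rc_33_2 lc_e_rc_34_2 lc_e_rc_31_2 lc_e_Cert_tree lc_e_rc_31_2 lc_e_rc_25_3 lc_e_rc_19_1 lc_e_rc_19_1 lc_e_rc_31_2 lc_e_rc_46_32 lc_e_rc_34_2 lc_e_rc_31_2 lc_e_rc_4_3 lc_e_rc_31_2 lc_e_rc_4_1 lc_e_rc_4_1 lc_e_rc_34_2)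
def ce_e_8 : D2 → D3 → (Cert rels S Gen.e) := @D2.rec (fun _ => D3 → (Cert rels S Gen.e)) (@D3.rec (fun _ => (Cert rels S Gen.e)) lc_e_rc_31_2 lc_e_rc_31_2 lc_e_rc_4_1 lc_e_rc_4_1 lc_e_rc_31_2 lc_e_rc_31_2 lc_e_Cert_tree lc_e_rc_19_1 lc_e_rc_25_3 lc_e_rc_19_1 lc_e_Cert_tree lc_e_rc_31_2 lc_e_rc_25_3 lc_e_rc_4_1 lc_e_rc_34_2 lc_e_rc_31_2 lc_e_rc_12_1 lc_e_rc_34_2 lc_e_rc_34_0 lc_e_rc_25_3 lc_e_rc_34_0 lc_e_rc_32_4 lc_e_rc_19_1 lc_e_Cert_tree lc_e_rc_19_1 lc_e_Cert_tree lc_e_rc_30_0 lc_e_rc_34_2 lc_e_rc_30_0 lc_e_rc_34_2 lc_e_rc_31_2 lc_e_rc_34_2) (@D3.rec (fun _ => (Cert rels S Gen.e)) lc_e_rc_25_3 lc_e_rc_19_1 lc_e_rc_12_1 lc_e_rc_25_3 lc_e_rc_32_2 lc_e_rc_32_2 lc_e_Cert_tree lc_e_rc_31_2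 lc_e_rc_25_3 lc_e_rc_19_1 lc_e_rc_19_1 lc_e_rc_31_2 lc_e_Cert_tree lc_e_rc_34_2 lc_e_rc_31_2 lc_e_rc_32_0 lc_e_rc_30_0 lc_e_rc_30_1 lc_e_rc_25_1 lc_e_rc_34_2 lc_e_rc_34_2 lc_e_rc_31_2 lc_e_rc_19_1 lc_e_rc_31_2 lc_e_rc_12_1 lc_e_rc_30_0 lc_e_rc_31_2 lc_e_rc_25_3 lc_e_rc_4_1 lc_e_rc_31_2 lc_e_rc_32_2 lc_e_rc_31_2) (@D3.rec (fun _ => (Cert rels S Gen.e)) lc_e_rc_19_1 lc_e_rc_32_2 lc_e_rc_12_1 lc_e_rc_33_2 lc_e_Cert_tree lc_e_rc_19_1 lc_e_rc_47_52 lc_e_rc_30_0 lc_e_rc_34_2 lc_e_rc_12_1 lc_e_rc_34_2 lc_e_rc_32_2 lc_e_rc_30_0 lc_e_rc_30_0 lc_e_rc_34_2 lc_e_rc_32_2 lc_e_rc_34_2 lc_e_rc_31_2 lc_e_rc_34_2 lc_e_Cert_tree lc_e_rc_31_2 lc_e_rc_25_3 lc_e_rc_19_1 lc_e_rc_19_1 lc_e_rc_31_2 lc_e_Cert_tree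 lc_e_rc_12_1 lc_e_rc_31_2 lc_e_rc_25_3 lc_e_rc_30_0 lc_e_rc_19_1 lc_e_rc_31_2) (@D3.rec (fun _ => (Cert rels S Gen.e)) lc_e_rc_34_2 lc_e_rc_34_2 lc_e_rc_31_2 lc_e_rc_19_1 lc_e_rc_31_2 lc_e_Cert_tree lc_e_rc_30_0 lc_e_rc_31_2 lc_e_rc_46_25 lc_e_rc_19_1 lc_e_rc_34_2 lc_e_rc_34_2 lc_e_rc_34_2 lc_e_rc_25_3 lc_e_rc_34_2 lc_e_rc_31_2 lc_e_rc_4_1 lc_e_rc_31_2 lc_e_rc_33_2 lc_e_rc_19_1 lc_e_rc_12_1 lc_e_rc_31_2 lc_e_rc_31_2 lc_e_rc_19_1 lc_e_Cert_tree lc_e_rc_12_1 lc_e_Cert_tree lc_e_rc_30_0 lc_e_rc_34_2 lc_e_rc_30_0 lc_e_rc_34_2 lc_e_rc_32_2) (@D3.rec (fun _ => (Cert rels S Gen.e)) lc_e_rc_34_2 lc_e_rc_31_2 lc_e_rc_25_3 lc_e_rc_19_1 lc_e_rc_34_2 lc_e_rc_31_2 lc_e_rc_33_2 lc_e_rc_34_2 lc_e_rc_31_2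 lc_e_rc_32_2 lc_e_rc_30_0 lc_e_rc_34_2 lc_e_Cert_tree lc_e_rc_30_0 lc_e_rc_34_2 lc_e_rc_4_1 lc_e_rc_34_2 lc_e_rc_31_2 lc_e_rc_33_2 lc_e_rc_34_2 lc_e_rc_31_2 lc_e_rc_34_2 lc_e_rc_31_2 lc_e_rc_4_1 lc_e_rc_12_1 lc_e_rc_19_1 lc_e_rc_34_2 lc_e_rc_34_2 lc_e_rc_31_2 lc_e_rc_34_2 lc_e_rc_31_2 lc_e_rc_34_2) (@D3.rec (fun _ => (Cert rels S Gen.e)) lc_e_rc_31_2 lc_e_rc_34_2 lc_e_rc_31_2 lc_e_rc_25_3 lc_e_rc_31_2 lc_e_rc_12_3 lc_e_rc_19_1 lc_e_Cert_tree lc_e_Cert_tree lc_e_rc_12_1 lc_e_Cert_tree lc_e_rc_30_0 lc_e_rc_34_2 lc_e_rc_30_0 lc_e_rc_34_2 lc_e_rc_12_1 lc_e_rc_34_2 lc_e_rc_31_2 lc_e_rc_25_3 lc_e_rc_19_1 lc_e_rc_34_2 lc_e_rc_31_2 lc_e_rc_33_2 lc_e_rc_34_2 lc_e_rc_31_2 lc_e_Cert_tree lc_e_rc_31_2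 lc_e_rc_25_3 lc_e_rc_19_1 lc_e_rc_19_1 lc_e_rc_31_2 lc_e_Cert_tree) (@D3.rec (fun _ => (Cert rels S Gen.e)) lc_e_rc_34_2 lc_e_rc_31_2 lc_e_rc_12_1 lc_e_rc_4_1 lc_e_rc_34_2 lc_e_rc_31_2 lc_e_rc_19_3 lc_e_rc_4_1 lc_e_rc_31_2 lc_e_rc_34_2 lc_e_rc_31_2 lc_e_rc_25_3 lc_e_rc_31_2 lc_e_Cert_tree lc_e_rc_19_1 lc_e_rc_34_2 lc_e_rc_31_2 lc_e_rc_12_1 lc_e_rc_32_2 lc_e_rc_25_3 lc_e_rc_31_2 lc_e_Cert_tree lc_e_rc_19_1 lc_e_rc_30_1 lc_e_rc_30_1 lc_e_rc_30_0 lc_e_rc_31_2 lc_e_rc_30_0 lc_e_rc_34_2 lc_e_Cert_tree lc_e_rc_31_2 lc_e_rc_25_3) (@D3.rec (fun _ => (Cert rels S Gen.e)) lc_e_rc_19_1 lc_e_rc_19_1 lc_e_rc_31_2 lc_e_Cert_tree lc_e_rc_34_2 lc_e_rc_31_2 lc_e_rc_25_3 lc_e_rc_30_0 lc_e_rc_31_2 lc_e_rc_31_2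 lc_e_rc_34_2 lc_e_rc_34_2 lc_e_rc_31_2 lc_e_rc_19_1 lc_e_rc_31_2 lc_e_Cert_tree lc_e_rc_30_0 lc_e_rc_31_2 lc_e_Cert_tree lc_e_rc_19_1 lc_e_rc_31_2 lc_e_Cert_tree lc_e_rc_19_1 lc_e_Cert_tree lc_e_Cert_tree lc_e_rc_30_0 lc_e_rc_12_1 lc_e_rc_19_1 lc_e_rc_31_2 lc_e_rc_30_0 lc_e_rc_12_1 lc_e_Cert_tree) (@D3.rec (fun _ => (Cert rels S Gen.e)) lc_e_rc_30_0 lc_e_rc_25_1 lc_e_rc_30_0 lc_e_rc_4_1 lc_e_rc_34_2 lc_e_rc_30_0 lc_e_rc_34_2 lc_e_rc_30_0 lc_e_rc_31_0 lc_e_rc_32_2 lc_e_rc_34_2 lc_e_rc_46_46 lc_e_rc_34_2 lc_e_rc_32_2 lc_e_rc_34_2 lc_e_rc_31_2 lc_e_rc_33_2 lc_e_rc_34_2 lc_e_rc_31_2 lc_e_rc_4_1 lc_e_rc_12_1 lc_e_rc_19_1 lc_e_rc_4_1 lc_e_rc_19_3 lc_e_rc_34_2 lc_e_rc_31_2 lc_e_rc_34_2 lc_e_rc_19_3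 lc_e_rc_25_3 lc_e_rc_31_2 lc_e_rc_4_1 lc_e_rc_12_1) (@D3.rec (fun _ => (Cert rels S Gen.e)) lc_e_rc_19_1 lc_e_rc_32_2 lc_e_rc_34_2 lc_e_rc_31_2 lc_e_rc_4_1 lc_e_rc_12_1 lc_e_rc_19_1 lc_e_rc_4_1 lc_e_rc_12_1 lc_e_rc_25_3 lc_e_rc_19_1 lc_e_rc_34_2 lc_e_rc_12_1 lc_e_Cert_tree lc_e_rc_12_1 lc_e_rc_4_1 lc_e_Cert_tree lc_e_rc_34_2 lc_e_Cert_tree lc_e_rc_30_0 lc_e_rc_34_2 lc_e_rc_30_0 lc_e_rc_34_2 lc_e_rc_30_0 lc_e_rc_34_2 lc_e_rc_32_2 lc_e_rc_34_2 lc_e_rc_31_2 lc_e_rc_4_1 lc_e_rc_19_1 lc_e_rc_34_2 lc_e_rc_46_32) (@D3.rec (fun _ => (Cert rels S Gen.e)) lc_e_rc_33_2 lc_e_rc_34_2 lc_e_rc_31_2 lc_e_rc_34_0 lc_e_Cert_tree lc_e_rc_4_1 lc_e_Cert_tree lc_e_rc_30_0 lc_e_rc_34_2 lc_e_Cert_tree lc_e_rc_4_1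 lc_e_rc_19_3 lc_e_rc_30_0 lc_e_rc_34_2 lc_e_Cert_tree lc_e_rc_30_0 lc_e_rc_34_2 lc_e_rc_4_1 lc_e_rc_34_2 lc_e_rc_31_2 lc_e_rc_34_2 lc_e_rc_31_2 lc_e_rc_33_2 lc_e_rc_34_2 lc_e_rc_31_2 lc_e_rc_34_2 lc_e_rc_31_2 lc_e_rc_4_1 lc_e_rc_32_2 lc_e_rc_30_0 lc_e_rc_34_2 lc_e_rc_30_0) (@D3.rec (fun _ => (Cert rels S Gen.e)) lc_e_rc_34_2 lc_e_rc_4_1 lc_e_rc_4_1 lc_e_rc_12_1 lc_e_rc_19_1 lc_e_rc_32_4 lc_e_rc_4_3 lc_e_rc_19_3 lc_e_rc_30_0 lc_e_rc_34_2 lc_e_rc_32_2 lc_e_rc_30_0 lc_e_rc_34_2 lc_e_rc_31_2 lc_e_rc_34_2 lc_e_rc_31_2 lc_e_rc_31_0 lc_e_rc_30_0 lc_e_rc_34_2 lc_e_rc_33_2 lc_e_rc_34_2 lc_e_rc_34_2 lc_e_rc_31_2 lc_e_Cert_tree lc_e_rc_30_0 lc_e_rc_34_2 lc_e_rc_19_1 lc_e_rc_34_2 lc_e_rc_31_2 lc_e_rc_33_2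 lc_e_rc_32_2 lc_e_rc_31_2) (@D3.rec (fun _ => (Cert rels S Gen.e)) lc_e_rc_31_2 lc_e_rc_34_2 lc_e_rc_31_2 lc_e_rc_25_3 lc_e_rc_31_2 lc_e_Cert_tree lc_e_rc_19_1 lc_e_rc_34_2 lc_e_rc_34_2 lc_e_rc_12_3 lc_e_rc_47_17 lc_e_rc_34_2 lc_e_rc_19_1 lc_e_rc_4_1 lc_e_rc_12_1 lc_e_Cert_tree lc_e_rc_31_2 lc_e_rc_4_1 lc_e_rc_12_1 lc_e_rc_4_1 lc_e_Cert_tree lc_e_rc_19_1 lc_e_Cert_tree lc_e_rc_19_1 lc_e_rc_30_0 lc_e_rc_31_2 lc_e_Cert_tree lc_e_rc_12_1 lc_e_Cert_tree lc_e_rc_30_0 lc_e_rc_34_2 lc_e_Cert_tree) (@D3.rec (fun _ => (Cert rels S Gen.e)) lc_e_rc_32_2 lc_e_Cert_tree lc_e_rc_30_0 lc_e_rc_34_2 lc_e_Cert_tree lc_e_rc_30_0 lc_e_rc_34_2 lc_e_rc_12_1 lc_e_rc_34_2 lc_e_rc_31_2 lc_e_rc_30_0 lc_e_rc_34_2 lc_e_rc_32_2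 lc_e_rc_34_2 lc_e_rc_31_2 lc_e_rc_25_3 lc_e_rc_19_1 lc_e_rc_34_2 lc_e_rc_31_2 lc_e_rc_33_2 lc_e_rc_34_2 lc_e_rc_31_2 lc_e_Cert_tree lc_e_rc_31_2 lc_e_rc_19_1 lc_e_rc_19_1 lc_e_rc_19_1 lc_e_rc_31_2 lc_e_rc_45_85 lc_e_rc_34_2 lc_e_rc_31_2 lc_e_rc_12_1) (@D3.rec (fun _ => (Cert rels S Gen.e)) lc_e_rc_31_2 lc_e_rc_32_4 lc_e_rc_34_2 lc_e_rc_33_2 lc_e_rc_30_0 lc_e_rc_34_2 lc_e_Cert_tree lc_e_rc_30_0 lc_e_rc_34_2 lc_e_rc_31_2 lc_e_rc_34_2 lc_e_rc_31_2 lc_e_rc_30_0 lc_e_rc_34_2 lc_e_Cert_tree lc_e_rc_30_0 lc_e_rc_34_2 lc_e_rc_32_2 lc_e_rc_34_2 lc_e_rc_31_2 lc_e_Cert_tree lc_e_rc_30_0 lc_e_rc_34_2 lc_e_rc_19_1 lc_e_rc_34_2 lc_e_rc_31_2 lc_e_rc_4_1 lc_e_rc_4_1 lc_e_rc_31_2 lc_e_rc_32_2 lc_e_rc_32_2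 lc_e_rc_31_2) (@D3.rec (fun _ => (Cert rels S Gen.e)) lc_e_rc_34_2 lc_e_rc_31_2 lc_e_rc_25_3 lc_e_rc_31_2 lc_e_rc_19_1 lc_e_rc_19_1 lc_e_rc_4_1 lc_e_rc_12_1 lc_e_rc_4_1 lc_e_rc_34_2 lc_e_rc_34_2 lc_e_rc_34_2 lc_e_rc_34_2 lc_e_rc_31_2 lc_e_rc_12_3 lc_e_rc_12_3 lc_e_rc_31_2 lc_e_rc_34_2 lc_e_rc_31_2 lc_e_rc_31_2 lc_e_rc_32_2 lc_e_rc_31_2 lc_e_rc_34_2 lc_e_rc_31_2 lc_e_rc_4_1 lc_e_rc_34_2 lc_e_rc_34_2 lc_e_rc_31_2 lc_e_rc_31_0 lc_e_rc_34_2 lc_e_rc_31_2 lc_e_rc_30_0) (@D3.rec (fun _ => (Cert rels S Gen.e)) lc_e_rc_34_2 lc_e_rc_12_1 lc_e_rc_34_2 lc_e_rc_31_2 lc_e_rc_19_1 lc_e_rc_19_1 lc_e_rc_31_2 lc_e_rc_33_2 lc_e_rc_31_2 lc_e_rc_25_3 lc_e_rc_32_2 lc_e_rc_31_2 lc_e_rc_25_3 lc_e_rc_31_2 lc_e_rc_25_3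 lc_e_rc_19_1 lc_e_rc_4_1 lc_e_rc_30_0 lc_e_rc_47_10 lc_e_Cert_tree lc_e_rc_19_1 lc_e_Cert_tree lc_e_rc_30_0 lc_e_rc_34_2 lc_e_rc_31_2 lc_e_rc_34_2 lc_e_Cert_tree lc_e_rc_30_0 lc_e_rc_34_2 lc_e_Cert_tree lc_e_rc_30_0 lc_e_rc_34_2) (@D3.rec (fun _ => (Cert rels S Gen.e)) lc_e_rc_34_2 lc_e_rc_4_1 lc_e_rc_30_0 lc_e_rc_12_1 lc_e_rc_30_0 lc_e_rc_12_3 lc_e_rc_34_2 lc_e_rc_25_1 lc_e_rc_25_1 lc_e_rc_34_2 lc_e_rc_4_3 lc_e_rc_30_0 lc_e_rc_34_2 lc_e_rc_34_2 lc_e_rc_25_1 lc_e_rc_34_2 lc_e_rc_30_0 lc_e_rc_31_2 lc_e_rc_34_2 lc_e_rc_19_1 lc_e_rc_4_1 lc_e_rc_12_1 lc_e_rc_19_1 lc_e_rc_4_1 lc_e_rc_12_1 lc_e_rc_19_1 lc_e_rc_31_2 lc_e_rc_4_1 lc_e_rc_12_1 lc_e_rc_19_1 lc_e_rc_32_2 lc_e_rc_4_1) (@D3.rec (fun _ =>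 (Cert rels S Gen.e)) lc_e_rc_12_1 lc_e_rc_25_3 lc_e_rc_19_1 lc_e_rc_12_1 lc_e_rc_25_1 lc_e_rc_12_1 lc_e_rc_34_2 lc_e_Cert_tree lc_e_rc_30_0 lc_e_rc_34_2 lc_e_rc_30_0 lc_e_rc_34_2 lc_e_rc_34_2 lc_e_rc_4_1 lc_e_rc_30_1 lc_e_rc_34_2 lc_e_rc_32_4 lc_e_rc_25_5 lc_e_rc_31_2 lc_e_rc_19_1 lc_e_rc_4_1 lc_e_rc_19_3 lc_e_rc_32_4 lc_e_rc_34_2 lc_e_rc_34_2 lc_e_rc_31_2 lc_e_rc_12_3 lc_e_rc_25_3 lc_e_rc_12_1 lc_e_rc_19_1 lc_e_rc_4_1 lc_e_rc_4_1) (@D3.rec (fun _ => (Cert rels S Gen.e)) lc_e_rc_12_1 lc_e_rc_19_1 lc_e_rc_31_2 lc_e_rc_34_2 lc_e_rc_31_2 lc_e_rc_32_4 lc_e_rc_34_2 lc_e_rc_31_2 lc_e_rc_31_2 lc_e_rc_12_1 lc_e_rc_4_1 lc_e_rc_47_10 lc_e_Cert_tree lc_e_rc_4_1 lc_e_rc_34_2 lc_e_rc_19_1 lc_e_Cert_tree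 lc_e_rc_19_1 lc_e_rc_34_0 lc_e_rc_32_0 lc_e_rc_25_1 lc_e_Cert_tree lc_e_rc_30_0 lc_e_rc_34_2 lc_e_Cert_tree lc_e_rc_12_1 lc_e_Cert_tree lc_e_rc_30_0 lc_e_rc_34_2 lc_e_Cert_tree lc_e_rc_30_0 lc_e_rc_34_2) (@D3.rec (fun _ => (Cert rels S Gen.e)) lc_e_rc_12_1 lc_e_rc_34_2 lc_e_rc_31_2 lc_e_rc_30_0 lc_e_rc_34_2 lc_e_rc_4_1 lc_e_rc_34_2 lc_e_rc_25_3 lc_e_rc_19_1 lc_e_rc_34_2 lc_e_rc_31_2 lc_e_rc_33_2 lc_e_rc_34_2 lc_e_rc_31_2 lc_e_Cert_tree lc_e_rc_31_2 lc_e_rc_25_3 lc_e_rc_19_1 lc_e_rc_19_1 lc_e_rc_31_2 lc_e_rc_34_2 lc_e_rc_34_2 lc_e_rc_31_2 lc_e_rc_32_0 lc_e_rc_31_2 lc_e_rc_33_0 lc_e_rc_32_2 lc_e_rc_34_2 lc_e_Cert_tree lc_e_rc_30_0 lc_e_rc_34_2 lc_e_rc_31_2) (@D3.rec (fun _ => (Cert rels S Gen.e))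 lc_e_rc_34_2 lc_e_rc_31_2 lc_e_rc_30_0 lc_e_rc_34_2 lc_e_Cert_tree lc_e_rc_30_0 lc_e_rc_34_2 lc_e_rc_19_1 lc_e_rc_34_2 lc_e_rc_31_2 lc_e_Cert_tree lc_e_rc_30_0 lc_e_rc_34_2 lc_e_rc_19_1 lc_e_rc_34_2 lc_e_rc_31_2 lc_e_rc_4_1 lc_e_rc_4_1 lc_e_rc_31_2 lc_e_rc_4_1 lc_e_rc_4_1 lc_e_rc_34_2 lc_e_rc_31_2 lc_e_rc_12_3 lc_e_rc_31_2 lc_e_rc_4_1 lc_e_rc_19_1 lc_e_rc_12_1 lc_e_rc_19_1 lc_e_rc_4_1 lc_e_rc_12_1 lc_e_Cert_tree)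
def ce_e_9 : D2 → D3 → (Cert rels S Gen.e) := @D2.rec (fun _ => D3 → (Cert rels S Gen.e)) (@D3.rec (fun _ => (Cert rels S Gen.e)) lc_e_rc_34_2 lc_e_rc_34_2 lc_e_rc_19_3 lc_e_rc_31_2 lc_e_rc_34_2 lc_e_rc_34_2 lc_e_rc_31_2 lc_e_rc_32_2 lc_e_rc_31_2 lc_e_rc_34_2 lc_e_rc_31_2 lc_e_rc_34_2 lc_e_rc_31_2 lc_e_rc_34_2 lc_e_rc_31_2 lc_e_rc_30_0 lc_e_rc_34_2 lc_e_rc_34_2 lc_e_rc_31_2 lc_e_rc_19_1 lc_e_rc_31_2 lc_e_Cert_tree lc_e_rc_33_2 lc_e_rc_31_2 lc_e_rc_25_3 lc_e_rc_32_2 lc_e_rc_31_2 lc_e_rc_34_2 lc_e_Cert_tree lc_e_rc_19_1 lc_e_rc_32_2 lc_e_rc_30_0) (@D3.rec (fun _ => (Cert rels S Gen.e)) lc_e_Cert_tree lc_e_rc_19_1 lc_e_rc_46_39 lc_e_rc_19_3 lc_e_rc_4_1 lc_e_rc_19_3 lc_e_Cert_tree lc_e_rc_30_0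 lc_e_rc_34_2 lc_e_rc_12_1 lc_e_rc_34_2 lc_e_rc_31_2 lc_e_rc_34_2 lc_e_rc_25_3 lc_e_rc_19_1 lc_e_rc_34_2 lc_e_rc_31_2 lc_e_rc_34_2 lc_e_Cert_tree lc_e_rc_31_2 lc_e_rc_19_1 lc_e_rc_4_1 lc_e_rc_19_1 lc_e_rc_31_2 lc_e_rc_34_2 lc_e_rc_25_5 lc_e_rc_33_0 lc_e_rc_25_3 lc_e_rc_12_1 lc_e_rc_4_1 lc_e_rc_31_2 lc_e_rc_31_2) (@D3.rec (fun _ => (Cert rels S Gen.e)) lc_e_rc_30_0 lc_e_rc_34_2 lc_e_rc_4_1 lc_e_rc_34_2 lc_e_rc_31_2 lc_e_rc_4_1 lc_e_rc_31_2 lc_e_rc_31_2 lc_e_rc_34_2 lc_e_rc_19_1 lc_e_rc_31_2 lc_e_rc_34_2 lc_e_rc_31_2 lc_e_rc_32_2 lc_e_rc_30_0 lc_e_rc_47_38 lc_e_Cert_tree lc_e_rc_19_1 lc_e_Cert_tree lc_e_rc_30_0 lc_e_rc_34_2 lc_e_rc_31_2 lc_e_rc_4_1 lc_e_Cert_tree lc_e_rc_30_0 lc_e_rc_4_3 lc_e_Cert_tree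 lc_e_rc_30_0 lc_e_rc_34_2 lc_e_rc_31_2 lc_e_rc_34_2 lc_e_rc_31_2) (@D3.rec (fun _ => (Cert rels S Gen.e)) lc_e_rc_30_0 lc_e_rc_34_2 lc_e_rc_12_1 lc_e_rc_34_2 lc_e_rc_31_2 lc_e_Cert_tree lc_e_rc_30_0 lc_e_rc_34_2 lc_e_rc_25_3 lc_e_rc_19_1 lc_e_rc_34_2 lc_e_rc_31_2 lc_e_rc_12_1 lc_e_rc_12_1 lc_e_rc_31_2 lc_e_rc_19_3 lc_e_rc_32_2 lc_e_rc_34_2 lc_e_rc_31_2 lc_e_rc_32_2 lc_e_rc_32_2 lc_e_rc_31_2 lc_e_Cert_tree lc_e_rc_31_2 lc_e_rc_25_3 lc_e_rc_19_1 lc_e_rc_19_1 lc_e_rc_31_2 lc_e_Cert_tree lc_e_rc_34_2 lc_e_rc_31_2 lc_e_rc_34_2) (@D3.rec (fun _ => (Cert rels S Gen.e)) lc_e_rc_30_0 lc_e_rc_12_1 lc_e_rc_30_1 lc_e_rc_34_2 lc_e_rc_34_2 lc_e_rc_31_2 lc_e_rc_19_1 lc_e_rc_31_2 lc_e_rc_32_0 lc_e_rc_30_0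 lc_e_rc_31_2 lc_e_rc_34_2 lc_e_rc_32_0 lc_e_rc_33_0 lc_e_rc_25_3 lc_e_Cert_tree lc_e_rc_30_0 lc_e_rc_34_2 lc_e_rc_31_2 lc_e_rc_34_2 lc_e_rc_31_2 lc_e_rc_31_2 lc_e_rc_32_2 lc_e_rc_31_2 lc_e_rc_32_4 lc_e_rc_4_1 lc_e_rc_31_2 lc_e_rc_30_0 lc_e_rc_34_2 lc_e_rc_12_1 lc_e_rc_34_2 lc_e_rc_31_2) (@D3.rec (fun _ => (Cert rels S Gen.e)) lc_e_rc_19_1 lc_e_rc_19_1 lc_e_rc_31_2 lc_e_rc_4_1 lc_e_rc_31_2 lc_e_rc_19_3 lc_e_rc_19_1 lc_e_rc_31_2 lc_e_rc_31_2 lc_e_rc_34_2 lc_e_rc_34_2 lc_e_rc_19_1 lc_e_rc_30_0 lc_e_rc_34_2 lc_e_rc_34_2 lc_e_rc_31_2 lc_e_rc_32_2 lc_e_rc_31_2 lc_e_rc_33_2 lc_e_rc_32_2 lc_e_rc_34_2 lc_e_rc_31_2 lc_e_rc_4_1 lc_e_rc_34_2 lc_e_rc_31_2 lc_e_rc_12_1 lc_e_rc_31_2 lc_e_rc_19_1 lc_e_rc_31_2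 lc_e_rc_33_2 lc_e_rc_31_2 lc_e_rc_19_1) (@D3.rec (fun _ => (Cert rels S Gen.e)) lc_e_rc_12_3 lc_e_rc_31_2 lc_e_Cert_tree lc_e_rc_19_1 lc_e_rc_45_76 lc_e_rc_30_0 lc_e_rc_34_2 lc_e_rc_19_3 lc_e_rc_34_2 lc_e_rc_30_0 lc_e_rc_34_2 lc_e_Cert_tree lc_e_rc_30_0 lc_e_rc_34_2 lc_e_rc_32_2 lc_e_rc_34_2 lc_e_rc_31_2 lc_e_rc_4_1 lc_e_rc_19_1 lc_e_rc_4_1 lc_e_rc_30_0 lc_e_rc_34_2 lc_e_rc_19_3 lc_e_rc_19_1 lc_e_rc_34_2 lc_e_rc_31_2 lc_e_Cert_tree lc_e_rc_31_2 lc_e_rc_34_2 lc_e_rc_19_1 lc_e_rc_19_1 lc_e_rc_31_2) (@D3.rec (fun _ => (Cert rels S Gen.e)) lc_e_Cert_tree lc_e_rc_12_1 lc_e_rc_31_2 lc_e_rc_25_3 lc_e_Cert_tree lc_e_rc_31_2 lc_e_rc_34_2 lc_e_rc_19_1 lc_e_rc_19_1 lc_e_rc_31_2 lc_e_Cert_tree lc_e_rc_12_1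 lc_e_rc_31_2 lc_e_rc_25_3 lc_e_rc_30_0 lc_e_rc_31_2 lc_e_rc_31_2 lc_e_rc_34_2 lc_e_rc_34_2 lc_e_rc_31_2 lc_e_rc_19_1 lc_e_rc_31_2 lc_e_Cert_tree lc_e_rc_30_0 lc_e_rc_31_2 lc_e_rc_12_1 lc_e_rc_19_1 lc_e_rc_34_2 lc_e_rc_34_2 lc_e_rc_34_2 lc_e_rc_31_2 lc_e_rc_34_2) (@D3.rec (fun _ => (Cert rels S Gen.e)) lc_e_rc_31_2 lc_e_rc_31_2 lc_e_rc_19_1 lc_e_rc_4_1 lc_e_rc_34_2 lc_e_rc_31_2 lc_e_rc_12_1 lc_e_rc_12_1 lc_e_rc_31_2 lc_e_rc_4_1 lc_e_rc_31_2 lc_e_rc_25_3 lc_e_rc_31_2 lc_e_rc_19_1 lc_e_rc_19_1 lc_e_rc_31_2 lc_e_rc_34_2 lc_e_rc_19_1 lc_e_rc_12_1 lc_e_rc_4_1 lc_e_rc_4_1 lc_e_rc_31_2 lc_e_rc_12_1 lc_e_rc_31_2 lc_e_rc_25_3 lc_e_rc_31_2 lc_e_rc_31_2 lc_e_rc_31_0 lc_e_Cert_tree lc_e_Cert_tree lc_e_Cert_tree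 lc_e_rc_30_0) (@D3.rec (fun _ => (Cert rels S Gen.e)) lc_e_rc_34_2 lc_e_rc_30_0 lc_e_rc_31_2 lc_e_rc_25_3 lc_e_rc_19_1 lc_e_rc_12_1 lc_e_rc_25_3 lc_e_rc_4_1 lc_e_rc_4_1 lc_e_Cert_tree lc_e_rc_31_2 lc_e_rc_25_3 lc_e_rc_19_1 lc_e_rc_19_1 lc_e_rc_31_2 lc_e_Cert_tree lc_e_rc_34_2 lc_e_rc_31_2 lc_e_rc_30_0 lc_e_rc_25_3 lc_e_rc_25_1 lc_e_rc_34_2 lc_e_rc_19_1 lc_e_rc_31_2 lc_e_rc_31_2 lc_e_rc_4_1 lc_e_rc_31_2 lc_e_rc_31_2 lc_e_rc_30_0 lc_e_rc_34_2 lc_e_rc_34_2 lc_e_rc_31_2) (@D3.rec (fun _ => (Cert rels S Gen.e)) lc_e_rc_30_0 lc_e_rc_47_3 lc_e_rc_25_1 lc_e_rc_12_1 lc_e_rc_34_2 lc_e_rc_19_1 lc_e_rc_34_0 lc_e_rc_32_4 lc_e_rc_30_0 lc_e_rc_34_2 lc_e_rc_30_0 lc_e_rc_34_2 lc_e_rc_32_2 lc_e_rc_34_2 lc_e_rc_31_2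 lc_e_rc_25_3 lc_e_rc_31_2 lc_e_rc_34_2 lc_e_rc_31_2 lc_e_rc_32_2 lc_e_Cert_tree lc_e_rc_31_2 lc_e_rc_19_1 lc_e_Cert_tree lc_e_rc_31_2 lc_e_rc_32_2 lc_e_rc_30_0 lc_e_rc_4_3 lc_e_rc_12_1 lc_e_rc_34_2 lc_e_rc_34_2 lc_e_rc_31_2) (@D3.rec (fun _ => (Cert rels S Gen.e)) lc_e_rc_19_1 lc_e_rc_31_2 lc_e_Cert_tree lc_e_rc_30_0 lc_e_rc_31_2 lc_e_rc_30_1 lc_e_rc_32_0 lc_e_rc_34_2 lc_e_rc_34_2 lc_e_rc_34_2 lc_e_rc_46_32 lc_e_rc_31_2 lc_e_rc_12_1 lc_e_rc_4_3 lc_e_rc_33_2 lc_e_rc_32_2 lc_e_rc_30_0 lc_e_rc_34_2 lc_e_rc_12_1 lc_e_rc_34_2 lc_e_rc_31_2 lc_e_rc_34_2 lc_e_rc_31_2 lc_e_rc_33_2 lc_e_rc_32_2 lc_e_rc_31_2 lc_e_rc_30_0 lc_e_rc_31_2 lc_e_rc_31_2 lc_e_rc_34_2 lc_e_rc_34_2 lc_e_rc_31_2) (@D3.rec (fun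 _ => (Cert rels S Gen.e)) lc_e_rc_19_1 lc_e_rc_31_2 lc_e_Cert_tree lc_e_rc_30_0 lc_e_rc_31_2 lc_e_rc_47_31 lc_e_rc_19_1 lc_e_rc_34_2 lc_e_rc_34_2 lc_e_rc_34_2 lc_e_rc_31_2 lc_e_rc_34_2 lc_e_rc_19_1 lc_e_rc_31_2 lc_e_rc_4_1 lc_e_rc_4_3 lc_e_rc_30_0 lc_e_rc_12_1 lc_e_rc_31_2 lc_e_rc_31_2 lc_e_rc_4_1 lc_e_rc_12_1 lc_e_Cert_tree lc_e_rc_19_1 lc_e_Cert_tree lc_e_rc_30_0 lc_e_rc_34_2 lc_e_Cert_tree lc_e_rc_30_0 lc_e_rc_34_2 lc_e_rc_33_0 lc_e_rc_34_2) (@D3.rec (fun _ => (Cert rels S Gen.e)) lc_e_rc_31_2 lc_e_rc_25_3 lc_e_rc_19_1 lc_e_rc_34_2 lc_e_rc_31_2 lc_e_rc_33_2 lc_e_rc_34_2 lc_e_rc_31_2 lc_e_Cert_tree lc_e_rc_31_2 lc_e_rc_25_3 lc_e_rc_19_1 lc_e_rc_19_1 lc_e_rc_31_2 lc_e_rc_47_3 lc_e_rc_34_2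 lc_e_rc_31_2 lc_e_rc_32_0 lc_e_rc_32_2 lc_e_rc_34_2 lc_e_rc_34_2 lc_e_rc_31_2 lc_e_rc_30_0 lc_e_rc_34_2 lc_e_rc_34_2 lc_e_rc_31_2 lc_e_rc_34_2 lc_e_rc_31_2 lc_e_rc_34_2 lc_e_rc_31_2 lc_e_rc_4_1 lc_e_rc_31_2) (@D3.rec (fun _ => (Cert rels S Gen.e)) lc_e_rc_12_3 lc_e_rc_4_1 lc_e_rc_12_1 lc_e_Cert_tree lc_e_rc_31_2 lc_e_rc_31_2 lc_e_rc_31_2 lc_e_Cert_tree lc_e_rc_31_2 lc_e_rc_25_3 lc_e_rc_31_2 lc_e_rc_12_3 lc_e_rc_19_1 lc_e_rc_30_0 lc_e_Cert_tree lc_e_rc_30_0 lc_e_rc_34_2 lc_e_rc_30_0 lc_e_rc_34_2 lc_e_rc_12_1 lc_e_rc_34_2 lc_e_rc_31_2 lc_e_rc_25_3 lc_e_rc_19_1 lc_e_rc_34_2 lc_e_rc_31_2 lc_e_rc_4_1 lc_e_rc_12_1 lc_e_rc_31_2 lc_e_Cert_tree lc_e_rc_31_2 lc_e_rc_25_3) (@D3.rec (fun _ => (Cert rels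 S Gen.e)) lc_e_rc_19_1 lc_e_rc_19_1 lc_e_rc_31_2 lc_e_Cert_tree lc_e_rc_34_2 lc_e_rc_31_2 lc_e_rc_25_3 lc_e_rc_30_0 lc_e_rc_31_2 lc_e_rc_31_2 lc_e_rc_34_2 lc_e_rc_34_2 lc_e_rc_31_2 lc_e_rc_19_1 lc_e_rc_31_2 lc_e_rc_4_1 lc_e_rc_30_0 lc_e_rc_31_2 lc_e_Cert_tree lc_e_rc_33_0 lc_e_rc_4_1 lc_e_rc_31_2 lc_e_rc_12_3 lc_e_rc_4_1 lc_e_rc_25_3 lc_e_rc_31_2 lc_e_Cert_tree lc_e_rc_19_1 lc_e_rc_4_1 lc_e_rc_31_2 lc_e_rc_30_0 lc_e_rc_4_1) (@D3.rec (fun _ => (Cert rels S Gen.e)) lc_e_rc_31_2 lc_e_rc_25_3 lc_e_rc_31_2 lc_e_Cert_tree lc_e_rc_19_1 lc_e_rc_25_3 lc_e_rc_31_0 lc_e_rc_30_0 lc_e_rc_12_1 lc_e_rc_32_2 lc_e_rc_47_17 lc_e_rc_34_2 lc_e_rc_31_2 lc_e_rc_30_0 lc_e_rc_31_2 lc_e_rc_31_2 lc_e_rc_34_2 lc_e_rc_34_2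 lc_e_rc_31_2 lc_e_rc_19_1 lc_e_rc_31_2 lc_e_Cert_tree lc_e_rc_30_0 lc_e_rc_31_2 lc_e_Cert_tree lc_e_rc_19_1 lc_e_rc_34_2 lc_e_rc_33_2 lc_e_rc_34_2 lc_e_rc_31_2 lc_e_rc_34_2 lc_e_rc_33_0) (@D3.rec (fun _ => (Cert rels S Gen.e)) lc_e_rc_31_2 lc_e_Cert_tree lc_e_rc_4_1 lc_e_rc_30_0 lc_e_rc_12_3 lc_e_rc_12_1 lc_e_rc_30_0 lc_e_rc_12_1 lc_e_rc_19_1 lc_e_rc_31_2 lc_e_rc_30_0 lc_e_rc_12_1 lc_e_rc_45_13 lc_e_rc_30_0 lc_e_rc_47_52 lc_e_rc_30_0 lc_e_rc_4_1 lc_e_rc_4_1 lc_e_rc_30_0 lc_e_rc_25_3 lc_e_rc_32_2 lc_e_rc_34_2 lc_e_rc_31_2 lc_e_rc_32_2 lc_e_rc_4_1 lc_e_rc_34_2 lc_e_rc_19_3 lc_e_rc_34_2 lc_e_rc_31_2 lc_e_rc_34_2 lc_e_rc_19_3 lc_e_rc_4_1) (@D3.rec (fun _ => (Cert rels S Gen.e)) lc_e_rc_4_1 lc_e_rc_12_1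 lc_e_rc_19_1 lc_e_rc_4_1 lc_e_rc_12_1 lc_e_rc_4_1 lc_e_rc_12_1 lc_e_rc_4_1 lc_e_Cert_tree lc_e_rc_19_1 lc_e_rc_34_0 lc_e_Cert_tree lc_e_rc_12_1 lc_e_Cert_tree lc_e_rc_30_0 lc_e_rc_34_2 lc_e_Cert_tree lc_e_rc_4_1 lc_e_Cert_tree lc_e_rc_30_0 lc_e_rc_34_2 lc_e_Cert_tree lc_e_rc_30_0 lc_e_rc_34_2 lc_e_rc_12_1 lc_e_rc_34_2 lc_e_rc_31_2 lc_e_rc_34_2 lc_e_rc_31_2 lc_e_rc_4_1 lc_e_rc_19_1 lc_e_rc_34_2) (@D3.rec (fun _ => (Cert rels S Gen.e)) lc_e_rc_31_2 lc_e_rc_33_2 lc_e_rc_34_2 lc_e_rc_31_2 lc_e_Cert_tree lc_e_rc_19_1 lc_e_rc_19_1 lc_e_rc_34_2 lc_e_rc_31_2 lc_e_rc_32_4 lc_e_rc_31_2 lc_e_rc_19_3 lc_e_rc_30_0 lc_e_rc_34_2 lc_e_Cert_tree lc_e_rc_30_0 lc_e_rc_34_2 lc_e_rc_31_2 lc_e_rc_34_2 lc_e_rc_31_2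 lc_e_rc_31_0 lc_e_rc_30_0 lc_e_rc_34_2 lc_e_rc_19_3 lc_e_rc_34_2 lc_e_rc_34_2 lc_e_rc_31_2 lc_e_Cert_tree lc_e_rc_30_0 lc_e_rc_34_2 lc_e_rc_19_1 lc_e_rc_34_2) (@D3.rec (fun _ => (Cert rels S Gen.e)) lc_e_rc_31_2 lc_e_rc_4_1 lc_e_rc_4_1 lc_e_rc_31_2 lc_e_rc_31_2 lc_e_rc_34_2 lc_e_rc_31_2 lc_e_rc_4_1 lc_e_rc_31_2 lc_e_Cert_tree lc_e_rc_32_2 lc_e_rc_34_2 lc_e_rc_34_2 lc_e_rc_31_2 lc_e_rc_47_52 lc_e_rc_34_2 lc_e_rc_19_1 lc_e_rc_4_1 lc_e_rc_12_1 lc_e_Cert_tree lc_e_rc_34_2 lc_e_rc_34_2 lc_e_rc_34_2 lc_e_rc_31_2 lc_e_rc_31_2 lc_e_rc_34_2 lc_e_rc_34_2 lc_e_rc_31_2 lc_e_rc_32_2 lc_e_rc_31_2 lc_e_rc_34_2 lc_e_rc_34_2) (@D3.rec (fun _ => (Cert rels S Gen.e)) lc_e_rc_31_2 lc_e_rc_33_2 lc_e_rc_34_2 lc_e_rc_19_3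 lc_e_rc_31_2 lc_e_rc_30_0 lc_e_rc_34_2 lc_e_rc_34_2 lc_e_rc_31_2 lc_e_rc_19_1 lc_e_rc_31_2 lc_e_Cert_tree lc_e_rc_33_2 lc_e_rc_31_2 lc_e_rc_25_3 lc_e_rc_25_3 lc_e_Cert_tree lc_e_rc_19_1 lc_e_rc_30_0 lc_e_rc_4_1 lc_e_rc_25_1 lc_e_rc_4_1 lc_e_rc_31_0 lc_e_rc_30_0 lc_e_rc_45_22 lc_e_rc_30_0 lc_e_rc_47_24 lc_e_rc_31_2 lc_e_rc_19_1 lc_e_Cert_tree lc_e_rc_30_0 lc_e_rc_34_2)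
def ce_e_10 : D2 → D3 → (Cert rels S Gen.e) := @D2.rec (fun _ => D3 → (Cert rels S Gen.e)) (@D3.rec (fun _ => (Cert rels S Gen.e)) lc_e_rc_31_2 lc_e_rc_32_4 lc_e_rc_34_2 lc_e_Cert_tree lc_e_rc_30_0 lc_e_rc_34_2 lc_e_Cert_tree lc_e_rc_30_0 lc_e_rc_34_2 lc_e_rc_31_2 lc_e_rc_34_2 lc_e_rc_31_2 lc_e_Cert_tree lc_e_rc_30_0 lc_e_rc_34_2 lc_e_Cert_tree lc_e_rc_30_0 lc_e_rc_34_2 lc_e_rc_32_2 lc_e_rc_34_2 lc_e_rc_31_2 lc_e_Cert_tree lc_e_rc_30_0 lc_e_rc_34_2 lc_e_rc_25_3 lc_e_rc_19_1 lc_e_rc_34_2 lc_e_rc_31_2 lc_e_rc_12_1 lc_e_rc_12_1 lc_e_rc_31_2 lc_e_rc_19_3) (@D3.rec (fun _ => (Cert rels S Gen.e)) lc_e_rc_32_2 lc_e_rc_34_2 lc_e_rc_31_2 lc_e_rc_32_2 lc_e_rc_32_2 lc_e_rc_31_2 lc_e_Cert_tree lc_e_rc_31_2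 lc_e_rc_25_3 lc_e_rc_19_1 lc_e_rc_19_1 lc_e_rc_31_2 lc_e_Cert_tree lc_e_rc_34_2 lc_e_rc_31_2 lc_e_rc_25_3 lc_e_rc_30_0 lc_e_rc_4_3 lc_e_rc_19_1 lc_e_rc_34_2 lc_e_rc_19_1 lc_e_rc_31_2 lc_e_rc_31_2 lc_e_rc_31_2 lc_e_rc_34_2 lc_e_rc_34_2 lc_e_rc_12_1 lc_e_rc_4_1 lc_e_rc_34_2 lc_e_rc_31_2 lc_e_rc_19_3 lc_e_rc_30_0) (@D3.rec (fun _ => (Cert rels S Gen.e)) lc_e_rc_34_2 lc_e_rc_31_2 lc_e_rc_34_2 lc_e_rc_31_2 lc_e_rc_31_2 lc_e_rc_32_2 lc_e_rc_31_2 lc_e_rc_34_2 lc_e_rc_31_2 lc_e_rc_12_1 lc_e_rc_30_0 lc_e_rc_34_2 lc_e_rc_34_2 lc_e_rc_31_2 lc_e_rc_31_0 lc_e_rc_34_2 lc_e_rc_31_2 lc_e_rc_30_0 lc_e_rc_34_2 lc_e_rc_12_1 lc_e_rc_34_2 lc_e_rc_31_2 lc_e_rc_19_1 lc_e_rc_19_1 lc_e_rc_31_2 lc_e_rc_4_1 lc_e_rc_31_2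 lc_e_rc_25_3 lc_e_rc_32_2 lc_e_rc_31_2 lc_e_rc_25_3 lc_e_rc_31_2) (@D3.rec (fun _ => (Cert rels S Gen.e)) lc_e_rc_25_3 lc_e_rc_19_1 lc_e_rc_4_1 lc_e_rc_31_2 lc_e_rc_31_2 lc_e_rc_31_2 lc_e_rc_19_3 lc_e_rc_31_2 lc_e_rc_32_2 lc_e_rc_31_2 lc_e_rc_33_2 lc_e_rc_32_2 lc_e_rc_25_3 lc_e_rc_31_2 lc_e_rc_4_1 lc_e_rc_31_2 lc_e_rc_31_2 lc_e_rc_34_2 lc_e_rc_31_2 lc_e_rc_33_2 lc_e_rc_4_1 lc_e_rc_34_2 lc_e_rc_31_2 lc_e_rc_12_1 lc_e_rc_31_2 lc_e_rc_19_1 lc_e_rc_31_2 lc_e_rc_25_3 lc_e_rc_31_2 lc_e_rc_25_3 lc_e_rc_19_1 lc_e_Cert_tree) (@D3.rec (fun _ => (Cert rels S Gen.e)) lc_e_rc_31_0 lc_e_rc_32_4 lc_e_rc_12_1 lc_e_rc_47_10 lc_e_rc_19_3 lc_e_Cert_tree lc_e_rc_30_0 lc_e_rc_34_2 lc_e_Cert_tree lc_e_rc_30_0 lc_e_rc_34_2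 lc_e_rc_32_2 lc_e_rc_34_2 lc_e_rc_31_2 lc_e_rc_34_2 lc_e_rc_12_3 lc_e_rc_30_0 lc_e_rc_30_1 lc_e_rc_34_2 lc_e_rc_12_1 lc_e_rc_30_0 lc_e_rc_34_2 lc_e_rc_31_2 lc_e_rc_34_2 lc_e_rc_19_1 lc_e_rc_25_1 lc_e_rc_25_1 lc_e_rc_34_2 lc_e_rc_19_1 lc_e_rc_4_1 lc_e_rc_4_1 lc_e_rc_12_1) (@D3.rec (fun _ => (Cert rels S Gen.e)) lc_e_rc_19_1 lc_e_rc_4_1 lc_e_rc_4_1 lc_e_rc_19_3 lc_e_rc_34_2 lc_e_rc_12_1 lc_e_rc_19_3 lc_e_rc_30_0 lc_e_rc_30_0 lc_e_rc_4_3 lc_e_rc_30_0 lc_e_rc_34_2 lc_e_rc_34_2 lc_e_rc_31_2 lc_e_rc_4_1 lc_e_rc_34_2 lc_e_Cert_tree lc_e_rc_34_2 lc_e_rc_4_3 lc_e_rc_31_2 lc_e_rc_12_1 lc_e_rc_4_1 lc_e_rc_31_2 lc_e_rc_32_4 lc_e_rc_34_2 lc_e_rc_31_2 lc_e_rc_31_2 lc_e_rc_12_1 lc_e_rc_19_1 lc_e_rc_4_1 lc_e_rc_12_1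 lc_e_Cert_tree) (@D3.rec (fun _ => (Cert rels S Gen.e)) lc_e_rc_31_2 lc_e_rc_34_2 lc_e_rc_31_2 lc_e_rc_25_3 lc_e_rc_12_1 lc_e_rc_30_0 lc_e_rc_30_0 lc_e_rc_30_0 lc_e_rc_19_1 lc_e_Cert_tree lc_e_rc_31_2 lc_e_Cert_tree lc_e_rc_30_0 lc_e_rc_34_2 lc_e_rc_31_2 lc_e_rc_33_0 lc_e_rc_32_0 lc_e_rc_34_2 lc_e_Cert_tree lc_e_rc_30_0 lc_e_rc_34_2 lc_e_rc_31_2 lc_e_rc_34_2 lc_e_rc_31_2 lc_e_Cert_tree lc_e_rc_30_0 lc_e_rc_34_2 lc_e_Cert_tree lc_e_rc_30_0 lc_e_rc_34_2 lc_e_rc_19_3 lc_e_rc_34_2) (@D3.rec (fun _ => (Cert rels S Gen.e)) lc_e_rc_31_2 lc_e_Cert_tree lc_e_rc_30_0 lc_e_rc_34_2 lc_e_rc_25_3 lc_e_rc_19_1 lc_e_rc_34_2 lc_e_rc_31_2 lc_e_rc_12_1 lc_e_rc_12_1 lc_e_rc_31_2 lc_e_rc_19_3 lc_e_rc_4_1 lc_e_rc_34_2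 lc_e_rc_4_1 lc_e_rc_4_1 lc_e_Cert_tree lc_e_rc_31_2 lc_e_rc_25_3 lc_e_rc_19_1 lc_e_rc_19_1 lc_e_rc_31_2 lc_e_Cert_tree lc_e_rc_34_2 lc_e_rc_31_2 lc_e_rc_4_1 lc_e_rc_30_0 lc_e_rc_19_3 lc_e_rc_46_32 lc_e_rc_34_2 lc_e_rc_19_1 lc_e_rc_31_2) (@D3.rec (fun _ => (Cert rels S Gen.e)) lc_e_rc_31_2 lc_e_rc_4_1 lc_e_rc_34_2 lc_e_rc_4_1 lc_e_rc_34_2 lc_e_rc_25_3 lc_e_rc_32_2 lc_e_rc_30_0 lc_e_rc_34_2 lc_e_rc_34_2 lc_e_rc_31_2 lc_e_rc_32_2 lc_e_rc_31_2 lc_e_rc_34_2 lc_e_rc_31_2 lc_e_rc_30_0 lc_e_rc_34_2 lc_e_rc_34_2 lc_e_rc_31_2 lc_e_rc_34_2 lc_e_rc_31_2 lc_e_rc_30_0 lc_e_rc_34_2 lc_e_rc_12_1 lc_e_rc_34_2 lc_e_rc_31_2 lc_e_rc_19_1 lc_e_rc_31_2 lc_e_Cert_tree lc_e_rc_4_1 lc_e_rc_31_2 lc_e_rc_25_3) (@D3.rec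 (fun _ => (Cert rels S Gen.e)) lc_e_rc_4_1 lc_e_rc_31_2 lc_e_rc_4_1 lc_e_rc_12_1 lc_e_Cert_tree lc_e_rc_4_1 lc_e_Cert_tree lc_e_rc_30_0 lc_e_rc_31_2 lc_e_rc_12_1 lc_e_rc_34_2 lc_e_rc_31_2 lc_e_rc_31_2 lc_e_rc_25_1 lc_e_rc_32_2 lc_e_rc_31_2 lc_e_rc_31_2 lc_e_Cert_tree lc_e_rc_31_2 lc_e_rc_34_2 lc_e_rc_31_2 lc_e_rc_31_2 lc_e_rc_32_2 lc_e_rc_31_2 lc_e_rc_33_0 lc_e_rc_30_0 lc_e_rc_31_2 lc_e_rc_19_1 lc_e_rc_30_0 lc_e_rc_32_2 lc_e_Cert_tree lc_e_rc_30_0) (@D3.rec (fun _ => (Cert rels S Gen.e)) lc_e_rc_34_2 lc_e_rc_19_1 lc_e_rc_30_1 lc_e_rc_31_2 lc_e_rc_12_3 lc_e_rc_31_2 lc_e_rc_30_0 lc_e_rc_34_2 lc_e_rc_25_3 lc_e_rc_19_1 lc_e_rc_34_2 lc_e_rc_31_2 lc_e_rc_12_1 lc_e_rc_31_2 lc_e_Cert_tree lc_e_rc_31_2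 lc_e_rc_25_3 lc_e_rc_19_1 lc_e_Cert_tree lc_e_rc_30_0 lc_e_rc_33_2 lc_e_rc_31_2 lc_e_rc_34_2 lc_e_rc_34_2 lc_e_rc_19_1 lc_e_rc_31_2 lc_e_rc_34_2 lc_e_rc_12_1 lc_e_rc_31_2 lc_e_rc_12_1 lc_e_rc_34_2 lc_e_rc_31_2) (@D3.rec (fun _ => (Cert rels S Gen.e)) lc_e_rc_4_1 lc_e_rc_31_2 lc_e_rc_4_1 lc_e_rc_31_2 lc_e_rc_25_3 lc_e_rc_33_0 lc_e_rc_25_1 lc_e_Cert_tree lc_e_rc_30_0 lc_e_rc_34_2 lc_e_Cert_tree lc_e_rc_30_0 lc_e_rc_34_2 lc_e_rc_32_2 lc_e_rc_34_2 lc_e_rc_31_2 lc_e_rc_30_0 lc_e_rc_4_3 lc_e_rc_33_0 lc_e_rc_25_3 lc_e_Cert_tree lc_e_rc_30_0 lc_e_rc_34_2 lc_e_rc_25_3 lc_e_rc_31_2 lc_e_rc_34_2 lc_e_rc_31_2 lc_e_rc_31_2 lc_e_rc_32_2 lc_e_rc_31_2 lc_e_rc_4_3 lc_e_rc_12_1) (@D3.rec (fun _ => (Cert rels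 S Gen.e)) lc_e_rc_34_2 lc_e_rc_31_2 lc_e_rc_31_0 lc_e_rc_12_1 lc_e_rc_31_2 lc_e_rc_30_0 lc_e_rc_34_2 lc_e_rc_4_3 lc_e_rc_12_1 lc_e_rc_34_2 lc_e_rc_31_2 lc_e_Cert_tree lc_e_rc_31_2 lc_e_rc_25_3 lc_e_rc_19_1 lc_e_rc_19_1 lc_e_rc_31_2 lc_e_Cert_tree lc_e_rc_12_1 lc_e_rc_31_2 lc_e_rc_25_3 lc_e_Cert_tree lc_e_rc_19_3 lc_e_rc_19_3 lc_e_rc_32_2 lc_e_rc_32_2 lc_e_rc_31_2 lc_e_Cert_tree lc_e_rc_32_2 lc_e_rc_12_1 lc_e_rc_30_0 lc_e_rc_31_2) (@D3.rec (fun _ => (Cert rels S Gen.e)) lc_e_rc_31_2 lc_e_rc_34_2 lc_e_rc_34_2 lc_e_rc_31_2 lc_e_rc_19_1 lc_e_rc_31_2 lc_e_Cert_tree lc_e_rc_30_0 lc_e_rc_31_2 lc_e_rc_34_2 lc_e_rc_34_2 lc_e_rc_34_2 lc_e_rc_12_1 lc_e_rc_34_2 lc_e_rc_31_2 lc_e_rc_31_2 lc_e_rc_25_3 lc_e_rc_19_1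 lc_e_rc_30_0 lc_e_rc_34_2 lc_e_rc_12_1 lc_e_rc_34_2 lc_e_rc_31_2 lc_e_rc_32_2 lc_e_rc_31_2 lc_e_rc_33_2 lc_e_rc_32_2 lc_e_rc_34_2 lc_e_rc_31_2 lc_e_rc_4_1 lc_e_rc_34_2 lc_e_rc_31_2) (@D3.rec (fun _ => (Cert rels S Gen.e)) lc_e_rc_12_1 lc_e_rc_12_1 lc_e_rc_31_2 lc_e_rc_19_1 lc_e_rc_31_2 lc_e_rc_33_2 lc_e_rc_31_2 lc_e_rc_19_1 lc_e_rc_30_1 lc_e_rc_31_2 lc_e_rc_12_1 lc_e_rc_34_2 lc_e_rc_31_2 lc_e_rc_31_2 lc_e_rc_32_2 lc_e_rc_34_2 lc_e_rc_33_2 lc_e_rc_31_2 lc_e_rc_4_1 lc_e_rc_31_2 lc_e_rc_12_1 lc_e_rc_33_2 lc_e_rc_31_2 lc_e_rc_19_1 lc_e_rc_19_1 lc_e_rc_30_0 lc_e_rc_34_2 lc_e_rc_12_3 lc_e_rc_34_2 lc_e_rc_31_2 lc_e_rc_34_2 lc_e_rc_31_2) (@D3.rec (fun _ => (Cert rels S Gen.e)) lc_e_Cert_tree lc_e_rc_30_0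 lc_e_rc_34_2 lc_e_rc_19_1 lc_e_rc_34_2 lc_e_rc_31_2 lc_e_rc_33_2 lc_e_rc_32_2 lc_e_rc_31_2 lc_e_rc_4_1 lc_e_rc_19_3 lc_e_rc_4_1 lc_e_rc_34_2 lc_e_rc_31_2 lc_e_Cert_tree lc_e_rc_19_3 lc_e_rc_19_3 lc_e_rc_19_1 lc_e_rc_19_1 lc_e_rc_31_2 lc_e_Cert_tree lc_e_rc_30_0 lc_e_rc_31_2 lc_e_rc_31_2 lc_e_rc_34_2 lc_e_rc_34_2 lc_e_rc_12_3 lc_e_rc_19_1 lc_e_rc_31_2 lc_e_Cert_tree lc_e_rc_30_0 lc_e_rc_31_2) (@D3.rec (fun _ => (Cert rels S Gen.e)) lc_e_rc_31_2 lc_e_rc_19_1 lc_e_rc_30_0 lc_e_rc_31_2 lc_e_rc_31_2 lc_e_rc_34_2 lc_e_rc_34_2 lc_e_rc_12_3 lc_e_rc_19_1 lc_e_rc_31_2 lc_e_Cert_tree lc_e_rc_30_0 lc_e_rc_31_2 lc_e_rc_12_1 lc_e_rc_19_1 lc_e_rc_34_2 lc_e_rc_34_2 lc_e_rc_34_2 lc_e_rc_31_2 lc_e_rc_34_2 lc_e_Cert_tree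 lc_e_rc_31_2 lc_e_rc_19_1 lc_e_rc_32_2 lc_e_rc_30_0 lc_e_rc_12_1 lc_e_rc_31_2 lc_e_rc_31_2 lc_e_rc_31_2 lc_e_rc_25_3 lc_e_rc_19_1 lc_e_rc_4_1) (@D3.rec (fun _ => (Cert rels S Gen.e)) lc_e_rc_4_1 lc_e_rc_31_2 lc_e_rc_12_1 lc_e_rc_31_2 lc_e_rc_25_3 lc_e_rc_31_2 lc_e_Cert_tree lc_e_rc_31_0 lc_e_rc_12_1 lc_e_rc_12_1 lc_e_rc_4_1 lc_e_rc_4_1 lc_e_rc_25_3 lc_e_rc_31_2 lc_e_rc_31_0 lc_e_rc_31_0 lc_e_rc_30_0 lc_e_rc_30_0 lc_e_rc_30_0 lc_e_rc_32_2 lc_e_rc_34_2 lc_e_rc_31_2 lc_e_rc_25_3 lc_e_rc_31_2 lc_e_rc_31_2 lc_e_Cert_tree lc_e_rc_31_2 lc_e_rc_19_1 lc_e_Cert_tree lc_e_rc_31_2 lc_e_rc_4_1 lc_e_rc_30_0) (@D3.rec (fun _ => (Cert rels S Gen.e)) lc_e_rc_12_1 lc_e_rc_25_1 lc_e_rc_12_3 lc_e_rc_34_2 lc_e_rc_31_2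 lc_e_rc_19_1 lc_e_rc_31_2 lc_e_Cert_tree lc_e_rc_30_0 lc_e_rc_31_2 lc_e_rc_34_2 lc_e_rc_25_1 lc_e_rc_31_2 lc_e_rc_34_2 lc_e_rc_31_2 lc_e_rc_19_1 lc_e_rc_34_2 lc_e_rc_19_1 lc_e_rc_34_2 lc_e_rc_31_2 lc_e_rc_25_3 lc_e_rc_32_2 lc_e_rc_34_2 lc_e_rc_31_2 lc_e_rc_33_2 lc_e_rc_32_2 lc_e_rc_31_2 lc_e_Cert_tree lc_e_rc_31_2 lc_e_rc_25_3 lc_e_rc_31_2 lc_e_rc_32_2) (@D3.rec (fun _ => (Cert rels S Gen.e)) lc_e_rc_33_2 lc_e_rc_30_0 lc_e_rc_25_3 lc_e_rc_12_1 lc_e_rc_34_2 lc_e_rc_30_0 lc_e_rc_31_2 lc_e_rc_31_2 lc_e_rc_34_2 lc_e_rc_34_2 lc_e_rc_34_2 lc_e_rc_12_1 lc_e_rc_31_2 lc_e_rc_34_2 lc_e_rc_19_3 lc_e_rc_31_2 lc_e_rc_4_3 lc_e_Cert_tree lc_e_rc_30_0 lc_e_rc_12_1 lc_e_rc_46_39 lc_e_rc_12_1 lc_e_rc_32_2 lc_e_rc_34_2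 lc_e_rc_31_2 lc_e_rc_31_2 lc_e_rc_31_2 lc_e_rc_31_2 lc_e_rc_33_2 lc_e_rc_31_2 lc_e_rc_25_3 lc_e_rc_34_2) (@D3.rec (fun _ => (Cert rels S Gen.e)) lc_e_rc_34_2 lc_e_rc_33_2 lc_e_rc_31_2 lc_e_rc_34_2 lc_e_rc_32_2 lc_e_rc_31_2 lc_e_Cert_tree lc_e_rc_31_0 lc_e_rc_30_0 lc_e_rc_12_1 lc_e_rc_12_1 lc_e_rc_31_2 lc_e_rc_31_2 lc_e_rc_34_2 lc_e_rc_4_1 lc_e_rc_4_3 lc_e_Cert_tree lc_e_rc_30_0 lc_e_rc_34_2 lc_e_rc_19_1 lc_e_rc_30_0 lc_e_rc_34_2 lc_e_rc_34_2 lc_e_rc_31_2 lc_e_rc_30_0 lc_e_rc_34_2 lc_e_rc_25_3 lc_e_rc_12_1 lc_e_rc_34_2 lc_e_rc_31_2 lc_e_rc_12_1 lc_e_rc_31_2) (@D3.rec (fun _ => (Cert rels S Gen.e)) lc_e_Cert_tree lc_e_rc_31_2 lc_e_rc_25_3 lc_e_rc_19_1 lc_e_rc_19_1 lc_e_rc_31_2 lc_e_Cert_tree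 lc_e_rc_34_2 lc_e_rc_31_2 lc_e_rc_4_1 lc_e_rc_30_0 lc_e_rc_31_2 lc_e_rc_31_2 lc_e_rc_34_2 lc_e_rc_19_1 lc_e_rc_31_2 lc_e_rc_31_2 lc_e_rc_30_1 lc_e_rc_34_2 lc_e_rc_31_2 lc_e_rc_31_2 lc_e_rc_34_2 lc_e_rc_31_2 lc_e_rc_31_2 lc_e_Cert_tree lc_e_rc_31_2 lc_e_rc_4_1 lc_e_rc_31_2 lc_e_rc_25_3 lc_e_rc_19_1 lc_e_Cert_tree lc_e_rc_30_0)
def ce_e_11 : D2 → D3 → (Cert rels S Gen.e) := @D2.rec (fun _ => D3 → (Cert rels S Gen.e)) (@D3.rec (fun _ => (Cert rels S Gen.e)) lc_e_Cert_tree lc_e_rc_25_3 lc_e_Cert_tree lc_e_rc_30_0 lc_e_rc_45_40 lc_e_rc_19_1 lc_e_rc_12_1 lc_e_rc_30_0 lc_e_rc_34_2 lc_e_rc_4_3 lc_e_rc_34_2 lc_e_rc_31_2 lc_e_rc_25_3 lc_e_rc_12_3 lc_e_rc_34_2 lc_e_rc_31_2 lc_e_rc_12_1 lc_e_rc_31_2 lc_e_Cert_tree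 lc_e_rc_31_2 lc_e_rc_25_3 lc_e_rc_12_3 lc_e_rc_19_1 lc_e_rc_31_2 lc_e_Cert_tree lc_e_rc_19_3 lc_e_rc_12_1 lc_e_rc_25_3 lc_e_rc_30_0 lc_e_rc_31_2 lc_e_rc_31_2 lc_e_rc_34_2) (@D3.rec (fun _ => (Cert rels S Gen.e)) lc_e_rc_34_2 lc_e_rc_31_2 lc_e_rc_19_1 lc_e_rc_31_2 lc_e_Cert_tree lc_e_rc_30_0 lc_e_rc_31_2 lc_e_Cert_tree lc_e_rc_19_1 lc_e_rc_34_2 lc_e_rc_33_2 lc_e_rc_12_1 lc_e_rc_31_2 lc_e_rc_31_2 lc_e_Cert_tree lc_e_rc_30_1 lc_e_Cert_tree lc_e_rc_30_0 lc_e_rc_31_2 lc_e_rc_25_3 lc_e_rc_31_2 lc_e_Cert_tree lc_e_rc_19_1 lc_e_rc_30_1 lc_e_rc_31_0 lc_e_rc_30_0 lc_e_rc_12_1 lc_e_rc_4_1 lc_e_rc_19_3 lc_e_rc_25_3 lc_e_rc_25_1 lc_e_rc_30_0) (@D3.rec (fun _ => (Cert rels S Gen.e)) lc_e_rc_12_1 lc_e_rc_4_1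 lc_e_rc_31_2 lc_e_rc_32_2 lc_e_rc_31_2 lc_e_rc_34_2 lc_e_rc_33_2 lc_e_rc_34_2 lc_e_rc_31_2 lc_e_rc_34_2 lc_e_Cert_tree lc_e_rc_31_2 lc_e_Cert_tree lc_e_Cert_tree lc_e_rc_30_0 lc_e_rc_12_1 lc_e_rc_46_39 lc_e_rc_30_0 lc_e_rc_12_1 lc_e_rc_31_2 lc_e_rc_33_2 lc_e_rc_31_2 lc_e_rc_32_2 lc_e_rc_4_1 lc_e_rc_12_1 lc_e_rc_30_0 lc_e_rc_4_1 lc_e_rc_4_1 lc_e_rc_34_2 lc_e_rc_31_2 lc_e_rc_12_3 lc_e_rc_12_1) (@D3.rec (fun _ => (Cert rels S Gen.e)) lc_e_rc_4_1 lc_e_rc_12_1 lc_e_rc_4_1 lc_e_Cert_tree lc_e_rc_30_0 lc_e_rc_34_2 lc_e_rc_32_4 lc_e_rc_31_2 lc_e_Cert_tree lc_e_rc_30_0 lc_e_rc_34_2 lc_e_Cert_tree lc_e_rc_30_0 lc_e_rc_34_2 lc_e_rc_31_2 lc_e_rc_34_2 lc_e_rc_31_2 lc_e_Cert_tree lc_e_rc_30_0 lc_e_rc_34_2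 lc_e_rc_30_0 lc_e_rc_30_0 lc_e_rc_34_2 lc_e_rc_34_2 lc_e_rc_31_2 lc_e_Cert_tree lc_e_rc_30_0 lc_e_rc_34_2 lc_e_rc_25_3 lc_e_rc_19_1 lc_e_rc_34_2 lc_e_rc_31_2) (@D3.rec (fun _ => (Cert rels S Gen.e)) lc_e_rc_12_1 lc_e_rc_12_1 lc_e_rc_31_2 lc_e_rc_31_2 lc_e_Cert_tree lc_e_rc_31_2 lc_e_rc_4_1 lc_e_rc_19_1 lc_e_rc_19_1 lc_e_rc_31_2 lc_e_rc_34_2 lc_e_rc_31_2 lc_e_rc_4_1 lc_e_rc_30_0 lc_e_rc_30_1 lc_e_rc_19_1 lc_e_rc_4_3 lc_e_rc_34_2 lc_e_rc_25_1 lc_e_rc_34_2 lc_e_rc_34_2 lc_e_rc_31_2 lc_e_rc_32_2 lc_e_rc_30_0 lc_e_rc_34_2 lc_e_rc_34_2 lc_e_rc_31_2 lc_e_rc_32_2 lc_e_rc_31_2 lc_e_rc_31_0 lc_e_rc_34_2 lc_e_rc_34_2) (@D3.rec (fun _ => (Cert rels S Gen.e)) lc_e_rc_31_2 lc_e_rc_33_2 lc_e_rc_34_2 lc_e_rc_19_3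 lc_e_rc_31_2 lc_e_rc_30_0 lc_e_rc_34_2 lc_e_rc_12_1 lc_e_rc_34_2 lc_e_rc_31_2 lc_e_rc_19_1 lc_e_rc_31_2 lc_e_Cert_tree lc_e_rc_4_1 lc_e_rc_31_2 lc_e_rc_4_1 lc_e_rc_25_3 lc_e_Cert_tree lc_e_rc_19_1 lc_e_rc_30_0 lc_e_rc_34_2 lc_e_rc_4_1 lc_e_rc_31_2 lc_e_rc_25_1 lc_e_rc_30_1 lc_e_Cert_tree lc_e_rc_30_0 lc_e_rc_31_2 lc_e_rc_31_2 lc_e_rc_31_2 lc_e_rc_34_2 lc_e_rc_31_2) (@D3.rec (fun _ => (Cert rels S Gen.e)) lc_e_rc_31_2 lc_e_Cert_tree lc_e_rc_32_2 lc_e_rc_25_3 lc_e_rc_31_2 lc_e_rc_31_2 lc_e_rc_4_1 lc_e_rc_19_1 lc_e_rc_25_1 lc_e_rc_33_2 lc_e_rc_34_2 lc_e_rc_31_2 lc_e_rc_31_2 lc_e_rc_25_3 lc_e_rc_31_2 lc_e_rc_30_0 lc_e_rc_31_2 lc_e_rc_25_3 lc_e_rc_19_1 lc_e_rc_30_0 lc_e_rc_12_1 lc_e_rc_31_0 lc_e_rc_46_32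 lc_e_rc_19_3 lc_e_rc_25_5 lc_e_rc_34_2 lc_e_Cert_tree lc_e_rc_30_0 lc_e_rc_34_2 lc_e_rc_32_2 lc_e_rc_34_2 lc_e_rc_31_2) (@D3.rec (fun _ => (Cert rels S Gen.e)) lc_e_rc_34_2 lc_e_rc_32_4 lc_e_rc_34_2 lc_e_rc_33_2 lc_e_rc_30_0 lc_e_rc_34_2 lc_e_rc_34_2 lc_e_rc_31_2 lc_e_rc_47_45 lc_e_rc_30_0 lc_e_rc_34_2 lc_e_rc_25_3 lc_e_rc_31_2 lc_e_rc_34_2 lc_e_rc_31_2 lc_e_rc_31_2 lc_e_rc_32_2 lc_e_rc_31_2 lc_e_rc_30_0 lc_e_rc_34_2 lc_e_rc_34_2 lc_e_rc_31_2 lc_e_rc_12_3 lc_e_rc_30_0 lc_e_rc_34_2 lc_e_rc_12_3 lc_e_rc_32_2 lc_e_rc_34_2 lc_e_rc_31_2 lc_e_rc_31_0 lc_e_rc_34_2 lc_e_rc_31_2) (@D3.rec (fun _ => (Cert rels S Gen.e)) lc_e_rc_30_0 lc_e_rc_34_2 lc_e_rc_12_1 lc_e_rc_12_1 lc_e_rc_34_2 lc_e_rc_31_2 lc_e_Cert_tree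 lc_e_rc_31_2 lc_e_rc_25_3 lc_e_rc_19_1 lc_e_rc_19_1 lc_e_rc_31_2 lc_e_Cert_tree lc_e_rc_12_1 lc_e_rc_31_2 lc_e_rc_25_3 lc_e_rc_32_2 lc_e_rc_34_2 lc_e_rc_32_2 lc_e_rc_32_2 lc_e_rc_31_2 lc_e_rc_32_2 lc_e_rc_31_2 lc_e_rc_25_3 lc_e_rc_30_0 lc_e_rc_25_3 lc_e_rc_19_3 lc_e_rc_34_2 lc_e_rc_34_2 lc_e_rc_31_2 lc_e_rc_19_1 lc_e_rc_31_2) (@D3.rec (fun _ => (Cert rels S Gen.e)) lc_e_Cert_tree lc_e_rc_30_0 lc_e_rc_31_2 lc_e_rc_33_0 lc_e_rc_19_1 lc_e_rc_34_2 lc_e_rc_19_1 lc_e_rc_31_2 lc_e_rc_31_2 lc_e_rc_34_2 lc_e_rc_31_2 lc_e_rc_31_2 lc_e_rc_4_3 lc_e_rc_12_1 lc_e_rc_34_2 lc_e_rc_31_2 lc_e_rc_32_2 lc_e_rc_31_2 lc_e_rc_33_2 lc_e_rc_32_2 lc_e_rc_25_3 lc_e_rc_31_2 lc_e_rc_12_1 lc_e_rc_34_2 lc_e_rc_31_2 lc_e_rc_31_2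 lc_e_rc_34_2 lc_e_rc_31_2 lc_e_rc_33_2 lc_e_rc_4_1 lc_e_rc_34_2 lc_e_rc_31_2) (@D3.rec (fun _ => (Cert rels S Gen.e)) lc_e_rc_12_1 lc_e_rc_12_1 lc_e_rc_31_2 lc_e_rc_19_1 lc_e_rc_31_2 lc_e_rc_25_3 lc_e_rc_31_2 lc_e_rc_25_3 lc_e_rc_19_1 lc_e_Cert_tree lc_e_rc_31_0 lc_e_rc_32_4 lc_e_rc_12_1 lc_e_rc_34_2 lc_e_rc_31_2 lc_e_rc_32_2 lc_e_rc_25_3 lc_e_rc_33_2 lc_e_rc_25_3 lc_e_rc_33_0 lc_e_rc_25_3 lc_e_rc_31_2 lc_e_rc_25_3 lc_e_rc_31_2 lc_e_Cert_tree lc_e_rc_19_1 lc_e_rc_4_1 lc_e_rc_31_2 lc_e_rc_12_1 lc_e_rc_25_3 lc_e_rc_31_2 lc_e_Cert_tree) (@D3.rec (fun _ => (Cert rels S Gen.e)) lc_e_rc_25_1 lc_e_rc_32_4 lc_e_rc_12_1 lc_e_rc_31_0 lc_e_rc_30_0 lc_e_rc_4_1 lc_e_rc_19_3 lc_e_Cert_tree lc_e_rc_30_0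 lc_e_rc_12_3 lc_e_rc_46_32 lc_e_rc_34_2 lc_e_rc_31_2 lc_e_Cert_tree lc_e_rc_30_0 lc_e_rc_34_2 lc_e_rc_34_2 lc_e_rc_31_2 lc_e_rc_33_2 lc_e_rc_32_2 lc_e_rc_31_2 lc_e_rc_34_2 lc_e_rc_34_2 lc_e_rc_31_2 lc_e_rc_34_2 lc_e_rc_4_1 lc_e_rc_12_1 lc_e_rc_46_32 lc_e_rc_34_2 lc_e_rc_12_1 lc_e_rc_31_2 lc_e_rc_4_3) (@D3.rec (fun _ => (Cert rels S Gen.e)) lc_e_rc_12_3 lc_e_rc_31_2 lc_e_rc_32_4 lc_e_rc_34_2 lc_e_rc_25_3 lc_e_rc_34_2 lc_e_rc_31_2 lc_e_rc_31_2 lc_e_rc_4_1 lc_e_rc_30_0 lc_e_rc_12_1 lc_e_rc_31_2 lc_e_rc_34_2 lc_e_rc_31_2 lc_e_rc_25_3 lc_e_rc_4_1 lc_e_rc_12_3 lc_e_rc_12_1 lc_e_Cert_tree lc_e_rc_30_0 lc_e_rc_45_13 lc_e_rc_31_2 lc_e_rc_25_1 lc_e_rc_25_1 lc_e_rc_46_32 lc_e_rc_19_1 lc_e_Cert_tree lc_e_rc_30_0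 lc_e_rc_34_2 lc_e_Cert_tree lc_e_rc_30_0 lc_e_rc_34_2) (@D3.rec (fun _ => (Cert rels S Gen.e)) lc_e_rc_32_2 lc_e_rc_34_2 lc_e_rc_31_2 lc_e_rc_31_2 lc_e_rc_34_2 lc_e_rc_32_2 lc_e_rc_34_2 lc_e_rc_25_3 lc_e_rc_31_2 lc_e_rc_30_0 lc_e_rc_34_2 lc_e_rc_25_3 lc_e_rc_31_2 lc_e_rc_34_2 lc_e_rc_31_2 lc_e_rc_32_2 lc_e_rc_31_2 lc_e_rc_30_0 lc_e_rc_34_2 lc_e_rc_34_2 lc_e_rc_31_2 lc_e_rc_30_0 lc_e_rc_34_2 lc_e_rc_25_3 lc_e_rc_30_1 lc_e_rc_34_2 lc_e_rc_31_2 lc_e_rc_34_2 lc_e_rc_31_2 lc_e_rc_30_0 lc_e_rc_34_2 lc_e_rc_12_1) (@D3.rec (fun _ => (Cert rels S Gen.e)) lc_e_rc_12_1 lc_e_rc_34_2 lc_e_rc_31_2 lc_e_Cert_tree lc_e_rc_31_2 lc_e_rc_25_3 lc_e_rc_19_1 lc_e_rc_19_1 lc_e_rc_31_2 lc_e_Cert_tree lc_e_rc_12_1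 lc_e_rc_31_2 lc_e_rc_25_3 lc_e_Cert_tree lc_e_rc_19_3 lc_e_rc_19_3 lc_e_rc_4_1 lc_e_rc_4_1 lc_e_rc_4_1 lc_e_rc_30_0 lc_e_rc_32_2 lc_e_rc_32_4 lc_e_rc_34_2 lc_e_rc_34_2 lc_e_rc_31_2 lc_e_rc_19_1 lc_e_rc_31_2 lc_e_Cert_tree lc_e_rc_30_0 lc_e_rc_31_2 lc_e_rc_4_1 lc_e_rc_4_1) (@D3.rec (fun _ => (Cert rels S Gen.e)) lc_e_rc_34_2 lc_e_rc_25_3 lc_e_rc_31_2 lc_e_rc_31_2 lc_e_rc_34_2 lc_e_rc_12_3 lc_e_rc_34_2 lc_e_rc_34_2 lc_e_rc_31_2 lc_e_rc_31_2 lc_e_rc_33_0 lc_e_rc_32_2 lc_e_rc_31_2 lc_e_rc_34_2 lc_e_rc_31_2 lc_e_rc_31_2 lc_e_Cert_tree lc_e_rc_31_2 lc_e_rc_34_2 lc_e_rc_31_2 lc_e_rc_12_1 lc_e_rc_31_2 lc_e_Cert_tree lc_e_rc_31_2 lc_e_rc_33_0 lc_e_rc_30_0 lc_e_rc_31_2 lc_e_rc_19_1 lc_e_Cert_tree lc_e_rc_30_0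 lc_e_rc_4_3 lc_e_Cert_tree) (@D3.rec (fun _ => (Cert rels S Gen.e)) lc_e_rc_30_0 lc_e_rc_25_3 lc_e_rc_31_2 lc_e_rc_33_2 lc_e_rc_19_3 lc_e_rc_30_1 lc_e_rc_30_0 lc_e_rc_31_2 lc_e_rc_32_2 lc_e_rc_32_2 lc_e_rc_45_58 lc_e_rc_25_1 lc_e_rc_30_0 lc_e_rc_34_2 lc_e_rc_34_2 lc_e_rc_31_2 lc_e_rc_4_3 lc_e_rc_31_2 lc_e_rc_31_2 lc_e_rc_12_1 lc_e_rc_12_1 lc_e_rc_34_2 lc_e_rc_31_2 lc_e_Cert_tree lc_e_rc_31_2 lc_e_rc_25_3 lc_e_rc_19_1 lc_e_rc_31_2 lc_e_Cert_tree lc_e_rc_12_1 lc_e_rc_30_0 lc_e_rc_31_2) (@D3.rec (fun _ => (Cert rels S Gen.e)) lc_e_rc_34_2 lc_e_rc_34_2 lc_e_rc_31_2 lc_e_rc_30_0 lc_e_rc_33_2 lc_e_rc_31_2 lc_e_rc_34_2 lc_e_rc_47_24 lc_e_rc_34_2 lc_e_rc_19_1 lc_e_rc_31_2 lc_e_rc_12_1 lc_e_rc_31_2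 lc_e_rc_31_2 lc_e_rc_25_3 lc_e_rc_25_3 lc_e_rc_19_3 lc_e_rc_30_0 lc_e_rc_34_2 lc_e_rc_34_2 lc_e_rc_31_2 lc_e_Cert_tree lc_e_rc_30_0 lc_e_rc_34_2 lc_e_rc_25_3 lc_e_rc_32_2 lc_e_rc_34_2 lc_e_rc_31_2 lc_e_rc_33_2 lc_e_rc_32_2 lc_e_rc_31_2 lc_e_rc_25_3) (@D3.rec (fun _ => (Cert rels S Gen.e)) lc_e_rc_33_0 lc_e_rc_31_2 lc_e_rc_30_0 lc_e_rc_34_2 lc_e_rc_12_1 lc_e_rc_12_1 lc_e_rc_34_2 lc_e_rc_31_2 lc_e_Cert_tree lc_e_rc_31_2 lc_e_rc_25_3 lc_e_rc_31_2 lc_e_rc_32_2 lc_e_rc_31_2 lc_e_Cert_tree lc_e_rc_33_2 lc_e_rc_32_2 lc_e_Cert_tree lc_e_rc_4_3 lc_e_rc_4_3 lc_e_rc_32_4 lc_e_rc_12_1 lc_e_rc_31_2 lc_e_Cert_tree lc_e_rc_34_2 lc_e_rc_31_2 lc_e_rc_25_3 lc_e_rc_4_1 lc_e_rc_34_2 lc_e_rc_31_2 lc_e_Cert_tree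 lc_e_rc_4_3) (@D3.rec (fun _ => (Cert rels S Gen.e)) lc_e_rc_4_3 lc_e_rc_12_1 lc_e_rc_12_1 lc_e_rc_31_2 lc_e_Cert_tree lc_e_rc_30_0 lc_e_rc_31_2 lc_e_rc_31_2 lc_e_rc_34_2 lc_e_rc_34_2 lc_e_rc_31_2 lc_e_rc_19_1 lc_e_rc_31_2 lc_e_Cert_tree lc_e_rc_30_0 lc_e_rc_31_2 lc_e_rc_31_2 lc_e_rc_31_2 lc_e_rc_30_0 lc_e_rc_31_2 lc_e_rc_31_2 lc_e_rc_34_2 lc_e_rc_19_3 lc_e_rc_31_2 lc_e_rc_32_2 lc_e_rc_12_1 lc_e_Cert_tree lc_e_rc_30_0 lc_e_rc_12_1 lc_e_rc_34_2 lc_e_rc_34_2 lc_e_rc_34_2) (@D3.rec (fun _ => (Cert rels S Gen.e)) lc_e_rc_31_2 lc_e_rc_34_2 lc_e_Cert_tree lc_e_rc_31_2 lc_e_rc_34_2 lc_e_Cert_tree lc_e_rc_30_0 lc_e_rc_34_2 lc_e_rc_34_2 lc_e_rc_31_2 lc_e_rc_31_2 lc_e_rc_19_1 lc_e_rc_34_2 lc_e_rc_31_2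 lc_e_rc_12_1 lc_e_rc_31_2 lc_e_rc_32_2 lc_e_rc_34_2 lc_e_rc_33_2 lc_e_rc_31_2 lc_e_rc_4_1 lc_e_rc_31_2 lc_e_rc_12_1 lc_e_rc_12_1 lc_e_rc_33_2 lc_e_rc_31_2 lc_e_Cert_tree lc_e_rc_19_1 lc_e_rc_4_3 lc_e_rc_31_2 lc_e_rc_33_2 lc_e_rc_19_1) (@D3.rec (fun _ => (Cert rels S Gen.e)) lc_e_rc_4_1 lc_e_rc_33_2 lc_e_rc_25_3 lc_e_rc_19_1 lc_e_rc_32_2 lc_e_rc_34_2 lc_e_rc_31_2 lc_e_rc_25_1 lc_e_rc_31_2 lc_e_rc_31_2 lc_e_rc_30_0 lc_e_rc_34_2 lc_e_rc_19_3 lc_e_rc_34_2 lc_e_rc_31_2 lc_e_rc_32_0 lc_e_rc_34_2 lc_e_rc_31_2 lc_e_rc_33_2 lc_e_rc_31_2 lc_e_rc_25_3 lc_e_Cert_tree lc_e_rc_19_3 lc_e_rc_19_3 lc_e_rc_4_1 lc_e_rc_4_1 lc_e_rc_31_2 lc_e_rc_30_0 lc_e_rc_12_1 lc_e_rc_12_1 lc_e_rc_34_2 lc_e_rc_19_3)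
def ce_e_12 : D2 → D3 → (Cert rels S Gen.e) := @D2.rec (fun _ => D3 → (Cert rels S Gen.e)) (@D3.rec (fun _ => (Cert rels S Gen.e)) lc_e_rc_31_2 lc_e_rc_19_1 lc_e_rc_31_2 lc_e_Cert_tree lc_e_rc_30_0 lc_e_rc_34_2 lc_e_rc_34_2 lc_e_rc_34_2 lc_e_rc_31_2 lc_e_rc_12_3 lc_e_Cert_tree lc_e_rc_31_2 lc_e_rc_19_1 lc_e_Cert_tree lc_e_rc_30_0 lc_e_rc_32_2 lc_e_rc_12_1 lc_e_rc_34_2 lc_e_rc_34_2 lc_e_rc_33_2 lc_e_rc_31_2 lc_e_rc_12_3 lc_e_Cert_tree lc_e_rc_31_2 lc_e_Cert_tree lc_e_rc_33_2 lc_e_rc_30_0 lc_e_rc_33_2 lc_e_rc_12_1 lc_e_rc_31_2 lc_e_rc_31_2 lc_e_rc_31_2) (@D3.rec (fun _ => (Cert rels S Gen.e)) lc_e_rc_25_3 lc_e_rc_12_3 lc_e_rc_32_2 lc_e_rc_30_0 lc_e_rc_12_3 lc_e_rc_19_3 lc_e_rc_30_0 lc_e_rc_4_1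 lc_e_rc_4_1 lc_e_rc_25_3 lc_e_rc_31_2 lc_e_Cert_tree lc_e_rc_31_0 lc_e_rc_30_0 lc_e_rc_4_3 lc_e_rc_4_1 lc_e_rc_31_0 lc_e_rc_25_3 lc_e_rc_32_2 lc_e_rc_31_2 lc_e_Cert_tree lc_e_rc_32_2 lc_e_rc_31_2 lc_e_rc_30_0 lc_e_rc_12_1 lc_e_rc_46_32 lc_e_rc_34_2 lc_e_rc_30_0 lc_e_rc_31_2 lc_e_rc_31_2 lc_e_rc_34_2 lc_e_rc_25_1) (@D3.rec (fun _ => (Cert rels S Gen.e)) lc_e_rc_34_2 lc_e_rc_19_3 lc_e_rc_31_2 lc_e_rc_4_1 lc_e_rc_30_0 lc_e_rc_31_2 lc_e_rc_19_1 lc_e_rc_31_2 lc_e_Cert_tree lc_e_rc_31_2 lc_e_rc_25_3 lc_e_rc_32_2 lc_e_rc_31_2 lc_e_rc_33_2 lc_e_rc_31_2 lc_e_rc_25_3 lc_e_rc_30_0 lc_e_rc_19_3 lc_e_rc_25_1 lc_e_rc_34_2 lc_e_rc_34_2 lc_e_rc_31_2 lc_e_rc_33_2 lc_e_rc_19_1 lc_e_rc_33_2 lc_e_rc_31_2 lc_e_rc_32_2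 lc_e_rc_47_31 lc_e_rc_32_2 lc_e_rc_30_0 lc_e_rc_32_2 lc_e_rc_30_0) (@D3.rec (fun _ => (Cert rels S Gen.e)) lc_e_rc_34_2 lc_e_rc_31_2 lc_e_rc_25_3 lc_e_rc_25_3 lc_e_Cert_tree lc_e_rc_19_1 lc_e_rc_31_2 lc_e_rc_31_2 lc_e_rc_33_2 lc_e_rc_31_2 lc_e_rc_34_2 lc_e_rc_4_1 lc_e_rc_31_0 lc_e_rc_30_0 lc_e_rc_19_3 lc_e_Cert_tree lc_e_rc_30_0 lc_e_rc_34_2 lc_e_rc_32_2 lc_e_rc_34_2 lc_e_rc_31_2 lc_e_rc_34_2 lc_e_rc_25_3 lc_e_rc_34_2 lc_e_rc_31_2 lc_e_rc_31_2 lc_e_rc_12_1 lc_e_rc_34_2 lc_e_rc_31_2 lc_e_Cert_tree lc_e_rc_31_2 lc_e_rc_25_3) (@D3.rec (fun _ => (Cert rels S Gen.e)) lc_e_rc_34_2 lc_e_rc_31_2 lc_e_Cert_tree lc_e_rc_31_2 lc_e_rc_4_1 lc_e_rc_30_0 lc_e_rc_31_2 lc_e_rc_31_2 lc_e_rc_34_2 lc_e_rc_34_2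 lc_e_rc_31_2 lc_e_rc_19_1 lc_e_rc_31_2 lc_e_Cert_tree lc_e_rc_30_0 lc_e_rc_31_2 lc_e_rc_4_3 lc_e_rc_19_1 lc_e_rc_34_2 lc_e_rc_33_2 lc_e_rc_31_2 lc_e_rc_31_2 lc_e_Cert_tree lc_e_rc_4_1 lc_e_rc_31_2 lc_e_Cert_tree lc_e_Cert_tree lc_e_rc_30_0 lc_e_rc_4_1 lc_e_rc_19_1 lc_e_rc_12_1 lc_e_Cert_tree) (@D3.rec (fun _ => (Cert rels S Gen.e)) lc_e_rc_30_0 lc_e_rc_46_53 lc_e_rc_30_0 lc_e_rc_19_1 lc_e_rc_25_3 lc_e_rc_30_0 lc_e_rc_32_2 lc_e_rc_25_3 lc_e_rc_4_3 lc_e_rc_34_2 lc_e_rc_31_2 lc_e_rc_19_3 lc_e_rc_25_1 lc_e_rc_31_2 lc_e_Cert_tree lc_e_rc_31_2 lc_e_rc_25_3 lc_e_rc_19_1 lc_e_rc_31_2 lc_e_Cert_tree lc_e_rc_31_2 lc_e_rc_25_3 lc_e_rc_30_0 lc_e_rc_31_2 lc_e_rc_31_2 lc_e_rc_34_2 lc_e_rc_34_2 lc_e_rc_31_2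 lc_e_rc_12_3 lc_e_rc_19_1 lc_e_Cert_tree lc_e_rc_30_0) (@D3.rec (fun _ => (Cert rels S Gen.e)) lc_e_rc_31_2 lc_e_Cert_tree lc_e_rc_19_1 lc_e_rc_34_2 lc_e_rc_33_2 lc_e_rc_34_2 lc_e_rc_31_2 lc_e_rc_34_2 lc_e_Cert_tree lc_e_rc_31_2 lc_e_Cert_tree lc_e_Cert_tree lc_e_rc_30_0 lc_e_rc_25_3 lc_e_Cert_tree lc_e_rc_30_0 lc_e_rc_12_1 lc_e_rc_31_2 lc_e_rc_34_2 lc_e_rc_4_3 lc_e_rc_30_0 lc_e_rc_19_1 lc_e_rc_30_0 lc_e_rc_19_3 lc_e_rc_25_3 lc_e_rc_25_1 lc_e_rc_30_0 lc_e_rc_12_1 lc_e_rc_4_1 lc_e_rc_4_1 lc_e_rc_4_1 lc_e_rc_33_2) (@D3.rec (fun _ => (Cert rels S Gen.e)) lc_e_rc_32_2 lc_e_rc_25_3 lc_e_rc_31_2 lc_e_rc_33_2 lc_e_rc_31_2 lc_e_Cert_tree lc_e_Cert_tree lc_e_Cert_tree lc_e_rc_30_0 lc_e_rc_12_3 lc_e_rc_12_3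 lc_e_rc_30_0 lc_e_Cert_tree lc_e_rc_30_0 lc_e_rc_4_1 lc_e_rc_4_1 lc_e_rc_32_2 lc_e_rc_34_2 lc_e_Cert_tree lc_e_rc_30_0 lc_e_rc_34_2 lc_e_rc_32_2 lc_e_rc_34_2 lc_e_rc_31_2 lc_e_rc_32_4 lc_e_rc_34_2 lc_e_rc_12_3 lc_e_rc_30_0 lc_e_rc_34_2 lc_e_rc_34_2 lc_e_rc_31_2 lc_e_rc_31_2) (@D3.rec (fun _ => (Cert rels S Gen.e)) lc_e_rc_30_0 lc_e_rc_34_2 lc_e_rc_25_3 lc_e_rc_31_2 lc_e_rc_34_2 lc_e_rc_31_2 lc_e_rc_32_2 lc_e_rc_31_2 lc_e_rc_31_0 lc_e_rc_30_0 lc_e_rc_34_2 lc_e_rc_34_2 lc_e_rc_31_2 lc_e_rc_33_2 lc_e_rc_34_2 lc_e_rc_34_2 lc_e_rc_31_2 lc_e_rc_31_2 lc_e_rc_30_0 lc_e_rc_34_2 lc_e_rc_25_3 lc_e_rc_12_1 lc_e_rc_34_2 lc_e_rc_31_2 lc_e_Cert_tree lc_e_rc_25_1 lc_e_rc_34_2 lc_e_rc_19_1 lc_e_rc_19_1 lc_e_rc_31_2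 lc_e_Cert_tree lc_e_rc_12_1) (@D3.rec (fun _ => (Cert rels S Gen.e)) lc_e_rc_31_2 lc_e_rc_4_1 lc_e_rc_25_3 lc_e_rc_30_0 lc_e_rc_25_3 lc_e_rc_19_3 lc_e_rc_19_3 lc_e_rc_34_2 lc_e_rc_4_1 lc_e_rc_19_1 lc_e_rc_33_2 lc_e_rc_34_2 lc_e_rc_19_1 lc_e_rc_31_2 lc_e_rc_34_2 lc_e_rc_31_2 lc_e_rc_31_2 lc_e_rc_34_2 lc_e_rc_34_2 lc_e_rc_31_2 lc_e_rc_31_2 lc_e_Cert_tree lc_e_rc_32_2 lc_e_rc_4_1 lc_e_rc_34_2 lc_e_rc_31_2 lc_e_rc_31_2 lc_e_rc_4_1 lc_e_rc_31_2 lc_e_rc_25_1 lc_e_rc_33_2 lc_e_rc_34_2) (@D3.rec (fun _ => (Cert rels S Gen.e)) lc_e_rc_31_2 lc_e_rc_12_1 lc_e_rc_31_2 lc_e_Cert_tree lc_e_rc_31_2 lc_e_rc_30_0 lc_e_rc_31_2 lc_e_Cert_tree lc_e_rc_19_1 lc_e_rc_30_0 lc_e_rc_12_1 lc_e_rc_32_2 lc_e_rc_45_22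 lc_e_Cert_tree lc_e_rc_30_0 lc_e_rc_25_1 lc_e_rc_33_2 lc_e_rc_31_2 lc_e_rc_45_49 lc_e_rc_30_0 lc_e_rc_25_3 lc_e_rc_19_1 lc_e_rc_25_3 lc_e_rc_19_1 lc_e_rc_25_1 lc_e_rc_31_2 lc_e_rc_25_1 lc_e_rc_32_2 lc_e_rc_4_1 lc_e_rc_25_3 lc_e_rc_34_2 lc_e_rc_25_3) (@D3.rec (fun _ => (Cert rels S Gen.e)) lc_e_rc_25_5 lc_e_rc_19_3 lc_e_Cert_tree lc_e_rc_30_0 lc_e_rc_34_2 lc_e_rc_25_3 lc_e_rc_32_2 lc_e_rc_34_2 lc_e_rc_31_2 lc_e_rc_33_2 lc_e_rc_32_2 lc_e_rc_31_2 lc_e_rc_4_3 lc_e_rc_31_2 lc_e_rc_12_3 lc_e_rc_4_3 lc_e_rc_34_2 lc_e_rc_31_2 lc_e_rc_31_2 lc_e_rc_12_3 lc_e_rc_12_1 lc_e_rc_12_1 lc_e_rc_34_2 lc_e_rc_31_2 lc_e_Cert_tree lc_e_rc_32_2 lc_e_rc_25_3 lc_e_rc_31_2 lc_e_rc_32_2 lc_e_rc_31_2 lc_e_Cert_tree lc_e_rc_33_2)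 (@D3.rec (fun _ => (Cert rels S Gen.e)) lc_e_rc_32_2 lc_e_rc_25_3 lc_e_rc_46_32 lc_e_rc_34_2 lc_e_rc_31_2 lc_e_rc_31_2 lc_e_rc_19_1 lc_e_rc_12_1 lc_e_rc_34_2 lc_e_rc_31_2 lc_e_rc_25_3 lc_e_rc_25_3 lc_e_rc_32_4 lc_e_rc_19_1 lc_e_rc_31_2 lc_e_Cert_tree lc_e_rc_34_2 lc_e_rc_31_2 lc_e_rc_33_2 lc_e_rc_25_3 lc_e_rc_4_1 lc_e_rc_34_2 lc_e_rc_31_2 lc_e_Cert_tree lc_e_rc_12_1 lc_e_rc_12_1 lc_e_rc_12_1 lc_e_rc_12_1 lc_e_rc_31_2 lc_e_Cert_tree lc_e_rc_30_0 lc_e_rc_25_3) (@D3.rec (fun _ => (Cert rels S Gen.e)) lc_e_rc_31_2 lc_e_rc_34_2 lc_e_rc_34_2 lc_e_rc_31_2 lc_e_rc_19_1 lc_e_rc_31_2 lc_e_Cert_tree lc_e_rc_30_0 lc_e_rc_31_2 lc_e_rc_32_4 lc_e_rc_19_1 lc_e_rc_31_2 lc_e_rc_34_2 lc_e_rc_19_3 lc_e_rc_32_2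 lc_e_rc_31_2 lc_e_rc_31_0 lc_e_Cert_tree lc_e_rc_31_0 lc_e_rc_34_2 lc_e_rc_25_3 lc_e_rc_19_3 lc_e_rc_31_2 lc_e_rc_34_2 lc_e_Cert_tree lc_e_rc_31_2 lc_e_rc_12_3 lc_e_Cert_tree lc_e_rc_30_0 lc_e_rc_45_49 lc_e_rc_12_1 lc_e_rc_31_2) (@D3.rec (fun _ => (Cert rels S Gen.e)) lc_e_rc_34_2 lc_e_rc_31_2 lc_e_rc_12_1 lc_e_rc_31_2 lc_e_rc_32_2 lc_e_rc_25_3 lc_e_rc_33_2 lc_e_rc_25_3 lc_e_rc_33_0 lc_e_rc_25_3 lc_e_rc_31_2 lc_e_rc_31_2 lc_e_rc_25_3 lc_e_rc_31_2 lc_e_Cert_tree lc_e_rc_19_1 lc_e_rc_4_1 lc_e_rc_31_2 lc_e_rc_12_1 lc_e_rc_12_1 lc_e_rc_25_3 lc_e_rc_31_2 lc_e_Cert_tree lc_e_rc_33_0 lc_e_rc_32_4 lc_e_rc_12_1 lc_e_rc_31_0 lc_e_rc_30_0 lc_e_rc_4_1 lc_e_rc_47_17 lc_e_rc_4_1 lc_e_rc_19_1) (@D3.rec (fun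 _ => (Cert rels S Gen.e)) lc_e_rc_33_0 lc_e_rc_32_2 lc_e_rc_25_1 lc_e_rc_25_1 lc_e_rc_30_0 lc_e_rc_4_1 lc_e_rc_25_3 lc_e_rc_25_3 lc_e_rc_30_0 lc_e_rc_4_1 lc_e_rc_31_2 lc_e_rc_30_0 lc_e_rc_30_1 lc_e_rc_32_2 lc_e_rc_46_32 lc_e_rc_32_2 lc_e_rc_31_2 lc_e_rc_30_0 lc_e_rc_34_2 lc_e_rc_34_2 lc_e_rc_31_2 lc_e_rc_31_2 lc_e_rc_33_2 lc_e_rc_31_2 lc_e_rc_25_3 lc_e_rc_25_3 lc_e_rc_19_3 lc_e_rc_31_2 lc_e_rc_19_1 lc_e_rc_31_2 lc_e_rc_34_2 lc_e_rc_31_2) (@D3.rec (fun _ => (Cert rels S Gen.e)) lc_e_rc_34_2 lc_e_rc_31_2 lc_e_Cert_tree lc_e_rc_4_1 lc_e_rc_31_2 lc_e_rc_4_1 lc_e_rc_31_2 lc_e_rc_25_3 lc_e_rc_30_0 lc_e_rc_30_0 lc_e_Cert_tree lc_e_rc_30_0 lc_e_rc_25_1 lc_e_rc_25_1 lc_e_rc_4_1 lc_e_rc_31_2 lc_e_rc_30_0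 lc_e_rc_34_2 lc_e_rc_34_2 lc_e_rc_31_2 lc_e_Cert_tree lc_e_rc_30_0 lc_e_rc_34_2 lc_e_rc_25_3 lc_e_rc_32_2 lc_e_rc_34_2 lc_e_rc_31_2 lc_e_rc_32_2 lc_e_rc_31_2 lc_e_rc_34_2 lc_e_rc_31_2 lc_e_rc_12_1) (@D3.rec (fun _ => (Cert rels S Gen.e)) lc_e_rc_31_2 lc_e_rc_34_2 lc_e_rc_4_3 lc_e_rc_34_2 lc_e_rc_31_2 lc_e_Cert_tree lc_e_rc_31_2 lc_e_rc_25_3 lc_e_rc_32_2 lc_e_rc_31_2 lc_e_Cert_tree lc_e_rc_32_2 lc_e_rc_25_3 lc_e_rc_34_2 lc_e_rc_31_2 lc_e_rc_31_2 lc_e_rc_25_3 lc_e_rc_34_2 lc_e_rc_31_2 lc_e_rc_32_4 lc_e_rc_31_2 lc_e_rc_34_2 lc_e_rc_34_2 lc_e_rc_31_2 lc_e_Cert_tree lc_e_rc_31_2 lc_e_rc_25_3 lc_e_rc_34_2 lc_e_rc_31_2 lc_e_Cert_tree lc_e_rc_12_1 lc_e_rc_12_1) (@D3.rec (fun _ => (Cert rels S Gen.e))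 lc_e_rc_12_1 lc_e_rc_31_2 lc_e_Cert_tree lc_e_rc_30_0 lc_e_rc_4_1 lc_e_rc_4_1 lc_e_rc_34_2 lc_e_rc_34_2 lc_e_rc_31_2 lc_e_rc_19_1 lc_e_rc_31_2 lc_e_Cert_tree lc_e_rc_30_0 lc_e_rc_31_2 lc_e_rc_19_3 lc_e_rc_31_2 lc_e_rc_30_0 lc_e_rc_31_2 lc_e_rc_31_2 lc_e_rc_34_2 lc_e_rc_19_3 lc_e_rc_31_2 lc_e_rc_4_1 lc_e_rc_34_2 lc_e_rc_34_2 lc_e_rc_34_2 lc_e_rc_31_2 lc_e_rc_34_2 lc_e_Cert_tree lc_e_rc_31_2 lc_e_rc_12_1 lc_e_Cert_tree) (@D3.rec (fun _ => (Cert rels S Gen.e)) lc_e_rc_30_0 lc_e_rc_4_1 lc_e_rc_30_0 lc_e_rc_30_1 lc_e_rc_31_2 lc_e_rc_31_2 lc_e_rc_12_1 lc_e_rc_19_3 lc_e_rc_31_2 lc_e_Cert_tree lc_e_rc_19_1 lc_e_rc_30_0 lc_e_rc_31_2 lc_e_rc_4_3 lc_e_rc_12_1 lc_e_rc_12_1 lc_e_Cert_tree lc_e_rc_30_0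 lc_e_rc_4_1 lc_e_Cert_tree lc_e_rc_30_0 lc_e_rc_45_67 lc_e_rc_30_0 lc_e_rc_34_2 lc_e_rc_4_1 lc_e_rc_34_2 lc_e_rc_34_2 lc_e_rc_31_2 lc_e_rc_31_2 lc_e_rc_31_2 lc_e_Cert_tree lc_e_Cert_tree) (@D3.rec (fun _ => (Cert rels S Gen.e)) lc_e_rc_32_4 lc_e_rc_12_1 lc_e_rc_12_1 lc_e_rc_12_1 lc_e_rc_31_2 lc_e_Cert_tree lc_e_rc_30_0 lc_e_rc_31_2 lc_e_rc_34_2 lc_e_rc_34_2 lc_e_rc_31_2 lc_e_rc_19_1 lc_e_Cert_tree lc_e_rc_30_0 lc_e_rc_31_2 lc_e_rc_34_2 lc_e_rc_12_3 lc_e_rc_31_2 lc_e_rc_34_2 lc_e_rc_34_2 lc_e_rc_31_2 lc_e_rc_25_3 lc_e_rc_25_3 lc_e_rc_25_1 lc_e_rc_25_3 lc_e_rc_34_2 lc_e_rc_31_2 lc_e_rc_31_2 lc_e_rc_30_0 lc_e_rc_34_2 lc_e_rc_12_1 lc_e_rc_4_3) (@D3.rec (fun _ => (Cert rels S Gen.e)) lc_e_rc_34_2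 lc_e_rc_31_2 lc_e_Cert_tree lc_e_rc_31_2 lc_e_rc_25_3 lc_e_rc_33_2 lc_e_rc_32_2 lc_e_rc_31_2 lc_e_Cert_tree lc_e_rc_33_2 lc_e_rc_31_2 lc_e_rc_25_3 lc_e_rc_25_1 lc_e_rc_31_2 lc_e_Cert_tree lc_e_rc_4_1 lc_e_rc_34_2 lc_e_rc_31_2 lc_e_Cert_tree lc_e_rc_12_1 lc_e_rc_12_1 lc_e_rc_12_1 lc_e_rc_31_2 lc_e_Cert_tree lc_e_rc_30_0 lc_e_rc_31_2 lc_e_rc_25_1 lc_e_rc_34_2 lc_e_rc_34_2 lc_e_rc_31_2 lc_e_rc_33_2 lc_e_rc_32_2)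
def ce_e_13 : D2 → D3 → (Cert rels S Gen.e) := @D2.rec (fun _ => D3 → (Cert rels S Gen.e)) (@D3.rec (fun _ => (Cert rels S Gen.e)) lc_e_Cert_tree lc_e_rc_30_0 lc_e_rc_33_2 lc_e_rc_30_0 lc_e_rc_31_2 lc_e_rc_31_2 lc_e_rc_34_2 lc_e_rc_4_3 lc_e_rc_31_2 lc_e_rc_34_2 lc_e_rc_31_2 lc_e_Cert_tree lc_e_rc_30_0 lc_e_rc_31_2 lc_e_Cert_tree lc_e_rc_31_2 lc_e_rc_34_2 lc_e_rc_4_1 lc_e_rc_31_2 lc_e_Cert_tree lc_e_rc_30_0 lc_e_rc_12_1 lc_e_rc_12_1 lc_e_rc_34_2 lc_e_rc_4_3 lc_e_rc_31_2 lc_e_rc_12_1 lc_e_rc_12_1 lc_e_Cert_tree lc_e_rc_30_0 lc_e_rc_34_2 lc_e_rc_34_2) (@D3.rec (fun _ => (Cert rels S Gen.e)) lc_e_rc_34_2 lc_e_rc_31_2 lc_e_rc_34_2 lc_e_Cert_tree lc_e_rc_31_2 lc_e_Cert_tree lc_e_Cert_tree lc_e_rc_30_0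 lc_e_rc_32_2 lc_e_rc_31_2 lc_e_rc_30_1 lc_e_rc_34_2 lc_e_rc_34_2 lc_e_rc_33_2 lc_e_rc_31_2 lc_e_rc_31_2 lc_e_Cert_tree lc_e_rc_12_1 lc_e_Cert_tree lc_e_rc_30_0 lc_e_rc_31_2 lc_e_rc_31_2 lc_e_rc_31_2 lc_e_rc_25_3 lc_e_Cert_tree lc_e_Cert_tree lc_e_rc_30_0 lc_e_rc_19_3 lc_e_rc_34_2 lc_e_rc_25_3 lc_e_rc_30_0 lc_e_rc_45_22) (@D3.rec (fun _ => (Cert rels S Gen.e)) lc_e_rc_31_2 lc_e_rc_12_1 lc_e_rc_34_2 lc_e_Cert_tree lc_e_rc_4_1 lc_e_rc_33_2 lc_e_rc_12_1 lc_e_Cert_tree lc_e_rc_19_1 lc_e_rc_30_0 lc_e_rc_45_67 lc_e_rc_33_2 lc_e_rc_19_1 lc_e_rc_25_3 lc_e_rc_32_2 lc_e_rc_31_2 lc_e_rc_25_3 lc_e_rc_25_3 lc_e_rc_19_1 lc_e_rc_34_2 lc_e_rc_31_2 lc_e_rc_32_0 lc_e_rc_32_2 lc_e_rc_31_2 lc_e_rc_34_2 lc_e_rc_12_1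 lc_e_rc_25_3 lc_e_rc_31_2 lc_e_Cert_tree lc_e_rc_12_3 lc_e_rc_30_0 lc_e_rc_31_2) (@D3.rec (fun _ => (Cert rels S Gen.e)) lc_e_rc_31_2 lc_e_rc_34_2 lc_e_rc_19_3 lc_e_rc_31_2 lc_e_rc_4_1 lc_e_rc_4_1 lc_e_rc_12_3 lc_e_rc_34_2 lc_e_rc_12_1 lc_e_rc_12_1 lc_e_rc_31_2 lc_e_rc_31_2 lc_e_Cert_tree lc_e_rc_31_2 lc_e_rc_19_3 lc_e_Cert_tree lc_e_rc_30_0 lc_e_rc_32_2 lc_e_rc_31_2 lc_e_rc_31_2 lc_e_rc_31_2 lc_e_rc_19_1 lc_e_Cert_tree lc_e_Cert_tree lc_e_rc_30_0 lc_e_rc_19_1 lc_e_Cert_tree lc_e_rc_30_0 lc_e_rc_19_1 lc_e_rc_31_2 lc_e_rc_31_2 lc_e_rc_33_2) (@D3.rec (fun _ => (Cert rels S Gen.e)) lc_e_Cert_tree lc_e_rc_4_3 lc_e_rc_33_2 lc_e_rc_30_0 lc_e_rc_32_2 lc_e_rc_33_2 lc_e_rc_30_0 lc_e_rc_33_2 lc_e_rc_4_1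 lc_e_rc_31_2 lc_e_rc_31_2 lc_e_rc_4_1 lc_e_rc_45_67 lc_e_rc_31_0 lc_e_rc_12_1 lc_e_rc_30_0 lc_e_rc_4_3 lc_e_rc_31_2 lc_e_rc_31_0 lc_e_rc_30_0 lc_e_rc_19_3 lc_e_rc_30_0 lc_e_rc_33_2 lc_e_rc_33_2 lc_e_rc_33_2 lc_e_rc_33_2 lc_e_rc_25_3 lc_e_rc_33_2 lc_e_rc_30_0 lc_e_rc_31_2 lc_e_rc_34_2 lc_e_rc_34_2) (@D3.rec (fun _ => (Cert rels S Gen.e)) lc_e_rc_31_2 lc_e_rc_31_2 lc_e_rc_45_40 lc_e_Cert_tree lc_e_rc_31_2 lc_e_rc_34_2 lc_e_rc_19_3 lc_e_rc_25_1 lc_e_rc_31_2 lc_e_rc_34_2 lc_e_rc_32_2 lc_e_rc_25_3 lc_e_rc_19_1 lc_e_rc_12_3 lc_e_rc_30_0 lc_e_rc_19_3 lc_e_rc_33_2 lc_e_rc_30_0 lc_e_rc_34_2 lc_e_rc_25_3 lc_e_rc_25_1 lc_e_rc_34_2 lc_e_rc_31_2 lc_e_rc_34_2 lc_e_rc_31_2 lc_e_rc_31_2 lc_e_rc_32_2 lc_e_rc_25_3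 lc_e_rc_31_2 lc_e_Cert_tree lc_e_rc_4_1 lc_e_rc_12_1) (@D3.rec (fun _ => (Cert rels S Gen.e)) lc_e_rc_12_1 lc_e_rc_31_2 lc_e_Cert_tree lc_e_rc_30_0 lc_e_rc_4_1 lc_e_rc_34_2 lc_e_rc_34_2 lc_e_rc_31_2 lc_e_rc_31_2 lc_e_Cert_tree lc_e_rc_30_0 lc_e_rc_12_1 lc_e_rc_19_1 lc_e_rc_34_2 lc_e_rc_33_2 lc_e_rc_34_2 lc_e_rc_31_2 lc_e_rc_34_2 lc_e_Cert_tree lc_e_rc_31_2 lc_e_rc_46_11 lc_e_Cert_tree lc_e_rc_30_0 lc_e_rc_30_1 lc_e_rc_12_1 lc_e_Cert_tree lc_e_rc_30_0 lc_e_rc_19_1 lc_e_Cert_tree lc_e_Cert_tree lc_e_rc_30_0 lc_e_rc_25_3) (@D3.rec (fun _ => (Cert rels S Gen.e)) lc_e_rc_30_0 lc_e_rc_4_1 lc_e_rc_12_1 lc_e_rc_4_1 lc_e_rc_30_0 lc_e_rc_31_0 lc_e_rc_31_2 lc_e_rc_25_3 lc_e_rc_4_3 lc_e_rc_34_2 lc_e_rc_31_2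 lc_e_Cert_tree lc_e_rc_33_2 lc_e_rc_31_2 lc_e_rc_25_3 lc_e_rc_30_0 lc_e_rc_25_1 lc_e_rc_34_2 lc_e_rc_34_2 lc_e_rc_31_2 lc_e_rc_31_2 lc_e_Cert_tree lc_e_rc_30_0 lc_e_rc_25_3 lc_e_rc_19_1 lc_e_rc_34_2 lc_e_rc_33_2 lc_e_rc_34_2 lc_e_rc_31_2 lc_e_rc_34_2 lc_e_Cert_tree lc_e_rc_31_2) (@D3.rec (fun _ => (Cert rels S Gen.e)) lc_e_Cert_tree lc_e_Cert_tree lc_e_rc_30_0 lc_e_rc_32_2 lc_e_rc_25_3 lc_e_Cert_tree lc_e_rc_30_0 lc_e_rc_12_1 lc_e_rc_31_2 lc_e_rc_33_2 lc_e_rc_31_2 lc_e_Cert_tree lc_e_Cert_tree lc_e_Cert_tree lc_e_rc_30_0 lc_e_rc_47_10 lc_e_Cert_tree lc_e_rc_30_0 lc_e_Cert_tree lc_e_rc_30_0 lc_e_rc_33_2 lc_e_rc_4_1 lc_e_rc_30_0 lc_e_rc_4_1 lc_e_rc_30_0 lc_e_rc_32_2 lc_e_rc_4_1 lc_e_rc_4_1 lc_e_rc_33_2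 lc_e_Cert_tree lc_e_rc_19_1 lc_e_rc_32_2) (@D3.rec (fun _ => (Cert rels S Gen.e)) lc_e_rc_19_1 lc_e_Cert_tree lc_e_rc_25_1 lc_e_rc_30_0 lc_e_Cert_tree lc_e_rc_30_0 lc_e_Cert_tree lc_e_rc_30_0 lc_e_rc_4_3 lc_e_Cert_tree lc_e_rc_30_0 lc_e_rc_25_3 lc_e_rc_30_0 lc_e_rc_34_2 lc_e_rc_25_3 lc_e_rc_32_2 lc_e_rc_34_2 lc_e_rc_31_2 lc_e_rc_32_2 lc_e_rc_31_2 lc_e_rc_34_2 lc_e_rc_31_2 lc_e_rc_34_2 lc_e_rc_32_0 lc_e_rc_34_2 lc_e_rc_31_2 lc_e_rc_31_2 lc_e_rc_34_2 lc_e_rc_4_1 lc_e_rc_34_2 lc_e_rc_31_2 lc_e_rc_12_1) (@D3.rec (fun _ => (Cert rels S Gen.e)) lc_e_rc_32_2 lc_e_rc_25_3 lc_e_rc_32_2 lc_e_rc_31_2 lc_e_Cert_tree lc_e_rc_32_2 lc_e_rc_4_1 lc_e_rc_34_2 lc_e_rc_34_2 lc_e_rc_31_2 lc_e_rc_31_2 lc_e_rc_4_1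 lc_e_rc_31_2 lc_e_rc_31_2 lc_e_Cert_tree lc_e_rc_33_2 lc_e_rc_31_2 lc_e_rc_34_2 lc_e_rc_31_2 lc_e_rc_4_1 lc_e_rc_25_1 lc_e_rc_25_3 lc_e_rc_12_1 lc_e_rc_31_2 lc_e_Cert_tree lc_e_rc_30_0 lc_e_rc_25_3 lc_e_rc_46_32 lc_e_rc_25_3 lc_e_rc_25_1 lc_e_rc_4_1 lc_e_rc_19_1) (@D3.rec (fun _ => (Cert rels S Gen.e)) lc_e_rc_31_2 lc_e_Cert_tree lc_e_rc_30_0 lc_e_rc_31_2 lc_e_rc_32_4 lc_e_rc_19_1 lc_e_rc_31_0 lc_e_rc_34_2 lc_e_rc_32_4 lc_e_rc_31_2 lc_e_rc_19_3 lc_e_rc_33_2 lc_e_rc_33_2 lc_e_rc_12_3 lc_e_rc_12_1 lc_e_rc_31_2 lc_e_rc_25_1 lc_e_rc_33_2 lc_e_rc_31_2 lc_e_rc_31_2 lc_e_Cert_tree lc_e_rc_30_0 lc_e_rc_25_3 lc_e_rc_19_1 lc_e_rc_31_2 lc_e_rc_25_3 lc_e_rc_30_0 lc_e_rc_32_2 lc_e_rc_31_2 lc_e_rc_4_3 lc_e_rc_12_1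 lc_e_Cert_tree) (@D3.rec (fun _ => (Cert rels S Gen.e)) lc_e_rc_30_0 lc_e_rc_30_0 lc_e_rc_12_1 lc_e_rc_4_1 lc_e_rc_12_3 lc_e_rc_45_22 lc_e_rc_30_0 lc_e_rc_4_1 lc_e_rc_4_1 lc_e_rc_25_3 lc_e_rc_31_2 lc_e_rc_19_1 lc_e_rc_31_2 lc_e_rc_30_0 lc_e_rc_34_2 lc_e_rc_12_1 lc_e_rc_34_2 lc_e_rc_31_2 lc_e_rc_32_4 lc_e_rc_25_3 lc_e_rc_33_2 lc_e_rc_32_2 lc_e_rc_31_2 lc_e_Cert_tree lc_e_rc_33_2 lc_e_rc_31_2 lc_e_rc_25_3 lc_e_rc_31_2 lc_e_rc_31_2 lc_e_rc_34_2 lc_e_rc_31_2 lc_e_Cert_tree) (@D3.rec (fun _ => (Cert rels S Gen.e)) lc_e_rc_34_2 lc_e_rc_31_2 lc_e_rc_31_2 lc_e_rc_32_2 lc_e_rc_12_1 lc_e_rc_12_1 lc_e_rc_31_2 lc_e_Cert_tree lc_e_rc_30_0 lc_e_rc_12_3 lc_e_rc_12_1 lc_e_rc_34_2 lc_e_rc_34_2 lc_e_rc_31_2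 lc_e_rc_33_2 lc_e_rc_32_2 lc_e_Cert_tree lc_e_rc_30_0 lc_e_rc_33_2 lc_e_rc_25_3 lc_e_rc_19_1 lc_e_rc_25_3 lc_e_rc_31_2 lc_e_Cert_tree lc_e_rc_25_3 lc_e_rc_31_2 lc_e_rc_25_3 lc_e_rc_31_2 lc_e_Cert_tree lc_e_rc_32_2 lc_e_rc_25_3 lc_e_rc_31_2) (@D3.rec (fun _ => (Cert rels S Gen.e)) lc_e_rc_34_2 lc_e_rc_31_2 lc_e_Cert_tree lc_e_rc_30_0 lc_e_rc_31_2 lc_e_Cert_tree lc_e_rc_19_1 lc_e_rc_4_3 lc_e_rc_32_2 lc_e_rc_25_3 lc_e_rc_4_1 lc_e_rc_31_2 lc_e_Cert_tree lc_e_rc_30_0 lc_e_rc_25_3 lc_e_rc_4_1 lc_e_rc_34_2 lc_e_rc_12_1 lc_e_rc_12_1 lc_e_rc_12_1 lc_e_rc_12_1 lc_e_Cert_tree lc_e_rc_30_0 lc_e_rc_34_2 lc_e_rc_25_3 lc_e_rc_34_2 lc_e_rc_31_2 lc_e_rc_34_2 lc_e_Cert_tree lc_e_rc_31_2 lc_e_Cert_tree lc_e_Cert_tree)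 (@D3.rec (fun _ => (Cert rels S Gen.e)) lc_e_rc_30_0 lc_e_rc_32_2 lc_e_rc_12_3 lc_e_rc_12_1 lc_e_rc_32_2 lc_e_rc_19_3 lc_e_rc_25_3 lc_e_Cert_tree lc_e_rc_4_1 lc_e_Cert_tree lc_e_rc_30_0 lc_e_rc_4_1 lc_e_rc_31_2 lc_e_rc_31_2 lc_e_rc_31_2 lc_e_rc_47_45 lc_e_Cert_tree lc_e_Cert_tree lc_e_rc_30_0 lc_e_rc_46_32 lc_e_rc_12_3 lc_e_Cert_tree lc_e_rc_30_0 lc_e_rc_4_1 lc_e_rc_4_1 lc_e_rc_30_0 lc_e_rc_12_1 lc_e_rc_25_3 lc_e_rc_34_2 lc_e_rc_4_3 lc_e_rc_25_3 lc_e_rc_25_1) (@D3.rec (fun _ => (Cert rels S Gen.e)) lc_e_rc_25_1 lc_e_rc_30_0 lc_e_rc_4_1 lc_e_rc_4_1 lc_e_rc_25_3 lc_e_rc_12_1 lc_e_Cert_tree lc_e_rc_34_0 lc_e_rc_25_3 lc_e_rc_4_1 lc_e_rc_30_0 lc_e_rc_12_1 lc_e_rc_4_1 lc_e_rc_4_1 lc_e_rc_4_1 lc_e_rc_12_1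 lc_e_rc_32_2 lc_e_rc_25_3 lc_e_rc_34_2 lc_e_rc_31_2 lc_e_rc_31_2 lc_e_rc_31_2 lc_e_Cert_tree lc_e_rc_19_1 lc_e_rc_31_2 lc_e_Cert_tree lc_e_rc_31_2 lc_e_Cert_tree lc_e_rc_31_2 lc_e_Cert_tree lc_e_rc_4_1 lc_e_Cert_tree) (@D3.rec (fun _ => (Cert rels S Gen.e)) lc_e_rc_30_0 lc_e_rc_12_1 lc_e_rc_25_1 lc_e_rc_33_0 lc_e_rc_4_1 lc_e_rc_34_0 lc_e_rc_30_0 lc_e_rc_4_1 lc_e_rc_31_2 lc_e_rc_34_2 lc_e_rc_34_2 lc_e_rc_31_2 lc_e_rc_31_2 lc_e_rc_30_0 lc_e_rc_34_2 lc_e_rc_32_2 lc_e_rc_34_2 lc_e_rc_31_2 lc_e_rc_31_2 lc_e_rc_25_3 lc_e_rc_32_2 lc_e_rc_31_2 lc_e_Cert_tree lc_e_rc_31_2 lc_e_rc_25_3 lc_e_rc_31_2 lc_e_rc_19_1 lc_e_Cert_tree lc_e_rc_31_2 lc_e_rc_4_3 lc_e_rc_31_2 lc_e_Cert_tree) (@D3.rec (fun _ => (Cert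 rels S Gen.e)) lc_e_rc_30_0 lc_e_rc_25_1 lc_e_rc_34_2 lc_e_rc_34_2 lc_e_rc_31_2 lc_e_rc_32_2 lc_e_Cert_tree lc_e_rc_30_0 lc_e_rc_25_3 lc_e_rc_31_2 lc_e_Cert_tree lc_e_rc_25_3 lc_e_rc_34_2 lc_e_rc_31_2 lc_e_Cert_tree lc_e_rc_34_2 lc_e_rc_34_2 lc_e_rc_31_2 lc_e_rc_31_2 lc_e_Cert_tree lc_e_rc_30_0 lc_e_rc_32_2 lc_e_rc_34_2 lc_e_rc_31_2 lc_e_Cert_tree lc_e_rc_30_0 lc_e_rc_12_1 lc_e_rc_34_2 lc_e_rc_12_1 lc_e_rc_12_1 lc_e_rc_12_1 lc_e_Cert_tree) (@D3.rec (fun _ => (Cert rels S Gen.e)) lc_e_Cert_tree lc_e_rc_30_0 lc_e_rc_34_2 lc_e_rc_4_1 lc_e_rc_4_1 lc_e_rc_31_2 lc_e_rc_34_2 lc_e_Cert_tree lc_e_rc_31_2 lc_e_Cert_tree lc_e_Cert_tree lc_e_rc_30_0 lc_e_rc_32_2 lc_e_rc_30_1 lc_e_rc_34_2 lc_e_rc_34_2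 lc_e_rc_33_2 lc_e_rc_31_2 lc_e_rc_31_2 lc_e_rc_31_2 lc_e_rc_31_2 lc_e_rc_31_2 lc_e_rc_31_2 lc_e_Cert_tree lc_e_Cert_tree lc_e_rc_30_0 lc_e_rc_4_1 lc_e_rc_4_1 lc_e_rc_30_0 lc_e_rc_4_3 lc_e_rc_12_1 lc_e_rc_12_1) (@D3.rec (fun _ => (Cert rels S Gen.e)) lc_e_rc_4_3 lc_e_Cert_tree lc_e_rc_30_0 lc_e_rc_34_2 lc_e_rc_45_31 lc_e_rc_12_1 lc_e_rc_12_1 lc_e_rc_30_0 lc_e_rc_30_0 lc_e_rc_25_3 lc_e_rc_31_2 lc_e_rc_31_2 lc_e_Cert_tree lc_e_rc_25_3 lc_e_Cert_tree lc_e_rc_30_0 lc_e_rc_30_0 lc_e_rc_32_4 lc_e_rc_12_1 lc_e_rc_12_1 lc_e_rc_31_2 lc_e_Cert_tree lc_e_rc_30_0 lc_e_rc_34_2 lc_e_rc_34_2 lc_e_rc_31_2 lc_e_rc_34_2 lc_e_Cert_tree lc_e_Cert_tree lc_e_rc_30_0 lc_e_rc_32_2 lc_e_rc_31_2) (@D3.rec (fun _ =>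 (Cert rels S Gen.e)) lc_e_rc_31_2 lc_e_rc_25_3 lc_e_rc_34_0 lc_e_rc_31_2 lc_e_rc_31_2 lc_e_Cert_tree lc_e_rc_33_2 lc_e_rc_4_1 lc_e_rc_34_2 lc_e_rc_31_2 lc_e_rc_32_4 lc_e_rc_12_1 lc_e_rc_12_1 lc_e_rc_32_2 lc_e_rc_31_2 lc_e_Cert_tree lc_e_rc_30_0 lc_e_rc_31_2 lc_e_rc_34_2 lc_e_rc_34_2 lc_e_rc_31_2 lc_e_rc_33_2 lc_e_rc_31_2 lc_e_Cert_tree lc_e_rc_30_0 lc_e_rc_31_2 lc_e_Cert_tree lc_e_rc_25_5 lc_e_rc_34_2 lc_e_rc_30_0 lc_e_rc_32_2 lc_e_rc_4_1)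
def ce_e_14 : D2 → D3 → (Cert rels S Gen.e) := @D2.rec (fun _ => D3 → (Cert rels S Gen.e)) (@D3.rec (fun _ => (Cert rels S Gen.e)) lc_e_rc_31_2 lc_e_Cert_tree lc_e_rc_30_0 lc_e_rc_25_1 lc_e_rc_34_2 lc_e_rc_12_1 lc_e_rc_12_1 lc_e_rc_12_1 lc_e_Cert_tree lc_e_rc_30_0 lc_e_rc_34_2 lc_e_rc_34_2 lc_e_rc_25_1 lc_e_rc_31_2 lc_e_rc_34_2 lc_e_Cert_tree lc_e_rc_33_2 lc_e_Cert_tree lc_e_rc_30_0 lc_e_rc_32_2 lc_e_rc_34_2 lc_e_rc_34_2 lc_e_rc_33_2 lc_e_rc_31_2 lc_e_rc_31_2 lc_e_Cert_tree lc_e_rc_31_2 lc_e_Cert_tree lc_e_rc_30_0 lc_e_rc_32_2 lc_e_rc_30_0 lc_e_rc_31_2) (@D3.rec (fun _ => (Cert rels S Gen.e)) lc_e_rc_34_2 lc_e_rc_34_2 lc_e_rc_31_2 lc_e_rc_4_1 lc_e_Cert_tree lc_e_rc_30_0 lc_e_rc_34_2 lc_e_rc_12_1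 lc_e_rc_12_1 lc_e_rc_31_2 lc_e_rc_31_2 lc_e_Cert_tree lc_e_rc_12_1 lc_e_Cert_tree lc_e_Cert_tree lc_e_rc_30_0 lc_e_rc_12_1 lc_e_rc_31_2 lc_e_rc_31_2 lc_e_rc_31_2 lc_e_Cert_tree lc_e_Cert_tree lc_e_Cert_tree lc_e_rc_30_0 lc_e_Cert_tree lc_e_Cert_tree lc_e_rc_30_0 lc_e_Cert_tree lc_e_rc_30_0 lc_e_rc_32_2 lc_e_rc_33_2 lc_e_rc_31_2) (@D3.rec (fun _ => (Cert rels S Gen.e)) lc_e_rc_31_2 lc_e_rc_33_2 lc_e_Cert_tree lc_e_Cert_tree lc_e_rc_30_0 lc_e_rc_32_2 lc_e_rc_30_0 lc_e_rc_12_1 lc_e_rc_31_2 lc_e_rc_31_2 lc_e_rc_32_2 lc_e_rc_30_0 lc_e_rc_31_2 lc_e_rc_30_0 lc_e_rc_30_0 lc_e_rc_34_2 lc_e_Cert_tree lc_e_rc_19_1 lc_e_rc_30_0 lc_e_rc_4_3 lc_e_rc_19_1 lc_e_rc_45_22 lc_e_rc_30_0 lc_e_rc_45_67 lc_e_rc_32_2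 lc_e_rc_25_3 lc_e_rc_4_3 lc_e_rc_33_0 lc_e_rc_31_2 lc_e_rc_33_2 lc_e_rc_25_3 lc_e_rc_47_24) (@D3.rec (fun _ => (Cert rels S Gen.e)) lc_e_rc_19_1 lc_e_rc_4_3 lc_e_rc_45_40 lc_e_rc_30_0 lc_e_rc_19_3 lc_e_rc_34_2 lc_e_rc_34_2 lc_e_rc_34_2 lc_e_rc_31_2 lc_e_rc_31_2 lc_e_rc_45_31 lc_e_rc_4_1 lc_e_rc_31_0 lc_e_rc_12_3 lc_e_rc_31_2 lc_e_rc_31_2 lc_e_rc_31_2 lc_e_rc_45_58 lc_e_Cert_tree lc_e_Cert_tree lc_e_rc_30_0 lc_e_rc_19_3 lc_e_rc_12_1 lc_e_Cert_tree lc_e_rc_30_0 lc_e_rc_45_22 lc_e_rc_19_1 lc_e_rc_47_38 lc_e_rc_30_0 lc_e_Cert_tree lc_e_rc_30_0 lc_e_rc_30_0) (@D3.rec (fun _ => (Cert rels S Gen.e)) lc_e_rc_25_3 lc_e_rc_32_2 lc_e_rc_33_2 lc_e_rc_33_2 lc_e_rc_30_0 lc_e_rc_33_2 lc_e_rc_45_22 lc_e_rc_4_1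 lc_e_Cert_tree lc_e_rc_4_3 lc_e_rc_34_2 lc_e_rc_31_0 lc_e_rc_33_2 lc_e_rc_34_2 lc_e_rc_32_4 lc_e_rc_31_2 lc_e_rc_34_2 lc_e_rc_4_1 lc_e_Cert_tree lc_e_rc_19_1 lc_e_Cert_tree lc_e_rc_30_0 lc_e_rc_12_1 lc_e_rc_31_2 lc_e_rc_31_2 lc_e_rc_31_2 lc_e_rc_19_3 lc_e_rc_19_3 lc_e_rc_31_0 lc_e_rc_34_2 lc_e_rc_31_2 lc_e_rc_25_3) (@D3.rec (fun _ => (Cert rels S Gen.e)) lc_e_rc_25_1 lc_e_rc_31_2 lc_e_Cert_tree lc_e_rc_19_3 lc_e_rc_25_3 lc_e_Cert_tree lc_e_rc_32_2 lc_e_rc_31_2 lc_e_Cert_tree lc_e_rc_30_0 lc_e_rc_19_1 lc_e_rc_12_1 lc_e_rc_12_1 lc_e_Cert_tree lc_e_Cert_tree lc_e_rc_30_0 lc_e_rc_34_2 lc_e_rc_4_1 lc_e_rc_31_2 lc_e_rc_34_2 lc_e_Cert_tree lc_e_Cert_tree lc_e_Cert_tree lc_e_rc_30_0 lc_e_rc_4_1 lc_e_rc_19_1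 lc_e_rc_12_1 lc_e_rc_31_2 lc_e_rc_33_2 lc_e_rc_31_2 lc_e_rc_45_76 lc_e_Cert_tree) (@D3.rec (fun _ => (Cert rels S Gen.e)) lc_e_Cert_tree lc_e_rc_30_0 lc_e_rc_45_31 lc_e_rc_12_3 lc_e_Cert_tree lc_e_rc_30_0 lc_e_rc_4_1 lc_e_Cert_tree lc_e_rc_30_0 lc_e_rc_12_1 lc_e_Cert_tree lc_e_rc_30_0 lc_e_rc_30_0 lc_e_rc_4_1 lc_e_rc_25_3 lc_e_rc_25_3 lc_e_rc_34_2 lc_e_rc_34_2 lc_e_rc_31_2 lc_e_rc_4_3 lc_e_rc_31_2 lc_e_Cert_tree lc_e_rc_30_0 lc_e_rc_33_2 lc_e_Cert_tree lc_e_rc_25_5 lc_e_rc_34_2 lc_e_rc_25_1 lc_e_rc_31_2 lc_e_rc_34_2 lc_e_Cert_tree lc_e_Cert_tree) (@D3.rec (fun _ => (Cert rels S Gen.e)) lc_e_Cert_tree lc_e_rc_30_0 lc_e_rc_32_2 lc_e_rc_4_1 lc_e_rc_31_2 lc_e_rc_33_2 lc_e_rc_31_2 lc_e_Cert_tree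 lc_e_Cert_tree lc_e_Cert_tree lc_e_rc_30_0 lc_e_Cert_tree lc_e_Cert_tree lc_e_rc_30_0 lc_e_Cert_tree lc_e_rc_30_0 lc_e_rc_32_2 lc_e_rc_33_2 lc_e_rc_4_1 lc_e_rc_4_1 lc_e_rc_30_0 lc_e_rc_4_1 lc_e_rc_31_2 lc_e_rc_19_3 lc_e_Cert_tree lc_e_Cert_tree lc_e_rc_30_0 lc_e_Cert_tree lc_e_rc_30_0 lc_e_Cert_tree lc_e_rc_30_0 lc_e_rc_4_3) (@D3.rec (fun _ => (Cert rels S Gen.e)) lc_e_rc_4_3 lc_e_rc_30_0 lc_e_Cert_tree lc_e_rc_30_0 lc_e_rc_4_1 lc_e_rc_4_1 lc_e_rc_45_67 lc_e_rc_19_1 lc_e_rc_19_3 lc_e_rc_30_0 lc_e_rc_19_3 lc_e_rc_12_3 lc_e_rc_30_0 lc_e_rc_19_3 lc_e_Cert_tree lc_e_rc_30_0 lc_e_Cert_tree lc_e_rc_30_0 lc_e_rc_30_0 lc_e_rc_25_3 lc_e_rc_34_2 lc_e_rc_31_2 lc_e_rc_25_3 lc_e_rc_32_2 lc_e_rc_31_2 lc_e_Cert_tree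 lc_e_rc_31_2 lc_e_rc_25_3 lc_e_rc_31_2 lc_e_rc_31_2 lc_e_rc_34_2 lc_e_rc_31_2) (@D3.rec (fun _ => (Cert rels S Gen.e)) lc_e_Cert_tree lc_e_rc_33_2 lc_e_rc_31_2 lc_e_rc_4_1 lc_e_rc_31_2 lc_e_Cert_tree lc_e_rc_12_1 lc_e_rc_4_1 lc_e_rc_31_2 lc_e_rc_32_2 lc_e_Cert_tree lc_e_rc_30_0 lc_e_rc_25_3 lc_e_rc_19_1 lc_e_rc_31_2 lc_e_rc_31_2 lc_e_Cert_tree lc_e_rc_25_3 lc_e_rc_12_1 lc_e_Cert_tree lc_e_Cert_tree lc_e_rc_30_0 lc_e_rc_19_1 lc_e_rc_34_2 lc_e_rc_31_2 lc_e_Cert_tree lc_e_rc_4_1 lc_e_rc_31_2 lc_e_rc_12_1 lc_e_Cert_tree lc_e_Cert_tree lc_e_rc_30_0) (@D3.rec (fun _ => (Cert rels S Gen.e)) lc_e_rc_25_3 lc_e_rc_4_1 lc_e_rc_31_2 lc_e_rc_31_2 lc_e_Cert_tree lc_e_rc_31_2 lc_e_Cert_tree lc_e_Cert_tree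 lc_e_rc_30_0 lc_e_rc_32_2 lc_e_rc_12_3 lc_e_rc_12_1 lc_e_rc_33_2 lc_e_rc_32_4 lc_e_rc_25_3 lc_e_rc_33_2 lc_e_rc_12_1 lc_e_rc_4_1 lc_e_rc_25_1 lc_e_rc_12_1 lc_e_Cert_tree lc_e_rc_30_0 lc_e_rc_12_1 lc_e_rc_12_3 lc_e_rc_4_3 lc_e_rc_30_0 lc_e_rc_4_1 lc_e_rc_12_1 lc_e_rc_31_2 lc_e_rc_19_1 lc_e_Cert_tree lc_e_rc_34_2) (@D3.rec (fun _ => (Cert rels S Gen.e)) lc_e_rc_31_2 lc_e_rc_12_1 lc_e_rc_31_2 lc_e_Cert_tree lc_e_rc_34_2 lc_e_rc_31_2 lc_e_rc_33_2 lc_e_rc_31_2 lc_e_Cert_tree lc_e_rc_30_0 lc_e_rc_31_2 lc_e_Cert_tree lc_e_rc_25_5 lc_e_Cert_tree lc_e_Cert_tree lc_e_rc_31_2 lc_e_Cert_tree lc_e_rc_30_0 lc_e_rc_19_1 lc_e_Cert_tree lc_e_rc_34_2 lc_e_rc_34_2 lc_e_rc_12_1 lc_e_rc_12_1 lc_e_Cert_tree lc_e_rc_30_0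 lc_e_rc_34_2 lc_e_rc_25_3 lc_e_rc_25_1 lc_e_rc_31_2 lc_e_rc_31_2 lc_e_Cert_tree) (@D3.rec (fun _ => (Cert rels S Gen.e)) lc_e_rc_33_2 lc_e_Cert_tree lc_e_Cert_tree lc_e_rc_30_0 lc_e_rc_32_2 lc_e_rc_4_3 lc_e_rc_12_1 lc_e_rc_31_2 lc_e_Cert_tree lc_e_rc_30_0 lc_e_rc_34_0 lc_e_Cert_tree lc_e_rc_31_2 lc_e_Cert_tree lc_e_rc_30_0 lc_e_rc_32_2 lc_e_rc_31_2 lc_e_Cert_tree lc_e_rc_31_2 lc_e_Cert_tree lc_e_Cert_tree lc_e_rc_30_0 lc_e_rc_32_2 lc_e_Cert_tree lc_e_rc_30_0 lc_e_rc_4_1 lc_e_rc_12_1 lc_e_rc_32_2 lc_e_rc_31_2 lc_e_rc_4_1 lc_e_Cert_tree lc_e_rc_30_0) (@D3.rec (fun _ => (Cert rels S Gen.e)) lc_e_rc_34_2 lc_e_rc_25_3 lc_e_rc_12_1 lc_e_rc_31_2 lc_e_rc_12_1 lc_e_Cert_tree lc_e_rc_12_1 lc_e_Cert_tree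 lc_e_Cert_tree lc_e_rc_30_0 lc_e_rc_12_1 lc_e_rc_31_2 lc_e_rc_31_2 lc_e_rc_31_2 lc_e_Cert_tree lc_e_Cert_tree lc_e_Cert_tree lc_e_rc_30_0 lc_e_Cert_tree lc_e_Cert_tree lc_e_rc_30_0 lc_e_Cert_tree lc_e_rc_30_0 lc_e_rc_32_2 lc_e_rc_33_2 lc_e_rc_4_1 lc_e_rc_4_1 lc_e_rc_32_2 lc_e_Cert_tree lc_e_rc_34_0 lc_e_Cert_tree lc_e_rc_30_0) (@D3.rec (fun _ => (Cert rels S Gen.e)) lc_e_rc_12_1 lc_e_rc_12_3 lc_e_rc_30_0 lc_e_rc_25_3 lc_e_rc_25_3 lc_e_rc_19_1 lc_e_Cert_tree lc_e_rc_30_0 lc_e_Cert_tree lc_e_rc_30_0 lc_e_rc_4_1 lc_e_Cert_tree lc_e_rc_30_0 lc_e_rc_4_1 lc_e_rc_33_0 lc_e_rc_12_1 lc_e_rc_12_1 lc_e_rc_34_0 lc_e_rc_4_1 lc_e_rc_47_52 lc_e_rc_34_2 lc_e_rc_25_3 lc_e_Cert_tree lc_e_rc_30_0 lc_e_rc_4_3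 lc_e_rc_31_2 lc_e_rc_30_0 lc_e_rc_19_3 lc_e_Cert_tree lc_e_rc_30_0 lc_e_Cert_tree lc_e_rc_30_0) (@D3.rec (fun _ => (Cert rels S Gen.e)) lc_e_Cert_tree lc_e_Cert_tree lc_e_rc_30_0 lc_e_Cert_tree lc_e_rc_30_0 lc_e_rc_4_1 lc_e_rc_19_1 lc_e_rc_32_4 lc_e_rc_12_1 lc_e_rc_31_2 lc_e_rc_31_2 lc_e_rc_31_2 lc_e_Cert_tree lc_e_rc_34_2 lc_e_rc_31_2 lc_e_rc_32_2 lc_e_rc_31_2 lc_e_Cert_tree lc_e_rc_34_2 lc_e_rc_31_2 lc_e_rc_31_2 lc_e_Cert_tree lc_e_rc_30_0 lc_e_Cert_tree lc_e_rc_34_0 lc_e_Cert_tree lc_e_Cert_tree lc_e_rc_30_0 lc_e_Cert_tree lc_e_rc_31_2 lc_e_Cert_tree lc_e_Cert_tree) (@D3.rec (fun _ => (Cert rels S Gen.e)) lc_e_rc_30_0 lc_e_rc_34_2 lc_e_rc_25_1 lc_e_rc_31_2 lc_e_rc_34_2 lc_e_Cert_tree lc_e_Cert_tree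 lc_e_rc_30_0 lc_e_rc_32_2 lc_e_rc_31_2 lc_e_Cert_tree lc_e_rc_30_0 lc_e_rc_34_0 lc_e_rc_31_2 lc_e_Cert_tree lc_e_Cert_tree lc_e_rc_30_0 lc_e_rc_31_2 lc_e_rc_31_2 lc_e_Cert_tree lc_e_Cert_tree lc_e_rc_30_0 lc_e_rc_32_2 lc_e_rc_34_2 lc_e_rc_31_2 lc_e_Cert_tree lc_e_Cert_tree lc_e_rc_30_0 lc_e_rc_34_2 lc_e_rc_12_1 lc_e_rc_31_2 lc_e_rc_12_1) (@D3.rec (fun _ => (Cert rels S Gen.e)) lc_e_Cert_tree lc_e_Cert_tree lc_e_Cert_tree lc_e_rc_30_0 lc_e_rc_30_0 lc_e_rc_12_1 lc_e_rc_31_2 lc_e_rc_31_2 lc_e_rc_31_2 lc_e_Cert_tree lc_e_Cert_tree lc_e_Cert_tree lc_e_rc_30_0 lc_e_Cert_tree lc_e_Cert_tree lc_e_rc_30_0 lc_e_rc_30_0 lc_e_rc_32_2 lc_e_rc_33_2 lc_e_rc_31_2 lc_e_rc_31_2 lc_e_rc_33_2 lc_e_rc_31_2 lc_e_rc_31_2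 lc_e_Cert_tree lc_e_rc_30_0 lc_e_rc_30_0 lc_e_rc_12_1 lc_e_rc_45_67 lc_e_rc_4_3 lc_e_rc_30_0 lc_e_rc_19_1) (@D3.rec (fun _ => (Cert rels S Gen.e)) lc_e_rc_19_1 lc_e_rc_25_3 lc_e_rc_4_1 lc_e_rc_31_2 lc_e_Cert_tree lc_e_Cert_tree lc_e_rc_30_0 lc_e_rc_25_5 lc_e_rc_30_0 lc_e_rc_32_2 lc_e_rc_32_2 lc_e_rc_32_4 lc_e_rc_12_1 lc_e_Cert_tree lc_e_Cert_tree lc_e_Cert_tree lc_e_rc_30_0 lc_e_rc_32_2 lc_e_rc_31_2 lc_e_rc_31_2 lc_e_Cert_tree lc_e_Cert_tree lc_e_rc_30_0 lc_e_rc_30_0 lc_e_rc_32_2 lc_e_rc_33_2 lc_e_rc_33_0 lc_e_rc_34_2 lc_e_Cert_tree lc_e_rc_30_0 lc_e_rc_33_2 lc_e_rc_4_1) (@D3.rec (fun _ => (Cert rels S Gen.e)) lc_e_rc_31_2 lc_e_Cert_tree lc_e_rc_34_2 lc_e_rc_12_1 lc_e_rc_12_1 lc_e_rc_32_2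 lc_e_Cert_tree lc_e_rc_30_0 lc_e_rc_34_2 lc_e_rc_32_4 lc_e_rc_31_2 lc_e_rc_34_2 lc_e_Cert_tree lc_e_rc_31_2 lc_e_Cert_tree lc_e_Cert_tree lc_e_rc_30_0 lc_e_rc_31_2 lc_e_rc_4_3 lc_e_Cert_tree lc_e_rc_30_0 lc_e_rc_12_1 lc_e_rc_32_2 lc_e_rc_34_2 lc_e_rc_4_1 lc_e_Cert_tree lc_e_rc_30_0 lc_e_rc_34_2 lc_e_rc_25_1 lc_e_rc_31_2 lc_e_rc_12_1 lc_e_Cert_tree) (@D3.rec (fun _ => (Cert rels S Gen.e)) lc_e_Cert_tree lc_e_Cert_tree lc_e_rc_30_0 lc_e_rc_12_1 lc_e_rc_31_2 lc_e_rc_31_2 lc_e_rc_31_2 lc_e_Cert_tree lc_e_Cert_tree lc_e_rc_30_0 lc_e_Cert_tree lc_e_rc_30_0 lc_e_rc_32_2 lc_e_rc_33_2 lc_e_rc_31_2 lc_e_rc_31_2 lc_e_rc_33_2 lc_e_Cert_tree lc_e_Cert_tree lc_e_rc_30_0 lc_e_Cert_tree lc_e_rc_30_0 lc_e_rc_32_2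 lc_e_rc_33_2 lc_e_rc_34_2 lc_e_rc_34_2 lc_e_rc_31_2 lc_e_rc_31_2 lc_e_Cert_tree lc_e_Cert_tree lc_e_Cert_tree lc_e_rc_30_0) (@D3.rec (fun _ => (Cert rels S Gen.e)) lc_e_rc_4_1 lc_e_rc_31_2 lc_e_rc_31_2 lc_e_rc_31_2 lc_e_Cert_tree lc_e_Cert_tree lc_e_Cert_tree lc_e_rc_30_0 lc_e_Cert_tree lc_e_Cert_tree lc_e_rc_30_0 lc_e_Cert_tree lc_e_rc_30_0 lc_e_rc_32_2 lc_e_rc_12_1 lc_e_Cert_tree lc_e_Cert_tree lc_e_Cert_tree lc_e_Cert_tree lc_e_rc_30_0 lc_e_Cert_tree lc_e_rc_30_0 lc_e_Cert_tree lc_e_rc_30_0 lc_e_rc_32_2 lc_e_rc_30_0 lc_e_rc_30_0 lc_e_rc_32_2 lc_e_rc_30_0 lc_e_rc_19_1 lc_e_rc_33_2 lc_e_rc_4_3)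
def ce_e_15 : D2 → D3 → (Cert rels S Gen.e) := @D2.rec (fun _ => D3 → (Cert rels S Gen.e)) (@D3.rec (fun _ => (Cert rels S Gen.e)) lc_e_rc_32_2 lc_e_rc_33_2 lc_e_rc_30_0 lc_e_rc_30_0 lc_e_rc_19_1 lc_e_rc_25_3 lc_e_rc_19_1 lc_e_rc_12_1 lc_e_rc_30_0 lc_e_rc_12_1 lc_e_rc_12_1 lc_e_rc_12_1 lc_e_rc_33_2 lc_e_rc_25_1 lc_e_rc_47_31 lc_e_rc_4_1 lc_e_rc_31_2 lc_e_rc_4_1 lc_e_rc_4_1 lc_e_rc_12_1 lc_e_rc_4_3 lc_e_rc_19_1 lc_e_rc_32_2 lc_e_rc_25_3 lc_e_rc_19_3 lc_e_rc_25_3 lc_e_rc_12_1 lc_e_rc_12_1 lc_e_Cert_tree lc_e_rc_30_0 lc_e_Cert_tree lc_e_rc_30_0) (@D3.rec (fun _ => (Cert rels S Gen.e)) lc_e_rc_30_0 lc_e_rc_12_1 lc_e_rc_30_0 lc_e_Cert_tree lc_e_rc_30_0 lc_e_rc_12_1 lc_e_rc_12_1 lc_e_rc_31_2 lc_e_rc_32_4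 lc_e_rc_4_1 lc_e_rc_4_1 lc_e_rc_19_1 lc_e_Cert_tree lc_e_rc_30_0 lc_e_rc_4_3 lc_e_rc_12_3 lc_e_rc_30_0 lc_e_rc_25_1 lc_e_rc_46_11 lc_e_rc_32_2 lc_e_rc_31_2 lc_e_Cert_tree lc_e_rc_31_2 lc_e_rc_31_2 lc_e_Cert_tree lc_e_rc_30_0 lc_e_Cert_tree lc_e_rc_25_5 lc_e_Cert_tree lc_e_rc_30_0 lc_e_rc_31_2 lc_e_Cert_tree) (@D3.rec (fun _ => (Cert rels S Gen.e)) lc_e_Cert_tree lc_e_rc_30_0 lc_e_rc_4_1 lc_e_rc_12_1 lc_e_rc_12_1 lc_e_Cert_tree lc_e_Cert_tree lc_e_rc_30_0 lc_e_rc_30_0 lc_e_rc_12_1 lc_e_rc_31_2 lc_e_rc_31_2 lc_e_Cert_tree lc_e_Cert_tree lc_e_Cert_tree lc_e_rc_30_0 lc_e_Cert_tree lc_e_rc_30_0 lc_e_Cert_tree lc_e_rc_30_0 lc_e_rc_32_2 lc_e_rc_4_1 lc_e_rc_4_1 lc_e_rc_25_1 lc_e_rc_25_1 lc_e_rc_46_32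 lc_e_Cert_tree lc_e_rc_30_0 lc_e_Cert_tree lc_e_rc_30_0 lc_e_Cert_tree lc_e_rc_30_0) (@D3.rec (fun _ => (Cert rels S Gen.e)) lc_e_rc_30_0 lc_e_rc_12_3 lc_e_rc_30_0 lc_e_rc_25_3 lc_e_rc_31_2 lc_e_rc_31_2 lc_e_rc_34_2 lc_e_Cert_tree lc_e_rc_31_2 lc_e_Cert_tree lc_e_Cert_tree lc_e_rc_30_0 lc_e_rc_32_2 lc_e_rc_19_3 lc_e_Cert_tree lc_e_rc_30_0 lc_e_rc_12_1 lc_e_rc_31_2 lc_e_rc_31_2 lc_e_Cert_tree lc_e_Cert_tree lc_e_Cert_tree lc_e_rc_30_0 lc_e_Cert_tree lc_e_rc_30_0 lc_e_rc_30_0 lc_e_rc_32_2 lc_e_rc_33_2 lc_e_Cert_tree lc_e_Cert_tree lc_e_Cert_tree lc_e_Cert_tree) (@D3.rec (fun _ => (Cert rels S Gen.e)) lc_e_rc_30_0 lc_e_Cert_tree lc_e_rc_30_0 lc_e_Cert_tree lc_e_rc_30_0 lc_e_rc_32_2 lc_e_Cert_tree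 lc_e_rc_30_0 lc_e_Cert_tree lc_e_rc_30_0 lc_e_rc_32_2 lc_e_Cert_tree lc_e_rc_30_0 lc_e_rc_19_1 lc_e_rc_33_2 lc_e_rc_25_3 lc_e_rc_31_2 lc_e_rc_12_1 lc_e_Cert_tree lc_e_rc_30_0 lc_e_rc_12_3 lc_e_rc_30_0 lc_e_Cert_tree lc_e_rc_30_0 lc_e_Cert_tree lc_e_rc_30_0 lc_e_rc_25_3 lc_e_rc_30_0 lc_e_rc_12_1 lc_e_rc_19_3 lc_e_rc_4_1 lc_e_rc_25_1) (@D3.rec (fun _ => (Cert rels S Gen.e)) lc_e_Cert_tree lc_e_rc_30_0 lc_e_rc_30_0 lc_e_rc_31_2 lc_e_rc_31_2 lc_e_Cert_tree lc_e_rc_31_2 lc_e_rc_31_2 lc_e_Cert_tree lc_e_rc_30_0 lc_e_Cert_tree lc_e_rc_25_5 lc_e_Cert_tree lc_e_Cert_tree lc_e_rc_31_2 lc_e_Cert_tree lc_e_rc_30_0 lc_e_rc_19_1 lc_e_Cert_tree lc_e_rc_31_2 lc_e_Cert_tree lc_e_Cert_tree lc_e_rc_30_0 lc_e_rc_31_2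 lc_e_rc_31_2 lc_e_Cert_tree lc_e_Cert_tree lc_e_Cert_tree lc_e_rc_30_0 lc_e_rc_32_2 lc_e_rc_33_2 lc_e_rc_12_1) (@D3.rec (fun _ => (Cert rels S Gen.e)) lc_e_Cert_tree lc_e_Cert_tree lc_e_rc_30_0 lc_e_rc_4_1 lc_e_Cert_tree lc_e_Cert_tree lc_e_rc_30_0 lc_e_Cert_tree lc_e_rc_30_0 lc_e_rc_32_2 lc_e_rc_31_2 lc_e_Cert_tree lc_e_Cert_tree lc_e_rc_30_0 lc_e_rc_31_2 lc_e_Cert_tree lc_e_Cert_tree lc_e_rc_30_0 lc_e_rc_30_0 lc_e_rc_12_1 lc_e_rc_31_2 lc_e_rc_31_2 lc_e_Cert_tree lc_e_Cert_tree lc_e_Cert_tree lc_e_rc_30_0 lc_e_Cert_tree lc_e_Cert_tree lc_e_rc_30_0 lc_e_Cert_tree lc_e_rc_30_0 lc_e_rc_32_2) (@D3.rec (fun _ => (Cert rels S Gen.e)) lc_e_rc_33_2 lc_e_rc_4_1 lc_e_rc_33_2 lc_e_rc_12_1 lc_e_rc_32_2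 lc_e_rc_47_45 lc_e_rc_19_1 lc_e_rc_30_0 lc_e_rc_25_3 lc_e_rc_31_2 lc_e_Cert_tree lc_e_Cert_tree lc_e_rc_30_0 lc_e_rc_31_2 lc_e_Cert_tree lc_e_rc_12_1 lc_e_Cert_tree lc_e_rc_30_0 lc_e_rc_31_2 lc_e_Cert_tree lc_e_rc_31_2 lc_e_Cert_tree lc_e_Cert_tree lc_e_rc_30_0 lc_e_rc_31_2 lc_e_Cert_tree lc_e_rc_30_0 lc_e_rc_12_1 lc_e_rc_30_0 lc_e_rc_30_0 lc_e_Cert_tree lc_e_Cert_tree) (@D3.rec (fun _ => (Cert rels S Gen.e)) lc_e_rc_30_0 lc_e_rc_32_2 lc_e_rc_4_1 lc_e_rc_30_0 lc_e_rc_4_1 lc_e_rc_31_2 lc_e_Cert_tree lc_e_Cert_tree lc_e_Cert_tree lc_e_rc_30_0 lc_e_rc_12_1 lc_e_rc_31_2 lc_e_rc_31_2 lc_e_rc_31_2 lc_e_Cert_tree lc_e_Cert_tree lc_e_Cert_tree lc_e_rc_30_0 lc_e_Cert_tree lc_e_Cert_tree lc_e_rc_30_0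 lc_e_Cert_tree lc_e_rc_30_0 lc_e_rc_32_2 lc_e_rc_33_2 lc_e_rc_12_1 lc_e_rc_19_1 lc_e_Cert_tree lc_e_Cert_tree lc_e_rc_30_0 lc_e_rc_32_2 lc_e_rc_30_0) (@D3.rec (fun _ => (Cert rels S Gen.e)) lc_e_Cert_tree lc_e_Cert_tree lc_e_rc_30_0 lc_e_rc_32_2 lc_e_rc_32_2 lc_e_Cert_tree lc_e_Cert_tree lc_e_rc_30_0 lc_e_Cert_tree lc_e_Cert_tree lc_e_rc_30_0 lc_e_Cert_tree lc_e_rc_30_0 lc_e_rc_32_2 lc_e_rc_33_2 lc_e_rc_4_1 lc_e_rc_30_0 lc_e_rc_31_2 lc_e_rc_32_2 lc_e_Cert_tree lc_e_Cert_tree lc_e_Cert_tree lc_e_rc_30_0 lc_e_rc_4_1 lc_e_rc_31_2 lc_e_rc_31_2 lc_e_rc_31_2 lc_e_Cert_tree lc_e_Cert_tree lc_e_Cert_tree lc_e_rc_30_0 lc_e_Cert_tree) (@D3.rec (fun _ => (Cert rels S Gen.e)) lc_e_Cert_tree lc_e_rc_30_0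 lc_e_Cert_tree lc_e_rc_30_0 lc_e_rc_32_2 lc_e_rc_12_1 lc_e_Cert_tree lc_e_Cert_tree lc_e_Cert_tree lc_e_Cert_tree lc_e_rc_30_0 lc_e_Cert_tree lc_e_rc_30_0 lc_e_Cert_tree lc_e_rc_30_0 lc_e_rc_32_2 lc_e_rc_30_0 lc_e_Cert_tree lc_e_rc_30_0 lc_e_rc_32_2 lc_e_Cert_tree lc_e_rc_30_0 lc_e_rc_19_1 lc_e_rc_33_2 lc_e_Cert_tree lc_e_rc_30_0 lc_e_rc_12_1 lc_e_rc_47_31 lc_e_rc_30_0 lc_e_rc_32_4 lc_e_rc_25_5 lc_e_rc_19_3) (@D3.rec (fun _ => (Cert rels S Gen.e)) lc_e_Cert_tree lc_e_rc_30_0 lc_e_Cert_tree lc_e_rc_30_0 lc_e_rc_25_3 lc_e_rc_30_0 lc_e_rc_4_1 lc_e_rc_12_1 lc_e_rc_30_0 lc_e_rc_4_1 lc_e_rc_30_0 lc_e_rc_4_1 lc_e_Cert_tree lc_e_rc_30_0 lc_e_rc_4_1 lc_e_Cert_tree lc_e_rc_30_0 lc_e_rc_30_0 lc_e_rc_12_1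 lc_e_rc_30_0 lc_e_rc_32_2 lc_e_rc_4_1 lc_e_rc_31_2 lc_e_Cert_tree lc_e_Cert_tree lc_e_Cert_tree lc_e_rc_30_0 lc_e_rc_31_2 lc_e_Cert_tree lc_e_rc_31_2 lc_e_Cert_tree lc_e_Cert_tree) (@D3.rec (fun _ => (Cert rels S Gen.e)) lc_e_rc_30_0 lc_e_rc_34_2 lc_e_Cert_tree lc_e_Cert_tree lc_e_Cert_tree lc_e_rc_30_0 lc_e_rc_31_2 lc_e_Cert_tree lc_e_rc_30_0 lc_e_rc_12_1 lc_e_rc_30_0 lc_e_Cert_tree lc_e_rc_30_0 lc_e_rc_32_2 lc_e_Cert_tree lc_e_rc_30_0 lc_e_Cert_tree lc_e_rc_30_0 lc_e_rc_30_0 lc_e_rc_12_1 lc_e_rc_31_2 lc_e_rc_31_2 lc_e_Cert_tree lc_e_Cert_tree lc_e_rc_30_0 lc_e_rc_30_0 lc_e_rc_32_2 lc_e_rc_33_2 lc_e_Cert_tree lc_e_Cert_tree lc_e_rc_30_0 lc_e_rc_32_2) (@D3.rec (fun _ => (Cert rels S Gen.e))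 lc_e_Cert_tree lc_e_Cert_tree lc_e_rc_30_0 lc_e_rc_30_0 lc_e_rc_32_2 lc_e_Cert_tree lc_e_Cert_tree lc_e_rc_30_0 lc_e_rc_30_0 lc_e_rc_32_2 lc_e_rc_33_2 lc_e_rc_31_2 lc_e_Cert_tree lc_e_Cert_tree lc_e_rc_30_0 lc_e_rc_30_0 lc_e_rc_4_1 lc_e_rc_31_2 lc_e_rc_31_2 lc_e_Cert_tree lc_e_Cert_tree lc_e_Cert_tree lc_e_rc_30_0 lc_e_Cert_tree lc_e_rc_30_0 lc_e_rc_30_0 lc_e_rc_32_2 lc_e_rc_25_3 lc_e_rc_19_1 lc_e_rc_12_1 lc_e_Cert_tree lc_e_Cert_tree) (@D3.rec (fun _ => (Cert rels S Gen.e)) lc_e_Cert_tree lc_e_Cert_tree lc_e_rc_30_0 lc_e_Cert_tree lc_e_rc_30_0 lc_e_rc_30_0 lc_e_rc_32_2 lc_e_rc_30_0 lc_e_rc_30_0 lc_e_rc_32_2 lc_e_rc_19_1 lc_e_rc_33_2 lc_e_rc_45_31 lc_e_rc_30_0 lc_e_rc_25_3 lc_e_rc_25_3 lc_e_rc_31_2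 lc_e_rc_45_31 lc_e_rc_34_2 lc_e_rc_30_0 lc_e_Cert_tree lc_e_rc_30_0 lc_e_rc_32_2 lc_e_rc_32_2 lc_e_rc_33_2 lc_e_rc_33_2 lc_e_Cert_tree lc_e_Cert_tree lc_e_Cert_tree lc_e_rc_30_0 lc_e_Cert_tree lc_e_rc_30_0) (@D3.rec (fun _ => (Cert rels S Gen.e)) lc_e_rc_30_0 lc_e_rc_32_2 lc_e_rc_33_2 lc_e_Cert_tree lc_e_Cert_tree lc_e_rc_30_0 lc_e_rc_30_0 lc_e_rc_32_2 lc_e_rc_32_2 lc_e_rc_33_2 lc_e_Cert_tree lc_e_rc_30_0 lc_e_rc_32_2 lc_e_rc_12_1 lc_e_rc_4_1 lc_e_Cert_tree lc_e_rc_30_0 lc_e_rc_31_2 lc_e_rc_12_1 lc_e_Cert_tree lc_e_Cert_tree lc_e_Cert_tree lc_e_rc_30_0 lc_e_rc_31_2 lc_e_rc_31_2 lc_e_rc_32_4 lc_e_Cert_tree lc_e_Cert_tree lc_e_Cert_tree lc_e_rc_30_0 lc_e_Cert_tree lc_e_Cert_tree) (@D3.rec (fun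 _ => (Cert rels S Gen.e)) lc_e_rc_30_0 lc_e_Cert_tree lc_e_rc_30_0 lc_e_rc_32_2 lc_e_rc_31_2 lc_e_rc_4_3 lc_e_rc_12_3 lc_e_rc_30_0 lc_e_rc_19_1 lc_e_rc_33_2 lc_e_rc_31_2 lc_e_Cert_tree lc_e_Cert_tree lc_e_rc_30_0 lc_e_rc_4_1 lc_e_rc_31_2 lc_e_rc_31_2 lc_e_Cert_tree lc_e_Cert_tree lc_e_Cert_tree lc_e_rc_30_0 lc_e_Cert_tree lc_e_rc_30_0 lc_e_rc_30_0 lc_e_rc_32_2 lc_e_rc_12_1 lc_e_Cert_tree lc_e_Cert_tree lc_e_Cert_tree lc_e_rc_30_0 lc_e_rc_30_0 lc_e_rc_32_2) (@D3.rec (fun _ => (Cert rels S Gen.e)) lc_e_rc_30_0 lc_e_rc_32_2 lc_e_rc_33_2 lc_e_Cert_tree lc_e_Cert_tree lc_e_Cert_tree lc_e_rc_30_0 lc_e_rc_30_0 lc_e_rc_32_2 lc_e_rc_30_0 lc_e_rc_32_2 lc_e_rc_33_2 lc_e_rc_31_2 lc_e_rc_4_1 lc_e_Cert_tree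 lc_e_Cert_tree lc_e_Cert_tree lc_e_rc_30_0 lc_e_Cert_tree lc_e_rc_30_0 lc_e_Cert_tree lc_e_rc_30_0 lc_e_rc_32_2 lc_e_rc_4_1 lc_e_Cert_tree lc_e_Cert_tree lc_e_Cert_tree lc_e_Cert_tree lc_e_rc_30_0 lc_e_Cert_tree lc_e_rc_30_0 lc_e_Cert_tree) (@D3.rec (fun _ => (Cert rels S Gen.e)) lc_e_rc_30_0 lc_e_rc_32_2 lc_e_rc_30_0 lc_e_rc_30_0 lc_e_rc_32_2 lc_e_rc_30_0 lc_e_rc_19_1 lc_e_rc_33_2 lc_e_Cert_tree lc_e_rc_30_0 lc_e_rc_30_0 lc_e_rc_30_0 lc_e_rc_30_0 lc_e_rc_32_2 lc_e_rc_30_0 lc_e_rc_32_2 lc_e_rc_30_0 lc_e_rc_25_3 lc_e_rc_19_1 lc_e_rc_33_2 lc_e_rc_32_2 lc_e_rc_19_1 lc_e_rc_33_2 lc_e_rc_32_2 lc_e_rc_19_1 lc_e_rc_25_5 lc_e_rc_12_1 lc_e_rc_32_2 lc_e_rc_25_5 lc_e_rc_25_1 lc_e_rc_46_39 lc_e_rc_25_3)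 (@D3.rec (fun _ => (Cert rels S Gen.e)) lc_e_rc_32_2 lc_e_rc_19_1 lc_e_rc_19_1 lc_e_rc_25_5 lc_e_rc_25_5 lc_e_rc_30_0 lc_e_rc_30_0 lc_e_rc_25_3 lc_e_Cert_tree lc_e_rc_30_0 lc_e_rc_32_2 lc_e_rc_32_2 lc_e_rc_32_4 lc_e_rc_19_1 lc_e_rc_19_1 lc_e_rc_25_5 lc_e_rc_31_0 lc_e_rc_30_0 lc_e_rc_19_1 lc_e_rc_33_2 lc_e_Cert_tree lc_e_Cert_tree lc_e_rc_30_0 lc_e_Cert_tree lc_e_Cert_tree lc_e_Cert_tree lc_e_rc_30_0 lc_e_rc_4_1 lc_e_Cert_tree lc_e_rc_30_0 lc_e_rc_12_1 lc_e_rc_30_0) (@D3.rec (fun _ => (Cert rels S Gen.e)) lc_e_rc_32_2 lc_e_Cert_tree lc_e_Cert_tree lc_e_rc_30_0 lc_e_Cert_tree lc_e_rc_30_0 lc_e_rc_30_1 lc_e_rc_4_1 lc_e_Cert_tree lc_e_Cert_tree lc_e_rc_30_0 lc_e_Cert_tree lc_e_rc_30_0 lc_e_rc_32_2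 lc_e_rc_25_3 lc_e_rc_12_1 lc_e_rc_12_1 lc_e_Cert_tree lc_e_Cert_tree lc_e_Cert_tree lc_e_rc_30_0 lc_e_Cert_tree lc_e_rc_30_0 lc_e_Cert_tree lc_e_rc_30_0 lc_e_rc_32_2 lc_e_rc_30_0 lc_e_rc_32_2 lc_e_Cert_tree lc_e_rc_30_0 lc_e_rc_19_1 lc_e_rc_33_2) (@D3.rec (fun _ => (Cert rels S Gen.e)) lc_e_rc_25_5 lc_e_Cert_tree lc_e_rc_30_0 lc_e_Cert_tree lc_e_rc_30_0 lc_e_rc_25_3 lc_e_rc_30_0 lc_e_rc_25_3 lc_e_rc_25_3 lc_e_rc_31_2 lc_e_rc_34_2 lc_e_Cert_tree lc_e_Cert_tree lc_e_Cert_tree lc_e_rc_30_0 lc_e_Cert_tree lc_e_Cert_tree lc_e_rc_30_0 lc_e_Cert_tree lc_e_rc_30_0 lc_e_rc_32_2 lc_e_rc_33_2 lc_e_rc_12_1 lc_e_rc_12_3 lc_e_rc_30_0 lc_e_rc_4_1 lc_e_Cert_tree lc_e_Cert_tree lc_e_Cert_tree lc_e_rc_30_0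 lc_e_Cert_tree lc_e_rc_30_0)
def ce_e_16 : D2 → D3 → (Cert rels S Gen.e) := @D2.rec (fun _ => D3 → (Cert rels S Gen.e)) (@D3.rec (fun _ => (Cert rels S Gen.e)) lc_e_rc_30_0 lc_e_rc_32_2 lc_e_rc_30_0 lc_e_rc_32_2 lc_e_rc_19_1 lc_e_rc_33_2 lc_e_Cert_tree lc_e_rc_30_0 lc_e_Cert_tree lc_e_rc_30_0 lc_e_Cert_tree lc_e_rc_30_0 lc_e_Cert_tree lc_e_rc_30_0 lc_e_rc_32_2 lc_e_Cert_tree lc_e_rc_30_0 lc_e_rc_32_2 lc_e_Cert_tree lc_e_rc_30_0 lc_e_rc_25_3 lc_e_rc_19_1 lc_e_rc_33_2 lc_e_rc_30_0 lc_e_rc_32_2 lc_e_rc_30_0 lc_e_rc_25_3 lc_e_rc_19_1 lc_e_rc_33_2 lc_e_rc_30_0 lc_e_rc_12_1 lc_e_rc_19_1) (@D3.rec (fun _ => (Cert rels S Gen.e)) lc_e_rc_31_2 lc_e_rc_19_1 lc_e_rc_30_0 lc_e_rc_25_3 lc_e_Cert_tree lc_e_rc_30_0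 lc_e_rc_25_3 lc_e_rc_30_0 lc_e_rc_25_3 lc_e_rc_32_2 lc_e_rc_30_0 lc_e_Cert_tree lc_e_Cert_tree lc_e_Cert_tree lc_e_rc_30_0 lc_e_Cert_tree lc_e_Cert_tree lc_e_Cert_tree lc_e_rc_30_0 lc_e_rc_31_2 lc_e_Cert_tree lc_e_rc_30_0 lc_e_rc_12_1 lc_e_rc_30_0 lc_e_Cert_tree lc_e_rc_30_0 lc_e_Cert_tree lc_e_Cert_tree lc_e_rc_30_0 lc_e_rc_32_2 lc_e_Cert_tree lc_e_rc_30_0) (@D3.rec (fun _ => (Cert rels S Gen.e)) lc_e_Cert_tree lc_e_rc_30_0 lc_e_rc_30_0 lc_e_rc_12_1 lc_e_Cert_tree lc_e_Cert_tree lc_e_Cert_tree lc_e_rc_30_0 lc_e_Cert_tree lc_e_rc_30_0 lc_e_Cert_tree lc_e_rc_30_0 lc_e_rc_32_2 lc_e_rc_33_2 lc_e_rc_30_0 lc_e_Cert_tree lc_e_rc_30_0 lc_e_rc_32_2 lc_e_rc_30_0 lc_e_rc_30_0 lc_e_rc_32_2 lc_e_rc_30_0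 lc_e_rc_32_2 lc_e_rc_33_2 lc_e_Cert_tree lc_e_rc_30_0 lc_e_rc_30_0 lc_e_rc_4_1 lc_e_Cert_tree lc_e_rc_30_0 lc_e_rc_30_0 lc_e_rc_32_2) (@D3.rec (fun _ => (Cert rels S Gen.e)) lc_e_rc_25_3 lc_e_rc_19_1 lc_e_rc_12_1 lc_e_Cert_tree lc_e_Cert_tree lc_e_rc_30_0 lc_e_Cert_tree lc_e_rc_30_0 lc_e_Cert_tree lc_e_rc_30_0 lc_e_rc_32_2 lc_e_rc_30_0 lc_e_rc_30_0 lc_e_rc_32_2 lc_e_Cert_tree lc_e_rc_30_0 lc_e_rc_19_1 lc_e_rc_33_2 lc_e_rc_32_2 lc_e_rc_25_3 lc_e_rc_31_2 lc_e_rc_30_0 lc_e_rc_30_0 lc_e_rc_32_2 lc_e_Cert_tree lc_e_rc_30_0 lc_e_Cert_tree lc_e_rc_30_0 lc_e_rc_31_2 lc_e_Cert_tree lc_e_Cert_tree lc_e_rc_30_0) (@D3.rec (fun _ => (Cert rels S Gen.e)) lc_e_Cert_tree lc_e_Cert_tree lc_e_rc_30_0 lc_e_Cert_tree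 lc_e_rc_30_0 lc_e_rc_32_2 lc_e_rc_31_2 lc_e_rc_30_0 lc_e_rc_4_1 lc_e_rc_32_2 lc_e_rc_32_2 lc_e_Cert_tree lc_e_rc_30_0 lc_e_Cert_tree lc_e_rc_30_0 lc_e_rc_32_2 lc_e_rc_33_2 lc_e_rc_4_1 lc_e_Cert_tree lc_e_Cert_tree lc_e_Cert_tree lc_e_rc_30_0 lc_e_rc_30_0 lc_e_rc_30_0 lc_e_rc_32_2 lc_e_rc_12_1 lc_e_Cert_tree lc_e_Cert_tree lc_e_Cert_tree lc_e_Cert_tree lc_e_rc_30_0 lc_e_Cert_tree) (@D3.rec (fun _ => (Cert rels S Gen.e)) lc_e_rc_30_0 lc_e_Cert_tree lc_e_rc_30_0 lc_e_rc_32_2 lc_e_rc_30_0 lc_e_Cert_tree lc_e_rc_30_0 lc_e_rc_32_2 lc_e_Cert_tree lc_e_rc_30_0 lc_e_rc_19_1 lc_e_rc_33_2 lc_e_Cert_tree lc_e_rc_30_0 lc_e_rc_30_0 lc_e_rc_32_2 lc_e_rc_33_2 lc_e_rc_32_2 lc_e_Cert_tree lc_e_rc_30_0 lc_e_Cert_tree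 lc_e_rc_30_0 lc_e_rc_32_2 lc_e_rc_33_2 lc_e_Cert_tree lc_e_Cert_tree lc_e_rc_30_0 lc_e_Cert_tree lc_e_rc_30_0 lc_e_rc_32_2 lc_e_rc_30_0 lc_e_Cert_tree) (@D3.rec (fun _ => (Cert rels S Gen.e)) lc_e_rc_30_0 lc_e_rc_32_2 lc_e_rc_19_3 lc_e_rc_30_0 lc_e_rc_19_1 lc_e_rc_33_2 lc_e_Cert_tree lc_e_Cert_tree lc_e_Cert_tree lc_e_rc_30_0 lc_e_rc_30_0 lc_e_rc_30_0 lc_e_rc_32_2 lc_e_rc_4_1 lc_e_Cert_tree lc_e_Cert_tree lc_e_Cert_tree lc_e_Cert_tree lc_e_rc_30_0 lc_e_Cert_tree lc_e_rc_30_0 lc_e_Cert_tree lc_e_rc_30_0 lc_e_rc_32_2 lc_e_Cert_tree lc_e_rc_30_0 lc_e_rc_30_0 lc_e_rc_32_2 lc_e_rc_30_0 lc_e_rc_19_1 lc_e_rc_33_2 lc_e_rc_30_0) (@D3.rec (fun _ => (Cert rels S Gen.e)) lc_e_rc_30_0 lc_e_Cert_tree lc_e_rc_30_0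 lc_e_Cert_tree lc_e_rc_30_0 lc_e_rc_32_2 lc_e_Cert_tree lc_e_rc_30_0 lc_e_rc_32_2 lc_e_Cert_tree lc_e_rc_30_0 lc_e_rc_25_3 lc_e_rc_19_1 lc_e_rc_33_2 lc_e_rc_32_2 lc_e_rc_30_0 lc_e_rc_19_1 lc_e_rc_33_2 lc_e_rc_30_0 lc_e_rc_12_1 lc_e_rc_19_1 lc_e_rc_31_2 lc_e_rc_30_0 lc_e_rc_32_4 lc_e_rc_34_2 lc_e_Cert_tree lc_e_rc_30_0 lc_e_rc_25_3 lc_e_rc_30_0 lc_e_rc_25_3 lc_e_rc_25_3 lc_e_rc_4_1) (@D3.rec (fun _ => (Cert rels S Gen.e)) lc_e_rc_4_1 lc_e_rc_30_0 lc_e_rc_32_2 lc_e_rc_33_2 lc_e_rc_30_0 lc_e_rc_32_2 lc_e_rc_12_1 lc_e_rc_12_1 lc_e_rc_31_2 lc_e_rc_33_2 lc_e_rc_33_0 lc_e_rc_30_0 lc_e_Cert_tree lc_e_rc_30_0 lc_e_rc_30_0 lc_e_rc_32_2 lc_e_Cert_tree lc_e_Cert_tree lc_e_rc_30_0 lc_e_Cert_tree lc_e_Cert_tree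 lc_e_rc_30_0 lc_e_rc_30_0 lc_e_rc_31_2 lc_e_Cert_tree lc_e_rc_30_0 lc_e_Cert_tree lc_e_rc_30_0 lc_e_Cert_tree lc_e_rc_30_0 lc_e_rc_32_2 lc_e_rc_31_2) (@D3.rec (fun _ => (Cert rels S Gen.e)) lc_e_Cert_tree lc_e_rc_30_0 lc_e_rc_32_2 lc_e_rc_32_2 lc_e_rc_30_0 lc_e_rc_32_2 lc_e_rc_33_2 lc_e_rc_30_0 lc_e_rc_4_1 lc_e_rc_30_0 lc_e_rc_32_2 lc_e_rc_19_1 lc_e_rc_12_1 lc_e_Cert_tree lc_e_Cert_tree lc_e_rc_30_0 lc_e_rc_30_0 lc_e_rc_32_2 lc_e_rc_32_2 lc_e_rc_33_2 lc_e_Cert_tree lc_e_rc_30_0 lc_e_rc_30_0 lc_e_rc_32_2 lc_e_rc_33_2 lc_e_Cert_tree lc_e_rc_30_0 lc_e_rc_30_0 lc_e_rc_32_2 lc_e_rc_25_3 lc_e_rc_19_1 lc_e_rc_33_2) (@D3.rec (fun _ => (Cert rels S Gen.e)) lc_e_rc_30_0 lc_e_rc_30_0 lc_e_rc_32_2 lc_e_rc_32_2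 lc_e_rc_33_2 lc_e_Cert_tree lc_e_Cert_tree lc_e_rc_30_0 lc_e_rc_30_0 lc_e_rc_32_2 lc_e_rc_4_1 lc_e_rc_4_1 lc_e_Cert_tree lc_e_Cert_tree lc_e_Cert_tree lc_e_rc_30_0 lc_e_Cert_tree lc_e_rc_30_0 lc_e_rc_30_0 lc_e_rc_32_2 lc_e_rc_30_0 lc_e_rc_32_2 lc_e_rc_19_1 lc_e_rc_33_2 lc_e_rc_19_3 lc_e_rc_31_2 lc_e_rc_19_1 lc_e_rc_30_0 lc_e_rc_30_0 lc_e_rc_30_0 lc_e_rc_30_0 lc_e_rc_32_2) (@D3.rec (fun _ => (Cert rels S Gen.e)) lc_e_rc_30_0 lc_e_rc_32_2 lc_e_rc_25_3 lc_e_rc_19_1 lc_e_rc_33_2 lc_e_rc_32_2 lc_e_rc_19_1 lc_e_rc_33_2 lc_e_rc_19_1 lc_e_rc_25_3 lc_e_rc_31_2 lc_e_rc_34_2 lc_e_rc_34_2 lc_e_rc_32_2 lc_e_rc_30_0 lc_e_rc_32_2 lc_e_rc_33_2 lc_e_rc_33_2 lc_e_Cert_tree lc_e_rc_30_0 lc_e_Cert_tree lc_e_rc_30_0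 lc_e_rc_30_0 lc_e_rc_32_2 lc_e_rc_30_0 lc_e_rc_32_2 lc_e_rc_19_1 lc_e_rc_33_2 lc_e_rc_30_0 lc_e_rc_30_0 lc_e_rc_32_2 lc_e_rc_32_2) (@D3.rec (fun _ => (Cert rels S Gen.e)) lc_e_rc_33_2 lc_e_rc_33_2 lc_e_Cert_tree lc_e_rc_30_0 lc_e_rc_12_3 lc_e_rc_33_2 lc_e_rc_32_2 lc_e_Cert_tree lc_e_rc_30_0 lc_e_rc_4_1 lc_e_Cert_tree lc_e_Cert_tree lc_e_Cert_tree lc_e_rc_30_0 lc_e_rc_30_0 lc_e_Cert_tree lc_e_rc_30_0 lc_e_rc_32_2 lc_e_rc_31_2 lc_e_Cert_tree lc_e_Cert_tree lc_e_Cert_tree lc_e_rc_30_0 lc_e_Cert_tree lc_e_rc_30_0 lc_e_Cert_tree lc_e_rc_30_0 lc_e_rc_32_2 lc_e_Cert_tree lc_e_rc_30_0 lc_e_Cert_tree lc_e_rc_30_0) (@D3.rec (fun _ => (Cert rels S Gen.e)) lc_e_rc_32_2 lc_e_Cert_tree lc_e_rc_30_0 lc_e_rc_19_1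 lc_e_rc_33_2 lc_e_rc_46_53 lc_e_rc_25_3 lc_e_Cert_tree lc_e_Cert_tree lc_e_rc_30_0 lc_e_Cert_tree lc_e_rc_30_0 lc_e_rc_32_2 lc_e_rc_4_1 lc_e_Cert_tree lc_e_Cert_tree lc_e_Cert_tree lc_e_rc_30_0 lc_e_Cert_tree lc_e_rc_30_0 lc_e_rc_30_0 lc_e_rc_32_2 lc_e_rc_30_0 lc_e_rc_32_2 lc_e_rc_19_1 lc_e_rc_33_2 lc_e_Cert_tree lc_e_rc_30_0 lc_e_rc_30_0 lc_e_rc_30_0 lc_e_rc_32_2 lc_e_rc_32_2) (@D3.rec (fun _ => (Cert rels S Gen.e)) lc_e_rc_33_2 lc_e_rc_32_2 lc_e_rc_33_2 lc_e_Cert_tree lc_e_rc_30_0 lc_e_rc_30_0 lc_e_rc_30_0 lc_e_rc_32_2 lc_e_rc_32_2 lc_e_rc_33_2 lc_e_rc_32_2 lc_e_rc_33_2 lc_e_Cert_tree lc_e_Cert_tree lc_e_Cert_tree lc_e_rc_30_0 lc_e_Cert_tree lc_e_rc_30_0 lc_e_Cert_tree lc_e_rc_30_0 lc_e_rc_32_2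 lc_e_rc_30_0 lc_e_rc_32_2 lc_e_rc_30_0 lc_e_rc_19_1 lc_e_rc_33_2 lc_e_Cert_tree lc_e_rc_30_0 lc_e_rc_30_0 lc_e_rc_30_0 lc_e_rc_30_0 lc_e_rc_32_2) (@D3.rec (fun _ => (Cert rels S Gen.e)) lc_e_rc_30_0 lc_e_rc_32_2 lc_e_rc_30_0 lc_e_rc_25_3 lc_e_rc_19_1 lc_e_rc_33_2 lc_e_rc_32_2 lc_e_rc_19_1 lc_e_rc_33_2 lc_e_rc_32_2 lc_e_rc_19_1 lc_e_rc_30_0 lc_e_rc_32_2 lc_e_rc_32_2 lc_e_rc_32_2 lc_e_rc_19_1 lc_e_rc_33_2 lc_e_rc_32_2 lc_e_rc_33_2 lc_e_rc_32_2 lc_e_rc_32_2 lc_e_rc_19_1 lc_e_rc_33_2 lc_e_rc_19_1 lc_e_rc_33_2 lc_e_rc_46_53 lc_e_rc_47_38 lc_e_rc_25_5 lc_e_rc_25_3 lc_e_rc_25_3 lc_e_rc_31_0 lc_e_rc_30_0) (@D3.rec (fun _ => (Cert rels S Gen.e)) lc_e_rc_32_4 lc_e_rc_12_1 lc_e_rc_25_5 lc_e_rc_31_2 lc_e_Cert_tree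 lc_e_rc_30_0 lc_e_rc_30_0 lc_e_rc_32_2 lc_e_Cert_tree lc_e_rc_30_0 lc_e_Cert_tree lc_e_rc_30_0 lc_e_Cert_tree lc_e_rc_30_0 lc_e_rc_32_2 lc_e_rc_4_1 lc_e_Cert_tree lc_e_rc_30_0 lc_e_rc_4_1 lc_e_rc_25_3 lc_e_rc_19_1 lc_e_rc_33_2 lc_e_Cert_tree lc_e_rc_30_0 lc_e_Cert_tree lc_e_rc_30_0 lc_e_rc_31_2 lc_e_rc_30_0 lc_e_rc_19_1 lc_e_rc_33_2 lc_e_Cert_tree lc_e_rc_30_0) (@D3.rec (fun _ => (Cert rels S Gen.e)) lc_e_Cert_tree lc_e_rc_30_0 lc_e_rc_32_2 lc_e_rc_30_0 lc_e_rc_25_3 lc_e_rc_19_1 lc_e_rc_33_2 lc_e_Cert_tree lc_e_rc_31_2 lc_e_rc_12_1 lc_e_rc_30_0 lc_e_Cert_tree lc_e_rc_30_0 lc_e_rc_30_0 lc_e_rc_32_2 lc_e_Cert_tree lc_e_rc_30_0 lc_e_rc_32_2 lc_e_Cert_tree lc_e_rc_30_0 lc_e_rc_25_3 lc_e_rc_19_1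 lc_e_rc_33_2 lc_e_rc_19_1 lc_e_rc_33_2 lc_e_rc_30_0 lc_e_rc_32_2 lc_e_rc_19_1 lc_e_Cert_tree lc_e_rc_30_0 lc_e_rc_25_3 lc_e_rc_30_0) (@D3.rec (fun _ => (Cert rels S Gen.e)) lc_e_rc_25_3 lc_e_rc_31_2 lc_e_rc_31_2 lc_e_rc_34_2 lc_e_Cert_tree lc_e_rc_30_0 lc_e_Cert_tree lc_e_rc_30_0 lc_e_Cert_tree lc_e_rc_30_0 lc_e_rc_32_2 lc_e_Cert_tree lc_e_rc_30_0 lc_e_Cert_tree lc_e_rc_30_0 lc_e_rc_32_2 lc_e_Cert_tree lc_e_rc_30_0 lc_e_rc_19_1 lc_e_rc_33_2 lc_e_rc_32_2 lc_e_rc_25_3 lc_e_Cert_tree lc_e_rc_30_0 lc_e_Cert_tree lc_e_rc_30_0 lc_e_rc_30_0 lc_e_rc_32_2 lc_e_rc_30_0 lc_e_rc_32_2 lc_e_rc_25_3 lc_e_rc_19_1) (@D3.rec (fun _ => (Cert rels S Gen.e)) lc_e_rc_33_2 lc_e_rc_19_1 lc_e_rc_33_2 lc_e_rc_19_1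 lc_e_rc_30_0 lc_e_rc_32_2 lc_e_rc_30_0 lc_e_rc_32_2 lc_e_Cert_tree lc_e_rc_30_0 lc_e_rc_32_2 lc_e_rc_30_0 lc_e_rc_25_3 lc_e_rc_19_1 lc_e_rc_33_2 lc_e_Cert_tree lc_e_rc_30_0 lc_e_rc_25_3 lc_e_rc_19_1 lc_e_rc_33_2 lc_e_rc_30_0 lc_e_rc_25_3 lc_e_rc_12_1 lc_e_rc_45_58 lc_e_rc_19_1 lc_e_rc_32_2 lc_e_rc_33_2 lc_e_rc_12_1 lc_e_rc_19_1 lc_e_rc_31_2 lc_e_rc_19_1 lc_e_rc_19_1) (@D3.rec (fun _ => (Cert rels S Gen.e)) lc_e_rc_12_1 lc_e_rc_25_3 lc_e_rc_30_0 lc_e_rc_25_3 lc_e_rc_31_2 lc_e_rc_4_1 lc_e_Cert_tree lc_e_rc_30_0 lc_e_Cert_tree lc_e_rc_30_0 lc_e_rc_30_0 lc_e_rc_31_2 lc_e_Cert_tree lc_e_rc_30_0 lc_e_Cert_tree lc_e_rc_30_0 lc_e_Cert_tree lc_e_rc_30_0 lc_e_rc_32_2 lc_e_rc_31_2 lc_e_rc_32_4 lc_e_rc_30_0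 lc_e_rc_4_1 lc_e_rc_32_2 lc_e_rc_30_0 lc_e_rc_32_2 lc_e_Cert_tree lc_e_rc_30_0 lc_e_rc_30_0 lc_e_rc_32_2 lc_e_rc_33_2 lc_e_rc_30_0) (@D3.rec (fun _ => (Cert rels S Gen.e)) lc_e_rc_4_1 lc_e_rc_30_0 lc_e_rc_32_2 lc_e_rc_25_3 lc_e_rc_19_1 lc_e_rc_12_1 lc_e_Cert_tree lc_e_rc_30_0 lc_e_Cert_tree lc_e_rc_30_0 lc_e_Cert_tree lc_e_rc_30_0 lc_e_rc_32_2 lc_e_rc_30_0 lc_e_rc_32_2 lc_e_rc_30_0 lc_e_rc_19_1 lc_e_rc_33_2 lc_e_rc_32_2 lc_e_rc_30_0 lc_e_rc_32_2 lc_e_rc_33_2 lc_e_rc_12_1 lc_e_rc_19_1 lc_e_rc_33_2 lc_e_rc_32_2 lc_e_rc_33_2 lc_e_rc_30_0 lc_e_rc_32_2 lc_e_rc_4_1 lc_e_rc_4_1 lc_e_rc_30_0)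
def ce_e_17 : D2 → D3 → (Cert rels S Gen.e) := @D2.rec (fun _ => D3 → (Cert rels S Gen.e)) (@D3.rec (fun _ => (Cert rels S Gen.e)) lc_e_rc_32_2 lc_e_rc_32_2 lc_e_rc_33_2 lc_e_rc_19_3 lc_e_rc_31_2 lc_e_rc_19_1 lc_e_rc_30_0 lc_e_rc_30_0 lc_e_rc_32_2 lc_e_rc_30_0 lc_e_rc_32_2 lc_e_Cert_tree lc_e_rc_30_0 lc_e_rc_12_3 lc_e_rc_33_2 lc_e_rc_32_2 lc_e_rc_19_1 lc_e_rc_33_2 lc_e_rc_30_0 lc_e_rc_34_0 lc_e_rc_19_1 lc_e_rc_31_2 lc_e_rc_32_2 lc_e_rc_31_2 lc_e_rc_33_2 lc_e_rc_30_0 lc_e_rc_4_1 lc_e_rc_30_0 lc_e_rc_32_2 lc_e_rc_31_2 lc_e_Cert_tree lc_e_rc_30_0) (@D3.rec (fun _ => (Cert rels S Gen.e)) lc_e_Cert_tree lc_e_rc_30_0 lc_e_rc_32_2 lc_e_rc_30_0 lc_e_rc_30_0 lc_e_rc_32_2 lc_e_Cert_tree lc_e_rc_30_0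 lc_e_rc_19_1 lc_e_rc_33_2 lc_e_rc_25_3 lc_e_rc_33_2 lc_e_rc_33_2 lc_e_Cert_tree lc_e_rc_30_0 lc_e_rc_32_2 lc_e_rc_30_0 lc_e_rc_19_1 lc_e_rc_33_2 lc_e_rc_4_1 lc_e_rc_30_0 lc_e_Cert_tree lc_e_rc_30_0 lc_e_rc_30_0 lc_e_rc_32_2 lc_e_rc_32_2 lc_e_rc_4_1 lc_e_rc_33_2 lc_e_Cert_tree lc_e_rc_30_0 lc_e_rc_30_0 lc_e_Cert_tree) (@D3.rec (fun _ => (Cert rels S Gen.e)) lc_e_rc_30_0 lc_e_Cert_tree lc_e_rc_30_0 lc_e_rc_32_2 lc_e_Cert_tree lc_e_rc_30_0 lc_e_rc_32_2 lc_e_Cert_tree lc_e_rc_30_0 lc_e_rc_25_3 lc_e_rc_19_1 lc_e_rc_33_2 lc_e_rc_32_2 lc_e_rc_30_0 lc_e_rc_19_1 lc_e_rc_33_2 lc_e_rc_30_0 lc_e_rc_12_1 lc_e_rc_19_1 lc_e_rc_30_0 lc_e_rc_32_2 lc_e_rc_19_1 lc_e_rc_33_2 lc_e_rc_4_1 lc_e_Cert_tree lc_e_rc_30_0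 lc_e_rc_31_2 lc_e_rc_30_0 lc_e_rc_30_0 lc_e_rc_30_0 lc_e_rc_30_0 lc_e_Cert_tree) (@D3.rec (fun _ => (Cert rels S Gen.e)) lc_e_rc_30_0 lc_e_rc_32_2 lc_e_Cert_tree lc_e_rc_30_0 lc_e_rc_19_1 lc_e_rc_33_2 lc_e_rc_32_2 lc_e_rc_30_0 lc_e_rc_19_1 lc_e_rc_19_1 lc_e_rc_33_2 lc_e_rc_12_1 lc_e_rc_19_1 lc_e_rc_30_0 lc_e_Cert_tree lc_e_rc_30_0 lc_e_rc_30_0 lc_e_rc_32_2 lc_e_rc_32_2 lc_e_rc_32_2 lc_e_rc_33_2 lc_e_Cert_tree lc_e_rc_30_0 lc_e_Cert_tree lc_e_rc_30_0 lc_e_Cert_tree lc_e_rc_30_0 lc_e_rc_30_0 lc_e_rc_32_2 lc_e_Cert_tree lc_e_rc_30_0 lc_e_rc_32_2) (@D3.rec (fun _ => (Cert rels S Gen.e)) lc_e_rc_30_0 lc_e_rc_25_3 lc_e_rc_19_1 lc_e_rc_33_2 lc_e_rc_30_0 lc_e_rc_32_2 lc_e_rc_25_3 lc_e_rc_19_1 lc_e_rc_33_2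 lc_e_rc_4_1 lc_e_rc_19_1 lc_e_rc_25_3 lc_e_rc_32_2 lc_e_Cert_tree lc_e_rc_30_0 lc_e_rc_32_2 lc_e_rc_30_0 lc_e_rc_19_1 lc_e_rc_33_2 lc_e_Cert_tree lc_e_rc_30_0 lc_e_rc_25_3 lc_e_rc_19_1 lc_e_rc_33_2 lc_e_rc_30_0 lc_e_rc_25_3 lc_e_rc_12_1 lc_e_rc_4_1 lc_e_rc_19_1 lc_e_rc_33_2 lc_e_rc_12_1 lc_e_rc_19_1) (@D3.rec (fun _ => (Cert rels S Gen.e)) lc_e_rc_19_1 lc_e_rc_12_1 lc_e_rc_25_3 lc_e_rc_30_0 lc_e_rc_25_3 lc_e_rc_31_2 lc_e_rc_4_1 lc_e_rc_19_1 lc_e_rc_31_2 lc_e_rc_4_1 lc_e_rc_31_2 lc_e_rc_12_1 lc_e_rc_19_1 lc_e_rc_33_2 lc_e_rc_12_1 lc_e_rc_31_2 lc_e_rc_32_2 lc_e_rc_30_0 lc_e_rc_32_2 lc_e_rc_4_1 lc_e_rc_33_2 lc_e_Cert_tree lc_e_rc_30_0 lc_e_rc_30_0 lc_e_rc_4_1 lc_e_Cert_tree lc_e_rc_30_0 lc_e_Cert_tree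 lc_e_rc_30_0 lc_e_rc_32_2 lc_e_rc_25_3 lc_e_rc_31_2) (@D3.rec (fun _ => (Cert rels S Gen.e)) lc_e_rc_31_2 lc_e_rc_30_0 lc_e_rc_32_2 lc_e_Cert_tree lc_e_rc_30_0 lc_e_rc_32_2 lc_e_Cert_tree lc_e_rc_30_0 lc_e_rc_19_1 lc_e_rc_33_2 lc_e_rc_19_1 lc_e_rc_30_0 lc_e_rc_25_3 lc_e_rc_33_2 lc_e_rc_19_1 lc_e_rc_33_2 lc_e_rc_4_1 lc_e_rc_4_1 lc_e_rc_30_1 lc_e_rc_33_2 lc_e_rc_19_1 lc_e_rc_30_0 lc_e_rc_30_0 lc_e_rc_32_2 lc_e_rc_32_2 lc_e_rc_33_2 lc_e_rc_33_2 lc_e_rc_30_0 lc_e_rc_31_2 lc_e_rc_19_1 lc_e_rc_33_2 lc_e_rc_30_0) (@D3.rec (fun _ => (Cert rels S Gen.e)) lc_e_rc_32_2 lc_e_rc_19_1 lc_e_rc_33_2 lc_e_rc_12_1 lc_e_rc_31_2 lc_e_rc_19_1 lc_e_rc_32_2 lc_e_rc_32_2 lc_e_rc_33_2 lc_e_rc_33_2 lc_e_Cert_tree lc_e_rc_30_0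 lc_e_rc_30_0 lc_e_rc_31_2 lc_e_rc_4_3 lc_e_rc_33_2 lc_e_rc_4_1 lc_e_Cert_tree lc_e_rc_30_0 lc_e_Cert_tree lc_e_rc_30_0 lc_e_rc_30_0 lc_e_rc_32_2 lc_e_rc_30_0 lc_e_rc_32_2 lc_e_rc_25_3 lc_e_rc_19_1 lc_e_rc_33_2 lc_e_rc_19_1 lc_e_rc_33_2 lc_e_rc_19_1 lc_e_rc_12_3) (@D3.rec (fun _ => (Cert rels S Gen.e)) lc_e_rc_31_2 lc_e_rc_34_2 lc_e_rc_32_2 lc_e_rc_32_2 lc_e_rc_32_2 lc_e_rc_19_1 lc_e_rc_33_2 lc_e_rc_25_3 lc_e_rc_32_2 lc_e_rc_33_2 lc_e_rc_19_1 lc_e_rc_19_1 lc_e_rc_33_2 lc_e_rc_19_1 lc_e_rc_34_2 lc_e_rc_33_2 lc_e_rc_4_3 lc_e_rc_33_2 lc_e_rc_30_0 lc_e_rc_32_2 lc_e_rc_30_0 lc_e_rc_31_2 lc_e_rc_25_3 lc_e_rc_19_1 lc_e_rc_33_2 lc_e_rc_19_1 lc_e_rc_33_2 lc_e_rc_19_1 lc_e_rc_25_3 lc_e_rc_32_2 lc_e_rc_33_2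 lc_e_rc_33_2) (@D3.rec (fun _ => (Cert rels S Gen.e)) lc_e_Cert_tree lc_e_rc_30_0 lc_e_rc_19_1 lc_e_rc_33_2 lc_e_rc_30_0 lc_e_rc_4_3 lc_e_rc_4_1 lc_e_rc_30_0 lc_e_Cert_tree lc_e_rc_30_0 lc_e_Cert_tree lc_e_rc_30_0 lc_e_rc_32_2 lc_e_rc_32_2 lc_e_Cert_tree lc_e_rc_30_0 lc_e_rc_19_1 lc_e_rc_33_2 lc_e_rc_30_0 lc_e_Cert_tree lc_e_rc_30_0 lc_e_Cert_tree lc_e_rc_30_0 lc_e_rc_32_2 lc_e_Cert_tree lc_e_rc_30_0 lc_e_rc_32_2 lc_e_Cert_tree lc_e_rc_30_0 lc_e_rc_19_1 lc_e_rc_33_2 lc_e_rc_30_0) (@D3.rec (fun _ => (Cert rels S Gen.e)) lc_e_rc_32_2 lc_e_rc_25_3 lc_e_rc_30_0 lc_e_rc_25_3 lc_e_rc_19_1 lc_e_rc_33_2 lc_e_rc_30_0 lc_e_rc_12_1 lc_e_rc_19_1 lc_e_Cert_tree lc_e_rc_30_0 lc_e_Cert_tree lc_e_rc_30_0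 lc_e_rc_32_2 lc_e_rc_30_0 lc_e_rc_19_1 lc_e_rc_33_2 lc_e_Cert_tree lc_e_rc_30_0 lc_e_rc_30_0 lc_e_rc_30_0 lc_e_rc_32_2 lc_e_rc_30_0 lc_e_rc_32_2 lc_e_rc_25_3 lc_e_rc_19_1 lc_e_rc_33_2 lc_e_rc_19_1 lc_e_rc_33_2 lc_e_rc_19_1 lc_e_rc_30_0 lc_e_rc_32_2) (@D3.rec (fun _ => (Cert rels S Gen.e)) lc_e_rc_31_2 lc_e_rc_32_2 lc_e_rc_33_2 lc_e_rc_33_2 lc_e_rc_33_2 lc_e_rc_30_0 lc_e_rc_32_2 lc_e_rc_32_2 lc_e_rc_32_2 lc_e_rc_33_2 lc_e_rc_33_2 lc_e_rc_33_2 lc_e_Cert_tree lc_e_rc_30_0 lc_e_rc_30_0 lc_e_rc_30_0 lc_e_rc_32_2 lc_e_Cert_tree lc_e_rc_30_0 lc_e_rc_32_2 lc_e_rc_30_0 lc_e_rc_19_1 lc_e_rc_33_2 lc_e_rc_19_1 lc_e_rc_33_2 lc_e_rc_12_1 lc_e_rc_19_1 lc_e_rc_30_0 lc_e_rc_32_2 lc_e_rc_32_2 lc_e_rc_32_2 lc_e_rc_19_1)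 (@D3.rec (fun _ => (Cert rels S Gen.e)) lc_e_rc_33_2 lc_e_rc_25_3 lc_e_rc_19_1 lc_e_rc_33_2 lc_e_rc_25_3 lc_e_rc_4_1 lc_e_rc_4_3 lc_e_rc_19_1 lc_e_rc_33_2 lc_e_rc_19_1 lc_e_rc_33_2 lc_e_rc_19_1 lc_e_rc_33_2 lc_e_rc_33_2 lc_e_rc_33_2 lc_e_rc_19_1 lc_e_rc_33_2 lc_e_rc_33_2 lc_e_rc_12_1 lc_e_rc_34_2 lc_e_rc_32_2 lc_e_Cert_tree lc_e_rc_30_0 lc_e_rc_32_2 lc_e_rc_25_3 lc_e_rc_19_1 lc_e_rc_33_2 lc_e_Cert_tree lc_e_rc_30_0 lc_e_rc_32_2 lc_e_Cert_tree lc_e_rc_30_0) (@D3.rec (fun _ => (Cert rels S Gen.e)) lc_e_rc_32_2 lc_e_Cert_tree lc_e_rc_30_0 lc_e_rc_19_1 lc_e_rc_33_2 lc_e_rc_34_2 lc_e_rc_30_0 lc_e_rc_25_3 lc_e_rc_19_1 lc_e_rc_31_2 lc_e_rc_19_1 lc_e_Cert_tree lc_e_rc_30_0 lc_e_rc_31_2 lc_e_rc_30_0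 lc_e_rc_25_3 lc_e_rc_31_2 lc_e_rc_31_2 lc_e_rc_12_1 lc_e_rc_30_1 lc_e_Cert_tree lc_e_rc_30_0 lc_e_rc_32_2 lc_e_rc_30_0 lc_e_rc_25_3 lc_e_rc_19_1 lc_e_rc_33_2 lc_e_rc_12_1 lc_e_rc_25_3 lc_e_rc_31_2 lc_e_rc_19_1 lc_e_rc_30_0) (@D3.rec (fun _ => (Cert rels S Gen.e)) lc_e_rc_33_2 lc_e_rc_31_2 lc_e_rc_34_2 lc_e_rc_32_2 lc_e_rc_30_0 lc_e_rc_32_2 lc_e_rc_19_1 lc_e_rc_33_2 lc_e_Cert_tree lc_e_rc_30_0 lc_e_rc_25_3 lc_e_rc_19_1 lc_e_rc_33_2 lc_e_rc_30_0 lc_e_rc_25_3 lc_e_rc_31_2 lc_e_rc_19_1 lc_e_rc_19_1 lc_e_rc_19_1 lc_e_rc_12_1 lc_e_rc_30_0 lc_e_rc_25_3 lc_e_rc_4_1 lc_e_rc_34_2 lc_e_rc_34_2 lc_e_rc_30_0 lc_e_rc_32_2 lc_e_Cert_tree lc_e_rc_30_0 lc_e_rc_32_2 lc_e_Cert_tree lc_e_rc_30_0) (@D3.rec (fun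 _ => (Cert rels S Gen.e)) lc_e_rc_25_3 lc_e_rc_19_1 lc_e_rc_33_2 lc_e_rc_30_0 lc_e_rc_32_2 lc_e_Cert_tree lc_e_rc_30_0 lc_e_rc_25_3 lc_e_rc_19_1 lc_e_rc_33_2 lc_e_rc_30_0 lc_e_rc_12_1 lc_e_rc_19_1 lc_e_rc_30_0 lc_e_rc_32_2 lc_e_rc_30_0 lc_e_rc_32_2 lc_e_rc_25_3 lc_e_rc_19_1 lc_e_rc_33_2 lc_e_rc_25_3 lc_e_rc_19_1 lc_e_rc_33_2 lc_e_Cert_tree lc_e_rc_19_1 lc_e_rc_19_1 lc_e_rc_19_1 lc_e_rc_33_2 lc_e_rc_32_2 lc_e_rc_33_2 lc_e_rc_30_0 lc_e_rc_25_3) (@D3.rec (fun _ => (Cert rels S Gen.e)) lc_e_rc_19_1 lc_e_rc_33_2 lc_e_rc_12_1 lc_e_rc_12_3 lc_e_rc_19_1 lc_e_rc_30_0 lc_e_rc_25_3 lc_e_rc_12_1 lc_e_rc_19_1 lc_e_rc_31_2 lc_e_rc_19_1 lc_e_rc_4_1 lc_e_rc_31_2 lc_e_rc_25_3 lc_e_rc_12_1 lc_e_rc_19_1 lc_e_rc_34_0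 lc_e_rc_12_1 lc_e_rc_19_1 lc_e_rc_31_2 lc_e_rc_19_1 lc_e_rc_4_1 lc_e_rc_31_2 lc_e_rc_30_0 lc_e_rc_4_1 lc_e_Cert_tree lc_e_rc_30_0 lc_e_rc_31_0 lc_e_rc_25_3 lc_e_rc_31_2 lc_e_rc_31_2 lc_e_Cert_tree) (@D3.rec (fun _ => (Cert rels S Gen.e)) lc_e_rc_30_0 lc_e_rc_32_2 lc_e_Cert_tree lc_e_rc_30_0 lc_e_rc_32_2 lc_e_Cert_tree lc_e_rc_30_0 lc_e_rc_19_1 lc_e_rc_33_2 lc_e_rc_25_3 lc_e_rc_33_2 lc_e_rc_19_1 lc_e_rc_33_2 lc_e_rc_30_0 lc_e_rc_32_2 lc_e_rc_19_1 lc_e_rc_33_2 lc_e_rc_4_1 lc_e_rc_4_1 lc_e_rc_32_2 lc_e_rc_33_2 lc_e_rc_4_1 lc_e_rc_31_2 lc_e_rc_19_1 lc_e_rc_30_0 lc_e_rc_32_2 lc_e_rc_30_0 lc_e_rc_31_2 lc_e_rc_30_0 lc_e_rc_25_3 lc_e_rc_19_1 lc_e_rc_33_2) (@D3.rec (fun _ => (Cert rels S Gen.e)) lc_e_rc_19_1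 lc_e_rc_33_2 lc_e_rc_32_2 lc_e_rc_19_1 lc_e_rc_33_2 lc_e_rc_19_1 lc_e_rc_33_2 lc_e_rc_33_2 lc_e_rc_19_1 lc_e_rc_33_2 lc_e_rc_31_2 lc_e_rc_33_2 lc_e_rc_4_1 lc_e_rc_32_2 lc_e_rc_33_2 lc_e_rc_33_2 lc_e_rc_30_0 lc_e_rc_31_2 lc_e_rc_32_2 lc_e_rc_32_2 lc_e_rc_33_2 lc_e_rc_4_3 lc_e_rc_33_2 lc_e_rc_30_0 lc_e_rc_32_2 lc_e_rc_25_1 lc_e_rc_33_2 lc_e_rc_19_1 lc_e_rc_4_1 lc_e_rc_33_2 lc_e_rc_33_2 lc_e_rc_31_2) (@D3.rec (fun _ => (Cert rels S Gen.e)) lc_e_rc_32_2 lc_e_rc_4_1 lc_e_rc_32_2 lc_e_rc_33_2 lc_e_rc_30_0 lc_e_rc_32_2 lc_e_rc_30_0 lc_e_rc_25_3 lc_e_rc_19_1 lc_e_rc_33_2 lc_e_rc_32_2 lc_e_rc_25_3 lc_e_rc_19_1 lc_e_rc_33_2 lc_e_rc_30_0 lc_e_rc_19_1 lc_e_rc_19_1 lc_e_rc_31_2 lc_e_rc_30_0 lc_e_rc_25_3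 lc_e_rc_19_1 lc_e_rc_33_2 lc_e_rc_12_1 lc_e_rc_19_1 lc_e_rc_32_2 lc_e_rc_30_0 lc_e_rc_31_2 lc_e_rc_4_1 lc_e_rc_33_2 lc_e_rc_33_2 lc_e_rc_4_1 lc_e_rc_30_0) (@D3.rec (fun _ => (Cert rels S Gen.e)) lc_e_rc_32_2 lc_e_rc_31_2 lc_e_Cert_tree lc_e_rc_30_0 lc_e_rc_32_2 lc_e_rc_30_0 lc_e_rc_25_3 lc_e_rc_19_1 lc_e_rc_33_2 lc_e_Cert_tree lc_e_rc_30_0 lc_e_rc_25_3 lc_e_rc_19_1 lc_e_rc_33_2 lc_e_rc_30_0 lc_e_rc_25_3 lc_e_rc_12_1 lc_e_Cert_tree lc_e_rc_19_1 lc_e_rc_33_2 lc_e_rc_12_1 lc_e_rc_19_1 lc_e_rc_4_1 lc_e_rc_12_1 lc_e_rc_25_3 lc_e_rc_19_1 lc_e_rc_33_2 lc_e_rc_19_1 lc_e_rc_30_0 lc_e_rc_25_3 lc_e_rc_31_2 lc_e_rc_31_2) (@D3.rec (fun _ => (Cert rels S Gen.e)) lc_e_rc_12_1 lc_e_rc_19_1 lc_e_rc_32_2 lc_e_rc_30_0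 lc_e_rc_25_3 lc_e_rc_19_1 lc_e_rc_33_2 lc_e_rc_30_0 lc_e_rc_12_1 lc_e_rc_19_1 lc_e_rc_33_2 lc_e_rc_12_1 lc_e_rc_12_1 lc_e_rc_19_1 lc_e_rc_12_1 lc_e_rc_32_2 lc_e_rc_30_0 lc_e_rc_32_2 lc_e_rc_4_1 lc_e_rc_32_2 lc_e_rc_33_2 lc_e_rc_33_2 lc_e_rc_33_2 lc_e_rc_30_0 lc_e_rc_32_2 lc_e_rc_30_0 lc_e_rc_32_2 lc_e_rc_30_0 lc_e_rc_32_2 lc_e_rc_25_3 lc_e_rc_19_1 lc_e_rc_33_2)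
def ce_e_18 : D2 → D3 → (Cert rels S Gen.e) := @D2.rec (fun _ => D3 → (Cert rels S Gen.e)) (@D3.rec (fun _ => (Cert rels S Gen.e)) lc_e_rc_30_0 lc_e_rc_25_3 lc_e_rc_19_1 lc_e_rc_33_2 lc_e_rc_25_3 lc_e_rc_4_1 lc_e_Cert_tree lc_e_rc_19_1 lc_e_rc_19_1 lc_e_rc_33_2 lc_e_rc_19_1 lc_e_rc_31_2 lc_e_rc_19_1 lc_e_rc_4_1 lc_e_rc_25_3 lc_e_rc_33_2 lc_e_rc_30_0 lc_e_rc_19_1 lc_e_rc_33_2 lc_e_rc_12_1 lc_e_rc_19_1 lc_e_rc_30_0 lc_e_rc_25_3 lc_e_rc_12_1 lc_e_rc_19_3 lc_e_rc_31_2 lc_e_rc_19_1 lc_e_rc_4_1 lc_e_rc_31_2 lc_e_rc_19_1 lc_e_rc_30_1 lc_e_rc_12_1) (@D3.rec (fun _ => (Cert rels S Gen.e)) lc_e_rc_19_3 lc_e_rc_12_1 lc_e_rc_30_0 lc_e_rc_4_1 lc_e_rc_19_1 lc_e_rc_31_2 lc_e_rc_19_1 lc_e_rc_34_2 lc_e_rc_31_2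 lc_e_rc_19_1 lc_e_rc_33_2 lc_e_rc_25_3 lc_e_rc_19_1 lc_e_rc_33_2 lc_e_rc_25_1 lc_e_rc_30_0 lc_e_rc_32_2 lc_e_rc_25_3 lc_e_rc_4_1 lc_e_rc_4_1 lc_e_rc_30_0 lc_e_rc_32_2 lc_e_Cert_tree lc_e_rc_30_0 lc_e_rc_25_3 lc_e_rc_19_1 lc_e_rc_33_2 lc_e_Cert_tree lc_e_rc_31_2 lc_e_rc_32_2 lc_e_rc_33_2 lc_e_Cert_tree) (@D3.rec (fun _ => (Cert rels S Gen.e)) lc_e_rc_30_0 lc_e_rc_25_3 lc_e_rc_19_1 lc_e_rc_33_2 lc_e_rc_30_0 lc_e_rc_12_1 lc_e_rc_19_1 lc_e_rc_12_1 lc_e_rc_19_1 lc_e_rc_4_1 lc_e_rc_33_2 lc_e_rc_32_2 lc_e_rc_32_2 lc_e_rc_33_2 lc_e_rc_33_2 lc_e_rc_25_3 lc_e_rc_31_2 lc_e_rc_31_2 lc_e_rc_19_1 lc_e_rc_25_3 lc_e_rc_19_1 lc_e_rc_33_2 lc_e_rc_19_1 lc_e_rc_33_2 lc_e_rc_31_2 lc_e_rc_34_2 lc_e_rc_33_2 lc_e_rc_33_2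 lc_e_rc_30_0 lc_e_rc_32_2 lc_e_rc_4_1 lc_e_rc_31_2) (@D3.rec (fun _ => (Cert rels S Gen.e)) lc_e_rc_31_2 lc_e_rc_4_3 lc_e_rc_30_0 lc_e_rc_31_0 lc_e_rc_30_0 lc_e_rc_32_2 lc_e_rc_25_3 lc_e_rc_19_1 lc_e_rc_33_2 lc_e_rc_25_3 lc_e_rc_19_1 lc_e_rc_33_2 lc_e_Cert_tree lc_e_rc_19_1 lc_e_rc_19_1 lc_e_rc_31_2 lc_e_rc_34_2 lc_e_rc_33_2 lc_e_rc_33_2 lc_e_rc_33_2 lc_e_rc_19_1 lc_e_rc_4_1 lc_e_rc_33_2 lc_e_rc_4_1 lc_e_rc_4_3 lc_e_rc_25_3 lc_e_rc_19_1 lc_e_rc_33_2 lc_e_rc_25_3 lc_e_rc_31_2 lc_e_rc_31_2 lc_e_Cert_tree) (@D3.rec (fun _ => (Cert rels S Gen.e)) lc_e_rc_19_1 lc_e_rc_19_1 lc_e_rc_25_3 lc_e_rc_33_2 lc_e_rc_30_0 lc_e_rc_12_1 lc_e_rc_19_1 lc_e_rc_32_2 lc_e_rc_25_3 lc_e_rc_32_2 lc_e_Cert_tree lc_e_rc_30_0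 lc_e_rc_32_2 lc_e_Cert_tree lc_e_rc_30_0 lc_e_rc_25_3 lc_e_rc_31_2 lc_e_rc_33_2 lc_e_rc_33_2 lc_e_rc_30_0 lc_e_rc_19_3 lc_e_rc_32_4 lc_e_rc_32_2 lc_e_Cert_tree lc_e_rc_30_0 lc_e_rc_32_2 lc_e_rc_30_0 lc_e_rc_25_3 lc_e_rc_19_1 lc_e_rc_33_2 lc_e_Cert_tree lc_e_rc_30_0) (@D3.rec (fun _ => (Cert rels S Gen.e)) lc_e_rc_19_1 lc_e_rc_33_2 lc_e_rc_30_0 lc_e_rc_12_1 lc_e_rc_19_1 lc_e_rc_4_1 lc_e_rc_33_2 lc_e_rc_12_1 lc_e_rc_4_3 lc_e_rc_19_1 lc_e_rc_32_2 lc_e_rc_12_1 lc_e_Cert_tree lc_e_rc_30_0 lc_e_rc_32_2 lc_e_rc_30_0 lc_e_rc_25_3 lc_e_rc_19_1 lc_e_rc_33_2 lc_e_rc_25_3 lc_e_rc_19_1 lc_e_rc_30_0 lc_e_rc_32_2 lc_e_rc_32_2 lc_e_rc_25_3 lc_e_rc_19_1 lc_e_rc_33_2 lc_e_rc_25_3 lc_e_rc_19_1 lc_e_rc_33_2 lc_e_Cert_tree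 lc_e_rc_19_1) (@D3.rec (fun _ => (Cert rels S Gen.e)) lc_e_rc_19_1 lc_e_rc_32_2 lc_e_rc_33_2 lc_e_rc_31_2 lc_e_rc_33_2 lc_e_rc_19_1 lc_e_rc_33_2 lc_e_rc_33_2 lc_e_rc_33_2 lc_e_rc_30_0 lc_e_rc_31_0 lc_e_rc_32_2 lc_e_rc_19_1 lc_e_rc_33_2 lc_e_rc_30_0 lc_e_rc_32_2 lc_e_rc_33_2 lc_e_rc_4_1 lc_e_rc_19_1 lc_e_rc_19_1 lc_e_rc_25_3 lc_e_rc_19_1 lc_e_rc_33_2 lc_e_rc_33_2 lc_e_rc_33_2 lc_e_rc_19_1 lc_e_rc_4_3 lc_e_rc_19_1 lc_e_rc_4_3 lc_e_rc_4_1 lc_e_rc_4_3 lc_e_rc_19_1) (@D3.rec (fun _ => (Cert rels S Gen.e)) lc_e_Cert_tree lc_e_rc_30_0 lc_e_rc_25_3 lc_e_rc_32_2 lc_e_rc_33_2 lc_e_Cert_tree lc_e_rc_25_3 lc_e_rc_19_1 lc_e_Cert_tree lc_e_rc_30_0 lc_e_rc_25_3 lc_e_rc_32_2 lc_e_rc_33_2 lc_e_Cert_tree lc_e_rc_30_0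 lc_e_rc_25_3 lc_e_rc_19_1 lc_e_rc_33_2 lc_e_rc_30_0 lc_e_rc_12_1 lc_e_rc_19_1 lc_e_rc_12_1 lc_e_rc_25_3 lc_e_rc_31_2 lc_e_rc_34_2 lc_e_rc_30_0 lc_e_rc_25_3 lc_e_rc_31_2 lc_e_rc_31_2 lc_e_rc_25_3 lc_e_rc_12_1 lc_e_Cert_tree) (@D3.rec (fun _ => (Cert rels S Gen.e)) lc_e_rc_31_2 lc_e_rc_12_1 lc_e_rc_30_0 lc_e_rc_25_3 lc_e_rc_19_1 lc_e_rc_33_2 lc_e_rc_25_3 lc_e_rc_12_1 lc_e_Cert_tree lc_e_rc_31_2 lc_e_rc_19_1 lc_e_rc_12_1 lc_e_rc_25_3 lc_e_rc_31_2 lc_e_rc_34_2 lc_e_rc_33_2 lc_e_rc_31_2 lc_e_rc_33_2 lc_e_rc_34_2 lc_e_rc_33_2 lc_e_rc_19_1 lc_e_rc_33_2 lc_e_rc_19_1 lc_e_rc_30_0 lc_e_rc_25_3 lc_e_rc_32_2 lc_e_rc_19_1 lc_e_rc_19_1 lc_e_rc_4_1 lc_e_rc_45_31 lc_e_rc_31_2 lc_e_rc_30_0) (@D3.rec (fun _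 => (Cert rels S Gen.e)) lc_e_rc_4_1 lc_e_rc_25_3 lc_e_rc_19_1 lc_e_rc_33_2 lc_e_Cert_tree lc_e_rc_30_0 lc_e_rc_25_3 lc_e_rc_19_1 lc_e_rc_33_2 lc_e_rc_30_0 lc_e_rc_25_3 lc_e_rc_32_2 lc_e_Cert_tree lc_e_rc_19_1 lc_e_rc_4_1 lc_e_rc_33_2 lc_e_rc_30_0 lc_e_rc_12_1 lc_e_rc_25_3 lc_e_rc_19_1 lc_e_rc_4_1 lc_e_rc_12_1 lc_e_rc_25_3 lc_e_rc_19_1 lc_e_rc_33_2 lc_e_rc_25_3 lc_e_rc_19_1 lc_e_rc_33_2 lc_e_Cert_tree lc_e_rc_19_1 lc_e_Cert_tree lc_e_rc_25_3) (@D3.rec (fun _ => (Cert rels S Gen.e)) lc_e_rc_19_1 lc_e_rc_30_0 lc_e_rc_33_2 lc_e_rc_19_1 lc_e_rc_33_2 lc_e_rc_12_1 lc_e_rc_19_1 lc_e_rc_19_1 lc_e_rc_12_1 lc_e_rc_25_3 lc_e_rc_4_1 lc_e_rc_32_2 lc_e_rc_19_1 lc_e_rc_31_2 lc_e_rc_12_1 lc_e_rc_32_0 lc_e_rc_31_2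 lc_e_rc_32_2 lc_e_rc_31_2 lc_e_rc_25_3 lc_e_rc_31_2 lc_e_rc_4_1 lc_e_rc_25_3 lc_e_rc_4_1 lc_e_rc_4_1 lc_e_rc_30_0 lc_e_rc_25_3 lc_e_rc_31_0 lc_e_rc_31_0 lc_e_Cert_tree lc_e_rc_25_3 lc_e_rc_31_2) (@D3.rec (fun _ => (Cert rels S Gen.e)) lc_e_rc_30_0 lc_e_rc_25_3 lc_e_rc_19_1 lc_e_rc_33_2 lc_e_rc_30_0 lc_e_rc_25_3 lc_e_rc_19_1 lc_e_rc_33_2 lc_e_rc_30_0 lc_e_rc_12_1 lc_e_rc_19_1 lc_e_rc_31_2 lc_e_rc_19_1 lc_e_rc_25_3 lc_e_rc_19_1 lc_e_rc_33_2 lc_e_rc_19_1 lc_e_rc_4_1 lc_e_rc_33_2 lc_e_rc_4_1 lc_e_rc_31_2 lc_e_rc_25_3 lc_e_rc_19_1 lc_e_rc_33_2 lc_e_rc_25_3 lc_e_rc_32_2 lc_e_rc_31_2 lc_e_rc_25_3 lc_e_rc_32_2 lc_e_Cert_tree lc_e_rc_19_1 lc_e_rc_19_1) (@D3.rec (fun _ => (Cert rels S Gen.e)) lc_e_rc_33_2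 lc_e_rc_19_1 lc_e_rc_31_2 lc_e_rc_33_2 lc_e_rc_31_2 lc_e_rc_30_0 lc_e_rc_33_2 lc_e_rc_31_0 lc_e_rc_4_1 lc_e_rc_33_2 lc_e_rc_4_1 lc_e_rc_33_2 lc_e_rc_33_2 lc_e_rc_25_3 lc_e_rc_19_1 lc_e_rc_33_2 lc_e_rc_25_3 lc_e_rc_12_1 lc_e_Cert_tree lc_e_rc_19_1 lc_e_rc_32_2 lc_e_rc_25_3 lc_e_rc_31_2 lc_e_rc_19_1 lc_e_rc_32_2 lc_e_rc_19_1 lc_e_rc_25_3 lc_e_rc_12_1 lc_e_Cert_tree lc_e_rc_19_1 lc_e_rc_12_1 lc_e_rc_33_2) (@D3.rec (fun _ => (Cert rels S Gen.e)) lc_e_rc_31_2 lc_e_rc_31_2 lc_e_rc_4_1 lc_e_rc_25_3 lc_e_rc_32_2 lc_e_rc_33_2 lc_e_rc_31_2 lc_e_rc_30_0 lc_e_rc_25_3 lc_e_rc_19_1 lc_e_rc_33_2 lc_e_rc_25_3 lc_e_rc_12_1 lc_e_Cert_tree lc_e_rc_19_1 lc_e_rc_30_0 lc_e_rc_25_3 lc_e_rc_12_1 lc_e_Cert_tree lc_e_rc_25_3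 lc_e_rc_19_1 lc_e_rc_4_1 lc_e_rc_4_1 lc_e_Cert_tree lc_e_rc_12_1 lc_e_rc_30_0 lc_e_rc_33_2 lc_e_rc_12_1 lc_e_rc_4_1 lc_e_Cert_tree lc_e_rc_19_1 lc_e_rc_25_3) (@D3.rec (fun _ => (Cert rels S Gen.e)) lc_e_rc_12_1 lc_e_Cert_tree lc_e_rc_31_2 lc_e_rc_47_24 lc_e_rc_33_2 lc_e_rc_12_1 lc_e_rc_34_0 lc_e_rc_19_1 lc_e_rc_4_1 lc_e_rc_12_1 lc_e_rc_12_1 lc_e_rc_25_3 lc_e_rc_33_2 lc_e_rc_4_1 lc_e_rc_32_2 lc_e_rc_33_2 lc_e_Cert_tree lc_e_rc_33_2 lc_e_rc_25_3 lc_e_rc_32_2 lc_e_rc_33_2 lc_e_rc_25_3 lc_e_rc_19_1 lc_e_rc_33_2 lc_e_rc_25_3 lc_e_rc_19_1 lc_e_rc_33_2 lc_e_Cert_tree lc_e_rc_31_2 lc_e_rc_19_1 lc_e_rc_25_3 lc_e_rc_4_1) (@D3.rec (fun _ => (Cert rels S Gen.e)) lc_e_Cert_tree lc_e_rc_19_1 lc_e_rc_25_3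 lc_e_Cert_tree lc_e_rc_4_1 lc_e_rc_30_0 lc_e_rc_33_2 lc_e_rc_19_1 lc_e_rc_25_3 lc_e_rc_31_2 lc_e_rc_34_2 lc_e_rc_12_1 lc_e_rc_19_1 lc_e_rc_12_1 lc_e_rc_4_1 lc_e_rc_34_2 lc_e_rc_19_1 lc_e_rc_33_0 lc_e_rc_31_2 lc_e_rc_12_1 lc_e_rc_25_1 lc_e_rc_31_2 lc_e_rc_19_1 lc_e_rc_46_32 lc_e_rc_31_2 lc_e_rc_31_0 lc_e_rc_31_2 lc_e_rc_19_1 lc_e_rc_4_1 lc_e_Cert_tree lc_e_rc_19_1 lc_e_rc_25_3) (@D3.rec (fun _ => (Cert rels S Gen.e)) lc_e_rc_19_1 lc_e_rc_33_2 lc_e_Cert_tree lc_e_rc_4_1 lc_e_rc_25_3 lc_e_rc_19_1 lc_e_rc_33_2 lc_e_rc_30_0 lc_e_rc_12_1 lc_e_rc_31_2 lc_e_Cert_tree lc_e_rc_19_1 lc_e_rc_30_0 lc_e_rc_33_2 lc_e_rc_33_2 lc_e_rc_30_0 lc_e_rc_12_1 lc_e_rc_12_1 lc_e_rc_34_0 lc_e_rc_19_1 lc_e_rc_4_1 lc_e_rc_12_1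 lc_e_rc_32_2 lc_e_rc_33_2 lc_e_Cert_tree lc_e_rc_31_2 lc_e_Cert_tree lc_e_rc_19_1 lc_e_rc_31_2 lc_e_rc_32_2 lc_e_rc_4_1 lc_e_rc_32_2) (@D3.rec (fun _ => (Cert rels S Gen.e)) lc_e_rc_33_2 lc_e_Cert_tree lc_e_rc_31_2 lc_e_rc_25_3 lc_e_rc_32_2 lc_e_rc_31_0 lc_e_rc_25_3 lc_e_rc_19_1 lc_e_rc_33_2 lc_e_Cert_tree lc_e_rc_19_1 lc_e_Cert_tree lc_e_rc_31_2 lc_e_rc_19_1 lc_e_rc_30_0 lc_e_rc_33_2 lc_e_rc_34_2 lc_e_rc_25_1 lc_e_Cert_tree lc_e_rc_19_1 lc_e_Cert_tree lc_e_rc_31_2 lc_e_rc_30_0 lc_e_rc_33_2 lc_e_rc_32_2 lc_e_rc_25_1 lc_e_rc_33_2 lc_e_rc_33_2 lc_e_Cert_tree lc_e_rc_30_0 lc_e_rc_25_3 lc_e_rc_31_2) (@D3.rec (fun _ => (Cert rels S Gen.e)) lc_e_rc_33_2 lc_e_rc_30_0 lc_e_rc_25_3 lc_e_rc_31_2 lc_e_Cert_tree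 lc_e_rc_32_4 lc_e_rc_32_2 lc_e_rc_25_1 lc_e_rc_33_2 lc_e_rc_30_0 lc_e_rc_19_1 lc_e_rc_33_2 lc_e_rc_12_1 lc_e_rc_32_2 lc_e_rc_19_1 lc_e_rc_30_0 lc_e_rc_12_1 lc_e_rc_19_1 lc_e_rc_32_2 lc_e_rc_12_1 lc_e_rc_4_1 lc_e_rc_12_1 lc_e_rc_4_3 lc_e_rc_33_2 lc_e_rc_30_0 lc_e_rc_25_3 lc_e_rc_34_2 lc_e_rc_33_2 lc_e_rc_25_3 lc_e_rc_31_2 lc_e_Cert_tree lc_e_rc_19_1) (@D3.rec (fun _ => (Cert rels S Gen.e)) lc_e_rc_25_3 lc_e_rc_25_3 lc_e_rc_34_2 lc_e_rc_33_2 lc_e_rc_33_2 lc_e_Cert_tree lc_e_rc_19_1 lc_e_Cert_tree lc_e_rc_12_1 lc_e_rc_30_0 lc_e_rc_33_2 lc_e_rc_33_2 lc_e_rc_19_1 lc_e_rc_31_0 lc_e_rc_31_0 lc_e_rc_33_2 lc_e_rc_19_1 lc_e_rc_4_1 lc_e_rc_33_2 lc_e_rc_4_1 lc_e_rc_19_1 lc_e_rc_4_3 lc_e_rc_4_3 lc_e_rc_30_0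 lc_e_rc_12_1 lc_e_rc_12_1 lc_e_Cert_tree lc_e_rc_31_2 lc_e_rc_33_2 lc_e_rc_30_0 lc_e_rc_33_2 lc_e_rc_31_2) (@D3.rec (fun _ => (Cert rels S Gen.e)) lc_e_rc_25_3 lc_e_rc_30_0 lc_e_rc_25_3 lc_e_rc_12_1 lc_e_Cert_tree lc_e_rc_33_2 lc_e_rc_30_0 lc_e_rc_12_1 lc_e_rc_12_1 lc_e_rc_25_3 lc_e_rc_19_1 lc_e_rc_4_1 lc_e_rc_12_1 lc_e_rc_31_2 lc_e_rc_34_2 lc_e_rc_25_3 lc_e_rc_12_1 lc_e_Cert_tree lc_e_rc_31_2 lc_e_rc_19_1 lc_e_Cert_tree lc_e_rc_12_1 lc_e_rc_30_0 lc_e_rc_33_2 lc_e_rc_25_3 lc_e_rc_12_1 lc_e_Cert_tree lc_e_rc_31_2 lc_e_rc_19_1 lc_e_Cert_tree lc_e_rc_12_1 lc_e_rc_30_0) (@D3.rec (fun _ => (Cert rels S Gen.e)) lc_e_rc_33_2 lc_e_rc_31_2 lc_e_rc_34_2 lc_e_rc_31_2 lc_e_rc_34_2 lc_e_rc_33_2 lc_e_rc_45_58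 lc_e_rc_34_2 lc_e_rc_34_2 lc_e_rc_19_1 lc_e_rc_4_1 lc_e_rc_33_0 lc_e_rc_33_2 lc_e_rc_25_1 lc_e_rc_31_0 lc_e_Cert_tree lc_e_rc_19_1 lc_e_rc_30_0 lc_e_rc_25_3 lc_e_rc_32_2 lc_e_Cert_tree lc_e_rc_19_1 lc_e_rc_4_1 lc_e_rc_46_32 lc_e_Cert_tree lc_e_rc_32_0 lc_e_rc_30_0 lc_e_rc_33_2 lc_e_rc_4_1 lc_e_rc_4_1 lc_e_rc_12_1 lc_e_rc_25_3)
def ce_e_19 : D2 → D3 → (Cert rels S Gen.e) := @D2.rec (fun _ => D3 → (Cert rels S Gen.e)) (@D3.rec (fun _ => (Cert rels S Gen.e)) lc_e_rc_4_1 lc_e_Cert_tree lc_e_rc_19_1 lc_e_Cert_tree lc_e_rc_19_1 lc_e_rc_30_0 lc_e_rc_33_2 lc_e_rc_30_0 lc_e_rc_33_2 lc_e_rc_31_2 lc_e_rc_33_2 lc_e_rc_12_1 lc_e_rc_31_0 lc_e_rc_32_2 lc_e_rc_4_1 lc_e_rc_33_2 lc_e_rc_25_1 lc_e_rc_31_2 lc_e_rc_32_0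 lc_e_rc_33_2 lc_e_Cert_tree lc_e_rc_4_1 lc_e_rc_12_1 lc_e_rc_12_1 lc_e_Cert_tree lc_e_rc_31_0 lc_e_rc_30_0 lc_e_rc_33_2 lc_e_rc_31_2 lc_e_rc_25_3 lc_e_rc_12_1 lc_e_Cert_tree) (@D3.rec (fun _ => (Cert rels S Gen.e)) lc_e_rc_19_1 lc_e_rc_12_1 lc_e_rc_25_3 lc_e_rc_31_2 lc_e_rc_19_1 lc_e_rc_45_49 lc_e_rc_12_1 lc_e_Cert_tree lc_e_rc_19_1 lc_e_rc_31_2 lc_e_Cert_tree lc_e_rc_19_1 lc_e_Cert_tree lc_e_rc_33_2 lc_e_Cert_tree lc_e_rc_33_2 lc_e_rc_30_0 lc_e_rc_33_2 lc_e_rc_4_1 lc_e_Cert_tree lc_e_rc_31_2 lc_e_rc_19_1 lc_e_Cert_tree lc_e_rc_19_1 lc_e_rc_30_0 lc_e_rc_33_2 lc_e_rc_25_3 lc_e_rc_31_2 lc_e_rc_33_2 lc_e_Cert_tree lc_e_rc_12_1 lc_e_rc_30_0) (@D3.rec (fun _ => (Cert rels S Gen.e)) lc_e_rc_33_2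 lc_e_rc_31_2 lc_e_Cert_tree lc_e_rc_33_2 lc_e_rc_25_3 lc_e_rc_12_1 lc_e_Cert_tree lc_e_rc_19_1 lc_e_rc_19_1 lc_e_Cert_tree lc_e_rc_12_1 lc_e_rc_30_0 lc_e_rc_33_2 lc_e_rc_4_1 lc_e_rc_4_1 lc_e_Cert_tree lc_e_rc_25_3 lc_e_rc_12_1 lc_e_rc_30_0 lc_e_rc_33_2 lc_e_rc_31_2 lc_e_Cert_tree lc_e_rc_4_1 lc_e_rc_30_0 lc_e_rc_33_2 lc_e_rc_33_2 lc_e_rc_30_0 lc_e_rc_33_2 lc_e_Cert_tree lc_e_rc_12_1 lc_e_rc_30_0 lc_e_rc_33_2) (@D3.rec (fun _ => (Cert rels S Gen.e)) lc_e_rc_12_1 lc_e_rc_34_0 lc_e_rc_4_1 lc_e_Cert_tree lc_e_rc_33_2 lc_e_rc_30_0 lc_e_rc_33_2 lc_e_Cert_tree lc_e_rc_33_2 lc_e_Cert_tree lc_e_rc_19_1 lc_e_Cert_tree lc_e_rc_19_1 lc_e_rc_30_0 lc_e_rc_33_2 lc_e_rc_31_2 lc_e_rc_34_2 lc_e_rc_25_3 lc_e_Cert_tree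 lc_e_rc_4_1 lc_e_rc_30_0 lc_e_rc_33_2 lc_e_Cert_tree lc_e_rc_30_0 lc_e_rc_33_2 lc_e_rc_33_2 lc_e_rc_31_2 lc_e_rc_34_2 lc_e_rc_12_1 lc_e_rc_19_1 lc_e_rc_46_39 lc_e_rc_4_1) (@D3.rec (fun _ => (Cert rels S Gen.e)) lc_e_rc_34_2 lc_e_rc_32_2 lc_e_rc_32_4 lc_e_rc_32_2 lc_e_rc_31_2 lc_e_rc_4_1 lc_e_rc_4_1 lc_e_rc_32_0 lc_e_rc_30_0 lc_e_rc_33_2 lc_e_Cert_tree lc_e_rc_19_1 lc_e_rc_30_0 lc_e_rc_33_2 lc_e_Cert_tree lc_e_rc_19_1 lc_e_rc_34_2 lc_e_Cert_tree lc_e_rc_31_2 lc_e_rc_30_0 lc_e_rc_33_2 lc_e_rc_33_2 lc_e_rc_4_1 lc_e_rc_32_2 lc_e_rc_12_1 lc_e_rc_34_0 lc_e_rc_4_1 lc_e_rc_30_0 lc_e_rc_33_2 lc_e_rc_30_0 lc_e_rc_33_2 lc_e_rc_33_2) (@D3.rec (fun _ => (Cert rels S Gen.e)) lc_e_Cert_tree lc_e_rc_4_1 lc_e_rc_33_2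 lc_e_rc_30_0 lc_e_rc_33_2 lc_e_Cert_tree lc_e_rc_33_2 lc_e_Cert_tree lc_e_rc_19_1 lc_e_rc_30_0 lc_e_rc_33_2 lc_e_rc_30_0 lc_e_rc_33_2 lc_e_rc_31_2 lc_e_rc_33_2 lc_e_rc_30_0 lc_e_rc_33_2 lc_e_rc_30_0 lc_e_rc_33_2 lc_e_rc_33_2 lc_e_rc_33_2 lc_e_rc_30_0 lc_e_rc_25_3 lc_e_rc_32_2 lc_e_Cert_tree lc_e_rc_31_2 lc_e_rc_46_25 lc_e_Cert_tree lc_e_rc_31_2 lc_e_rc_30_0 lc_e_rc_33_2 lc_e_rc_33_2) (@D3.rec (fun _ => (Cert rels S Gen.e)) lc_e_rc_12_1 lc_e_rc_19_1 lc_e_rc_12_1 lc_e_rc_33_2 lc_e_rc_32_2 lc_e_rc_12_1 lc_e_rc_33_2 lc_e_rc_25_3 lc_e_rc_34_2 lc_e_Cert_tree lc_e_rc_34_2 lc_e_Cert_tree lc_e_rc_31_2 lc_e_rc_30_0 lc_e_rc_33_2 lc_e_Cert_tree lc_e_rc_34_2 lc_e_rc_30_0 lc_e_rc_33_2 lc_e_rc_30_0 lc_e_rc_33_2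 lc_e_rc_33_2 lc_e_rc_31_0 lc_e_rc_4_1 lc_e_rc_4_1 lc_e_rc_4_1 lc_e_Cert_tree lc_e_rc_12_1 lc_e_rc_12_1 lc_e_rc_30_0 lc_e_rc_33_2 lc_e_rc_31_2) (@D3.rec (fun _ => (Cert rels S Gen.e)) lc_e_rc_33_2 lc_e_rc_31_2 lc_e_rc_33_2 lc_e_rc_34_2 lc_e_rc_4_1 lc_e_rc_4_1 lc_e_rc_19_1 lc_e_Cert_tree lc_e_rc_12_1 lc_e_rc_30_0 lc_e_rc_33_2 lc_e_rc_4_1 lc_e_rc_32_2 lc_e_rc_12_1 lc_e_rc_25_3 lc_e_rc_4_1 lc_e_rc_34_2 lc_e_rc_19_1 lc_e_Cert_tree lc_e_rc_12_1 lc_e_rc_30_0 lc_e_rc_33_2 lc_e_Cert_tree lc_e_rc_30_0 lc_e_rc_33_2 lc_e_rc_33_2 lc_e_Cert_tree lc_e_rc_31_2 lc_e_rc_12_1 lc_e_rc_30_0 lc_e_rc_33_2 lc_e_rc_31_2) (@D3.rec (fun _ => (Cert rels S Gen.e)) lc_e_rc_30_0 lc_e_rc_33_2 lc_e_rc_33_2 lc_e_rc_31_2 lc_e_rc_33_2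 lc_e_rc_34_2 lc_e_rc_34_2 lc_e_rc_45_13 lc_e_rc_34_2 lc_e_rc_45_58 lc_e_rc_32_0 lc_e_rc_30_0 lc_e_rc_33_2 lc_e_rc_4_1 lc_e_Cert_tree lc_e_rc_33_2 lc_e_rc_30_0 lc_e_rc_33_2 lc_e_Cert_tree lc_e_rc_4_1 lc_e_rc_30_0 lc_e_rc_33_2 lc_e_rc_33_2 lc_e_rc_4_1 lc_e_rc_30_0 lc_e_rc_33_2 lc_e_rc_30_0 lc_e_rc_33_2 lc_e_rc_33_2 lc_e_rc_33_2 lc_e_rc_31_2 lc_e_rc_33_2) (@D3.rec (fun _ => (Cert rels S Gen.e)) lc_e_rc_4_3 lc_e_rc_33_2 lc_e_rc_4_1 lc_e_rc_31_2 lc_e_rc_30_0 lc_e_rc_33_2 lc_e_Cert_tree lc_e_rc_12_1 lc_e_rc_30_0 lc_e_rc_33_2 lc_e_rc_33_2 lc_e_rc_31_2 lc_e_rc_33_2 lc_e_Cert_tree lc_e_rc_12_1 lc_e_rc_30_0 lc_e_rc_33_2 lc_e_rc_12_1 lc_e_rc_25_3 lc_e_rc_34_0 lc_e_rc_4_1 lc_e_rc_30_0 lc_e_rc_33_2 lc_e_rc_30_0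 lc_e_rc_33_2 lc_e_rc_30_0 lc_e_rc_33_2 lc_e_rc_30_0 lc_e_rc_33_2 lc_e_rc_33_2 lc_e_rc_30_0 lc_e_rc_33_2) (@D3.rec (fun _ => (Cert rels S Gen.e)) lc_e_rc_31_2 lc_e_rc_30_0 lc_e_rc_33_2 lc_e_rc_33_2 lc_e_rc_31_2 lc_e_rc_30_0 lc_e_rc_33_2 lc_e_rc_33_2 lc_e_rc_30_0 lc_e_rc_33_2 lc_e_Cert_tree lc_e_rc_12_1 lc_e_rc_30_0 lc_e_rc_33_2 lc_e_Cert_tree lc_e_rc_30_0 lc_e_rc_33_2 lc_e_rc_33_2 lc_e_Cert_tree lc_e_rc_4_1 lc_e_rc_30_0 lc_e_rc_33_2 lc_e_rc_31_2 lc_e_rc_33_2 lc_e_rc_31_2 lc_e_rc_33_2 lc_e_rc_30_0 lc_e_rc_33_2 lc_e_rc_33_2 lc_e_rc_32_2 lc_e_rc_33_2 lc_e_rc_30_0) (@D3.rec (fun _ => (Cert rels S Gen.e)) lc_e_rc_33_2 lc_e_rc_33_2 lc_e_rc_30_0 lc_e_rc_33_2 lc_e_rc_33_2 lc_e_rc_30_0 lc_e_rc_33_2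 lc_e_rc_30_0 lc_e_rc_33_2 lc_e_rc_30_0 lc_e_rc_33_2 lc_e_rc_33_2 lc_e_rc_31_2 lc_e_rc_33_2 lc_e_rc_34_2 lc_e_Cert_tree lc_e_rc_30_0 lc_e_rc_33_2 lc_e_rc_33_2 lc_e_rc_30_0 lc_e_rc_33_2 lc_e_rc_33_2 lc_e_rc_32_2 lc_e_rc_34_2 lc_e_rc_4_1 lc_e_rc_4_1 lc_e_rc_46_32 lc_e_rc_33_2 lc_e_rc_33_2 lc_e_rc_4_1 lc_e_rc_33_2 lc_e_rc_30_0) (@D3.rec (fun _ => (Cert rels S Gen.e)) lc_e_rc_33_2 lc_e_rc_33_2 lc_e_rc_30_0 lc_e_rc_33_2 lc_e_rc_34_2 lc_e_rc_30_0 lc_e_rc_33_2 lc_e_rc_33_2 lc_e_rc_32_2 lc_e_rc_4_1 lc_e_rc_33_2 lc_e_rc_33_2 lc_e_rc_33_2 lc_e_rc_30_0 lc_e_rc_33_2 lc_e_rc_31_2 lc_e_rc_33_2 lc_e_rc_30_0 lc_e_rc_33_2 lc_e_rc_30_0 lc_e_rc_33_2 lc_e_rc_33_2 lc_e_rc_33_2 lc_e_rc_31_2 lc_e_rc_33_2 lc_e_rc_32_2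 lc_e_rc_33_2 lc_e_rc_33_2 lc_e_rc_32_2 lc_e_rc_4_1 lc_e_Cert_tree lc_e_rc_33_2) (@D3.rec (fun _ => (Cert rels S Gen.e)) lc_e_rc_30_0 lc_e_rc_33_2 lc_e_rc_4_1 lc_e_rc_30_0 lc_e_rc_33_2 lc_e_rc_33_2 lc_e_rc_12_1 lc_e_rc_33_2 lc_e_Cert_tree lc_e_rc_34_2 lc_e_rc_30_0 lc_e_rc_33_2 lc_e_rc_30_0 lc_e_rc_33_2 lc_e_rc_33_2 lc_e_rc_30_0 lc_e_rc_33_2 lc_e_rc_33_2 lc_e_rc_33_2 lc_e_rc_4_3 lc_e_Cert_tree lc_e_rc_4_1 lc_e_rc_30_0 lc_e_rc_33_2 lc_e_rc_31_2 lc_e_rc_33_2 lc_e_rc_31_2 lc_e_rc_33_2 lc_e_rc_32_2 lc_e_rc_33_2 lc_e_rc_34_2 lc_e_rc_34_2) (@D3.rec (fun _ => (Cert rels S Gen.e)) lc_e_Cert_tree lc_e_rc_4_1 lc_e_Cert_tree lc_e_rc_30_0 lc_e_rc_33_2 lc_e_rc_33_2 lc_e_rc_4_1 lc_e_rc_33_2 lc_e_Cert_tree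 lc_e_rc_30_0 lc_e_rc_33_2 lc_e_rc_33_2 lc_e_rc_30_0 lc_e_rc_33_2 lc_e_rc_33_2 lc_e_rc_32_2 lc_e_rc_30_0 lc_e_rc_33_2 lc_e_rc_31_2 lc_e_rc_33_2 lc_e_rc_31_2 lc_e_rc_33_2 lc_e_rc_33_2 lc_e_rc_32_2 lc_e_rc_33_2 lc_e_rc_34_2 lc_e_rc_34_2 lc_e_rc_47_31 lc_e_rc_33_2 lc_e_rc_4_1 lc_e_rc_30_0 lc_e_rc_33_2) (@D3.rec (fun _ => (Cert rels S Gen.e)) lc_e_rc_33_2 lc_e_rc_30_0 lc_e_rc_33_2 lc_e_rc_33_2 lc_e_rc_19_1 lc_e_rc_33_2 lc_e_rc_33_2 lc_e_rc_32_2 lc_e_rc_4_3 lc_e_rc_33_2 lc_e_rc_4_1 lc_e_rc_33_2 lc_e_rc_30_0 lc_e_rc_33_2 lc_e_rc_33_2 lc_e_rc_32_2 lc_e_rc_33_2 lc_e_rc_30_0 lc_e_rc_33_2 lc_e_rc_33_2 lc_e_rc_34_0 lc_e_rc_33_2 lc_e_rc_33_2 lc_e_rc_33_2 lc_e_rc_33_2 lc_e_rc_32_2 lc_e_rc_33_2 lc_e_rc_31_2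 lc_e_rc_33_2 lc_e_rc_33_2 lc_e_rc_32_2 lc_e_rc_33_2) (@D3.rec (fun _ => (Cert rels S Gen.e)) lc_e_rc_32_2 lc_e_rc_33_2 lc_e_rc_30_0 lc_e_rc_33_2 lc_e_rc_33_2 lc_e_rc_30_0 lc_e_rc_33_2 lc_e_rc_33_2 lc_e_rc_32_2 lc_e_rc_30_0 lc_e_rc_33_2 lc_e_rc_33_2 lc_e_rc_31_2 lc_e_rc_33_2 lc_e_rc_32_2 lc_e_rc_33_2 lc_e_rc_33_2 lc_e_rc_12_1 lc_e_rc_32_2 lc_e_rc_33_2 lc_e_rc_32_2 lc_e_rc_33_2 lc_e_rc_32_2 lc_e_rc_33_2 lc_e_rc_33_2 lc_e_rc_33_2 lc_e_rc_32_2 lc_e_rc_33_2 lc_e_rc_34_2 lc_e_rc_34_2 lc_e_rc_30_0 lc_e_rc_33_2) (@D3.rec (fun _ => (Cert rels S Gen.e)) lc_e_rc_33_2 lc_e_rc_32_2 lc_e_rc_33_2 lc_e_rc_12_1 lc_e_rc_45_76 lc_e_rc_4_1 lc_e_rc_32_2 lc_e_rc_33_2 lc_e_rc_32_2 lc_e_rc_33_2 lc_e_rc_33_2 lc_e_rc_32_2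 lc_e_rc_32_2 lc_e_rc_32_2 lc_e_rc_33_2 lc_e_rc_31_2 lc_e_rc_33_2 lc_e_rc_32_2 lc_e_rc_33_2 lc_e_rc_33_2 lc_e_rc_32_2 lc_e_rc_32_2 lc_e_rc_33_2 lc_e_rc_32_2 lc_e_rc_32_2 lc_e_rc_4_1 lc_e_rc_30_0 lc_e_rc_33_2 lc_e_rc_33_2 lc_e_rc_33_2 lc_e_rc_19_1 lc_e_rc_30_0) (@D3.rec (fun _ => (Cert rels S Gen.e)) lc_e_rc_33_2 lc_e_rc_33_2 lc_e_rc_33_2 lc_e_rc_33_0 lc_e_rc_33_2 lc_e_rc_32_2 lc_e_rc_4_3 lc_e_rc_30_0 lc_e_rc_33_2 lc_e_rc_33_2 lc_e_rc_31_2 lc_e_rc_33_2 lc_e_rc_32_2 lc_e_rc_33_2 lc_e_rc_32_2 lc_e_rc_34_2 lc_e_rc_30_0 lc_e_rc_33_2 lc_e_rc_30_0 lc_e_rc_33_2 lc_e_rc_33_2 lc_e_rc_31_2 lc_e_rc_30_0 lc_e_rc_33_2 lc_e_rc_33_2 lc_e_rc_32_2 lc_e_rc_33_2 lc_e_rc_12_1 lc_e_rc_33_2 lc_e_rc_31_2 lc_e_rc_33_2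 lc_e_rc_32_2) (@D3.rec (fun _ => (Cert rels S Gen.e)) lc_e_rc_33_2 lc_e_rc_32_2 lc_e_rc_31_2 lc_e_rc_34_2 lc_e_rc_32_2 lc_e_rc_33_2 lc_e_rc_19_1 lc_e_rc_33_2 lc_e_rc_32_2 lc_e_rc_32_2 lc_e_rc_32_2 lc_e_rc_32_2 lc_e_rc_32_2 lc_e_rc_33_2 lc_e_rc_32_2 lc_e_rc_32_2 lc_e_rc_33_2 lc_e_rc_32_2 lc_e_rc_32_2 lc_e_rc_32_2 lc_e_rc_32_2 lc_e_rc_32_2 lc_e_rc_32_2 lc_e_rc_33_2 lc_e_rc_32_2 lc_e_rc_12_1 lc_e_rc_32_2 lc_e_rc_33_2 lc_e_rc_32_2 lc_e_rc_33_2 lc_e_rc_32_2 lc_e_rc_33_2) (@D3.rec (fun _ => (Cert rels S Gen.e)) lc_e_rc_12_1 lc_e_rc_33_2 lc_e_rc_31_2 lc_e_rc_31_2 lc_e_rc_12_1 lc_e_rc_32_2 lc_e_rc_32_2 lc_e_rc_32_2 lc_e_rc_32_2 lc_e_rc_32_2 lc_e_rc_34_2 lc_e_rc_33_2 lc_e_rc_12_1 lc_e_rc_32_2 lc_e_rc_32_2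 lc_e_rc_32_2 lc_e_rc_32_2 lc_e_rc_32_2 lc_e_rc_33_2 lc_e_rc_32_2 lc_e_rc_32_2 lc_e_rc_31_2 lc_e_rc_33_2 lc_e_rc_19_1 lc_e_rc_32_2 lc_e_rc_33_2 lc_e_rc_32_2 lc_e_rc_12_1 lc_e_rc_32_2 lc_e_rc_33_2 lc_e_rc_19_1 lc_e_rc_33_2) (@D3.rec (fun _ => (Cert rels S Gen.e)) lc_e_rc_32_2 lc_e_rc_34_2 lc_e_rc_33_2 lc_e_rc_33_2 lc_e_rc_31_2 lc_e_rc_33_2 lc_e_rc_12_1 lc_e_rc_19_1 lc_e_rc_34_2 lc_e_rc_33_2 lc_e_rc_31_2 lc_e_rc_31_0 lc_e_rc_32_2 lc_e_rc_4_1 lc_e_rc_12_1 lc_e_rc_12_1 lc_e_rc_31_2 lc_e_rc_34_2 lc_e_rc_32_2 lc_e_rc_31_0 lc_e_rc_31_2 lc_e_rc_34_2 lc_e_rc_19_1 lc_e_rc_31_2 lc_e_rc_32_2 lc_e_rc_12_1 lc_e_rc_4_1 lc_e_rc_12_1 lc_e_rc_30_1 lc_e_rc_12_1 lc_e_rc_30_1 lc_e_rc_47_24)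
def ce_e : Pt → (Cert rels S Gen.e) := @Pt.rec (fun _ => (Cert rels S Gen.e)) (@D1.rec (fun _ => D2 → D3 → (Cert rels S Gen.e)) ce_e_0 ce_e_1 ce_e_2 ce_e_3 ce_e_4 ce_e_5 ce_e_6 ce_e_7 ce_e_8 ce_e_9 ce_e_10 ce_e_11 ce_e_12 ce_e_13 ce_e_14 ce_e_15 ce_e_16 ce_e_17 ce_e_18 ce_e_19)
def isSeed_e (p : Pt) : Bool := false

end

end Cfsg.Agent.Helper28.S1685
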