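import Cfsg.Agent.Lib.Helper28.S1685.Tree

set_option autoImplicit false
set_option maxRecDepth 100000
set_option linter.all false

namespace Cfsg.Agent.Helper28.S1685

open Cfsg.Agent.Helper28
open Cfsg.Spor.Fi22 (Gen)

noncomputable section

def lv_f_0 : D2 → D3 → Nat := @D2.rec (fun _ => D3 → Nat) (@D3.rec (fun _ => Nat) 1 2 3 4 5 0 6 1 3 7 7 2 3 3 8 4 4 5 5 9 9 4 7 4 5 5 5 10 0 10 6 8) (@D3.rec (fun _ => Nat) 6 8 6 7 7 7 11 0 11 1 2 11 6 9 6 9 9 6 9 7 7 7 12 0 12 0 1 2 12 2 3 10) (@D3.rec (fun _ => Nat) 8 10 10 8 10 10 10 8 10 9 9 0 0 13 0 1 2 13 1 3 2 2 3 13 3 4 11 11 8 11 11 11) (@D3.rec (fun _ => Nat) 11 8 11 11 11 0 11 9 9 0 1 0 1 2 14 0 1 3 2 2 3 14 11 2 2 3 3 3 4 0 4 5) (@D3.rec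 (fun _ => Nat) 12 12 10 12 12 12 12 10 0 12 12 12 0 1 12 1 14 1 2 2 3 15 1 2 12 2 2 3 3 3 4 15) (@D3.rec (fun _ => Nat) 0 12 12 4 3 5 4 4 5 0 1 5 12 6 13 13 60 13 13 13 13 0 61 1 13 13 0 13 0 1 9 13) (@D3.rec (fun _ => Nat) 15 13 2 3 3 4 0 13 2 3 13 13 4 3 5 4 4 5 0 0 1 13 13 13 4 4 5 5 0 5 0 6) (@D3.rec (fun _ => Nat) 0 1 10 6 13 7 14 14 60 14 14 14 0 14 0 1 59 11 14 0 14 0 1 14 0 1 11 14 3 4 4 5) (@D3.rec (fun _ => Nat) 0 1 14 14 3 4 14 14 14 4 4 5 5 0 5 0 6 0 1 0 1 10 14 14 14 14 6 5 0 7 0 6) (@D3.rec (fun _ => Nat) 0 1 6 0 1 7 0 1 10 7 14 14 15 58 15 60 15 0 15 0 15 0 1 15 0 61 1 11 59 15 0 1) (@D3.rec (fun _ => Nat) 15 0 0 1 11 0 1 11 15 4 5 0 5 0 6 0 1 15 15 4 5 0 15 15 15 6 5 0 7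 0 6 0) (@D3.rec (fun _ => Nat) 1 6 0 1 7 0 0 1 12 1 3 15 15 15 15 0 6 0 6 0 1 7 0 1 7 0 0 1 12 7 0 0) (@D3.rec (fun _ => Nat) 1 14 0 1 12 15 15 17 16 60 16 62 16 0 1 16 0 1 16 0 0 1 13 0 61 1 59 13 16 0 0 1) (@D3.rec (fun _ => Nat) 13 0 0 1 1 13 1 13 16 5 0 6 0 1 6 0 1 7 0 1 16 16 5 0 6 0 1 16 16 16 0 6) (@D3.rec (fun _ => Nat) 0 6 0 1 7 0 1 7 0 0 1 12 7 0 0 1 15 0 0 1 1 3 12 15 2 61 16 16 16 0 16 0) (@D3.rec (fun _ => Nat) 1 8 0 1 7 0 0 1 15 9 0 0 1 12 0 0 1 1 12 0 0 1 1 3 15 1 12 16 16 18 18 17) (@D3.rec (fun _ => Nat) 60 60 62 17 0 0 1 17 0 0 1 13 0 0 1 1 61 13 63 1 61 13 0 0 1 1 3 13 0 1 0 1) (@D3.rec (fun _ => Nat) 13 14 13 13 17 0 6 0 1 7 0 0 1 7 0 0 1 0 1 17 17 0 6 0 1 7 0 0 1 60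 17 17) (@D3.rec (fun _ => Nat) 0 17 0 1 8 0 1 7 0 0 1 16 9 0 0 1 14 0 0 1 1 3 14 0 0 1 1 3 16 0 1 1) (@D3.rec (fun _ => Nat) 3 14 16 2 61 16 17 17 0 17 0 1 17 0 0 1 16 8 0 0 1 16 0 0 1 1 3 16 0 0 1 1) (@D3.rec (fun _ => Nat) 3 14 0 1 0 1 14 15 14 0 1 0 1 3 16 16 2 3 14 17 19 19 19 62 62 0 0 1 1 3 0 0) (@D3.rec (fun _ => Nat) 1 1 61 15 0 1 0 1 61 15 15 61 15 0 1 0 1 3 15 15 15 2 0 1 15 1 15 15 0 18 0 1)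
def lv_f_1 : D2 → D3 → Nat := @D2.rec (fun _ => D3 → Nat) (@D3.rec (fun _ => Nat) 7 0 0 1 0 0 1 1 0 0 1 1 3 1 18 0 18 0 1 7 0 0 1 17 0 0 1 1 3 62 18 0) (@D3.rec (fun _ => Nat) 18 0 1 18 0 0 1 17 8 0 0 1 17 0 0 1 1 3 17 0 0 1 1 3 14 0 1 0 1 3 14 6) (@D3.rec (fun _ => Nat) 14 2 63 0 1 0 1 3 17 17 17 2 3 1 3 14 17 2 63 17 17 18 0 18 0 1 18 0 0 1 17 0) (@D3.rec (fun _ => Nat) 0 1 1 3 17 0 0 1 1 3 17 0 1 0 1 3 17 16 17 2 3 0 1 0 1 3 14 16 14 2 0 1) (@D3.rec (fun _ => Nat) 14 1 16 14 0 0 1 3 17 1 3 17 2 3 17 4 18 20 20 20 20 62 62 0 1 0 1 3 62 2 0 1) (@D3.rec (fun _ => Nat) 0 1 63 15 15 0 1 63 15 1 63 15 0 1 3 15 1 3 16 15 2 0 16 15 0 1 16 15 16 15 0 1) (@D3.rec (fun _ => Nat) 19 0 0 1 0 0 1 1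 3 0 1 0 1 19 0 1 0 1 3 2 3 19 0 1 19 0 0 1 18 0 0 1) (@D3.rec (fun _ => Nat) 1 3 18 0 1 0 1 3 62 6 62 2 3 19 0 1 19 0 0 1 18 0 0 1 1 3 18 0 0 1 1 3) (@D3.rec (fun _ => Nat) 18 0 1 0 1 3 18 7 18 2 3 0 1 0 1 3 16 20 16 2 63 0 1 3 16 1 3 7 16 2 63 62) (@D3.rec (fun _ => Nat) 7 0 1 3 18 1 3 18 18 2 3 18 18 4 18 2 63 18 18 18 19 0 1 19 0 0 1 18 0 0 1 1) (@D3.rec (fun _ => Nat) 3 18 0 1 0 1 3 18 17 18 2 3 0 1 0 1 3 18 17 18 2 71 0 1 3 18 1 3 17 18 2 3) (@D3.rec (fun _ => Nat) 73 17 18 4 0 1 3 16 1 3 17 16 2 68 17 16 0 1 17 16 17 16 0 1 0 1 3 18 2 3 18 2) (@D3.rec (fun _ => Nat) 3 3 18 4 18 21 21 21 0 21 64 0 1 3 1 3 62 2 0 1 63 17 1 63 17 0 1 63 17 17 0 1) (@D3.rec (fun _ => Nat) 3 17 17 2 17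 17 2 3 0 17 17 1 66 17 1 17 17 0 17 0 1 0 0 1 1 3 0 1 0 1 3 21) (@D3.rec (fun _ => Nat) 2 3 0 1 1 21 0 1 3 1 3 2 3 4 20 0 0 1 19 0 0 1 1 3 19 0 1 0 1 3 19 7) (@D3.rec (fun _ => Nat) 19 2 3 0 1 3 62 1 3 7 64 2 3 0 7 64 4 20 0 0 1 19 0 0 1 1 3 19 0 1 0 1) (@D3.rec (fun _ => Nat) 3 19 8 19 2 3 0 1 0 1 3 19 20 19 2 3 0 1 3 19 1 3 8 19 2 3 0 8 19 4 0 1) (@D3.rec (fun _ => Nat) 3 16 1 3 20 16 2 65 66 63 0 1 3 8 16 2 63 8 16 2 65 64 8 8 0 1 3 19 19 2 3 19) (@D3.rec (fun _ => Nat) 19 2 3 3 19 19 4 19 19 19 19 19 19 19 20 0 65 1 19 0 0 1 1 69 19 0 1 0 1 3 19 18) (@D3.rec (fun _ => Nat) 19 2 72 0 1 3 19 1 3 18 19 2 3 70 18 19 4 0 1 3 19 1 3 18 19 2 71 0 1 3 18 19) (@D3.rec (fun _ => Nat) 2 3 18 19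 2 3 3 74 18 19 4 0 1 3 18 16 2 18 16 2 3 68 18 16 1 18 16 0 18 0 1 1) (@D3.rec (fun _ => Nat) 3 19 2 3 3 19 4 19 4 4 0 5 19 22 22 0 22 1 2 22 64 0 1 3 64 2 64 2 3 0 1 65)
def lv_f_2 : D2 → D3 → Nat := @D2.rec (fun _ => D3 → Nat) (@D3.rec (fun _ => Nat) 17 17 64 1 65 17 1 3 18 17 2 3 0 18 17 18 0 18 17 4 66 1 66 18 18 17 18 0 1 0 1 0) (@D3.rec (fun _ => Nat) 1 0 1 3 21 2 3 0 1 3 1 3 21 2 3 21 4 0 1 21 21 0 1 3 2 3 2 3 3 4 0 0) (@D3.rec (fun _ => Nat) 1 1 3 20 0 1 0 1 3 20 8 20 2 3 0 1 3 20 1 3 8 20 2 3 0 8 20 4 0 1 3 8) (@D3.rec (fun _ => Nat) 64 2 3 8 64 2 3 3 0 8 64 4 1 65 8 0 0 1 1 3 20 0 1 0 1 3 20 22 20 2 3 0) (@D3.rec (fun _ => Nat) 1 3 20 1 3 9 20 2 3 0 9 20 4 0 1 3 20 1 3 22 20 2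 3 68 22 20 4 0 1 3 9 20) (@D3.rec (fun _ => Nat) 2 3 9 20 2 3 3 0 9 20 4 1 67 9 9 20 0 1 3 22 18 2 67 22 18 2 3 65 64 61 1 3) (@D3.rec (fun _ => Nat) 9 18 2 65 62 9 9 62 9 9 9 1 3 20 20 2 3 3 20 20 4 20 20 4 4 0 5 20 20 20 20 20) (@D3.rec (fun _ => Nat) 20 20 20 20 0 67 1 0 1 0 1 67 20 0 1 3 20 1 3 19 20 2 68 0 1 3 19 20 2 3 19 20) (@D3.rec (fun _ => Nat) 2 3 3 63 19 20 4 0 1 3 19 20 2 64 19 20 2 3 71 1 3 19 20 2 3 3 69 19 20 4 19 71) (@D3.rec (fun _ => Nat) 19 20 4 4 0 5 1 3 19 18 2 3 68 19 18 19 68 19 18 4 0 19 18 19 0 1 0 21 1 20 2 3) (@D3.rec (fun _ => Nat) 3 20 4 4 0 5 20 20 20 0 4 1 2 5 23 0 23 1 2 23 20 2 3 1 3 64 2 3 65 4 1 65) (@D3.rec (fun _ => Nat) 19 66 19 19 19 2 3 19 0 19 19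 4 59 1 68 19 0 1 68 19 19 0 0 1 1 0 1 3 1 3 23 2) (@D3.rec (fun _ => Nat) 3 23 4 0 1 3 23 2 3 23 2 3 3 23 4 28 1 23 23 1 3 2 3 3 4 4 4 0 5 0 1 0) (@D3.rec (fun _ => Nat) 1 3 21 19 21 2 3 0 1 3 21 1 3 9 21 2 3 0 9 21 4 0 1 3 9 21 2 3 9 21 2 3) (@D3.rec (fun _ => Nat) 3 0 9 21 4 1 3 9 9 21 1 3 9 64 2 3 3 0 9 64 4 9 0 9 66 4 4 5 1 65 9 67) (@D3.rec (fun _ => Nat) 9 0 1 0 1 3 21 19 21 2 3 0 1 3 21 1 3 22 21 2 3 68 22 21 4 0 1 3 10 21 2 3) (@D3.rec (fun _ => Nat) 10 21 2 3 3 0 10 21 4 1 3 10 10 21 0 1 3 22 21 2 3 22 21 2 3 3 66 22 21 4 66 68) (@D3.rec (fun _ => Nat) 27 21 1 3 10 21 2 3 3 0 10 21 4 10 0 10 21 4 4 0 5 1 65 10 10 21 69 10 10 1 3 22) (@D3.rec (fun _ => Nat) 18 2 3 65 66 65 22 66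 65 4 68 10 18 2 65 10 66 10 10 64 10 10 10 10 21 21 2 3 3 21 21 4) (@D3.rec (fun _ => Nat) 4 0 5 21 21 21 21 21 21 21 0 4 1 2 5 21 21 21 21 21 21 21 67 1 67 0 1 69 21 1 69 0) (@D3.rec (fun _ => Nat) 1 3 20 21 2 73 20 21 2 3 72 1 3 20 21 2 3 3 65 20 21 4 20 70 20 21 4 4 0 5 1 3) (@D3.rec (fun _ => Nat) 20 21 2 3 71 20 4 0 73 20 21 2 3 3 20 73 20 21 4 4 0 5 69 22 20 21 0 4 1 2 5 20)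
def lv_f_3 : D2 → D3 → Nat := @D2.rec (fun _ => D3 → Nat) (@D3.rec (fun _ => Nat) 18 2 3 20 70 20 18 4 0 66 20 20 18 0 1 20 0 0 22 1 1 3 22 21 4 4 5 0 5 21 21 0) (@D3.rec (fun _ => Nat) 4 1 2 5 0 21 1 2 6 23 2 3 0 24 1 2 24 21 2 3 21 3 4 66 2 3 65 4 19 66 20 0) (@D3.rec (fun _ => Nat) 20 19 4 5 58 0 1 68 19 1 20 0 1 1 66 0 1 3 35 2 3 23 2 3 3 23 4 23 28 1 3 23) (@D3.rec (fun _ => Nat) 2 3 3 23 4 23 23 4 4 0 5 28 23 23 23 2 3 3 4 4 0 5 0 4 1 2 5 0 1 3 22 1) (@D3.rec (fun _ => Nat) 3 20 22 2 3 0 20 22 4 0 1 3 10 22 2 3 10 22 2 3 3 0 10 22 4 1 3 10 10 22 1 3) (@D3.rec (fun _ => Nat) 10 22 2 3 3 0 10 22 4 10 0 10 22 4 4 0 5 1 3 10 10 22 2 67 3 10 10 10 64 2 3 3) (@D3.rec (fun _ => Nat) 10 0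 10 68 4 4 5 1 66 10 0 10 1 65 10 67 19 4 67 10 69 10 0 1 3 22 1 3 20 22 2 3) (@D3.rec (fun _ => Nat) 0 20 22 4 0 1 3 36 22 2 3 24 22 2 3 3 68 24 22 4 68 24 29 22 1 3 11 22 2 3 3 0) (@D3.rec (fun _ => Nat) 11 22 4 11 0 11 22 4 4 0 5 1 3 11 11 22 2 67 3 11 11 1 3 24 22 2 3 3 67 24 22 4) (@D3.rec (fun _ => Nat) 24 68 24 22 4 4 0 5 66 66 29 22 68 68 11 22 2 3 3 11 0 11 22 4 4 0 5 1 67 11 11 22) (@D3.rec (fun _ => Nat) 0 11 1 65 11 11 22 22 0 4 1 2 5 67 11 11 11 11 24 20 2 3 65 24 67 63 4 68 68 24 63 65) (@D3.rec (fun _ => Nat) 11 66 11 64 11 11 11 64 11 11 11 11 11 22 22 4 4 5 0 5 22 22 22 22 0 4 1 2 5 22 22 22) (@D3.rec (fun _ => Nat) 0 22 0 22 1 2 6 24 2 3 22 22 22 22 22 22 69 0 1 69 65 1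 3 21 22 2 3 72 21 4 0 70) (@D3.rec (fun _ => Nat) 21 22 2 3 3 21 65 21 22 4 4 0 5 74 23 21 22 0 4 1 2 5 21 22 2 3 73 21 4 0 66 21) (@D3.rec (fun _ => Nat) 0 1 2 75 21 75 21 22 4 4 5 0 5 71 23 21 22 0 4 1 2 5 71 21 23 0 0 1 2 6 22 2) (@D3.rec (fun _ => Nat) 3 21 68 21 20 4 5 0 66 21 21 20 0 1 67 21 21 0 61 1 21 0 23 1 1 3 23 64 2 3 22 22) (@D3.rec (fun _ => Nat) 4 0 4 0 5 1 2 5 0 22 1 2 6 24 2 3 1 2 22 5 2 3 24 3 4 0 1 2 25 22 2 3) (@D3.rec (fun _ => Nat) 22 3 4 22 4 77 66 4 5 68 21 0 1 70 21 4 59 1 70 0 1 66 1 3 37 2 3 3 37 4 25 25) (@D3.rec (fun _ => Nat) 4 4 0 5 25 30 30 25 2 3 3 25 25 4 4 0 5 30 25 25 30 0 4 1 2 5 25 25 28 4 4 5) (@D3.rec (fun _ => Nat) 0 5 0 4 1 2 5 1 2 6 25 2 3 0 1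 3 21 23 2 3 21 23 2 3 3 76 21 23 4 1 3 21) (@D3.rec (fun _ => Nat) 21 23 1 3 11 23 2 3 3 0 11 23 4 11 0 11 23 4 4 0 5 1 3 11 11 23 2 3 3 11 11 11) (@D3.rec (fun _ => Nat) 23 2 3 3 11 0 11 23 4 4 0 5 1 3 11 11 23 0 11 1 3 11 11 23 23 0 4 1 2 5 2 65)
def lv_f_4 : D2 → D3 → Nat := @D2.rec (fun _ => D3 → Nat) (@D3.rec (fun _ => Nat) 3 11 11 4 66 67 11 11 11 0 11 66 4 4 5 5 0 11 1 67 11 69 20 4 68 11 1 3 11 11 67 11) (@D3.rec (fun _ => Nat) 20 69 20 67 11 66 11 0 1 3 21 23 2 3 21 2 68 3 0 21 23 4 1 3 21 21 23 1 3 36 23 2) (@D3.rec (fun _ => Nat) 3 3 73 34 23 4 24 73 24 23 4 4 0 5 65 24 29 23 68 67 66 29 12 23 2 3 3 12 0 12 23 4) (@D3.rec (fun _ => Nat) 4 0 5 1 3 12 12 23 0 12 1 3 12 12 23 23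 0 4 1 2 5 2 65 3 12 12 4 67 12 12 12 24) (@D3.rec (fun _ => Nat) 23 2 3 3 24 75 24 23 4 4 0 5 66 68 29 23 68 24 65 24 29 23 23 0 4 1 2 5 66 66 66 12) (@D3.rec (fun _ => Nat) 0 12 23 4 4 5 0 5 0 12 1 67 12 12 23 23 0 4 1 2 5 69 12 12 1 3 12 12 65 67 12 0) (@D3.rec (fun _ => Nat) 12 0 23 1 2 6 23 2 3 12 12 12 12 24 69 67 4 5 70 68 24 65 67 66 65 29 65 12 66 12 12 66) (@D3.rec (fun _ => Nat) 12 12 12 12 66 12 12 12 12 23 23 23 23 4 0 4 0 5 1 2 5 23 0 23 0 23 1 2 6 25 2 3) (@D3.rec (fun _ => Nat) 23 23 23 0 23 1 2 23 1 2 23 5 2 3 25 3 4 23 23 23 23 69 1 67 69 68 22 23 2 3 74 22) (@D3.rec (fun _ => Nat) 4 0 70 1 74 72 22 72 22 23 4 4 5 0 5 72 24 22 23 0 4 1 2 5 74 22 24 0 0 1 2 6) (@D3.rec (fun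 _ => Nat) 23 2 3 22 4 5 0 73 22 0 1 2 73 22 1 23 2 3 22 73 24 22 23 4 0 4 0 5 1 2 5 73) (@D3.rec (fun _ => Nat) 22 24 0 0 1 2 6 23 2 3 71 0 22 1 1 5 2 3 23 3 4 22 68 22 22 20 4 0 0 1 69 22) (@D3.rec (fun _ => Nat) 22 0 60 1 72 0 22 1 0 24 1 3 24 66 2 3 66 4 23 0 23 0 6 1 2 6 0 1 2 7 25 2) (@D3.rec (fun _ => Nat) 3 1 2 23 5 2 3 25 3 4 6 2 3 7 3 4 25 4 76 1 3 2 23 2 3 26 23 3 4 23 4 77) (@D3.rec (fun _ => Nat) 67 4 0 1 21 60 70 1 68 35 2 3 3 37 35 4 4 0 5 35 38 25 25 30 0 4 1 2 5 25 30 30) (@D3.rec (fun _ => Nat) 25 25 4 4 5 0 5 25 25 30 0 4 1 2 5 25 30 0 30 1 2 6 24 2 3 25 25 30 4 0 4 0) (@D3.rec (fun _ => Nat) 5 1 2 5 1 2 6 26 2 3 68 2 3 26 3 4 1 3 22 24 2 3 3 78 22 24 4 22 24 4 4 0) (@D3.rec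 (fun _ => Nat) 5 73 22 22 24 2 3 3 22 22 12 24 2 3 3 12 0 12 24 4 4 0 5 1 3 12 12 24 0 12 1 3) (@D3.rec (fun _ => Nat) 12 12 24 24 0 4 1 2 5 2 3 3 12 12 4 4 67 5 12 12 12 12 0 12 24 4 4 5 0 5 0 12) (@D3.rec (fun _ => Nat) 1 3 12 12 24 24 0 4 1 2 5 2 67 3 12 12 1 3 12 12 2 3 3 12 0 12 0 24 1 2 6 24) (@D3.rec (fun _ => Nat) 2 3 4 67 67 12 12 67 69 12 12 12 0 12 1 70 12 69 4 21 4 5 1 3 12 12 68 12 21 71 21 72) (@D3.rec (fun _ => Nat) 12 21 2 67 3 12 21 12 72 69 12 21 74 12 72 1 3 22 2 68 3 76 22 24 4 22 4 70 71 1 3 22)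
def lv_f_5 : D2 → D3 → Nat := @D2.rec (fun _ => D3 → Nat) (@D3.rec (fun _ => Nat) 22 24 2 3 3 22 22 34 24 2 3 3 38 71 36 24 4 4 0 5 70 36 37 24 26 66 26 31 24 73 4 1) (@D3.rec (fun _ => Nat) 2 70 66 68 26 31 68 66 68 29 13 0 13 24 4 4 5 0 5 0 13 1 3 13 13 24 24 0 4 1 2 5) (@D3.rec (fun _ => Nat) 2 67 3 13 13 1 3 13 13 2 3 3 13 0 13 0 24 1 2 6 24 2 3 4 65 67 13 13 13 67 13 13) (@D3.rec (fun _ => Nat) 13 26 71 26 24 4 4 5 0 5 69 26 68 26 31 24 24 0 4 1 2 5 68 66 68 26 31 66 68 64 0 31) (@D3.rec (fun _ => Nat) 24 1 2 6 24 2 3 66 13 0 13 1 71 13 13 24 24 4 0 4 0 5 1 2 5 1 3 13 13 65 67 13) (@D3.rec (fun _ => Nat) 0 13 0 24 1 2 6 24 2 3 13 13 74 2 65 3 13 0 13 0 65 13 0 13 1 2 13 1 2 24 5 2)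 (@D3.rec (fun _ => Nat) 3 24 3 4 13 13 13 26 69 26 65 4 67 70 69 65 29 65 68 65 65 74 13 66 13 13 13 66 13 13 13 13) (@D3.rec (fun _ => Nat) 13 13 13 24 0 24 24 0 24 0 6 1 2 6 0 1 2 7 26 2 3 24 0 24 1 2 24 1 2 24 5 2) (@D3.rec (fun _ => Nat) 3 26 3 4 24 24 24 0 24 1 2 24 69 2 3 6 2 3 7 3 4 26 4 70 24 67 70 23 4 5 0 72) (@D3.rec (fun _ => Nat) 1 75 72 75 23 74 25 23 24 4 0 4 0 5 1 2 5 67 23 25 0 0 1 2 6 24 2 3 0 1 1 5) (@D3.rec (fun _ => Nat) 2 3 24 3 4 23 23 4 0 0 77 1 2 75 23 1 24 2 3 24 3 4 71 25 75 23 25 23 0 24 0 0) (@D3.rec (fun _ => Nat) 6 1 2 6 0 1 2 7 24 2 3 71 0 23 1 1 5 2 3 24 3 4 1 2 71 6 70 3 4 24 4 71) (@D3.rec (fun _ => Nat) 71 23 71 23 23 23 78 22 59 76 1 76 1 72 0 23 1 1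 2 1 3 25 25 66 2 3 66 4 66 0 24 1) (@D3.rec (fun _ => Nat) 2 24 0 1 2 6 5 2 3 1 3 2 26 2 3 7 26 3 4 6 2 3 7 3 4 26 4 74 6 3 4 7) (@D3.rec (fun _ => Nat) 4 73 23 24 2 2 3 3 24 3 77 77 24 4 79 77 1 72 68 35 33 4 4 5 0 5 39 37 38 0 4 1) (@D3.rec (fun _ => Nat) 2 5 37 37 27 32 27 0 32 1 2 6 25 2 3 32 30 27 27 27 32 4 0 4 0 5 1 2 5 27 32 0) (@D3.rec (fun _ => Nat) 32 1 2 6 25 2 3 0 27 1 2 30 68 2 3 25 3 4 27 30 0 6 1 2 6 0 1 2 7 27 2 3) (@D3.rec (fun _ => Nat) 70 2 3 27 3 4 70 3 4 27 4 5 23 2 3 3 23 25 4 4 0 5 77 23 23 25 23 25 25 0 4 1) (@D3.rec (fun _ => Nat) 2 5 78 74 23 23 4 4 5 5 23 23 23 13 0 13 25 4 4 5 0 5 0 13 1 3 13 13 25 25 0 4) (@D3.rec (fun _ => Nat) 1 2 5 2 3 3 13 13 1 3 13 13 2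 3 3 13 0 13 72 25 1 2 6 25 2 3 4 4 5 5 13 13) (@D3.rec (fun _ => Nat) 13 10 4 67 69 5 13 13 13 13 0 13 1 3 13 13 25 25 4 0 4 0 5 1 2 5 1 3 13 13 2 3) (@D3.rec (fun _ => Nat) 3 13 0 13 0 25 1 2 6 25 2 3 4 66 67 13 13 22 2 3 3 13 0 13 4 4 65 0 5 13 0 13)
def lv_f_6 : D2 → D3 → Nat := @D2.rec (fun _ => D3 → Nat) (@D3.rec (fun _ => Nat) 1 2 13 1 2 25 5 2 3 25 3 4 64 66 13 13 66 66 13 0 13 1 3 13 13 69 13 22 71 71 22 6) (@D3.rec (fun _ => Nat) 22 22 2 67 3 13 22 13 69 69 13 22 74 13 22 4 74 69 67 13 22 13 22 13 74 23 2 70 3 23 4 70) (@D3.rec (fun _ => Nat) 73 80 23 23 25 23 71 2 3 3 23 23 4 4 5 23 23 31 36 73 34 25 4 4 5 0 5 38 65 36 41 25) (@D3.rec (fun _ => Nat) 73 4 1 2 72 68 67 36 36 26 31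 66 65 26 70 31 72 2 3 66 68 64 31 31 70 68 66 68 14 0 14 1) (@D3.rec (fun _ => Nat) 3 14 14 25 25 4 0 4 0 5 1 2 5 1 3 14 14 2 3 3 14 0 14 0 25 1 2 6 25 2 3 4) (@D3.rec (fun _ => Nat) 67 69 14 14 14 2 3 3 14 0 14 4 4 63 0 5 14 0 14 1 2 14 1 2 5 2 3 25 3 4 65 67) (@D3.rec (fun _ => Nat) 14 14 14 14 14 26 75 26 67 26 31 25 25 4 0 4 0 5 1 2 5 26 31 66 67 66 0 31 25 1 2 6) (@D3.rec (fun _ => Nat) 25 2 3 70 68 66 26 66 0 66 1 2 31 2 25 3 4 0 14 1 3 14 14 69 71 14 0 14 25 0 25 0) (@D3.rec (fun _ => Nat) 6 1 2 6 0 1 2 7 25 2 3 72 2 67 3 14 0 14 0 67 14 0 14 1 2 14 1 2 25 5 2 3) (@D3.rec (fun _ => Nat) 25 3 4 14 14 75 4 0 67 14 0 14 1 2 14 1 2 69 14 0 14 1 2 14 5 2 3 6 2 3 7 3) (@D3.rec (fun _ =>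 Nat) 4 27 4 78 14 70 26 68 67 31 67 67 69 68 67 67 67 68 14 14 68 14 14 14 14 14 14 14 14 25 0 25) (@D3.rec (fun _ => Nat) 1 2 25 0 25 1 2 25 0 1 2 6 5 2 3 1 3 2 27 2 3 7 27 3 4 25 0 25 1 2 25 69) (@D3.rec (fun _ => Nat) 2 3 6 2 3 7 3 4 27 4 77 25 0 25 1 2 25 67 2 3 69 3 4 6 3 4 7 4 73 70 70 24) (@D3.rec (fun _ => Nat) 4 0 72 1 78 74 73 77 78 26 74 24 26 24 0 25 0 0 6 1 2 6 0 1 2 7 25 2 3 0 1 1) (@D3.rec (fun _ => Nat) 5 2 3 25 3 4 1 69 6 70 3 25 4 72 24 24 0 1 0 1 2 79 25 2 3 25 3 4 25 4 77 73) (@D3.rec (fun _ => Nat) 26 26 73 24 0 24 0 1 0 1 0 1 2 6 5 2 3 1 3 2 25 2 3 7 25 3 4 1 2 72 6 70) (@D3.rec (fun _ => Nat) 3 4 25 4 77 69 2 68 4 71 69 24 24 74 24 78 24 60 1 2 2 68 2 73 3 0 26 68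 4 68 0 1) (@D3.rec (fun _ => Nat) 2 25 6 2 3 1 3 2 7 2 3 8 7 3 4 24 27 2 2 3 3 27 3 4 74 27 4 78 6 3 4 7) (@D3.rec (fun _ => Nat) 4 73 76 8 4 73 24 25 4 3 5 25 72 27 37 35 36 4 0 4 0 5 1 2 5 37 40 37 0 37 1 2) (@D3.rec (fun _ => Nat) 6 26 2 3 37 37 32 64 68 27 64 32 1 2 32 68 2 3 26 3 4 32 27 27 32 27 0 32 0 6 1 2) (@D3.rec (fun _ => Nat) 6 0 1 2 7 26 2 3 0 27 1 2 32 68 2 3 26 3 4 1 2 32 66 2 3 68 3 4 26 4 5 27) (@D3.rec (fun _ => Nat) 32 0 1 2 6 73 2 3 1 3 2 28 2 3 7 28 3 4 70 3 4 28 4 5 70 4 5 28 5 24 6 24)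
def lv_f_7 : D2 → D3 → Nat := @D2.rec (fun _ => D3 → Nat) (@D3.rec (fun _ => Nat) 4 4 70 0 5 24 26 26 0 4 1 2 5 72 71 24 24 26 1 2 6 26 2 3 77 24 24 24 4 10 4 80) (@D3.rec (fun _ => Nat) 5 5 24 24 24 14 0 14 1 3 14 14 26 26 4 0 4 0 5 1 2 5 1 3 14 14 2 3 3 14 0 14) (@D3.rec (fun _ => Nat) 74 26 1 2 6 26 2 3 4 4 5 5 14 14 14 2 3 3 14 0 14 4 4 5 72 5 14 0 14 1 2 14) (@D3.rec (fun _ => Nat) 74 26 74 2 3 26 3 4 4 76 4 65 5 5 14 14 14 11 6 69 67 69 14 14 0 14 1 3 14 14 2 3) (@D3.rec (fun _ => Nat) 3 14 0 14 26 0 26 0 6 1 2 6 0 1 2 7 26 2 3 23 2 3 3 14 0 14 4 4 67 0 5 14) (@D3.rec (fun _ => Nat) 0 14 1 2 14 1 2 26 5 2 3 26 3 4 70 69 14 14 23 4 4 69 65 5 14 0 14 1 2 14 65 4) (@D3.rec (fun _ => Nat)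 65 67 67 1 2 5 14 0 14 1 2 14 5 2 3 6 2 3 7 3 4 26 4 78 67 67 14 71 1 3 14 14) (@D3.rec (fun _ => Nat) 23 2 70 3 14 23 14 70 71 14 23 71 23 23 23 4 74 71 70 14 23 14 23 72 14 23 70 23 71 72 14 14) (@D3.rec (fun _ => Nat) 23 24 4 70 72 73 24 73 76 76 24 24 4 4 74 5 24 24 24 4 5 24 24 32 28 36 69 34 37 26 4 73) (@D3.rec (fun _ => Nat) 4 0 5 1 2 74 38 39 66 68 38 70 38 72 2 3 68 70 38 38 31 28 64 66 64 33 70 31 3 72 66 68) (@D3.rec (fun _ => Nat) 66 66 31 68 68 0 15 1 3 15 15 2 3 3 15 0 15 26 0 26 0 6 1 2 6 0 1 2 7 26 2 3) (@D3.rec (fun _ => Nat) 2 3 3 15 0 15 4 4 65 0 5 15 0 15 1 2 15 1 2 5 2 3 26 3 4 65 67 71 15 15 15 4) (@D3.rec (fun _ => Nat) 4 28 5 15 25 15 1 2 15 27 4 27 65 1 2 5 15 26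 15 1 2 15 26 2 3 6 2 7 3 4 26 4) (@D3.rec (fun _ => Nat) 76 67 15 15 15 15 73 28 28 33 71 71 28 0 33 26 26 0 6 1 2 6 0 1 2 7 26 2 3 66 28 68) (@D3.rec (fun _ => Nat) 73 0 66 1 2 31 2 26 3 4 72 66 31 68 1 2 68 2 3 26 4 70 1 3 15 15 75 2 72 3 15 0) (@D3.rec (fun _ => Nat) 15 69 0 67 15 0 15 1 2 15 0 26 1 2 26 0 1 2 6 5 2 3 1 3 2 26 2 3 7 26 3 4) (@D3.rec (fun _ => Nat) 76 4 0 67 15 0 15 1 2 15 1 2 67 15 0 15 1 2 15 5 2 3 6 2 3 7 3 4 28 4 77 15) (@D3.rec (fun _ => Nat) 1 69 15 25 15 1 2 15 25 2 3 6 2 3 0 15 1 2 15 67 2 3 7 3 4 6 3 7 4 73 75 28) (@D3.rec (fun _ => Nat) 31 71 73 67 67 67 67 74 68 15 0 15 15 15 15 15 15 15 26 0 26 0 1 2 26 72 2 3 0 1 2 26) (@D3.rec (fun _ => Nat) 6 2 3 1 3 2 7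 2 3 8 7 3 4 15 28 2 2 3 3 28 3 4 81 28 4 77 0 26 1 2 26 69) (@D3.rec (fun _ => Nat) 2 3 71 3 4 6 3 4 7 4 75 75 1 2 26 67 2 3 69 3 4 71 4 73 8 4 75 75 0 1 77 74) (@D3.rec (fun _ => Nat) 76 75 78 27 27 25 0 0 1 0 1 0 1 2 6 5 2 3 1 3 2 26 2 3 7 26 3 4 1 71 6 71)
def lv_f_8 : D2 → D3 → Nat := @D2.rec (fun _ => D3 → Nat) (@D3.rec (fun _ => Nat) 3 26 4 80 69 70 25 25 0 1 1 3 2 26 2 3 77 26 3 4 26 4 77 78 73 25 0 27 0 25 1 2) (@D3.rec (fun _ => Nat) 0 1 72 0 1 6 1 3 2 7 2 3 8 72 3 4 25 26 2 2 3 3 26 3 4 74 26 4 5 74 2 70) (@D3.rec (fun _ => Nat) 4 73 79 72 71 71 25 75 25 25 78 2 4 78 82 1 2 27 68 1 3 2 6 2 3 26 6 3 4 25 7 2) (@D3.rec (fun _ => Nat) 2 3 3 7 3 4 79 7 4 76 25 28 4 3 5 28 4 8 4 75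 75 26 4 29 35 38 35 0 35 0 6 1) (@D3.rec (fun _ => Nat) 2 6 0 1 2 7 27 2 3 66 68 39 39 66 39 1 2 32 68 2 3 27 3 4 39 32 66 68 32 66 32 2) (@D3.rec (fun _ => Nat) 3 68 3 4 27 4 80 32 29 34 29 0 29 0 34 1 2 32 0 1 2 6 73 2 3 1 3 2 27 2 3 7) (@D3.rec (fun _ => Nat) 27 3 4 1 2 32 68 2 3 70 3 4 27 4 5 2 3 68 3 4 70 4 5 27 5 74 80 0 32 1 3 2) (@D3.rec (fun _ => Nat) 73 2 3 8 73 3 4 15 29 2 2 3 3 29 3 4 83 29 4 5 72 4 5 29 5 25 6 74 5 25 75 29) (@D3.rec (fun _ => Nat) 79 6 25 7 25 0 4 0 72 1 2 5 27 1 2 6 27 2 3 75 25 25 25 27 2 75 27 3 78 79 25 25) (@D3.rec (fun _ => Nat) 25 6 11 6 73 77 72 25 25 25 15 1 3 15 15 2 3 3 15 0 15 76 27 0 6 1 2 6 0 1 2 7) (@D3.rec (fun _ => Nat) 27 2 3 2 3 3 15 0 15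 4 4 5 72 5 15 0 15 1 2 15 74 27 74 2 3 27 3 4 4 79 4 5) (@D3.rec (fun _ => Nat) 5 5 15 15 15 4 4 28 26 5 15 26 15 1 2 15 4 29 4 65 5 72 5 15 26 15 1 2 15 27 2 3) (@D3.rec (fun _ => Nat) 72 74 3 4 27 4 76 6 79 6 67 67 75 15 15 15 76 69 69 15 1 3 15 15 24 2 3 3 15 0 15 4) (@D3.rec (fun _ => Nat) 4 5 0 5 15 0 15 1 2 15 0 27 1 2 27 0 1 2 6 5 2 3 1 3 2 27 2 3 7 27 3 4) (@D3.rec (fun _ => Nat) 24 4 4 73 67 5 15 0 15 1 2 15 67 4 69 69 67 1 2 5 15 0 15 1 2 15 5 2 3 6 2 3) (@D3.rec (fun _ => Nat) 7 3 4 27 4 76 66 68 15 24 4 71 65 5 15 15 1 2 15 24 2 3 65 6 67 67 69 71 6 2 3 0) (@D3.rec (fun _ => Nat) 15 1 2 15 26 2 3 7 3 4 6 3 4 74 4 5 66 24 2 3 3 15 0 15 24 4 74 76 69 15 24 15) (@D3.rec (fun _ =>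 Nat) 24 74 74 15 24 24 24 72 75 72 15 24 15 24 15 25 75 70 73 81 76 25 25 25 4 77 79 25 25 25 6 25) (@D3.rec (fun _ => Nat) 33 33 28 36 37 68 67 34 72 36 73 6 74 0 1 2 72 2 3 38 66 68 38 38 74 33 3 81 66 68 79 66) (@D3.rec (fun _ => Nat) 38 33 33 66 73 68 64 33 72 77 68 66 31 70 1 3 16 16 2 3 3 16 0 16 4 4 5 0 5 16 0 16) (@D3.rec (fun _ => Nat) 1 2 16 0 27 1 2 0 1 2 6 5 2 3 1 3 2 27 2 3 7 27 3 4 4 4 30 5 16 28 16 1) (@D3.rec (fun _ => Nat) 2 16 29 4 67 27 69 1 2 5 16 0 16 1 2 16 29 2 3 6 2 7 3 4 27 4 72 67 69 16 16 16)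
def lv_f_9 : D2 → D3 → Nat := @D2.rec (fun _ => D3 → Nat) (@D3.rec (fun _ => Nat) 4 30 5 16 16 28 16 2 3 29 6 27 65 2 3 25 16 25 16 2 3 16 27 3 4 6 71 4 67 16 16 78) (@D3.rec (fun _ => Nat) 28 33 28 28 68 70 68 0 33 1 2 33 27 0 1 2 6 2 1 3 2 27 2 3 7 27 3 4 71 68 33 76) (@D3.rec (fun _ => Nat) 0 70 1 2 72 2 3 27 4 77 70 2 3 3 76 2 3 3 16 0 16 79 4 70 0 71 16 0 16 1 2 16) (@D3.rec (fun _ => Nat) 0 69 1 2 71 16 0 16 0 1 2 16 5 2 3 0 1 2 27 6 2 3 1 3 2 7 2 3 8 7 3 4) (@D3.rec (fun _ => Nat) 16 27 2 2 3 3 27 3 4 79 27 4 5 1 73 16 0 16 1 2 16 27 2 3 6 2 3 0 16 1 2 16) (@D3.rec (fun _ => Nat) 67 2 3 7 3 4 6 3 7 4 73 80 27 16 27 16 2 3 27 3 6 3 1 2 16 2 3 67 3 4 7 4) (@D3.rec (fun _ => Nat) 76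 8 75 70 72 76 33 69 69 76 70 16 0 16 1 2 16 16 16 16 0 27 0 1 2 27 1 3 2 72 2 3) (@D3.rec (fun _ => Nat) 27 74 3 4 1 3 2 6 2 3 27 6 3 4 16 7 2 2 3 3 7 3 4 83 7 4 77 16 29 4 3 5) (@D3.rec (fun _ => Nat) 4 29 4 1 2 27 71 2 3 69 3 4 71 4 75 8 4 75 77 69 2 3 69 3 4 69 4 73 1 78 26 0) (@D3.rec (fun _ => Nat) 28 0 1 0 1 71 0 1 6 1 3 2 7 2 3 8 73 3 26 27 2 2 27 3 27 4 69 73 74 26 1 3) (@D3.rec (fun _ => Nat) 26 27 2 2 27 3 27 4 78 80 0 26 1 2 28 0 1 2 74 2 1 3 75 1 3 6 26 7 2 2 3 3) (@D3.rec (fun _ => Nat) 74 3 4 77 70 4 5 26 27 4 3 27 4 5 72 75 0 71 26 76 26 82 82 83 2 3 26 8 2 2 3 3) (@D3.rec (fun _ => Nat) 8 3 4 78 8 4 5 26 9 4 3 5 75 9 4 75 77 74 29 4 29 77 29 34 35 70 37 35 0 35 1 2) (@D3.rec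 (fun _ => Nat) 34 0 1 2 6 70 2 3 1 3 2 28 2 3 7 28 3 4 66 68 70 34 66 39 68 34 2 3 70 3 4 28) (@D3.rec (fun _ => Nat) 4 77 34 32 66 72 66 32 3 4 70 4 74 76 29 0 34 0 29 1 2 34 0 1 2 34 72 2 3 1 3 2) (@D3.rec (fun _ => Nat) 72 2 3 8 72 3 4 16 28 2 2 3 3 28 3 4 81 28 4 5 2 3 68 3 4 70 4 5 28 5 76 6) (@D3.rec (fun _ => Nat) 3 4 70 4 5 77 5 76 77 73 1 2 32 16 72 2 2 3 3 73 3 4 83 72 4 5 16 30 4 3 5 4) (@D3.rec (fun _ => Nat) 30 4 5 83 30 5 26 83 77 5 26 6 30 84 6 26 81 75 82 7 1 2 6 1 28 2 28 2 75 28 3 75) (@D3.rec (fun _ => Nat) 26 26 26 26 26 71 75 26 16 16 2 3 3 16 0 16 4 4 5 74 5 16 0 16 1 2 16 76 28 0 1 2) (@D3.rec (fun _ => Nat) 6 76 2 3 1 28 2 28 3 4 4 28 28 5 16 28 16 1 2 16 4 29 4 5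 5 74 5 16 0 16 1 2) (@D3.rec (fun _ => Nat) 16 26 2 3 74 76 3 4 28 4 6 6 71 6 67 7 77 16 16 16 4 28 28 5 16 16 27 16 2 3 6 29) (@D3.rec (fun _ => Nat) 6 69 65 7 75 26 16 26 16 2 3 16 26 3 4 74 4 78 76 69 75 16 16 76 74 25 2 3 3 16 0 16)
def lv_f_10 : D2 → D3 → Nat := @D2.rec (fun _ => D3 → Nat) (@D3.rec (fun _ => Nat) 25 4 4 5 65 5 16 0 16 1 2 16 4 65 4 70 0 5 1 2 5 16 0 16 0 1 2 16 5 2 3 0) (@D3.rec (fun _ => Nat) 1 2 28 6 2 3 1 3 2 7 2 3 8 7 3 4 29 28 2 2 28 3 28 4 25 4 71 71 67 5 16 0) (@D3.rec (fun _ => Nat) 16 1 2 16 27 2 3 67 6 70 74 72 69 69 6 2 3 0 16 1 2 16 26 2 3 7 3 4 6 3 4 76) (@D3.rec (fun _ => Nat) 4 5 70 6 71 67 16 16 2 3 27 3 4 67 67 74 73 6 3 4 1 2 16 2 3 26 3 4 7 4 5 4)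 (@D3.rec (fun _ => Nat) 5 5 77 4 4 69 0 5 16 76 16 1 2 16 25 74 71 72 74 16 25 16 25 25 25 73 16 25 73 76 26 26) (@D3.rec (fun _ => Nat) 26 26 34 30 35 36 36 69 71 36 70 36 72 33 75 76 1 2 3 33 68 70 75 64 40 33 72 68 75 66 33 33) (@D3.rec (fun _ => Nat) 73 66 66 33 77 68 68 74 2 3 3 17 0 17 4 4 5 5 17 0 17 1 2 17 4 31 4 65 0 5 1 2) (@D3.rec (fun _ => Nat) 5 17 0 17 0 1 2 17 31 2 3 0 1 2 6 2 1 3 2 7 2 3 8 7 3 4 17 28 2 2 28 3) (@D3.rec (fun _ => Nat) 28 4 4 32 30 5 17 30 17 27 17 2 3 29 6 29 65 29 67 2 3 27 17 1 2 17 2 3 17 29 3 4) (@D3.rec (fun _ => Nat) 6 73 4 67 69 17 17 78 6 30 17 17 27 17 3 29 29 67 3 28 17 25 17 3 4 76 29 4 73 17 30 74) (@D3.rec (fun _ => Nat) 35 71 30 33 71 74 0 70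 0 1 2 33 2 3 1 3 2 2 8 30 28 2 2 28 3 28 4 68 68 1 2 72) (@D3.rec (fun _ => Nat) 2 3 3 3 4 4 4 72 76 5 17 0 17 1 2 17 0 69 1 71 17 0 17 0 1 2 17 27 2 3 0 1) (@D3.rec (fun _ => Nat) 2 71 6 2 3 0 17 0 1 2 17 1 3 2 7 2 3 17 7 3 4 1 3 2 6 2 3 28 6 3 17 7) (@D3.rec (fun _ => Nat) 2 2 3 3 7 3 4 79 7 4 5 17 28 4 3 28 4 5 27 17 1 2 17 2 3 27 3 6 3 1 2 17) (@D3.rec (fun _ => Nat) 69 2 3 69 3 4 7 4 77 8 75 27 17 31 3 4 27 8 2 3 3 4 71 4 74 0 70 69 76 33 78 70) (@D3.rec (fun _ => Nat) 17 0 17 1 2 17 79 2 3 17 0 1 2 28 1 3 2 74 2 3 28 65 73 2 2 3 3 74 3 4 0 73) (@D3.rec (fun _ => Nat) 4 77 64 8 2 2 3 3 8 3 4 83 8 4 5 17 9 4 3 5 4 9 4 77 76 75 17 30 4 4 30 72) (@D3.rec (fun _ => Nat) 2 3 74 3 4 71 4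 75 73 77 69 3 4 69 4 78 27 76 80 1 2 29 0 1 71 1 3 73 1 3 6 27) (@D3.rec (fun _ => Nat) 7 2 2 3 79 74 3 4 77 75 27 28 28 76 27 2 3 28 78 80 0 1 2 27 77 2 3 1 3 2 73 2) (@D3.rec (fun _ => Nat) 74 27 34 2 3 27 8 2 3 27 74 4 3 5 77 72 4 5 77 5 73 28 1 2 82 27 76 84 84 3 4 27) (@D3.rec (fun _ => Nat) 8 4 3 5 4 8 4 5 82 5 79 9 4 80 9 75 35 0 36 66 73 37 70 34 66 37 0 1 2 34 2 3) (@D3.rec (fun _ => Nat) 1 3 2 73 2 3 8 73 3 4 17 29 2 2 29 3 29 4 66 68 72 66 34 68 34 3 4 70 4 80 34 0)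
def lv_f_11 : D2 → D3 → Nat := @D2.rec (fun _ => D3 → Nat) (@D3.rec (fun _ => Nat) 68 74 68 0 4 78 75 0 31 1 2 34 0 1 2 34 2 3 1 3 2 70 2 3 34 70 3 4 17 73 2 2) (@D3.rec (fun _ => Nat) 3 3 75 3 4 79 75 4 5 17 29 4 3 29 4 29 5 79 3 4 70 4 5 79 5 78 6 6 4 79 5 78) (@D3.rec (fun _ => Nat) 75 77 74 2 3 17 74 4 3 5 4 77 4 5 83 76 5 27 6 17 31 4 4 31 5 80 6 77 2 78 29 29) (@D3.rec (fun _ => Nat) 27 27 27 17 0 17 4 4 5 30 5 17 0 17 1 2 17 4 31 4 5 74 5 76 5 17 0 17 0 1 2 17) (@D3.rec (fun _ => Nat) 26 2 3 74 1 3 2 78 2 81 78 3 4 31 29 29 29 4 30 30 28 5 17 30 17 30 17 2 3 6 6 31) (@D3.rec (fun _ => Nat) 6 65 7 7 77 28 17 1 2 17 2 3 17 29 3 4 77 4 78 77 6 67 77 77 17 17 78 6 30 28 17 17) (@D3.rec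 (fun _ => Nat) 28 17 3 4 6 31 67 72 77 75 28 17 26 17 3 76 28 4 78 78 75 17 4 4 5 5 17 0 17 1 2 17) (@D3.rec (fun _ => Nat) 26 4 4 71 67 5 67 5 17 0 17 0 1 2 17 26 2 3 67 6 67 6 67 69 69 0 1 2 7 6 2 3) (@D3.rec (fun _ => Nat) 0 17 0 1 2 17 1 3 2 7 2 3 17 7 3 4 1 2 6 2 3 6 3 4 31 7 2 2 3 3 7 3) (@D3.rec (fun _ => Nat) 4 85 76 4 5 31 29 29 6 73 75 69 17 1 2 17 2 3 26 3 4 69 69 71 75 71 6 3 4 1 2 17) (@D3.rec (fun _ => Nat) 28 2 3 28 3 4 7 4 5 4 5 5 6 67 17 3 78 27 4 5 67 78 73 8 4 5 2 3 3 79 30 4) (@D3.rec (fun _ => Nat) 72 5 77 5 77 79 4 74 0 71 1 2 5 17 76 17 80 17 76 2 3 77 17 26 26 27 27 36 35 36 35 66) (@D3.rec (fun _ => Nat) 68 74 66 36 72 72 35 74 75 30 66 68 68 35 33 75 78 68 33 76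 73 68 66 70 4 4 5 80 5 18 0 18) (@D3.rec (fun _ => Nat) 1 2 18 4 4 30 5 5 18 27 18 0 1 2 18 2 3 29 6 31 6 31 67 0 1 2 7 2 3 27 18 0) (@D3.rec (fun _ => Nat) 1 2 18 1 3 2 29 2 3 18 31 3 4 1 3 2 6 2 6 18 7 2 2 3 3 7 3 4 83 73 4 5) (@D3.rec (fun _ => Nat) 18 29 29 6 32 32 18 27 18 29 18 3 31 31 67 29 69 3 27 18 2 3 18 3 4 78 35 4 69 75 18 18) (@D3.rec (fun _ => Nat) 82 32 18 18 31 29 77 28 18 71 4 71 74 30 76 35 70 35 74 0 1 2 70 1 3 2 2 3 33 3 30 2) (@D3.rec (fun _ => Nat) 2 3 3 82 80 31 30 29 29 29 72 2 3 3 4 4 4 76 71 78 5 18 0 18 0 1 2 18 81 2 3 0) (@D3.rec (fun _ => Nat) 1 71 27 18 0 1 2 18 1 3 2 29 2 3 18 29 3 1 3 2 6 2 3 71 6 3 0 1 2 18 1 3) (@D3.rec (fun _ => Nat) 2 72 2 3 18 18 7 2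 2 3 3 7 3 4 0 7 4 5 71 8 2 2 3 3 8 3 4 81 8 18 9 4) (@D3.rec (fun _ => Nat) 3 5 4 9 4 5 77 5 75 18 29 29 29 18 2 3 3 4 27 8 2 3 73 3 4 75 4 76 76 29 31 4) (@D3.rec (fun _ => Nat) 3 4 4 76 1 2 72 71 78 78 0 18 1 2 18 73 2 3 77 3 4 1 3 2 71 2 3 63 72 2 2 3)
def lv_f_12 : D2 → D3 → Nat := @D2.rec (fun _ => D3 → Nat) (@D3.rec (fun _ => Nat) 3 73 3 4 0 65 73 4 3 5 4 75 4 77 0 1 75 66 8 4 3 5 4 8 4 5 79 5 79 18 9 4) (@D3.rec (fun _ => Nat) 4 79 77 79 9 77 18 71 3 4 73 4 5 76 76 71 4 78 2 3 1 3 73 28 73 2 3 28 8 2 3 4) (@D3.rec (fun _ => Nat) 82 79 72 4 74 76 4 80 1 3 2 2 3 80 3 4 5 35 2 2 3 3 74 4 4 4 77 75 72 5 75 75) (@D3.rec (fun _ => Nat) 2 79 78 84 4 5 28 10 4 4 5 10 5 77 79 68 0 37 1 2 36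 68 70 70 36 72 68 68 36 1 3 2) (@D3.rec (fun _ => Nat) 2 3 34 3 4 18 72 2 2 3 3 72 3 4 84 72 4 5 18 30 30 68 70 72 68 34 70 0 4 78 76 34) (@D3.rec (fun _ => Nat) 77 1 72 74 68 79 1 0 1 2 36 72 2 3 1 3 2 2 3 34 3 4 18 71 2 2 3 3 70 3 4 0) (@D3.rec (fun _ => Nat) 74 4 5 18 72 4 3 5 4 74 4 5 83 74 5 78 6 18 30 30 82 30 78 4 79 5 78 6 6 81 77 74) (@D3.rec (fun _ => Nat) 3 4 18 74 4 4 5 5 83 76 5 83 6 85 6 77 18 32 18 0 18 1 2 18 4 4 30 28 5 30 5 18) (@D3.rec (fun _ => Nat) 30 18 0 1 2 18 2 3 6 31 6 33 6 68 7 74 7 76 28 18 0 1 2 18 1 3 2 31 2 3 18 31) (@D3.rec (fun _ => Nat) 3 4 74 75 80 2 2 3 3 78 81 4 5 6 32 30 30 18 32 18 30 18 3 4 6 6 31 69 7 79 75 28) (@D3.rec (fun _ => Nat) 18 2 3 18 3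 76 33 4 80 74 76 79 18 18 80 30 30 18 18 76 4 78 31 71 74 28 18 72 75 4 4 71) (@D3.rec (fun _ => Nat) 5 5 18 76 18 0 1 2 18 73 2 3 6 6 71 67 67 7 67 18 0 1 2 18 1 3 2 28 2 3 18 28) (@D3.rec (fun _ => Nat) 3 4 67 67 6 67 70 74 71 73 1 2 6 2 3 7 6 3 4 0 1 2 18 1 3 2 31 2 3 18 31 7) (@D3.rec (fun _ => Nat) 2 2 3 3 7 3 4 0 7 4 5 8 2 3 8 3 4 4 5 31 9 4 3 5 4 78 4 5 84 5 6 73) (@D3.rec (fun _ => Nat) 69 18 2 3 3 73 26 4 5 69 74 76 73 8 4 5 2 3 28 3 4 28 4 5 5 6 5 77 6 6 81 69) (@D3.rec (fun _ => Nat) 5 76 75 5 77 3 72 32 75 77 6 73 76 1 71 2 3 78 18 78 18 80 77 3 4 36 35 35 69 74 66 35) (@D3.rec (fun _ => Nat) 72 72 35 79 70 76 66 35 79 68 33 80 68 4 4 69 70 5 78 5 19 0 19 80 1 2 19 2 3 6 6 32)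 (@D3.rec (fun _ => Nat) 7 19 32 32 19 1 3 2 2 3 19 3 71 31 6 33 29 29 67 1 69 2 2 3 7 3 29 29 19 1 3 2) (@D3.rec (fun _ => Nat) 2 3 19 19 29 2 2 3 3 31 3 4 0 29 4 5 64 8 2 2 3 3 8 19 9 4 3 5 4 75 4 5) (@D3.rec (fun _ => Nat) 79 5 34 32 19 32 19 31 31 67 31 79 27 19 3 4 19 80 4 69 77 19 85 19 81 70 76 37 80 70 35 74) (@D3.rec (fun _ => Nat) 1 70 2 2 3 72 30 2 2 3 3 3 4 0 36 32 4 3 5 83 3 4 4 6 71 76 71 80 72 19 0 1) (@D3.rec (fun _ => Nat) 2 19 1 3 2 77 2 3 19 80 3 4 1 71 71 29 32 19 1 3 2 2 3 19 5 29 2 2 3 3 29 3)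
def lv_f_13 : D2 → D3 → Nat := @D2.rec (fun _ => D3 → Nat) (@D3.rec (fun _ => Nat) 4 0 29 71 8 2 2 3 3 8 3 4 0 8 1 3 2 2 3 19 70 72 2 2 3 3 71 3 4 0 19 9) (@D3.rec (fun _ => Nat) 4 3 5 4 9 4 5 0 1 5 75 73 8 4 3 5 4 8 4 79 19 9 4 4 77 5 79 9 5 75 77 19) (@D3.rec (fun _ => Nat) 34 3 4 4 3 4 73 4 5 71 75 29 77 4 2 3 78 82 1 2 19 72 2 78 73 3 84 80 4 5 65 71) (@D3.rec (fun _ => Nat) 2 2 3 3 74 3 4 72 73 4 3 5 4 76 4 5 0 1 74 75 4 4 83 79 83 77 77 79 1 75 10 4) (@D3.rec (fun _ => Nat) 4 5 5 79 10 5 76 79 19 11 77 74 4 5 5 76 75 3 4 74 71 2 3 4 4 79 76 82 5 2 2 3) (@D3.rec (fun _ => Nat) 3 3 4 4 5 6 73 4 3 5 77 82 86 5 78 6 6 38 68 39 1 2 37 2 3 68 37 72 75 36 74 37) (@D3.rec (fun _ => Nat) 68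 68 36 19 2 2 3 3 3 4 0 4 5 19 72 4 3 5 4 75 4 5 86 5 76 68 79 74 68 34 0 70) (@D3.rec (fun _ => Nat) 72 1 76 78 77 1 35 2 72 2 3 36 73 3 4 68 2 2 3 3 3 4 0 4 5 19 72 4 3 5 4 72) (@D3.rec (fun _ => Nat) 4 5 0 1 74 5 78 6 19 74 4 4 5 5 81 76 5 83 6 83 78 6 74 83 19 80 6 79 74 4 5 19) (@D3.rec (fun _ => Nat) 76 6 5 82 7 83 6 83 6 79 85 19 36 19 36 1 2 19 2 3 6 6 30 30 32 7 32 19 30 30 19 1) (@D3.rec (fun _ => Nat) 36 2 2 3 19 3 4 6 31 6 33 67 7 78 7 75 30 30 19 1 28 2 2 3 19 29 28 2 2 3 3 28) (@D3.rec (fun _ => Nat) 3 4 0 28 4 5 77 80 4 3 5 81 87 5 76 32 32 30 19 34 19 80 4 74 8 33 73 77 28 19 3 19) (@D3.rec (fun _ => Nat) 80 75 75 82 75 19 83 19 79 6 6 73 7 70 19 70 76 19 1 2 71 2 3 19 80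 3 4 6 73 69 69 7) (@D3.rec (fun _ => Nat) 69 19 1 34 2 2 3 19 29 28 2 2 3 3 28 3 4 0 28 4 5 69 69 8 69 73 71 71 75 8 2 3) (@D3.rec (fun _ => Nat) 8 3 4 0 8 4 5 1 32 2 2 3 19 31 28 2 2 3 3 28 3 4 0 36 9 4 3 5 4 9 4 5) (@D3.rec (fun _ => Nat) 0 1 5 6 8 3 4 4 5 5 75 6 33 9 4 4 5 5 82 80 5 6 87 6 78 71 3 76 5 6 73 73) (@D3.rec (fun _ => Nat) 5 72 6 3 74 30 4 5 30 5 76 77 6 81 6 78 3 80 80 19 78 77 4 82 36 35 72 74 68 35 74 74) (@D3.rec (fun _ => Nat) 0 77 68 35 75 70 84 6 6 69 78 7 77 36 20 1 2 20 71 73 2 3 20 3 4 6 32 7 20 29 29 20) (@D3.rec (fun _ => Nat) 74 2 2 3 3 3 4 0 71 31 8 33 31 31 69 2 71 3 3 4 0 26 29 29 20 31 2 2 3 3 3 4) (@D3.rec (fun _ => Nat) 20 0 20 31 4 3 5 4 35 4 5 0 1 5 71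 8 4 3 5 20 9 4 4 79 5 78 74 5 77 34 20 20) (@D3.rec (fun _ => Nat) 33 69 77 81 20 4 5 83 75 85 72 76 35 78 72 0 0 2 72 3 3 4 0 37 4 3 5 4 4 0 1 32) (@D3.rec (fun _ => Nat) 4 4 5 71 78 73 82 35 72 20 1 36 2 2 3 20 5 2 2 3 3 75 3 4 0 80 4 5 72 0 30 29)
def lv_f_14 : D2 → D3 → Nat := @D2.rec (fun _ => D3 → Nat) (@D3.rec (fun _ => Nat) 29 20 31 2 2 3 3 3 4 0 6 31 4 3 5 4 29 4 0 1 71 8 4 3 5 4 8 4 0 1 33 2) (@D3.rec (fun _ => Nat) 2 3 3 3 4 0 72 71 4 3 5 4 71 4 5 0 1 20 9 4 4 5 5 0 9 5 0 78 0 1 9 73) (@D3.rec (fun _ => Nat) 10 4 4 5 81 10 79 20 11 5 77 79 79 79 20 31 4 5 73 4 5 5 73 76 3 79 86 2 80 73 82 73) (@D3.rec (fun _ => Nat) 84 82 5 80 6 72 73 4 3 5 4 73 4 5 74 73 4 4 85 5 81 75 5 78 0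 1 76 75 83 81 79 77) (@D3.rec (fun _ => Nat) 75 10 6 5 78 81 5 81 4 5 4 77 81 6 4 3 5 4 4 5 5 78 6 7 75 4 81 6 78 40 72 39) (@D3.rec (fun _ => Nat) 2 3 36 3 4 70 37 73 72 0 74 37 70 70 36 0 20 4 3 5 4 4 5 0 1 5 76 20 74 4 4 5) (@D3.rec (fun _ => Nat) 5 83 76 5 76 84 76 70 75 84 70 74 77 1 77 77 2 37 3 72 3 4 0 80 4 5 70 4 3 5 4 4) (@D3.rec (fun _ => Nat) 5 0 1 5 20 72 4 4 5 5 0 72 5 0 6 0 1 77 75 6 78 79 20 74 6 5 78 7 83 6 83 77) (@D3.rec (fun _ => Nat) 6 83 84 80 76 20 76 84 5 34 6 6 81 6 7 85 79 85 85 20 38 20 38 2 3 20 3 4 6 32 30 30) (@D3.rec (fun _ => Nat) 7 32 20 30 30 20 2 38 3 3 4 0 4 5 8 33 8 35 70 9 76 0 76 30 30 20 2 3 3 4 20 0) (@D3.rec (fun _ => Nat) 33 4 3 5 4 33 4 5 0 1 5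 79 80 4 82 82 77 81 34 20 20 82 76 75 20 81 80 84 6 73 7 73) (@D3.rec (fun _ => Nat) 20 70 76 20 2 3 72 3 4 0 80 4 5 8 73 69 69 0 69 20 2 38 3 3 4 0 27 30 4 3 5 4) (@D3.rec (fun _ => Nat) 28 4 5 0 1 5 6 71 69 0 69 72 74 73 0 8 3 4 8 4 5 0 1 5 74 6 2 32 3 3 4 0) (@D3.rec (fun _ => Nat) 33 30 4 3 5 4 33 4 5 0 1 33 9 4 4 5 5 0 9 5 0 6 0 1 9 6 86 10 4 5 5 78) (@D3.rec (fun _ => Nat) 6 6 82 78 6 5 7 84 6 84 6 78 83 84 80 6 73 75 82 6 75 35 5 78 74 78 33 84 37 0 71 0) (@D3.rec (fun _ => Nat) 68 35 0 74 0 1 76 68 82 6 69 78 7 36 21 2 3 21 73 76 3 4 0 4 5 8 34 0 21 34 34 21) (@D3.rec (fun _ => Nat) 0 72 4 3 5 4 4 0 1 71 33 0 35 31 31 69 0 3 73 4 4 0 1 30 31 29 21 0 37 4 3 5) (@D3.rec (fun _ => Nat)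 4 4 5 0 0 1 21 31 4 4 5 5 0 31 5 0 0 1 9 73 10 4 74 5 77 79 79 36 21 33 77 73) (@D3.rec (fun _ => Nat) 5 87 77 87 72 80 0 79 0 1 1 3 72 4 4 5 0 1 34 4 4 5 0 0 1 9 5 73 80 0 82 37) (@D3.rec (fun _ => Nat) 78 21 2 36 3 3 4 0 6 4 3 5 4 74 4 5 0 1 82 5 82 6 1 32 31 34 0 31 4 3 5 4) (@D3.rec (fun _ => Nat) 4 5 0 1 7 31 4 4 5 0 31 0 1 9 73 10 4 4 5 0 10 0 1 10 37 4 3 5 4 4 5 0) (@D3.rec (fun _ => Nat) 1 72 73 4 4 5 5 0 73 5 0 77 0 1 78 21 11 6 5 0 77 0 77 0 1 0 0 1 0 1 11 75)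
def lv_f_15 : D2 → D3 → Nat := @D2.rec (fun _ => D3 → Nat) (@D3.rec (fun _ => Nat) 10 6 81 79 21 81 36 5 75 5 85 86 84 86 6 7 72 73 4 4 81 5 75 5 84 74 75 5 83 83 78 82) (@D3.rec (fun _ => Nat) 78 1 79 5 79 6 86 7 4 4 5 5 5 79 6 6 79 80 80 84 42 72 43 3 4 0 4 5 70 0 39 74) (@D3.rec (fun _ => Nat) 74 0 1 76 39 70 70 0 0 1 21 4 4 5 5 0 5 0 78 0 1 72 78 74 6 5 7 83 78 83 78 84) (@D3.rec (fun _ => Nat) 82 70 83 79 79 3 37 4 74 4 5 0 1 82 5 36 6 68 4 4 5 5 0 5 0 0 1 72 21 74 6 5) (@D3.rec (fun _ => Nat) 0 7 0 6 0 1 78 0 6 0 1 82 0 1 72 76 21 76 6 81 6 86 7 83 85 88 81 85 76 6 7 8) (@D3.rec (fun _ => Nat) 79 82 85 21 38 21 38 3 4 0 4 5 8 32 32 32 0 34 21 34 36 21 0 3 38 4 4 5 0 1 5 73) (@D3.rec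 (fun _ => Nat) 8 33 0 35 73 78 0 77 0 1 32 30 21 0 3 4 4 0 0 1 30 4 4 5 80 0 30 5 0 74 0 1) (@D3.rec (fun _ => Nat) 9 76 82 76 85 34 21 78 83 85 8 75 0 78 21 72 78 0 3 4 73 4 5 0 1 5 35 84 0 0 71 71) (@D3.rec (fun _ => Nat) 0 1 71 0 3 38 4 4 75 0 1 38 30 4 4 5 5 0 30 5 0 6 0 1 9 6 76 73 71 0 1 0) (@D3.rec (fun _ => Nat) 73 73 0 1 10 4 5 0 10 5 0 6 0 1 10 6 86 3 35 4 4 74 0 1 36 30 4 4 5 5 0 30) (@D3.rec (fun _ => Nat) 5 0 77 0 1 11 38 11 6 5 0 7 0 6 0 1 0 6 0 1 79 0 1 11 5 73 6 6 80 85 6 6) (@D3.rec (fun _ => Nat) 7 84 86 81 84 83 75 32 85 82 0 1 77 0 1 70 0 0 1 0 1 9 86 8 69 81 0 38 22 3 4 22) (@D3.rec (fun _ => Nat) 0 73 75 4 5 0 1 5 74 6 0 34 0 1 22 0 31 0 0 1 74 4 4 5 0 0 1 9 73 33 0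 1) (@D3.rec (fun _ => Nat) 33 33 0 0 1 4 73 0 0 1 10 39 31 79 0 0 1 39 4 4 5 5 0 5 0 0 1 0 1 11 22 35) (@D3.rec (fun _ => Nat) 6 5 0 79 0 0 1 0 0 1 1 11 73 79 82 77 85 77 87 0 78 0 1 1 78 10 4 72 5 0 5 0) (@D3.rec (fun _ => Nat) 0 1 74 37 6 0 0 1 1 76 82 0 1 86 37 80 0 3 38 4 4 83 0 1 7 4 4 5 5 0 77 5) (@D3.rec (fun _ => Nat) 0 6 0 1 9 83 6 79 7 10 39 31 31 0 1 38 4 4 5 5 0 5 0 0 1 73 8 31 6 0 0 1) (@D3.rec (fun _ => Nat) 0 1 81 73 10 6 0 0 1 0 1 10 39 4 4 5 5 0 5 0 78 0 1 71 74 73 6 5 0 81 0 78) (@D3.rec (fun _ => Nat) 0 1 0 0 1 0 1 73 22 0 0 0 0 1 0 1 0 0 1 11 1 1 6 1 79 75 84 84 83 88 7 74) (@D3.rec (fun _ => Nat) 75 5 79 80 76 85 80 80 6 79 7 79 6 5 7 6 6 79 88 80 44 74 0 43 4 5 0 1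 5 36 6 0) (@D3.rec (fun _ => Nat) 1 39 74 0 74 0 1 72 39 72 0 72 0 1 0 1 75 22 6 5 0 7 0 78 0 1 0 1 78 0 1 72) (@D3.rec (fun _ => Nat) 6 78 85 78 87 85 82 82 84 79 79 4 39 5 0 76 5 0 6 0 1 73 84 6 38 7 70 6 5 0 7 0)
def lv_f_16 : D2 → D3 → Nat := @D2.rec (fun _ => D3 → Nat) (@D3.rec (fun _ => Nat) 0 1 0 1 1 74 22 0 75 0 6 0 6 0 1 7 0 1 84 0 0 1 74 0 1 0 0 1 6 0 1 74) (@D3.rec (fun _ => Nat) 77 8 83 81 81 82 82 85 87 7 87 22 38 22 0 40 4 5 0 1 5 37 6 0 34 0 32 32 0 1 22 0) (@D3.rec (fun _ => Nat) 32 0 0 1 4 38 5 0 5 0 76 0 1 9 0 35 0 1 0 0 1 0 1 10 32 0 0 1 4 0 0 1) (@D3.rec (fun _ => Nat) 0 1 11 35 6 0 82 0 77 0 1 0 0 1 79 0 1 11 83 83 83 0 0 1 78 0 74 0 1 4 5 0) (@D3.rec (fun _ => Nat)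 74 5 0 80 0 1 9 39 80 1 1 71 0 71 0 1 10 1 4 38 78 0 0 0 1 11 39 30 6 5 0 7) (@D3.rec (fun _ => Nat) 0 6 0 1 0 6 0 1 75 0 1 11 73 0 0 1 73 1 75 0 75 0 1 10 10 5 0 6 0 1 0 6) (@D3.rec (fun _ => Nat) 0 1 79 0 1 10 4 37 77 0 0 0 1 11 36 32 6 5 0 7 0 76 0 1 35 0 0 1 0 1 11 0) (@D3.rec (fun _ => Nat) 0 6 0 6 0 1 7 0 1 88 0 0 1 11 1 0 1 6 0 1 11 6 77 81 8 88 83 84 88 86 84 1) (@D3.rec (fun _ => Nat) 75 0 1 10 0 1 1 11 1 75 81 0 71 0 0 1 38 23 0 4 5 0 0 1 75 0 5 0 6 0 1 9) (@D3.rec (fun _ => Nat) 6 78 7 1 0 1 10 0 1 0 1 1 11 73 6 0 0 1 1 80 73 0 0 1 21 33 0 0 1 0 1 10) (@D3.rec (fun _ => Nat) 0 0 1 1 10 40 83 0 0 1 1 74 39 6 5 0 7 0 0 1 0 1 1 11 1 3 11 0 0 0 0 1) (@D3.rec (fun _ => Nat) 0 1 0 1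 11 1 1 6 81 81 79 89 79 1 0 1 80 74 5 0 74 0 0 1 0 1 1 74 0 0 1 1) (@D3.rec (fun _ => Nat) 81 76 87 0 1 10 86 39 0 1 4 38 83 0 0 81 0 1 74 8 6 5 0 7 0 6 0 1 81 0 6 0) (@D3.rec (fun _ => Nat) 1 7 0 1 11 7 80 39 33 0 84 0 1 73 40 6 5 0 82 0 0 1 0 1 1 73 80 0 0 0 1 1) (@D3.rec (fun _ => Nat) 82 1 6 75 0 0 0 1 1 12 1 6 39 6 5 0 79 0 80 0 1 0 1 0 1 73 74 0 0 0 0 1) (@D3.rec (fun _ => Nat) 0 1 0 0 1 73 1 1 6 1 73 0 1 1 1 1 6 1 13 1 1 81 6 79 80 83 81 87 82 79 7 87) (@D3.rec (fun _ => Nat) 6 6 7 88 44 0 0 1 45 0 5 0 6 0 1 73 6 40 7 0 1 72 39 0 76 0 1 0 1 74 41 0) (@D3.rec (fun _ => Nat) 72 0 1 0 0 1 72 1 3 75 0 6 0 0 1 80 0 1 80 0 0 1 74 1 74 80 1 74 80 84 85 87) (@D3.rec (fun _ => Nat) 82 84 85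 81 5 0 39 0 85 0 1 81 0 6 0 1 7 0 1 75 7 40 70 0 6 0 0 1 0 1 0 1) (@D3.rec (fun _ => Nat) 80 1 76 74 0 1 0 1 8 0 1 0 0 1 6 81 0 0 1 76 0 0 1 1 74 1 6 1 1 3 7 1) (@D3.rec (fun _ => Nat) 74 86 84 82 84 87 23 0 40 0 0 1 40 0 5 0 6 0 1 75 6 39 86 1 0 1 34 0 0 1 10 0) (@D3.rec (fun _ => Nat) 1 0 1 0 1 11 5 0 40 0 75 0 1 0 1 0 1 11 1 0 1 21 1 1 10 1 10 0 1 1 11 0)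
def lv_f_17 : D2 → D3 → Nat := @D2.rec (fun _ => D3 → Nat) (@D3.rec (fun _ => Nat) 1 1 80 1 3 11 0 0 1 0 1 76 0 1 80 1 1 6 0 1 11 80 1 1 10 0 1 0 1 11 5 0) (@D3.rec (fun _ => Nat) 82 0 1 0 0 1 78 0 1 76 39 75 10 73 0 1 0 1 10 77 0 40 0 0 1 1 1 73 41 0 0 6) (@D3.rec (fun _ => Nat) 0 6 0 1 7 0 1 78 0 0 1 11 1 0 1 6 0 1 11 0 1 1 75 12 75 0 1 0 1 12 0 6) (@D3.rec (fun _ => Nat) 0 1 79 0 1 12 1 0 0 1 6 1 12 0 37 0 0 1 1 1 77 38 0 32 0 6 0 0 1 79 0 1) (@D3.rec (fun _ => Nat) 0 0 1 13 0 1 0 1 6 1 13 1 1 8 0 1 0 1 6 86 0 0 1 75 0 0 1 1 13 6 1 79) (@D3.rec (fun _ => Nat) 1 13 77 88 88 86 83 86 83 80 1 10 1 72 11 79 1 0 1 1 10 40 0 0 1 5 0 81 0 1 0 1) (@D3.rec (fun _ => Nat) 11 0 1 6 0 1 7 0 1 11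 7 89 78 22 1 10 1 71 1 80 11 0 0 1 1 82 35 0 1 1 22 0) (@D3.rec (fun _ => Nat) 1 1 12 1 3 12 1 1 12 33 40 0 0 1 1 71 76 39 0 6 0 0 1 0 1 0 1 13 1 33 13 13) (@D3.rec (fun _ => Nat) 2 3 1 1 1 1 6 0 1 13 1 82 6 77 79 76 1 79 0 1 0 1 0 1 81 1 76 76 1 1 78 76) (@D3.rec (fun _ => Nat) 86 0 1 10 0 1 72 0 85 0 83 0 1 1 83 0 1 74 0 6 0 6 0 1 7 0 1 90 0 1 83 0) (@D3.rec (fun _ => Nat) 1 7 0 0 1 6 0 1 11 42 0 85 0 1 0 1 73 43 0 0 0 1 0 1 0 1 79 1 35 75 0 1) (@D3.rec (fun _ => Nat) 1 1 6 83 6 0 1 1 1 6 12 6 39 0 0 0 1 89 0 1 0 1 73 1 33 1 73 0 1 1 1 1) (@D3.rec (fun _ => Nat) 6 0 1 77 0 1 1 75 6 79 75 1 36 6 37 81 85 81 85 8 85 46 0 1 0 1 71 45 0 1 6 0) (@D3.rec (fun _ => Nat) 1 7 0 1 73 7 84 40 1 3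 72 41 0 1 0 0 1 76 1 74 41 0 1 0 0 1 72 1 1 3 72 81) (@D3.rec (fun _ => Nat) 84 2 3 1 0 1 1 74 80 0 0 1 74 80 0 1 1 74 74 74 89 89 91 84 86 0 1 85 0 1 85 0) (@D3.rec (fun _ => Nat) 0 1 78 0 1 7 0 0 1 6 0 1 75 0 1 0 1 0 1 78 0 1 78 1 76 78 1 37 1 6 0 0) (@D3.rec (fun _ => Nat) 1 39 1 1 7 0 0 1 1 3 78 0 1 1 76 76 7 84 84 2 82 82 82 0 1 40 0 1 0 1 77 42) (@D3.rec (fun _ => Nat) 0 1 6 0 1 82 0 1 76 41 22 1 10 0 1 1 10 1 75 1 38 1 3 11 0 1 0 1 0 0 1 11) (@D3.rec (fun _ => Nat) 1 34 1 11 75 1 22 12 12 12 1 80 85 1 80 34 82 2 1 1 6 1 77 0 1 80 6 78 1 80 77 10) (@D3.rec (fun _ => Nat) 1 79 1 84 0 1 0 0 1 74 1 0 1 6 0 1 78 82 0 0 1 12 1 12 1 0 1 1 75 34 75 0) (@D3.rec (fun _ => Nat) 1 1 8 0 1 0 0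 1 6 77 0 0 1 75 0 0 1 1 13 6 1 77 1 13 0 1 82 75 0 0 1 12) (@D3.rec (fun _ => Nat) 1 12 1 0 0 1 6 0 1 12 6 1 1 82 12 1 0 1 0 1 79 34 77 0 1 0 1 0 1 0 1 6)
def lv_f_18 : D2 → D3 → Nat := @D2.rec (fun _ => D3 → Nat) (@D3.rec (fun _ => Nat) 0 0 1 77 0 1 1 13 1 6 1 3 7 13 38 6 0 1 44 1 83 0 0 1 1 3 77 0 1 0 1 13) (@D3.rec (fun _ => Nat) 79 83 81 86 86 88 86 85 12 77 78 0 1 10 10 0 1 0 1 72 0 1 78 0 0 1 75 1 11 1 86 7) (@D3.rec (fun _ => Nat) 0 0 1 76 0 1 78 89 12 73 81 1 1 35 84 0 1 73 23 0 1 12 12 12 2 3 37 12 0 1 0 1) (@D3.rec (fun _ => Nat) 73 73 0 1 0 1 0 1 39 0 1 73 1 13 35 13 4 38 6 37 81 1 81 87 81 0 1 80 0 1 76 1) (@D3.rec (fun _ => Nat) 83 76 79 77 0 1 12 1 74 1 87 0 1 83 0 0 1 77 77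 0 1 76 1 8 0 1 0 0 1 75 83 0) (@D3.rec (fun _ => Nat) 1 84 0 1 79 1 6 1 1 7 1 13 86 0 1 0 0 1 77 1 75 0 1 1 0 1 35 0 1 79 1 75) (@D3.rec (fun _ => Nat) 78 1 43 6 37 1 38 6 38 0 1 1 1 35 0 1 75 1 75 81 75 1 38 6 37 77 1 77 1 75 75 85) (@D3.rec (fun _ => Nat) 46 0 0 1 75 1 3 73 47 0 0 1 78 7 0 0 1 74 0 1 78 84 78 2 3 0 0 1 76 0 1 1) (@D3.rec (fun _ => Nat) 78 76 0 0 1 74 0 1 1 3 74 84 83 2 3 85 81 84 4 75 1 75 76 82 0 1 1 76 82 1 76 80) (@D3.rec (fun _ => Nat) 91 0 1 74 87 0 0 1 80 0 0 1 1 77 1 6 0 1 1 7 1 77 0 1 74 0 1 78 1 80 1 3) (@D3.rec (fun _ => Nat) 78 32 80 85 7 1 1 39 87 87 0 1 1 3 86 78 2 1 84 76 78 84 0 1 79 0 0 1 78 1 3 77) (@D3.rec (fun _ => Nat) 0 0 1 74 0 0 1 74 0 1 76 79 12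 0 1 12 12 77 34 82 2 0 1 36 0 1 73 0 1 1 13 34) (@D3.rec (fun _ => Nat) 82 23 81 36 80 6 42 77 1 79 80 78 74 0 1 72 0 1 1 74 6 1 3 86 1 81 0 1 1 12 12 34) (@D3.rec (fun _ => Nat) 1 76 75 0 1 43 6 0 0 1 42 0 1 1 83 0 0 1 1 3 75 0 1 1 13 30 13 83 86 1 82 0) (@D3.rec (fun _ => Nat) 1 1 14 14 6 1 1 83 1 14 84 84 36 0 1 77 1 79 0 1 38 0 1 6 0 1 42 1 3 7 0 1) (@D3.rec (fun _ => Nat) 1 79 0 1 15 31 15 7 83 2 3 1 44 85 0 1 0 1 3 77 77 2 0 1 15 1 79 86 84 1 12 0) (@D3.rec (fun _ => Nat) 1 74 1 72 0 1 76 0 0 1 1 75 30 13 78 0 0 1 1 77 1 80 43 86 1 75 1 14 14 4 0 1) (@D3.rec (fun _ => Nat) 73 1 73 0 1 38 0 1 39 1 37 1 3 73 31 15 15 84 1 80 1 78 31 83 1 12 74 77 85 0 0 1) (@D3.rec (fun _ => Nat) 79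 0 0 1 1 76 1 76 75 0 1 75 1 1 78 0 1 81 1 81 7 84 85 13 0 0 1 75 0 1 1 77) (@D3.rec (fun _ => Nat) 75 0 1 43 39 1 83 1 79 30 81 45 40 1 38 39 80 1 75 75 83 79 77 0 0 1 1 3 75 31 73 2) (@D3.rec (fun _ => Nat) 3 0 0 1 1 78 0 0 1 1 77 1 78 84 4 0 1 1 76 0 1 78 33 80 0 1 1 3 74 1 84 32) (@D3.rec (fun _ => Nat) 74 2 3 85 4 86 83 86 86 77 84 1 76 80 80 1 76 0 0 1 1 77 0 1 1 77 33 77 7 1 86 85)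
def lv_f_19 : D2 → D3 → Nat := @D2.rec (fun _ => D3 → Nat) (@D3.rec (fun _ => Nat) 90 1 74 1 78 33 80 33 80 2 0 88 86 1 3 84 87 2 79 84 1 81 0 1 1 78 31 79 2 0 1 1) (@D3.rec (fun _ => Nat) 76 1 1 3 88 1 78 1 12 78 1 40 1 75 1 79 31 13 78 1 3 74 1 82 31 76 87 2 84 1 14 31) (@D3.rec (fun _ => Nat) 14 76 1 43 0 1 1 44 0 1 79 31 83 0 1 1 3 77 31 77 2 1 86 31 15 0 32 84 1 14 32 14) (@D3.rec (fun _ => Nat) 85 85 14 1 79 32 81 1 80 1 7 1 44 32 8 2 3 0 1 79 32 79 1 32 15 0 85 4 85 0 1 3) (@D3.rec (fun _ => Nat) 79 1 79 2 79 1 86 81 31 12 1 76 31 74 1 80 1 1 80 31 77 0 1 1 79 79 85 32 75 32 14 14) (@D3.rec (fun _ => Nat) 1 3 75 32 75 1 40 1 39 32 41 32 75 2 0 32 82 32 78 0 14 0 0 1 1 78 1 1 78 31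 78 91) (@D3.rec (fun _ => Nat) 1 76 78 78 1 81 84 0 1 1 77 1 79 31 79 1 43 31 85 31 79 0 83 77 0 1 1 3 80 32 77 2) (@D3.rec (fun _ => Nat) 0 32 84 4 0 1 0 1 80 34 78 1 1 77 85 87 80 0 1 78 34 78 1 34 80 0 1 3 86 33 76 2) (@D3.rec (fun _ => Nat) 33 86 0 33 87 4 87 89 86 83 82 34 76 1 1 79 34 79 1 79 34 79 0 86 34 76 34 80 0 0 34 79) (@D3.rec (fun _ => Nat) 1 83 2 88 32 81 1 80 32 80 0 32 78 1 76 32 76 87 84 2 78 32 14 32 38 32 75 32 84 0 32 74) (@D3.rec (fun _ => Nat) 2 32 85 0 85 32 14 0 32 45 1 85 32 44 1 32 79 0 1 86 32 77 2 0 32 77 32 84 0 1 0 33) (@D3.rec (fun _ => Nat) 16 0 33 79 0 33 87 33 8 33 44 0 33 85 4 1 33 81 0 33 79 0 1 85 1 86 2 79 79 87 0 32) (@D3.rec (fun _ => Nat) 76 0 32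 78 82 32 80 0 1 86 87 0 0 33 75 2 0 33 40 33 41 0 0 33 75 1 0 0 1 1 1 78) (@D3.rec (fun _ => Nat) 32 78 78 32 78 0 78 90 1 77 32 77 32 81 0 32 45 0 0 1 1 88 33 82 2 0 33 80 1 3 33 87) (@D3.rec (fun _ => Nat) 1 86 1 35 78 0 88 87 1 35 78 0 35 87 0 1 34 86 2 0 34 76 0 1 3 34 85 85 0 79 35 79) (@D3.rec (fun _ => Nat) 0 35 87 0 1 0 0 1 1 3 85 0 33 80 0 1 3 33 78 0 84 0 0 0 0 1 0 33 76 0 1 0) (@D3.rec (fun _ => Nat) 1 0 33 87 0 33 85 0 1 33 88 0 33 79 1 3 0 1 1 0 1 0 1 0 0 0 1 3 34 87 34 81) (@D3.rec (fun _ => Nat) 0 1 0 1 81 85 1 0 1 0 0 1 1 1 0 34 77 1 0 0 1 1 3 1 1 80 33 80 0 0 1 33) (@D3.rec (fun _ => Nat) 79 0 0 1 0 1 1 34 89 0 34 93 1 3 2 3 36 86 36 89 0 1 36 86 0 1 0 1 0 35 87 1) (@D3.rec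 (fun _ => Nat) 3 1 2 3 1 0 1 0 1 1 1 2 1 0 1 2 0 1 1 1 1 1 1 3 1 1 1 0 1 0 1 0) (@D3.rec (fun _ => Nat) 1 3 2 1 1 1 1 1 1 2 3 0 1 1 1 1 1 1 3 1 1 2 0 1 1 0 1 1 1 0 1 3) (@D3.rec (fun _ => Nat) 2 4 0 0 1 0 1 1 1 3 2 4 1 1 1 1 2 1 1 1 2 4 1 2 1 1 1 2 1 1 1 2)
def lv_f : Pt → Nat := @Pt.rec (fun _ => Nat) (@D1.rec (fun _ => D2 → D3 → Nat) lv_f_0 lv_f_1 lv_f_2 lv_f_3 lv_f_4 lv_f_5 lv_f_6 lv_f_7 lv_f_8 lv_f_9 lv_f_10 lv_f_11 lv_f_12 lv_f_13 lv_f_14 lv_f_15 lv_f_16 lv_f_17 lv_f_18 lv_f_19)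
abbrev lc_f_Cert_tree : Cert rels S Gen.f := Cert.tree
abbrev lc_f_rc_14_1 : Cert rels S Gen.f := rc_14_1
abbrev lc_f_rc_14_3 : Cert rels S Gen.f := rc_14_3
abbrev lc_f_rc_21_1 : Cert rels S Gen.f := rc_21_1
abbrev lc_f_rc_21_3 : Cert rels S Gen.f := rc_21_3
abbrev lc_f_rc_27_1 : Cert rels S Gen.f := rc_27_1
abbrev lc_f_rc_27_3 : Cert rels S Gen.f := rc_27_3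
abbrev lc_f_rc_32_1 : Cert rels S Gen.f := rc_32_1
abbrev lc_f_rc_32_3 : Cert rels S Gen.f := rc_32_3
abbrev lc_f_rc_32_5 : Cert rels S Gen.f := rc_32_5
abbrev lc_f_rc_37_0 : Cert rels S Gen.f := rc_37_0
abbrev lc_f_rc_37_2 : Cert rels S Gen.f := rc_37_2
abbrev lc_f_rc_38_0 : Cert rels S Gen.f := rc_38_0
abbrev lc_f_rc_38_1 : Cert rels S Gen.f := rc_38_1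
abbrev lc_f_rc_39_0 : Cert rels S Gen.f := rc_39_0
abbrev lc_f_rc_39_2 : Cert rels S Gen.f := rc_39_2
abbrev lc_f_rc_39_4 : Cert rels S Gen.f := rc_39_4
abbrev lc_f_rc_40_0 : Cert rels S Gen.f := rc_40_0
abbrev lc_f_rc_40_2 : Cert rels S Gen.f := rc_40_2
abbrev lc_f_rc_45_14 : Cert rels S Gen.f := rc_45_14
abbrev lc_f_rc_45_23 : Cert rels S Gen.f := rc_45_23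
abbrev lc_f_rc_45_41 : Cert rels S Gen.f := rc_45_41
abbrev lc_f_rc_45_50 : Cert rels S Gen.f := rc_45_50
abbrev lc_f_rc_45_59 : Cert rels S Gen.f := rc_45_59
abbrev lc_f_rc_45_68 : Cert rels S Gen.f := rc_45_68
abbrev lc_f_rc_46_12 : Cert rels S Gen.f := rc_46_12
abbrev lc_f_rc_46_19 : Cert rels S Gen.f := rc_46_19
abbrev lc_f_rc_46_26 : Cert rels S Gen.f := rc_46_26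
abbrev lc_f_rc_46_33 : Cert rels S Gen.f := rc_46_33
abbrev lc_f_rc_46_40 : Cert rels S Gen.f := rc_46_40
abbrev lc_f_rc_46_47 : Cert rels S Gen.f := rc_46_47
abbrev lc_f_rc_47_18 : Cert rels S Gen.f := rc_47_18
abbrev lc_f_rc_47_25 : Cert rels S Gen.f := rc_47_25
abbrev lc_f_rc_47_39 : Cert rels S Gen.f := rc_47_39
abbrev lc_f_rc_47_4 : Cert rels S Gen.f := rc_47_4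
abbrev lc_f_rc_47_46 : Cert rels S Gen.f := rc_47_46
abbrev lc_f_rc_47_53 : Cert rels S Gen.f := rc_47_53
abbrev lc_f_rc_6_1 : Cert rels S Gen.f := rc_6_1
abbrev lc_f_rc_6_3 : Cert rels S Gen.f := rc_6_3
abbrev lc_f_sc_4_0 : Cert rels S Gen.f := sc_4_0
def ce_f_0 : D2 → D3 → (Cert rels S Gen.f) := @D2.rec (fun _ => D3 → (Cert rels S Gen.f)) (@D3.rec (fun _ => (Cert rels S Gen.f)) lc_f_sc_4_0 lc_f_rc_6_1 lc_f_rc_14_1 lc_f_rc_21_1 lc_f_rc_27_1 lc_f_Cert_tree lc_f_rc_37_2 lc_f_rc_38_0 lc_f_rc_38_1 lc_f_rc_40_2 lc_f_rc_39_2 lc_f_rc_37_2 lc_f_rc_27_1 lc_f_rc_40_2 lc_f_rc_39_2 lc_f_rc_27_1 lc_f_rc_40_2 lc_f_rc_21_1 lc_f_rc_40_2 lc_f_rc_39_2 lc_f_rc_40_2 lc_f_rc_21_1 lc_f_rc_32_3 lc_f_rc_40_2 lc_f_rc_14_1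 lc_f_rc_21_1 lc_f_rc_37_2 lc_f_rc_21_1 lc_f_Cert_tree lc_f_rc_40_2 lc_f_rc_14_1 lc_f_rc_21_1) (@D3.rec (fun _ => (Cert rels S Gen.f)) lc_f_rc_21_1 lc_f_rc_32_3 lc_f_rc_37_2 lc_f_rc_6_1 lc_f_rc_14_1 lc_f_rc_37_2 lc_f_rc_14_1 lc_f_Cert_tree lc_f_rc_21_1 lc_f_rc_38_0 lc_f_rc_40_2 lc_f_rc_37_2 lc_f_rc_6_1 lc_f_rc_14_1 lc_f_rc_14_1 lc_f_rc_27_1 lc_f_rc_21_1 lc_f_rc_37_2 lc_f_rc_37_2 lc_f_rc_6_1 lc_f_rc_14_1 lc_f_rc_27_1 lc_f_rc_6_1 lc_f_Cert_tree lc_f_rc_14_1 lc_f_Cert_tree lc_f_rc_38_0 lc_f_rc_40_2 lc_f_rc_37_2 lc_f_rc_40_2 lc_f_rc_37_2 lc_f_rc_6_1) (@D3.rec (fun _ => (Cert rels S Gen.f)) lc_f_rc_6_1 lc_f_rc_14_1 lc_f_rc_14_1 lc_f_rc_14_1 lc_f_rc_37_2 lc_f_rc_27_1 lc_f_rc_21_1 lc_f_rc_27_1 lc_f_rc_27_1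 lc_f_rc_6_1 lc_f_rc_27_1 lc_f_Cert_tree lc_f_Cert_tree lc_f_rc_6_1 lc_f_Cert_tree lc_f_rc_38_0 lc_f_rc_40_2 lc_f_rc_14_1 lc_f_rc_38_0 lc_f_rc_38_1 lc_f_rc_40_2 lc_f_rc_40_2 lc_f_rc_37_2 lc_f_rc_27_1 lc_f_rc_37_2 lc_f_rc_27_1 lc_f_rc_6_1 lc_f_rc_6_1 lc_f_rc_6_1 lc_f_rc_21_1 lc_f_rc_14_1 lc_f_rc_14_1) (@D3.rec (fun _ => (Cert rels S Gen.f)) lc_f_rc_14_1 lc_f_rc_27_1 lc_f_rc_40_2 lc_f_rc_37_2 lc_f_rc_27_1 lc_f_Cert_tree lc_f_rc_21_1 lc_f_rc_6_1 lc_f_rc_21_1 lc_f_Cert_tree lc_f_rc_38_0 lc_f_Cert_tree lc_f_rc_38_0 lc_f_rc_40_2 lc_f_rc_6_1 lc_f_Cert_tree lc_f_rc_38_0 lc_f_rc_38_1 lc_f_rc_40_2 lc_f_rc_40_2 lc_f_rc_37_2 lc_f_rc_27_1 lc_f_rc_32_3 lc_f_rc_37_2 lc_f_rc_40_2 lc_f_rc_40_2 lc_f_rc_37_2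 lc_f_rc_37_2 lc_f_rc_27_1 lc_f_Cert_tree lc_f_rc_27_1 lc_f_rc_21_1) (@D3.rec (fun _ => (Cert rels S Gen.f)) lc_f_rc_6_1 lc_f_rc_6_1 lc_f_rc_6_1 lc_f_rc_21_1 lc_f_rc_14_1 lc_f_rc_14_1 lc_f_rc_14_1 lc_f_rc_21_1 lc_f_Cert_tree lc_f_rc_40_2 lc_f_rc_37_2 lc_f_rc_21_1 lc_f_Cert_tree lc_f_rc_38_0 lc_f_rc_14_1 lc_f_rc_38_0 lc_f_rc_39_2 lc_f_rc_38_0 lc_f_rc_40_2 lc_f_rc_40_2 lc_f_rc_37_2 lc_f_rc_6_1 lc_f_rc_38_0 lc_f_rc_40_2 lc_f_rc_14_1 lc_f_rc_37_2 lc_f_rc_40_2 lc_f_rc_40_2 lc_f_rc_37_2 lc_f_rc_37_2 lc_f_rc_27_1 lc_f_rc_21_1) (@D3.rec (fun _ => (Cert rels S Gen.f)) lc_f_Cert_tree lc_f_rc_32_3 lc_f_rc_32_3 lc_f_rc_40_2 lc_f_rc_37_2 lc_f_rc_37_2 lc_f_rc_27_1 lc_f_rc_27_1 lc_f_rc_21_1 lc_f_Cert_tree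 lc_f_rc_38_0 lc_f_rc_21_1 lc_f_rc_32_3 lc_f_rc_14_1 lc_f_rc_6_1 lc_f_rc_6_1 lc_f_rc_27_3 lc_f_rc_21_1 lc_f_rc_14_1 lc_f_rc_14_1 lc_f_rc_21_1 lc_f_Cert_tree lc_f_rc_27_3 lc_f_rc_38_0 lc_f_rc_40_2 lc_f_rc_21_1 lc_f_Cert_tree lc_f_rc_14_1 lc_f_Cert_tree lc_f_rc_38_0 lc_f_rc_39_2 lc_f_rc_6_1) (@D3.rec (fun _ => (Cert rels S Gen.f)) lc_f_rc_39_2 lc_f_rc_6_1 lc_f_rc_40_2 lc_f_rc_37_2 lc_f_rc_37_2 lc_f_rc_27_1 lc_f_Cert_tree lc_f_rc_21_1 lc_f_rc_40_2 lc_f_rc_37_2 lc_f_rc_14_1 lc_f_rc_14_1 lc_f_rc_40_2 lc_f_rc_37_2 lc_f_rc_37_2 lc_f_rc_27_1 lc_f_rc_27_1 lc_f_rc_21_1 lc_f_Cert_tree lc_f_Cert_tree lc_f_rc_38_0 lc_f_rc_27_1 lc_f_rc_40_2 lc_f_rc_37_2 lc_f_rc_37_2 lc_f_rc_27_1 lc_f_rc_27_1 lc_f_rc_21_1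 lc_f_Cert_tree lc_f_rc_21_1 lc_f_Cert_tree lc_f_rc_14_1) (@D3.rec (fun _ => (Cert rels S Gen.f)) lc_f_Cert_tree lc_f_rc_38_0 lc_f_rc_39_2 lc_f_rc_14_1 lc_f_rc_21_1 lc_f_rc_6_1 lc_f_rc_6_1 lc_f_rc_6_1 lc_f_rc_6_3 lc_f_rc_27_1 lc_f_rc_14_1 lc_f_rc_21_1 lc_f_Cert_tree lc_f_rc_14_1 lc_f_Cert_tree lc_f_rc_38_0 lc_f_rc_6_1 lc_f_rc_39_2 lc_f_rc_21_1 lc_f_Cert_tree lc_f_rc_14_1 lc_f_Cert_tree lc_f_rc_38_0 lc_f_rc_6_1 lc_f_Cert_tree lc_f_rc_38_0 lc_f_rc_39_2 lc_f_rc_6_1 lc_f_rc_37_2 lc_f_rc_27_1 lc_f_rc_27_1 lc_f_rc_21_1) (@D3.rec (fun _ => (Cert rels S Gen.f)) lc_f_Cert_tree lc_f_rc_38_0 lc_f_rc_27_1 lc_f_rc_21_1 lc_f_rc_37_2 lc_f_rc_27_1 lc_f_rc_27_1 lc_f_rc_14_1 lc_f_rc_14_1 lc_f_rc_37_2 lc_f_rc_27_1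 lc_f_rc_27_1 lc_f_rc_21_1 lc_f_Cert_tree lc_f_rc_21_1 lc_f_Cert_tree lc_f_rc_14_1 lc_f_Cert_tree lc_f_rc_38_0 lc_f_Cert_tree lc_f_rc_38_0 lc_f_rc_39_2 lc_f_rc_21_1 lc_f_rc_27_1 lc_f_rc_40_2 lc_f_rc_27_1 lc_f_rc_27_1 lc_f_rc_21_1 lc_f_Cert_tree lc_f_rc_21_1 lc_f_Cert_tree lc_f_rc_14_1) (@D3.rec (fun _ => (Cert rels S Gen.f)) lc_f_Cert_tree lc_f_rc_38_0 lc_f_rc_14_1 lc_f_Cert_tree lc_f_rc_38_0 lc_f_rc_6_1 lc_f_Cert_tree lc_f_rc_38_0 lc_f_rc_39_2 lc_f_rc_6_1 lc_f_rc_14_1 lc_f_rc_27_1 lc_f_rc_6_1 lc_f_rc_6_3 lc_f_rc_14_1 lc_f_rc_6_3 lc_f_rc_27_1 lc_f_Cert_tree lc_f_rc_21_1 lc_f_Cert_tree lc_f_rc_14_1 lc_f_Cert_tree lc_f_rc_38_0 lc_f_rc_6_1 lc_f_Cert_tree lc_f_rc_6_1 lc_f_rc_38_0 lc_f_rc_39_2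 lc_f_rc_6_1 lc_f_rc_14_1 lc_f_Cert_tree lc_f_rc_38_0) (@D3.rec (fun _ => (Cert rels S Gen.f)) lc_f_rc_6_1 lc_f_Cert_tree lc_f_Cert_tree lc_f_rc_38_0 lc_f_rc_39_2 lc_f_Cert_tree lc_f_rc_38_0 lc_f_rc_21_1 lc_f_rc_6_1 lc_f_rc_27_1 lc_f_rc_21_1 lc_f_Cert_tree lc_f_rc_21_1 lc_f_Cert_tree lc_f_rc_14_1 lc_f_Cert_tree lc_f_rc_38_0 lc_f_rc_27_1 lc_f_rc_21_1 lc_f_rc_27_1 lc_f_rc_21_1 lc_f_Cert_tree lc_f_rc_27_1 lc_f_rc_14_1 lc_f_rc_27_1 lc_f_rc_27_1 lc_f_rc_21_1 lc_f_Cert_tree lc_f_rc_21_1 lc_f_Cert_tree lc_f_rc_14_1 lc_f_Cert_tree) (@D3.rec (fun _ => (Cert rels S Gen.f)) lc_f_rc_38_0 lc_f_rc_14_1 lc_f_Cert_tree lc_f_rc_38_0 lc_f_rc_6_1 lc_f_Cert_tree lc_f_Cert_tree lc_f_rc_38_0 lc_f_rc_39_2 lc_f_rc_38_0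 lc_f_rc_38_1 lc_f_rc_21_1 lc_f_rc_37_2 lc_f_rc_27_1 lc_f_rc_21_1 lc_f_Cert_tree lc_f_rc_21_1 lc_f_Cert_tree lc_f_rc_14_1 lc_f_Cert_tree lc_f_rc_38_0 lc_f_rc_14_1 lc_f_Cert_tree lc_f_rc_38_0 lc_f_rc_6_1 lc_f_Cert_tree lc_f_Cert_tree lc_f_rc_38_0 lc_f_rc_39_2 lc_f_rc_6_1 lc_f_Cert_tree lc_f_Cert_tree) (@D3.rec (fun _ => (Cert rels S Gen.f)) lc_f_rc_38_0 lc_f_rc_39_2 lc_f_Cert_tree lc_f_rc_38_0 lc_f_rc_21_1 lc_f_rc_6_1 lc_f_rc_14_1 lc_f_rc_32_5 lc_f_rc_14_1 lc_f_rc_6_3 lc_f_rc_6_1 lc_f_rc_14_1 lc_f_rc_14_1 lc_f_Cert_tree lc_f_rc_38_0 lc_f_rc_14_1 lc_f_Cert_tree lc_f_rc_38_0 lc_f_rc_6_1 lc_f_Cert_tree lc_f_Cert_tree lc_f_rc_38_0 lc_f_rc_39_2 lc_f_Cert_tree lc_f_rc_14_1 lc_f_rc_38_0 lc_f_rc_6_1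 lc_f_rc_21_1 lc_f_rc_6_1 lc_f_Cert_tree lc_f_Cert_tree lc_f_rc_38_0) (@D3.rec (fun _ => (Cert rels S Gen.f)) lc_f_rc_39_2 lc_f_Cert_tree lc_f_Cert_tree lc_f_rc_38_0 lc_f_rc_38_0 lc_f_rc_21_1 lc_f_rc_38_0 lc_f_rc_14_1 lc_f_rc_6_1 lc_f_rc_21_1 lc_f_Cert_tree lc_f_rc_14_1 lc_f_Cert_tree lc_f_rc_38_0 lc_f_rc_14_1 lc_f_Cert_tree lc_f_rc_38_0 lc_f_rc_6_1 lc_f_Cert_tree lc_f_rc_38_0 lc_f_rc_37_2 lc_f_rc_27_1 lc_f_rc_21_1 lc_f_Cert_tree lc_f_rc_14_1 lc_f_Cert_tree lc_f_rc_38_0 lc_f_rc_37_2 lc_f_rc_27_1 lc_f_rc_21_1 lc_f_Cert_tree lc_f_rc_21_1) (@D3.rec (fun _ => (Cert rels S Gen.f)) lc_f_Cert_tree lc_f_rc_14_1 lc_f_Cert_tree lc_f_rc_38_0 lc_f_rc_14_1 lc_f_Cert_tree lc_f_rc_38_0 lc_f_rc_6_1 lc_f_Cert_tree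 lc_f_Cert_tree lc_f_rc_38_0 lc_f_rc_39_2 lc_f_rc_6_1 lc_f_Cert_tree lc_f_Cert_tree lc_f_rc_38_0 lc_f_rc_14_1 lc_f_Cert_tree lc_f_Cert_tree lc_f_rc_38_0 lc_f_rc_38_0 lc_f_rc_38_1 lc_f_rc_21_1 lc_f_rc_32_3 lc_f_rc_37_2 lc_f_rc_6_3 lc_f_rc_21_1 lc_f_rc_37_2 lc_f_rc_21_1 lc_f_Cert_tree lc_f_rc_14_1 lc_f_Cert_tree) (@D3.rec (fun _ => (Cert rels S Gen.f)) lc_f_rc_38_0 lc_f_rc_14_1 lc_f_Cert_tree lc_f_rc_38_0 lc_f_rc_6_1 lc_f_Cert_tree lc_f_Cert_tree lc_f_rc_38_0 lc_f_rc_32_3 lc_f_rc_6_1 lc_f_Cert_tree lc_f_Cert_tree lc_f_rc_38_0 lc_f_rc_39_2 lc_f_Cert_tree lc_f_Cert_tree lc_f_rc_38_0 lc_f_rc_38_0 lc_f_rc_21_1 lc_f_Cert_tree lc_f_Cert_tree lc_f_rc_38_0 lc_f_rc_38_0 lc_f_rc_38_1 lc_f_rc_21_1 lc_f_rc_38_0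 lc_f_rc_14_1 lc_f_rc_6_1 lc_f_rc_21_1 lc_f_rc_14_1 lc_f_rc_40_2 lc_f_rc_6_1) (@D3.rec (fun _ => (Cert rels S Gen.f)) lc_f_rc_14_1 lc_f_rc_6_3 lc_f_rc_6_1 lc_f_rc_6_1 lc_f_Cert_tree lc_f_Cert_tree lc_f_rc_38_0 lc_f_rc_6_1 lc_f_Cert_tree lc_f_Cert_tree lc_f_rc_38_0 lc_f_rc_39_2 lc_f_Cert_tree lc_f_Cert_tree lc_f_rc_38_0 lc_f_rc_38_0 lc_f_rc_6_1 lc_f_rc_21_1 lc_f_rc_6_1 lc_f_rc_38_0 lc_f_rc_14_1 lc_f_rc_14_1 lc_f_Cert_tree lc_f_Cert_tree lc_f_rc_38_0 lc_f_rc_38_0 lc_f_rc_38_1 lc_f_rc_21_1 lc_f_Cert_tree lc_f_rc_38_0 lc_f_Cert_tree lc_f_rc_38_0) (@D3.rec (fun _ => (Cert rels S Gen.f)) lc_f_rc_14_1 lc_f_rc_32_3 lc_f_rc_27_1 lc_f_rc_6_1 lc_f_rc_21_1 lc_f_Cert_tree lc_f_rc_14_1 lc_f_Cert_tree lc_f_rc_38_0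 lc_f_rc_6_1 lc_f_Cert_tree lc_f_Cert_tree lc_f_rc_38_0 lc_f_rc_6_1 lc_f_Cert_tree lc_f_Cert_tree lc_f_rc_38_0 lc_f_Cert_tree lc_f_rc_38_0 lc_f_rc_37_2 lc_f_rc_21_1 lc_f_Cert_tree lc_f_rc_14_1 lc_f_Cert_tree lc_f_rc_38_0 lc_f_rc_6_1 lc_f_Cert_tree lc_f_Cert_tree lc_f_rc_38_0 lc_f_rc_6_1 lc_f_rc_37_2 lc_f_rc_21_1) (@D3.rec (fun _ => (Cert rels S Gen.f)) lc_f_Cert_tree lc_f_rc_14_1 lc_f_Cert_tree lc_f_rc_38_0 lc_f_rc_14_1 lc_f_Cert_tree lc_f_rc_38_0 lc_f_rc_6_1 lc_f_Cert_tree lc_f_Cert_tree lc_f_rc_38_0 lc_f_rc_32_3 lc_f_rc_6_1 lc_f_Cert_tree lc_f_Cert_tree lc_f_rc_38_0 lc_f_rc_39_2 lc_f_Cert_tree lc_f_Cert_tree lc_f_rc_38_0 lc_f_rc_38_0 lc_f_rc_38_1 lc_f_rc_21_1 lc_f_Cert_tree lc_f_Cert_tree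 lc_f_rc_38_0 lc_f_rc_38_0 lc_f_rc_38_1 lc_f_rc_21_1 lc_f_Cert_tree lc_f_rc_38_0 lc_f_rc_38_0) (@D3.rec (fun _ => (Cert rels S Gen.f)) lc_f_rc_38_1 lc_f_rc_14_1 lc_f_rc_32_3 lc_f_rc_37_2 lc_f_rc_6_3 lc_f_rc_32_3 lc_f_rc_27_1 lc_f_rc_21_1 lc_f_Cert_tree lc_f_rc_14_1 lc_f_Cert_tree lc_f_rc_38_0 lc_f_rc_6_1 lc_f_Cert_tree lc_f_Cert_tree lc_f_rc_38_0 lc_f_rc_39_2 lc_f_rc_6_1 lc_f_Cert_tree lc_f_Cert_tree lc_f_rc_38_0 lc_f_rc_39_2 lc_f_Cert_tree lc_f_Cert_tree lc_f_rc_38_0 lc_f_rc_38_0 lc_f_rc_38_1 lc_f_rc_32_3 lc_f_Cert_tree lc_f_Cert_tree lc_f_rc_38_0 lc_f_rc_38_0) (@D3.rec (fun _ => (Cert rels S Gen.f)) lc_f_rc_38_1 lc_f_rc_21_1 lc_f_Cert_tree lc_f_rc_38_0 lc_f_Cert_tree lc_f_rc_38_0 lc_f_rc_14_1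 lc_f_rc_32_3 lc_f_rc_27_1 lc_f_Cert_tree lc_f_rc_38_0 lc_f_Cert_tree lc_f_rc_38_0 lc_f_rc_38_1 lc_f_rc_14_1 lc_f_rc_27_1 lc_f_rc_37_2 lc_f_rc_40_2 lc_f_rc_6_1 lc_f_rc_6_1 lc_f_rc_6_1 lc_f_rc_21_1 lc_f_rc_14_1 lc_f_rc_6_1 lc_f_rc_14_1 lc_f_Cert_tree lc_f_Cert_tree lc_f_rc_38_0 lc_f_rc_38_0 lc_f_rc_38_1 lc_f_Cert_tree lc_f_Cert_tree) (@D3.rec (fun _ => (Cert rels S Gen.f)) lc_f_rc_38_0 lc_f_rc_38_0 lc_f_rc_32_3 lc_f_rc_21_1 lc_f_Cert_tree lc_f_rc_38_0 lc_f_Cert_tree lc_f_rc_38_0 lc_f_rc_14_1 lc_f_rc_14_1 lc_f_rc_27_1 lc_f_rc_6_1 lc_f_rc_6_1 lc_f_Cert_tree lc_f_rc_38_0 lc_f_Cert_tree lc_f_rc_38_0 lc_f_rc_38_1 lc_f_rc_14_1 lc_f_rc_32_3 lc_f_rc_27_1 lc_f_rc_37_2 lc_f_Cert_tree lc_f_rc_38_0 lc_f_rc_6_1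 lc_f_rc_38_0 lc_f_rc_32_3 lc_f_rc_14_1 lc_f_Cert_tree lc_f_rc_14_1 lc_f_Cert_tree lc_f_rc_38_0)
def ce_f_1 : D2 → D3 → (Cert rels S Gen.f) := @D2.rec (fun _ => D3 → (Cert rels S Gen.f)) (@D3.rec (fun _ => (Cert rels S Gen.f)) lc_f_rc_6_1 lc_f_Cert_tree lc_f_Cert_tree lc_f_rc_38_0 lc_f_Cert_tree lc_f_Cert_tree lc_f_rc_38_0 lc_f_rc_38_0 lc_f_Cert_tree lc_f_Cert_tree lc_f_rc_38_0 lc_f_rc_38_0 lc_f_rc_38_1 lc_f_rc_38_0 lc_f_rc_21_1 lc_f_Cert_tree lc_f_rc_14_1 lc_f_Cert_tree lc_f_rc_38_0 lc_f_rc_6_1 lc_f_Cert_tree lc_f_Cert_tree lc_f_rc_38_0 lc_f_rc_39_2 lc_f_Cert_tree lc_f_Cert_tree lc_f_rc_38_0 lc_f_rc_38_0 lc_f_rc_38_1 lc_f_rc_6_1 lc_f_rc_21_1 lc_f_Cert_tree) (@D3.rec (fun _ => (Cert rels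 S Gen.f)) lc_f_rc_14_1 lc_f_Cert_tree lc_f_rc_38_0 lc_f_rc_6_1 lc_f_Cert_tree lc_f_Cert_tree lc_f_rc_38_0 lc_f_rc_39_2 lc_f_rc_6_1 lc_f_Cert_tree lc_f_Cert_tree lc_f_rc_38_0 lc_f_rc_39_2 lc_f_Cert_tree lc_f_Cert_tree lc_f_rc_38_0 lc_f_rc_38_0 lc_f_rc_38_1 lc_f_rc_32_3 lc_f_Cert_tree lc_f_Cert_tree lc_f_rc_38_0 lc_f_rc_38_0 lc_f_rc_38_1 lc_f_rc_21_1 lc_f_Cert_tree lc_f_rc_38_0 lc_f_Cert_tree lc_f_rc_38_0 lc_f_rc_38_1 lc_f_rc_14_1 lc_f_rc_32_3) (@D3.rec (fun _ => (Cert rels S Gen.f)) lc_f_rc_27_1 lc_f_rc_37_2 lc_f_rc_6_3 lc_f_Cert_tree lc_f_rc_38_0 lc_f_Cert_tree lc_f_rc_38_0 lc_f_rc_38_1 lc_f_rc_14_1 lc_f_rc_27_1 lc_f_rc_27_1 lc_f_rc_37_2 lc_f_rc_40_2 lc_f_rc_38_0 lc_f_rc_38_1 lc_f_rc_6_1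 lc_f_rc_14_1 lc_f_rc_37_2 lc_f_rc_14_1 lc_f_rc_32_3 lc_f_rc_27_1 lc_f_rc_27_1 lc_f_Cert_tree lc_f_rc_14_1 lc_f_Cert_tree lc_f_rc_38_0 lc_f_rc_6_1 lc_f_Cert_tree lc_f_Cert_tree lc_f_rc_38_0 lc_f_rc_39_2 lc_f_Cert_tree) (@D3.rec (fun _ => (Cert rels S Gen.f)) lc_f_Cert_tree lc_f_rc_38_0 lc_f_rc_38_0 lc_f_rc_38_1 lc_f_rc_21_1 lc_f_Cert_tree lc_f_Cert_tree lc_f_rc_38_0 lc_f_rc_38_0 lc_f_rc_38_1 lc_f_rc_39_2 lc_f_Cert_tree lc_f_rc_38_0 lc_f_Cert_tree lc_f_rc_38_0 lc_f_rc_38_1 lc_f_rc_14_1 lc_f_rc_32_3 lc_f_rc_39_2 lc_f_rc_37_2 lc_f_rc_40_2 lc_f_Cert_tree lc_f_rc_38_0 lc_f_Cert_tree lc_f_rc_38_0 lc_f_rc_38_1 lc_f_rc_14_1 lc_f_rc_32_3 lc_f_rc_27_1 lc_f_rc_37_2 lc_f_Cert_tree lc_f_rc_38_0) (@D3.rec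 (fun _ => (Cert rels S Gen.f)) lc_f_rc_6_1 lc_f_rc_38_0 lc_f_rc_32_3 lc_f_rc_14_1 lc_f_Cert_tree lc_f_Cert_tree lc_f_rc_38_0 lc_f_rc_38_1 lc_f_rc_6_1 lc_f_rc_38_0 lc_f_rc_38_1 lc_f_rc_14_1 lc_f_rc_37_2 lc_f_rc_40_2 lc_f_rc_37_2 lc_f_rc_40_2 lc_f_rc_14_1 lc_f_rc_6_1 lc_f_rc_6_1 lc_f_rc_27_1 lc_f_rc_21_1 lc_f_rc_6_1 lc_f_rc_21_1 lc_f_Cert_tree lc_f_rc_38_0 lc_f_Cert_tree lc_f_rc_38_0 lc_f_rc_38_1 lc_f_rc_32_3 lc_f_rc_37_2 lc_f_Cert_tree lc_f_rc_38_0) (@D3.rec (fun _ => (Cert rels S Gen.f)) lc_f_Cert_tree lc_f_rc_38_0 lc_f_rc_32_3 lc_f_rc_14_1 lc_f_rc_27_1 lc_f_Cert_tree lc_f_rc_38_0 lc_f_rc_6_1 lc_f_rc_6_1 lc_f_rc_38_0 lc_f_rc_21_1 lc_f_rc_14_1 lc_f_Cert_tree lc_f_rc_38_0 lc_f_rc_38_1 lc_f_rc_6_1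 lc_f_rc_38_0 lc_f_rc_38_1 lc_f_rc_32_3 lc_f_rc_14_1 lc_f_rc_37_2 lc_f_Cert_tree lc_f_rc_32_3 lc_f_rc_37_2 lc_f_Cert_tree lc_f_rc_38_0 lc_f_rc_6_1 lc_f_rc_6_1 lc_f_rc_21_1 lc_f_rc_21_1 lc_f_Cert_tree lc_f_rc_38_0) (@D3.rec (fun _ => (Cert rels S Gen.f)) lc_f_rc_6_1 lc_f_Cert_tree lc_f_Cert_tree lc_f_rc_38_0 lc_f_Cert_tree lc_f_Cert_tree lc_f_rc_38_0 lc_f_rc_38_0 lc_f_rc_38_1 lc_f_Cert_tree lc_f_rc_38_0 lc_f_Cert_tree lc_f_rc_38_0 lc_f_rc_32_3 lc_f_Cert_tree lc_f_rc_38_0 lc_f_Cert_tree lc_f_rc_38_0 lc_f_rc_38_1 lc_f_rc_37_2 lc_f_rc_40_2 lc_f_rc_14_1 lc_f_Cert_tree lc_f_rc_38_0 lc_f_rc_6_1 lc_f_Cert_tree lc_f_Cert_tree lc_f_rc_38_0 lc_f_rc_39_2 lc_f_Cert_tree lc_f_Cert_tree lc_f_rc_38_0) (@D3.rec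 (fun _ => (Cert rels S Gen.f)) lc_f_rc_38_0 lc_f_rc_38_1 lc_f_rc_39_2 lc_f_Cert_tree lc_f_rc_38_0 lc_f_Cert_tree lc_f_rc_38_0 lc_f_rc_38_1 lc_f_rc_14_1 lc_f_rc_32_3 lc_f_rc_6_1 lc_f_rc_37_2 lc_f_rc_40_2 lc_f_rc_14_1 lc_f_Cert_tree lc_f_rc_38_0 lc_f_rc_6_1 lc_f_Cert_tree lc_f_Cert_tree lc_f_rc_38_0 lc_f_rc_39_2 lc_f_Cert_tree lc_f_Cert_tree lc_f_rc_38_0 lc_f_rc_38_0 lc_f_rc_38_1 lc_f_rc_21_1 lc_f_Cert_tree lc_f_Cert_tree lc_f_rc_38_0 lc_f_rc_38_0 lc_f_rc_38_1) (@D3.rec (fun _ => (Cert rels S Gen.f)) lc_f_rc_39_2 lc_f_Cert_tree lc_f_rc_38_0 lc_f_Cert_tree lc_f_rc_38_0 lc_f_rc_38_1 lc_f_rc_14_1 lc_f_rc_32_3 lc_f_rc_39_2 lc_f_rc_37_2 lc_f_rc_40_2 lc_f_Cert_tree lc_f_rc_38_0 lc_f_Cert_tree lc_f_rc_38_0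 lc_f_rc_38_1 lc_f_rc_14_1 lc_f_rc_32_3 lc_f_rc_27_1 lc_f_rc_37_2 lc_f_rc_37_2 lc_f_Cert_tree lc_f_rc_38_0 lc_f_rc_38_1 lc_f_rc_6_1 lc_f_rc_38_0 lc_f_rc_38_1 lc_f_rc_14_1 lc_f_rc_14_1 lc_f_rc_37_2 lc_f_rc_14_1 lc_f_rc_14_3) (@D3.rec (fun _ => (Cert rels S Gen.f)) lc_f_rc_32_3 lc_f_Cert_tree lc_f_rc_38_0 lc_f_rc_38_1 lc_f_rc_6_1 lc_f_rc_38_0 lc_f_rc_38_1 lc_f_rc_14_1 lc_f_rc_14_1 lc_f_rc_37_2 lc_f_rc_40_2 lc_f_rc_32_3 lc_f_rc_37_2 lc_f_rc_40_2 lc_f_rc_6_1 lc_f_rc_37_2 lc_f_rc_14_3 lc_f_rc_14_1 lc_f_rc_27_1 lc_f_rc_21_1 lc_f_rc_14_1 lc_f_Cert_tree lc_f_rc_38_0 lc_f_rc_6_1 lc_f_Cert_tree lc_f_Cert_tree lc_f_rc_38_0 lc_f_rc_37_2 lc_f_Cert_tree lc_f_Cert_tree lc_f_rc_38_0 lc_f_rc_38_0) (@D3.rec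 (fun _ => (Cert rels S Gen.f)) lc_f_rc_38_1 lc_f_rc_21_1 lc_f_Cert_tree lc_f_rc_38_0 lc_f_Cert_tree lc_f_rc_38_0 lc_f_rc_38_1 lc_f_rc_14_1 lc_f_rc_32_3 lc_f_rc_21_1 lc_f_rc_37_2 lc_f_rc_40_2 lc_f_Cert_tree lc_f_rc_38_0 lc_f_Cert_tree lc_f_rc_38_0 lc_f_rc_38_1 lc_f_rc_14_1 lc_f_rc_32_3 lc_f_rc_39_2 lc_f_rc_37_2 lc_f_rc_37_2 lc_f_Cert_tree lc_f_rc_38_0 lc_f_rc_38_1 lc_f_rc_6_1 lc_f_rc_38_0 lc_f_rc_38_1 lc_f_rc_14_1 lc_f_rc_14_1 lc_f_rc_37_2 lc_f_rc_40_2) (@D3.rec (fun _ => (Cert rels S Gen.f)) lc_f_rc_37_0 lc_f_rc_32_3 lc_f_rc_27_1 lc_f_rc_40_2 lc_f_Cert_tree lc_f_rc_38_0 lc_f_rc_38_1 lc_f_rc_6_1 lc_f_rc_38_0 lc_f_rc_38_1 lc_f_rc_32_3 lc_f_rc_14_1 lc_f_rc_37_2 lc_f_rc_32_3 lc_f_rc_32_3 lc_f_rc_37_2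 lc_f_Cert_tree lc_f_rc_38_0 lc_f_rc_6_1 lc_f_rc_6_1 lc_f_rc_21_1 lc_f_rc_21_1 lc_f_Cert_tree lc_f_rc_38_0 lc_f_Cert_tree lc_f_rc_38_0 lc_f_rc_38_1 lc_f_rc_6_1 lc_f_rc_37_2 lc_f_rc_40_2 lc_f_rc_21_1 lc_f_rc_37_2) (@D3.rec (fun _ => (Cert rels S Gen.f)) lc_f_rc_27_1 lc_f_rc_40_2 lc_f_rc_14_1 lc_f_rc_40_2 lc_f_rc_40_2 lc_f_rc_14_1 lc_f_rc_6_1 lc_f_rc_6_1 lc_f_Cert_tree lc_f_rc_27_1 lc_f_rc_6_1 lc_f_Cert_tree lc_f_rc_38_0 lc_f_rc_38_1 lc_f_rc_38_0 lc_f_rc_38_1 lc_f_rc_32_3 lc_f_rc_37_2 lc_f_Cert_tree lc_f_rc_38_0 lc_f_rc_6_1 lc_f_rc_6_1 lc_f_rc_38_0 lc_f_rc_32_3 lc_f_rc_14_1 lc_f_Cert_tree lc_f_rc_38_0 lc_f_rc_6_1 lc_f_rc_6_1 lc_f_rc_21_1 lc_f_Cert_tree lc_f_rc_38_0) (@D3.rec (fun _ => (Cert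 rels S Gen.f)) lc_f_rc_38_1 lc_f_rc_6_1 lc_f_rc_6_1 lc_f_rc_37_2 lc_f_rc_21_1 lc_f_rc_21_1 lc_f_rc_37_2 lc_f_rc_27_1 lc_f_Cert_tree lc_f_rc_32_3 lc_f_rc_14_1 lc_f_rc_38_0 lc_f_rc_32_1 lc_f_rc_27_1 lc_f_rc_38_0 lc_f_rc_21_1 lc_f_rc_6_1 lc_f_Cert_tree lc_f_rc_27_1 lc_f_Cert_tree lc_f_rc_38_0 lc_f_Cert_tree lc_f_Cert_tree lc_f_rc_38_0 lc_f_rc_38_0 lc_f_rc_38_1 lc_f_Cert_tree lc_f_rc_38_0 lc_f_Cert_tree lc_f_rc_38_0 lc_f_rc_38_1 lc_f_rc_32_3) (@D3.rec (fun _ => (Cert rels S Gen.f)) lc_f_rc_37_2 lc_f_rc_40_2 lc_f_Cert_tree lc_f_rc_38_0 lc_f_rc_38_0 lc_f_rc_14_1 lc_f_Cert_tree lc_f_rc_38_0 lc_f_rc_38_1 lc_f_rc_38_0 lc_f_rc_38_1 lc_f_rc_37_2 lc_f_rc_40_2 lc_f_rc_40_2 lc_f_rc_6_1 lc_f_Cert_tree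 lc_f_Cert_tree lc_f_rc_38_0 lc_f_rc_37_2 lc_f_Cert_tree lc_f_Cert_tree lc_f_rc_38_0 lc_f_rc_38_0 lc_f_rc_38_1 lc_f_rc_21_1 lc_f_Cert_tree lc_f_rc_38_0 lc_f_Cert_tree lc_f_rc_38_0 lc_f_rc_38_1 lc_f_rc_14_1 lc_f_rc_32_3) (@D3.rec (fun _ => (Cert rels S Gen.f)) lc_f_rc_39_2 lc_f_rc_37_2 lc_f_rc_40_2 lc_f_Cert_tree lc_f_rc_38_0 lc_f_rc_38_1 lc_f_rc_14_1 lc_f_rc_38_0 lc_f_rc_38_1 lc_f_rc_14_1 lc_f_rc_14_1 lc_f_rc_37_2 lc_f_rc_40_2 lc_f_Cert_tree lc_f_rc_32_3 lc_f_rc_37_2 lc_f_rc_40_2 lc_f_rc_6_1 lc_f_Cert_tree lc_f_Cert_tree lc_f_rc_38_0 lc_f_rc_37_2 lc_f_Cert_tree lc_f_Cert_tree lc_f_rc_38_0 lc_f_rc_38_0 lc_f_rc_38_1 lc_f_rc_21_1 lc_f_Cert_tree lc_f_rc_38_0 lc_f_Cert_tree lc_f_rc_38_0) (@D3.rec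 (fun _ => (Cert rels S Gen.f)) lc_f_rc_38_1 lc_f_rc_14_1 lc_f_rc_32_3 lc_f_rc_21_1 lc_f_rc_37_2 lc_f_rc_40_2 lc_f_Cert_tree lc_f_rc_38_0 lc_f_Cert_tree lc_f_rc_38_0 lc_f_rc_38_1 lc_f_rc_14_1 lc_f_rc_32_3 lc_f_rc_39_2 lc_f_rc_37_2 lc_f_rc_40_2 lc_f_Cert_tree lc_f_rc_38_0 lc_f_rc_38_1 lc_f_rc_6_1 lc_f_rc_38_0 lc_f_rc_38_1 lc_f_rc_14_1 lc_f_rc_14_1 lc_f_rc_37_2 lc_f_rc_40_2 lc_f_Cert_tree lc_f_rc_32_3 lc_f_rc_27_1 lc_f_rc_40_2 lc_f_Cert_tree lc_f_rc_38_0) (@D3.rec (fun _ => (Cert rels S Gen.f)) lc_f_rc_38_1 lc_f_rc_6_1 lc_f_rc_38_0 lc_f_rc_38_1 lc_f_rc_14_1 lc_f_rc_14_1 lc_f_rc_37_2 lc_f_rc_37_2 lc_f_rc_37_2 lc_f_rc_21_1 lc_f_Cert_tree lc_f_rc_38_0 lc_f_rc_38_1 lc_f_rc_6_1 lc_f_rc_6_1 lc_f_rc_37_2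 lc_f_rc_14_3 lc_f_rc_21_1 lc_f_rc_21_1 lc_f_rc_37_2 lc_f_rc_21_1 lc_f_rc_32_3 lc_f_rc_14_1 lc_f_rc_27_1 lc_f_Cert_tree lc_f_rc_38_0 lc_f_rc_38_1 lc_f_rc_6_1 lc_f_rc_6_1 lc_f_rc_37_2 lc_f_rc_40_2 lc_f_rc_21_1) (@D3.rec (fun _ => (Cert rels S Gen.f)) lc_f_rc_21_1 lc_f_rc_37_2 lc_f_rc_27_1 lc_f_rc_40_2 lc_f_rc_14_1 lc_f_rc_14_1 lc_f_rc_40_2 lc_f_rc_37_2 lc_f_rc_40_2 lc_f_rc_40_2 lc_f_rc_6_1 lc_f_rc_27_1 lc_f_rc_21_1 lc_f_rc_14_1 lc_f_rc_6_1 lc_f_Cert_tree lc_f_rc_32_1 lc_f_rc_38_0 lc_f_rc_39_2 lc_f_Cert_tree lc_f_Cert_tree lc_f_rc_38_0 lc_f_rc_38_0 lc_f_rc_32_1 lc_f_rc_37_2 lc_f_Cert_tree lc_f_rc_38_0 lc_f_Cert_tree lc_f_rc_38_0 lc_f_rc_38_1 lc_f_rc_14_1 lc_f_rc_32_3) (@D3.rec (fun _ => (Cert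 rels S Gen.f)) lc_f_rc_21_1 lc_f_rc_37_2 lc_f_rc_37_2 lc_f_Cert_tree lc_f_rc_38_0 lc_f_rc_38_1 lc_f_rc_6_1 lc_f_rc_38_0 lc_f_rc_38_1 lc_f_rc_14_1 lc_f_rc_14_1 lc_f_rc_37_2 lc_f_rc_40_2 lc_f_rc_37_0 lc_f_rc_32_3 lc_f_rc_37_2 lc_f_rc_40_2 lc_f_Cert_tree lc_f_rc_38_0 lc_f_rc_38_1 lc_f_rc_6_1 lc_f_rc_38_0 lc_f_rc_38_1 lc_f_rc_14_1 lc_f_rc_14_1 lc_f_rc_37_2 lc_f_rc_37_2 lc_f_Cert_tree lc_f_rc_38_0 lc_f_rc_38_1 lc_f_rc_6_1 lc_f_rc_6_1) (@D3.rec (fun _ => (Cert rels S Gen.f)) lc_f_rc_37_2 lc_f_rc_40_2 lc_f_rc_21_1 lc_f_rc_21_1 lc_f_rc_37_2 lc_f_rc_27_1 lc_f_rc_40_2 lc_f_rc_37_0 lc_f_rc_14_1 lc_f_rc_27_1 lc_f_rc_40_2 lc_f_Cert_tree lc_f_rc_38_0 lc_f_rc_38_1 lc_f_rc_6_1 lc_f_rc_6_1 lc_f_rc_37_2 lc_f_rc_21_1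 lc_f_rc_21_1 lc_f_rc_37_2 lc_f_rc_27_1 lc_f_rc_32_3 lc_f_rc_32_3 lc_f_rc_14_1 lc_f_rc_38_0 lc_f_rc_21_1 lc_f_rc_6_1 lc_f_Cert_tree lc_f_rc_27_1 lc_f_Cert_tree lc_f_rc_38_0 lc_f_rc_38_0) (@D3.rec (fun _ => (Cert rels S Gen.f)) lc_f_rc_38_1 lc_f_rc_6_1 lc_f_rc_37_2 lc_f_rc_27_1 lc_f_rc_40_2 lc_f_rc_6_1 lc_f_rc_40_2 lc_f_rc_21_1 lc_f_rc_27_1 lc_f_rc_40_2 lc_f_Cert_tree lc_f_rc_40_2 lc_f_rc_14_1 lc_f_rc_14_1 lc_f_rc_14_1 lc_f_Cert_tree lc_f_rc_6_1 lc_f_rc_38_0 lc_f_rc_40_2 lc_f_rc_37_2 lc_f_rc_14_1 lc_f_Cert_tree lc_f_rc_38_0 lc_f_rc_38_1 lc_f_rc_6_1 lc_f_rc_37_2 lc_f_rc_32_3 lc_f_rc_37_2 lc_f_rc_27_1 lc_f_Cert_tree lc_f_rc_38_0 lc_f_rc_6_1)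
def ce_f_2 : D2 → D3 → (Cert rels S Gen.f) := @D2.rec (fun _ => D3 → (Cert rels S Gen.f)) (@D3.rec (fun _ => (Cert rels S Gen.f)) lc_f_rc_6_1 lc_f_rc_21_1 lc_f_rc_45_59 lc_f_rc_38_0 lc_f_rc_14_1 lc_f_rc_6_1 lc_f_rc_38_0 lc_f_rc_38_1 lc_f_rc_21_1 lc_f_rc_6_1 lc_f_rc_37_2 lc_f_rc_27_1 lc_f_Cert_tree lc_f_rc_6_1 lc_f_rc_6_1 lc_f_rc_27_1 lc_f_Cert_tree lc_f_rc_21_1 lc_f_rc_21_1 lc_f_rc_27_1 lc_f_rc_37_2 lc_f_rc_38_0 lc_f_rc_32_1 lc_f_rc_27_1 lc_f_rc_14_1 lc_f_rc_14_1 lc_f_rc_27_1 lc_f_Cert_tree lc_f_rc_38_0 lc_f_Cert_tree lc_f_rc_38_0 lc_f_Cert_tree) (@D3.rec (fun _ => (Cert rels S Gen.f)) lc_f_rc_38_0 lc_f_Cert_tree lc_f_rc_38_0 lc_f_rc_38_1 lc_f_rc_21_1 lc_f_rc_37_2 lc_f_rc_40_2 lc_f_Cert_tree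 lc_f_rc_38_0 lc_f_rc_38_1 lc_f_rc_38_0 lc_f_rc_38_1 lc_f_rc_14_1 lc_f_rc_37_2 lc_f_rc_40_2 lc_f_rc_32_3 lc_f_rc_40_2 lc_f_Cert_tree lc_f_rc_38_0 lc_f_rc_6_1 lc_f_rc_21_1 lc_f_Cert_tree lc_f_rc_38_0 lc_f_rc_38_1 lc_f_rc_37_2 lc_f_rc_40_2 lc_f_rc_37_2 lc_f_rc_27_1 lc_f_rc_40_2 lc_f_rc_40_2 lc_f_Cert_tree lc_f_Cert_tree) (@D3.rec (fun _ => (Cert rels S Gen.f)) lc_f_rc_38_0 lc_f_rc_38_0 lc_f_rc_38_1 lc_f_rc_37_2 lc_f_Cert_tree lc_f_rc_38_0 lc_f_Cert_tree lc_f_rc_38_0 lc_f_rc_38_1 lc_f_rc_14_1 lc_f_rc_32_3 lc_f_rc_21_1 lc_f_rc_37_2 lc_f_rc_40_2 lc_f_Cert_tree lc_f_rc_38_0 lc_f_rc_38_1 lc_f_rc_6_1 lc_f_rc_38_0 lc_f_rc_38_1 lc_f_rc_14_1 lc_f_rc_14_1 lc_f_rc_37_2 lc_f_rc_40_2 lc_f_Cert_tree lc_f_rc_32_3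 lc_f_rc_37_2 lc_f_rc_40_2 lc_f_Cert_tree lc_f_rc_38_0 lc_f_rc_38_1 lc_f_rc_6_1) (@D3.rec (fun _ => (Cert rels S Gen.f)) lc_f_rc_14_1 lc_f_rc_37_2 lc_f_rc_40_2 lc_f_rc_21_1 lc_f_rc_21_1 lc_f_rc_37_2 lc_f_rc_27_1 lc_f_rc_40_2 lc_f_Cert_tree lc_f_rc_14_1 lc_f_rc_37_2 lc_f_rc_40_2 lc_f_rc_38_0 lc_f_rc_37_2 lc_f_rc_27_1 lc_f_Cert_tree lc_f_Cert_tree lc_f_rc_38_0 lc_f_rc_38_0 lc_f_rc_38_1 lc_f_rc_37_2 lc_f_Cert_tree lc_f_rc_38_0 lc_f_Cert_tree lc_f_rc_38_0 lc_f_rc_38_1 lc_f_rc_14_1 lc_f_rc_21_1 lc_f_rc_21_1 lc_f_rc_37_2 lc_f_rc_40_2 lc_f_Cert_tree) (@D3.rec (fun _ => (Cert rels S Gen.f)) lc_f_rc_38_0 lc_f_rc_38_1 lc_f_rc_6_1 lc_f_rc_38_0 lc_f_rc_38_1 lc_f_rc_14_1 lc_f_rc_14_1 lc_f_rc_37_2 lc_f_rc_40_2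 lc_f_Cert_tree lc_f_rc_32_3 lc_f_rc_37_2 lc_f_rc_40_2 lc_f_Cert_tree lc_f_rc_38_0 lc_f_rc_38_1 lc_f_rc_6_1 lc_f_rc_38_0 lc_f_rc_38_1 lc_f_rc_14_1 lc_f_rc_14_1 lc_f_rc_37_2 lc_f_rc_40_2 lc_f_rc_37_0 lc_f_rc_32_3 lc_f_rc_37_2 lc_f_rc_40_2 lc_f_Cert_tree lc_f_rc_38_0 lc_f_rc_38_1 lc_f_rc_6_1 lc_f_rc_6_1) (@D3.rec (fun _ => (Cert rels S Gen.f)) lc_f_rc_37_2 lc_f_rc_40_2 lc_f_rc_21_1 lc_f_rc_21_1 lc_f_rc_37_2 lc_f_rc_27_1 lc_f_rc_40_2 lc_f_Cert_tree lc_f_rc_14_1 lc_f_rc_27_1 lc_f_rc_40_2 lc_f_rc_38_0 lc_f_rc_39_4 lc_f_rc_27_1 lc_f_rc_40_2 lc_f_rc_27_1 lc_f_Cert_tree lc_f_rc_38_0 lc_f_rc_38_1 lc_f_rc_6_1 lc_f_rc_6_1 lc_f_rc_37_2 lc_f_rc_32_3 lc_f_rc_21_1 lc_f_rc_21_1 lc_f_rc_37_2 lc_f_rc_27_1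 lc_f_rc_37_2 lc_f_rc_37_2 lc_f_rc_46_12 lc_f_rc_38_0 lc_f_rc_38_1) (@D3.rec (fun _ => (Cert rels S Gen.f)) lc_f_rc_6_1 lc_f_rc_6_1 lc_f_rc_37_2 lc_f_rc_21_1 lc_f_rc_6_1 lc_f_rc_6_1 lc_f_rc_27_1 lc_f_rc_21_1 lc_f_rc_21_1 lc_f_rc_27_1 lc_f_rc_21_1 lc_f_rc_38_0 lc_f_rc_38_1 lc_f_rc_6_1 lc_f_rc_6_1 lc_f_rc_37_2 lc_f_rc_27_1 lc_f_rc_40_2 lc_f_rc_6_1 lc_f_rc_6_1 lc_f_rc_40_2 lc_f_rc_21_1 lc_f_rc_21_1 lc_f_rc_27_1 lc_f_rc_40_2 lc_f_Cert_tree lc_f_rc_40_2 lc_f_rc_14_1 lc_f_rc_14_1 lc_f_rc_14_1 lc_f_rc_21_1 lc_f_rc_40_2) (@D3.rec (fun _ => (Cert rels S Gen.f)) lc_f_rc_6_1 lc_f_rc_21_1 lc_f_rc_14_1 lc_f_rc_6_1 lc_f_Cert_tree lc_f_rc_32_1 lc_f_rc_38_0 lc_f_Cert_tree lc_f_rc_38_0 lc_f_Cert_tree lc_f_rc_38_0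 lc_f_rc_32_1 lc_f_rc_14_1 lc_f_Cert_tree lc_f_rc_38_0 lc_f_rc_38_1 lc_f_rc_6_1 lc_f_rc_38_0 lc_f_rc_38_1 lc_f_rc_14_1 lc_f_rc_14_1 lc_f_rc_37_2 lc_f_rc_37_2 lc_f_Cert_tree lc_f_rc_38_0 lc_f_rc_38_1 lc_f_rc_6_1 lc_f_rc_6_1 lc_f_rc_37_2 lc_f_rc_40_2 lc_f_rc_21_1 lc_f_rc_14_1) (@D3.rec (fun _ => (Cert rels S Gen.f)) lc_f_rc_37_2 lc_f_rc_27_1 lc_f_rc_40_2 lc_f_rc_37_0 lc_f_rc_14_1 lc_f_rc_14_1 lc_f_rc_40_2 lc_f_Cert_tree lc_f_rc_38_0 lc_f_rc_38_1 lc_f_rc_6_1 lc_f_rc_6_1 lc_f_rc_37_2 lc_f_rc_37_2 lc_f_rc_21_1 lc_f_rc_21_1 lc_f_rc_37_2 lc_f_rc_27_1 lc_f_rc_37_2 lc_f_rc_38_0 lc_f_rc_38_1 lc_f_rc_6_1 lc_f_rc_6_1 lc_f_rc_37_2 lc_f_rc_27_1 lc_f_rc_40_2 lc_f_rc_37_0 lc_f_rc_6_1 lc_f_rc_6_1 lc_f_rc_40_2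 lc_f_rc_27_1 lc_f_rc_37_0) (@D3.rec (fun _ => (Cert rels S Gen.f)) lc_f_rc_21_1 lc_f_rc_37_2 lc_f_rc_27_1 lc_f_rc_40_2 lc_f_Cert_tree lc_f_rc_40_2 lc_f_rc_38_0 lc_f_rc_38_1 lc_f_rc_21_1 lc_f_rc_6_1 lc_f_rc_37_2 lc_f_rc_27_1 lc_f_rc_32_3 lc_f_rc_6_1 lc_f_rc_6_1 lc_f_rc_27_1 lc_f_rc_32_3 lc_f_rc_21_1 lc_f_rc_21_1 lc_f_rc_27_1 lc_f_Cert_tree lc_f_rc_14_1 lc_f_rc_14_1 lc_f_rc_27_1 lc_f_Cert_tree lc_f_rc_38_0 lc_f_Cert_tree lc_f_rc_32_5 lc_f_rc_38_0 lc_f_rc_14_1 lc_f_rc_37_2 lc_f_rc_27_1) (@D3.rec (fun _ => (Cert rels S Gen.f)) lc_f_rc_40_2 lc_f_rc_6_1 lc_f_rc_27_1 lc_f_rc_40_2 lc_f_Cert_tree lc_f_rc_40_2 lc_f_rc_6_1 lc_f_rc_27_1 lc_f_rc_21_1 lc_f_Cert_tree lc_f_rc_40_2 lc_f_rc_38_0 lc_f_rc_40_2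 lc_f_rc_37_2 lc_f_rc_21_1 lc_f_Cert_tree lc_f_rc_14_1 lc_f_rc_38_0 lc_f_rc_40_2 lc_f_rc_6_1 lc_f_rc_39_2 lc_f_rc_40_2 lc_f_rc_37_2 lc_f_rc_38_0 lc_f_rc_38_1 lc_f_rc_6_1 lc_f_rc_37_2 lc_f_rc_27_1 lc_f_rc_14_1 lc_f_rc_27_1 lc_f_rc_38_0 lc_f_rc_14_1) (@D3.rec (fun _ => (Cert rels S Gen.f)) lc_f_rc_6_1 lc_f_rc_21_3 lc_f_rc_14_1 lc_f_rc_14_1 lc_f_rc_14_1 lc_f_rc_37_2 lc_f_rc_27_1 lc_f_rc_27_1 lc_f_Cert_tree lc_f_rc_21_1 lc_f_rc_6_1 lc_f_rc_27_1 lc_f_rc_32_1 lc_f_rc_38_0 lc_f_rc_37_2 lc_f_rc_27_1 lc_f_Cert_tree lc_f_rc_38_0 lc_f_rc_32_1 lc_f_rc_27_1 lc_f_rc_14_1 lc_f_Cert_tree lc_f_Cert_tree lc_f_rc_38_0 lc_f_rc_38_0 lc_f_Cert_tree lc_f_rc_38_0 lc_f_rc_38_1 lc_f_rc_38_0 lc_f_rc_38_1 lc_f_rc_14_1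 lc_f_rc_37_2) (@D3.rec (fun _ => (Cert rels S Gen.f)) lc_f_rc_40_2 lc_f_rc_21_1 lc_f_rc_40_2 lc_f_Cert_tree lc_f_rc_38_0 lc_f_rc_38_1 lc_f_rc_6_1 lc_f_rc_37_2 lc_f_rc_40_2 lc_f_rc_21_1 lc_f_rc_37_2 lc_f_rc_27_1 lc_f_rc_40_2 lc_f_rc_14_1 lc_f_rc_40_2 lc_f_rc_37_2 lc_f_rc_38_0 lc_f_rc_6_1 lc_f_rc_27_1 lc_f_rc_38_0 lc_f_rc_38_1 lc_f_rc_37_2 lc_f_rc_27_1 lc_f_rc_40_2 lc_f_rc_40_2 lc_f_rc_27_1 lc_f_rc_40_2 lc_f_Cert_tree lc_f_rc_40_2 lc_f_Cert_tree lc_f_rc_38_0 lc_f_Cert_tree) (@D3.rec (fun _ => (Cert rels S Gen.f)) lc_f_rc_38_0 lc_f_rc_38_1 lc_f_rc_14_1 lc_f_rc_32_3 lc_f_rc_39_2 lc_f_rc_37_2 lc_f_rc_40_2 lc_f_Cert_tree lc_f_rc_38_0 lc_f_rc_38_1 lc_f_rc_6_1 lc_f_rc_38_0 lc_f_rc_38_1 lc_f_rc_14_1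 lc_f_rc_14_1 lc_f_rc_37_2 lc_f_rc_40_2 lc_f_Cert_tree lc_f_rc_32_3 lc_f_rc_37_2 lc_f_rc_40_2 lc_f_Cert_tree lc_f_rc_38_0 lc_f_rc_38_1 lc_f_rc_6_1 lc_f_rc_6_1 lc_f_rc_37_2 lc_f_rc_40_2 lc_f_rc_21_1 lc_f_rc_21_1 lc_f_rc_37_2 lc_f_rc_27_1) (@D3.rec (fun _ => (Cert rels S Gen.f)) lc_f_rc_40_2 lc_f_Cert_tree lc_f_rc_14_1 lc_f_rc_37_2 lc_f_rc_40_2 lc_f_rc_38_0 lc_f_rc_38_1 lc_f_rc_27_1 lc_f_rc_40_2 lc_f_rc_39_2 lc_f_rc_38_0 lc_f_rc_38_1 lc_f_rc_6_1 lc_f_rc_21_1 lc_f_rc_37_2 lc_f_rc_27_1 lc_f_rc_40_2 lc_f_Cert_tree lc_f_rc_6_1 lc_f_rc_37_2 lc_f_rc_40_2 lc_f_rc_27_1 lc_f_Cert_tree lc_f_rc_21_1 lc_f_rc_37_2 lc_f_rc_27_1 lc_f_rc_40_2 lc_f_rc_40_2 lc_f_rc_38_0 lc_f_rc_37_2 lc_f_rc_27_1 lc_f_rc_37_0)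 (@D3.rec (fun _ => (Cert rels S Gen.f)) lc_f_rc_21_1 lc_f_Cert_tree lc_f_rc_38_0 lc_f_Cert_tree lc_f_rc_38_0 lc_f_rc_38_1 lc_f_rc_14_1 lc_f_rc_32_3 lc_f_rc_39_2 lc_f_rc_37_2 lc_f_rc_40_2 lc_f_Cert_tree lc_f_rc_38_0 lc_f_rc_38_1 lc_f_rc_6_1 lc_f_rc_38_0 lc_f_rc_38_1 lc_f_rc_14_1 lc_f_rc_14_1 lc_f_rc_37_2 lc_f_rc_40_2 lc_f_rc_21_1 lc_f_rc_21_1 lc_f_rc_37_2 lc_f_rc_40_2 lc_f_Cert_tree lc_f_rc_38_0 lc_f_rc_38_1 lc_f_rc_6_1 lc_f_rc_6_1 lc_f_rc_37_2 lc_f_rc_40_2) (@D3.rec (fun _ => (Cert rels S Gen.f)) lc_f_rc_21_1 lc_f_rc_14_1 lc_f_rc_37_2 lc_f_rc_27_1 lc_f_rc_40_2 lc_f_Cert_tree lc_f_rc_14_1 lc_f_rc_14_1 lc_f_rc_40_2 lc_f_rc_38_0 lc_f_rc_38_1 lc_f_rc_27_1 lc_f_rc_40_2 lc_f_rc_39_2 lc_f_Cert_tree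 lc_f_rc_38_0 lc_f_rc_38_1 lc_f_rc_6_1 lc_f_rc_6_1 lc_f_rc_37_2 lc_f_rc_40_2 lc_f_rc_21_1 lc_f_rc_21_1 lc_f_rc_37_2 lc_f_rc_27_1 lc_f_rc_40_2 lc_f_rc_37_0 lc_f_rc_14_1 lc_f_rc_37_2 lc_f_rc_40_2 lc_f_rc_27_1 lc_f_rc_39_2) (@D3.rec (fun _ => (Cert rels S Gen.f)) lc_f_rc_37_2 lc_f_rc_37_2 lc_f_rc_38_0 lc_f_rc_38_1 lc_f_rc_6_1 lc_f_rc_6_1 lc_f_rc_37_2 lc_f_rc_27_1 lc_f_rc_40_2 lc_f_Cert_tree lc_f_rc_6_1 lc_f_rc_6_1 lc_f_rc_40_2 lc_f_rc_27_1 lc_f_Cert_tree lc_f_rc_21_1 lc_f_rc_37_2 lc_f_rc_27_1 lc_f_rc_40_2 lc_f_Cert_tree lc_f_rc_40_2 lc_f_rc_38_0 lc_f_rc_27_1 lc_f_rc_27_1 lc_f_rc_14_1 lc_f_rc_27_1 lc_f_rc_40_2 lc_f_rc_21_1 lc_f_rc_27_1 lc_f_rc_38_0 lc_f_rc_38_1 lc_f_rc_6_1) (@D3.rec (fun _ =>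 (Cert rels S Gen.f)) lc_f_rc_6_1 lc_f_rc_37_2 lc_f_rc_27_1 lc_f_rc_37_2 lc_f_rc_37_2 lc_f_rc_32_3 lc_f_rc_27_1 lc_f_rc_37_2 lc_f_rc_32_3 lc_f_rc_27_1 lc_f_rc_39_2 lc_f_rc_14_1 lc_f_rc_14_1 lc_f_rc_37_2 lc_f_rc_21_3 lc_f_rc_6_1 lc_f_rc_32_3 lc_f_rc_6_1 lc_f_rc_6_1 lc_f_rc_38_1 lc_f_rc_37_2 lc_f_rc_27_1 lc_f_rc_21_1 lc_f_rc_14_1 lc_f_rc_14_1 lc_f_rc_14_1 lc_f_rc_37_2 lc_f_rc_27_1 lc_f_rc_40_2 lc_f_rc_6_1 lc_f_rc_6_1 lc_f_rc_27_1) (@D3.rec (fun _ => (Cert rels S Gen.f)) lc_f_rc_40_2 lc_f_Cert_tree lc_f_rc_40_2 lc_f_rc_6_1 lc_f_rc_6_1 lc_f_rc_6_1 lc_f_rc_27_1 lc_f_rc_21_1 lc_f_rc_27_1 lc_f_rc_21_1 lc_f_Cert_tree lc_f_rc_40_2 lc_f_rc_38_0 lc_f_rc_40_2 lc_f_rc_37_2 lc_f_rc_21_1 lc_f_rc_14_1 lc_f_rc_14_1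 lc_f_rc_21_1 lc_f_rc_21_1 lc_f_rc_14_1 lc_f_rc_6_1 lc_f_rc_37_2 lc_f_rc_38_0 lc_f_rc_32_1 lc_f_Cert_tree lc_f_rc_38_0 lc_f_rc_32_1 lc_f_rc_6_1 lc_f_rc_38_0 lc_f_rc_32_1 lc_f_Cert_tree) (@D3.rec (fun _ => (Cert rels S Gen.f)) lc_f_rc_38_0 lc_f_rc_38_1 lc_f_rc_6_1 lc_f_rc_6_1 lc_f_rc_37_2 lc_f_rc_37_2 lc_f_rc_21_1 lc_f_rc_14_1 lc_f_rc_37_2 lc_f_rc_27_1 lc_f_rc_37_2 lc_f_rc_38_0 lc_f_rc_38_1 lc_f_rc_6_1 lc_f_rc_6_1 lc_f_rc_37_2 lc_f_rc_27_1 lc_f_rc_40_2 lc_f_rc_37_0 lc_f_rc_6_1 lc_f_rc_6_1 lc_f_rc_40_2 lc_f_rc_27_1 lc_f_rc_37_0 lc_f_rc_21_1 lc_f_rc_14_1 lc_f_rc_27_1 lc_f_rc_40_2 lc_f_Cert_tree lc_f_rc_40_2 lc_f_rc_38_0 lc_f_rc_38_1) (@D3.rec (fun _ => (Cert rels S Gen.f)) lc_f_rc_6_1 lc_f_rc_6_1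 lc_f_rc_37_2 lc_f_rc_27_1 lc_f_rc_37_2 lc_f_rc_27_1 lc_f_rc_27_1 lc_f_Cert_tree lc_f_rc_40_2 lc_f_rc_14_1 lc_f_rc_14_1 lc_f_rc_37_2 lc_f_rc_27_1 lc_f_rc_40_2 lc_f_rc_6_1 lc_f_rc_37_0 lc_f_rc_6_1 lc_f_rc_6_1 lc_f_rc_27_1 lc_f_rc_40_2 lc_f_Cert_tree lc_f_rc_40_2 lc_f_rc_40_2 lc_f_rc_32_5 lc_f_rc_27_1 lc_f_rc_39_2 lc_f_Cert_tree lc_f_rc_40_2 lc_f_rc_38_0 lc_f_rc_40_2 lc_f_rc_37_2 lc_f_rc_14_1)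
def ce_f_3 : D2 → D3 → (Cert rels S Gen.f) := @D2.rec (fun _ => D3 → (Cert rels S Gen.f)) (@D3.rec (fun _ => (Cert rels S Gen.f)) lc_f_rc_14_1 lc_f_rc_37_2 lc_f_rc_27_1 lc_f_rc_27_1 lc_f_rc_32_3 lc_f_rc_21_1 lc_f_rc_6_1 lc_f_rc_27_1 lc_f_Cert_tree lc_f_rc_14_3 lc_f_rc_37_2 lc_f_rc_27_1 lc_f_rc_27_1 lc_f_Cert_tree lc_f_rc_38_0 lc_f_rc_14_1 lc_f_Cert_tree lc_f_Cert_tree lc_f_rc_32_5 lc_f_rc_38_0 lc_f_rc_38_0 lc_f_rc_38_1 lc_f_rc_40_2 lc_f_rc_14_1 lc_f_rc_27_1 lc_f_rc_40_2 lc_f_rc_21_1 lc_f_Cert_tree lc_f_rc_40_2 lc_f_rc_6_1 lc_f_rc_6_1 lc_f_Cert_tree) (@D3.rec (fun _ => (Cert rels S Gen.f)) lc_f_rc_40_2 lc_f_rc_38_0 lc_f_rc_40_2 lc_f_rc_37_2 lc_f_Cert_tree lc_f_rc_27_1 lc_f_rc_38_0 lc_f_rc_40_2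 lc_f_rc_37_2 lc_f_rc_39_2 lc_f_rc_40_2 lc_f_rc_37_2 lc_f_Cert_tree lc_f_rc_21_1 lc_f_rc_38_0 lc_f_rc_40_2 lc_f_rc_14_1 lc_f_rc_6_1 lc_f_rc_40_2 lc_f_rc_37_2 lc_f_rc_39_2 lc_f_rc_37_2 lc_f_rc_27_1 lc_f_rc_14_1 lc_f_rc_37_2 lc_f_rc_27_1 lc_f_rc_6_1 lc_f_rc_27_1 lc_f_rc_14_1 lc_f_rc_14_1 lc_f_rc_14_1 lc_f_Cert_tree) (@D3.rec (fun _ => (Cert rels S Gen.f)) lc_f_rc_14_1 lc_f_rc_14_1 lc_f_rc_27_1 lc_f_rc_21_1 lc_f_rc_32_1 lc_f_Cert_tree lc_f_rc_38_0 lc_f_rc_37_2 lc_f_rc_6_1 lc_f_rc_38_0 lc_f_rc_21_1 lc_f_Cert_tree lc_f_rc_38_0 lc_f_rc_38_0 lc_f_rc_32_3 lc_f_Cert_tree lc_f_rc_38_0 lc_f_rc_38_1 lc_f_rc_14_3 lc_f_rc_37_2 lc_f_rc_40_2 lc_f_rc_14_1 lc_f_rc_37_2 lc_f_rc_27_1 lc_f_rc_40_2 lc_f_rc_14_1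 lc_f_rc_40_2 lc_f_rc_27_1 lc_f_rc_21_1 lc_f_rc_38_0 lc_f_rc_38_1 lc_f_rc_6_1) (@D3.rec (fun _ => (Cert rels S Gen.f)) lc_f_rc_37_2 lc_f_rc_27_1 lc_f_rc_40_2 lc_f_rc_6_1 lc_f_rc_40_2 lc_f_rc_27_1 lc_f_rc_21_1 lc_f_rc_27_1 lc_f_rc_40_2 lc_f_Cert_tree lc_f_rc_40_2 lc_f_rc_14_1 lc_f_rc_14_1 lc_f_rc_6_1 lc_f_rc_37_2 lc_f_rc_37_2 lc_f_rc_27_1 lc_f_rc_40_2 lc_f_rc_27_1 lc_f_rc_40_2 lc_f_Cert_tree lc_f_rc_40_2 lc_f_Cert_tree lc_f_rc_40_2 lc_f_rc_38_0 lc_f_rc_40_2 lc_f_rc_37_2 lc_f_Cert_tree lc_f_rc_38_0 lc_f_rc_38_1 lc_f_rc_6_1 lc_f_rc_38_0) (@D3.rec (fun _ => (Cert rels S Gen.f)) lc_f_rc_38_1 lc_f_rc_32_3 lc_f_rc_14_1 lc_f_rc_37_2 lc_f_rc_40_2 lc_f_Cert_tree lc_f_rc_32_3 lc_f_rc_39_2 lc_f_rc_40_2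 lc_f_Cert_tree lc_f_rc_38_0 lc_f_rc_38_1 lc_f_rc_6_1 lc_f_rc_6_1 lc_f_rc_37_2 lc_f_rc_40_2 lc_f_rc_21_1 lc_f_rc_14_1 lc_f_rc_37_2 lc_f_rc_27_1 lc_f_rc_40_2 lc_f_Cert_tree lc_f_rc_14_1 lc_f_rc_14_1 lc_f_rc_40_2 lc_f_rc_38_0 lc_f_rc_38_1 lc_f_rc_27_1 lc_f_rc_40_2 lc_f_rc_39_2 lc_f_rc_38_0 lc_f_rc_38_1) (@D3.rec (fun _ => (Cert rels S Gen.f)) lc_f_rc_6_1 lc_f_rc_6_1 lc_f_rc_37_2 lc_f_rc_27_1 lc_f_rc_40_2 lc_f_Cert_tree lc_f_rc_6_1 lc_f_rc_6_1 lc_f_rc_40_2 lc_f_rc_27_1 lc_f_Cert_tree lc_f_rc_21_1 lc_f_rc_37_2 lc_f_rc_27_1 lc_f_rc_40_2 lc_f_Cert_tree lc_f_rc_40_2 lc_f_rc_38_0 lc_f_rc_38_1 lc_f_rc_27_1 lc_f_rc_14_1 lc_f_rc_39_2 lc_f_rc_37_2 lc_f_rc_27_1 lc_f_rc_40_2 lc_f_rc_21_1 lc_f_rc_27_1 lc_f_rc_14_1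 lc_f_rc_21_1 lc_f_rc_37_2 lc_f_rc_27_1 lc_f_rc_40_2) (@D3.rec (fun _ => (Cert rels S Gen.f)) lc_f_rc_6_1 lc_f_Cert_tree lc_f_rc_6_1 lc_f_rc_32_1 lc_f_rc_27_1 lc_f_rc_40_2 lc_f_rc_40_2 lc_f_rc_38_0 lc_f_rc_14_1 lc_f_rc_6_1 lc_f_Cert_tree lc_f_rc_37_2 lc_f_rc_38_0 lc_f_rc_37_2 lc_f_rc_27_1 lc_f_rc_39_2 lc_f_rc_32_3 lc_f_rc_40_2 lc_f_rc_37_0 lc_f_rc_21_1 lc_f_rc_21_1 lc_f_rc_14_1 lc_f_Cert_tree lc_f_rc_38_0 lc_f_rc_38_1 lc_f_rc_6_1 lc_f_rc_38_0 lc_f_rc_38_1 lc_f_rc_14_1 lc_f_rc_14_1 lc_f_rc_37_2 lc_f_rc_40_2) (@D3.rec (fun _ => (Cert rels S Gen.f)) lc_f_Cert_tree lc_f_rc_32_3 lc_f_rc_39_2 lc_f_rc_40_2 lc_f_Cert_tree lc_f_rc_38_0 lc_f_rc_38_1 lc_f_rc_27_1 lc_f_rc_6_1 lc_f_rc_37_2 lc_f_rc_40_2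 lc_f_rc_14_1 lc_f_rc_14_1 lc_f_rc_37_2 lc_f_rc_27_1 lc_f_rc_40_2 lc_f_rc_37_0 lc_f_rc_14_1 lc_f_rc_14_1 lc_f_rc_40_2 lc_f_rc_14_3 lc_f_rc_27_1 lc_f_rc_21_1 lc_f_rc_39_2 lc_f_rc_38_0 lc_f_rc_38_1 lc_f_rc_6_1 lc_f_rc_6_1 lc_f_rc_37_2 lc_f_rc_27_1 lc_f_rc_40_2 lc_f_Cert_tree) (@D3.rec (fun _ => (Cert rels S Gen.f)) lc_f_rc_6_1 lc_f_rc_6_1 lc_f_rc_40_2 lc_f_rc_27_1 lc_f_Cert_tree lc_f_rc_21_1 lc_f_rc_14_1 lc_f_rc_27_1 lc_f_rc_40_2 lc_f_Cert_tree lc_f_rc_40_2 lc_f_rc_38_0 lc_f_rc_38_1 lc_f_rc_27_1 lc_f_rc_14_1 lc_f_rc_14_1 lc_f_rc_37_2 lc_f_rc_14_3 lc_f_rc_40_2 lc_f_rc_21_1 lc_f_rc_27_1 lc_f_rc_38_0 lc_f_rc_38_1 lc_f_rc_6_1 lc_f_rc_6_1 lc_f_rc_37_2 lc_f_rc_27_1 lc_f_rc_40_2 lc_f_rc_27_1 lc_f_rc_6_1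 lc_f_rc_6_1 lc_f_rc_40_2) (@D3.rec (fun _ => (Cert rels S Gen.f)) lc_f_rc_27_1 lc_f_rc_21_1 lc_f_rc_21_1 lc_f_rc_37_2 lc_f_rc_27_1 lc_f_rc_40_2 lc_f_Cert_tree lc_f_rc_40_2 lc_f_rc_32_3 lc_f_rc_27_1 lc_f_rc_14_1 lc_f_rc_37_2 lc_f_rc_40_2 lc_f_rc_40_2 lc_f_rc_14_1 lc_f_rc_14_1 lc_f_rc_37_2 lc_f_rc_27_1 lc_f_rc_40_2 lc_f_rc_6_1 lc_f_Cert_tree lc_f_rc_6_1 lc_f_rc_6_1 lc_f_rc_27_1 lc_f_rc_40_2 lc_f_Cert_tree lc_f_rc_40_2 lc_f_rc_38_0 lc_f_rc_39_4 lc_f_rc_6_1 lc_f_rc_6_1 lc_f_rc_6_1) (@D3.rec (fun _ => (Cert rels S Gen.f)) lc_f_Cert_tree lc_f_rc_37_2 lc_f_rc_38_0 lc_f_rc_27_3 lc_f_rc_27_1 lc_f_rc_21_1 lc_f_rc_39_2 lc_f_rc_39_2 lc_f_Cert_tree lc_f_rc_40_2 lc_f_rc_38_0 lc_f_rc_40_2 lc_f_rc_37_2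 lc_f_rc_40_2 lc_f_rc_21_1 lc_f_rc_27_1 lc_f_rc_14_1 lc_f_rc_21_1 lc_f_rc_14_1 lc_f_rc_14_1 lc_f_rc_37_2 lc_f_rc_27_1 lc_f_rc_37_2 lc_f_rc_6_1 lc_f_rc_21_1 lc_f_rc_21_1 lc_f_rc_27_1 lc_f_rc_39_2 lc_f_rc_38_1 lc_f_rc_37_2 lc_f_rc_27_1 lc_f_rc_32_3) (@D3.rec (fun _ => (Cert rels S Gen.f)) lc_f_rc_14_1 lc_f_rc_32_3 lc_f_rc_14_1 lc_f_rc_27_1 lc_f_rc_6_1 lc_f_rc_6_1 lc_f_rc_21_1 lc_f_rc_37_2 lc_f_rc_37_2 lc_f_rc_40_2 lc_f_rc_21_1 lc_f_rc_14_1 lc_f_rc_6_1 lc_f_rc_14_1 lc_f_rc_14_1 lc_f_rc_27_1 lc_f_rc_40_2 lc_f_rc_21_1 lc_f_Cert_tree lc_f_rc_40_2 lc_f_rc_6_1 lc_f_rc_6_1 lc_f_rc_6_1 lc_f_rc_6_1 lc_f_Cert_tree lc_f_rc_40_2 lc_f_rc_38_0 lc_f_rc_40_2 lc_f_rc_37_2 lc_f_rc_6_1 lc_f_rc_6_1 lc_f_rc_27_1)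 (@D3.rec (fun _ => (Cert rels S Gen.f)) lc_f_Cert_tree lc_f_rc_27_1 lc_f_Cert_tree lc_f_rc_27_1 lc_f_rc_38_0 lc_f_rc_40_2 lc_f_rc_37_2 lc_f_rc_39_2 lc_f_rc_40_2 lc_f_rc_37_2 lc_f_rc_14_1 lc_f_rc_21_1 lc_f_rc_6_1 lc_f_rc_14_1 lc_f_rc_14_1 lc_f_rc_6_1 lc_f_rc_37_2 lc_f_Cert_tree lc_f_rc_38_0 lc_f_rc_32_1 lc_f_rc_47_25 lc_f_rc_38_0 lc_f_rc_38_1 lc_f_rc_6_1 lc_f_rc_6_1 lc_f_rc_37_2 lc_f_rc_27_1 lc_f_rc_37_2 lc_f_rc_27_1 lc_f_rc_27_1 lc_f_Cert_tree lc_f_rc_40_2) (@D3.rec (fun _ => (Cert rels S Gen.f)) lc_f_rc_14_1 lc_f_rc_6_1 lc_f_rc_37_2 lc_f_rc_27_1 lc_f_rc_40_2 lc_f_rc_6_1 lc_f_rc_37_0 lc_f_rc_6_1 lc_f_rc_6_1 lc_f_rc_27_1 lc_f_rc_40_2 lc_f_Cert_tree lc_f_rc_40_2 lc_f_rc_40_2 lc_f_rc_32_5 lc_f_rc_27_1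 lc_f_rc_14_1 lc_f_Cert_tree lc_f_rc_40_2 lc_f_rc_38_0 lc_f_rc_40_2 lc_f_rc_37_2 lc_f_rc_14_1 lc_f_rc_14_1 lc_f_rc_37_2 lc_f_rc_27_1 lc_f_rc_37_2 lc_f_rc_6_1 lc_f_rc_27_1 lc_f_Cert_tree lc_f_rc_40_2 lc_f_rc_37_2) (@D3.rec (fun _ => (Cert rels S Gen.f)) lc_f_Cert_tree lc_f_rc_38_0 lc_f_rc_40_2 lc_f_rc_40_2 lc_f_rc_14_1 lc_f_rc_37_0 lc_f_rc_14_1 lc_f_rc_14_1 lc_f_rc_27_1 lc_f_rc_40_2 lc_f_rc_21_1 lc_f_Cert_tree lc_f_rc_40_2 lc_f_rc_40_2 lc_f_rc_6_1 lc_f_rc_6_1 lc_f_rc_6_1 lc_f_Cert_tree lc_f_rc_40_2 lc_f_rc_38_0 lc_f_rc_40_2 lc_f_rc_37_2 lc_f_rc_40_0 lc_f_rc_37_2 lc_f_rc_40_2 lc_f_Cert_tree lc_f_Cert_tree lc_f_rc_38_0 lc_f_rc_40_2 lc_f_rc_37_2 lc_f_rc_39_2 lc_f_rc_40_2) (@D3.rec (fun _ => (Cert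 rels S Gen.f)) lc_f_rc_37_2 lc_f_rc_14_1 lc_f_rc_6_3 lc_f_rc_14_1 lc_f_rc_14_1 lc_f_rc_27_1 lc_f_rc_21_1 lc_f_Cert_tree lc_f_rc_6_1 lc_f_rc_37_2 lc_f_rc_27_1 lc_f_rc_6_1 lc_f_Cert_tree lc_f_rc_38_0 lc_f_rc_21_1 lc_f_rc_37_2 lc_f_rc_40_2 lc_f_Cert_tree lc_f_rc_6_3 lc_f_rc_38_0 lc_f_rc_21_1 lc_f_Cert_tree lc_f_rc_14_1 lc_f_rc_38_0 lc_f_rc_38_0 lc_f_rc_38_1 lc_f_rc_40_2 lc_f_rc_32_3 lc_f_rc_37_2 lc_f_rc_40_2 lc_f_rc_14_1 lc_f_rc_14_1) (@D3.rec (fun _ => (Cert rels S Gen.f)) lc_f_rc_21_1 lc_f_Cert_tree lc_f_rc_40_2 lc_f_Cert_tree lc_f_rc_21_1 lc_f_rc_38_0 lc_f_rc_40_2 lc_f_rc_37_2 lc_f_Cert_tree lc_f_rc_6_1 lc_f_rc_38_0 lc_f_rc_40_2 lc_f_rc_37_2 lc_f_rc_6_1 lc_f_rc_40_2 lc_f_rc_37_2 lc_f_rc_38_0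 lc_f_rc_40_2 lc_f_rc_37_2 lc_f_rc_39_2 lc_f_rc_40_2 lc_f_rc_37_2 lc_f_rc_39_2 lc_f_rc_37_2 lc_f_rc_27_1 lc_f_Cert_tree lc_f_rc_38_0 lc_f_rc_40_2 lc_f_rc_21_1 lc_f_rc_14_1 lc_f_rc_40_2 lc_f_rc_37_2) (@D3.rec (fun _ => (Cert rels S Gen.f)) lc_f_rc_6_1 lc_f_rc_37_2 lc_f_rc_27_1 lc_f_rc_37_2 lc_f_rc_27_1 lc_f_rc_14_1 lc_f_rc_27_1 lc_f_rc_27_1 lc_f_rc_21_1 lc_f_rc_32_3 lc_f_rc_21_1 lc_f_Cert_tree lc_f_rc_38_0 lc_f_rc_14_1 lc_f_rc_14_1 lc_f_rc_21_1 lc_f_rc_21_1 lc_f_rc_38_0 lc_f_rc_27_3 lc_f_Cert_tree lc_f_rc_38_0 lc_f_rc_32_3 lc_f_rc_38_0 lc_f_rc_38_1 lc_f_rc_38_1 lc_f_rc_37_2 lc_f_rc_27_1 lc_f_rc_40_2 lc_f_rc_27_3 lc_f_rc_40_2 lc_f_rc_14_1 lc_f_rc_14_1) (@D3.rec (fun _ => (Cert rels S Gen.f))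 lc_f_rc_27_1 lc_f_rc_40_2 lc_f_Cert_tree lc_f_rc_40_2 lc_f_rc_14_1 lc_f_rc_14_1 lc_f_rc_27_1 lc_f_rc_14_1 lc_f_rc_37_2 lc_f_rc_27_1 lc_f_rc_40_2 lc_f_rc_6_1 lc_f_rc_6_1 lc_f_rc_27_1 lc_f_rc_40_2 lc_f_Cert_tree lc_f_rc_40_2 lc_f_rc_6_1 lc_f_rc_37_2 lc_f_rc_27_1 lc_f_rc_21_1 lc_f_Cert_tree lc_f_rc_40_2 lc_f_rc_38_0 lc_f_rc_40_2 lc_f_rc_37_2 lc_f_rc_14_1 lc_f_rc_6_1 lc_f_rc_37_2 lc_f_rc_27_1 lc_f_rc_40_2 lc_f_rc_21_1) (@D3.rec (fun _ => (Cert rels S Gen.f)) lc_f_Cert_tree lc_f_rc_40_2 lc_f_Cert_tree lc_f_rc_40_2 lc_f_rc_38_0 lc_f_rc_40_2 lc_f_rc_37_2 lc_f_rc_38_0 lc_f_rc_40_2 lc_f_rc_37_2 lc_f_rc_39_2 lc_f_rc_40_2 lc_f_rc_37_2 lc_f_Cert_tree lc_f_rc_38_0 lc_f_rc_38_1 lc_f_rc_6_1 lc_f_rc_6_1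 lc_f_rc_37_2 lc_f_rc_40_2 lc_f_rc_21_1 lc_f_rc_21_1 lc_f_rc_37_2 lc_f_rc_27_1 lc_f_rc_40_2 lc_f_rc_46_47 lc_f_rc_32_3 lc_f_rc_14_1 lc_f_rc_40_2 lc_f_rc_38_0 lc_f_rc_38_1 lc_f_rc_32_3) (@D3.rec (fun _ => (Cert rels S Gen.f)) lc_f_rc_32_3 lc_f_rc_39_2 lc_f_rc_38_0 lc_f_rc_38_1 lc_f_rc_6_1 lc_f_rc_6_1 lc_f_rc_37_2 lc_f_rc_27_1 lc_f_rc_40_2 lc_f_Cert_tree lc_f_rc_6_1 lc_f_rc_6_1 lc_f_rc_40_2 lc_f_rc_27_1 lc_f_Cert_tree lc_f_rc_21_1 lc_f_rc_14_1 lc_f_rc_27_1 lc_f_rc_40_2 lc_f_Cert_tree lc_f_rc_40_2 lc_f_rc_38_0 lc_f_rc_38_1 lc_f_rc_27_1 lc_f_rc_14_1 lc_f_rc_14_1 lc_f_rc_37_2 lc_f_rc_27_1 lc_f_rc_40_2 lc_f_rc_21_1 lc_f_rc_27_1 lc_f_rc_14_1) (@D3.rec (fun _ => (Cert rels S Gen.f)) lc_f_rc_14_1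 lc_f_rc_37_2 lc_f_rc_27_1 lc_f_rc_40_2 lc_f_rc_6_1 lc_f_Cert_tree lc_f_rc_6_1 lc_f_rc_6_1 lc_f_rc_27_1 lc_f_rc_40_2 lc_f_Cert_tree lc_f_rc_40_2 lc_f_rc_38_0 lc_f_rc_38_1 lc_f_rc_6_1 lc_f_rc_6_1 lc_f_rc_6_1 lc_f_Cert_tree lc_f_rc_37_2 lc_f_rc_38_0 lc_f_rc_38_1 lc_f_rc_27_1 lc_f_rc_21_1 lc_f_rc_39_2 lc_f_rc_39_2 lc_f_Cert_tree lc_f_rc_40_2 lc_f_rc_38_0 lc_f_rc_40_2 lc_f_rc_37_2 lc_f_rc_37_2 lc_f_rc_27_1)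
def ce_f_4 : D2 → D3 → (Cert rels S Gen.f) := @D2.rec (fun _ => D3 → (Cert rels S Gen.f)) (@D3.rec (fun _ => (Cert rels S Gen.f)) lc_f_rc_40_2 lc_f_rc_21_1 lc_f_rc_27_1 lc_f_rc_40_2 lc_f_rc_14_3 lc_f_rc_40_2 lc_f_rc_14_1 lc_f_rc_21_1 lc_f_rc_14_1 lc_f_Cert_tree lc_f_rc_14_1 lc_f_rc_37_2 lc_f_rc_27_1 lc_f_rc_40_2 lc_f_rc_21_1 lc_f_rc_40_2 lc_f_Cert_tree lc_f_rc_6_1 lc_f_rc_38_0 lc_f_rc_37_2 lc_f_rc_6_1 lc_f_rc_39_2 lc_f_rc_6_1 lc_f_rc_40_2 lc_f_rc_32_1 lc_f_rc_21_1 lc_f_rc_38_0 lc_f_rc_38_1 lc_f_rc_37_2 lc_f_rc_40_2 lc_f_rc_37_0 lc_f_rc_21_1) (@D3.rec (fun _ => (Cert rels S Gen.f)) lc_f_rc_32_3 lc_f_rc_27_3 lc_f_rc_32_3 lc_f_rc_21_1 lc_f_rc_14_1 lc_f_rc_37_0 lc_f_rc_6_1 lc_f_Cert_tree lc_f_rc_38_0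 lc_f_rc_38_1 lc_f_rc_6_1 lc_f_rc_6_1 lc_f_rc_37_2 lc_f_rc_40_2 lc_f_rc_21_1 lc_f_rc_37_2 lc_f_rc_21_3 lc_f_rc_40_2 lc_f_Cert_tree lc_f_rc_14_1 lc_f_rc_14_1 lc_f_rc_40_2 lc_f_rc_38_0 lc_f_rc_38_1 lc_f_rc_27_1 lc_f_rc_40_2 lc_f_rc_39_2 lc_f_rc_38_0 lc_f_rc_38_1 lc_f_rc_21_1 lc_f_rc_6_1 lc_f_rc_37_2) (@D3.rec (fun _ => (Cert rels S Gen.f)) lc_f_rc_27_1 lc_f_rc_40_2 lc_f_rc_14_3 lc_f_rc_14_1 lc_f_rc_6_1 lc_f_rc_40_2 lc_f_rc_14_1 lc_f_rc_27_3 lc_f_rc_14_1 lc_f_rc_14_1 lc_f_rc_27_1 lc_f_rc_40_2 lc_f_Cert_tree lc_f_rc_40_2 lc_f_rc_39_4 lc_f_rc_14_1 lc_f_rc_14_1 lc_f_rc_14_1 lc_f_rc_14_3 lc_f_rc_14_3 lc_f_rc_14_3 lc_f_rc_27_1 lc_f_rc_14_1 lc_f_rc_6_1 lc_f_rc_37_2 lc_f_rc_27_1 lc_f_rc_40_2 lc_f_rc_6_1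 lc_f_Cert_tree lc_f_rc_6_1 lc_f_rc_6_1 lc_f_rc_27_1) (@D3.rec (fun _ => (Cert rels S Gen.f)) lc_f_rc_40_2 lc_f_Cert_tree lc_f_rc_40_2 lc_f_rc_38_0 lc_f_rc_38_1 lc_f_rc_6_1 lc_f_rc_6_1 lc_f_rc_6_1 lc_f_Cert_tree lc_f_rc_37_2 lc_f_rc_38_0 lc_f_rc_38_1 lc_f_rc_27_1 lc_f_rc_21_1 lc_f_rc_14_1 lc_f_rc_14_1 lc_f_Cert_tree lc_f_rc_40_2 lc_f_rc_38_0 lc_f_rc_40_2 lc_f_rc_37_2 lc_f_rc_37_2 lc_f_rc_21_3 lc_f_rc_40_2 lc_f_rc_21_1 lc_f_rc_27_1 lc_f_rc_40_2 lc_f_rc_14_3 lc_f_rc_14_1 lc_f_rc_21_1 lc_f_rc_37_2 lc_f_rc_14_1) (@D3.rec (fun _ => (Cert rels S Gen.f)) lc_f_rc_14_1 lc_f_rc_37_2 lc_f_rc_27_1 lc_f_rc_40_2 lc_f_rc_6_1 lc_f_rc_14_3 lc_f_rc_6_1 lc_f_rc_6_1 lc_f_rc_27_1 lc_f_rc_40_2 lc_f_Cert_tree lc_f_rc_40_2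 lc_f_rc_27_1 lc_f_rc_39_2 lc_f_rc_6_1 lc_f_rc_6_1 lc_f_rc_21_1 lc_f_rc_37_2 lc_f_rc_39_4 lc_f_rc_27_1 lc_f_rc_21_1 lc_f_rc_39_2 lc_f_rc_39_2 lc_f_Cert_tree lc_f_rc_40_2 lc_f_rc_38_0 lc_f_rc_40_2 lc_f_rc_37_2 lc_f_rc_40_2 lc_f_rc_27_3 lc_f_rc_40_2 lc_f_rc_14_1) (@D3.rec (fun _ => (Cert rels S Gen.f)) lc_f_Cert_tree lc_f_rc_14_1 lc_f_rc_14_1 lc_f_rc_27_1 lc_f_rc_40_2 lc_f_rc_21_1 lc_f_Cert_tree lc_f_rc_40_2 lc_f_Cert_tree lc_f_rc_6_1 lc_f_rc_38_0 lc_f_rc_6_1 lc_f_rc_6_1 lc_f_rc_6_1 lc_f_rc_6_1 lc_f_rc_6_1 lc_f_Cert_tree lc_f_rc_40_2 lc_f_rc_38_0 lc_f_rc_40_2 lc_f_rc_37_2 lc_f_rc_40_2 lc_f_rc_21_1 lc_f_rc_6_1 lc_f_rc_38_0 lc_f_rc_38_1 lc_f_rc_37_2 lc_f_rc_40_2 lc_f_rc_21_1 lc_f_rc_40_2 lc_f_rc_21_1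 lc_f_Cert_tree) (@D3.rec (fun _ => (Cert rels S Gen.f)) lc_f_rc_27_1 lc_f_Cert_tree lc_f_rc_39_2 lc_f_rc_38_0 lc_f_rc_40_2 lc_f_rc_37_2 lc_f_rc_39_2 lc_f_rc_40_2 lc_f_rc_37_2 lc_f_rc_14_1 lc_f_rc_21_1 lc_f_rc_6_1 lc_f_rc_14_1 lc_f_rc_14_1 lc_f_rc_37_2 lc_f_rc_32_3 lc_f_rc_27_1 lc_f_rc_21_1 lc_f_rc_39_2 lc_f_rc_37_0 lc_f_rc_6_1 lc_f_rc_38_0 lc_f_rc_32_3 lc_f_rc_27_1 lc_f_rc_38_0 lc_f_rc_37_2 lc_f_rc_38_0 lc_f_rc_21_1 lc_f_rc_14_1 lc_f_rc_14_1 lc_f_rc_14_1 lc_f_rc_38_1) (@D3.rec (fun _ => (Cert rels S Gen.f)) lc_f_rc_6_1 lc_f_rc_6_1 lc_f_rc_21_1 lc_f_rc_14_1 lc_f_rc_40_2 lc_f_rc_21_1 lc_f_rc_40_2 lc_f_rc_14_1 lc_f_rc_6_1 lc_f_rc_14_1 lc_f_rc_14_1 lc_f_rc_14_1 lc_f_rc_14_1 lc_f_rc_21_1 lc_f_Cert_tree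 lc_f_rc_40_2 lc_f_Cert_tree lc_f_rc_21_1 lc_f_rc_38_0 lc_f_rc_40_2 lc_f_rc_37_2 lc_f_rc_6_1 lc_f_Cert_tree lc_f_rc_6_1 lc_f_Cert_tree lc_f_rc_6_1 lc_f_rc_38_0 lc_f_rc_40_2 lc_f_rc_37_2 lc_f_rc_6_1 lc_f_rc_40_2 lc_f_rc_37_2) (@D3.rec (fun _ => (Cert rels S Gen.f)) lc_f_rc_14_1 lc_f_rc_6_1 lc_f_rc_14_1 lc_f_Cert_tree lc_f_rc_27_1 lc_f_rc_38_0 lc_f_rc_40_2 lc_f_rc_37_2 lc_f_rc_38_0 lc_f_rc_40_2 lc_f_rc_37_2 lc_f_rc_39_2 lc_f_rc_40_2 lc_f_rc_37_2 lc_f_rc_39_2 lc_f_rc_37_2 lc_f_rc_27_1 lc_f_rc_6_1 lc_f_rc_14_1 lc_f_rc_6_1 lc_f_rc_6_1 lc_f_rc_14_1 lc_f_rc_38_0 lc_f_rc_46_33 lc_f_rc_14_3 lc_f_rc_47_25 lc_f_rc_14_1 lc_f_rc_6_1 lc_f_rc_37_2 lc_f_rc_27_1 lc_f_rc_37_2 lc_f_rc_6_1) (@D3.rec (fun _ =>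 (Cert rels S Gen.f)) lc_f_rc_27_1 lc_f_Cert_tree lc_f_rc_40_2 lc_f_rc_38_0 lc_f_rc_40_2 lc_f_rc_40_0 lc_f_rc_14_1 lc_f_rc_37_0 lc_f_rc_14_1 lc_f_rc_6_1 lc_f_rc_27_1 lc_f_rc_40_2 lc_f_rc_21_1 lc_f_Cert_tree lc_f_rc_40_2 lc_f_rc_40_2 lc_f_rc_6_1 lc_f_rc_6_1 lc_f_rc_6_1 lc_f_Cert_tree lc_f_rc_40_2 lc_f_rc_38_0 lc_f_rc_40_2 lc_f_rc_37_2 lc_f_rc_40_0 lc_f_rc_37_2 lc_f_rc_40_2 lc_f_Cert_tree lc_f_Cert_tree lc_f_rc_38_0 lc_f_rc_40_2 lc_f_rc_37_2) (@D3.rec (fun _ => (Cert rels S Gen.f)) lc_f_rc_14_1 lc_f_rc_40_2 lc_f_rc_37_2 lc_f_rc_14_1 lc_f_rc_27_1 lc_f_rc_21_1 lc_f_Cert_tree lc_f_rc_40_2 lc_f_rc_6_1 lc_f_Cert_tree lc_f_rc_38_0 lc_f_rc_40_2 lc_f_rc_40_2 lc_f_rc_40_2 lc_f_rc_38_0 lc_f_rc_39_2 lc_f_rc_40_2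 lc_f_rc_37_2 lc_f_rc_21_1 lc_f_rc_40_2 lc_f_rc_14_1 lc_f_rc_14_1 lc_f_rc_14_1 lc_f_rc_21_1 lc_f_Cert_tree lc_f_rc_40_2 lc_f_Cert_tree lc_f_rc_21_1 lc_f_rc_38_0 lc_f_rc_40_2 lc_f_rc_37_2 lc_f_rc_40_0) (@D3.rec (fun _ => (Cert rels S Gen.f)) lc_f_rc_6_1 lc_f_rc_6_1 lc_f_Cert_tree lc_f_Cert_tree lc_f_rc_38_0 lc_f_rc_40_2 lc_f_rc_37_2 lc_f_rc_6_1 lc_f_rc_40_2 lc_f_rc_37_2 lc_f_rc_37_2 lc_f_Cert_tree lc_f_rc_40_2 lc_f_rc_38_0 lc_f_rc_38_0 lc_f_rc_39_2 lc_f_rc_40_2 lc_f_rc_37_2 lc_f_rc_39_2 lc_f_rc_37_2 lc_f_rc_27_1 lc_f_rc_21_1 lc_f_rc_6_3 lc_f_rc_14_1 lc_f_rc_14_1 lc_f_rc_14_1 lc_f_rc_21_1 lc_f_Cert_tree lc_f_Cert_tree lc_f_rc_38_0 lc_f_rc_21_1 lc_f_rc_37_2) (@D3.rec (fun _ => (Cert rels S Gen.f))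 lc_f_rc_40_2 lc_f_Cert_tree lc_f_rc_32_3 lc_f_rc_38_0 lc_f_rc_37_2 lc_f_Cert_tree lc_f_rc_40_2 lc_f_rc_38_0 lc_f_Cert_tree lc_f_rc_21_1 lc_f_rc_38_0 lc_f_rc_38_1 lc_f_rc_14_1 lc_f_rc_38_1 lc_f_rc_37_2 lc_f_rc_40_2 lc_f_rc_38_1 lc_f_rc_40_2 lc_f_rc_21_1 lc_f_Cert_tree lc_f_rc_14_1 lc_f_Cert_tree lc_f_rc_21_1 lc_f_rc_38_0 lc_f_rc_40_2 lc_f_rc_37_2 lc_f_Cert_tree lc_f_rc_38_0 lc_f_rc_40_2 lc_f_rc_37_2 lc_f_rc_14_1 lc_f_rc_40_2) (@D3.rec (fun _ => (Cert rels S Gen.f)) lc_f_rc_37_2 lc_f_rc_38_0 lc_f_rc_40_2 lc_f_rc_6_1 lc_f_rc_39_2 lc_f_rc_40_2 lc_f_rc_37_2 lc_f_rc_6_1 lc_f_rc_37_2 lc_f_rc_27_1 lc_f_rc_39_2 lc_f_rc_40_2 lc_f_rc_37_2 lc_f_rc_40_2 lc_f_rc_37_2 lc_f_rc_27_1 lc_f_rc_32_5 lc_f_rc_27_1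 lc_f_rc_14_1 lc_f_rc_38_0 lc_f_rc_38_1 lc_f_rc_40_2 lc_f_rc_21_1 lc_f_rc_40_2 lc_f_rc_37_2 lc_f_rc_27_1 lc_f_rc_14_1 lc_f_rc_37_2 lc_f_rc_27_1 lc_f_rc_37_2 lc_f_rc_27_1 lc_f_rc_6_1) (@D3.rec (fun _ => (Cert rels S Gen.f)) lc_f_rc_21_1 lc_f_rc_21_1 lc_f_Cert_tree lc_f_rc_38_0 lc_f_rc_21_1 lc_f_rc_27_1 lc_f_rc_27_3 lc_f_rc_38_0 lc_f_rc_32_3 lc_f_rc_21_3 lc_f_rc_37_2 lc_f_rc_27_1 lc_f_rc_40_2 lc_f_rc_27_1 lc_f_rc_21_1 lc_f_rc_27_1 lc_f_rc_40_2 lc_f_Cert_tree lc_f_rc_40_2 lc_f_rc_14_3 lc_f_rc_37_2 lc_f_rc_14_1 lc_f_rc_14_1 lc_f_rc_14_1 lc_f_Cert_tree lc_f_rc_40_2 lc_f_rc_38_0 lc_f_rc_40_2 lc_f_rc_37_2 lc_f_rc_21_1 lc_f_rc_14_1 lc_f_rc_27_1) (@D3.rec (fun _ => (Cert rels S Gen.f)) lc_f_rc_14_1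 lc_f_rc_14_1 lc_f_rc_27_1 lc_f_rc_40_2 lc_f_rc_21_1 lc_f_Cert_tree lc_f_rc_40_2 lc_f_rc_6_1 lc_f_rc_6_1 lc_f_rc_6_1 lc_f_Cert_tree lc_f_rc_40_2 lc_f_rc_38_0 lc_f_rc_40_2 lc_f_rc_37_2 lc_f_rc_37_2 lc_f_rc_37_2 lc_f_Cert_tree lc_f_rc_27_1 lc_f_rc_38_0 lc_f_rc_40_2 lc_f_rc_37_2 lc_f_rc_39_2 lc_f_rc_40_2 lc_f_rc_37_2 lc_f_rc_21_1 lc_f_rc_14_1 lc_f_rc_6_1 lc_f_rc_21_1 lc_f_Cert_tree lc_f_rc_40_2 lc_f_Cert_tree) (@D3.rec (fun _ => (Cert rels S Gen.f)) lc_f_rc_21_1 lc_f_rc_38_0 lc_f_rc_40_2 lc_f_rc_37_2 lc_f_rc_38_0 lc_f_rc_40_2 lc_f_rc_37_2 lc_f_rc_6_1 lc_f_rc_40_2 lc_f_rc_37_2 lc_f_rc_21_3 lc_f_rc_40_2 lc_f_rc_37_2 lc_f_rc_39_2 lc_f_rc_37_2 lc_f_rc_27_1 lc_f_rc_38_0 lc_f_rc_38_1 lc_f_rc_21_1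 lc_f_rc_6_1 lc_f_rc_37_2 lc_f_rc_27_1 lc_f_rc_40_2 lc_f_rc_14_3 lc_f_rc_6_1 lc_f_rc_6_1 lc_f_rc_40_2 lc_f_rc_21_1 lc_f_rc_21_1 lc_f_rc_27_1 lc_f_rc_40_2 lc_f_Cert_tree) (@D3.rec (fun _ => (Cert rels S Gen.f)) lc_f_rc_40_2 lc_f_rc_47_53 lc_f_rc_32_3 lc_f_rc_32_3 lc_f_rc_14_1 lc_f_rc_37_2 lc_f_rc_27_1 lc_f_rc_40_2 lc_f_rc_21_1 lc_f_rc_32_3 lc_f_rc_14_1 lc_f_rc_6_1 lc_f_rc_37_2 lc_f_rc_27_1 lc_f_rc_40_2 lc_f_rc_6_1 lc_f_Cert_tree lc_f_rc_6_1 lc_f_rc_6_1 lc_f_rc_27_1 lc_f_rc_40_2 lc_f_Cert_tree lc_f_rc_40_2 lc_f_rc_38_0 lc_f_rc_38_1 lc_f_rc_6_1 lc_f_rc_6_1 lc_f_rc_6_1 lc_f_Cert_tree lc_f_rc_37_2 lc_f_rc_38_0 lc_f_rc_38_1) (@D3.rec (fun _ => (Cert rels S Gen.f)) lc_f_rc_27_1 lc_f_rc_21_1 lc_f_rc_14_1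 lc_f_rc_14_1 lc_f_Cert_tree lc_f_rc_40_2 lc_f_rc_38_0 lc_f_rc_40_2 lc_f_rc_37_2 lc_f_rc_37_2 lc_f_rc_27_1 lc_f_rc_40_2 lc_f_rc_21_1 lc_f_rc_27_1 lc_f_rc_27_1 lc_f_rc_40_2 lc_f_rc_14_3 lc_f_rc_40_2 lc_f_rc_14_1 lc_f_rc_21_1 lc_f_rc_37_2 lc_f_rc_14_1 lc_f_Cert_tree lc_f_rc_14_1 lc_f_rc_14_1 lc_f_rc_27_1 lc_f_rc_40_2 lc_f_rc_21_1 lc_f_Cert_tree lc_f_rc_40_2 lc_f_Cert_tree lc_f_rc_6_1) (@D3.rec (fun _ => (Cert rels S Gen.f)) lc_f_rc_38_0 lc_f_rc_38_1 lc_f_rc_6_1 lc_f_rc_6_1 lc_f_rc_6_1 lc_f_rc_6_1 lc_f_Cert_tree lc_f_rc_40_2 lc_f_rc_38_0 lc_f_rc_40_2 lc_f_rc_37_2 lc_f_rc_37_2 lc_f_rc_32_1 lc_f_rc_40_2 lc_f_rc_21_1 lc_f_rc_6_1 lc_f_rc_38_0 lc_f_rc_38_1 lc_f_rc_37_2 lc_f_rc_40_2 lc_f_rc_37_2 lc_f_rc_27_1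 lc_f_rc_40_2 lc_f_rc_21_1 lc_f_Cert_tree lc_f_rc_27_1 lc_f_Cert_tree lc_f_rc_39_2 lc_f_rc_38_0 lc_f_rc_40_2 lc_f_rc_37_2 lc_f_rc_39_2) (@D3.rec (fun _ => (Cert rels S Gen.f)) lc_f_rc_40_2 lc_f_rc_37_2 lc_f_rc_40_2 lc_f_rc_39_2 lc_f_rc_40_2 lc_f_rc_14_1 lc_f_rc_21_1 lc_f_rc_39_2 lc_f_rc_14_3 lc_f_rc_6_1 lc_f_rc_14_1 lc_f_rc_21_1 lc_f_Cert_tree lc_f_rc_14_1 lc_f_rc_38_0 lc_f_rc_37_2 lc_f_rc_14_1 lc_f_rc_39_2 lc_f_rc_21_1 lc_f_rc_14_1 lc_f_rc_40_2 lc_f_rc_21_1 lc_f_rc_38_0 lc_f_rc_38_1 lc_f_rc_6_1 lc_f_rc_6_1 lc_f_rc_27_1 lc_f_rc_21_1 lc_f_rc_6_1 lc_f_rc_27_3 lc_f_rc_6_1 lc_f_rc_14_3) (@D3.rec (fun _ => (Cert rels S Gen.f)) lc_f_rc_14_1 lc_f_rc_32_3 lc_f_rc_37_2 lc_f_rc_38_0 lc_f_rc_40_2 lc_f_rc_21_1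 lc_f_rc_32_3 lc_f_rc_40_2 lc_f_rc_14_1 lc_f_rc_47_18 lc_f_rc_14_1 lc_f_rc_32_3 lc_f_rc_27_1 lc_f_rc_6_1 lc_f_rc_14_1 lc_f_rc_38_0 lc_f_rc_38_1 lc_f_rc_6_1 lc_f_rc_37_2 lc_f_rc_21_3 lc_f_rc_40_2 lc_f_rc_6_3 lc_f_rc_6_1 lc_f_rc_6_1 lc_f_rc_40_2 lc_f_rc_21_1 lc_f_rc_40_2 lc_f_rc_21_3 lc_f_rc_37_0 lc_f_rc_38_0 lc_f_rc_38_1 lc_f_rc_27_1)
def ce_f_5 : D2 → D3 → (Cert rels S Gen.f) := @D2.rec (fun _ => D3 → (Cert rels S Gen.f)) (@D3.rec (fun _ => (Cert rels S Gen.f)) lc_f_rc_14_1 lc_f_rc_14_1 lc_f_rc_37_2 lc_f_rc_27_1 lc_f_rc_40_2 lc_f_rc_21_1 lc_f_rc_27_1 lc_f_rc_21_1 lc_f_rc_6_1 lc_f_rc_37_2 lc_f_rc_27_1 lc_f_rc_40_2 lc_f_rc_32_3 lc_f_rc_14_3 lc_f_rc_38_0 lc_f_rc_6_1 lc_f_rc_27_1 lc_f_rc_40_2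 lc_f_Cert_tree lc_f_rc_40_2 lc_f_rc_39_4 lc_f_rc_14_1 lc_f_rc_37_2 lc_f_rc_6_1 lc_f_rc_14_1 lc_f_rc_39_4 lc_f_rc_14_1 lc_f_rc_14_1 lc_f_rc_14_1 lc_f_rc_14_3 lc_f_rc_40_2 lc_f_rc_38_0) (@D3.rec (fun _ => (Cert rels S Gen.f)) lc_f_rc_40_2 lc_f_rc_37_2 lc_f_rc_39_4 lc_f_rc_40_2 lc_f_rc_21_1 lc_f_rc_14_1 lc_f_rc_14_3 lc_f_rc_21_3 lc_f_rc_14_3 lc_f_rc_27_1 lc_f_rc_14_1 lc_f_Cert_tree lc_f_rc_14_1 lc_f_rc_6_1 lc_f_rc_27_1 lc_f_rc_40_2 lc_f_rc_21_1 lc_f_Cert_tree lc_f_rc_40_2 lc_f_Cert_tree lc_f_rc_6_1 lc_f_rc_38_0 lc_f_rc_38_1 lc_f_rc_6_1 lc_f_rc_6_1 lc_f_rc_6_1 lc_f_rc_6_1 lc_f_Cert_tree lc_f_rc_40_2 lc_f_rc_38_0 lc_f_rc_40_2 lc_f_rc_37_2) (@D3.rec (fun _ => (Cert rels S Gen.f)) lc_f_rc_37_2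 lc_f_rc_21_3 lc_f_rc_40_2 lc_f_rc_21_1 lc_f_rc_6_1 lc_f_rc_38_0 lc_f_rc_38_1 lc_f_rc_37_2 lc_f_rc_40_2 lc_f_rc_37_2 lc_f_rc_27_1 lc_f_rc_40_2 lc_f_rc_21_1 lc_f_Cert_tree lc_f_rc_27_1 lc_f_Cert_tree lc_f_rc_14_1 lc_f_rc_38_0 lc_f_rc_40_2 lc_f_rc_37_2 lc_f_rc_14_1 lc_f_rc_40_2 lc_f_rc_37_2 lc_f_rc_40_2 lc_f_rc_14_1 lc_f_rc_40_2 lc_f_rc_14_1 lc_f_rc_21_1 lc_f_rc_37_2 lc_f_rc_21_1 lc_f_rc_6_1 lc_f_rc_14_1) (@D3.rec (fun _ => (Cert rels S Gen.f)) lc_f_rc_21_1 lc_f_rc_14_1 lc_f_rc_6_3 lc_f_rc_14_1 lc_f_rc_14_1 lc_f_rc_27_1 lc_f_rc_40_2 lc_f_rc_21_1 lc_f_Cert_tree lc_f_rc_40_2 lc_f_rc_21_1 lc_f_rc_6_1 lc_f_rc_6_1 lc_f_rc_6_1 lc_f_rc_6_1 lc_f_rc_6_1 lc_f_rc_6_1 lc_f_Cert_tree lc_f_rc_40_2 lc_f_rc_38_0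 lc_f_rc_40_2 lc_f_rc_37_2 lc_f_rc_40_2 lc_f_rc_6_1 lc_f_rc_40_2 lc_f_rc_37_2 lc_f_rc_37_2 lc_f_rc_39_4 lc_f_rc_40_2 lc_f_rc_21_1 lc_f_Cert_tree lc_f_rc_27_1) (@D3.rec (fun _ => (Cert rels S Gen.f)) lc_f_rc_39_2 lc_f_rc_38_0 lc_f_rc_40_2 lc_f_rc_37_2 lc_f_rc_39_2 lc_f_rc_40_2 lc_f_rc_37_2 lc_f_rc_40_2 lc_f_rc_21_1 lc_f_Cert_tree lc_f_rc_14_1 lc_f_rc_38_0 lc_f_rc_6_3 lc_f_rc_14_1 lc_f_rc_14_1 lc_f_rc_14_1 lc_f_rc_14_1 lc_f_rc_21_1 lc_f_Cert_tree lc_f_rc_40_2 lc_f_Cert_tree lc_f_rc_21_1 lc_f_rc_38_0 lc_f_rc_40_2 lc_f_rc_37_2 lc_f_rc_38_0 lc_f_rc_38_1 lc_f_rc_6_1 lc_f_rc_6_1 lc_f_rc_6_1 lc_f_rc_6_1 lc_f_rc_21_1) (@D3.rec (fun _ => (Cert rels S Gen.f)) lc_f_Cert_tree lc_f_rc_6_1 lc_f_Cert_tree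 lc_f_rc_6_1 lc_f_rc_38_0 lc_f_rc_40_2 lc_f_rc_37_2 lc_f_rc_6_1 lc_f_rc_40_2 lc_f_rc_37_2 lc_f_rc_14_1 lc_f_rc_21_1 lc_f_rc_40_2 lc_f_rc_37_2 lc_f_rc_21_1 lc_f_rc_40_2 lc_f_rc_21_1 lc_f_Cert_tree lc_f_rc_40_2 lc_f_Cert_tree lc_f_rc_40_2 lc_f_rc_14_1 lc_f_Cert_tree lc_f_rc_21_1 lc_f_rc_38_0 lc_f_rc_40_2 lc_f_rc_37_2 lc_f_rc_38_0 lc_f_rc_40_2 lc_f_rc_21_1 lc_f_rc_39_2 lc_f_rc_40_2) (@D3.rec (fun _ => (Cert rels S Gen.f)) lc_f_rc_37_2 lc_f_rc_39_2 lc_f_rc_37_2 lc_f_rc_27_1 lc_f_rc_6_1 lc_f_rc_14_1 lc_f_rc_6_1 lc_f_rc_21_1 lc_f_rc_14_1 lc_f_rc_14_1 lc_f_rc_14_1 lc_f_rc_21_1 lc_f_rc_32_3 lc_f_rc_21_1 lc_f_rc_37_2 lc_f_rc_37_2 lc_f_rc_6_1 lc_f_rc_32_3 lc_f_rc_40_2 lc_f_rc_37_2 lc_f_rc_40_2 lc_f_rc_14_3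 lc_f_rc_21_1 lc_f_rc_14_1 lc_f_rc_14_1 lc_f_rc_14_1 lc_f_rc_21_1 lc_f_rc_40_2 lc_f_rc_21_1 lc_f_rc_6_1 lc_f_rc_14_1 lc_f_rc_6_1) (@D3.rec (fun _ => (Cert rels S Gen.f)) lc_f_rc_14_1 lc_f_rc_21_1 lc_f_rc_6_1 lc_f_rc_21_1 lc_f_Cert_tree lc_f_rc_14_1 lc_f_rc_21_1 lc_f_Cert_tree lc_f_rc_14_1 lc_f_Cert_tree lc_f_rc_21_1 lc_f_rc_38_0 lc_f_rc_40_2 lc_f_rc_37_2 lc_f_Cert_tree lc_f_rc_38_0 lc_f_rc_40_2 lc_f_rc_37_2 lc_f_rc_14_1 lc_f_rc_40_2 lc_f_rc_37_2 lc_f_rc_14_1 lc_f_Cert_tree lc_f_rc_6_1 lc_f_rc_38_0 lc_f_rc_40_2 lc_f_rc_6_1 lc_f_rc_38_0 lc_f_rc_40_2 lc_f_rc_6_1 lc_f_rc_39_2 lc_f_rc_40_2) (@D3.rec (fun _ => (Cert rels S Gen.f)) lc_f_rc_37_2 lc_f_rc_6_1 lc_f_rc_37_2 lc_f_rc_27_1 lc_f_rc_6_1 lc_f_rc_14_1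 lc_f_rc_6_1 lc_f_Cert_tree lc_f_rc_14_1 lc_f_rc_38_0 lc_f_rc_40_2 lc_f_rc_37_2 lc_f_rc_21_3 lc_f_rc_40_2 lc_f_rc_37_2 lc_f_rc_39_2 lc_f_rc_40_2 lc_f_rc_37_2 lc_f_rc_40_2 lc_f_rc_37_2 lc_f_rc_27_1 lc_f_rc_32_5 lc_f_rc_27_1 lc_f_rc_45_23 lc_f_rc_6_1 lc_f_rc_46_33 lc_f_rc_6_1 lc_f_rc_14_1 lc_f_rc_27_1 lc_f_rc_21_1 lc_f_Cert_tree lc_f_rc_40_2) (@D3.rec (fun _ => (Cert rels S Gen.f)) lc_f_rc_38_0 lc_f_rc_40_2 lc_f_rc_40_0 lc_f_rc_40_2 lc_f_rc_21_1 lc_f_rc_40_2 lc_f_rc_14_1 lc_f_rc_14_1 lc_f_rc_6_1 lc_f_rc_21_1 lc_f_Cert_tree lc_f_rc_40_2 lc_f_Cert_tree lc_f_rc_21_1 lc_f_rc_38_0 lc_f_rc_40_2 lc_f_rc_37_2 lc_f_rc_40_0 lc_f_rc_6_1 lc_f_rc_6_1 lc_f_Cert_tree lc_f_Cert_tree lc_f_rc_38_0 lc_f_rc_40_2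 lc_f_rc_37_2 lc_f_rc_6_1 lc_f_rc_40_2 lc_f_rc_37_2 lc_f_Cert_tree lc_f_rc_38_0 lc_f_rc_38_0 lc_f_rc_39_2) (@D3.rec (fun _ => (Cert rels S Gen.f)) lc_f_rc_40_2 lc_f_rc_37_2 lc_f_rc_14_1 lc_f_rc_37_2 lc_f_rc_27_1 lc_f_rc_21_1 lc_f_rc_14_1 lc_f_rc_21_1 lc_f_Cert_tree lc_f_Cert_tree lc_f_rc_40_2 lc_f_rc_38_0 lc_f_rc_40_2 lc_f_rc_40_2 lc_f_rc_6_1 lc_f_rc_38_0 lc_f_rc_6_1 lc_f_rc_40_2 lc_f_rc_37_2 lc_f_rc_39_2 lc_f_rc_37_2 lc_f_rc_27_1 lc_f_rc_40_2 lc_f_rc_21_1 lc_f_rc_40_0 lc_f_rc_14_1 lc_f_rc_14_1 lc_f_rc_21_1 lc_f_Cert_tree lc_f_rc_21_1 lc_f_Cert_tree lc_f_Cert_tree) (@D3.rec (fun _ => (Cert rels S Gen.f)) lc_f_rc_21_1 lc_f_rc_38_0 lc_f_rc_40_2 lc_f_rc_37_2 lc_f_Cert_tree lc_f_rc_38_0 lc_f_rc_40_2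 lc_f_rc_37_2 lc_f_rc_14_1 lc_f_rc_40_2 lc_f_rc_37_2 lc_f_rc_37_2 lc_f_Cert_tree lc_f_rc_6_1 lc_f_rc_38_0 lc_f_rc_38_0 lc_f_rc_39_2 lc_f_rc_40_2 lc_f_rc_37_2 lc_f_rc_6_1 lc_f_rc_37_2 lc_f_rc_27_1 lc_f_rc_38_0 lc_f_rc_40_2 lc_f_rc_27_3 lc_f_rc_39_2 lc_f_rc_27_1 lc_f_rc_37_2 lc_f_rc_27_1 lc_f_rc_37_2 lc_f_rc_27_1 lc_f_rc_45_59) (@D3.rec (fun _ => (Cert rels S Gen.f)) lc_f_rc_14_1 lc_f_rc_21_1 lc_f_rc_21_3 lc_f_rc_14_1 lc_f_rc_14_1 lc_f_rc_21_1 lc_f_rc_14_3 lc_f_rc_21_1 lc_f_rc_32_3 lc_f_rc_21_3 lc_f_rc_38_0 lc_f_rc_27_3 lc_f_rc_38_0 lc_f_rc_37_2 lc_f_Cert_tree lc_f_rc_40_2 lc_f_rc_38_0 lc_f_rc_38_0 lc_f_rc_40_2 lc_f_rc_38_0 lc_f_rc_38_1 lc_f_rc_27_1 lc_f_rc_21_1 lc_f_rc_14_1 lc_f_rc_37_2 lc_f_rc_40_2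 lc_f_rc_37_2 lc_f_rc_40_2 lc_f_rc_40_2 lc_f_Cert_tree lc_f_rc_21_1 lc_f_rc_38_0) (@D3.rec (fun _ => (Cert rels S Gen.f)) lc_f_rc_40_2 lc_f_rc_14_1 lc_f_Cert_tree lc_f_rc_38_0 lc_f_rc_40_2 lc_f_rc_37_2 lc_f_rc_39_2 lc_f_rc_40_2 lc_f_rc_37_2 lc_f_rc_38_0 lc_f_rc_38_1 lc_f_rc_40_2 lc_f_rc_21_1 lc_f_rc_40_2 lc_f_rc_37_2 lc_f_rc_27_1 lc_f_rc_14_1 lc_f_rc_37_2 lc_f_rc_27_1 lc_f_rc_39_2 lc_f_rc_40_2 lc_f_rc_37_2 lc_f_rc_40_2 lc_f_rc_37_2 lc_f_rc_27_1 lc_f_rc_32_5 lc_f_rc_27_1 lc_f_rc_6_1 lc_f_rc_40_2 lc_f_rc_37_2 lc_f_rc_27_1 lc_f_rc_37_2) (@D3.rec (fun _ => (Cert rels S Gen.f)) lc_f_rc_27_1 lc_f_rc_21_1 lc_f_rc_32_3 lc_f_rc_27_1 lc_f_rc_37_2 lc_f_rc_40_2 lc_f_rc_40_2 lc_f_rc_37_2 lc_f_rc_21_1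 lc_f_rc_37_2 lc_f_rc_21_1 lc_f_rc_27_1 lc_f_rc_37_2 lc_f_rc_27_1 lc_f_rc_14_1 lc_f_rc_6_1 lc_f_rc_38_0 lc_f_rc_27_3 lc_f_rc_32_3 lc_f_rc_27_1 lc_f_rc_21_3 lc_f_rc_27_1 lc_f_rc_40_2 lc_f_rc_21_1 lc_f_Cert_tree lc_f_rc_40_2 lc_f_rc_37_2 lc_f_rc_38_1 lc_f_rc_37_2 lc_f_Cert_tree lc_f_rc_40_2 lc_f_rc_38_0) (@D3.rec (fun _ => (Cert rels S Gen.f)) lc_f_rc_40_2 lc_f_rc_37_2 lc_f_rc_21_1 lc_f_rc_40_2 lc_f_rc_14_1 lc_f_rc_14_1 lc_f_rc_21_1 lc_f_Cert_tree lc_f_rc_14_1 lc_f_rc_38_0 lc_f_rc_40_2 lc_f_rc_37_2 lc_f_rc_14_1 lc_f_rc_40_2 lc_f_rc_37_2 lc_f_rc_21_1 lc_f_rc_14_1 lc_f_rc_21_1 lc_f_rc_14_1 lc_f_rc_14_1 lc_f_rc_14_1 lc_f_rc_21_1 lc_f_Cert_tree lc_f_rc_40_2 lc_f_Cert_tree lc_f_rc_21_1 lc_f_rc_38_0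 lc_f_rc_40_2 lc_f_rc_37_2 lc_f_rc_6_1 lc_f_rc_6_1 lc_f_Cert_tree) (@D3.rec (fun _ => (Cert rels S Gen.f)) lc_f_rc_6_1 lc_f_rc_38_0 lc_f_rc_40_2 lc_f_rc_37_2 lc_f_rc_6_1 lc_f_rc_40_2 lc_f_rc_37_2 lc_f_Cert_tree lc_f_rc_40_2 lc_f_rc_38_0 lc_f_rc_40_2 lc_f_rc_27_1 lc_f_rc_39_2 lc_f_rc_40_2 lc_f_rc_37_2 lc_f_rc_39_2 lc_f_rc_37_2 lc_f_rc_27_1 lc_f_rc_21_1 lc_f_rc_14_1 lc_f_Cert_tree lc_f_rc_21_1 lc_f_rc_38_0 lc_f_rc_40_2 lc_f_rc_37_2 lc_f_Cert_tree lc_f_rc_38_0 lc_f_rc_40_2 lc_f_rc_37_2 lc_f_rc_14_1 lc_f_rc_40_2 lc_f_rc_37_2) (@D3.rec (fun _ => (Cert rels S Gen.f)) lc_f_rc_21_3 lc_f_rc_40_2 lc_f_rc_37_2 lc_f_rc_6_1 lc_f_rc_37_2 lc_f_rc_27_1 lc_f_rc_21_3 lc_f_rc_37_2 lc_f_rc_27_1 lc_f_rc_37_2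 lc_f_rc_27_1 lc_f_rc_21_1 lc_f_rc_14_1 lc_f_rc_37_2 lc_f_rc_27_1 lc_f_rc_40_2 lc_f_rc_21_1 lc_f_rc_6_1 lc_f_rc_27_1 lc_f_rc_40_2 lc_f_Cert_tree lc_f_rc_40_2 lc_f_rc_14_3 lc_f_rc_6_1 lc_f_rc_6_1 lc_f_rc_6_1 lc_f_rc_21_1 lc_f_rc_21_1 lc_f_rc_21_1 lc_f_Cert_tree lc_f_rc_40_2 lc_f_rc_38_0) (@D3.rec (fun _ => (Cert rels S Gen.f)) lc_f_rc_40_2 lc_f_rc_37_2 lc_f_rc_14_3 lc_f_rc_14_3 lc_f_rc_21_1 lc_f_rc_32_3 lc_f_rc_27_1 lc_f_rc_40_2 lc_f_rc_21_1 lc_f_rc_40_2 lc_f_rc_32_3 lc_f_rc_21_1 lc_f_rc_32_3 lc_f_rc_14_1 lc_f_Cert_tree lc_f_rc_14_1 lc_f_rc_6_1 lc_f_rc_27_1 lc_f_rc_40_2 lc_f_rc_21_1 lc_f_Cert_tree lc_f_rc_40_2 lc_f_Cert_tree lc_f_rc_6_1 lc_f_rc_38_0 lc_f_rc_38_1 lc_f_rc_6_1 lc_f_rc_6_1 lc_f_rc_6_1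 lc_f_rc_6_1 lc_f_Cert_tree lc_f_rc_40_2) (@D3.rec (fun _ => (Cert rels S Gen.f)) lc_f_rc_38_0 lc_f_rc_40_2 lc_f_rc_37_2 lc_f_rc_37_2 lc_f_rc_27_1 lc_f_rc_40_2 lc_f_rc_21_1 lc_f_rc_6_1 lc_f_rc_38_0 lc_f_rc_38_1 lc_f_rc_37_2 lc_f_rc_40_2 lc_f_rc_37_2 lc_f_rc_27_1 lc_f_rc_40_2 lc_f_rc_21_1 lc_f_Cert_tree lc_f_rc_27_1 lc_f_rc_21_1 lc_f_rc_14_1 lc_f_rc_38_0 lc_f_rc_40_2 lc_f_rc_37_2 lc_f_rc_14_1 lc_f_rc_40_2 lc_f_rc_37_2 lc_f_rc_27_1 lc_f_rc_40_2 lc_f_rc_21_1 lc_f_rc_40_2 lc_f_rc_14_1 lc_f_rc_21_1) (@D3.rec (fun _ => (Cert rels S Gen.f)) lc_f_rc_37_2 lc_f_rc_32_3 lc_f_rc_40_2 lc_f_rc_39_2 lc_f_rc_14_3 lc_f_rc_37_2 lc_f_rc_6_1 lc_f_rc_14_1 lc_f_rc_21_1 lc_f_rc_21_1 lc_f_Cert_tree lc_f_rc_14_1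 lc_f_rc_38_0 lc_f_rc_38_1 lc_f_rc_14_1 lc_f_rc_14_1 lc_f_rc_14_1 lc_f_rc_14_1 lc_f_rc_21_1 lc_f_Cert_tree lc_f_rc_40_2 lc_f_Cert_tree lc_f_rc_21_1 lc_f_rc_38_0 lc_f_rc_40_2 lc_f_rc_37_2 lc_f_rc_38_0 lc_f_rc_38_1 lc_f_rc_6_1 lc_f_rc_6_1 lc_f_rc_37_2 lc_f_rc_27_1) (@D3.rec (fun _ => (Cert rels S Gen.f)) lc_f_rc_40_2 lc_f_rc_21_1 lc_f_Cert_tree lc_f_rc_6_1 lc_f_Cert_tree lc_f_rc_6_1 lc_f_rc_38_0 lc_f_rc_40_2 lc_f_rc_37_2 lc_f_rc_6_1 lc_f_rc_40_2 lc_f_rc_37_2 lc_f_rc_40_2 lc_f_rc_6_1 lc_f_rc_40_2 lc_f_rc_14_1 lc_f_rc_21_1 lc_f_rc_32_3 lc_f_rc_37_2 lc_f_rc_27_1 lc_f_rc_40_2 lc_f_rc_21_1 lc_f_Cert_tree lc_f_rc_40_2 lc_f_rc_27_1 lc_f_rc_40_2 lc_f_rc_39_2 lc_f_Cert_tree lc_f_rc_40_2 lc_f_rc_14_1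 lc_f_Cert_tree lc_f_rc_21_1)
def ce_f_6 : D2 → D3 → (Cert rels S Gen.f) := @D2.rec (fun _ => D3 → (Cert rels S Gen.f)) (@D3.rec (fun _ => (Cert rels S Gen.f)) lc_f_rc_38_0 lc_f_rc_40_2 lc_f_rc_37_2 lc_f_rc_38_0 lc_f_rc_40_2 lc_f_rc_37_2 lc_f_rc_39_2 lc_f_rc_40_2 lc_f_rc_37_2 lc_f_rc_39_2 lc_f_rc_37_2 lc_f_rc_27_1 lc_f_rc_39_2 lc_f_rc_40_2 lc_f_rc_6_1 lc_f_rc_14_1 lc_f_rc_39_2 lc_f_rc_40_2 lc_f_rc_6_1 lc_f_Cert_tree lc_f_rc_21_1 lc_f_rc_38_0 lc_f_rc_38_1 lc_f_rc_14_1 lc_f_rc_14_1 lc_f_rc_14_1 lc_f_rc_21_1 lc_f_rc_14_1 lc_f_rc_21_1 lc_f_rc_27_3 lc_f_rc_21_1 lc_f_rc_21_1) (@D3.rec (fun _ => (Cert rels S Gen.f)) lc_f_rc_14_1 lc_f_rc_32_3 lc_f_rc_37_2 lc_f_rc_27_1 lc_f_rc_40_2 lc_f_rc_21_1 lc_f_rc_6_1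 lc_f_rc_6_1 lc_f_rc_21_1 lc_f_rc_6_1 lc_f_rc_14_1 lc_f_rc_6_1 lc_f_rc_6_3 lc_f_rc_6_1 lc_f_rc_32_3 lc_f_rc_40_2 lc_f_rc_14_1 lc_f_rc_21_1 lc_f_rc_40_2 lc_f_rc_14_1 lc_f_rc_32_3 lc_f_rc_21_1 lc_f_rc_40_2 lc_f_rc_6_1 lc_f_rc_14_3 lc_f_rc_14_1 lc_f_rc_37_2 lc_f_rc_21_3 lc_f_rc_40_2 lc_f_rc_6_1 lc_f_rc_40_2 lc_f_rc_21_3) (@D3.rec (fun _ => (Cert rels S Gen.f)) lc_f_rc_37_0 lc_f_rc_6_3 lc_f_rc_6_1 lc_f_rc_6_1 lc_f_rc_6_1 lc_f_rc_21_1 lc_f_rc_37_2 lc_f_rc_37_2 lc_f_rc_27_1 lc_f_rc_40_2 lc_f_rc_21_1 lc_f_rc_27_1 lc_f_rc_27_1 lc_f_rc_40_2 lc_f_rc_40_2 lc_f_rc_14_1 lc_f_rc_21_1 lc_f_rc_32_3 lc_f_rc_27_1 lc_f_rc_39_4 lc_f_rc_21_1 lc_f_rc_6_1 lc_f_rc_27_1 lc_f_rc_40_2 lc_f_rc_21_1 lc_f_Cert_tree lc_f_rc_40_2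 lc_f_rc_37_2 lc_f_rc_39_4 lc_f_rc_27_1 lc_f_rc_37_2 lc_f_rc_6_1) (@D3.rec (fun _ => (Cert rels S Gen.f)) lc_f_rc_14_3 lc_f_rc_40_2 lc_f_rc_38_0 lc_f_rc_40_2 lc_f_rc_37_2 lc_f_rc_39_4 lc_f_rc_40_2 lc_f_rc_21_1 lc_f_rc_40_2 lc_f_rc_14_1 lc_f_rc_14_1 lc_f_rc_39_4 lc_f_rc_40_2 lc_f_rc_21_1 lc_f_rc_14_3 lc_f_rc_14_1 lc_f_rc_27_3 lc_f_rc_40_2 lc_f_rc_37_2 lc_f_rc_39_4 lc_f_rc_40_2 lc_f_rc_14_1 lc_f_rc_21_1 lc_f_rc_14_1 lc_f_rc_21_1 lc_f_rc_21_3 lc_f_rc_40_2 lc_f_rc_21_1 lc_f_rc_21_1 lc_f_Cert_tree lc_f_rc_14_1 lc_f_rc_38_0) (@D3.rec (fun _ => (Cert rels S Gen.f)) lc_f_rc_38_1 lc_f_rc_14_1 lc_f_rc_14_1 lc_f_rc_6_1 lc_f_rc_6_1 lc_f_rc_21_1 lc_f_Cert_tree lc_f_rc_40_2 lc_f_Cert_tree lc_f_rc_21_1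 lc_f_rc_38_0 lc_f_rc_40_2 lc_f_rc_37_2 lc_f_rc_38_0 lc_f_rc_38_1 lc_f_rc_6_1 lc_f_rc_6_1 lc_f_rc_37_2 lc_f_rc_27_1 lc_f_rc_40_2 lc_f_rc_21_1 lc_f_Cert_tree lc_f_rc_6_1 lc_f_Cert_tree lc_f_rc_6_1 lc_f_rc_38_0 lc_f_rc_40_2 lc_f_rc_37_2 lc_f_rc_6_1 lc_f_rc_40_2 lc_f_rc_37_2 lc_f_rc_40_2) (@D3.rec (fun _ => (Cert rels S Gen.f)) lc_f_rc_14_3 lc_f_rc_40_2 lc_f_rc_14_1 lc_f_rc_21_1 lc_f_rc_6_1 lc_f_rc_37_2 lc_f_rc_27_1 lc_f_rc_40_2 lc_f_rc_21_1 lc_f_Cert_tree lc_f_rc_40_2 lc_f_rc_27_1 lc_f_rc_40_2 lc_f_rc_14_1 lc_f_Cert_tree lc_f_rc_40_2 lc_f_rc_14_1 lc_f_Cert_tree lc_f_rc_21_1 lc_f_rc_38_0 lc_f_rc_40_2 lc_f_rc_37_2 lc_f_rc_38_0 lc_f_rc_40_2 lc_f_rc_39_2 lc_f_rc_40_2 lc_f_rc_37_2 lc_f_rc_14_1 lc_f_rc_37_2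 lc_f_rc_27_1 lc_f_rc_40_2 lc_f_rc_21_3) (@D3.rec (fun _ => (Cert rels S Gen.f)) lc_f_rc_6_1 lc_f_rc_14_1 lc_f_rc_21_1 lc_f_rc_6_1 lc_f_rc_14_1 lc_f_rc_21_1 lc_f_rc_27_1 lc_f_rc_14_1 lc_f_rc_6_3 lc_f_rc_14_1 lc_f_rc_14_1 lc_f_rc_14_1 lc_f_rc_14_1 lc_f_rc_21_1 lc_f_Cert_tree lc_f_rc_40_2 lc_f_Cert_tree lc_f_rc_21_1 lc_f_rc_38_0 lc_f_rc_40_2 lc_f_rc_37_2 lc_f_rc_6_1 lc_f_rc_6_1 lc_f_rc_6_1 lc_f_rc_6_1 lc_f_rc_6_1 lc_f_Cert_tree lc_f_rc_6_1 lc_f_rc_6_1 lc_f_rc_38_0 lc_f_rc_40_2 lc_f_rc_37_2) (@D3.rec (fun _ => (Cert rels S Gen.f)) lc_f_rc_6_1 lc_f_rc_40_2 lc_f_rc_37_2 lc_f_rc_6_1 lc_f_rc_6_1 lc_f_rc_21_1 lc_f_rc_40_2 lc_f_rc_40_2 lc_f_Cert_tree lc_f_rc_40_2 lc_f_rc_38_0 lc_f_rc_40_2 lc_f_rc_27_1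 lc_f_rc_40_2 lc_f_rc_39_2 lc_f_rc_37_2 lc_f_rc_27_1 lc_f_Cert_tree lc_f_rc_21_1 lc_f_rc_38_0 lc_f_rc_38_1 lc_f_rc_14_1 lc_f_rc_14_1 lc_f_rc_6_3 lc_f_rc_6_3 lc_f_rc_21_1 lc_f_Cert_tree lc_f_rc_14_1 lc_f_rc_21_1 lc_f_Cert_tree lc_f_rc_14_1 lc_f_Cert_tree) (@D3.rec (fun _ => (Cert rels S Gen.f)) lc_f_rc_21_1 lc_f_rc_38_0 lc_f_rc_40_2 lc_f_rc_37_2 lc_f_Cert_tree lc_f_rc_38_0 lc_f_rc_40_2 lc_f_rc_37_2 lc_f_rc_14_1 lc_f_rc_40_2 lc_f_rc_37_2 lc_f_rc_40_2 lc_f_rc_37_2 lc_f_rc_6_1 lc_f_rc_40_2 lc_f_rc_21_1 lc_f_Cert_tree lc_f_rc_6_1 lc_f_Cert_tree lc_f_rc_6_1 lc_f_rc_14_1 lc_f_Cert_tree lc_f_rc_21_1 lc_f_rc_38_0 lc_f_rc_40_2 lc_f_rc_6_1 lc_f_rc_38_0 lc_f_rc_40_2 lc_f_rc_21_1 lc_f_rc_39_2 lc_f_rc_40_2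 lc_f_rc_37_2) (@D3.rec (fun _ => (Cert rels S Gen.f)) lc_f_rc_6_1 lc_f_rc_37_2 lc_f_rc_27_1 lc_f_rc_6_1 lc_f_rc_14_1 lc_f_rc_40_0 lc_f_rc_40_2 lc_f_Cert_tree lc_f_rc_40_2 lc_f_rc_14_1 lc_f_Cert_tree lc_f_rc_21_1 lc_f_rc_38_0 lc_f_rc_40_2 lc_f_rc_40_2 lc_f_rc_38_0 lc_f_rc_40_2 lc_f_rc_14_3 lc_f_rc_6_1 lc_f_Cert_tree lc_f_rc_14_1 lc_f_rc_38_0 lc_f_rc_40_2 lc_f_rc_21_1 lc_f_rc_39_2 lc_f_rc_40_2 lc_f_rc_37_2 lc_f_rc_39_2 lc_f_rc_40_2 lc_f_rc_37_2 lc_f_rc_40_2 lc_f_rc_37_2) (@D3.rec (fun _ => (Cert rels S Gen.f)) lc_f_rc_27_1 lc_f_rc_32_5 lc_f_rc_27_1 lc_f_rc_14_1 lc_f_rc_6_1 lc_f_rc_21_1 lc_f_rc_21_1 lc_f_rc_14_1 lc_f_rc_14_1 lc_f_rc_14_1 lc_f_rc_21_1 lc_f_rc_14_1 lc_f_rc_32_3 lc_f_rc_40_2 lc_f_rc_38_0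 lc_f_rc_40_2 lc_f_rc_40_2 lc_f_rc_21_1 lc_f_rc_27_1 lc_f_rc_21_1 lc_f_rc_14_1 lc_f_rc_21_1 lc_f_rc_14_1 lc_f_rc_14_1 lc_f_rc_14_1 lc_f_rc_21_1 lc_f_rc_6_1 lc_f_rc_6_1 lc_f_rc_14_1 lc_f_rc_21_1 lc_f_Cert_tree lc_f_rc_21_1) (@D3.rec (fun _ => (Cert rels S Gen.f)) lc_f_rc_38_0 lc_f_rc_40_2 lc_f_rc_14_1 lc_f_Cert_tree lc_f_rc_21_1 lc_f_rc_38_0 lc_f_rc_40_2 lc_f_rc_14_1 lc_f_Cert_tree lc_f_rc_38_0 lc_f_rc_40_2 lc_f_rc_37_2 lc_f_rc_39_2 lc_f_rc_40_2 lc_f_rc_37_2 lc_f_rc_38_0 lc_f_rc_38_1 lc_f_rc_40_2 lc_f_rc_21_1 lc_f_rc_40_2 lc_f_rc_37_2 lc_f_rc_27_1 lc_f_rc_14_1 lc_f_rc_37_2 lc_f_rc_27_1 lc_f_rc_6_1 lc_f_Cert_tree lc_f_rc_14_1 lc_f_rc_38_0 lc_f_rc_40_2 lc_f_rc_6_1 lc_f_rc_21_3) (@D3.rec (fun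 _ => (Cert rels S Gen.f)) lc_f_rc_40_2 lc_f_rc_37_2 lc_f_rc_39_2 lc_f_rc_40_2 lc_f_rc_37_2 lc_f_rc_40_2 lc_f_rc_37_2 lc_f_rc_27_1 lc_f_rc_32_5 lc_f_rc_27_1 lc_f_rc_14_3 lc_f_rc_6_1 lc_f_Cert_tree lc_f_rc_6_1 lc_f_rc_38_0 lc_f_rc_40_2 lc_f_rc_14_1 lc_f_rc_39_2 lc_f_rc_40_2 lc_f_rc_37_2 lc_f_rc_21_3 lc_f_rc_37_2 lc_f_rc_27_1 lc_f_rc_40_2 lc_f_rc_37_2 lc_f_rc_27_1 lc_f_rc_37_2 lc_f_rc_27_1 lc_f_rc_40_2 lc_f_rc_14_3 lc_f_rc_14_1 lc_f_rc_21_1) (@D3.rec (fun _ => (Cert rels S Gen.f)) lc_f_rc_21_1 lc_f_Cert_tree lc_f_rc_40_2 lc_f_rc_38_0 lc_f_rc_40_2 lc_f_rc_40_0 lc_f_rc_40_2 lc_f_rc_14_3 lc_f_rc_40_2 lc_f_rc_21_1 lc_f_rc_40_0 lc_f_rc_14_1 lc_f_rc_14_1 lc_f_rc_21_1 lc_f_Cert_tree lc_f_rc_6_1 lc_f_Cert_tree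 lc_f_Cert_tree lc_f_rc_21_1 lc_f_rc_38_0 lc_f_rc_40_2 lc_f_rc_37_2 lc_f_Cert_tree lc_f_rc_38_0 lc_f_rc_40_2 lc_f_rc_37_2 lc_f_rc_6_1 lc_f_rc_40_2 lc_f_rc_37_2 lc_f_Cert_tree lc_f_rc_38_0 lc_f_rc_38_0) (@D3.rec (fun _ => (Cert rels S Gen.f)) lc_f_rc_39_2 lc_f_rc_40_2 lc_f_rc_37_2 lc_f_rc_6_1 lc_f_rc_37_2 lc_f_rc_27_1 lc_f_rc_38_0 lc_f_rc_27_3 lc_f_rc_39_2 lc_f_rc_27_1 lc_f_rc_37_2 lc_f_rc_37_2 lc_f_rc_27_1 lc_f_rc_45_59 lc_f_rc_21_1 lc_f_rc_14_1 lc_f_Cert_tree lc_f_rc_38_0 lc_f_Cert_tree lc_f_rc_38_0 lc_f_rc_40_2 lc_f_rc_40_2 lc_f_rc_14_1 lc_f_rc_40_2 lc_f_rc_37_2 lc_f_rc_6_1 lc_f_rc_37_2 lc_f_rc_27_1 lc_f_rc_37_2 lc_f_rc_27_1 lc_f_rc_14_1 lc_f_rc_40_0) (@D3.rec (fun _ => (Cert rels S Gen.f))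 lc_f_rc_27_1 lc_f_rc_21_1 lc_f_rc_37_2 lc_f_rc_21_1 lc_f_Cert_tree lc_f_rc_14_1 lc_f_Cert_tree lc_f_rc_38_0 lc_f_Cert_tree lc_f_rc_38_0 lc_f_Cert_tree lc_f_rc_38_0 lc_f_rc_40_2 lc_f_rc_37_2 lc_f_rc_39_2 lc_f_rc_40_2 lc_f_rc_37_2 lc_f_rc_38_0 lc_f_rc_38_1 lc_f_rc_40_2 lc_f_rc_21_1 lc_f_rc_40_2 lc_f_rc_37_2 lc_f_rc_27_1 lc_f_rc_14_1 lc_f_rc_37_2 lc_f_rc_27_1 lc_f_rc_38_0 lc_f_rc_40_2 lc_f_rc_40_2 lc_f_rc_39_2 lc_f_rc_27_1) (@D3.rec (fun _ => (Cert rels S Gen.f)) lc_f_rc_37_2 lc_f_rc_27_1 lc_f_rc_37_2 lc_f_rc_27_1 lc_f_rc_14_3 lc_f_rc_27_3 lc_f_rc_40_2 lc_f_rc_27_3 lc_f_rc_27_1 lc_f_rc_21_1 lc_f_rc_14_1 lc_f_rc_27_1 lc_f_rc_21_1 lc_f_rc_37_2 lc_f_rc_21_1 lc_f_rc_14_3 lc_f_rc_14_1 lc_f_rc_21_1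 lc_f_rc_38_0 lc_f_rc_40_2 lc_f_rc_40_2 lc_f_rc_21_1 lc_f_rc_37_2 lc_f_rc_47_4 lc_f_rc_40_2 lc_f_Cert_tree lc_f_rc_27_1 lc_f_rc_14_1 lc_f_rc_40_2 lc_f_rc_40_2 lc_f_Cert_tree lc_f_rc_38_0) (@D3.rec (fun _ => (Cert rels S Gen.f)) lc_f_rc_40_2 lc_f_rc_21_1 lc_f_rc_39_2 lc_f_rc_40_2 lc_f_rc_37_2 lc_f_rc_38_0 lc_f_rc_38_1 lc_f_rc_40_2 lc_f_rc_21_1 lc_f_rc_40_2 lc_f_rc_37_2 lc_f_rc_27_1 lc_f_rc_40_2 lc_f_rc_37_2 lc_f_rc_27_1 lc_f_rc_32_3 lc_f_rc_27_1 lc_f_rc_37_2 lc_f_rc_40_2 lc_f_rc_40_2 lc_f_rc_37_2 lc_f_rc_21_1 lc_f_rc_37_2 lc_f_rc_27_1 lc_f_rc_6_1 lc_f_rc_32_5 lc_f_rc_27_1 lc_f_rc_14_1 lc_f_rc_40_2 lc_f_rc_37_2 lc_f_rc_27_1 lc_f_rc_37_2) (@D3.rec (fun _ => (Cert rels S Gen.f)) lc_f_rc_27_1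 lc_f_rc_21_1 lc_f_rc_6_1 lc_f_rc_37_2 lc_f_rc_27_1 lc_f_rc_39_2 lc_f_rc_32_3 lc_f_rc_27_1 lc_f_rc_40_2 lc_f_rc_37_2 lc_f_rc_37_2 lc_f_rc_37_2 lc_f_rc_32_3 lc_f_rc_6_1 lc_f_rc_37_2 lc_f_rc_27_1 lc_f_rc_37_2 lc_f_rc_21_1 lc_f_Cert_tree lc_f_rc_40_2 lc_f_Cert_tree lc_f_rc_21_1 lc_f_rc_38_0 lc_f_rc_40_2 lc_f_rc_37_2 lc_f_rc_37_2 lc_f_rc_37_2 lc_f_rc_27_1 lc_f_Cert_tree lc_f_rc_40_2 lc_f_rc_38_0 lc_f_rc_40_2) (@D3.rec (fun _ => (Cert rels S Gen.f)) lc_f_rc_37_2 lc_f_rc_6_1 lc_f_rc_40_2 lc_f_rc_37_2 lc_f_rc_14_1 lc_f_rc_40_2 lc_f_rc_6_1 lc_f_rc_14_3 lc_f_rc_39_0 lc_f_rc_14_1 lc_f_rc_14_3 lc_f_rc_21_1 lc_f_rc_38_0 lc_f_rc_40_2 lc_f_rc_14_1 lc_f_rc_39_2 lc_f_rc_40_2 lc_f_rc_37_2 lc_f_rc_14_1 lc_f_rc_37_2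 lc_f_rc_27_1 lc_f_rc_21_1 lc_f_rc_21_1 lc_f_rc_14_1 lc_f_rc_14_1 lc_f_rc_21_1 lc_f_Cert_tree lc_f_rc_14_1 lc_f_Cert_tree lc_f_rc_21_1 lc_f_rc_38_0 lc_f_rc_40_2) (@D3.rec (fun _ => (Cert rels S Gen.f)) lc_f_rc_37_2 lc_f_Cert_tree lc_f_rc_38_0 lc_f_rc_40_2 lc_f_rc_37_2 lc_f_rc_14_1 lc_f_rc_40_2 lc_f_rc_37_2 lc_f_Cert_tree lc_f_rc_6_1 lc_f_rc_38_0 lc_f_rc_40_2 lc_f_rc_6_1 lc_f_rc_6_1 lc_f_rc_40_2 lc_f_rc_37_2 lc_f_rc_6_1 lc_f_rc_37_2 lc_f_rc_27_1 lc_f_rc_38_0 lc_f_rc_40_2 lc_f_rc_40_2 lc_f_rc_39_2 lc_f_rc_40_2 lc_f_rc_37_2 lc_f_rc_40_2 lc_f_rc_37_2 lc_f_rc_27_1 lc_f_rc_37_2 lc_f_rc_27_1 lc_f_rc_21_1 lc_f_rc_27_1) (@D3.rec (fun _ => (Cert rels S Gen.f)) lc_f_rc_21_1 lc_f_Cert_tree lc_f_rc_38_0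 lc_f_rc_40_2 lc_f_rc_37_2 lc_f_rc_39_2 lc_f_rc_40_2 lc_f_rc_37_2 lc_f_rc_38_0 lc_f_rc_38_1 lc_f_rc_40_2 lc_f_rc_21_1 lc_f_rc_40_2 lc_f_rc_37_2 lc_f_rc_27_1 lc_f_rc_14_1 lc_f_rc_37_2 lc_f_rc_27_1 lc_f_rc_21_3 lc_f_rc_37_2 lc_f_rc_27_1 lc_f_rc_37_2 lc_f_rc_27_1 lc_f_rc_21_1 lc_f_rc_37_2 lc_f_rc_27_1 lc_f_rc_21_1 lc_f_rc_39_2 lc_f_rc_21_1 lc_f_rc_32_3 lc_f_rc_14_1 lc_f_rc_14_1)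
def ce_f_7 : D2 → D3 → (Cert rels S Gen.f) := @D2.rec (fun _ => D3 → (Cert rels S Gen.f)) (@D3.rec (fun _ => (Cert rels S Gen.f)) lc_f_rc_27_1 lc_f_rc_40_2 lc_f_rc_14_3 lc_f_Cert_tree lc_f_rc_40_2 lc_f_rc_21_1 lc_f_rc_6_1 lc_f_rc_6_1 lc_f_Cert_tree lc_f_rc_40_2 lc_f_rc_38_0 lc_f_rc_40_2 lc_f_rc_37_2 lc_f_rc_6_1 lc_f_rc_6_1 lc_f_rc_21_1 lc_f_rc_6_1 lc_f_rc_21_1 lc_f_rc_38_0 lc_f_rc_40_2 lc_f_rc_37_2 lc_f_rc_21_1 lc_f_rc_40_2 lc_f_rc_37_2 lc_f_rc_14_3 lc_f_rc_14_1 lc_f_rc_21_1 lc_f_rc_32_3 lc_f_rc_21_1 lc_f_rc_32_3 lc_f_rc_40_2 lc_f_rc_14_1) (@D3.rec (fun _ => (Cert rels S Gen.f)) lc_f_rc_21_1 lc_f_rc_37_2 lc_f_rc_6_1 lc_f_rc_32_3 lc_f_rc_21_1 lc_f_rc_21_1 lc_f_Cert_tree lc_f_rc_14_1 lc_f_rc_38_0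 lc_f_rc_38_1 lc_f_rc_14_1 lc_f_rc_14_1 lc_f_rc_6_1 lc_f_rc_6_1 lc_f_rc_21_1 lc_f_Cert_tree lc_f_rc_40_2 lc_f_Cert_tree lc_f_rc_21_1 lc_f_rc_38_0 lc_f_rc_40_2 lc_f_rc_37_2 lc_f_rc_38_0 lc_f_rc_38_1 lc_f_rc_6_1 lc_f_rc_6_1 lc_f_rc_37_2 lc_f_rc_27_1 lc_f_rc_40_2 lc_f_rc_21_1 lc_f_Cert_tree lc_f_rc_6_1) (@D3.rec (fun _ => (Cert rels S Gen.f)) lc_f_rc_21_1 lc_f_rc_6_1 lc_f_rc_38_0 lc_f_rc_40_2 lc_f_rc_37_2 lc_f_rc_6_1 lc_f_rc_40_2 lc_f_rc_37_2 lc_f_rc_27_1 lc_f_rc_40_2 lc_f_rc_21_1 lc_f_rc_40_2 lc_f_rc_14_1 lc_f_rc_21_1 lc_f_rc_6_1 lc_f_rc_37_2 lc_f_rc_27_1 lc_f_rc_40_2 lc_f_rc_21_1 lc_f_Cert_tree lc_f_rc_40_2 lc_f_rc_27_1 lc_f_rc_40_2 lc_f_rc_21_1 lc_f_rc_21_1 lc_f_rc_40_2 lc_f_rc_14_1 lc_f_Cert_tree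 lc_f_rc_21_1 lc_f_rc_38_0 lc_f_rc_40_2 lc_f_rc_37_2) (@D3.rec (fun _ => (Cert rels S Gen.f)) lc_f_rc_40_2 lc_f_rc_37_2 lc_f_rc_39_2 lc_f_rc_40_2 lc_f_rc_37_2 lc_f_rc_14_1 lc_f_rc_37_2 lc_f_rc_27_1 lc_f_rc_21_1 lc_f_rc_47_39 lc_f_rc_40_2 lc_f_rc_39_2 lc_f_rc_21_1 lc_f_rc_37_2 lc_f_rc_6_1 lc_f_rc_14_1 lc_f_rc_21_1 lc_f_rc_32_3 lc_f_rc_37_2 lc_f_rc_39_2 lc_f_rc_40_2 lc_f_rc_21_1 lc_f_rc_6_1 lc_f_rc_14_1 lc_f_Cert_tree lc_f_rc_21_1 lc_f_rc_38_0 lc_f_rc_38_1 lc_f_rc_14_1 lc_f_rc_14_1 lc_f_rc_37_2 lc_f_rc_27_1) (@D3.rec (fun _ => (Cert rels S Gen.f)) lc_f_rc_40_2 lc_f_rc_21_1 lc_f_Cert_tree lc_f_rc_14_1 lc_f_rc_21_1 lc_f_Cert_tree lc_f_rc_14_1 lc_f_Cert_tree lc_f_rc_21_1 lc_f_rc_38_0 lc_f_rc_40_2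 lc_f_rc_37_2 lc_f_Cert_tree lc_f_rc_38_0 lc_f_rc_40_2 lc_f_rc_37_2 lc_f_rc_14_1 lc_f_rc_40_2 lc_f_rc_37_2 lc_f_rc_6_1 lc_f_rc_37_2 lc_f_rc_27_1 lc_f_rc_40_2 lc_f_rc_21_1 lc_f_Cert_tree lc_f_rc_6_1 lc_f_rc_27_1 lc_f_rc_40_2 lc_f_rc_6_1 lc_f_Cert_tree lc_f_rc_40_2 lc_f_rc_14_1) (@D3.rec (fun _ => (Cert rels S Gen.f)) lc_f_Cert_tree lc_f_rc_21_1 lc_f_rc_38_0 lc_f_rc_40_2 lc_f_rc_6_1 lc_f_rc_38_0 lc_f_rc_40_2 lc_f_rc_37_2 lc_f_rc_39_2 lc_f_rc_40_2 lc_f_rc_37_2 lc_f_rc_6_1 lc_f_rc_37_2 lc_f_rc_27_1 lc_f_rc_6_3 lc_f_rc_6_1 lc_f_rc_6_1 lc_f_rc_14_1 lc_f_rc_32_3 lc_f_rc_27_1 lc_f_rc_40_2 lc_f_rc_14_1 lc_f_rc_14_3 lc_f_rc_40_2 lc_f_rc_14_1 lc_f_Cert_tree lc_f_rc_21_1 lc_f_rc_38_0 lc_f_rc_40_2 lc_f_rc_40_2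 lc_f_rc_14_3 lc_f_rc_40_2) (@D3.rec (fun _ => (Cert rels S Gen.f)) lc_f_rc_39_2 lc_f_rc_39_4 lc_f_rc_40_2 lc_f_rc_38_0 lc_f_rc_40_2 lc_f_rc_37_2 lc_f_rc_6_1 lc_f_Cert_tree lc_f_rc_14_1 lc_f_rc_38_0 lc_f_rc_40_2 lc_f_rc_21_1 lc_f_rc_39_2 lc_f_rc_40_2 lc_f_rc_37_2 lc_f_rc_39_2 lc_f_rc_40_2 lc_f_rc_37_2 lc_f_rc_40_2 lc_f_rc_37_2 lc_f_rc_27_1 lc_f_rc_37_2 lc_f_rc_27_1 lc_f_rc_14_1 lc_f_rc_6_1 lc_f_rc_40_2 lc_f_rc_6_1 lc_f_rc_40_2 lc_f_rc_38_0 lc_f_rc_38_1 lc_f_rc_27_1 lc_f_rc_21_1) (@D3.rec (fun _ => (Cert rels S Gen.f)) lc_f_rc_14_1 lc_f_rc_37_2 lc_f_rc_14_1 lc_f_rc_40_2 lc_f_rc_21_1 lc_f_rc_14_1 lc_f_rc_14_1 lc_f_rc_21_1 lc_f_rc_14_1 lc_f_rc_14_1 lc_f_rc_21_1 lc_f_rc_32_3 lc_f_rc_27_1 lc_f_rc_21_1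 lc_f_rc_32_3 lc_f_rc_40_2 lc_f_rc_14_3 lc_f_rc_21_1 lc_f_rc_40_2 lc_f_rc_14_1 lc_f_rc_6_1 lc_f_rc_21_1 lc_f_rc_6_1 lc_f_rc_27_1 lc_f_rc_6_1 lc_f_rc_14_1 lc_f_rc_39_2 lc_f_rc_40_2 lc_f_rc_27_3 lc_f_rc_37_0 lc_f_rc_6_1 lc_f_rc_14_1) (@D3.rec (fun _ => (Cert rels S Gen.f)) lc_f_rc_40_2 lc_f_rc_14_1 lc_f_rc_40_2 lc_f_rc_14_3 lc_f_rc_21_3 lc_f_rc_37_0 lc_f_rc_6_1 lc_f_rc_37_2 lc_f_rc_6_3 lc_f_rc_6_3 lc_f_rc_21_1 lc_f_rc_6_1 lc_f_rc_27_1 lc_f_rc_40_2 lc_f_rc_45_59 lc_f_rc_40_2 lc_f_rc_14_1 lc_f_rc_21_1 lc_f_rc_37_2 lc_f_rc_40_2 lc_f_rc_37_2 lc_f_rc_6_1 lc_f_rc_14_1 lc_f_rc_21_1 lc_f_rc_6_1 lc_f_rc_37_2 lc_f_rc_39_4 lc_f_rc_27_1 lc_f_rc_37_2 lc_f_rc_6_1 lc_f_rc_21_1 lc_f_rc_6_3) (@D3.rec (fun _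 => (Cert rels S Gen.f)) lc_f_rc_40_2 lc_f_Cert_tree lc_f_rc_21_1 lc_f_rc_38_0 lc_f_rc_40_2 lc_f_rc_37_2 lc_f_rc_38_0 lc_f_rc_37_2 lc_f_rc_6_1 lc_f_rc_6_1 lc_f_rc_27_1 lc_f_rc_21_1 lc_f_rc_40_2 lc_f_rc_27_3 lc_f_rc_40_2 lc_f_rc_37_2 lc_f_rc_39_4 lc_f_rc_40_2 lc_f_rc_14_1 lc_f_rc_40_2 lc_f_rc_6_1 lc_f_rc_14_1 lc_f_rc_39_4 lc_f_rc_40_2 lc_f_rc_14_1 lc_f_rc_21_1 lc_f_rc_14_3 lc_f_rc_14_1 lc_f_rc_37_2 lc_f_rc_45_41 lc_f_rc_40_2 lc_f_rc_37_2) (@D3.rec (fun _ => (Cert rels S Gen.f)) lc_f_rc_14_3 lc_f_rc_40_2 lc_f_rc_21_1 lc_f_rc_40_2 lc_f_rc_21_3 lc_f_Cert_tree lc_f_rc_21_1 lc_f_rc_38_0 lc_f_rc_38_1 lc_f_rc_14_1 lc_f_rc_14_1 lc_f_rc_37_2 lc_f_rc_27_1 lc_f_rc_40_2 lc_f_rc_21_1 lc_f_Cert_tree lc_f_rc_14_1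 lc_f_rc_6_1 lc_f_Cert_tree lc_f_rc_6_1 lc_f_Cert_tree lc_f_rc_21_1 lc_f_rc_38_0 lc_f_rc_40_2 lc_f_rc_37_2 lc_f_Cert_tree lc_f_rc_38_0 lc_f_rc_40_2 lc_f_rc_37_2 lc_f_rc_6_1 lc_f_rc_40_2 lc_f_rc_37_2) (@D3.rec (fun _ => (Cert rels S Gen.f)) lc_f_rc_37_2 lc_f_rc_27_1 lc_f_rc_40_2 lc_f_rc_21_1 lc_f_Cert_tree lc_f_rc_6_1 lc_f_rc_27_1 lc_f_rc_40_2 lc_f_rc_14_3 lc_f_Cert_tree lc_f_rc_40_2 lc_f_rc_14_1 lc_f_Cert_tree lc_f_rc_21_1 lc_f_rc_38_0 lc_f_rc_40_2 lc_f_rc_6_1 lc_f_rc_38_0 lc_f_rc_40_2 lc_f_rc_39_2 lc_f_rc_40_2 lc_f_rc_37_2 lc_f_rc_6_1 lc_f_rc_37_2 lc_f_rc_27_1 lc_f_rc_6_1 lc_f_rc_40_2 lc_f_rc_14_3 lc_f_rc_6_1 lc_f_rc_14_1 lc_f_rc_21_1 lc_f_rc_27_1) (@D3.rec (fun _ => (Cert rels S Gen.f))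 lc_f_rc_40_2 lc_f_rc_39_4 lc_f_rc_40_2 lc_f_rc_14_1 lc_f_rc_14_1 lc_f_rc_21_1 lc_f_rc_38_0 lc_f_rc_40_2 lc_f_rc_40_2 lc_f_rc_32_3 lc_f_rc_40_2 lc_f_rc_21_3 lc_f_rc_40_2 lc_f_rc_38_0 lc_f_rc_40_2 lc_f_rc_37_2 lc_f_rc_6_1 lc_f_rc_37_0 lc_f_rc_14_1 lc_f_rc_38_0 lc_f_rc_40_2 lc_f_rc_21_1 lc_f_rc_32_1 lc_f_rc_40_2 lc_f_rc_37_2 lc_f_rc_39_2 lc_f_rc_40_2 lc_f_rc_40_2 lc_f_rc_37_2 lc_f_rc_27_1 lc_f_rc_37_2 lc_f_rc_27_1) (@D3.rec (fun _ => (Cert rels S Gen.f)) lc_f_rc_14_1 lc_f_rc_14_1 lc_f_rc_6_1 lc_f_rc_14_1 lc_f_rc_27_1 lc_f_rc_6_1 lc_f_rc_27_3 lc_f_rc_21_1 lc_f_rc_14_1 lc_f_rc_14_1 lc_f_rc_6_3 lc_f_rc_6_3 lc_f_rc_21_1 lc_f_Cert_tree lc_f_rc_14_1 lc_f_rc_21_1 lc_f_rc_14_1 lc_f_Cert_tree lc_f_rc_21_1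 lc_f_rc_38_0 lc_f_rc_40_2 lc_f_rc_37_2 lc_f_Cert_tree lc_f_rc_38_0 lc_f_rc_40_2 lc_f_rc_37_2 lc_f_rc_14_1 lc_f_rc_40_2 lc_f_rc_37_2 lc_f_rc_6_1 lc_f_rc_6_1 lc_f_rc_6_1) (@D3.rec (fun _ => (Cert rels S Gen.f)) lc_f_rc_6_1 lc_f_Cert_tree lc_f_rc_6_1 lc_f_rc_38_0 lc_f_rc_40_2 lc_f_rc_6_1 lc_f_rc_40_2 lc_f_rc_6_1 lc_f_rc_37_2 lc_f_rc_27_1 lc_f_rc_6_1 lc_f_rc_40_2 lc_f_rc_40_2 lc_f_rc_21_1 lc_f_rc_38_0 lc_f_rc_40_2 lc_f_rc_14_1 lc_f_rc_40_2 lc_f_rc_37_2 lc_f_rc_37_2 lc_f_rc_27_1 lc_f_rc_45_23 lc_f_rc_38_0 lc_f_rc_38_1 lc_f_rc_27_1 lc_f_rc_21_1 lc_f_rc_40_2 lc_f_rc_37_2 lc_f_rc_6_3 lc_f_rc_40_2 lc_f_rc_21_1 lc_f_Cert_tree) (@D3.rec (fun _ => (Cert rels S Gen.f)) lc_f_rc_14_1 lc_f_rc_6_3 lc_f_Cert_tree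 lc_f_rc_14_1 lc_f_rc_14_1 lc_f_Cert_tree lc_f_rc_21_1 lc_f_rc_38_0 lc_f_rc_40_2 lc_f_rc_14_1 lc_f_Cert_tree lc_f_rc_21_1 lc_f_rc_38_0 lc_f_rc_40_2 lc_f_rc_37_2 lc_f_Cert_tree lc_f_rc_38_0 lc_f_rc_40_2 lc_f_rc_37_2 lc_f_rc_39_2 lc_f_rc_40_2 lc_f_rc_37_2 lc_f_rc_38_0 lc_f_rc_38_1 lc_f_rc_40_2 lc_f_rc_21_1 lc_f_rc_40_2 lc_f_rc_37_2 lc_f_rc_27_1 lc_f_rc_14_1 lc_f_rc_37_2 lc_f_rc_27_1) (@D3.rec (fun _ => (Cert rels S Gen.f)) lc_f_rc_40_0 lc_f_rc_40_2 lc_f_Cert_tree lc_f_rc_6_1 lc_f_rc_14_1 lc_f_Cert_tree lc_f_rc_21_1 lc_f_rc_38_0 lc_f_rc_40_2 lc_f_rc_6_1 lc_f_rc_38_0 lc_f_rc_40_2 lc_f_rc_21_1 lc_f_rc_6_1 lc_f_Cert_tree lc_f_rc_14_1 lc_f_rc_38_0 lc_f_rc_40_2 lc_f_rc_21_1 lc_f_rc_39_2 lc_f_rc_40_2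 lc_f_rc_37_2 lc_f_rc_39_2 lc_f_rc_40_2 lc_f_rc_37_2 lc_f_rc_40_2 lc_f_rc_37_2 lc_f_rc_27_1 lc_f_rc_32_5 lc_f_rc_27_1 lc_f_rc_14_3 lc_f_rc_6_1) (@D3.rec (fun _ => (Cert rels S Gen.f)) lc_f_rc_38_0 lc_f_rc_14_3 lc_f_rc_6_1 lc_f_rc_21_1 lc_f_rc_14_1 lc_f_rc_38_0 lc_f_rc_40_2 lc_f_rc_21_1 lc_f_rc_37_2 lc_f_rc_40_2 lc_f_rc_37_2 lc_f_rc_39_2 lc_f_rc_40_2 lc_f_rc_37_2 lc_f_Cert_tree lc_f_rc_6_1 lc_f_rc_38_0 lc_f_rc_40_2 lc_f_rc_14_1 lc_f_rc_39_2 lc_f_rc_40_2 lc_f_rc_37_2 lc_f_rc_40_2 lc_f_rc_37_2 lc_f_rc_27_1 lc_f_rc_40_2 lc_f_rc_37_2 lc_f_rc_37_2 lc_f_rc_27_1 lc_f_rc_40_2 lc_f_rc_14_3 lc_f_rc_27_1) (@D3.rec (fun _ => (Cert rels S Gen.f)) lc_f_rc_21_1 lc_f_rc_14_1 lc_f_rc_14_1 lc_f_rc_14_1 lc_f_rc_14_1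 lc_f_rc_21_1 lc_f_rc_40_2 lc_f_rc_14_3 lc_f_rc_21_1 lc_f_rc_27_1 lc_f_Cert_tree lc_f_rc_27_1 lc_f_rc_14_1 lc_f_rc_21_1 lc_f_rc_6_1 lc_f_rc_6_1 lc_f_rc_14_1 lc_f_rc_6_1 lc_f_rc_6_1 lc_f_Cert_tree lc_f_rc_21_1 lc_f_Cert_tree lc_f_rc_38_0 lc_f_rc_40_2 lc_f_rc_21_1 lc_f_rc_39_2 lc_f_rc_40_2 lc_f_rc_37_2 lc_f_Cert_tree lc_f_rc_38_0 lc_f_rc_40_2 lc_f_rc_21_1) (@D3.rec (fun _ => (Cert rels S Gen.f)) lc_f_rc_39_2 lc_f_rc_40_2 lc_f_rc_37_2 lc_f_rc_38_0 lc_f_rc_38_1 lc_f_rc_40_2 lc_f_rc_21_1 lc_f_rc_40_2 lc_f_rc_37_2 lc_f_rc_27_1 lc_f_rc_40_2 lc_f_rc_37_2 lc_f_rc_27_1 lc_f_rc_32_3 lc_f_rc_27_1 lc_f_rc_37_2 lc_f_rc_40_2 lc_f_rc_40_2 lc_f_rc_37_2 lc_f_rc_21_1 lc_f_rc_37_2 lc_f_rc_27_1 lc_f_rc_27_1 lc_f_rc_32_5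 lc_f_rc_27_1 lc_f_rc_14_1 lc_f_Cert_tree lc_f_rc_6_1 lc_f_rc_38_0 lc_f_rc_40_2 lc_f_rc_14_1 lc_f_rc_6_1) (@D3.rec (fun _ => (Cert rels S Gen.f)) lc_f_rc_40_2 lc_f_rc_37_2 lc_f_rc_21_3 lc_f_rc_37_2 lc_f_rc_27_1 lc_f_rc_40_2 lc_f_rc_37_2 lc_f_rc_27_1 lc_f_rc_37_2 lc_f_rc_27_1 lc_f_rc_40_2 lc_f_rc_6_1 lc_f_rc_38_0 lc_f_rc_40_2 lc_f_rc_6_1 lc_f_rc_39_2 lc_f_rc_40_2 lc_f_rc_37_2 lc_f_rc_40_2 lc_f_rc_37_2 lc_f_rc_27_1 lc_f_rc_37_2 lc_f_rc_27_1 lc_f_rc_14_1 lc_f_rc_37_2 lc_f_rc_27_1 lc_f_rc_40_2 lc_f_rc_14_3 lc_f_Cert_tree lc_f_rc_38_0 lc_f_rc_40_2 lc_f_rc_40_0) (@D3.rec (fun _ => (Cert rels S Gen.f)) lc_f_rc_40_2 lc_f_rc_6_1 lc_f_rc_40_0 lc_f_rc_27_1 lc_f_rc_21_1 lc_f_rc_21_1 lc_f_Cert_tree lc_f_Cert_tree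 lc_f_rc_38_0 lc_f_Cert_tree lc_f_rc_38_0 lc_f_Cert_tree lc_f_rc_38_0 lc_f_rc_40_2 lc_f_rc_37_2 lc_f_rc_39_2 lc_f_rc_40_2 lc_f_rc_37_2 lc_f_rc_38_0 lc_f_rc_38_1 lc_f_rc_40_2 lc_f_rc_6_1 lc_f_rc_40_2 lc_f_rc_37_2 lc_f_rc_27_1 lc_f_rc_6_1 lc_f_rc_37_2 lc_f_rc_27_1 lc_f_rc_38_0 lc_f_rc_27_3 lc_f_rc_39_2 lc_f_rc_40_2)
def ce_f_8 : D2 → D3 → (Cert rels S Gen.f) := @D2.rec (fun _ => D3 → (Cert rels S Gen.f)) (@D3.rec (fun _ => (Cert rels S Gen.f)) lc_f_rc_37_2 lc_f_rc_6_1 lc_f_rc_27_1 lc_f_rc_21_1 lc_f_rc_27_1 lc_f_rc_27_1 lc_f_rc_27_1 lc_f_rc_21_1 lc_f_Cert_tree lc_f_rc_38_0 lc_f_rc_38_0 lc_f_rc_38_1 lc_f_rc_40_2 lc_f_rc_21_1 lc_f_rc_40_2 lc_f_rc_37_2 lc_f_rc_47_25 lc_f_rc_14_1 lc_f_rc_37_2 lc_f_rc_27_1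 lc_f_rc_37_2 lc_f_rc_27_1 lc_f_rc_6_1 lc_f_rc_6_1 lc_f_rc_37_2 lc_f_rc_27_1 lc_f_Cert_tree lc_f_rc_27_1 lc_f_Cert_tree lc_f_rc_21_1 lc_f_rc_38_0 lc_f_rc_40_2) (@D3.rec (fun _ => (Cert rels S Gen.f)) lc_f_Cert_tree lc_f_rc_38_0 lc_f_rc_40_2 lc_f_Cert_tree lc_f_rc_38_0 lc_f_rc_39_2 lc_f_rc_38_0 lc_f_rc_38_1 lc_f_rc_40_2 lc_f_rc_21_1 lc_f_rc_40_2 lc_f_rc_37_2 lc_f_rc_27_1 lc_f_rc_27_1 lc_f_rc_37_2 lc_f_rc_27_1 lc_f_rc_32_3 lc_f_rc_27_1 lc_f_rc_37_2 lc_f_rc_40_2 lc_f_rc_40_2 lc_f_rc_37_2 lc_f_rc_21_1 lc_f_rc_37_2 lc_f_rc_27_1 lc_f_rc_14_1 lc_f_rc_37_2 lc_f_rc_27_1 lc_f_rc_21_1 lc_f_rc_40_0 lc_f_rc_40_2 lc_f_rc_27_3) (@D3.rec (fun _ => (Cert rels S Gen.f)) lc_f_rc_27_1 lc_f_rc_21_1 lc_f_rc_6_1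 lc_f_rc_37_2 lc_f_rc_14_1 lc_f_rc_40_2 lc_f_rc_27_1 lc_f_rc_47_18 lc_f_rc_27_1 lc_f_rc_21_1 lc_f_rc_14_3 lc_f_rc_40_2 lc_f_rc_40_2 lc_f_rc_14_3 lc_f_rc_38_0 lc_f_rc_38_0 lc_f_rc_40_2 lc_f_rc_37_2 lc_f_rc_14_1 lc_f_rc_38_0 lc_f_rc_38_1 lc_f_rc_40_2 lc_f_rc_21_1 lc_f_rc_40_2 lc_f_rc_37_2 lc_f_rc_27_1 lc_f_rc_40_2 lc_f_rc_37_2 lc_f_rc_27_1 lc_f_rc_32_3 lc_f_rc_27_1 lc_f_rc_37_2) (@D3.rec (fun _ => (Cert rels S Gen.f)) lc_f_rc_40_2 lc_f_rc_40_2 lc_f_rc_37_2 lc_f_rc_21_1 lc_f_rc_37_2 lc_f_rc_27_1 lc_f_rc_21_1 lc_f_rc_37_2 lc_f_rc_27_1 lc_f_rc_6_1 lc_f_rc_32_3 lc_f_rc_27_1 lc_f_rc_40_2 lc_f_rc_37_2 lc_f_rc_37_2 lc_f_rc_32_5 lc_f_rc_27_1 lc_f_rc_37_2 lc_f_rc_27_1 lc_f_rc_39_2 lc_f_rc_27_3 lc_f_rc_37_2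 lc_f_rc_37_2 lc_f_rc_6_1 lc_f_rc_37_2 lc_f_rc_37_2 lc_f_rc_27_3 lc_f_Cert_tree lc_f_rc_40_2 lc_f_Cert_tree lc_f_rc_21_1 lc_f_rc_38_0) (@D3.rec (fun _ => (Cert rels S Gen.f)) lc_f_rc_40_2 lc_f_rc_37_2 lc_f_Cert_tree lc_f_rc_38_0 lc_f_rc_40_2 lc_f_rc_37_2 lc_f_rc_6_1 lc_f_rc_40_2 lc_f_rc_37_2 lc_f_rc_14_3 lc_f_rc_6_1 lc_f_rc_40_2 lc_f_rc_14_1 lc_f_rc_14_3 lc_f_rc_40_2 lc_f_rc_38_0 lc_f_rc_40_2 lc_f_rc_6_1 lc_f_rc_6_1 lc_f_rc_40_2 lc_f_rc_37_2 lc_f_rc_6_1 lc_f_rc_37_2 lc_f_rc_27_1 lc_f_rc_14_1 lc_f_rc_6_1 lc_f_rc_40_2 lc_f_rc_40_2 lc_f_rc_14_1 lc_f_rc_40_2 lc_f_rc_21_1 lc_f_rc_40_2) (@D3.rec (fun _ => (Cert rels S Gen.f)) lc_f_rc_37_2 lc_f_rc_40_2 lc_f_rc_37_2 lc_f_rc_27_1 lc_f_rc_37_2 lc_f_rc_27_1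 lc_f_rc_14_1 lc_f_rc_21_1 lc_f_rc_27_1 lc_f_rc_21_1 lc_f_rc_21_1 lc_f_Cert_tree lc_f_rc_14_1 lc_f_Cert_tree lc_f_rc_21_1 lc_f_rc_38_0 lc_f_rc_40_2 lc_f_rc_14_1 lc_f_Cert_tree lc_f_rc_38_0 lc_f_rc_40_2 lc_f_rc_37_2 lc_f_rc_6_3 lc_f_rc_40_2 lc_f_rc_37_2 lc_f_rc_38_0 lc_f_rc_38_1 lc_f_rc_40_2 lc_f_rc_21_1 lc_f_rc_40_2 lc_f_rc_37_2 lc_f_rc_27_1) (@D3.rec (fun _ => (Cert rels S Gen.f)) lc_f_rc_14_1 lc_f_rc_37_2 lc_f_rc_27_1 lc_f_rc_38_0 lc_f_rc_40_2 lc_f_rc_6_1 lc_f_rc_6_1 lc_f_rc_40_2 lc_f_rc_37_2 lc_f_rc_6_1 lc_f_rc_37_2 lc_f_rc_27_1 lc_f_rc_37_2 lc_f_rc_27_1 lc_f_rc_21_1 lc_f_rc_40_2 lc_f_rc_37_2 lc_f_rc_40_2 lc_f_rc_37_2 lc_f_rc_27_1 lc_f_rc_37_2 lc_f_rc_27_1 lc_f_rc_21_1 lc_f_rc_39_2 lc_f_rc_21_1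 lc_f_rc_21_1 lc_f_rc_21_1 lc_f_Cert_tree lc_f_rc_27_1 lc_f_rc_38_0 lc_f_rc_38_1 lc_f_rc_40_2) (@D3.rec (fun _ => (Cert rels S Gen.f)) lc_f_rc_39_2 lc_f_rc_40_2 lc_f_rc_37_2 lc_f_rc_27_1 lc_f_rc_40_2 lc_f_rc_37_2 lc_f_rc_27_1 lc_f_rc_32_3 lc_f_rc_27_1 lc_f_rc_37_2 lc_f_rc_40_2 lc_f_rc_40_2 lc_f_rc_37_2 lc_f_rc_21_1 lc_f_rc_37_2 lc_f_rc_27_1 lc_f_rc_38_1 lc_f_rc_37_2 lc_f_rc_27_1 lc_f_rc_21_1 lc_f_rc_37_2 lc_f_rc_27_1 lc_f_rc_21_1 lc_f_rc_39_2 lc_f_rc_21_1 lc_f_rc_32_3 lc_f_rc_14_1 lc_f_rc_45_68 lc_f_rc_21_1 lc_f_rc_32_3 lc_f_rc_37_2 lc_f_rc_21_1) (@D3.rec (fun _ => (Cert rels S Gen.f)) lc_f_rc_27_1 lc_f_rc_14_1 lc_f_rc_21_1 lc_f_rc_6_1 lc_f_rc_14_1 lc_f_Cert_tree lc_f_rc_40_2 lc_f_Cert_tree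 lc_f_rc_40_2 lc_f_rc_38_0 lc_f_rc_40_2 lc_f_rc_37_2 lc_f_rc_6_1 lc_f_rc_38_0 lc_f_rc_40_2 lc_f_rc_37_2 lc_f_rc_6_1 lc_f_rc_40_2 lc_f_rc_37_2 lc_f_rc_21_1 lc_f_rc_14_1 lc_f_rc_21_1 lc_f_rc_6_1 lc_f_rc_37_2 lc_f_rc_40_2 lc_f_rc_14_1 lc_f_rc_21_1 lc_f_rc_37_2 lc_f_rc_27_1 lc_f_rc_14_3 lc_f_rc_21_1 lc_f_rc_14_1) (@D3.rec (fun _ => (Cert rels S Gen.f)) lc_f_rc_21_1 lc_f_rc_21_1 lc_f_rc_32_3 lc_f_rc_37_2 lc_f_rc_6_1 lc_f_rc_14_1 lc_f_rc_27_1 lc_f_rc_6_1 lc_f_rc_32_3 lc_f_rc_27_1 lc_f_rc_21_1 lc_f_rc_38_0 lc_f_rc_38_1 lc_f_rc_14_1 lc_f_rc_14_1 lc_f_rc_37_2 lc_f_rc_27_1 lc_f_rc_40_2 lc_f_rc_21_1 lc_f_Cert_tree lc_f_rc_14_1 lc_f_rc_32_3 lc_f_rc_6_1 lc_f_Cert_tree lc_f_rc_21_1 lc_f_rc_38_0 lc_f_rc_40_2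 lc_f_rc_37_2 lc_f_Cert_tree lc_f_rc_38_0 lc_f_rc_40_2 lc_f_rc_37_2) (@D3.rec (fun _ => (Cert rels S Gen.f)) lc_f_rc_6_1 lc_f_rc_40_2 lc_f_rc_37_2 lc_f_rc_37_2 lc_f_rc_27_1 lc_f_rc_40_2 lc_f_rc_21_1 lc_f_Cert_tree lc_f_rc_6_1 lc_f_rc_27_1 lc_f_rc_40_2 lc_f_rc_21_1 lc_f_rc_21_1 lc_f_rc_40_2 lc_f_rc_14_1 lc_f_Cert_tree lc_f_rc_21_1 lc_f_rc_38_0 lc_f_rc_40_2 lc_f_rc_6_1 lc_f_rc_40_2 lc_f_rc_6_1 lc_f_rc_39_2 lc_f_rc_40_2 lc_f_rc_37_2 lc_f_rc_6_1 lc_f_rc_37_2 lc_f_rc_27_1 lc_f_rc_21_1 lc_f_rc_21_1 lc_f_rc_40_2 lc_f_rc_14_1) (@D3.rec (fun _ => (Cert rels S Gen.f)) lc_f_rc_21_1 lc_f_rc_37_2 lc_f_rc_6_1 lc_f_rc_14_1 lc_f_rc_21_1 lc_f_rc_27_1 lc_f_rc_40_2 lc_f_rc_32_1 lc_f_rc_21_1 lc_f_rc_40_2 lc_f_rc_14_1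 lc_f_rc_14_1 lc_f_rc_21_1 lc_f_rc_38_0 lc_f_rc_40_2 lc_f_rc_40_2 lc_f_rc_21_1 lc_f_rc_39_2 lc_f_rc_40_2 lc_f_rc_39_2 lc_f_rc_21_1 lc_f_rc_40_2 lc_f_rc_37_2 lc_f_rc_6_1 lc_f_rc_37_0 lc_f_rc_14_1 lc_f_rc_38_0 lc_f_rc_40_2 lc_f_rc_21_1 lc_f_rc_32_1 lc_f_rc_40_2 lc_f_rc_37_2) (@D3.rec (fun _ => (Cert rels S Gen.f)) lc_f_rc_14_3 lc_f_rc_40_2 lc_f_rc_37_2 lc_f_rc_27_1 lc_f_rc_37_2 lc_f_rc_27_1 lc_f_rc_21_1 lc_f_rc_21_1 lc_f_rc_14_1 lc_f_rc_37_2 lc_f_rc_39_2 lc_f_rc_40_2 lc_f_rc_47_46 lc_f_rc_6_1 lc_f_rc_14_1 lc_f_rc_27_1 lc_f_rc_14_1 lc_f_rc_40_2 lc_f_rc_37_2 lc_f_rc_6_1 lc_f_rc_38_0 lc_f_rc_38_1 lc_f_rc_27_1 lc_f_rc_21_1 lc_f_rc_14_1 lc_f_rc_37_2 lc_f_rc_27_1 lc_f_rc_40_2 lc_f_rc_21_1 lc_f_Cert_tree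 lc_f_rc_14_1 lc_f_rc_27_1) (@D3.rec (fun _ => (Cert rels S Gen.f)) lc_f_rc_40_2 lc_f_rc_21_1 lc_f_Cert_tree lc_f_rc_40_2 lc_f_rc_14_1 lc_f_Cert_tree lc_f_rc_21_1 lc_f_rc_38_0 lc_f_rc_40_2 lc_f_rc_14_1 lc_f_Cert_tree lc_f_rc_21_1 lc_f_rc_38_0 lc_f_rc_40_2 lc_f_rc_37_2 lc_f_Cert_tree lc_f_rc_38_0 lc_f_rc_40_2 lc_f_rc_37_2 lc_f_rc_39_2 lc_f_rc_40_2 lc_f_rc_37_2 lc_f_rc_38_0 lc_f_rc_38_1 lc_f_rc_40_2 lc_f_rc_21_1 lc_f_rc_40_2 lc_f_rc_37_2 lc_f_rc_27_1 lc_f_rc_14_1 lc_f_rc_37_2 lc_f_rc_27_1) (@D3.rec (fun _ => (Cert rels S Gen.f)) lc_f_rc_6_1 lc_f_rc_27_1 lc_f_rc_40_2 lc_f_rc_14_3 lc_f_rc_27_1 lc_f_rc_40_2 lc_f_rc_14_1 lc_f_Cert_tree lc_f_rc_21_1 lc_f_rc_38_0 lc_f_rc_40_2 lc_f_rc_6_1 lc_f_rc_27_1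 lc_f_rc_40_2 lc_f_rc_6_3 lc_f_rc_39_4 lc_f_rc_6_1 lc_f_rc_38_0 lc_f_rc_40_2 lc_f_rc_37_2 lc_f_rc_6_1 lc_f_Cert_tree lc_f_rc_14_1 lc_f_rc_38_0 lc_f_rc_40_2 lc_f_rc_21_1 lc_f_rc_39_2 lc_f_rc_40_2 lc_f_rc_37_2 lc_f_rc_39_2 lc_f_rc_40_2 lc_f_rc_37_2) (@D3.rec (fun _ => (Cert rels S Gen.f)) lc_f_rc_40_2 lc_f_rc_37_2 lc_f_rc_27_1 lc_f_rc_37_2 lc_f_rc_27_1 lc_f_rc_21_1 lc_f_rc_39_2 lc_f_rc_6_3 lc_f_rc_6_1 lc_f_rc_40_2 lc_f_rc_40_2 lc_f_rc_14_1 lc_f_rc_40_2 lc_f_rc_37_2 lc_f_rc_6_1 lc_f_rc_14_1 lc_f_rc_38_0 lc_f_rc_40_2 lc_f_rc_21_1 lc_f_rc_37_2 lc_f_rc_40_2 lc_f_rc_37_2 lc_f_rc_40_2 lc_f_rc_37_2 lc_f_rc_39_2 lc_f_rc_40_2 lc_f_rc_40_2 lc_f_rc_21_1 lc_f_rc_39_2 lc_f_rc_40_2 lc_f_rc_37_2 lc_f_Cert_tree)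 (@D3.rec (fun _ => (Cert rels S Gen.f)) lc_f_rc_6_1 lc_f_rc_38_0 lc_f_rc_40_2 lc_f_rc_14_1 lc_f_rc_27_1 lc_f_rc_40_2 lc_f_rc_37_2 lc_f_rc_40_2 lc_f_rc_37_2 lc_f_rc_27_1 lc_f_rc_40_2 lc_f_rc_37_2 lc_f_rc_27_1 lc_f_rc_37_2 lc_f_rc_27_1 lc_f_rc_21_1 lc_f_rc_40_2 lc_f_rc_21_1 lc_f_rc_37_2 lc_f_rc_27_1 lc_f_rc_40_2 lc_f_rc_27_1 lc_f_Cert_tree lc_f_rc_27_1 lc_f_rc_14_1 lc_f_rc_40_2 lc_f_rc_14_3 lc_f_rc_21_3 lc_f_rc_14_1 lc_f_rc_14_1 lc_f_rc_21_1 lc_f_rc_21_1) (@D3.rec (fun _ => (Cert rels S Gen.f)) lc_f_rc_14_1 lc_f_rc_27_1 lc_f_rc_14_1 lc_f_rc_6_1 lc_f_rc_21_1 lc_f_rc_27_1 lc_f_rc_40_2 lc_f_rc_6_1 lc_f_rc_27_3 lc_f_rc_37_0 lc_f_rc_6_1 lc_f_rc_14_1 lc_f_rc_14_1 lc_f_rc_6_1 lc_f_rc_6_1 lc_f_rc_14_1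 lc_f_rc_14_3 lc_f_rc_40_2 lc_f_rc_37_2 lc_f_rc_14_1 lc_f_rc_6_3 lc_f_rc_14_1 lc_f_rc_21_1 lc_f_rc_6_1 lc_f_rc_40_2 lc_f_rc_14_1 lc_f_rc_14_3 lc_f_rc_6_1 lc_f_rc_14_1 lc_f_rc_21_1 lc_f_rc_37_2 lc_f_rc_6_1) (@D3.rec (fun _ => (Cert rels S Gen.f)) lc_f_rc_14_1 lc_f_rc_27_1 lc_f_rc_6_1 lc_f_rc_37_2 lc_f_rc_37_2 lc_f_rc_39_4 lc_f_rc_40_2 lc_f_rc_27_1 lc_f_rc_6_3 lc_f_rc_40_2 lc_f_rc_6_3 lc_f_rc_21_1 lc_f_rc_27_3 lc_f_Cert_tree lc_f_rc_38_0 lc_f_rc_40_2 lc_f_rc_37_2 lc_f_rc_40_2 lc_f_rc_37_2 lc_f_rc_40_2 lc_f_rc_39_4 lc_f_rc_40_2 lc_f_rc_14_1 lc_f_rc_40_2 lc_f_rc_14_3 lc_f_rc_6_1 lc_f_rc_37_2 lc_f_rc_21_1 lc_f_rc_39_4 lc_f_rc_40_2 lc_f_rc_27_3 lc_f_rc_6_1) (@D3.rec (fun _ => (Cert rels S Gen.f))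 lc_f_rc_14_1 lc_f_rc_6_1 lc_f_rc_14_1 lc_f_rc_40_2 lc_f_rc_21_3 lc_f_rc_27_1 lc_f_rc_40_2 lc_f_rc_21_1 lc_f_rc_14_3 lc_f_rc_21_1 lc_f_rc_40_2 lc_f_rc_14_1 lc_f_rc_21_1 lc_f_rc_14_1 lc_f_rc_38_0 lc_f_rc_38_1 lc_f_rc_27_1 lc_f_rc_21_1 lc_f_rc_37_2 lc_f_rc_27_1 lc_f_rc_40_2 lc_f_rc_21_1 lc_f_Cert_tree lc_f_rc_14_1 lc_f_rc_27_1 lc_f_rc_40_2 lc_f_rc_21_1 lc_f_Cert_tree lc_f_rc_40_2 lc_f_rc_14_1 lc_f_Cert_tree lc_f_rc_21_1) (@D3.rec (fun _ => (Cert rels S Gen.f)) lc_f_rc_38_0 lc_f_rc_40_2 lc_f_rc_14_1 lc_f_Cert_tree lc_f_rc_6_1 lc_f_rc_38_0 lc_f_rc_40_2 lc_f_Cert_tree lc_f_rc_38_0 lc_f_rc_40_2 lc_f_rc_37_2 lc_f_rc_39_2 lc_f_rc_40_2 lc_f_rc_37_2 lc_f_rc_38_0 lc_f_rc_38_1 lc_f_rc_40_2 lc_f_rc_6_1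 lc_f_rc_40_2 lc_f_rc_37_2 lc_f_rc_27_1 lc_f_rc_6_1 lc_f_rc_37_2 lc_f_rc_27_1 lc_f_rc_27_1 lc_f_rc_40_2 lc_f_rc_39_4 lc_f_rc_40_2 lc_f_rc_14_1 lc_f_rc_6_1 lc_f_rc_21_1 lc_f_rc_38_0) (@D3.rec (fun _ => (Cert rels S Gen.f)) lc_f_rc_40_2 lc_f_rc_6_1 lc_f_rc_32_3 lc_f_rc_40_2 lc_f_rc_27_1 lc_f_rc_21_3 lc_f_rc_40_2 lc_f_rc_38_0 lc_f_rc_40_2 lc_f_rc_37_2 lc_f_rc_6_1 lc_f_Cert_tree lc_f_rc_14_1 lc_f_rc_38_0 lc_f_rc_40_2 lc_f_rc_21_1 lc_f_rc_39_2 lc_f_rc_40_2 lc_f_rc_37_2 lc_f_rc_39_2 lc_f_rc_40_2 lc_f_rc_40_2 lc_f_rc_37_2 lc_f_rc_27_1 lc_f_rc_6_1 lc_f_rc_27_1 lc_f_rc_21_1 lc_f_rc_40_2 lc_f_rc_14_3 lc_f_rc_6_1 lc_f_rc_14_1 lc_f_rc_27_1)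
def ce_f_9 : D2 → D3 → (Cert rels S Gen.f) := @D2.rec (fun _ => D3 → (Cert rels S Gen.f)) (@D3.rec (fun _ => (Cert rels S Gen.f)) lc_f_rc_40_2 lc_f_rc_40_2 lc_f_rc_37_2 lc_f_rc_6_1 lc_f_rc_14_1 lc_f_rc_40_2 lc_f_rc_21_1 lc_f_rc_40_2 lc_f_rc_37_2 lc_f_rc_40_2 lc_f_rc_37_2 lc_f_rc_40_2 lc_f_rc_14_1 lc_f_rc_40_2 lc_f_rc_37_2 lc_f_rc_37_0 lc_f_rc_6_1 lc_f_rc_40_2 lc_f_rc_14_1 lc_f_rc_40_2 lc_f_rc_37_2 lc_f_rc_27_1 lc_f_rc_40_2 lc_f_rc_37_2 lc_f_rc_27_1 lc_f_rc_40_2 lc_f_rc_37_2 lc_f_rc_27_1 lc_f_rc_27_1 lc_f_rc_6_1 lc_f_rc_14_1 lc_f_rc_37_0) (@D3.rec (fun _ => (Cert rels S Gen.f)) lc_f_rc_27_1 lc_f_rc_21_1 lc_f_rc_21_1 lc_f_rc_14_1 lc_f_rc_6_3 lc_f_rc_6_3 lc_f_rc_6_1 lc_f_Cert_tree lc_f_rc_21_1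 lc_f_rc_38_0 lc_f_rc_40_2 lc_f_rc_14_1 lc_f_rc_21_1 lc_f_Cert_tree lc_f_rc_38_0 lc_f_rc_40_2 lc_f_rc_37_2 lc_f_rc_40_2 lc_f_rc_38_0 lc_f_rc_38_1 lc_f_rc_40_2 lc_f_rc_21_1 lc_f_rc_40_2 lc_f_rc_37_2 lc_f_rc_27_1 lc_f_rc_14_1 lc_f_rc_37_2 lc_f_rc_27_1 lc_f_rc_6_1 lc_f_rc_6_1 lc_f_rc_6_1 lc_f_rc_21_1) (@D3.rec (fun _ => (Cert rels S Gen.f)) lc_f_Cert_tree lc_f_rc_6_1 lc_f_rc_38_0 lc_f_rc_40_2 lc_f_rc_14_3 lc_f_rc_40_2 lc_f_rc_37_2 lc_f_rc_37_2 lc_f_rc_27_1 lc_f_rc_21_1 lc_f_rc_14_1 lc_f_rc_40_2 lc_f_rc_37_2 lc_f_rc_37_2 lc_f_rc_40_2 lc_f_rc_37_2 lc_f_rc_27_1 lc_f_rc_40_2 lc_f_rc_27_1 lc_f_Cert_tree lc_f_rc_27_1 lc_f_rc_40_0 lc_f_rc_40_2 lc_f_rc_6_3 lc_f_Cert_tree lc_f_rc_6_3 lc_f_rc_14_1 lc_f_Cert_tree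 lc_f_rc_21_1 lc_f_rc_38_0 lc_f_rc_40_2 lc_f_rc_14_1) (@D3.rec (fun _ => (Cert rels S Gen.f)) lc_f_Cert_tree lc_f_rc_6_3 lc_f_rc_38_0 lc_f_rc_40_2 lc_f_rc_6_3 lc_f_rc_6_1 lc_f_Cert_tree lc_f_rc_14_1 lc_f_Cert_tree lc_f_rc_38_0 lc_f_rc_40_2 lc_f_rc_21_1 lc_f_rc_39_2 lc_f_rc_40_2 lc_f_rc_37_2 lc_f_Cert_tree lc_f_rc_38_0 lc_f_rc_40_2 lc_f_rc_37_2 lc_f_rc_39_2 lc_f_rc_40_2 lc_f_rc_37_2 lc_f_rc_38_0 lc_f_rc_38_1 lc_f_rc_40_2 lc_f_rc_21_1 lc_f_rc_40_2 lc_f_rc_37_2 lc_f_rc_27_1 lc_f_rc_40_2 lc_f_rc_37_2 lc_f_rc_27_1) (@D3.rec (fun _ => (Cert rels S Gen.f)) lc_f_rc_32_3 lc_f_rc_27_1 lc_f_rc_37_2 lc_f_rc_40_2 lc_f_rc_40_2 lc_f_rc_37_2 lc_f_rc_21_1 lc_f_rc_37_2 lc_f_rc_27_1 lc_f_rc_32_3 lc_f_rc_37_2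 lc_f_rc_27_1 lc_f_rc_21_1 lc_f_rc_38_0 lc_f_rc_14_3 lc_f_rc_6_1 lc_f_Cert_tree lc_f_rc_14_1 lc_f_rc_38_0 lc_f_rc_40_2 lc_f_rc_21_1 lc_f_rc_37_2 lc_f_rc_40_2 lc_f_rc_37_2 lc_f_rc_39_2 lc_f_rc_40_2 lc_f_rc_37_2 lc_f_Cert_tree lc_f_rc_6_1 lc_f_rc_38_0 lc_f_rc_40_2 lc_f_rc_14_1) (@D3.rec (fun _ => (Cert rels S Gen.f)) lc_f_rc_6_1 lc_f_rc_40_2 lc_f_rc_37_2 lc_f_rc_40_2 lc_f_rc_37_2 lc_f_rc_27_1 lc_f_rc_40_2 lc_f_rc_37_2 lc_f_rc_37_2 lc_f_rc_27_1 lc_f_rc_40_2 lc_f_rc_21_3 lc_f_rc_27_3 lc_f_rc_6_1 lc_f_rc_40_2 lc_f_rc_14_1 lc_f_rc_40_2 lc_f_rc_37_2 lc_f_rc_40_2 lc_f_rc_37_2 lc_f_rc_40_2 lc_f_rc_37_2 lc_f_rc_38_0 lc_f_rc_40_2 lc_f_rc_6_1 lc_f_rc_40_2 lc_f_rc_37_2 lc_f_rc_40_2 lc_f_rc_37_2 lc_f_rc_27_1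 lc_f_rc_37_2 lc_f_rc_27_1) (@D3.rec (fun _ => (Cert rels S Gen.f)) lc_f_rc_14_1 lc_f_rc_37_2 lc_f_rc_27_1 lc_f_rc_21_1 lc_f_rc_21_1 lc_f_rc_14_3 lc_f_rc_27_1 lc_f_rc_21_1 lc_f_rc_14_1 lc_f_rc_21_3 lc_f_rc_27_1 lc_f_rc_14_1 lc_f_Cert_tree lc_f_rc_27_1 lc_f_rc_38_0 lc_f_rc_40_2 lc_f_rc_37_2 lc_f_rc_6_1 lc_f_rc_14_1 lc_f_rc_6_1 lc_f_Cert_tree lc_f_rc_6_1 lc_f_Cert_tree lc_f_rc_38_0 lc_f_rc_40_2 lc_f_rc_21_1 lc_f_rc_38_0 lc_f_rc_38_1 lc_f_rc_40_2 lc_f_rc_39_2 lc_f_rc_40_2 lc_f_rc_37_2) (@D3.rec (fun _ => (Cert rels S Gen.f)) lc_f_rc_27_1 lc_f_rc_40_2 lc_f_rc_37_2 lc_f_rc_27_1 lc_f_rc_38_0 lc_f_rc_38_1 lc_f_rc_40_2 lc_f_rc_21_1 lc_f_rc_40_2 lc_f_rc_37_2 lc_f_rc_27_1 lc_f_rc_40_2 lc_f_rc_37_2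 lc_f_rc_27_1 lc_f_rc_32_3 lc_f_rc_27_1 lc_f_rc_37_2 lc_f_rc_40_2 lc_f_rc_40_2 lc_f_rc_37_2 lc_f_rc_21_1 lc_f_rc_37_2 lc_f_rc_27_1 lc_f_rc_38_1 lc_f_rc_37_2 lc_f_rc_27_1 lc_f_rc_14_3 lc_f_rc_32_3 lc_f_rc_27_1 lc_f_rc_40_2 lc_f_rc_37_2 lc_f_rc_37_2) (@D3.rec (fun _ => (Cert rels S Gen.f)) lc_f_rc_27_1 lc_f_rc_32_5 lc_f_rc_27_1 lc_f_rc_38_0 lc_f_rc_40_2 lc_f_rc_6_1 lc_f_rc_6_3 lc_f_rc_40_2 lc_f_rc_37_2 lc_f_rc_6_1 lc_f_rc_37_2 lc_f_rc_27_1 lc_f_rc_37_2 lc_f_rc_27_1 lc_f_rc_14_3 lc_f_rc_37_2 lc_f_rc_27_1 lc_f_rc_40_2 lc_f_rc_40_2 lc_f_rc_39_2 lc_f_rc_40_2 lc_f_rc_37_2 lc_f_rc_40_2 lc_f_rc_37_2 lc_f_rc_27_1 lc_f_rc_37_2 lc_f_rc_27_1 lc_f_rc_14_1 lc_f_rc_38_0 lc_f_rc_14_1 lc_f_rc_27_1 lc_f_Cert_tree)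 (@D3.rec (fun _ => (Cert rels S Gen.f)) lc_f_rc_27_1 lc_f_Cert_tree lc_f_rc_38_0 lc_f_Cert_tree lc_f_rc_38_0 lc_f_rc_27_3 lc_f_Cert_tree lc_f_rc_38_0 lc_f_rc_39_2 lc_f_rc_38_0 lc_f_rc_38_1 lc_f_rc_40_2 lc_f_rc_21_1 lc_f_rc_40_2 lc_f_rc_37_2 lc_f_rc_27_1 lc_f_rc_40_2 lc_f_rc_37_2 lc_f_rc_32_3 lc_f_rc_6_1 lc_f_rc_37_2 lc_f_rc_40_2 lc_f_rc_6_1 lc_f_rc_37_2 lc_f_rc_6_1 lc_f_rc_27_1 lc_f_rc_27_1 lc_f_rc_40_0 lc_f_rc_6_3 lc_f_rc_27_1 lc_f_rc_38_0 lc_f_rc_38_1) (@D3.rec (fun _ => (Cert rels S Gen.f)) lc_f_rc_32_3 lc_f_rc_27_1 lc_f_rc_37_2 lc_f_rc_40_2 lc_f_rc_21_1 lc_f_rc_37_2 lc_f_rc_37_2 lc_f_rc_27_1 lc_f_rc_21_3 lc_f_rc_32_1 lc_f_Cert_tree lc_f_rc_27_1 lc_f_rc_38_0 lc_f_rc_40_2 lc_f_rc_37_2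 lc_f_Cert_tree lc_f_rc_38_0 lc_f_rc_40_2 lc_f_rc_40_0 lc_f_rc_40_2 lc_f_rc_38_0 lc_f_rc_38_1 lc_f_rc_6_3 lc_f_rc_38_0 lc_f_rc_38_1 lc_f_rc_21_1 lc_f_rc_32_3 lc_f_rc_27_1 lc_f_rc_37_2 lc_f_rc_40_2 lc_f_rc_40_2 lc_f_rc_37_2) (@D3.rec (fun _ => (Cert rels S Gen.f)) lc_f_rc_37_0 lc_f_rc_37_2 lc_f_rc_27_1 lc_f_rc_6_3 lc_f_rc_27_3 lc_f_rc_27_1 lc_f_rc_21_1 lc_f_rc_32_3 lc_f_rc_27_1 lc_f_rc_40_2 lc_f_rc_37_2 lc_f_rc_37_2 lc_f_rc_27_1 lc_f_rc_21_1 lc_f_rc_37_2 lc_f_rc_38_1 lc_f_Cert_tree lc_f_rc_40_2 lc_f_rc_27_1 lc_f_rc_14_3 lc_f_rc_37_2 lc_f_rc_32_1 lc_f_rc_37_2 lc_f_rc_14_3 lc_f_rc_40_2 lc_f_rc_37_2 lc_f_rc_32_3 lc_f_rc_27_1 lc_f_rc_37_2 lc_f_rc_40_2 lc_f_rc_40_2 lc_f_rc_37_2) (@D3.rec (fun _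 => (Cert rels S Gen.f)) lc_f_rc_21_1 lc_f_rc_37_2 lc_f_rc_27_1 lc_f_rc_14_3 lc_f_rc_37_2 lc_f_rc_27_1 lc_f_rc_21_1 lc_f_rc_32_3 lc_f_rc_27_1 lc_f_rc_40_2 lc_f_rc_37_2 lc_f_rc_37_2 lc_f_rc_46_26 lc_f_rc_37_2 lc_f_rc_27_1 lc_f_rc_14_3 lc_f_rc_21_1 lc_f_rc_6_1 lc_f_rc_37_2 lc_f_rc_37_2 lc_f_rc_39_2 lc_f_rc_39_2 lc_f_rc_6_1 lc_f_rc_6_1 lc_f_rc_37_2 lc_f_rc_39_0 lc_f_rc_40_2 lc_f_rc_14_1 lc_f_Cert_tree lc_f_rc_40_2 lc_f_rc_38_0 lc_f_rc_40_2) (@D3.rec (fun _ => (Cert rels S Gen.f)) lc_f_rc_6_1 lc_f_Cert_tree lc_f_rc_38_0 lc_f_rc_40_2 lc_f_rc_37_2 lc_f_rc_39_2 lc_f_rc_40_2 lc_f_rc_37_2 lc_f_rc_38_0 lc_f_rc_38_1 lc_f_rc_40_2 lc_f_rc_6_1 lc_f_rc_40_2 lc_f_rc_37_2 lc_f_rc_27_1 lc_f_rc_6_1 lc_f_rc_37_2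 lc_f_rc_27_1 lc_f_rc_27_3 lc_f_rc_40_2 lc_f_rc_40_2 lc_f_rc_6_1 lc_f_rc_27_3 lc_f_rc_14_1 lc_f_rc_40_2 lc_f_rc_6_1 lc_f_rc_40_2 lc_f_rc_37_2 lc_f_rc_40_2 lc_f_rc_37_2 lc_f_rc_27_1 lc_f_rc_6_1) (@D3.rec (fun _ => (Cert rels S Gen.f)) lc_f_rc_27_1 lc_f_rc_21_1 lc_f_rc_14_1 lc_f_rc_6_1 lc_f_rc_14_3 lc_f_rc_14_3 lc_f_rc_14_3 lc_f_rc_21_1 lc_f_rc_37_2 lc_f_rc_27_1 lc_f_rc_37_2 lc_f_rc_27_1 lc_f_rc_21_1 lc_f_rc_32_3 lc_f_rc_27_1 lc_f_Cert_tree lc_f_rc_27_1 lc_f_Cert_tree lc_f_rc_21_1 lc_f_rc_38_0 lc_f_rc_40_2 lc_f_rc_14_1 lc_f_Cert_tree lc_f_rc_38_0 lc_f_rc_40_2 lc_f_rc_21_1 lc_f_rc_6_3 lc_f_rc_40_2 lc_f_rc_37_2 lc_f_rc_38_0 lc_f_rc_38_1 lc_f_rc_40_2) (@D3.rec (fun _ => (Cert rels S Gen.f)) lc_f_rc_21_1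 lc_f_rc_40_2 lc_f_rc_37_2 lc_f_rc_27_1 lc_f_rc_6_3 lc_f_rc_37_2 lc_f_rc_27_1 lc_f_rc_32_3 lc_f_rc_27_1 lc_f_rc_37_2 lc_f_rc_40_2 lc_f_rc_40_2 lc_f_rc_37_2 lc_f_rc_21_1 lc_f_rc_37_2 lc_f_rc_27_1 lc_f_rc_37_2 lc_f_rc_37_2 lc_f_rc_27_1 lc_f_rc_21_1 lc_f_rc_40_2 lc_f_rc_37_2 lc_f_rc_6_1 lc_f_rc_37_2 lc_f_rc_27_1 lc_f_rc_37_2 lc_f_rc_27_1 lc_f_rc_21_1 lc_f_rc_39_2 lc_f_rc_21_1 lc_f_rc_6_1 lc_f_rc_14_1) (@D3.rec (fun _ => (Cert rels S Gen.f)) lc_f_rc_37_2 lc_f_rc_27_1 lc_f_rc_14_3 lc_f_rc_27_1 lc_f_rc_21_1 lc_f_rc_21_1 lc_f_rc_21_1 lc_f_rc_27_1 lc_f_rc_37_0 lc_f_rc_27_3 lc_f_rc_38_0 lc_f_rc_40_2 lc_f_rc_27_1 lc_f_rc_32_3 lc_f_rc_32_3 lc_f_rc_37_2 lc_f_rc_40_2 lc_f_rc_40_2 lc_f_rc_37_2 lc_f_rc_40_2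 lc_f_rc_37_2 lc_f_rc_27_1 lc_f_rc_37_2 lc_f_rc_14_1 lc_f_rc_27_1 lc_f_rc_21_1 lc_f_rc_32_3 lc_f_rc_27_1 lc_f_rc_40_2 lc_f_rc_37_2 lc_f_rc_37_2 lc_f_rc_27_1) (@D3.rec (fun _ => (Cert rels S Gen.f)) lc_f_rc_37_2 lc_f_rc_27_1 lc_f_rc_21_1 lc_f_rc_37_2 lc_f_rc_39_2 lc_f_rc_21_1 lc_f_rc_32_3 lc_f_rc_6_1 lc_f_rc_21_1 lc_f_rc_21_1 lc_f_rc_32_3 lc_f_rc_14_1 lc_f_rc_21_1 lc_f_rc_6_1 lc_f_rc_14_1 lc_f_rc_21_1 lc_f_rc_45_59 lc_f_rc_37_2 lc_f_rc_47_53 lc_f_rc_6_1 lc_f_rc_38_0 lc_f_rc_40_2 lc_f_rc_37_2 lc_f_rc_38_0 lc_f_rc_14_1 lc_f_rc_40_2 lc_f_rc_6_1 lc_f_rc_40_2 lc_f_rc_6_1 lc_f_rc_6_1 lc_f_rc_37_2 lc_f_rc_21_1) (@D3.rec (fun _ => (Cert rels S Gen.f)) lc_f_rc_6_1 lc_f_rc_14_1 lc_f_rc_21_1 lc_f_rc_21_1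 lc_f_rc_14_1 lc_f_rc_21_1 lc_f_rc_21_1 lc_f_rc_6_1 lc_f_rc_27_1 lc_f_rc_21_1 lc_f_rc_37_2 lc_f_rc_27_1 lc_f_rc_40_2 lc_f_rc_21_1 lc_f_Cert_tree lc_f_rc_14_1 lc_f_rc_27_1 lc_f_rc_40_2 lc_f_rc_21_1 lc_f_rc_21_3 lc_f_rc_40_2 lc_f_rc_14_1 lc_f_Cert_tree lc_f_rc_21_1 lc_f_rc_38_0 lc_f_rc_40_2 lc_f_rc_14_1 lc_f_rc_40_2 lc_f_rc_6_1 lc_f_Cert_tree lc_f_rc_38_0 lc_f_rc_40_2) (@D3.rec (fun _ => (Cert rels S Gen.f)) lc_f_rc_37_2 lc_f_rc_39_2 lc_f_rc_40_2 lc_f_rc_37_2 lc_f_rc_38_0 lc_f_rc_6_1 lc_f_rc_40_2 lc_f_rc_6_1 lc_f_rc_37_2 lc_f_rc_27_1 lc_f_rc_40_2 lc_f_rc_32_1 lc_f_rc_21_1 lc_f_rc_40_2 lc_f_rc_14_1 lc_f_rc_39_2 lc_f_rc_21_1 lc_f_rc_38_0 lc_f_rc_40_2 lc_f_rc_6_1 lc_f_rc_21_1 lc_f_rc_39_2 lc_f_rc_40_2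 lc_f_rc_14_1 lc_f_rc_21_1 lc_f_rc_40_2 lc_f_rc_37_2 lc_f_rc_6_1 lc_f_Cert_tree lc_f_rc_14_1 lc_f_rc_38_0 lc_f_rc_40_2) (@D3.rec (fun _ => (Cert rels S Gen.f)) lc_f_rc_21_1 lc_f_rc_6_1 lc_f_rc_40_2 lc_f_rc_37_2 lc_f_rc_14_3 lc_f_rc_40_2 lc_f_rc_37_2 lc_f_rc_27_1 lc_f_rc_6_1 lc_f_rc_27_1 lc_f_rc_14_1 lc_f_rc_21_1 lc_f_rc_6_1 lc_f_rc_37_2 lc_f_rc_39_2 lc_f_rc_14_1 lc_f_rc_32_3 lc_f_rc_6_1 lc_f_rc_14_1 lc_f_rc_27_1 lc_f_rc_40_2 lc_f_rc_40_2 lc_f_rc_40_2 lc_f_rc_37_2 lc_f_rc_6_1 lc_f_rc_14_1 lc_f_rc_40_2 lc_f_rc_21_1 lc_f_rc_40_2 lc_f_rc_37_2 lc_f_rc_21_1 lc_f_rc_40_2) (@D3.rec (fun _ => (Cert rels S Gen.f)) lc_f_rc_37_2 lc_f_rc_39_2 lc_f_rc_40_2 lc_f_rc_37_2 lc_f_rc_14_3 lc_f_rc_37_0 lc_f_rc_6_1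 lc_f_rc_40_2 lc_f_rc_14_1 lc_f_rc_40_2 lc_f_rc_37_2 lc_f_rc_27_1 lc_f_rc_40_2 lc_f_rc_37_2 lc_f_rc_27_1 lc_f_rc_14_3 lc_f_rc_27_1 lc_f_rc_21_1 lc_f_rc_21_1 lc_f_rc_40_2 lc_f_rc_27_1 lc_f_rc_6_1 lc_f_rc_14_1 lc_f_rc_37_0 lc_f_rc_14_1 lc_f_rc_21_1 lc_f_rc_37_2 lc_f_rc_27_1 lc_f_rc_40_2 lc_f_rc_27_1 lc_f_Cert_tree lc_f_rc_27_1)
def ce_f_10 : D2 → D3 → (Cert rels S Gen.f) := @D2.rec (fun _ => D3 → (Cert rels S Gen.f)) (@D3.rec (fun _ => (Cert rels S Gen.f)) lc_f_rc_14_1 lc_f_rc_27_1 lc_f_rc_40_2 lc_f_rc_21_1 lc_f_rc_6_3 lc_f_rc_40_2 lc_f_rc_14_1 lc_f_Cert_tree lc_f_rc_21_1 lc_f_rc_38_0 lc_f_rc_40_2 lc_f_rc_14_1 lc_f_rc_21_1 lc_f_rc_6_3 lc_f_rc_40_2 lc_f_rc_6_3 lc_f_Cert_tree lc_f_rc_21_1 lc_f_rc_38_0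 lc_f_rc_40_2 lc_f_rc_37_2 lc_f_rc_6_1 lc_f_Cert_tree lc_f_rc_14_1 lc_f_Cert_tree lc_f_rc_38_0 lc_f_rc_40_2 lc_f_rc_21_1 lc_f_rc_39_2 lc_f_rc_40_2 lc_f_rc_37_2 lc_f_Cert_tree) (@D3.rec (fun _ => (Cert rels S Gen.f)) lc_f_rc_38_0 lc_f_rc_40_2 lc_f_rc_37_2 lc_f_rc_39_2 lc_f_rc_40_2 lc_f_rc_37_2 lc_f_rc_38_0 lc_f_rc_38_1 lc_f_rc_40_2 lc_f_rc_21_1 lc_f_rc_40_2 lc_f_rc_37_2 lc_f_rc_27_1 lc_f_rc_40_2 lc_f_rc_37_2 lc_f_rc_27_1 lc_f_rc_21_1 lc_f_rc_27_1 lc_f_rc_37_2 lc_f_rc_40_2 lc_f_rc_21_1 lc_f_rc_37_2 lc_f_rc_37_2 lc_f_rc_27_1 lc_f_rc_6_1 lc_f_rc_40_2 lc_f_rc_21_3 lc_f_rc_21_1 lc_f_rc_40_2 lc_f_rc_37_2 lc_f_rc_6_1 lc_f_Cert_tree) (@D3.rec (fun _ => (Cert rels S Gen.f)) lc_f_rc_14_1 lc_f_rc_38_0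 lc_f_rc_40_2 lc_f_rc_21_1 lc_f_rc_37_2 lc_f_rc_40_2 lc_f_rc_37_2 lc_f_rc_40_2 lc_f_rc_37_2 lc_f_rc_39_2 lc_f_rc_6_1 lc_f_rc_6_3 lc_f_rc_6_1 lc_f_rc_21_1 lc_f_rc_39_2 lc_f_rc_40_2 lc_f_rc_37_2 lc_f_Cert_tree lc_f_rc_6_1 lc_f_rc_38_0 lc_f_rc_40_2 lc_f_rc_14_1 lc_f_rc_21_1 lc_f_rc_40_2 lc_f_rc_37_2 lc_f_rc_40_2 lc_f_rc_37_2 lc_f_rc_27_1 lc_f_rc_40_2 lc_f_rc_37_2 lc_f_rc_27_1 lc_f_rc_37_2) (@D3.rec (fun _ => (Cert rels S Gen.f)) lc_f_rc_27_1 lc_f_rc_21_1 lc_f_rc_40_2 lc_f_rc_37_2 lc_f_rc_14_1 lc_f_rc_14_3 lc_f_rc_6_1 lc_f_rc_14_1 lc_f_rc_40_2 lc_f_rc_37_2 lc_f_rc_40_2 lc_f_rc_37_2 lc_f_rc_27_1 lc_f_rc_14_3 lc_f_rc_6_1 lc_f_rc_21_3 lc_f_rc_14_1 lc_f_rc_40_2 lc_f_rc_37_2 lc_f_rc_27_1 lc_f_rc_38_0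 lc_f_rc_40_2 lc_f_rc_6_1 lc_f_rc_40_2 lc_f_rc_37_2 lc_f_rc_40_2 lc_f_rc_37_2 lc_f_rc_27_1 lc_f_rc_37_2 lc_f_rc_27_1 lc_f_rc_21_1 lc_f_rc_27_1) (@D3.rec (fun _ => (Cert rels S Gen.f)) lc_f_rc_21_1 lc_f_rc_21_1 lc_f_rc_37_0 lc_f_rc_27_1 lc_f_rc_40_2 lc_f_rc_21_1 lc_f_Cert_tree lc_f_rc_40_2 lc_f_rc_14_1 lc_f_rc_6_1 lc_f_rc_27_1 lc_f_rc_38_0 lc_f_rc_40_2 lc_f_rc_37_2 lc_f_rc_14_1 lc_f_rc_6_1 lc_f_rc_14_1 lc_f_rc_21_1 lc_f_rc_37_0 lc_f_rc_6_1 lc_f_rc_21_1 lc_f_rc_14_1 lc_f_rc_27_1 lc_f_rc_21_1 lc_f_rc_27_1 lc_f_rc_27_3 lc_f_rc_6_1 lc_f_rc_14_1 lc_f_rc_6_1 lc_f_rc_21_1 lc_f_rc_6_1 lc_f_rc_14_1) (@D3.rec (fun _ => (Cert rels S Gen.f)) lc_f_rc_21_1 lc_f_rc_6_1 lc_f_rc_6_1 lc_f_rc_6_1 lc_f_rc_6_1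 lc_f_rc_37_2 lc_f_rc_40_2 lc_f_rc_39_4 lc_f_rc_40_2 lc_f_rc_14_1 lc_f_rc_14_1 lc_f_rc_40_2 lc_f_rc_21_3 lc_f_rc_6_1 lc_f_rc_27_1 lc_f_rc_37_2 lc_f_rc_38_0 lc_f_rc_40_2 lc_f_rc_37_2 lc_f_rc_6_1 lc_f_rc_39_4 lc_f_rc_40_2 lc_f_rc_27_3 lc_f_rc_6_1 lc_f_rc_14_1 lc_f_rc_6_1 lc_f_rc_21_1 lc_f_rc_40_2 lc_f_rc_32_3 lc_f_rc_40_2 lc_f_rc_14_1 lc_f_rc_6_1) (@D3.rec (fun _ => (Cert rels S Gen.f)) lc_f_rc_14_1 lc_f_rc_40_2 lc_f_rc_14_1 lc_f_rc_21_1 lc_f_rc_27_1 lc_f_rc_14_3 lc_f_rc_27_1 lc_f_rc_27_3 lc_f_rc_37_2 lc_f_rc_27_1 lc_f_rc_40_2 lc_f_rc_27_1 lc_f_Cert_tree lc_f_rc_27_1 lc_f_rc_27_1 lc_f_rc_40_2 lc_f_rc_21_1 lc_f_rc_40_2 lc_f_rc_14_1 lc_f_Cert_tree lc_f_rc_21_1 lc_f_rc_38_0 lc_f_rc_40_2 lc_f_rc_14_1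 lc_f_rc_21_1 lc_f_rc_32_3 lc_f_rc_40_2 lc_f_rc_6_1 lc_f_Cert_tree lc_f_rc_21_1 lc_f_rc_38_0 lc_f_rc_40_2) (@D3.rec (fun _ => (Cert rels S Gen.f)) lc_f_rc_37_2 lc_f_rc_6_1 lc_f_Cert_tree lc_f_rc_14_1 lc_f_Cert_tree lc_f_rc_38_0 lc_f_rc_40_2 lc_f_rc_21_1 lc_f_rc_39_2 lc_f_rc_40_2 lc_f_rc_37_2 lc_f_Cert_tree lc_f_rc_38_0 lc_f_rc_40_2 lc_f_rc_39_2 lc_f_rc_40_2 lc_f_rc_38_0 lc_f_rc_38_1 lc_f_rc_40_2 lc_f_rc_21_1 lc_f_rc_40_2 lc_f_rc_37_2 lc_f_rc_27_1 lc_f_rc_40_2 lc_f_rc_37_2 lc_f_rc_27_1 lc_f_rc_32_3 lc_f_rc_6_1 lc_f_rc_37_2 lc_f_rc_40_2 lc_f_rc_6_1 lc_f_rc_37_2) (@D3.rec (fun _ => (Cert rels S Gen.f)) lc_f_rc_6_1 lc_f_rc_27_1 lc_f_rc_40_2 lc_f_rc_39_4 lc_f_rc_40_2 lc_f_rc_37_2 lc_f_rc_6_1 lc_f_rc_6_1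 lc_f_rc_14_1 lc_f_rc_6_1 lc_f_rc_21_1 lc_f_rc_40_2 lc_f_rc_37_2 lc_f_rc_40_2 lc_f_rc_37_2 lc_f_rc_21_3 lc_f_rc_40_2 lc_f_rc_40_2 lc_f_rc_14_3 lc_f_rc_40_2 lc_f_rc_37_2 lc_f_rc_37_0 lc_f_rc_6_1 lc_f_rc_38_0 lc_f_rc_40_2 lc_f_rc_14_1 lc_f_rc_40_2 lc_f_rc_37_2 lc_f_rc_27_1 lc_f_rc_40_2 lc_f_rc_37_2 lc_f_rc_27_1) (@D3.rec (fun _ => (Cert rels S Gen.f)) lc_f_rc_40_2 lc_f_rc_37_2 lc_f_rc_27_1 lc_f_rc_6_1 lc_f_rc_27_1 lc_f_rc_6_1 lc_f_rc_14_1 lc_f_rc_37_0 lc_f_rc_37_2 lc_f_rc_37_2 lc_f_rc_6_1 lc_f_rc_14_1 lc_f_rc_14_1 lc_f_rc_27_1 lc_f_rc_37_2 lc_f_rc_32_3 lc_f_rc_21_3 lc_f_rc_27_1 lc_f_rc_37_2 lc_f_rc_40_2 lc_f_rc_6_1 lc_f_rc_40_0 lc_f_rc_14_1 lc_f_rc_37_2 lc_f_rc_27_1 lc_f_rc_32_3 lc_f_rc_14_3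 lc_f_rc_27_1 lc_f_rc_21_1 lc_f_rc_6_1 lc_f_rc_27_1 lc_f_rc_6_3) (@D3.rec (fun _ => (Cert rels S Gen.f)) lc_f_rc_27_1 lc_f_rc_6_1 lc_f_rc_21_1 lc_f_rc_14_1 lc_f_rc_6_3 lc_f_rc_21_3 lc_f_Cert_tree lc_f_rc_6_1 lc_f_Cert_tree lc_f_rc_38_0 lc_f_rc_40_2 lc_f_rc_21_1 lc_f_rc_40_2 lc_f_rc_37_2 lc_f_rc_38_0 lc_f_rc_38_1 lc_f_rc_40_2 lc_f_rc_40_2 lc_f_rc_27_1 lc_f_rc_21_1 lc_f_rc_27_1 lc_f_rc_37_2 lc_f_rc_40_2 lc_f_rc_21_1 lc_f_rc_37_2 lc_f_rc_37_2 lc_f_rc_27_1 lc_f_rc_14_1 lc_f_rc_21_1 lc_f_rc_38_0 lc_f_rc_40_2 lc_f_rc_21_3) (@D3.rec (fun _ => (Cert rels S Gen.f)) lc_f_rc_40_2 lc_f_rc_37_2 lc_f_rc_37_2 lc_f_rc_37_2 lc_f_rc_27_1 lc_f_rc_27_1 lc_f_rc_40_2 lc_f_rc_6_3 lc_f_rc_21_3 lc_f_rc_40_2 lc_f_rc_14_1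 lc_f_Cert_tree lc_f_rc_27_1 lc_f_rc_38_0 lc_f_rc_40_2 lc_f_rc_37_2 lc_f_Cert_tree lc_f_rc_14_1 lc_f_rc_38_0 lc_f_rc_21_3 lc_f_rc_6_1 lc_f_Cert_tree lc_f_rc_14_1 lc_f_Cert_tree lc_f_rc_38_0 lc_f_rc_40_2 lc_f_rc_21_1 lc_f_rc_37_2 lc_f_rc_40_2 lc_f_rc_37_2 lc_f_Cert_tree lc_f_rc_38_0) (@D3.rec (fun _ => (Cert rels S Gen.f)) lc_f_rc_40_2 lc_f_rc_6_3 lc_f_rc_39_2 lc_f_rc_40_2 lc_f_rc_37_2 lc_f_Cert_tree lc_f_rc_6_1 lc_f_Cert_tree lc_f_rc_38_0 lc_f_rc_40_2 lc_f_rc_14_1 lc_f_rc_38_0 lc_f_rc_38_1 lc_f_rc_40_2 lc_f_rc_21_1 lc_f_rc_40_2 lc_f_rc_37_2 lc_f_rc_27_1 lc_f_rc_40_2 lc_f_rc_37_2 lc_f_rc_27_1 lc_f_rc_38_0 lc_f_rc_38_1 lc_f_rc_40_2 lc_f_rc_21_1 lc_f_rc_40_2 lc_f_rc_37_2 lc_f_rc_39_2 lc_f_rc_40_2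 lc_f_rc_37_2 lc_f_rc_32_3 lc_f_rc_27_1) (@D3.rec (fun _ => (Cert rels S Gen.f)) lc_f_rc_37_2 lc_f_rc_40_2 lc_f_rc_40_2 lc_f_rc_37_2 lc_f_rc_21_1 lc_f_rc_37_2 lc_f_rc_27_1 lc_f_rc_27_3 lc_f_rc_37_2 lc_f_rc_27_1 lc_f_rc_21_1 lc_f_rc_32_3 lc_f_rc_27_1 lc_f_rc_40_2 lc_f_rc_37_2 lc_f_rc_37_2 lc_f_rc_27_1 lc_f_rc_21_1 lc_f_rc_14_1 lc_f_rc_6_1 lc_f_rc_38_0 lc_f_rc_40_2 lc_f_rc_14_1 lc_f_rc_40_2 lc_f_rc_37_2 lc_f_rc_40_2 lc_f_rc_37_2 lc_f_rc_40_2 lc_f_rc_37_2 lc_f_rc_38_0 lc_f_rc_40_2 lc_f_rc_6_1) (@D3.rec (fun _ => (Cert rels S Gen.f)) lc_f_rc_14_1 lc_f_rc_40_2 lc_f_rc_37_2 lc_f_rc_6_1 lc_f_rc_37_2 lc_f_rc_27_1 lc_f_rc_37_2 lc_f_rc_27_1 lc_f_rc_21_1 lc_f_rc_37_2 lc_f_rc_40_2 lc_f_rc_40_2 lc_f_rc_6_1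 lc_f_rc_14_3 lc_f_rc_37_2 lc_f_rc_27_1 lc_f_rc_40_2 lc_f_rc_37_2 lc_f_rc_40_2 lc_f_rc_37_2 lc_f_rc_37_2 lc_f_rc_27_1 lc_f_rc_14_1 lc_f_rc_27_1 lc_f_rc_45_59 lc_f_Cert_tree lc_f_rc_21_1 lc_f_rc_27_1 lc_f_rc_21_1 lc_f_rc_27_1 lc_f_rc_32_1 lc_f_rc_37_2) (@D3.rec (fun _ => (Cert rels S Gen.f)) lc_f_rc_6_1 lc_f_Cert_tree lc_f_rc_14_1 lc_f_rc_38_0 lc_f_rc_40_2 lc_f_rc_37_2 lc_f_rc_27_1 lc_f_rc_40_2 lc_f_rc_37_2 lc_f_rc_6_1 lc_f_Cert_tree lc_f_rc_38_0 lc_f_rc_40_2 lc_f_rc_6_1 lc_f_rc_38_0 lc_f_rc_38_1 lc_f_rc_40_2 lc_f_rc_21_1 lc_f_rc_40_2 lc_f_rc_37_2 lc_f_rc_27_1 lc_f_rc_27_3 lc_f_rc_32_3 lc_f_rc_37_2 lc_f_rc_40_2 lc_f_rc_40_2 lc_f_rc_37_2 lc_f_rc_40_2 lc_f_rc_37_2 lc_f_rc_27_1 lc_f_Cert_tree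 lc_f_rc_14_1) (@D3.rec (fun _ => (Cert rels S Gen.f)) lc_f_rc_27_1 lc_f_rc_14_3 lc_f_rc_14_3 lc_f_rc_27_1 lc_f_rc_37_2 lc_f_rc_40_2 lc_f_rc_40_2 lc_f_rc_37_2 lc_f_rc_21_1 lc_f_rc_37_2 lc_f_rc_27_1 lc_f_rc_39_2 lc_f_rc_37_2 lc_f_rc_27_1 lc_f_rc_21_1 lc_f_rc_32_3 lc_f_rc_27_1 lc_f_rc_40_2 lc_f_rc_37_2 lc_f_rc_37_2 lc_f_rc_27_1 lc_f_rc_37_2 lc_f_rc_27_1 lc_f_rc_21_1 lc_f_rc_32_1 lc_f_rc_6_1 lc_f_rc_32_3 lc_f_rc_37_2 lc_f_rc_37_2 lc_f_rc_27_1 lc_f_rc_39_2 lc_f_rc_39_2) (@D3.rec (fun _ => (Cert rels S Gen.f)) lc_f_rc_40_2 lc_f_rc_37_2 lc_f_rc_6_3 lc_f_rc_37_2 lc_f_rc_27_1 lc_f_rc_37_2 lc_f_rc_27_1 lc_f_rc_14_3 lc_f_rc_6_1 lc_f_rc_40_2 lc_f_rc_6_1 lc_f_rc_37_2 lc_f_rc_27_1 lc_f_rc_37_2 lc_f_rc_27_1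 lc_f_rc_32_3 lc_f_rc_32_3 lc_f_rc_46_12 lc_f_rc_6_3 lc_f_rc_38_0 lc_f_rc_40_2 lc_f_rc_37_2 lc_f_Cert_tree lc_f_rc_38_0 lc_f_rc_27_1 lc_f_rc_38_0 lc_f_rc_38_1 lc_f_rc_37_0 lc_f_rc_38_0 lc_f_rc_38_1 lc_f_rc_21_1 lc_f_rc_32_3) (@D3.rec (fun _ => (Cert rels S Gen.f)) lc_f_rc_27_1 lc_f_rc_37_2 lc_f_rc_40_2 lc_f_rc_40_2 lc_f_rc_21_3 lc_f_rc_6_1 lc_f_rc_37_2 lc_f_rc_27_1 lc_f_rc_14_1 lc_f_rc_40_0 lc_f_rc_32_3 lc_f_rc_6_1 lc_f_rc_6_1 lc_f_rc_6_3 lc_f_rc_37_2 lc_f_rc_37_2 lc_f_rc_40_2 lc_f_rc_37_2 lc_f_rc_27_3 lc_f_rc_37_2 lc_f_Cert_tree lc_f_rc_38_0 lc_f_rc_40_2 lc_f_rc_37_2 lc_f_rc_6_1 lc_f_rc_40_2 lc_f_rc_37_2 lc_f_rc_38_0 lc_f_rc_38_1 lc_f_rc_40_2 lc_f_rc_6_3 lc_f_rc_40_2) (@D3.rec (fun _ =>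 (Cert rels S Gen.f)) lc_f_rc_37_2 lc_f_rc_32_3 lc_f_rc_21_3 lc_f_rc_37_2 lc_f_rc_40_2 lc_f_rc_32_3 lc_f_rc_27_1 lc_f_rc_37_2 lc_f_rc_40_2 lc_f_rc_32_3 lc_f_rc_6_1 lc_f_rc_40_2 lc_f_rc_37_2 lc_f_rc_37_2 lc_f_rc_14_1 lc_f_rc_27_3 lc_f_rc_27_1 lc_f_rc_21_1 lc_f_rc_21_3 lc_f_rc_21_1 lc_f_rc_14_1 lc_f_rc_39_2 lc_f_rc_38_0 lc_f_rc_40_2 lc_f_rc_37_2 lc_f_rc_37_2 lc_f_rc_14_3 lc_f_rc_38_0 lc_f_rc_39_2 lc_f_rc_37_2 lc_f_rc_27_1 lc_f_rc_32_3) (@D3.rec (fun _ => (Cert rels S Gen.f)) lc_f_rc_27_1 lc_f_rc_40_2 lc_f_rc_37_2 lc_f_rc_37_2 lc_f_rc_27_1 lc_f_rc_37_2 lc_f_rc_27_1 lc_f_rc_21_1 lc_f_rc_14_3 lc_f_rc_21_1 lc_f_rc_6_1 lc_f_rc_37_2 lc_f_rc_37_2 lc_f_rc_39_0 lc_f_rc_27_1 lc_f_rc_6_1 lc_f_rc_37_2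 lc_f_Cert_tree lc_f_rc_6_1 lc_f_rc_6_3 lc_f_rc_6_3 lc_f_rc_40_2 lc_f_rc_14_1 lc_f_rc_6_1 lc_f_rc_6_3 lc_f_rc_14_1 lc_f_Cert_tree lc_f_rc_38_0 lc_f_rc_40_2 lc_f_rc_6_1 lc_f_rc_40_2 lc_f_rc_37_2) (@D3.rec (fun _ => (Cert rels S Gen.f)) lc_f_rc_38_0 lc_f_rc_38_1 lc_f_rc_40_2 lc_f_rc_21_1 lc_f_rc_40_2 lc_f_rc_37_2 lc_f_rc_27_1 lc_f_rc_40_2 lc_f_rc_37_2 lc_f_rc_27_1 lc_f_rc_32_3 lc_f_rc_6_1 lc_f_rc_37_2 lc_f_rc_40_2 lc_f_rc_6_1 lc_f_rc_37_2 lc_f_rc_6_1 lc_f_rc_27_1 lc_f_rc_40_2 lc_f_rc_14_3 lc_f_rc_21_1 lc_f_rc_40_2 lc_f_rc_14_1 lc_f_rc_14_3 lc_f_rc_6_1 lc_f_rc_37_2 lc_f_rc_27_1 lc_f_rc_37_2 lc_f_rc_27_1 lc_f_rc_21_1 lc_f_rc_14_1 lc_f_Cert_tree)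
def ce_f_11 : D2 → D3 → (Cert rels S Gen.f) := @D2.rec (fun _ => D3 → (Cert rels S Gen.f)) (@D3.rec (fun _ => (Cert rels S Gen.f)) lc_f_rc_27_1 lc_f_rc_27_1 lc_f_rc_27_1 lc_f_Cert_tree lc_f_rc_27_1 lc_f_rc_21_1 lc_f_rc_32_1 lc_f_Cert_tree lc_f_rc_27_1 lc_f_rc_38_0 lc_f_rc_40_2 lc_f_rc_27_1 lc_f_Cert_tree lc_f_rc_38_0 lc_f_rc_40_2 lc_f_rc_21_1 lc_f_rc_40_2 lc_f_rc_37_2 lc_f_rc_38_0 lc_f_rc_38_1 lc_f_rc_40_2 lc_f_rc_14_1 lc_f_rc_40_2 lc_f_rc_37_2 lc_f_rc_21_1 lc_f_rc_14_1 lc_f_rc_37_2 lc_f_rc_27_1 lc_f_rc_32_3 lc_f_rc_21_3 lc_f_rc_37_2 lc_f_rc_40_2) (@D3.rec (fun _ => (Cert rels S Gen.f)) lc_f_rc_40_2 lc_f_rc_37_2 lc_f_rc_21_1 lc_f_rc_37_2 lc_f_rc_27_1 lc_f_rc_37_2 lc_f_rc_37_2 lc_f_rc_27_1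 lc_f_rc_21_1 lc_f_rc_32_3 lc_f_rc_27_1 lc_f_rc_40_2 lc_f_rc_37_2 lc_f_rc_37_2 lc_f_rc_27_1 lc_f_rc_39_2 lc_f_rc_21_1 lc_f_rc_32_3 lc_f_rc_37_2 lc_f_rc_27_1 lc_f_rc_21_1 lc_f_rc_27_1 lc_f_rc_21_1 lc_f_rc_21_1 lc_f_rc_21_1 lc_f_rc_32_3 lc_f_rc_14_1 lc_f_rc_14_1 lc_f_rc_27_1 lc_f_rc_21_1 lc_f_rc_21_1 lc_f_rc_14_3) (@D3.rec (fun _ => (Cert rels S Gen.f)) lc_f_rc_27_1 lc_f_rc_37_0 lc_f_rc_39_2 lc_f_rc_40_2 lc_f_rc_37_2 lc_f_rc_32_3 lc_f_rc_40_2 lc_f_rc_40_2 lc_f_rc_37_2 lc_f_rc_37_2 lc_f_rc_27_1 lc_f_rc_14_3 lc_f_rc_27_1 lc_f_rc_21_1 lc_f_rc_14_3 lc_f_rc_14_1 lc_f_rc_21_1 lc_f_rc_32_3 lc_f_rc_14_1 lc_f_rc_32_3 lc_f_rc_37_2 lc_f_rc_37_2 lc_f_rc_27_1 lc_f_rc_39_2 lc_f_rc_21_1 lc_f_rc_6_3 lc_f_rc_14_1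 lc_f_rc_37_2 lc_f_rc_40_2 lc_f_rc_27_1 lc_f_rc_14_1 lc_f_rc_14_1) (@D3.rec (fun _ => (Cert rels S Gen.f)) lc_f_rc_6_1 lc_f_rc_14_1 lc_f_rc_21_1 lc_f_rc_27_1 lc_f_Cert_tree lc_f_rc_27_1 lc_f_rc_27_1 lc_f_rc_40_2 lc_f_rc_21_1 lc_f_rc_27_1 lc_f_rc_40_2 lc_f_rc_14_1 lc_f_Cert_tree lc_f_rc_21_1 lc_f_rc_38_0 lc_f_rc_40_2 lc_f_rc_14_1 lc_f_rc_21_1 lc_f_rc_39_2 lc_f_rc_40_2 lc_f_rc_14_1 lc_f_rc_38_0 lc_f_rc_21_1 lc_f_rc_40_2 lc_f_rc_37_2 lc_f_rc_6_1 lc_f_Cert_tree lc_f_rc_14_1 lc_f_Cert_tree lc_f_rc_38_0 lc_f_rc_40_2 lc_f_rc_21_1) (@D3.rec (fun _ => (Cert rels S Gen.f)) lc_f_rc_6_3 lc_f_rc_40_2 lc_f_rc_37_2 lc_f_rc_6_3 lc_f_rc_38_0 lc_f_rc_38_1 lc_f_rc_40_2 lc_f_rc_6_3 lc_f_rc_40_2 lc_f_rc_37_2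 lc_f_rc_40_2 lc_f_rc_37_2 lc_f_rc_27_1 lc_f_rc_6_1 lc_f_rc_6_1 lc_f_rc_6_1 lc_f_rc_6_1 lc_f_rc_40_2 lc_f_rc_32_1 lc_f_rc_40_2 lc_f_rc_40_2 lc_f_rc_37_2 lc_f_rc_6_1 lc_f_rc_39_2 lc_f_rc_14_1 lc_f_rc_40_2 lc_f_rc_21_1 lc_f_rc_40_2 lc_f_rc_37_2 lc_f_rc_14_1 lc_f_rc_21_1 lc_f_rc_40_2) (@D3.rec (fun _ => (Cert rels S Gen.f)) lc_f_rc_37_2 lc_f_rc_39_2 lc_f_rc_14_1 lc_f_rc_37_2 lc_f_rc_14_3 lc_f_rc_37_0 lc_f_rc_6_1 lc_f_rc_38_0 lc_f_rc_40_2 lc_f_rc_14_1 lc_f_rc_40_2 lc_f_rc_37_2 lc_f_rc_27_1 lc_f_rc_6_1 lc_f_rc_37_2 lc_f_rc_27_1 lc_f_rc_14_3 lc_f_rc_27_1 lc_f_rc_21_1 lc_f_rc_32_3 lc_f_rc_14_1 lc_f_rc_40_2 lc_f_rc_14_1 lc_f_rc_27_1 lc_f_rc_6_1 lc_f_rc_14_1 lc_f_rc_37_0 lc_f_rc_37_2 lc_f_rc_32_1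 lc_f_rc_21_1 lc_f_rc_6_1 lc_f_rc_14_1) (@D3.rec (fun _ => (Cert rels S Gen.f)) lc_f_rc_14_1 lc_f_rc_27_1 lc_f_rc_37_2 lc_f_rc_27_1 lc_f_rc_37_2 lc_f_rc_37_2 lc_f_rc_40_2 lc_f_rc_14_1 lc_f_rc_14_3 lc_f_rc_14_3 lc_f_rc_40_2 lc_f_rc_6_1 lc_f_rc_40_0 lc_f_rc_14_1 lc_f_rc_37_2 lc_f_rc_27_3 lc_f_rc_14_3 lc_f_rc_27_1 lc_f_rc_21_1 lc_f_rc_27_1 lc_f_rc_27_1 lc_f_rc_6_1 lc_f_rc_27_1 lc_f_rc_40_2 lc_f_rc_21_1 lc_f_rc_40_2 lc_f_rc_14_1 lc_f_Cert_tree lc_f_rc_27_1 lc_f_rc_38_0 lc_f_rc_40_2 lc_f_rc_37_2) (@D3.rec (fun _ => (Cert rels S Gen.f)) lc_f_rc_14_1 lc_f_rc_21_1 lc_f_rc_40_2 lc_f_rc_6_1 lc_f_rc_38_0 lc_f_rc_21_1 lc_f_rc_40_2 lc_f_rc_37_2 lc_f_rc_6_1 lc_f_Cert_tree lc_f_rc_14_1 lc_f_Cert_tree lc_f_rc_38_0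 lc_f_rc_40_2 lc_f_rc_21_1 lc_f_rc_37_2 lc_f_rc_40_2 lc_f_rc_37_2 lc_f_rc_38_0 lc_f_rc_21_1 lc_f_rc_40_2 lc_f_rc_37_2 lc_f_rc_39_2 lc_f_rc_39_4 lc_f_rc_6_3 lc_f_Cert_tree lc_f_rc_38_0 lc_f_rc_40_2 lc_f_rc_37_2 lc_f_rc_39_2 lc_f_rc_40_2 lc_f_rc_37_2) (@D3.rec (fun _ => (Cert rels S Gen.f)) lc_f_Cert_tree lc_f_rc_6_1 lc_f_Cert_tree lc_f_rc_38_0 lc_f_rc_40_2 lc_f_rc_14_1 lc_f_rc_38_0 lc_f_rc_38_1 lc_f_rc_40_2 lc_f_rc_21_1 lc_f_rc_40_2 lc_f_rc_37_2 lc_f_rc_27_1 lc_f_rc_40_2 lc_f_rc_37_2 lc_f_rc_27_1 lc_f_rc_38_0 lc_f_rc_40_2 lc_f_rc_21_1 lc_f_rc_40_2 lc_f_rc_37_2 lc_f_rc_40_2 lc_f_rc_37_2 lc_f_rc_27_1 lc_f_rc_27_1 lc_f_rc_27_1 lc_f_rc_37_2 lc_f_rc_40_2 lc_f_rc_40_2 lc_f_rc_37_2 lc_f_rc_21_1 lc_f_rc_37_2)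 (@D3.rec (fun _ => (Cert rels S Gen.f)) lc_f_rc_27_1 lc_f_rc_6_1 lc_f_rc_37_2 lc_f_rc_27_1 lc_f_rc_21_1 lc_f_rc_21_1 lc_f_rc_27_1 lc_f_rc_37_2 lc_f_rc_37_2 lc_f_rc_6_1 lc_f_rc_14_3 lc_f_rc_14_3 lc_f_rc_6_1 lc_f_rc_38_0 lc_f_rc_40_2 lc_f_rc_14_1 lc_f_rc_40_2 lc_f_rc_37_2 lc_f_rc_40_2 lc_f_rc_37_2 lc_f_rc_27_1 lc_f_rc_14_3 lc_f_rc_40_2 lc_f_rc_40_2 lc_f_rc_21_3 lc_f_rc_21_3 lc_f_rc_40_2 lc_f_rc_37_2 lc_f_rc_27_1 lc_f_rc_38_0 lc_f_rc_40_2 lc_f_rc_6_1) (@D3.rec (fun _ => (Cert rels S Gen.f)) lc_f_rc_14_1 lc_f_rc_40_2 lc_f_rc_37_2 lc_f_rc_40_2 lc_f_rc_37_2 lc_f_rc_27_1 lc_f_rc_37_2 lc_f_rc_27_1 lc_f_rc_21_1 lc_f_rc_27_1 lc_f_rc_21_1 lc_f_rc_21_1 lc_f_rc_14_1 lc_f_rc_27_1 lc_f_rc_6_1 lc_f_rc_37_2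 lc_f_rc_27_1 lc_f_rc_40_2 lc_f_rc_27_1 lc_f_rc_21_1 lc_f_rc_27_1 lc_f_rc_27_1 lc_f_rc_27_1 lc_f_rc_37_2 lc_f_rc_27_1 lc_f_rc_21_1 lc_f_rc_40_2 lc_f_rc_37_2 lc_f_rc_37_2 lc_f_rc_14_3 lc_f_rc_14_1 lc_f_rc_27_1) (@D3.rec (fun _ => (Cert rels S Gen.f)) lc_f_rc_14_1 lc_f_rc_21_1 lc_f_rc_32_1 lc_f_rc_21_1 lc_f_rc_32_3 lc_f_rc_37_0 lc_f_rc_40_2 lc_f_rc_27_1 lc_f_Cert_tree lc_f_rc_27_1 lc_f_rc_38_0 lc_f_rc_40_2 lc_f_rc_37_2 lc_f_rc_6_1 lc_f_rc_14_1 lc_f_rc_14_1 lc_f_rc_39_0 lc_f_rc_37_2 lc_f_rc_47_39 lc_f_rc_40_2 lc_f_rc_37_2 lc_f_rc_37_0 lc_f_rc_6_1 lc_f_rc_27_1 lc_f_rc_21_1 lc_f_rc_6_1 lc_f_rc_14_1 lc_f_rc_37_0 lc_f_rc_6_1 lc_f_rc_40_2 lc_f_rc_6_1 lc_f_rc_39_4) (@D3.rec (fun _ => (Cert rels S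 Gen.f)) lc_f_rc_40_2 lc_f_rc_21_3 lc_f_rc_27_1 lc_f_rc_14_1 lc_f_rc_27_1 lc_f_rc_6_3 lc_f_rc_6_1 lc_f_rc_6_3 lc_f_rc_40_2 lc_f_rc_6_1 lc_f_rc_40_2 lc_f_rc_37_2 lc_f_rc_40_2 lc_f_rc_14_1 lc_f_rc_6_1 lc_f_rc_37_2 lc_f_rc_32_3 lc_f_rc_6_1 lc_f_rc_14_1 lc_f_rc_6_1 lc_f_rc_27_1 lc_f_rc_14_3 lc_f_rc_27_1 lc_f_rc_27_1 lc_f_rc_27_1 lc_f_rc_40_2 lc_f_rc_21_1 lc_f_rc_21_3 lc_f_rc_40_2 lc_f_rc_14_1 lc_f_Cert_tree lc_f_rc_27_1) (@D3.rec (fun _ => (Cert rels S Gen.f)) lc_f_rc_38_0 lc_f_rc_40_2 lc_f_rc_37_2 lc_f_rc_21_1 lc_f_rc_40_2 lc_f_rc_39_4 lc_f_rc_21_1 lc_f_rc_37_2 lc_f_rc_6_1 lc_f_rc_6_1 lc_f_rc_14_1 lc_f_Cert_tree lc_f_rc_38_0 lc_f_rc_40_2 lc_f_rc_21_1 lc_f_rc_40_2 lc_f_rc_37_2 lc_f_rc_32_3 lc_f_rc_21_1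 lc_f_rc_40_2 lc_f_rc_37_2 lc_f_rc_27_3 lc_f_rc_40_2 lc_f_Cert_tree lc_f_rc_38_0 lc_f_rc_40_2 lc_f_rc_37_2 lc_f_rc_40_2 lc_f_rc_37_2 lc_f_rc_37_0 lc_f_rc_6_1 lc_f_Cert_tree) (@D3.rec (fun _ => (Cert rels S Gen.f)) lc_f_rc_38_0 lc_f_rc_40_2 lc_f_rc_14_1 lc_f_rc_38_0 lc_f_rc_38_1 lc_f_rc_40_2 lc_f_rc_39_2 lc_f_rc_40_2 lc_f_rc_37_2 lc_f_rc_27_1 lc_f_rc_40_2 lc_f_rc_37_2 lc_f_rc_27_1 lc_f_rc_38_0 lc_f_rc_38_1 lc_f_rc_40_2 lc_f_rc_21_1 lc_f_rc_40_2 lc_f_rc_40_2 lc_f_rc_32_3 lc_f_rc_27_1 lc_f_rc_37_2 lc_f_rc_40_2 lc_f_rc_40_2 lc_f_rc_37_2 lc_f_rc_21_1 lc_f_rc_37_2 lc_f_rc_27_1 lc_f_rc_39_4 lc_f_rc_37_2 lc_f_rc_27_1 lc_f_rc_21_1) (@D3.rec (fun _ => (Cert rels S Gen.f)) lc_f_rc_32_3 lc_f_rc_6_1 lc_f_rc_6_1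 lc_f_rc_37_2 lc_f_rc_40_2 lc_f_rc_37_2 lc_f_rc_6_1 lc_f_rc_6_1 lc_f_rc_14_1 lc_f_rc_14_3 lc_f_rc_27_1 lc_f_rc_37_2 lc_f_rc_32_3 lc_f_rc_40_2 lc_f_rc_6_1 lc_f_rc_21_3 lc_f_rc_27_1 lc_f_rc_37_2 lc_f_rc_40_2 lc_f_rc_6_1 lc_f_rc_40_2 lc_f_rc_37_2 lc_f_rc_14_1 lc_f_rc_37_2 lc_f_rc_27_1 lc_f_rc_32_3 lc_f_rc_14_3 lc_f_rc_27_1 lc_f_rc_27_1 lc_f_rc_21_1 lc_f_rc_6_1 lc_f_rc_21_1) (@D3.rec (fun _ => (Cert rels S Gen.f)) lc_f_rc_38_1 lc_f_rc_27_1 lc_f_rc_6_1 lc_f_rc_14_1 lc_f_rc_27_1 lc_f_rc_27_1 lc_f_rc_21_1 lc_f_rc_40_0 lc_f_rc_6_1 lc_f_rc_14_3 lc_f_rc_27_1 lc_f_rc_6_1 lc_f_rc_27_1 lc_f_rc_27_1 lc_f_rc_21_3 lc_f_rc_27_1 lc_f_rc_6_1 lc_f_rc_21_1 lc_f_rc_14_1 lc_f_Cert_tree lc_f_rc_38_0 lc_f_rc_40_2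 lc_f_rc_6_1 lc_f_rc_38_0 lc_f_rc_38_1 lc_f_rc_40_2 lc_f_rc_40_2 lc_f_rc_37_2 lc_f_rc_21_1 lc_f_rc_37_2 lc_f_rc_27_1 lc_f_rc_37_2) (@D3.rec (fun _ => (Cert rels S Gen.f)) lc_f_rc_40_2 lc_f_rc_40_2 lc_f_rc_37_2 lc_f_rc_39_4 lc_f_rc_21_1 lc_f_rc_21_1 lc_f_rc_21_1 lc_f_rc_37_2 lc_f_rc_27_1 lc_f_rc_37_2 lc_f_rc_6_1 lc_f_rc_40_2 lc_f_rc_37_2 lc_f_rc_37_2 lc_f_rc_27_1 lc_f_rc_27_1 lc_f_rc_40_2 lc_f_rc_32_1 lc_f_rc_6_3 lc_f_rc_21_3 lc_f_rc_37_2 lc_f_rc_6_1 lc_f_Cert_tree lc_f_rc_14_1 lc_f_Cert_tree lc_f_rc_38_0 lc_f_rc_40_2 lc_f_rc_37_2 lc_f_rc_6_1 lc_f_rc_40_2 lc_f_rc_37_2 lc_f_Cert_tree) (@D3.rec (fun _ => (Cert rels S Gen.f)) lc_f_rc_38_0 lc_f_rc_6_3 lc_f_rc_14_1 lc_f_rc_6_1 lc_f_Cert_tree lc_f_rc_38_0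 lc_f_rc_40_2 lc_f_rc_14_1 lc_f_rc_38_0 lc_f_rc_38_1 lc_f_rc_40_2 lc_f_rc_37_2 lc_f_rc_40_2 lc_f_rc_37_2 lc_f_rc_27_1 lc_f_rc_40_2 lc_f_rc_37_2 lc_f_rc_38_0 lc_f_rc_38_1 lc_f_rc_40_2 lc_f_rc_21_1 lc_f_rc_40_2 lc_f_rc_37_2 lc_f_rc_27_1 lc_f_rc_40_2 lc_f_rc_37_2 lc_f_Cert_tree lc_f_rc_38_0 lc_f_rc_40_2 lc_f_rc_6_1 lc_f_rc_38_0 lc_f_rc_38_1) (@D3.rec (fun _ => (Cert rels S Gen.f)) lc_f_rc_40_2 lc_f_rc_6_1 lc_f_rc_40_2 lc_f_rc_37_2 lc_f_rc_14_1 lc_f_rc_32_3 lc_f_rc_27_1 lc_f_rc_37_2 lc_f_rc_40_2 lc_f_rc_40_2 lc_f_rc_37_2 lc_f_rc_21_1 lc_f_rc_37_2 lc_f_rc_27_1 lc_f_Cert_tree lc_f_rc_37_2 lc_f_rc_27_1 lc_f_rc_21_1 lc_f_rc_21_3 lc_f_rc_27_1 lc_f_rc_37_2 lc_f_rc_40_2 lc_f_rc_40_2 lc_f_rc_37_2 lc_f_rc_21_1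 lc_f_rc_37_2 lc_f_rc_27_1 lc_f_rc_32_3 lc_f_rc_37_2 lc_f_rc_32_3 lc_f_rc_27_1 lc_f_rc_40_2) (@D3.rec (fun _ => (Cert rels S Gen.f)) lc_f_rc_37_2 lc_f_rc_37_2 lc_f_rc_27_1 lc_f_rc_37_2 lc_f_rc_27_1 lc_f_rc_21_1 lc_f_rc_21_3 lc_f_rc_21_1 lc_f_rc_40_2 lc_f_rc_32_3 lc_f_rc_37_2 lc_f_rc_39_2 lc_f_rc_14_1 lc_f_rc_6_1 lc_f_rc_40_2 lc_f_rc_37_2 lc_f_rc_37_2 lc_f_rc_27_1 lc_f_rc_40_2 lc_f_rc_37_2 lc_f_rc_40_2 lc_f_rc_37_2 lc_f_rc_6_1 lc_f_rc_37_2 lc_f_rc_27_1 lc_f_rc_14_3 lc_f_rc_27_1 lc_f_rc_14_3 lc_f_rc_6_1 lc_f_rc_21_1 lc_f_rc_27_1 lc_f_rc_27_1) (@D3.rec (fun _ => (Cert rels S Gen.f)) lc_f_rc_37_2 lc_f_rc_27_1 lc_f_rc_27_1 lc_f_rc_32_3 lc_f_rc_38_0 lc_f_rc_40_2 lc_f_rc_37_2 lc_f_rc_37_2 lc_f_rc_21_1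 lc_f_rc_32_1 lc_f_Cert_tree lc_f_rc_6_1 lc_f_rc_38_0 lc_f_rc_40_2 lc_f_rc_14_1 lc_f_rc_39_2 lc_f_rc_40_2 lc_f_rc_37_2 lc_f_rc_39_2 lc_f_rc_37_2 lc_f_rc_27_1 lc_f_rc_38_0 lc_f_rc_38_1 lc_f_rc_40_2 lc_f_rc_21_1 lc_f_rc_40_2 lc_f_rc_37_2 lc_f_rc_46_33 lc_f_rc_21_3 lc_f_rc_37_2 lc_f_rc_40_2 lc_f_rc_40_2)
def ce_f_12 : D2 → D3 → (Cert rels S Gen.f) := @D2.rec (fun _ => D3 → (Cert rels S Gen.f)) (@D3.rec (fun _ => (Cert rels S Gen.f)) lc_f_rc_37_2 lc_f_rc_21_1 lc_f_rc_37_2 lc_f_rc_27_1 lc_f_Cert_tree lc_f_rc_40_2 lc_f_rc_40_2 lc_f_rc_40_2 lc_f_rc_37_2 lc_f_rc_37_2 lc_f_rc_27_1 lc_f_rc_14_3 lc_f_rc_27_1 lc_f_rc_27_1 lc_f_Cert_tree lc_f_rc_38_0 lc_f_rc_6_1 lc_f_rc_40_2 lc_f_rc_27_1 lc_f_rc_40_2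 lc_f_rc_37_2 lc_f_rc_37_2 lc_f_rc_27_1 lc_f_rc_37_2 lc_f_rc_27_1 lc_f_rc_21_1 lc_f_rc_39_2 lc_f_rc_21_1 lc_f_rc_21_1 lc_f_rc_32_3 lc_f_rc_37_2 lc_f_rc_37_2) (@D3.rec (fun _ => (Cert rels S Gen.f)) lc_f_rc_27_1 lc_f_rc_39_0 lc_f_rc_21_1 lc_f_rc_32_1 lc_f_rc_27_1 lc_f_rc_21_3 lc_f_rc_27_1 lc_f_rc_40_2 lc_f_rc_37_2 lc_f_rc_27_1 lc_f_rc_37_2 lc_f_rc_27_1 lc_f_rc_21_1 lc_f_rc_32_3 lc_f_rc_6_1 lc_f_rc_37_2 lc_f_rc_27_1 lc_f_rc_6_3 lc_f_rc_40_2 lc_f_rc_37_2 lc_f_rc_38_0 lc_f_rc_38_1 lc_f_rc_32_1 lc_f_rc_32_3 lc_f_rc_6_1 lc_f_rc_37_2 lc_f_rc_40_2 lc_f_rc_32_3 lc_f_rc_27_1 lc_f_rc_37_2 lc_f_rc_40_2 lc_f_rc_40_2) (@D3.rec (fun _ => (Cert rels S Gen.f)) lc_f_rc_37_2 lc_f_rc_21_3 lc_f_rc_46_26 lc_f_rc_27_1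 lc_f_rc_21_3 lc_f_rc_6_3 lc_f_rc_40_2 lc_f_rc_37_2 lc_f_rc_38_0 lc_f_rc_38_1 lc_f_rc_40_2 lc_f_rc_40_2 lc_f_rc_37_2 lc_f_rc_27_3 lc_f_rc_37_2 lc_f_rc_27_1 lc_f_rc_32_3 lc_f_rc_32_3 lc_f_rc_37_2 lc_f_rc_40_2 lc_f_rc_40_2 lc_f_rc_37_2 lc_f_rc_21_1 lc_f_rc_40_2 lc_f_rc_40_2 lc_f_rc_37_2 lc_f_rc_21_3 lc_f_rc_37_2 lc_f_rc_38_1 lc_f_rc_21_1 lc_f_rc_38_0 lc_f_rc_32_1) (@D3.rec (fun _ => (Cert rels S Gen.f)) lc_f_rc_40_2 lc_f_rc_45_14 lc_f_rc_27_1 lc_f_rc_14_3 lc_f_rc_27_1 lc_f_rc_21_1 lc_f_rc_32_3 lc_f_rc_37_2 lc_f_rc_37_2 lc_f_rc_27_1 lc_f_rc_27_1 lc_f_rc_27_1 lc_f_rc_21_1 lc_f_rc_6_1 lc_f_rc_6_1 lc_f_rc_38_1 lc_f_Cert_tree lc_f_rc_40_2 lc_f_rc_38_0 lc_f_rc_40_2 lc_f_rc_6_1 lc_f_rc_40_2 lc_f_rc_27_1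 lc_f_rc_40_2 lc_f_rc_6_1 lc_f_rc_21_3 lc_f_rc_38_1 lc_f_rc_40_2 lc_f_rc_14_1 lc_f_rc_38_0 lc_f_rc_38_1 lc_f_rc_40_2) (@D3.rec (fun _ => (Cert rels S Gen.f)) lc_f_rc_40_2 lc_f_rc_37_2 lc_f_rc_6_1 lc_f_rc_37_2 lc_f_rc_27_1 lc_f_rc_32_3 lc_f_rc_21_3 lc_f_rc_37_2 lc_f_rc_40_2 lc_f_rc_40_2 lc_f_rc_37_2 lc_f_rc_21_1 lc_f_rc_37_2 lc_f_rc_27_1 lc_f_rc_6_1 lc_f_rc_37_2 lc_f_rc_27_1 lc_f_rc_21_1 lc_f_rc_32_3 lc_f_rc_6_1 lc_f_rc_6_1 lc_f_rc_6_3 lc_f_rc_27_1 lc_f_rc_27_1 lc_f_rc_6_3 lc_f_rc_14_1 lc_f_rc_27_1 lc_f_Cert_tree lc_f_rc_27_1 lc_f_rc_21_1 lc_f_rc_21_3 lc_f_rc_14_1) (@D3.rec (fun _ => (Cert rels S Gen.f)) lc_f_rc_6_1 lc_f_rc_38_0 lc_f_rc_32_3 lc_f_rc_21_1 lc_f_rc_21_1 lc_f_rc_32_3 lc_f_rc_38_0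 lc_f_Cert_tree lc_f_rc_38_0 lc_f_rc_40_2 lc_f_rc_27_3 lc_f_rc_39_2 lc_f_rc_40_2 lc_f_rc_37_2 lc_f_rc_38_0 lc_f_rc_38_1 lc_f_rc_40_2 lc_f_rc_40_2 lc_f_rc_37_2 lc_f_rc_21_1 lc_f_rc_37_2 lc_f_rc_27_1 lc_f_rc_32_3 lc_f_rc_6_3 lc_f_rc_37_2 lc_f_rc_40_2 lc_f_rc_40_2 lc_f_rc_37_2 lc_f_rc_14_1 lc_f_rc_37_2 lc_f_rc_27_1 lc_f_Cert_tree) (@D3.rec (fun _ => (Cert rels S Gen.f)) lc_f_rc_6_3 lc_f_rc_27_1 lc_f_rc_21_1 lc_f_rc_32_3 lc_f_rc_21_3 lc_f_rc_40_2 lc_f_rc_37_2 lc_f_rc_37_2 lc_f_rc_27_1 lc_f_rc_37_2 lc_f_rc_27_1 lc_f_rc_21_1 lc_f_rc_38_1 lc_f_rc_27_1 lc_f_rc_21_1 lc_f_rc_27_1 lc_f_rc_14_1 lc_f_rc_32_3 lc_f_rc_37_2 lc_f_rc_39_2 lc_f_rc_37_2 lc_f_rc_21_1 lc_f_rc_21_1 lc_f_rc_27_1 lc_f_rc_21_1 lc_f_rc_21_1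 lc_f_rc_27_1 lc_f_rc_14_1 lc_f_rc_14_1 lc_f_rc_38_1 lc_f_rc_27_1 lc_f_rc_39_2) (@D3.rec (fun _ => (Cert rels S Gen.f)) lc_f_rc_37_2 lc_f_rc_27_1 lc_f_rc_32_3 lc_f_rc_14_3 lc_f_rc_37_2 lc_f_rc_27_1 lc_f_rc_27_1 lc_f_rc_21_1 lc_f_rc_14_3 lc_f_rc_14_3 lc_f_rc_21_1 lc_f_rc_6_3 lc_f_rc_14_1 lc_f_rc_21_1 lc_f_rc_14_1 lc_f_rc_37_2 lc_f_rc_27_1 lc_f_rc_27_1 lc_f_rc_14_1 lc_f_Cert_tree lc_f_rc_27_1 lc_f_rc_38_0 lc_f_rc_40_2 lc_f_rc_37_2 lc_f_rc_21_1 lc_f_rc_40_2 lc_f_rc_32_1 lc_f_rc_14_1 lc_f_rc_21_1 lc_f_rc_40_2 lc_f_rc_37_2 lc_f_rc_6_1) (@D3.rec (fun _ => (Cert rels S Gen.f)) lc_f_rc_39_2 lc_f_rc_14_1 lc_f_Cert_tree lc_f_rc_38_0 lc_f_rc_40_2 lc_f_rc_21_1 lc_f_rc_40_2 lc_f_rc_37_2 lc_f_rc_14_1 lc_f_rc_39_2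 lc_f_rc_21_1 lc_f_rc_40_2 lc_f_rc_37_2 lc_f_rc_39_2 lc_f_rc_14_1 lc_f_rc_40_2 lc_f_rc_37_2 lc_f_rc_21_3 lc_f_rc_37_0 lc_f_rc_6_1 lc_f_Cert_tree lc_f_rc_38_0 lc_f_rc_40_2 lc_f_rc_14_1 lc_f_rc_38_0 lc_f_rc_38_1 lc_f_rc_40_2 lc_f_rc_6_3 lc_f_rc_40_2 lc_f_rc_37_2 lc_f_rc_27_1 lc_f_rc_6_3) (@D3.rec (fun _ => (Cert rels S Gen.f)) lc_f_rc_37_2 lc_f_rc_27_1 lc_f_rc_6_3 lc_f_rc_32_3 lc_f_rc_6_3 lc_f_rc_37_2 lc_f_rc_40_2 lc_f_rc_40_2 lc_f_rc_37_2 lc_f_rc_21_1 lc_f_rc_46_12 lc_f_rc_27_1 lc_f_rc_21_1 lc_f_rc_37_2 lc_f_rc_40_2 lc_f_rc_32_1 lc_f_rc_21_1 lc_f_rc_6_1 lc_f_rc_40_2 lc_f_rc_14_1 lc_f_rc_14_3 lc_f_rc_27_1 lc_f_rc_37_2 lc_f_rc_27_1 lc_f_rc_14_1 lc_f_rc_37_2 lc_f_rc_37_2 lc_f_rc_40_2 lc_f_rc_14_1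 lc_f_rc_27_1 lc_f_rc_6_1 lc_f_rc_40_2) (@D3.rec (fun _ => (Cert rels S Gen.f)) lc_f_rc_6_1 lc_f_rc_40_2 lc_f_rc_37_2 lc_f_rc_14_1 lc_f_rc_37_2 lc_f_rc_27_3 lc_f_rc_14_3 lc_f_rc_27_1 lc_f_rc_21_1 lc_f_rc_32_3 lc_f_rc_27_1 lc_f_rc_37_0 lc_f_rc_6_1 lc_f_rc_21_1 lc_f_rc_37_0 lc_f_rc_27_1 lc_f_rc_27_1 lc_f_rc_6_1 lc_f_rc_14_1 lc_f_rc_14_1 lc_f_rc_27_1 lc_f_rc_14_1 lc_f_rc_27_1 lc_f_rc_37_2 lc_f_rc_27_1 lc_f_rc_40_0 lc_f_rc_6_1 lc_f_rc_27_1 lc_f_rc_6_1 lc_f_rc_21_1 lc_f_rc_40_2 lc_f_rc_27_1) (@D3.rec (fun _ => (Cert rels S Gen.f)) lc_f_rc_21_1 lc_f_rc_37_2 lc_f_rc_6_1 lc_f_rc_37_0 lc_f_rc_14_1 lc_f_Cert_tree lc_f_rc_38_0 lc_f_rc_40_2 lc_f_rc_37_2 lc_f_rc_39_2 lc_f_rc_40_2 lc_f_rc_37_2 lc_f_rc_21_1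 lc_f_rc_37_2 lc_f_rc_14_1 lc_f_rc_27_1 lc_f_rc_40_2 lc_f_rc_37_2 lc_f_rc_6_3 lc_f_rc_6_1 lc_f_Cert_tree lc_f_rc_38_0 lc_f_rc_40_2 lc_f_rc_14_1 lc_f_rc_38_0 lc_f_rc_38_1 lc_f_rc_40_2 lc_f_rc_37_2 lc_f_rc_40_2 lc_f_rc_37_2 lc_f_rc_27_1 lc_f_rc_40_2) (@D3.rec (fun _ => (Cert rels S Gen.f)) lc_f_rc_37_2 lc_f_rc_27_1 lc_f_rc_27_1 lc_f_rc_40_2 lc_f_rc_37_2 lc_f_rc_6_3 lc_f_rc_40_2 lc_f_rc_27_1 lc_f_rc_21_1 lc_f_rc_14_1 lc_f_rc_38_0 lc_f_rc_40_2 lc_f_rc_21_1 lc_f_rc_40_2 lc_f_rc_37_2 lc_f_rc_27_1 lc_f_rc_40_2 lc_f_rc_37_2 lc_f_rc_27_1 lc_f_Cert_tree lc_f_rc_38_0 lc_f_rc_40_2 lc_f_rc_6_1 lc_f_rc_38_0 lc_f_rc_38_1 lc_f_rc_40_2 lc_f_rc_14_1 lc_f_rc_40_2 lc_f_rc_37_2 lc_f_rc_14_1 lc_f_rc_27_1 lc_f_rc_27_1)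 (@D3.rec (fun _ => (Cert rels S Gen.f)) lc_f_rc_37_2 lc_f_rc_40_2 lc_f_rc_40_2 lc_f_rc_37_2 lc_f_rc_21_1 lc_f_rc_37_2 lc_f_rc_27_1 lc_f_Cert_tree lc_f_rc_37_2 lc_f_rc_27_1 lc_f_rc_21_1 lc_f_rc_27_1 lc_f_rc_40_2 lc_f_rc_37_2 lc_f_rc_21_1 lc_f_rc_37_2 lc_f_rc_27_1 lc_f_rc_27_1 lc_f_rc_21_1 lc_f_rc_27_1 lc_f_rc_27_1 lc_f_rc_40_2 lc_f_rc_37_2 lc_f_rc_37_2 lc_f_rc_27_1 lc_f_rc_37_2 lc_f_rc_27_1 lc_f_rc_21_1 lc_f_rc_6_1 lc_f_rc_21_1 lc_f_rc_14_1 lc_f_rc_21_3) (@D3.rec (fun _ => (Cert rels S Gen.f)) lc_f_rc_27_1 lc_f_rc_6_1 lc_f_rc_40_2 lc_f_rc_37_2 lc_f_rc_37_2 lc_f_rc_6_1 lc_f_rc_40_2 lc_f_rc_27_1 lc_f_rc_21_1 lc_f_rc_27_1 lc_f_rc_27_1 lc_f_rc_32_3 lc_f_rc_27_1 lc_f_rc_37_2 lc_f_rc_27_1 lc_f_rc_21_1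 lc_f_rc_40_2 lc_f_rc_37_2 lc_f_rc_14_1 lc_f_rc_37_2 lc_f_rc_27_1 lc_f_rc_21_1 lc_f_rc_27_1 lc_f_rc_21_1 lc_f_rc_21_1 lc_f_rc_14_1 lc_f_rc_21_1 lc_f_rc_32_3 lc_f_rc_14_1 lc_f_rc_14_1 lc_f_rc_37_0 lc_f_rc_21_1) (@D3.rec (fun _ => (Cert rels S Gen.f)) lc_f_rc_21_1 lc_f_rc_14_1 lc_f_rc_21_1 lc_f_rc_21_1 lc_f_rc_32_3 lc_f_rc_37_2 lc_f_rc_21_1 lc_f_rc_27_1 lc_f_rc_32_3 lc_f_rc_32_1 lc_f_rc_37_2 lc_f_rc_27_1 lc_f_rc_40_2 lc_f_rc_38_0 lc_f_rc_21_1 lc_f_rc_40_2 lc_f_rc_37_2 lc_f_rc_21_3 lc_f_rc_6_1 lc_f_rc_21_3 lc_f_rc_14_1 lc_f_rc_39_0 lc_f_rc_39_2 lc_f_rc_37_2 lc_f_rc_27_1 lc_f_rc_40_2 lc_f_rc_6_1 lc_f_rc_6_1 lc_f_rc_40_2 lc_f_rc_32_3 lc_f_rc_40_2 lc_f_rc_14_1) (@D3.rec (fun _ => (Cert rels S Gen.f))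 lc_f_rc_27_1 lc_f_rc_14_1 lc_f_rc_6_1 lc_f_rc_40_2 lc_f_rc_37_2 lc_f_rc_27_1 lc_f_rc_6_1 lc_f_rc_14_1 lc_f_rc_27_1 lc_f_rc_27_1 lc_f_rc_14_1 lc_f_rc_6_1 lc_f_rc_27_1 lc_f_rc_21_1 lc_f_rc_40_2 lc_f_rc_32_3 lc_f_rc_14_1 lc_f_rc_21_1 lc_f_rc_21_3 lc_f_rc_37_2 lc_f_rc_6_1 lc_f_Cert_tree lc_f_rc_14_1 lc_f_rc_6_3 lc_f_rc_38_0 lc_f_rc_40_2 lc_f_rc_37_2 lc_f_rc_40_2 lc_f_rc_37_2 lc_f_rc_21_1 lc_f_rc_37_2 lc_f_rc_40_2) (@D3.rec (fun _ => (Cert rels S Gen.f)) lc_f_rc_37_2 lc_f_rc_6_1 lc_f_rc_27_1 lc_f_rc_6_1 lc_f_rc_14_1 lc_f_rc_38_0 lc_f_rc_38_1 lc_f_rc_40_2 lc_f_rc_40_2 lc_f_rc_37_2 lc_f_rc_27_1 lc_f_rc_37_2 lc_f_rc_27_1 lc_f_rc_40_2 lc_f_rc_37_2 lc_f_rc_32_3 lc_f_rc_14_3 lc_f_rc_40_2 lc_f_rc_6_1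 lc_f_rc_38_0 lc_f_rc_32_1 lc_f_rc_40_2 lc_f_rc_40_2 lc_f_rc_37_2 lc_f_rc_27_1 lc_f_rc_37_2 lc_f_rc_27_1 lc_f_rc_40_2 lc_f_rc_6_1 lc_f_rc_38_0 lc_f_rc_38_1 lc_f_rc_40_2) (@D3.rec (fun _ => (Cert rels S Gen.f)) lc_f_rc_40_2 lc_f_rc_37_2 lc_f_rc_14_1 lc_f_rc_32_3 lc_f_rc_6_3 lc_f_rc_37_2 lc_f_rc_40_2 lc_f_rc_40_2 lc_f_rc_37_2 lc_f_rc_40_2 lc_f_rc_37_2 lc_f_rc_27_1 lc_f_Cert_tree lc_f_rc_6_3 lc_f_rc_27_1 lc_f_rc_21_1 lc_f_rc_6_1 lc_f_rc_27_1 lc_f_rc_37_2 lc_f_rc_40_2 lc_f_rc_40_2 lc_f_rc_37_2 lc_f_rc_21_1 lc_f_rc_32_3 lc_f_rc_27_1 lc_f_rc_40_2 lc_f_rc_37_2 lc_f_rc_37_2 lc_f_rc_27_1 lc_f_rc_21_1 lc_f_rc_27_1 lc_f_rc_21_1) (@D3.rec (fun _ => (Cert rels S Gen.f)) lc_f_rc_21_3 lc_f_rc_21_1 lc_f_rc_37_2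 lc_f_rc_27_1 lc_f_rc_6_1 lc_f_rc_6_1 lc_f_rc_14_1 lc_f_rc_27_1 lc_f_rc_21_3 lc_f_rc_27_1 lc_f_rc_27_1 lc_f_rc_21_1 lc_f_rc_40_0 lc_f_rc_6_1 lc_f_rc_37_2 lc_f_rc_27_1 lc_f_rc_21_1 lc_f_rc_32_3 lc_f_rc_27_1 lc_f_rc_21_1 lc_f_rc_27_1 lc_f_rc_6_1 lc_f_rc_6_1 lc_f_rc_6_1 lc_f_rc_27_1 lc_f_rc_14_1 lc_f_rc_40_2 lc_f_rc_27_3 lc_f_rc_21_3 lc_f_rc_14_1 lc_f_rc_21_1 lc_f_rc_27_1) (@D3.rec (fun _ => (Cert rels S Gen.f)) lc_f_rc_38_0 lc_f_rc_27_1 lc_f_rc_40_2 lc_f_rc_40_2 lc_f_rc_37_2 lc_f_rc_27_1 lc_f_rc_27_1 lc_f_rc_37_2 lc_f_rc_40_2 lc_f_rc_40_2 lc_f_rc_37_2 lc_f_rc_37_2 lc_f_rc_27_1 lc_f_Cert_tree lc_f_rc_32_3 lc_f_rc_27_1 lc_f_rc_40_2 lc_f_rc_37_2 lc_f_rc_37_2 lc_f_rc_37_2 lc_f_rc_37_2 lc_f_rc_27_1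 lc_f_rc_27_1 lc_f_rc_37_2 lc_f_rc_14_3 lc_f_rc_40_2 lc_f_rc_14_1 lc_f_rc_21_3 lc_f_rc_14_3 lc_f_rc_6_1 lc_f_Cert_tree lc_f_rc_38_0) (@D3.rec (fun _ => (Cert rels S Gen.f)) lc_f_rc_40_2 lc_f_rc_14_1 lc_f_rc_38_0 lc_f_rc_38_1 lc_f_rc_40_2 lc_f_rc_6_1 lc_f_rc_40_2 lc_f_rc_37_2 lc_f_rc_37_2 lc_f_rc_32_1 lc_f_rc_37_2 lc_f_rc_27_1 lc_f_rc_38_0 lc_f_rc_14_3 lc_f_rc_27_1 lc_f_rc_21_3 lc_f_rc_14_1 lc_f_rc_6_1 lc_f_rc_38_0 lc_f_rc_38_1 lc_f_rc_40_2 lc_f_rc_40_2 lc_f_rc_37_2 lc_f_rc_14_1 lc_f_rc_32_3 lc_f_rc_27_1 lc_f_rc_37_2 lc_f_rc_40_2 lc_f_rc_40_2 lc_f_rc_37_2 lc_f_rc_40_2 lc_f_rc_37_2)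
def ce_f_13 : D2 → D3 → (Cert rels S Gen.f) := @D2.rec (fun _ => D3 → (Cert rels S Gen.f)) (@D3.rec (fun _ => (Cert rels S Gen.f)) lc_f_rc_27_1 lc_f_Cert_tree lc_f_rc_40_2 lc_f_rc_6_3 lc_f_rc_27_1 lc_f_rc_37_2 lc_f_rc_40_2 lc_f_rc_40_2 lc_f_rc_37_2 lc_f_rc_21_1 lc_f_rc_37_2 lc_f_rc_27_1 lc_f_Cert_tree lc_f_rc_37_2 lc_f_rc_38_0 lc_f_rc_38_1 lc_f_rc_40_2 lc_f_rc_40_2 lc_f_rc_37_2 lc_f_rc_6_1 lc_f_rc_6_3 lc_f_rc_6_1 lc_f_rc_37_2 lc_f_rc_40_2 lc_f_rc_40_2 lc_f_rc_37_2 lc_f_rc_14_1 lc_f_rc_37_2 lc_f_rc_27_1 lc_f_Cert_tree lc_f_rc_32_3 lc_f_rc_27_1) (@D3.rec (fun _ => (Cert rels S Gen.f)) lc_f_rc_40_2 lc_f_rc_37_2 lc_f_rc_37_2 lc_f_rc_27_1 lc_f_rc_37_2 lc_f_rc_27_1 lc_f_rc_21_1 lc_f_Cert_tree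 lc_f_rc_38_0 lc_f_rc_21_1 lc_f_rc_14_1 lc_f_rc_21_3 lc_f_rc_27_1 lc_f_rc_40_2 lc_f_rc_37_2 lc_f_rc_37_2 lc_f_rc_27_1 lc_f_rc_37_2 lc_f_rc_27_1 lc_f_rc_21_3 lc_f_rc_32_3 lc_f_rc_37_2 lc_f_rc_37_2 lc_f_rc_27_1 lc_f_rc_21_3 lc_f_rc_21_1 lc_f_rc_32_1 lc_f_rc_27_1 lc_f_rc_21_1 lc_f_rc_40_2 lc_f_rc_40_2 lc_f_rc_27_1) (@D3.rec (fun _ => (Cert rels S Gen.f)) lc_f_rc_21_3 lc_f_rc_37_2 lc_f_rc_27_1 lc_f_rc_27_1 lc_f_rc_37_2 lc_f_rc_27_1 lc_f_rc_21_3 lc_f_rc_27_1 lc_f_rc_21_1 lc_f_rc_32_3 lc_f_rc_6_1 lc_f_rc_27_1 lc_f_rc_32_3 lc_f_rc_27_1 lc_f_rc_40_2 lc_f_rc_37_2 lc_f_rc_27_1 lc_f_rc_14_3 lc_f_rc_38_0 lc_f_rc_40_2 lc_f_rc_6_1 lc_f_rc_39_2 lc_f_rc_40_2 lc_f_rc_32_3 lc_f_rc_39_2 lc_f_rc_37_2 lc_f_rc_14_3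 lc_f_rc_39_2 lc_f_rc_27_1 lc_f_rc_21_1 lc_f_rc_14_1 lc_f_rc_21_1) (@D3.rec (fun _ => (Cert rels S Gen.f)) lc_f_rc_37_2 lc_f_rc_40_2 lc_f_rc_40_2 lc_f_rc_37_2 lc_f_rc_21_1 lc_f_rc_37_2 lc_f_rc_27_1 lc_f_rc_21_3 lc_f_rc_21_3 lc_f_rc_40_2 lc_f_rc_37_2 lc_f_rc_37_2 lc_f_rc_27_1 lc_f_rc_37_2 lc_f_rc_27_1 lc_f_rc_21_1 lc_f_Cert_tree lc_f_rc_38_0 lc_f_rc_14_3 lc_f_rc_14_3 lc_f_rc_37_2 lc_f_rc_27_1 lc_f_rc_21_1 lc_f_rc_27_1 lc_f_rc_14_3 lc_f_rc_14_3 lc_f_rc_27_1 lc_f_rc_32_3 lc_f_rc_38_0 lc_f_rc_14_3 lc_f_rc_37_2 lc_f_rc_37_2) (@D3.rec (fun _ => (Cert rels S Gen.f)) lc_f_rc_27_1 lc_f_rc_27_1 lc_f_rc_21_1 lc_f_rc_39_2 lc_f_rc_27_1 lc_f_rc_21_1 lc_f_rc_39_2 lc_f_rc_27_1 lc_f_rc_27_1 lc_f_rc_27_1 lc_f_rc_21_3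 lc_f_rc_37_2 lc_f_rc_27_1 lc_f_rc_21_1 lc_f_rc_21_1 lc_f_rc_32_3 lc_f_rc_14_1 lc_f_rc_37_2 lc_f_rc_27_1 lc_f_rc_39_2 lc_f_rc_21_1 lc_f_rc_37_2 lc_f_rc_40_2 lc_f_rc_40_2 lc_f_rc_40_2 lc_f_rc_37_0 lc_f_rc_27_1 lc_f_rc_37_0 lc_f_rc_32_3 lc_f_rc_37_2 lc_f_rc_40_2 lc_f_rc_40_2) (@D3.rec (fun _ => (Cert rels S Gen.f)) lc_f_rc_37_2 lc_f_rc_37_2 lc_f_rc_27_1 lc_f_rc_27_1 lc_f_rc_21_1 lc_f_rc_32_3 lc_f_rc_21_3 lc_f_rc_40_2 lc_f_rc_37_2 lc_f_rc_37_2 lc_f_rc_40_2 lc_f_rc_45_68 lc_f_rc_14_3 lc_f_rc_21_1 lc_f_rc_32_3 lc_f_rc_14_1 lc_f_rc_27_1 lc_f_rc_6_1 lc_f_rc_40_2 lc_f_rc_6_3 lc_f_rc_38_0 lc_f_rc_40_2 lc_f_rc_40_2 lc_f_rc_40_2 lc_f_rc_37_2 lc_f_rc_6_3 lc_f_rc_27_3 lc_f_rc_27_1 lc_f_rc_32_1 lc_f_rc_6_1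 lc_f_rc_37_2 lc_f_rc_14_3) (@D3.rec (fun _ => (Cert rels S Gen.f)) lc_f_rc_40_2 lc_f_rc_6_3 lc_f_rc_14_1 lc_f_rc_32_3 lc_f_rc_37_2 lc_f_rc_40_2 lc_f_rc_40_2 lc_f_rc_37_2 lc_f_rc_37_2 lc_f_rc_27_1 lc_f_Cert_tree lc_f_rc_27_1 lc_f_rc_21_1 lc_f_rc_32_3 lc_f_rc_21_3 lc_f_rc_40_2 lc_f_rc_37_2 lc_f_rc_37_2 lc_f_rc_27_1 lc_f_rc_37_2 lc_f_rc_27_1 lc_f_rc_21_1 lc_f_rc_6_1 lc_f_rc_21_1 lc_f_rc_38_1 lc_f_rc_27_1 lc_f_rc_32_3 lc_f_rc_21_1 lc_f_rc_27_1 lc_f_rc_14_1 lc_f_Cert_tree lc_f_rc_21_1) (@D3.rec (fun _ => (Cert rels S Gen.f)) lc_f_rc_32_3 lc_f_rc_38_0 lc_f_rc_32_1 lc_f_rc_6_1 lc_f_rc_6_1 lc_f_rc_38_0 lc_f_rc_32_1 lc_f_rc_40_2 lc_f_rc_6_1 lc_f_rc_40_2 lc_f_rc_37_2 lc_f_rc_21_1 lc_f_rc_39_2 lc_f_rc_37_2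 lc_f_rc_27_1 lc_f_rc_32_3 lc_f_rc_37_2 lc_f_rc_40_2 lc_f_rc_40_2 lc_f_rc_37_2 lc_f_rc_37_2 lc_f_rc_27_1 lc_f_Cert_tree lc_f_rc_27_1 lc_f_rc_21_1 lc_f_rc_32_3 lc_f_rc_14_1 lc_f_rc_40_2 lc_f_rc_37_2 lc_f_rc_37_2 lc_f_rc_27_1 lc_f_rc_14_1) (@D3.rec (fun _ => (Cert rels S Gen.f)) lc_f_rc_27_1 lc_f_rc_21_1 lc_f_Cert_tree lc_f_rc_38_0 lc_f_rc_27_1 lc_f_rc_21_1 lc_f_rc_27_1 lc_f_rc_14_1 lc_f_rc_32_3 lc_f_rc_21_3 lc_f_rc_37_2 lc_f_rc_27_1 lc_f_rc_27_1 lc_f_rc_21_1 lc_f_rc_27_1 lc_f_rc_37_0 lc_f_rc_21_1 lc_f_rc_6_1 lc_f_rc_14_1 lc_f_rc_21_1 lc_f_rc_27_3 lc_f_rc_14_1 lc_f_rc_39_2 lc_f_rc_6_1 lc_f_rc_27_1 lc_f_rc_38_0 lc_f_rc_14_1 lc_f_rc_27_1 lc_f_rc_39_2 lc_f_rc_27_1 lc_f_rc_21_1 lc_f_rc_27_1) (@D3.rec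 (fun _ => (Cert rels S Gen.f)) lc_f_rc_14_3 lc_f_rc_27_1 lc_f_rc_21_1 lc_f_rc_14_3 lc_f_rc_21_1 lc_f_rc_14_3 lc_f_rc_14_1 lc_f_rc_21_1 lc_f_rc_14_1 lc_f_rc_37_0 lc_f_rc_6_3 lc_f_rc_6_1 lc_f_rc_27_1 lc_f_rc_14_1 lc_f_rc_14_1 lc_f_rc_38_0 lc_f_rc_40_2 lc_f_rc_37_2 lc_f_rc_40_2 lc_f_rc_37_2 lc_f_rc_21_1 lc_f_rc_37_2 lc_f_rc_40_2 lc_f_rc_21_1 lc_f_rc_40_2 lc_f_rc_37_2 lc_f_rc_21_3 lc_f_rc_6_1 lc_f_rc_39_2 lc_f_rc_40_2 lc_f_rc_14_1 lc_f_rc_38_0) (@D3.rec (fun _ => (Cert rels S Gen.f)) lc_f_rc_14_1 lc_f_rc_40_2 lc_f_rc_40_2 lc_f_rc_37_2 lc_f_rc_27_1 lc_f_rc_37_2 lc_f_rc_27_1 lc_f_rc_14_1 lc_f_rc_40_2 lc_f_rc_37_2 lc_f_rc_37_2 lc_f_rc_40_2 lc_f_rc_14_1 lc_f_rc_6_3 lc_f_rc_27_1 lc_f_rc_6_3 lc_f_rc_27_1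 lc_f_rc_40_2 lc_f_rc_6_1 lc_f_rc_38_0 lc_f_rc_46_33 lc_f_rc_40_2 lc_f_rc_40_2 lc_f_rc_37_2 lc_f_rc_14_1 lc_f_rc_38_0 lc_f_rc_6_3 lc_f_rc_37_2 lc_f_rc_40_2 lc_f_rc_40_2 lc_f_rc_37_2 lc_f_rc_6_3) (@D3.rec (fun _ => (Cert rels S Gen.f)) lc_f_rc_37_2 lc_f_rc_27_1 lc_f_Cert_tree lc_f_rc_6_3 lc_f_rc_27_1 lc_f_rc_21_1 lc_f_rc_6_3 lc_f_rc_27_1 lc_f_rc_40_2 lc_f_rc_37_2 lc_f_rc_37_2 lc_f_rc_45_50 lc_f_rc_6_3 lc_f_rc_21_1 lc_f_rc_37_0 lc_f_rc_32_1 lc_f_rc_27_1 lc_f_rc_27_1 lc_f_rc_6_1 lc_f_rc_6_1 lc_f_rc_14_1 lc_f_rc_27_1 lc_f_rc_27_1 lc_f_rc_21_1 lc_f_rc_14_1 lc_f_rc_27_1 lc_f_rc_21_3 lc_f_rc_27_1 lc_f_rc_40_0 lc_f_rc_6_1 lc_f_rc_37_2 lc_f_rc_21_1) (@D3.rec (fun _ => (Cert rels S Gen.f)) lc_f_rc_38_0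 lc_f_rc_27_1 lc_f_rc_27_1 lc_f_rc_46_47 lc_f_rc_40_0 lc_f_rc_6_1 lc_f_rc_6_1 lc_f_rc_6_1 lc_f_rc_6_1 lc_f_rc_21_1 lc_f_rc_37_2 lc_f_rc_27_1 lc_f_rc_37_2 lc_f_rc_14_1 lc_f_rc_6_1 lc_f_rc_32_1 lc_f_rc_40_2 lc_f_rc_14_1 lc_f_rc_38_0 lc_f_rc_40_2 lc_f_rc_39_2 lc_f_rc_40_2 lc_f_rc_37_2 lc_f_rc_37_2 lc_f_rc_27_3 lc_f_rc_37_2 lc_f_rc_27_1 lc_f_rc_37_2 lc_f_rc_6_1 lc_f_rc_40_2 lc_f_rc_6_3 lc_f_rc_27_1) (@D3.rec (fun _ => (Cert rels S Gen.f)) lc_f_rc_27_1 lc_f_rc_6_1 lc_f_rc_38_0 lc_f_rc_14_3 lc_f_rc_40_2 lc_f_rc_40_2 lc_f_rc_37_2 lc_f_rc_14_1 lc_f_rc_21_3 lc_f_rc_27_1 lc_f_rc_37_2 lc_f_rc_40_2 lc_f_rc_40_2 lc_f_rc_37_2 lc_f_rc_40_2 lc_f_rc_37_2 lc_f_rc_27_1 lc_f_Cert_tree lc_f_rc_40_2 lc_f_rc_27_1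 lc_f_rc_21_1 lc_f_rc_40_2 lc_f_rc_6_3 lc_f_rc_27_1 lc_f_rc_27_1 lc_f_rc_14_3 lc_f_rc_27_1 lc_f_rc_14_3 lc_f_rc_27_1 lc_f_rc_27_1 lc_f_rc_40_2 lc_f_rc_37_2) (@D3.rec (fun _ => (Cert rels S Gen.f)) lc_f_rc_21_1 lc_f_rc_37_2 lc_f_rc_27_1 lc_f_Cert_tree lc_f_rc_37_2 lc_f_rc_27_1 lc_f_rc_21_1 lc_f_rc_38_0 lc_f_rc_6_3 lc_f_rc_40_2 lc_f_rc_40_2 lc_f_rc_37_2 lc_f_rc_6_1 lc_f_rc_6_1 lc_f_rc_14_1 lc_f_rc_37_2 lc_f_rc_40_2 lc_f_rc_40_2 lc_f_rc_37_2 lc_f_rc_14_1 lc_f_rc_37_2 lc_f_rc_27_1 lc_f_Cert_tree lc_f_rc_27_1 lc_f_rc_27_1 lc_f_rc_40_2 lc_f_rc_37_2 lc_f_rc_37_2 lc_f_rc_27_1 lc_f_rc_37_2 lc_f_rc_27_1 lc_f_rc_21_1) (@D3.rec (fun _ => (Cert rels S Gen.f)) lc_f_Cert_tree lc_f_rc_38_0 lc_f_rc_21_1 lc_f_rc_14_1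 lc_f_rc_27_1 lc_f_rc_37_2 lc_f_rc_27_1 lc_f_rc_27_1 lc_f_rc_21_1 lc_f_rc_21_1 lc_f_rc_32_3 lc_f_rc_14_1 lc_f_rc_32_3 lc_f_rc_37_2 lc_f_rc_37_2 lc_f_rc_27_1 lc_f_rc_27_1 lc_f_rc_21_1 lc_f_rc_6_1 lc_f_rc_38_0 lc_f_rc_21_1 lc_f_rc_14_1 lc_f_rc_21_1 lc_f_rc_14_1 lc_f_rc_46_26 lc_f_rc_21_1 lc_f_rc_37_2 lc_f_rc_6_1 lc_f_rc_21_1 lc_f_rc_14_1 lc_f_rc_27_1 lc_f_rc_21_1) (@D3.rec (fun _ => (Cert rels S Gen.f)) lc_f_rc_21_1 lc_f_rc_32_3 lc_f_rc_14_1 lc_f_rc_37_2 lc_f_rc_21_3 lc_f_rc_21_3 lc_f_rc_27_1 lc_f_rc_21_1 lc_f_rc_27_1 lc_f_rc_21_1 lc_f_rc_32_3 lc_f_rc_6_1 lc_f_rc_14_1 lc_f_rc_38_0 lc_f_rc_14_1 lc_f_rc_40_0 lc_f_rc_37_2 lc_f_rc_45_68 lc_f_rc_37_0 lc_f_rc_6_1 lc_f_rc_21_3 lc_f_rc_39_2 lc_f_rc_27_1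 lc_f_rc_21_1 lc_f_rc_40_0 lc_f_rc_6_1 lc_f_rc_6_1 lc_f_rc_27_1 lc_f_rc_6_1 lc_f_rc_14_1 lc_f_rc_37_2 lc_f_rc_27_1) (@D3.rec (fun _ => (Cert rels S Gen.f)) lc_f_Cert_tree lc_f_rc_38_1 lc_f_rc_27_1 lc_f_rc_14_1 lc_f_rc_39_4 lc_f_rc_21_1 lc_f_rc_6_1 lc_f_rc_21_1 lc_f_rc_37_2 lc_f_rc_40_2 lc_f_rc_6_1 lc_f_rc_37_2 lc_f_rc_32_1 lc_f_rc_32_1 lc_f_rc_6_1 lc_f_rc_38_0 lc_f_rc_40_2 lc_f_rc_14_1 lc_f_rc_6_3 lc_f_rc_6_3 lc_f_rc_40_2 lc_f_rc_37_2 lc_f_rc_37_2 lc_f_rc_37_2 lc_f_rc_27_1 lc_f_rc_37_2 lc_f_rc_37_2 lc_f_rc_27_1 lc_f_rc_6_1 lc_f_rc_6_1 lc_f_rc_6_1 lc_f_rc_14_1) (@D3.rec (fun _ => (Cert rels S Gen.f)) lc_f_rc_39_2 lc_f_rc_37_2 lc_f_rc_40_2 lc_f_rc_40_2 lc_f_rc_37_2 lc_f_rc_37_2 lc_f_rc_27_1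 lc_f_Cert_tree lc_f_rc_27_1 lc_f_rc_32_3 lc_f_rc_27_1 lc_f_rc_27_1 lc_f_rc_40_2 lc_f_rc_14_3 lc_f_rc_27_1 lc_f_rc_40_2 lc_f_rc_40_2 lc_f_rc_37_2 lc_f_rc_37_2 lc_f_rc_27_1 lc_f_Cert_tree lc_f_rc_46_33 lc_f_rc_27_1 lc_f_rc_40_0 lc_f_rc_6_1 lc_f_rc_14_1 lc_f_rc_37_2 lc_f_rc_40_2 lc_f_rc_40_2 lc_f_rc_37_2 lc_f_rc_37_2 lc_f_rc_27_1) (@D3.rec (fun _ => (Cert rels S Gen.f)) lc_f_rc_21_1 lc_f_Cert_tree lc_f_rc_32_3 lc_f_rc_40_2 lc_f_rc_40_2 lc_f_rc_37_2 lc_f_rc_37_2 lc_f_rc_27_1 lc_f_rc_6_3 lc_f_rc_27_1 lc_f_rc_21_1 lc_f_Cert_tree lc_f_rc_38_0 lc_f_rc_21_1 lc_f_rc_21_3 lc_f_rc_27_1 lc_f_rc_40_2 lc_f_rc_37_2 lc_f_rc_37_2 lc_f_rc_32_3 lc_f_rc_37_2 lc_f_rc_37_2 lc_f_rc_27_1 lc_f_rc_21_3 lc_f_rc_21_1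 lc_f_rc_32_1 lc_f_rc_21_3 lc_f_rc_21_1 lc_f_rc_6_1 lc_f_rc_27_1 lc_f_rc_6_1 lc_f_rc_21_1) (@D3.rec (fun _ => (Cert rels S Gen.f)) lc_f_rc_27_1 lc_f_rc_21_1 lc_f_rc_21_3 lc_f_rc_39_2 lc_f_rc_6_1 lc_f_rc_27_1 lc_f_rc_21_1 lc_f_rc_6_1 lc_f_rc_14_1 lc_f_rc_6_1 lc_f_rc_6_1 lc_f_rc_14_1 lc_f_rc_21_1 lc_f_rc_27_1 lc_f_rc_27_1 lc_f_Cert_tree lc_f_Cert_tree lc_f_rc_40_2 lc_f_rc_27_1 lc_f_rc_37_2 lc_f_rc_37_2 lc_f_rc_27_1 lc_f_Cert_tree lc_f_rc_27_1 lc_f_rc_40_2 lc_f_rc_37_2 lc_f_rc_37_2 lc_f_rc_27_1 lc_f_rc_27_1 lc_f_Cert_tree lc_f_rc_38_0 lc_f_rc_32_3) (@D3.rec (fun _ => (Cert rels S Gen.f)) lc_f_rc_37_2 lc_f_rc_27_1 lc_f_rc_21_1 lc_f_rc_14_1 lc_f_rc_32_1 lc_f_rc_27_1 lc_f_rc_38_0 lc_f_rc_32_1 lc_f_rc_27_3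 lc_f_rc_6_1 lc_f_rc_38_0 lc_f_rc_32_1 lc_f_rc_40_2 lc_f_rc_40_2 lc_f_rc_37_2 lc_f_rc_14_1 lc_f_rc_32_3 lc_f_rc_37_2 lc_f_rc_40_2 lc_f_rc_40_2 lc_f_rc_37_2 lc_f_rc_6_1 lc_f_rc_37_2 lc_f_rc_27_1 lc_f_Cert_tree lc_f_rc_21_3 lc_f_rc_27_1 lc_f_rc_21_1 lc_f_rc_27_3 lc_f_Cert_tree lc_f_rc_14_1 lc_f_rc_14_1)
def ce_f_14 : D2 → D3 → (Cert rels S Gen.f) := @D2.rec (fun _ => D3 → (Cert rels S Gen.f)) (@D3.rec (fun _ => (Cert rels S Gen.f)) lc_f_rc_14_1 lc_f_rc_6_1 lc_f_rc_21_1 lc_f_rc_37_2 lc_f_rc_40_2 lc_f_rc_40_2 lc_f_rc_37_2 lc_f_rc_37_2 lc_f_rc_27_1 lc_f_Cert_tree lc_f_rc_32_3 lc_f_rc_27_1 lc_f_rc_40_2 lc_f_rc_37_2 lc_f_rc_37_2 lc_f_rc_27_1 lc_f_rc_40_2 lc_f_rc_27_1 lc_f_Cert_tree lc_f_rc_38_0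 lc_f_rc_6_3 lc_f_rc_27_1 lc_f_rc_40_2 lc_f_rc_37_2 lc_f_rc_37_2 lc_f_rc_27_1 lc_f_rc_37_2 lc_f_rc_27_1 lc_f_Cert_tree lc_f_rc_38_0 lc_f_rc_14_1 lc_f_rc_37_2) (@D3.rec (fun _ => (Cert rels S Gen.f)) lc_f_rc_40_2 lc_f_rc_40_2 lc_f_rc_37_2 lc_f_rc_37_2 lc_f_rc_27_1 lc_f_Cert_tree lc_f_rc_6_3 lc_f_rc_14_1 lc_f_rc_40_2 lc_f_rc_37_2 lc_f_rc_37_2 lc_f_rc_27_1 lc_f_rc_14_1 lc_f_rc_27_1 lc_f_rc_21_1 lc_f_Cert_tree lc_f_rc_38_0 lc_f_rc_32_3 lc_f_rc_37_2 lc_f_rc_37_2 lc_f_rc_27_1 lc_f_rc_27_1 lc_f_rc_21_1 lc_f_Cert_tree lc_f_rc_27_1 lc_f_rc_21_1 lc_f_Cert_tree lc_f_rc_21_3 lc_f_Cert_tree lc_f_rc_38_0 lc_f_rc_39_2 lc_f_rc_21_3) (@D3.rec (fun _ => (Cert rels S Gen.f)) lc_f_rc_37_2 lc_f_rc_37_2 lc_f_rc_27_1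 lc_f_rc_27_1 lc_f_rc_32_3 lc_f_rc_27_1 lc_f_rc_21_3 lc_f_rc_27_1 lc_f_rc_27_1 lc_f_rc_21_1 lc_f_rc_40_2 lc_f_rc_32_1 lc_f_rc_6_1 lc_f_rc_14_1 lc_f_rc_21_1 lc_f_rc_27_1 lc_f_rc_27_1 lc_f_rc_21_1 lc_f_rc_32_3 lc_f_rc_27_1 lc_f_rc_21_1 lc_f_rc_21_1 lc_f_rc_32_3 lc_f_rc_6_1 lc_f_rc_37_2 lc_f_rc_14_3 lc_f_rc_14_3 lc_f_rc_40_2 lc_f_rc_32_3 lc_f_rc_39_2 lc_f_rc_40_2 lc_f_rc_39_2) (@D3.rec (fun _ => (Cert rels S Gen.f)) lc_f_rc_21_1 lc_f_rc_14_3 lc_f_rc_21_1 lc_f_rc_32_3 lc_f_rc_14_1 lc_f_rc_21_3 lc_f_rc_21_1 lc_f_rc_40_2 lc_f_rc_37_2 lc_f_rc_37_2 lc_f_rc_27_1 lc_f_rc_37_2 lc_f_rc_27_1 lc_f_rc_21_1 lc_f_rc_21_3 lc_f_rc_21_3 lc_f_rc_37_2 lc_f_rc_27_1 lc_f_rc_21_3 lc_f_rc_21_1 lc_f_rc_27_1 lc_f_rc_37_0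 lc_f_rc_21_1 lc_f_rc_27_1 lc_f_Cert_tree lc_f_rc_38_0 lc_f_rc_14_3 lc_f_rc_14_3 lc_f_rc_14_3 lc_f_rc_27_1 lc_f_rc_32_3 lc_f_rc_32_3) (@D3.rec (fun _ => (Cert rels S Gen.f)) lc_f_rc_14_3 lc_f_rc_27_1 lc_f_rc_27_1 lc_f_rc_21_1 lc_f_rc_39_2 lc_f_rc_37_2 lc_f_rc_21_1 lc_f_rc_6_1 lc_f_rc_27_1 lc_f_rc_21_1 lc_f_rc_40_2 lc_f_rc_27_1 lc_f_rc_14_3 lc_f_rc_32_3 lc_f_rc_40_2 lc_f_rc_37_2 lc_f_rc_37_2 lc_f_rc_27_1 lc_f_rc_27_1 lc_f_rc_21_1 lc_f_rc_21_1 lc_f_rc_32_3 lc_f_rc_14_1 lc_f_rc_37_2 lc_f_rc_21_3 lc_f_rc_37_2 lc_f_rc_21_3 lc_f_rc_14_1 lc_f_rc_46_26 lc_f_rc_40_2 lc_f_rc_14_1 lc_f_rc_40_2) (@D3.rec (fun _ => (Cert rels S Gen.f)) lc_f_rc_40_2 lc_f_rc_37_2 lc_f_rc_6_1 lc_f_rc_37_2 lc_f_rc_27_1 lc_f_rc_27_1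 lc_f_rc_27_3 lc_f_rc_32_5 lc_f_rc_27_1 lc_f_Cert_tree lc_f_rc_21_1 lc_f_rc_14_3 lc_f_rc_6_3 lc_f_rc_27_1 lc_f_rc_14_1 lc_f_Cert_tree lc_f_rc_32_3 lc_f_rc_40_2 lc_f_rc_37_2 lc_f_rc_37_2 lc_f_rc_27_1 lc_f_rc_27_1 lc_f_rc_21_1 lc_f_Cert_tree lc_f_rc_38_0 lc_f_rc_21_1 lc_f_rc_14_1 lc_f_rc_32_3 lc_f_rc_21_3 lc_f_rc_37_2 lc_f_rc_27_1 lc_f_rc_27_1) (@D3.rec (fun _ => (Cert rels S Gen.f)) lc_f_rc_21_1 lc_f_rc_6_1 lc_f_rc_37_0 lc_f_rc_21_1 lc_f_rc_27_1 lc_f_rc_14_3 lc_f_rc_6_1 lc_f_rc_21_1 lc_f_rc_32_3 lc_f_rc_6_1 lc_f_rc_21_1 lc_f_rc_32_3 lc_f_rc_6_1 lc_f_rc_38_0 lc_f_rc_6_1 lc_f_rc_6_1 lc_f_rc_40_2 lc_f_rc_32_1 lc_f_rc_37_2 lc_f_rc_6_1 lc_f_rc_37_2 lc_f_rc_27_1 lc_f_Cert_tree lc_f_rc_39_2 lc_f_rc_27_1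 lc_f_rc_21_1 lc_f_rc_40_2 lc_f_rc_40_2 lc_f_rc_37_2 lc_f_rc_37_2 lc_f_rc_27_1 lc_f_rc_27_1) (@D3.rec (fun _ => (Cert rels S Gen.f)) lc_f_rc_21_1 lc_f_Cert_tree lc_f_rc_38_0 lc_f_rc_21_1 lc_f_rc_32_3 lc_f_rc_14_1 lc_f_rc_37_2 lc_f_rc_27_1 lc_f_rc_27_1 lc_f_rc_21_1 lc_f_Cert_tree lc_f_rc_27_1 lc_f_rc_21_1 lc_f_Cert_tree lc_f_rc_14_1 lc_f_Cert_tree lc_f_rc_38_0 lc_f_rc_37_2 lc_f_rc_27_3 lc_f_rc_14_1 lc_f_rc_40_0 lc_f_rc_45_23 lc_f_rc_27_1 lc_f_rc_27_1 lc_f_rc_27_1 lc_f_rc_21_1 lc_f_rc_6_1 lc_f_rc_21_1 lc_f_rc_40_2 lc_f_rc_14_1 lc_f_rc_21_1 lc_f_rc_37_0) (@D3.rec (fun _ => (Cert rels S Gen.f)) lc_f_rc_14_1 lc_f_rc_14_3 lc_f_rc_6_1 lc_f_rc_6_3 lc_f_rc_40_0 lc_f_rc_21_1 lc_f_rc_27_1 lc_f_rc_14_3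 lc_f_rc_21_1 lc_f_rc_32_3 lc_f_rc_14_1 lc_f_rc_21_1 lc_f_rc_6_1 lc_f_rc_14_1 lc_f_rc_14_1 lc_f_rc_21_1 lc_f_rc_38_1 lc_f_rc_6_3 lc_f_rc_14_3 lc_f_rc_6_1 lc_f_rc_27_1 lc_f_rc_14_1 lc_f_rc_14_1 lc_f_rc_40_2 lc_f_rc_37_2 lc_f_rc_37_2 lc_f_rc_37_2 lc_f_rc_27_1 lc_f_rc_37_2 lc_f_rc_32_1 lc_f_rc_40_2 lc_f_rc_14_1) (@D3.rec (fun _ => (Cert rels S Gen.f)) lc_f_rc_27_1 lc_f_rc_27_1 lc_f_rc_6_1 lc_f_rc_6_1 lc_f_rc_6_1 lc_f_rc_14_1 lc_f_rc_40_2 lc_f_rc_27_3 lc_f_rc_37_2 lc_f_rc_37_2 lc_f_rc_27_1 lc_f_Cert_tree lc_f_rc_27_1 lc_f_rc_21_1 lc_f_rc_14_1 lc_f_rc_37_2 lc_f_rc_27_1 lc_f_rc_27_1 lc_f_rc_37_2 lc_f_rc_27_1 lc_f_rc_27_1 lc_f_Cert_tree lc_f_rc_14_1 lc_f_rc_27_1 lc_f_rc_40_0 lc_f_rc_6_1 lc_f_rc_40_2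 lc_f_rc_37_2 lc_f_rc_37_2 lc_f_rc_27_1 lc_f_rc_21_1 lc_f_Cert_tree) (@D3.rec (fun _ => (Cert rels S Gen.f)) lc_f_rc_27_1 lc_f_rc_40_2 lc_f_rc_37_2 lc_f_rc_37_2 lc_f_rc_27_1 lc_f_rc_6_3 lc_f_rc_27_1 lc_f_rc_21_1 lc_f_Cert_tree lc_f_rc_38_0 lc_f_rc_21_1 lc_f_rc_37_2 lc_f_rc_37_2 lc_f_rc_37_2 lc_f_rc_14_1 lc_f_rc_14_3 lc_f_rc_21_1 lc_f_rc_46_26 lc_f_rc_27_1 lc_f_rc_6_1 lc_f_rc_21_1 lc_f_rc_39_2 lc_f_rc_21_3 lc_f_rc_39_4 lc_f_rc_6_1 lc_f_rc_6_1 lc_f_rc_46_47 lc_f_rc_6_1 lc_f_rc_37_2 lc_f_rc_37_2 lc_f_rc_27_1 lc_f_rc_27_1) (@D3.rec (fun _ => (Cert rels S Gen.f)) lc_f_rc_6_1 lc_f_rc_40_2 lc_f_rc_40_2 lc_f_rc_14_1 lc_f_rc_40_2 lc_f_rc_37_2 lc_f_rc_39_2 lc_f_rc_37_2 lc_f_rc_27_1 lc_f_Cert_tree lc_f_rc_21_3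 lc_f_rc_27_1 lc_f_rc_21_1 lc_f_rc_27_1 lc_f_rc_27_1 lc_f_rc_6_3 lc_f_rc_27_1 lc_f_Cert_tree lc_f_rc_21_1 lc_f_rc_6_1 lc_f_rc_40_2 lc_f_rc_27_3 lc_f_rc_37_2 lc_f_rc_37_2 lc_f_rc_27_1 lc_f_Cert_tree lc_f_rc_40_2 lc_f_rc_27_1 lc_f_rc_40_2 lc_f_rc_37_2 lc_f_rc_37_2 lc_f_rc_27_1) (@D3.rec (fun _ => (Cert rels S Gen.f)) lc_f_rc_40_2 lc_f_rc_27_1 lc_f_rc_21_1 lc_f_Cert_tree lc_f_rc_38_0 lc_f_rc_21_1 lc_f_rc_14_1 lc_f_rc_14_1 lc_f_rc_27_1 lc_f_Cert_tree lc_f_rc_21_1 lc_f_rc_37_0 lc_f_rc_32_3 lc_f_rc_38_0 lc_f_Cert_tree lc_f_rc_27_1 lc_f_rc_37_2 lc_f_rc_27_1 lc_f_rc_37_2 lc_f_rc_27_1 lc_f_rc_21_1 lc_f_Cert_tree lc_f_rc_38_0 lc_f_rc_21_1 lc_f_rc_32_3 lc_f_rc_14_1 lc_f_rc_40_2 lc_f_rc_40_2 lc_f_rc_37_2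 lc_f_rc_37_2 lc_f_rc_27_1 lc_f_Cert_tree) (@D3.rec (fun _ => (Cert rels S Gen.f)) lc_f_rc_40_2 lc_f_rc_21_1 lc_f_rc_40_2 lc_f_rc_37_2 lc_f_rc_37_2 lc_f_rc_27_1 lc_f_rc_14_1 lc_f_rc_27_1 lc_f_rc_21_1 lc_f_Cert_tree lc_f_rc_38_0 lc_f_rc_32_3 lc_f_rc_37_2 lc_f_rc_37_2 lc_f_rc_27_1 lc_f_rc_27_1 lc_f_rc_21_1 lc_f_Cert_tree lc_f_rc_27_1 lc_f_rc_21_1 lc_f_Cert_tree lc_f_rc_14_1 lc_f_Cert_tree lc_f_rc_38_0 lc_f_rc_39_2 lc_f_rc_14_1 lc_f_rc_6_1 lc_f_rc_37_2 lc_f_rc_27_1 lc_f_rc_21_1 lc_f_rc_21_1 lc_f_rc_32_3) (@D3.rec (fun _ => (Cert rels S Gen.f)) lc_f_rc_14_1 lc_f_rc_14_1 lc_f_rc_6_1 lc_f_rc_27_1 lc_f_rc_27_1 lc_f_rc_21_1 lc_f_rc_21_1 lc_f_rc_6_1 lc_f_rc_14_1 lc_f_rc_21_1 lc_f_rc_14_1 lc_f_rc_46_26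 lc_f_rc_6_3 lc_f_rc_6_3 lc_f_rc_6_1 lc_f_rc_14_1 lc_f_rc_6_1 lc_f_rc_21_1 lc_f_rc_47_53 lc_f_rc_14_1 lc_f_rc_14_1 lc_f_rc_27_1 lc_f_rc_21_1 lc_f_rc_32_3 lc_f_rc_6_1 lc_f_rc_21_3 lc_f_rc_32_3 lc_f_rc_21_3 lc_f_rc_6_1 lc_f_Cert_tree lc_f_rc_37_2 lc_f_Cert_tree) (@D3.rec (fun _ => (Cert rels S Gen.f)) lc_f_rc_27_1 lc_f_rc_14_1 lc_f_Cert_tree lc_f_rc_37_2 lc_f_Cert_tree lc_f_rc_38_0 lc_f_rc_6_1 lc_f_rc_21_1 lc_f_rc_6_1 lc_f_rc_37_2 lc_f_rc_40_2 lc_f_rc_32_1 lc_f_rc_27_1 lc_f_rc_32_1 lc_f_rc_6_1 lc_f_rc_40_2 lc_f_rc_37_2 lc_f_rc_14_1 lc_f_rc_6_3 lc_f_rc_6_3 lc_f_rc_37_2 lc_f_rc_27_1 lc_f_Cert_tree lc_f_rc_27_1 lc_f_rc_21_1 lc_f_rc_27_1 lc_f_rc_27_1 lc_f_Cert_tree lc_f_rc_6_1 lc_f_rc_37_2 lc_f_rc_27_1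 lc_f_rc_21_1) (@D3.rec (fun _ => (Cert rels S Gen.f)) lc_f_Cert_tree lc_f_rc_39_2 lc_f_rc_40_2 lc_f_rc_37_2 lc_f_rc_37_2 lc_f_rc_27_1 lc_f_rc_27_1 lc_f_Cert_tree lc_f_rc_38_0 lc_f_rc_32_1 lc_f_rc_27_1 lc_f_Cert_tree lc_f_rc_21_1 lc_f_rc_14_3 lc_f_rc_27_1 lc_f_rc_21_1 lc_f_Cert_tree lc_f_rc_37_2 lc_f_rc_14_1 lc_f_rc_27_1 lc_f_rc_27_1 lc_f_Cert_tree lc_f_rc_38_0 lc_f_rc_40_2 lc_f_rc_37_2 lc_f_rc_27_1 lc_f_rc_6_1 lc_f_Cert_tree lc_f_rc_27_1 lc_f_rc_40_2 lc_f_rc_37_2 lc_f_rc_37_2) (@D3.rec (fun _ => (Cert rels S Gen.f)) lc_f_rc_27_1 lc_f_rc_27_1 lc_f_rc_21_1 lc_f_Cert_tree lc_f_Cert_tree lc_f_rc_38_0 lc_f_rc_32_3 lc_f_rc_6_3 lc_f_rc_37_2 lc_f_rc_27_1 lc_f_rc_27_1 lc_f_rc_21_1 lc_f_Cert_tree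 lc_f_rc_27_1 lc_f_rc_21_1 lc_f_Cert_tree lc_f_Cert_tree lc_f_rc_38_0 lc_f_rc_39_2 lc_f_rc_21_3 lc_f_rc_37_2 lc_f_rc_37_2 lc_f_rc_21_3 lc_f_rc_21_1 lc_f_rc_6_1 lc_f_rc_32_1 lc_f_rc_32_1 lc_f_rc_21_1 lc_f_rc_6_1 lc_f_rc_21_1 lc_f_rc_38_0 lc_f_rc_6_3) (@D3.rec (fun _ => (Cert rels S Gen.f)) lc_f_rc_21_1 lc_f_rc_6_1 lc_f_rc_38_0 lc_f_rc_6_1 lc_f_rc_27_1 lc_f_rc_27_1 lc_f_Cert_tree lc_f_rc_37_2 lc_f_Cert_tree lc_f_rc_38_0 lc_f_rc_38_0 lc_f_rc_37_2 lc_f_rc_32_1 lc_f_rc_27_1 lc_f_rc_27_1 lc_f_rc_21_1 lc_f_Cert_tree lc_f_rc_38_0 lc_f_rc_32_3 lc_f_rc_37_2 lc_f_rc_27_1 lc_f_rc_27_1 lc_f_Cert_tree lc_f_Cert_tree lc_f_rc_38_0 lc_f_rc_39_2 lc_f_rc_21_1 lc_f_rc_27_3 lc_f_rc_27_1 lc_f_Cert_tree lc_f_rc_21_1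 lc_f_rc_32_1) (@D3.rec (fun _ => (Cert rels S Gen.f)) lc_f_rc_32_3 lc_f_rc_6_1 lc_f_rc_40_2 lc_f_rc_32_1 lc_f_rc_37_2 lc_f_rc_37_2 lc_f_rc_27_1 lc_f_Cert_tree lc_f_rc_32_3 lc_f_rc_40_2 lc_f_rc_37_2 lc_f_rc_37_2 lc_f_rc_27_1 lc_f_rc_6_1 lc_f_rc_27_1 lc_f_rc_21_1 lc_f_Cert_tree lc_f_rc_38_0 lc_f_rc_38_0 lc_f_rc_21_1 lc_f_rc_32_3 lc_f_rc_14_1 lc_f_rc_38_0 lc_f_rc_40_2 lc_f_rc_21_3 lc_f_rc_27_1 lc_f_Cert_tree lc_f_rc_40_2 lc_f_rc_40_2 lc_f_rc_37_2 lc_f_rc_37_2 lc_f_rc_27_1) (@D3.rec (fun _ => (Cert rels S Gen.f)) lc_f_rc_27_1 lc_f_rc_21_1 lc_f_Cert_tree lc_f_rc_38_0 lc_f_rc_37_2 lc_f_rc_37_2 lc_f_rc_37_2 lc_f_rc_27_1 lc_f_rc_27_1 lc_f_Cert_tree lc_f_rc_27_1 lc_f_Cert_tree lc_f_rc_38_0 lc_f_rc_39_2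 lc_f_rc_6_3 lc_f_rc_37_2 lc_f_rc_37_2 lc_f_rc_27_1 lc_f_rc_27_1 lc_f_Cert_tree lc_f_rc_27_1 lc_f_Cert_tree lc_f_rc_38_0 lc_f_rc_39_2 lc_f_rc_27_1 lc_f_rc_40_2 lc_f_rc_37_2 lc_f_rc_37_2 lc_f_rc_27_1 lc_f_rc_27_1 lc_f_rc_21_1 lc_f_Cert_tree) (@D3.rec (fun _ => (Cert rels S Gen.f)) lc_f_rc_38_0 lc_f_rc_6_3 lc_f_rc_14_1 lc_f_rc_37_2 lc_f_rc_27_1 lc_f_rc_27_1 lc_f_rc_21_1 lc_f_Cert_tree lc_f_rc_27_1 lc_f_rc_21_1 lc_f_Cert_tree lc_f_rc_27_1 lc_f_Cert_tree lc_f_rc_38_0 lc_f_rc_37_0 lc_f_rc_27_1 lc_f_rc_27_1 lc_f_rc_27_1 lc_f_rc_21_1 lc_f_Cert_tree lc_f_rc_27_1 lc_f_Cert_tree lc_f_rc_27_1 lc_f_Cert_tree lc_f_rc_38_0 lc_f_Cert_tree lc_f_Cert_tree lc_f_rc_38_0 lc_f_Cert_tree lc_f_rc_38_0 lc_f_rc_39_2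 lc_f_rc_27_1)
def ce_f_15 : D2 → D3 → (Cert rels S Gen.f) := @D2.rec (fun _ => D3 → (Cert rels S Gen.f)) (@D3.rec (fun _ => (Cert rels S Gen.f)) lc_f_rc_27_1 lc_f_rc_27_1 lc_f_rc_32_3 lc_f_rc_39_2 lc_f_rc_21_1 lc_f_rc_38_0 lc_f_rc_21_1 lc_f_rc_21_1 lc_f_rc_32_3 lc_f_rc_21_1 lc_f_rc_6_1 lc_f_rc_27_3 lc_f_rc_21_1 lc_f_rc_27_3 lc_f_rc_14_1 lc_f_rc_6_1 lc_f_rc_21_3 lc_f_rc_21_1 lc_f_rc_37_2 lc_f_rc_27_1 lc_f_rc_27_1 lc_f_rc_21_1 lc_f_rc_37_0 lc_f_rc_21_1 lc_f_rc_6_1 lc_f_rc_27_1 lc_f_rc_27_1 lc_f_rc_21_1 lc_f_rc_14_1 lc_f_rc_40_2 lc_f_rc_37_2 lc_f_rc_14_3) (@D3.rec (fun _ => (Cert rels S Gen.f)) lc_f_rc_32_3 lc_f_rc_38_0 lc_f_rc_32_3 lc_f_rc_21_1 lc_f_rc_32_3 lc_f_rc_14_1 lc_f_rc_21_1 lc_f_rc_37_2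 lc_f_rc_37_2 lc_f_rc_27_1 lc_f_rc_27_1 lc_f_rc_21_1 lc_f_rc_21_1 lc_f_rc_14_1 lc_f_rc_14_1 lc_f_rc_14_1 lc_f_rc_32_3 lc_f_rc_21_1 lc_f_rc_40_2 lc_f_rc_46_33 lc_f_rc_40_2 lc_f_rc_27_1 lc_f_rc_40_0 lc_f_rc_37_2 lc_f_rc_27_1 lc_f_Cert_tree lc_f_rc_27_1 lc_f_rc_21_1 lc_f_rc_21_1 lc_f_Cert_tree lc_f_rc_37_2 lc_f_rc_38_1) (@D3.rec (fun _ => (Cert rels S Gen.f)) lc_f_rc_21_1 lc_f_Cert_tree lc_f_rc_38_0 lc_f_rc_14_1 lc_f_rc_14_3 lc_f_rc_27_1 lc_f_rc_21_1 lc_f_Cert_tree lc_f_Cert_tree lc_f_rc_38_0 lc_f_rc_32_3 lc_f_rc_37_2 lc_f_rc_27_1 lc_f_rc_27_1 lc_f_rc_21_1 lc_f_Cert_tree lc_f_rc_21_1 lc_f_Cert_tree lc_f_rc_38_1 lc_f_Cert_tree lc_f_rc_38_0 lc_f_rc_39_2 lc_f_rc_6_1 lc_f_rc_27_1 lc_f_rc_27_1 lc_f_rc_21_1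 lc_f_rc_21_1 lc_f_rc_6_1 lc_f_rc_38_1 lc_f_rc_21_1 lc_f_rc_6_1 lc_f_rc_21_1) (@D3.rec (fun _ => (Cert rels S Gen.f)) lc_f_rc_14_1 lc_f_rc_14_1 lc_f_rc_14_1 lc_f_rc_6_1 lc_f_rc_6_1 lc_f_rc_37_2 lc_f_rc_32_1 lc_f_rc_27_1 lc_f_rc_6_1 lc_f_rc_27_1 lc_f_rc_21_1 lc_f_Cert_tree lc_f_rc_38_0 lc_f_rc_40_2 lc_f_rc_21_1 lc_f_rc_32_3 lc_f_rc_14_1 lc_f_rc_40_0 lc_f_rc_37_2 lc_f_rc_27_1 lc_f_rc_27_1 lc_f_rc_21_1 lc_f_Cert_tree lc_f_rc_21_1 lc_f_Cert_tree lc_f_Cert_tree lc_f_rc_38_0 lc_f_rc_39_2 lc_f_rc_27_1 lc_f_rc_27_1 lc_f_rc_27_1 lc_f_rc_21_1) (@D3.rec (fun _ => (Cert rels S Gen.f)) lc_f_Cert_tree lc_f_rc_21_1 lc_f_Cert_tree lc_f_rc_14_1 lc_f_Cert_tree lc_f_rc_38_0 lc_f_rc_37_0 lc_f_Cert_tree lc_f_rc_14_1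 lc_f_Cert_tree lc_f_rc_38_0 lc_f_rc_6_1 lc_f_Cert_tree lc_f_rc_38_0 lc_f_rc_39_2 lc_f_rc_39_2 lc_f_rc_21_1 lc_f_rc_21_1 lc_f_rc_21_1 lc_f_rc_14_1 lc_f_rc_14_1 lc_f_rc_6_1 lc_f_rc_14_1 lc_f_rc_21_1 lc_f_rc_6_1 lc_f_rc_27_3 lc_f_rc_21_1 lc_f_rc_21_1 lc_f_rc_39_2 lc_f_rc_14_1 lc_f_rc_6_1 lc_f_rc_14_1) (@D3.rec (fun _ => (Cert rels S Gen.f)) lc_f_rc_40_2 lc_f_rc_27_1 lc_f_rc_14_3 lc_f_rc_6_1 lc_f_rc_37_2 lc_f_rc_14_1 lc_f_rc_14_1 lc_f_rc_37_2 lc_f_rc_27_1 lc_f_Cert_tree lc_f_rc_27_1 lc_f_rc_21_1 lc_f_rc_27_1 lc_f_rc_27_1 lc_f_rc_14_1 lc_f_rc_27_1 lc_f_Cert_tree lc_f_rc_21_1 lc_f_rc_6_1 lc_f_rc_6_1 lc_f_rc_27_1 lc_f_rc_21_1 lc_f_Cert_tree lc_f_rc_37_2 lc_f_rc_37_2 lc_f_rc_27_1 lc_f_rc_27_1 lc_f_rc_21_1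 lc_f_Cert_tree lc_f_rc_38_0 lc_f_rc_21_1 lc_f_rc_14_1) (@D3.rec (fun _ => (Cert rels S Gen.f)) lc_f_rc_27_1 lc_f_rc_27_1 lc_f_Cert_tree lc_f_rc_21_1 lc_f_rc_27_1 lc_f_rc_6_3 lc_f_Cert_tree lc_f_rc_6_3 lc_f_Cert_tree lc_f_rc_38_0 lc_f_rc_37_2 lc_f_rc_27_1 lc_f_rc_6_1 lc_f_Cert_tree lc_f_rc_37_2 lc_f_rc_27_1 lc_f_rc_27_1 lc_f_Cert_tree lc_f_Cert_tree lc_f_rc_38_0 lc_f_rc_6_3 lc_f_rc_37_2 lc_f_rc_27_1 lc_f_rc_27_1 lc_f_rc_14_3 lc_f_Cert_tree lc_f_rc_27_1 lc_f_rc_21_1 lc_f_Cert_tree lc_f_rc_21_1 lc_f_Cert_tree lc_f_rc_38_0) (@D3.rec (fun _ => (Cert rels S Gen.f)) lc_f_rc_39_2 lc_f_rc_6_1 lc_f_rc_21_1 lc_f_rc_27_3 lc_f_rc_6_1 lc_f_rc_21_1 lc_f_rc_6_1 lc_f_rc_6_1 lc_f_rc_6_1 lc_f_rc_6_1 lc_f_rc_27_1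 lc_f_rc_37_2 lc_f_Cert_tree lc_f_rc_6_1 lc_f_rc_6_1 lc_f_rc_14_3 lc_f_rc_27_1 lc_f_Cert_tree lc_f_rc_37_2 lc_f_rc_27_1 lc_f_rc_39_2 lc_f_rc_27_1 lc_f_rc_21_1 lc_f_Cert_tree lc_f_rc_38_0 lc_f_rc_21_1 lc_f_rc_32_3 lc_f_rc_14_1 lc_f_Cert_tree lc_f_Cert_tree lc_f_rc_27_1 lc_f_rc_21_1) (@D3.rec (fun _ => (Cert rels S Gen.f)) lc_f_Cert_tree lc_f_rc_38_0 lc_f_rc_14_1 lc_f_Cert_tree lc_f_rc_37_2 lc_f_rc_37_2 lc_f_rc_27_1 lc_f_rc_27_1 lc_f_rc_6_1 lc_f_Cert_tree lc_f_rc_38_0 lc_f_rc_40_2 lc_f_rc_37_2 lc_f_rc_37_2 lc_f_rc_27_1 lc_f_rc_27_1 lc_f_rc_21_1 lc_f_Cert_tree lc_f_rc_27_1 lc_f_rc_21_1 lc_f_Cert_tree lc_f_rc_14_1 lc_f_Cert_tree lc_f_rc_38_0 lc_f_rc_39_2 lc_f_rc_14_1 lc_f_rc_6_1 lc_f_rc_27_1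 lc_f_rc_21_1 lc_f_Cert_tree lc_f_rc_38_0 lc_f_Cert_tree) (@D3.rec (fun _ => (Cert rels S Gen.f)) lc_f_rc_37_2 lc_f_rc_21_1 lc_f_Cert_tree lc_f_rc_38_0 lc_f_rc_37_2 lc_f_rc_27_1 lc_f_rc_21_1 lc_f_Cert_tree lc_f_rc_27_1 lc_f_rc_21_1 lc_f_Cert_tree lc_f_rc_14_1 lc_f_Cert_tree lc_f_rc_38_0 lc_f_rc_39_2 lc_f_rc_14_1 lc_f_rc_6_1 lc_f_rc_37_2 lc_f_rc_40_2 lc_f_rc_27_1 lc_f_rc_27_1 lc_f_rc_14_1 lc_f_Cert_tree lc_f_rc_38_0 lc_f_rc_40_2 lc_f_rc_14_1 lc_f_rc_37_2 lc_f_rc_27_1 lc_f_rc_27_1 lc_f_rc_21_1 lc_f_Cert_tree lc_f_rc_27_1) (@D3.rec (fun _ => (Cert rels S Gen.f)) lc_f_rc_21_1 lc_f_Cert_tree lc_f_rc_6_1 lc_f_Cert_tree lc_f_rc_38_0 lc_f_rc_39_2 lc_f_rc_37_2 lc_f_rc_27_1 lc_f_rc_27_1 lc_f_rc_21_1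 lc_f_Cert_tree lc_f_rc_21_1 lc_f_Cert_tree lc_f_rc_14_1 lc_f_Cert_tree lc_f_rc_38_0 lc_f_Cert_tree lc_f_rc_14_1 lc_f_Cert_tree lc_f_rc_38_0 lc_f_rc_46_26 lc_f_Cert_tree lc_f_rc_38_0 lc_f_rc_39_2 lc_f_rc_21_1 lc_f_rc_27_3 lc_f_rc_14_1 lc_f_rc_14_1 lc_f_rc_6_1 lc_f_rc_6_1 lc_f_rc_21_1 lc_f_rc_14_1) (@D3.rec (fun _ => (Cert rels S Gen.f)) lc_f_rc_14_1 lc_f_rc_21_1 lc_f_rc_6_1 lc_f_rc_32_1 lc_f_rc_21_3 lc_f_rc_21_3 lc_f_rc_14_1 lc_f_rc_21_1 lc_f_rc_14_1 lc_f_rc_27_1 lc_f_Cert_tree lc_f_rc_38_0 lc_f_rc_39_4 lc_f_Cert_tree lc_f_rc_38_0 lc_f_rc_21_1 lc_f_Cert_tree lc_f_Cert_tree lc_f_rc_38_0 lc_f_Cert_tree lc_f_rc_38_0 lc_f_rc_39_2 lc_f_rc_6_1 lc_f_rc_27_1 lc_f_rc_27_1 lc_f_rc_37_2 lc_f_Cert_tree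 lc_f_rc_32_1 lc_f_rc_6_1 lc_f_rc_37_2 lc_f_rc_27_1 lc_f_rc_21_1) (@D3.rec (fun _ => (Cert rels S Gen.f)) lc_f_Cert_tree lc_f_rc_6_3 lc_f_rc_27_1 lc_f_rc_27_1 lc_f_rc_21_1 lc_f_Cert_tree lc_f_rc_38_0 lc_f_rc_21_1 lc_f_rc_27_3 lc_f_rc_14_1 lc_f_Cert_tree lc_f_rc_21_1 lc_f_Cert_tree lc_f_rc_38_0 lc_f_rc_6_1 lc_f_Cert_tree lc_f_rc_27_1 lc_f_Cert_tree lc_f_Cert_tree lc_f_rc_38_0 lc_f_rc_39_2 lc_f_rc_37_2 lc_f_rc_27_1 lc_f_rc_27_1 lc_f_Cert_tree lc_f_Cert_tree lc_f_rc_38_0 lc_f_rc_39_2 lc_f_rc_37_2 lc_f_rc_21_1 lc_f_Cert_tree lc_f_rc_38_0) (@D3.rec (fun _ => (Cert rels S Gen.f)) lc_f_rc_27_1 lc_f_rc_21_1 lc_f_Cert_tree lc_f_Cert_tree lc_f_rc_38_0 lc_f_rc_27_1 lc_f_rc_27_1 lc_f_Cert_tree lc_f_Cert_tree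 lc_f_rc_38_0 lc_f_rc_39_2 lc_f_rc_40_2 lc_f_rc_37_2 lc_f_rc_6_3 lc_f_Cert_tree lc_f_Cert_tree lc_f_rc_38_0 lc_f_rc_37_2 lc_f_rc_37_2 lc_f_rc_27_1 lc_f_rc_27_1 lc_f_rc_21_1 lc_f_Cert_tree lc_f_rc_21_1 lc_f_Cert_tree lc_f_Cert_tree lc_f_rc_38_0 lc_f_Cert_tree lc_f_rc_38_0 lc_f_rc_39_2 lc_f_rc_27_1 lc_f_rc_27_1) (@D3.rec (fun _ => (Cert rels S Gen.f)) lc_f_rc_27_1 lc_f_rc_21_1 lc_f_Cert_tree lc_f_rc_27_1 lc_f_Cert_tree lc_f_Cert_tree lc_f_rc_38_0 lc_f_Cert_tree lc_f_Cert_tree lc_f_rc_38_0 lc_f_rc_38_0 lc_f_rc_39_2 lc_f_rc_27_1 lc_f_rc_32_1 lc_f_rc_38_0 lc_f_rc_27_1 lc_f_rc_6_1 lc_f_rc_37_2 lc_f_rc_40_2 lc_f_Cert_tree lc_f_rc_37_2 lc_f_Cert_tree lc_f_rc_38_0 lc_f_rc_38_0 lc_f_rc_40_2 lc_f_rc_39_2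 lc_f_rc_27_1 lc_f_rc_37_2 lc_f_rc_21_1 lc_f_Cert_tree lc_f_rc_21_1 lc_f_Cert_tree) (@D3.rec (fun _ => (Cert rels S Gen.f)) lc_f_Cert_tree lc_f_rc_38_0 lc_f_rc_39_2 lc_f_rc_37_2 lc_f_rc_27_1 lc_f_Cert_tree lc_f_Cert_tree lc_f_rc_38_0 lc_f_rc_38_0 lc_f_rc_39_2 lc_f_rc_21_1 lc_f_Cert_tree lc_f_rc_38_0 lc_f_rc_21_1 lc_f_rc_32_1 lc_f_rc_37_0 lc_f_Cert_tree lc_f_rc_37_2 lc_f_rc_32_1 lc_f_rc_27_1 lc_f_rc_27_1 lc_f_rc_21_1 lc_f_Cert_tree lc_f_rc_38_0 lc_f_rc_37_2 lc_f_rc_37_2 lc_f_rc_27_1 lc_f_rc_27_1 lc_f_rc_21_1 lc_f_Cert_tree lc_f_rc_27_1 lc_f_rc_21_1) (@D3.rec (fun _ => (Cert rels S Gen.f)) lc_f_Cert_tree lc_f_rc_14_1 lc_f_Cert_tree lc_f_rc_38_0 lc_f_rc_39_2 lc_f_rc_14_3 lc_f_rc_14_1 lc_f_rc_37_2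 lc_f_rc_6_1 lc_f_rc_39_2 lc_f_rc_40_2 lc_f_rc_27_1 lc_f_rc_21_1 lc_f_Cert_tree lc_f_rc_38_0 lc_f_rc_40_2 lc_f_rc_37_2 lc_f_rc_27_1 lc_f_rc_27_1 lc_f_rc_21_1 lc_f_Cert_tree lc_f_rc_21_1 lc_f_Cert_tree lc_f_Cert_tree lc_f_rc_38_0 lc_f_rc_39_2 lc_f_rc_27_1 lc_f_rc_37_2 lc_f_rc_27_1 lc_f_Cert_tree lc_f_Cert_tree lc_f_rc_38_0) (@D3.rec (fun _ => (Cert rels S Gen.f)) lc_f_Cert_tree lc_f_rc_38_0 lc_f_rc_39_2 lc_f_rc_27_1 lc_f_rc_27_1 lc_f_rc_27_1 lc_f_Cert_tree lc_f_Cert_tree lc_f_rc_38_0 lc_f_Cert_tree lc_f_rc_38_0 lc_f_rc_39_2 lc_f_rc_37_2 lc_f_rc_37_2 lc_f_rc_27_1 lc_f_rc_27_1 lc_f_rc_21_1 lc_f_Cert_tree lc_f_rc_21_1 lc_f_Cert_tree lc_f_rc_6_1 lc_f_Cert_tree lc_f_rc_38_0 lc_f_rc_39_2 lc_f_rc_27_1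 lc_f_rc_27_1 lc_f_rc_27_1 lc_f_rc_21_1 lc_f_Cert_tree lc_f_rc_14_1 lc_f_Cert_tree lc_f_rc_37_2) (@D3.rec (fun _ => (Cert rels S Gen.f)) lc_f_Cert_tree lc_f_rc_38_0 lc_f_Cert_tree lc_f_Cert_tree lc_f_rc_38_0 lc_f_Cert_tree lc_f_rc_38_0 lc_f_rc_39_2 lc_f_rc_21_1 lc_f_Cert_tree lc_f_Cert_tree lc_f_Cert_tree lc_f_Cert_tree lc_f_rc_38_0 lc_f_Cert_tree lc_f_rc_38_0 lc_f_Cert_tree lc_f_Cert_tree lc_f_rc_38_0 lc_f_rc_39_2 lc_f_rc_38_0 lc_f_rc_38_0 lc_f_rc_39_2 lc_f_rc_38_0 lc_f_rc_39_2 lc_f_rc_21_1 lc_f_rc_14_1 lc_f_rc_46_40 lc_f_rc_27_3 lc_f_rc_27_3 lc_f_rc_6_1 lc_f_rc_27_1) (@D3.rec (fun _ => (Cert rels S Gen.f)) lc_f_rc_27_1 lc_f_rc_21_1 lc_f_rc_27_3 lc_f_rc_6_1 lc_f_rc_21_1 lc_f_rc_14_3 lc_f_rc_37_2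 lc_f_rc_6_3 lc_f_rc_14_1 lc_f_rc_6_1 lc_f_rc_6_1 lc_f_rc_46_19 lc_f_rc_27_1 lc_f_rc_21_1 lc_f_rc_21_1 lc_f_rc_14_1 lc_f_rc_14_1 lc_f_rc_21_1 lc_f_rc_21_3 lc_f_rc_21_1 lc_f_rc_40_2 lc_f_rc_21_1 lc_f_Cert_tree lc_f_rc_40_0 lc_f_rc_27_1 lc_f_rc_21_1 lc_f_Cert_tree lc_f_rc_38_0 lc_f_rc_21_1 lc_f_rc_32_3 lc_f_rc_14_1 lc_f_Cert_tree) (@D3.rec (fun _ => (Cert rels S Gen.f)) lc_f_rc_38_0 lc_f_rc_37_2 lc_f_rc_21_1 lc_f_Cert_tree lc_f_rc_14_1 lc_f_Cert_tree lc_f_rc_38_0 lc_f_rc_39_2 lc_f_rc_27_1 lc_f_rc_21_1 lc_f_Cert_tree lc_f_rc_14_1 lc_f_Cert_tree lc_f_rc_38_0 lc_f_Cert_tree lc_f_rc_38_0 lc_f_rc_37_2 lc_f_rc_27_1 lc_f_rc_27_1 lc_f_rc_21_1 lc_f_Cert_tree lc_f_rc_21_1 lc_f_Cert_tree lc_f_rc_37_2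 lc_f_Cert_tree lc_f_rc_38_0 lc_f_Cert_tree lc_f_rc_38_0 lc_f_rc_6_1 lc_f_Cert_tree lc_f_rc_38_0 lc_f_rc_39_2) (@D3.rec (fun _ => (Cert rels S Gen.f)) lc_f_rc_21_1 lc_f_rc_40_2 lc_f_rc_21_1 lc_f_rc_6_1 lc_f_rc_27_3 lc_f_rc_21_1 lc_f_rc_46_33 lc_f_rc_14_1 lc_f_rc_14_1 lc_f_rc_6_1 lc_f_rc_40_2 lc_f_rc_27_1 lc_f_rc_27_1 lc_f_rc_21_1 lc_f_Cert_tree lc_f_rc_6_1 lc_f_rc_21_1 lc_f_Cert_tree lc_f_rc_14_1 lc_f_Cert_tree lc_f_rc_38_0 lc_f_rc_39_2 lc_f_rc_14_3 lc_f_rc_14_1 lc_f_rc_32_3 lc_f_rc_6_1 lc_f_rc_27_1 lc_f_rc_27_1 lc_f_rc_21_1 lc_f_Cert_tree lc_f_rc_21_1 lc_f_Cert_tree)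
def ce_f_16 : D2 → D3 → (Cert rels S Gen.f) := @D2.rec (fun _ => D3 → (Cert rels S Gen.f)) (@D3.rec (fun _ => (Cert rels S Gen.f)) lc_f_Cert_tree lc_f_rc_38_0 lc_f_Cert_tree lc_f_rc_38_0 lc_f_rc_38_0 lc_f_rc_40_2 lc_f_rc_21_1 lc_f_Cert_tree lc_f_rc_21_1 lc_f_Cert_tree lc_f_rc_21_1 lc_f_Cert_tree lc_f_rc_14_1 lc_f_Cert_tree lc_f_rc_38_0 lc_f_rc_14_1 lc_f_Cert_tree lc_f_rc_38_0 lc_f_rc_6_1 lc_f_Cert_tree lc_f_Cert_tree lc_f_rc_38_0 lc_f_rc_39_2 lc_f_Cert_tree lc_f_rc_38_0 lc_f_Cert_tree lc_f_Cert_tree lc_f_rc_38_0 lc_f_rc_39_2 lc_f_Cert_tree lc_f_rc_38_0 lc_f_rc_21_1) (@D3.rec (fun _ => (Cert rels S Gen.f)) lc_f_rc_6_1 lc_f_rc_14_1 lc_f_rc_21_1 lc_f_rc_14_3 lc_f_rc_21_1 lc_f_rc_27_3 lc_f_rc_21_1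 lc_f_rc_21_1 lc_f_rc_27_1 lc_f_rc_6_1 lc_f_rc_27_1 lc_f_rc_6_1 lc_f_rc_37_0 lc_f_rc_21_1 lc_f_Cert_tree lc_f_rc_27_1 lc_f_rc_27_1 lc_f_rc_21_1 lc_f_Cert_tree lc_f_rc_38_0 lc_f_rc_21_1 lc_f_rc_32_3 lc_f_rc_14_1 lc_f_Cert_tree lc_f_rc_21_1 lc_f_Cert_tree lc_f_rc_27_1 lc_f_rc_21_1 lc_f_Cert_tree lc_f_rc_38_0 lc_f_rc_6_1 lc_f_Cert_tree) (@D3.rec (fun _ => (Cert rels S Gen.f)) lc_f_rc_27_1 lc_f_Cert_tree lc_f_Cert_tree lc_f_rc_38_0 lc_f_rc_27_1 lc_f_rc_37_2 lc_f_rc_21_1 lc_f_Cert_tree lc_f_rc_21_1 lc_f_Cert_tree lc_f_rc_14_1 lc_f_Cert_tree lc_f_rc_38_0 lc_f_rc_39_2 lc_f_Cert_tree lc_f_rc_21_1 lc_f_Cert_tree lc_f_rc_38_0 lc_f_Cert_tree lc_f_Cert_tree lc_f_rc_38_0 lc_f_Cert_tree lc_f_rc_38_0 lc_f_rc_39_2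 lc_f_rc_37_2 lc_f_Cert_tree lc_f_Cert_tree lc_f_rc_38_0 lc_f_rc_27_1 lc_f_Cert_tree lc_f_Cert_tree lc_f_rc_38_0) (@D3.rec (fun _ => (Cert rels S Gen.f)) lc_f_Cert_tree lc_f_rc_38_0 lc_f_rc_39_2 lc_f_rc_37_2 lc_f_rc_27_1 lc_f_Cert_tree lc_f_rc_21_1 lc_f_Cert_tree lc_f_rc_27_1 lc_f_Cert_tree lc_f_rc_38_0 lc_f_Cert_tree lc_f_Cert_tree lc_f_rc_38_0 lc_f_rc_6_1 lc_f_Cert_tree lc_f_rc_38_0 lc_f_rc_39_2 lc_f_rc_6_1 lc_f_rc_6_1 lc_f_rc_6_1 lc_f_Cert_tree lc_f_Cert_tree lc_f_rc_38_0 lc_f_rc_27_1 lc_f_Cert_tree lc_f_rc_27_1 lc_f_Cert_tree lc_f_rc_38_0 lc_f_rc_27_1 lc_f_rc_21_1 lc_f_Cert_tree) (@D3.rec (fun _ => (Cert rels S Gen.f)) lc_f_rc_6_1 lc_f_rc_21_1 lc_f_Cert_tree lc_f_rc_14_1 lc_f_Cert_tree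 lc_f_rc_38_0 lc_f_rc_39_2 lc_f_rc_32_3 lc_f_rc_27_3 lc_f_rc_38_0 lc_f_rc_38_0 lc_f_rc_21_1 lc_f_Cert_tree lc_f_rc_14_1 lc_f_Cert_tree lc_f_rc_38_0 lc_f_rc_39_2 lc_f_rc_38_0 lc_f_rc_27_1 lc_f_rc_37_2 lc_f_rc_6_1 lc_f_Cert_tree lc_f_Cert_tree lc_f_Cert_tree lc_f_rc_38_0 lc_f_rc_39_2 lc_f_rc_6_1 lc_f_rc_37_2 lc_f_rc_27_1 lc_f_rc_21_1 lc_f_Cert_tree lc_f_rc_21_1) (@D3.rec (fun _ => (Cert rels S Gen.f)) lc_f_Cert_tree lc_f_rc_14_1 lc_f_Cert_tree lc_f_rc_38_0 lc_f_Cert_tree lc_f_rc_14_1 lc_f_Cert_tree lc_f_rc_38_0 lc_f_rc_6_1 lc_f_Cert_tree lc_f_rc_38_0 lc_f_rc_39_2 lc_f_rc_21_1 lc_f_Cert_tree lc_f_Cert_tree lc_f_rc_38_0 lc_f_rc_39_2 lc_f_rc_38_0 lc_f_rc_21_1 lc_f_Cert_tree lc_f_rc_14_1 lc_f_Cert_tree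 lc_f_rc_38_0 lc_f_rc_39_2 lc_f_rc_27_1 lc_f_rc_21_1 lc_f_Cert_tree lc_f_rc_14_1 lc_f_Cert_tree lc_f_rc_38_0 lc_f_Cert_tree lc_f_rc_14_1) (@D3.rec (fun _ => (Cert rels S Gen.f)) lc_f_Cert_tree lc_f_rc_38_0 lc_f_rc_6_1 lc_f_Cert_tree lc_f_rc_38_0 lc_f_rc_39_2 lc_f_rc_27_1 lc_f_rc_40_2 lc_f_rc_14_1 lc_f_Cert_tree lc_f_Cert_tree lc_f_Cert_tree lc_f_rc_38_0 lc_f_rc_6_1 lc_f_rc_40_2 lc_f_rc_27_1 lc_f_rc_27_1 lc_f_rc_21_1 lc_f_Cert_tree lc_f_rc_21_1 lc_f_Cert_tree lc_f_rc_6_1 lc_f_Cert_tree lc_f_rc_38_0 lc_f_rc_21_1 lc_f_Cert_tree lc_f_Cert_tree lc_f_rc_38_0 lc_f_Cert_tree lc_f_rc_38_0 lc_f_rc_39_2 lc_f_Cert_tree) (@D3.rec (fun _ => (Cert rels S Gen.f)) lc_f_Cert_tree lc_f_rc_21_1 lc_f_Cert_tree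 lc_f_rc_14_1 lc_f_Cert_tree lc_f_rc_38_0 lc_f_rc_14_1 lc_f_Cert_tree lc_f_rc_38_0 lc_f_rc_6_1 lc_f_Cert_tree lc_f_Cert_tree lc_f_rc_38_0 lc_f_rc_39_2 lc_f_rc_38_0 lc_f_Cert_tree lc_f_rc_38_0 lc_f_rc_39_2 lc_f_Cert_tree lc_f_rc_38_0 lc_f_rc_21_1 lc_f_rc_14_1 lc_f_rc_40_0 lc_f_rc_6_1 lc_f_rc_14_1 lc_f_rc_40_2 lc_f_rc_39_4 lc_f_rc_21_3 lc_f_rc_32_3 lc_f_rc_21_3 lc_f_rc_14_1 lc_f_rc_38_0) (@D3.rec (fun _ => (Cert rels S Gen.f)) lc_f_rc_39_2 lc_f_Cert_tree lc_f_rc_38_0 lc_f_rc_39_2 lc_f_Cert_tree lc_f_rc_38_0 lc_f_rc_38_0 lc_f_rc_39_2 lc_f_rc_38_0 lc_f_rc_39_2 lc_f_rc_39_2 lc_f_Cert_tree lc_f_rc_21_1 lc_f_Cert_tree lc_f_Cert_tree lc_f_rc_38_0 lc_f_rc_27_1 lc_f_rc_6_1 lc_f_Cert_tree lc_f_rc_27_1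 lc_f_rc_21_1 lc_f_Cert_tree lc_f_Cert_tree lc_f_rc_38_0 lc_f_rc_6_3 lc_f_Cert_tree lc_f_rc_21_1 lc_f_Cert_tree lc_f_rc_14_1 lc_f_Cert_tree lc_f_rc_38_0 lc_f_rc_39_2) (@D3.rec (fun _ => (Cert rels S Gen.f)) lc_f_rc_14_1 lc_f_rc_40_0 lc_f_rc_6_1 lc_f_rc_38_0 lc_f_Cert_tree lc_f_rc_38_0 lc_f_rc_39_2 lc_f_Cert_tree lc_f_rc_38_0 lc_f_Cert_tree lc_f_rc_38_0 lc_f_rc_38_0 lc_f_rc_39_2 lc_f_rc_6_3 lc_f_rc_27_1 lc_f_Cert_tree lc_f_Cert_tree lc_f_rc_38_0 lc_f_rc_38_0 lc_f_rc_39_2 lc_f_rc_21_1 lc_f_Cert_tree lc_f_Cert_tree lc_f_rc_38_0 lc_f_rc_39_2 lc_f_rc_21_1 lc_f_Cert_tree lc_f_Cert_tree lc_f_rc_38_0 lc_f_Cert_tree lc_f_rc_38_0 lc_f_rc_39_2) (@D3.rec (fun _ => (Cert rels S Gen.f)) lc_f_Cert_tree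 lc_f_Cert_tree lc_f_rc_38_0 lc_f_rc_38_0 lc_f_rc_39_2 lc_f_rc_6_3 lc_f_rc_6_3 lc_f_Cert_tree lc_f_Cert_tree lc_f_rc_38_0 lc_f_rc_38_0 lc_f_rc_37_0 lc_f_rc_37_0 lc_f_rc_27_1 lc_f_rc_21_1 lc_f_Cert_tree lc_f_rc_21_1 lc_f_Cert_tree lc_f_Cert_tree lc_f_rc_38_0 lc_f_Cert_tree lc_f_rc_38_0 lc_f_rc_38_0 lc_f_rc_39_2 lc_f_rc_38_0 lc_f_rc_38_1 lc_f_rc_21_1 lc_f_Cert_tree lc_f_Cert_tree lc_f_Cert_tree lc_f_Cert_tree lc_f_rc_38_0) (@D3.rec (fun _ => (Cert rels S Gen.f)) lc_f_Cert_tree lc_f_rc_38_0 lc_f_Cert_tree lc_f_rc_38_0 lc_f_rc_39_2 lc_f_rc_38_0 lc_f_rc_38_0 lc_f_rc_39_2 lc_f_rc_39_2 lc_f_rc_37_0 lc_f_rc_38_0 lc_f_rc_37_2 lc_f_rc_40_2 lc_f_rc_38_0 lc_f_Cert_tree lc_f_rc_38_0 lc_f_rc_40_2 lc_f_rc_39_2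 lc_f_rc_21_1 lc_f_Cert_tree lc_f_rc_21_1 lc_f_Cert_tree lc_f_Cert_tree lc_f_rc_38_0 lc_f_Cert_tree lc_f_rc_38_0 lc_f_rc_38_0 lc_f_rc_39_2 lc_f_Cert_tree lc_f_Cert_tree lc_f_rc_38_0 lc_f_rc_38_0) (@D3.rec (fun _ => (Cert rels S Gen.f)) lc_f_rc_6_1 lc_f_rc_39_2 lc_f_rc_21_3 lc_f_Cert_tree lc_f_rc_38_0 lc_f_rc_39_2 lc_f_rc_21_1 lc_f_rc_27_1 lc_f_Cert_tree lc_f_rc_38_0 lc_f_rc_27_1 lc_f_rc_27_1 lc_f_rc_21_1 lc_f_Cert_tree lc_f_Cert_tree lc_f_rc_21_3 lc_f_Cert_tree lc_f_rc_38_0 lc_f_rc_39_2 lc_f_rc_27_1 lc_f_rc_27_1 lc_f_rc_21_1 lc_f_Cert_tree lc_f_rc_21_1 lc_f_Cert_tree lc_f_rc_14_1 lc_f_Cert_tree lc_f_rc_38_0 lc_f_rc_6_1 lc_f_Cert_tree lc_f_rc_14_1 lc_f_Cert_tree) (@D3.rec (fun _ => (Cert rels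 S Gen.f)) lc_f_rc_38_0 lc_f_rc_6_1 lc_f_Cert_tree lc_f_rc_38_0 lc_f_rc_39_2 lc_f_rc_6_1 lc_f_rc_6_3 lc_f_rc_27_1 lc_f_rc_21_1 lc_f_Cert_tree lc_f_rc_14_1 lc_f_Cert_tree lc_f_rc_38_0 lc_f_rc_39_2 lc_f_rc_27_1 lc_f_rc_27_1 lc_f_rc_21_1 lc_f_Cert_tree lc_f_rc_14_1 lc_f_Cert_tree lc_f_Cert_tree lc_f_rc_38_0 lc_f_Cert_tree lc_f_rc_38_0 lc_f_rc_38_0 lc_f_rc_40_2 lc_f_rc_21_1 lc_f_Cert_tree lc_f_Cert_tree lc_f_Cert_tree lc_f_rc_38_0 lc_f_rc_38_0) (@D3.rec (fun _ => (Cert rels S Gen.f)) lc_f_rc_39_2 lc_f_rc_38_0 lc_f_rc_39_2 lc_f_rc_21_1 lc_f_Cert_tree lc_f_Cert_tree lc_f_Cert_tree lc_f_rc_38_0 lc_f_rc_38_0 lc_f_rc_39_2 lc_f_rc_38_0 lc_f_rc_39_2 lc_f_rc_37_0 lc_f_rc_27_1 lc_f_rc_21_1 lc_f_Cert_tree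 lc_f_rc_21_1 lc_f_Cert_tree lc_f_rc_6_1 lc_f_Cert_tree lc_f_rc_38_0 lc_f_Cert_tree lc_f_rc_38_0 lc_f_Cert_tree lc_f_rc_38_0 lc_f_rc_39_2 lc_f_rc_21_1 lc_f_Cert_tree lc_f_Cert_tree lc_f_Cert_tree lc_f_Cert_tree lc_f_rc_38_0) (@D3.rec (fun _ => (Cert rels S Gen.f)) lc_f_Cert_tree lc_f_rc_38_0 lc_f_Cert_tree lc_f_Cert_tree lc_f_rc_38_0 lc_f_rc_39_2 lc_f_rc_38_0 lc_f_rc_38_0 lc_f_rc_39_2 lc_f_rc_38_0 lc_f_rc_21_1 lc_f_Cert_tree lc_f_rc_38_0 lc_f_rc_38_0 lc_f_rc_38_0 lc_f_rc_38_0 lc_f_rc_39_2 lc_f_rc_38_0 lc_f_rc_39_2 lc_f_rc_38_0 lc_f_rc_38_0 lc_f_rc_39_2 lc_f_rc_39_2 lc_f_rc_39_2 lc_f_rc_39_2 lc_f_rc_27_3 lc_f_rc_39_2 lc_f_rc_40_2 lc_f_rc_6_3 lc_f_rc_6_3 lc_f_rc_6_1 lc_f_rc_14_1) (@D3.rec (fun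 _ => (Cert rels S Gen.f)) lc_f_rc_21_1 lc_f_rc_14_1 lc_f_rc_14_1 lc_f_rc_14_1 lc_f_rc_21_1 lc_f_Cert_tree lc_f_Cert_tree lc_f_rc_38_0 lc_f_rc_21_1 lc_f_Cert_tree lc_f_rc_21_1 lc_f_Cert_tree lc_f_rc_14_1 lc_f_Cert_tree lc_f_rc_38_0 lc_f_rc_39_2 lc_f_rc_14_1 lc_f_rc_32_3 lc_f_rc_6_1 lc_f_Cert_tree lc_f_rc_38_0 lc_f_rc_39_2 lc_f_rc_21_1 lc_f_Cert_tree lc_f_rc_14_1 lc_f_Cert_tree lc_f_rc_38_0 lc_f_Cert_tree lc_f_rc_38_0 lc_f_rc_39_2 lc_f_rc_21_1 lc_f_Cert_tree) (@D3.rec (fun _ => (Cert rels S Gen.f)) lc_f_rc_14_1 lc_f_Cert_tree lc_f_rc_38_0 lc_f_Cert_tree lc_f_Cert_tree lc_f_rc_38_0 lc_f_rc_39_2 lc_f_rc_38_0 lc_f_rc_38_1 lc_f_rc_21_1 lc_f_Cert_tree lc_f_rc_21_1 lc_f_Cert_tree lc_f_Cert_tree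 lc_f_rc_38_0 lc_f_rc_40_2 lc_f_Cert_tree lc_f_rc_38_0 lc_f_rc_6_1 lc_f_Cert_tree lc_f_Cert_tree lc_f_rc_38_0 lc_f_rc_39_2 lc_f_rc_38_0 lc_f_rc_39_2 lc_f_rc_6_3 lc_f_rc_38_0 lc_f_rc_21_1 lc_f_rc_40_2 lc_f_rc_39_0 lc_f_rc_21_1 lc_f_rc_32_3) (@D3.rec (fun _ => (Cert rels S Gen.f)) lc_f_rc_32_5 lc_f_rc_14_1 lc_f_rc_14_1 lc_f_rc_40_2 lc_f_rc_21_1 lc_f_Cert_tree lc_f_rc_21_1 lc_f_Cert_tree lc_f_rc_14_1 lc_f_Cert_tree lc_f_rc_38_0 lc_f_rc_6_1 lc_f_Cert_tree lc_f_rc_14_1 lc_f_Cert_tree lc_f_rc_38_0 lc_f_rc_6_1 lc_f_Cert_tree lc_f_rc_38_0 lc_f_rc_39_2 lc_f_rc_6_1 lc_f_rc_32_5 lc_f_rc_21_1 lc_f_Cert_tree lc_f_rc_21_1 lc_f_Cert_tree lc_f_Cert_tree lc_f_rc_38_0 lc_f_Cert_tree lc_f_rc_38_0 lc_f_Cert_tree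 lc_f_rc_38_0) (@D3.rec (fun _ => (Cert rels S Gen.f)) lc_f_rc_32_5 lc_f_rc_38_0 lc_f_rc_40_2 lc_f_rc_21_1 lc_f_Cert_tree lc_f_rc_38_0 lc_f_Cert_tree lc_f_rc_38_0 lc_f_rc_14_1 lc_f_Cert_tree lc_f_rc_38_0 lc_f_Cert_tree lc_f_Cert_tree lc_f_rc_38_0 lc_f_rc_39_2 lc_f_rc_21_1 lc_f_Cert_tree lc_f_Cert_tree lc_f_rc_38_0 lc_f_rc_39_2 lc_f_Cert_tree lc_f_Cert_tree lc_f_rc_38_0 lc_f_rc_38_0 lc_f_rc_21_1 lc_f_rc_38_0 lc_f_rc_39_2 lc_f_rc_38_0 lc_f_rc_38_0 lc_f_rc_38_1 lc_f_rc_21_1 lc_f_rc_38_0) (@D3.rec (fun _ => (Cert rels S Gen.f)) lc_f_rc_14_1 lc_f_rc_21_1 lc_f_rc_27_3 lc_f_rc_21_1 lc_f_rc_21_1 lc_f_rc_27_1 lc_f_rc_6_1 lc_f_Cert_tree lc_f_rc_21_1 lc_f_Cert_tree lc_f_Cert_tree lc_f_rc_38_0 lc_f_rc_21_1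 lc_f_Cert_tree lc_f_rc_21_1 lc_f_Cert_tree lc_f_rc_14_1 lc_f_Cert_tree lc_f_rc_38_0 lc_f_rc_6_3 lc_f_rc_14_1 lc_f_rc_32_3 lc_f_rc_40_2 lc_f_rc_38_0 lc_f_Cert_tree lc_f_rc_38_0 lc_f_rc_21_1 lc_f_Cert_tree lc_f_Cert_tree lc_f_rc_38_0 lc_f_rc_39_2 lc_f_Cert_tree) (@D3.rec (fun _ => (Cert rels S Gen.f)) lc_f_rc_38_0 lc_f_Cert_tree lc_f_rc_38_0 lc_f_Cert_tree lc_f_rc_38_0 lc_f_rc_39_2 lc_f_rc_21_1 lc_f_Cert_tree lc_f_rc_21_1 lc_f_Cert_tree lc_f_rc_14_1 lc_f_Cert_tree lc_f_rc_38_0 lc_f_Cert_tree lc_f_rc_38_0 lc_f_Cert_tree lc_f_rc_38_0 lc_f_rc_39_2 lc_f_rc_38_0 lc_f_Cert_tree lc_f_rc_38_0 lc_f_rc_39_2 lc_f_rc_38_0 lc_f_rc_38_0 lc_f_rc_39_2 lc_f_rc_38_0 lc_f_rc_39_2 lc_f_Cert_tree lc_f_rc_38_0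 lc_f_rc_38_0 lc_f_rc_6_1 lc_f_Cert_tree)
def ce_f_17 : D2 → D3 → (Cert rels S Gen.f) := @D2.rec (fun _ => D3 → (Cert rels S Gen.f)) (@D3.rec (fun _ => (Cert rels S Gen.f)) lc_f_rc_38_0 lc_f_rc_38_0 lc_f_rc_39_2 lc_f_rc_38_0 lc_f_rc_38_1 lc_f_rc_21_1 lc_f_Cert_tree lc_f_Cert_tree lc_f_rc_38_0 lc_f_Cert_tree lc_f_rc_38_0 lc_f_rc_6_1 lc_f_Cert_tree lc_f_rc_38_0 lc_f_rc_6_3 lc_f_rc_38_0 lc_f_rc_38_0 lc_f_rc_39_2 lc_f_Cert_tree lc_f_rc_38_0 lc_f_rc_21_1 lc_f_rc_6_1 lc_f_rc_38_0 lc_f_rc_38_0 lc_f_rc_39_2 lc_f_Cert_tree lc_f_rc_38_0 lc_f_Cert_tree lc_f_rc_38_0 lc_f_rc_39_2 lc_f_rc_21_1 lc_f_Cert_tree) (@D3.rec (fun _ => (Cert rels S Gen.f)) lc_f_rc_14_1 lc_f_Cert_tree lc_f_rc_38_0 lc_f_Cert_tree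 lc_f_Cert_tree lc_f_rc_38_0 lc_f_rc_21_1 lc_f_Cert_tree lc_f_rc_38_0 lc_f_rc_6_3 lc_f_rc_32_5 lc_f_rc_40_2 lc_f_rc_39_2 lc_f_rc_14_1 lc_f_Cert_tree lc_f_rc_38_0 lc_f_Cert_tree lc_f_rc_38_0 lc_f_rc_39_2 lc_f_rc_39_2 lc_f_Cert_tree lc_f_rc_21_1 lc_f_Cert_tree lc_f_Cert_tree lc_f_rc_38_0 lc_f_rc_38_0 lc_f_rc_38_0 lc_f_rc_39_2 lc_f_rc_21_1 lc_f_Cert_tree lc_f_Cert_tree lc_f_rc_21_1) (@D3.rec (fun _ => (Cert rels S Gen.f)) lc_f_Cert_tree lc_f_rc_14_1 lc_f_Cert_tree lc_f_rc_38_0 lc_f_rc_14_1 lc_f_Cert_tree lc_f_rc_38_0 lc_f_rc_6_1 lc_f_Cert_tree lc_f_Cert_tree lc_f_rc_38_0 lc_f_rc_39_2 lc_f_rc_38_0 lc_f_Cert_tree lc_f_rc_38_0 lc_f_rc_39_2 lc_f_Cert_tree lc_f_rc_38_0 lc_f_rc_21_1 lc_f_Cert_tree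 lc_f_rc_38_0 lc_f_rc_38_0 lc_f_rc_39_2 lc_f_rc_6_1 lc_f_rc_14_1 lc_f_Cert_tree lc_f_rc_38_0 lc_f_Cert_tree lc_f_rc_38_0 lc_f_rc_39_2 lc_f_Cert_tree lc_f_rc_14_1) (@D3.rec (fun _ => (Cert rels S Gen.f)) lc_f_Cert_tree lc_f_rc_38_0 lc_f_rc_6_1 lc_f_Cert_tree lc_f_rc_38_0 lc_f_rc_39_2 lc_f_rc_38_0 lc_f_Cert_tree lc_f_Cert_tree lc_f_rc_38_0 lc_f_rc_39_2 lc_f_rc_38_0 lc_f_rc_21_1 lc_f_Cert_tree lc_f_rc_21_1 lc_f_Cert_tree lc_f_Cert_tree lc_f_rc_38_0 lc_f_rc_38_0 lc_f_rc_38_0 lc_f_rc_40_0 lc_f_rc_21_1 lc_f_Cert_tree lc_f_rc_21_1 lc_f_Cert_tree lc_f_rc_21_1 lc_f_Cert_tree lc_f_Cert_tree lc_f_rc_38_0 lc_f_rc_6_1 lc_f_Cert_tree lc_f_rc_38_0) (@D3.rec (fun _ => (Cert rels S Gen.f)) lc_f_Cert_tree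 lc_f_Cert_tree lc_f_rc_38_0 lc_f_rc_39_2 lc_f_Cert_tree lc_f_rc_38_0 lc_f_Cert_tree lc_f_rc_38_0 lc_f_rc_39_2 lc_f_rc_38_0 lc_f_rc_21_1 lc_f_rc_38_0 lc_f_rc_38_0 lc_f_rc_14_1 lc_f_Cert_tree lc_f_rc_38_0 lc_f_Cert_tree lc_f_rc_38_0 lc_f_rc_39_2 lc_f_rc_37_0 lc_f_Cert_tree lc_f_Cert_tree lc_f_rc_38_0 lc_f_rc_40_2 lc_f_Cert_tree lc_f_Cert_tree lc_f_rc_38_0 lc_f_rc_38_0 lc_f_rc_21_1 lc_f_rc_39_2 lc_f_rc_38_0 lc_f_rc_21_1) (@D3.rec (fun _ => (Cert rels S Gen.f)) lc_f_rc_38_0 lc_f_rc_14_1 lc_f_rc_40_0 lc_f_rc_40_2 lc_f_rc_37_0 lc_f_rc_21_1 lc_f_rc_6_1 lc_f_rc_27_1 lc_f_rc_14_1 lc_f_rc_6_3 lc_f_rc_38_0 lc_f_rc_39_2 lc_f_rc_38_0 lc_f_rc_39_2 lc_f_rc_21_1 lc_f_rc_40_0 lc_f_rc_38_0 lc_f_Cert_tree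 lc_f_rc_38_0 lc_f_rc_38_0 lc_f_rc_39_2 lc_f_rc_21_1 lc_f_Cert_tree lc_f_Cert_tree lc_f_rc_38_0 lc_f_rc_21_1 lc_f_Cert_tree lc_f_rc_14_1 lc_f_Cert_tree lc_f_rc_38_0 lc_f_Cert_tree lc_f_rc_38_0) (@D3.rec (fun _ => (Cert rels S Gen.f)) lc_f_rc_39_2 lc_f_Cert_tree lc_f_rc_38_0 lc_f_rc_14_1 lc_f_Cert_tree lc_f_rc_38_0 lc_f_rc_6_1 lc_f_Cert_tree lc_f_rc_38_0 lc_f_rc_39_2 lc_f_rc_6_1 lc_f_rc_21_1 lc_f_rc_40_0 lc_f_rc_39_2 lc_f_rc_38_0 lc_f_rc_39_2 lc_f_rc_38_0 lc_f_rc_39_2 lc_f_rc_38_0 lc_f_rc_39_2 lc_f_rc_21_1 lc_f_Cert_tree lc_f_Cert_tree lc_f_rc_38_0 lc_f_rc_38_0 lc_f_rc_39_2 lc_f_rc_39_2 lc_f_Cert_tree lc_f_rc_38_0 lc_f_rc_38_0 lc_f_rc_39_2 lc_f_Cert_tree) (@D3.rec (fun _ => (Cert rels S Gen.f))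 lc_f_rc_38_0 lc_f_rc_38_0 lc_f_rc_39_2 lc_f_rc_38_0 lc_f_rc_38_1 lc_f_rc_21_1 lc_f_rc_38_0 lc_f_rc_38_0 lc_f_rc_39_2 lc_f_rc_39_2 lc_f_rc_21_1 lc_f_Cert_tree lc_f_Cert_tree lc_f_rc_38_0 lc_f_rc_38_0 lc_f_rc_39_2 lc_f_rc_21_1 lc_f_rc_21_1 lc_f_Cert_tree lc_f_rc_21_1 lc_f_Cert_tree lc_f_Cert_tree lc_f_rc_38_0 lc_f_Cert_tree lc_f_rc_38_0 lc_f_Cert_tree lc_f_rc_38_0 lc_f_rc_39_2 lc_f_rc_38_0 lc_f_rc_39_2 lc_f_rc_21_1 lc_f_rc_27_1) (@D3.rec (fun _ => (Cert rels S Gen.f)) lc_f_rc_37_2 lc_f_rc_40_2 lc_f_rc_38_0 lc_f_rc_38_0 lc_f_rc_38_0 lc_f_rc_38_0 lc_f_rc_39_2 lc_f_Cert_tree lc_f_rc_38_0 lc_f_rc_39_2 lc_f_rc_38_0 lc_f_rc_39_2 lc_f_rc_39_2 lc_f_rc_39_2 lc_f_rc_40_2 lc_f_rc_39_2 lc_f_rc_38_0 lc_f_rc_6_1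 lc_f_Cert_tree lc_f_rc_38_0 lc_f_Cert_tree lc_f_rc_38_0 lc_f_Cert_tree lc_f_rc_38_0 lc_f_rc_14_1 lc_f_rc_38_0 lc_f_rc_39_2 lc_f_rc_21_1 lc_f_rc_38_0 lc_f_rc_38_0 lc_f_rc_6_1 lc_f_rc_6_1) (@D3.rec (fun _ => (Cert rels S Gen.f)) lc_f_rc_27_1 lc_f_Cert_tree lc_f_rc_38_0 lc_f_rc_39_2 lc_f_Cert_tree lc_f_rc_38_0 lc_f_rc_39_2 lc_f_Cert_tree lc_f_rc_21_1 lc_f_Cert_tree lc_f_rc_21_3 lc_f_Cert_tree lc_f_rc_38_0 lc_f_rc_38_0 lc_f_rc_21_3 lc_f_Cert_tree lc_f_rc_38_0 lc_f_rc_39_2 lc_f_Cert_tree lc_f_rc_21_1 lc_f_Cert_tree lc_f_rc_14_1 lc_f_Cert_tree lc_f_rc_38_0 lc_f_rc_14_1 lc_f_Cert_tree lc_f_rc_38_0 lc_f_rc_27_1 lc_f_Cert_tree lc_f_rc_38_0 lc_f_rc_39_2 lc_f_Cert_tree) (@D3.rec (fun _ => (Cert rels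 S Gen.f)) lc_f_rc_38_0 lc_f_rc_6_1 lc_f_Cert_tree lc_f_Cert_tree lc_f_rc_38_0 lc_f_rc_39_2 lc_f_Cert_tree lc_f_rc_38_0 lc_f_rc_21_1 lc_f_rc_40_2 lc_f_Cert_tree lc_f_rc_14_1 lc_f_Cert_tree lc_f_rc_38_0 lc_f_Cert_tree lc_f_rc_38_0 lc_f_rc_40_2 lc_f_rc_40_2 lc_f_Cert_tree lc_f_Cert_tree lc_f_Cert_tree lc_f_rc_38_0 lc_f_Cert_tree lc_f_rc_38_0 lc_f_Cert_tree lc_f_rc_38_0 lc_f_rc_32_5 lc_f_rc_38_0 lc_f_rc_39_2 lc_f_rc_21_1 lc_f_Cert_tree lc_f_rc_38_0) (@D3.rec (fun _ => (Cert rels S Gen.f)) lc_f_rc_38_0 lc_f_rc_38_0 lc_f_rc_39_2 lc_f_rc_37_2 lc_f_rc_39_2 lc_f_Cert_tree lc_f_rc_38_0 lc_f_rc_38_0 lc_f_rc_38_0 lc_f_rc_39_2 lc_f_rc_39_2 lc_f_rc_39_2 lc_f_rc_21_1 lc_f_Cert_tree lc_f_Cert_tree lc_f_Cert_tree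 lc_f_rc_38_0 lc_f_rc_47_46 lc_f_Cert_tree lc_f_rc_38_0 lc_f_Cert_tree lc_f_rc_38_0 lc_f_rc_39_2 lc_f_rc_38_0 lc_f_rc_39_2 lc_f_rc_38_0 lc_f_rc_21_1 lc_f_Cert_tree lc_f_rc_38_0 lc_f_rc_38_0 lc_f_rc_38_0 lc_f_rc_38_0) (@D3.rec (fun _ => (Cert rels S Gen.f)) lc_f_rc_39_2 lc_f_Cert_tree lc_f_rc_38_0 lc_f_rc_39_2 lc_f_Cert_tree lc_f_rc_38_0 lc_f_rc_38_0 lc_f_rc_21_1 lc_f_rc_39_2 lc_f_rc_39_2 lc_f_rc_14_1 lc_f_rc_38_0 lc_f_rc_39_2 lc_f_rc_39_2 lc_f_rc_39_2 lc_f_rc_39_2 lc_f_rc_38_1 lc_f_rc_40_2 lc_f_rc_37_2 lc_f_rc_14_1 lc_f_rc_27_3 lc_f_rc_14_1 lc_f_Cert_tree lc_f_rc_38_0 lc_f_Cert_tree lc_f_rc_38_0 lc_f_rc_39_2 lc_f_rc_14_1 lc_f_Cert_tree lc_f_rc_38_0 lc_f_rc_14_1 lc_f_Cert_tree) (@D3.rec (fun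 _ => (Cert rels S Gen.f)) lc_f_rc_38_0 lc_f_rc_6_1 lc_f_Cert_tree lc_f_rc_38_0 lc_f_rc_39_2 lc_f_rc_6_1 lc_f_rc_27_3 lc_f_rc_32_5 lc_f_rc_38_0 lc_f_rc_38_1 lc_f_rc_21_1 lc_f_rc_14_1 lc_f_Cert_tree lc_f_rc_38_0 lc_f_Cert_tree lc_f_Cert_tree lc_f_rc_38_0 lc_f_rc_32_3 lc_f_rc_38_0 lc_f_rc_21_1 lc_f_rc_14_1 lc_f_Cert_tree lc_f_rc_38_0 lc_f_Cert_tree lc_f_Cert_tree lc_f_rc_38_0 lc_f_rc_39_2 lc_f_rc_38_0 lc_f_rc_38_0 lc_f_rc_38_1 lc_f_rc_21_1 lc_f_rc_27_1) (@D3.rec (fun _ => (Cert rels S Gen.f)) lc_f_rc_27_1 lc_f_rc_37_2 lc_f_rc_40_2 lc_f_rc_38_0 lc_f_Cert_tree lc_f_rc_38_0 lc_f_rc_38_0 lc_f_rc_39_2 lc_f_rc_40_2 lc_f_Cert_tree lc_f_Cert_tree lc_f_rc_38_0 lc_f_rc_39_2 lc_f_rc_32_3 lc_f_Cert_tree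 lc_f_rc_38_0 lc_f_rc_38_0 lc_f_rc_21_1 lc_f_rc_21_1 lc_f_rc_14_1 lc_f_rc_40_2 lc_f_rc_37_0 lc_f_rc_46_26 lc_f_rc_40_2 lc_f_rc_40_2 lc_f_Cert_tree lc_f_rc_38_0 lc_f_rc_14_1 lc_f_Cert_tree lc_f_rc_38_0 lc_f_rc_46_26 lc_f_Cert_tree) (@D3.rec (fun _ => (Cert rels S Gen.f)) lc_f_Cert_tree lc_f_rc_38_0 lc_f_rc_32_5 lc_f_Cert_tree lc_f_rc_38_0 lc_f_rc_6_1 lc_f_Cert_tree lc_f_Cert_tree lc_f_rc_38_0 lc_f_rc_39_2 lc_f_Cert_tree lc_f_rc_38_0 lc_f_rc_21_1 lc_f_Cert_tree lc_f_rc_38_0 lc_f_Cert_tree lc_f_rc_38_0 lc_f_Cert_tree lc_f_rc_38_0 lc_f_rc_40_0 lc_f_Cert_tree lc_f_rc_38_0 lc_f_rc_32_5 lc_f_rc_38_0 lc_f_rc_37_2 lc_f_rc_21_1 lc_f_rc_38_0 lc_f_rc_39_2 lc_f_rc_38_0 lc_f_rc_39_2 lc_f_Cert_tree lc_f_Cert_tree)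 (@D3.rec (fun _ => (Cert rels S Gen.f)) lc_f_rc_38_0 lc_f_rc_39_2 lc_f_rc_38_0 lc_f_rc_38_0 lc_f_rc_21_1 lc_f_Cert_tree lc_f_Cert_tree lc_f_rc_38_0 lc_f_rc_38_0 lc_f_rc_38_1 lc_f_rc_21_1 lc_f_Cert_tree lc_f_rc_38_0 lc_f_rc_38_0 lc_f_rc_14_1 lc_f_rc_27_1 lc_f_rc_21_1 lc_f_rc_14_1 lc_f_rc_6_1 lc_f_rc_37_2 lc_f_rc_21_1 lc_f_rc_21_1 lc_f_rc_21_1 lc_f_Cert_tree lc_f_rc_38_0 lc_f_rc_14_1 lc_f_Cert_tree lc_f_rc_38_0 lc_f_Cert_tree lc_f_rc_38_0 lc_f_rc_14_1 lc_f_rc_14_1) (@D3.rec (fun _ => (Cert rels S Gen.f)) lc_f_Cert_tree lc_f_rc_38_0 lc_f_rc_14_1 lc_f_Cert_tree lc_f_rc_38_0 lc_f_rc_6_1 lc_f_Cert_tree lc_f_rc_38_0 lc_f_rc_40_2 lc_f_rc_32_5 lc_f_rc_39_2 lc_f_rc_38_0 lc_f_rc_39_2 lc_f_Cert_tree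 lc_f_rc_38_0 lc_f_rc_38_0 lc_f_rc_39_2 lc_f_rc_38_0 lc_f_rc_39_2 lc_f_rc_38_0 lc_f_rc_39_2 lc_f_rc_38_0 lc_f_rc_38_1 lc_f_rc_21_1 lc_f_Cert_tree lc_f_rc_38_0 lc_f_Cert_tree lc_f_rc_38_0 lc_f_Cert_tree lc_f_Cert_tree lc_f_rc_38_0 lc_f_rc_39_2) (@D3.rec (fun _ => (Cert rels S Gen.f)) lc_f_rc_38_0 lc_f_rc_39_2 lc_f_rc_38_0 lc_f_rc_21_1 lc_f_rc_39_2 lc_f_rc_38_0 lc_f_rc_39_2 lc_f_rc_6_1 lc_f_rc_21_1 lc_f_rc_21_1 lc_f_rc_38_0 lc_f_rc_39_2 lc_f_rc_6_1 lc_f_rc_38_0 lc_f_rc_39_2 lc_f_rc_39_2 lc_f_rc_21_1 lc_f_rc_37_2 lc_f_rc_38_0 lc_f_rc_38_0 lc_f_rc_39_2 lc_f_rc_38_0 lc_f_rc_6_1 lc_f_Cert_tree lc_f_rc_38_0 lc_f_rc_21_1 lc_f_rc_39_2 lc_f_rc_14_1 lc_f_rc_38_0 lc_f_rc_39_2 lc_f_rc_39_2 lc_f_rc_39_2)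 (@D3.rec (fun _ => (Cert rels S Gen.f)) lc_f_rc_38_0 lc_f_rc_6_1 lc_f_rc_38_0 lc_f_rc_37_0 lc_f_Cert_tree lc_f_rc_38_0 lc_f_Cert_tree lc_f_Cert_tree lc_f_rc_38_0 lc_f_rc_39_2 lc_f_rc_38_0 lc_f_Cert_tree lc_f_rc_38_0 lc_f_rc_39_2 lc_f_Cert_tree lc_f_rc_38_0 lc_f_rc_21_1 lc_f_rc_14_1 lc_f_Cert_tree lc_f_Cert_tree lc_f_rc_38_0 lc_f_rc_39_2 lc_f_rc_38_0 lc_f_rc_21_1 lc_f_rc_38_0 lc_f_Cert_tree lc_f_rc_38_0 lc_f_rc_38_0 lc_f_rc_39_2 lc_f_rc_39_2 lc_f_rc_21_1 lc_f_Cert_tree) (@D3.rec (fun _ => (Cert rels S Gen.f)) lc_f_rc_38_0 lc_f_rc_38_0 lc_f_rc_14_1 lc_f_Cert_tree lc_f_rc_38_0 lc_f_Cert_tree lc_f_Cert_tree lc_f_rc_38_0 lc_f_rc_39_2 lc_f_rc_6_1 lc_f_Cert_tree lc_f_Cert_tree lc_f_rc_38_0 lc_f_rc_39_2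 lc_f_Cert_tree lc_f_Cert_tree lc_f_rc_38_0 lc_f_rc_38_0 lc_f_rc_21_1 lc_f_rc_39_2 lc_f_rc_38_0 lc_f_rc_6_3 lc_f_rc_38_0 lc_f_rc_14_1 lc_f_Cert_tree lc_f_rc_38_0 lc_f_rc_14_1 lc_f_rc_21_1 lc_f_Cert_tree lc_f_Cert_tree lc_f_rc_38_0 lc_f_rc_39_2) (@D3.rec (fun _ => (Cert rels S Gen.f)) lc_f_rc_38_0 lc_f_rc_21_1 lc_f_rc_38_0 lc_f_Cert_tree lc_f_Cert_tree lc_f_rc_38_0 lc_f_rc_39_2 lc_f_Cert_tree lc_f_rc_38_0 lc_f_rc_21_1 lc_f_rc_39_2 lc_f_rc_38_0 lc_f_rc_38_0 lc_f_rc_27_3 lc_f_rc_14_1 lc_f_rc_38_0 lc_f_Cert_tree lc_f_rc_38_0 lc_f_Cert_tree lc_f_rc_38_0 lc_f_rc_40_0 lc_f_rc_39_2 lc_f_rc_21_1 lc_f_Cert_tree lc_f_rc_38_0 lc_f_Cert_tree lc_f_rc_38_0 lc_f_Cert_tree lc_f_rc_38_0 lc_f_Cert_tree lc_f_rc_38_0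 lc_f_rc_39_2)
def ce_f_18 : D2 → D3 → (Cert rels S Gen.f) := @D2.rec (fun _ => D3 → (Cert rels S Gen.f)) (@D3.rec (fun _ => (Cert rels S Gen.f)) lc_f_Cert_tree lc_f_Cert_tree lc_f_rc_38_0 lc_f_rc_40_2 lc_f_Cert_tree lc_f_rc_38_0 lc_f_rc_38_0 lc_f_rc_21_1 lc_f_rc_38_0 lc_f_rc_39_2 lc_f_rc_38_0 lc_f_rc_38_1 lc_f_rc_21_1 lc_f_rc_14_1 lc_f_rc_39_2 lc_f_rc_39_2 lc_f_Cert_tree lc_f_rc_38_0 lc_f_rc_37_0 lc_f_rc_38_0 lc_f_rc_21_1 lc_f_Cert_tree lc_f_Cert_tree lc_f_rc_38_0 lc_f_rc_38_0 lc_f_rc_38_1 lc_f_rc_21_1 lc_f_Cert_tree lc_f_rc_38_0 lc_f_Cert_tree lc_f_rc_38_0 lc_f_rc_14_1) (@D3.rec (fun _ => (Cert rels S Gen.f)) lc_f_rc_40_0 lc_f_rc_27_1 lc_f_rc_21_3 lc_f_rc_46_40 lc_f_rc_27_1 lc_f_rc_27_3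 lc_f_rc_6_1 lc_f_rc_40_2 lc_f_rc_21_1 lc_f_rc_39_2 lc_f_rc_6_1 lc_f_Cert_tree lc_f_rc_38_0 lc_f_rc_39_2 lc_f_rc_39_2 lc_f_Cert_tree lc_f_rc_38_0 lc_f_Cert_tree lc_f_rc_38_0 lc_f_rc_39_2 lc_f_Cert_tree lc_f_rc_38_0 lc_f_rc_37_2 lc_f_Cert_tree lc_f_Cert_tree lc_f_rc_38_0 lc_f_rc_39_2 lc_f_rc_38_0 lc_f_rc_21_1 lc_f_rc_38_0 lc_f_rc_38_0 lc_f_rc_6_1) (@D3.rec (fun _ => (Cert rels S Gen.f)) lc_f_Cert_tree lc_f_Cert_tree lc_f_rc_38_0 lc_f_rc_27_3 lc_f_Cert_tree lc_f_rc_38_0 lc_f_rc_40_0 lc_f_rc_27_1 lc_f_rc_21_1 lc_f_rc_21_1 lc_f_rc_39_2 lc_f_rc_38_0 lc_f_rc_38_0 lc_f_rc_39_2 lc_f_rc_37_2 lc_f_Cert_tree lc_f_rc_38_0 lc_f_rc_37_2 lc_f_rc_21_1 lc_f_Cert_tree lc_f_rc_38_0 lc_f_rc_39_2 lc_f_rc_21_1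 lc_f_rc_27_1 lc_f_rc_37_2 lc_f_rc_40_2 lc_f_rc_39_2 lc_f_rc_39_2 lc_f_Cert_tree lc_f_rc_38_0 lc_f_Cert_tree lc_f_rc_38_0) (@D3.rec (fun _ => (Cert rels S Gen.f)) lc_f_rc_39_2 lc_f_rc_21_1 lc_f_Cert_tree lc_f_rc_38_0 lc_f_Cert_tree lc_f_rc_38_0 lc_f_Cert_tree lc_f_rc_38_0 lc_f_rc_39_2 lc_f_Cert_tree lc_f_rc_38_0 lc_f_rc_39_2 lc_f_rc_38_0 lc_f_rc_21_1 lc_f_rc_21_1 lc_f_rc_37_2 lc_f_rc_40_2 lc_f_rc_39_2 lc_f_rc_39_2 lc_f_rc_39_2 lc_f_rc_39_2 lc_f_rc_38_0 lc_f_rc_37_0 lc_f_rc_6_1 lc_f_rc_21_1 lc_f_Cert_tree lc_f_rc_38_0 lc_f_rc_14_1 lc_f_Cert_tree lc_f_rc_38_0 lc_f_rc_14_1 lc_f_rc_38_0) (@D3.rec (fun _ => (Cert rels S Gen.f)) lc_f_rc_21_1 lc_f_rc_21_1 lc_f_rc_14_3 lc_f_rc_6_1 lc_f_Cert_tree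 lc_f_rc_38_0 lc_f_rc_21_1 lc_f_rc_38_0 lc_f_rc_39_2 lc_f_rc_38_0 lc_f_rc_21_3 lc_f_Cert_tree lc_f_rc_38_0 lc_f_rc_37_2 lc_f_Cert_tree lc_f_Cert_tree lc_f_rc_38_0 lc_f_rc_32_5 lc_f_rc_37_0 lc_f_Cert_tree lc_f_rc_38_0 lc_f_rc_21_1 lc_f_rc_38_0 lc_f_rc_14_1 lc_f_Cert_tree lc_f_rc_38_0 lc_f_Cert_tree lc_f_Cert_tree lc_f_rc_38_0 lc_f_rc_27_3 lc_f_rc_14_1 lc_f_Cert_tree) (@D3.rec (fun _ => (Cert rels S Gen.f)) lc_f_rc_38_0 lc_f_rc_6_1 lc_f_Cert_tree lc_f_rc_38_0 lc_f_rc_39_2 lc_f_rc_38_0 lc_f_rc_39_2 lc_f_rc_38_0 lc_f_rc_38_0 lc_f_rc_21_1 lc_f_rc_38_0 lc_f_rc_14_1 lc_f_rc_40_2 lc_f_Cert_tree lc_f_rc_38_0 lc_f_Cert_tree lc_f_Cert_tree lc_f_rc_38_0 lc_f_rc_14_1 lc_f_rc_38_0 lc_f_rc_21_1 lc_f_Cert_tree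 lc_f_rc_38_0 lc_f_rc_38_0 lc_f_Cert_tree lc_f_rc_38_0 lc_f_rc_6_1 lc_f_Cert_tree lc_f_rc_38_0 lc_f_rc_32_5 lc_f_rc_38_0 lc_f_rc_37_2) (@D3.rec (fun _ => (Cert rels S Gen.f)) lc_f_rc_39_2 lc_f_rc_38_0 lc_f_rc_37_0 lc_f_rc_39_2 lc_f_rc_39_2 lc_f_rc_38_0 lc_f_rc_39_2 lc_f_rc_39_2 lc_f_rc_39_2 lc_f_Cert_tree lc_f_rc_38_0 lc_f_rc_38_0 lc_f_rc_38_0 lc_f_rc_14_1 lc_f_Cert_tree lc_f_rc_38_0 lc_f_rc_39_2 lc_f_rc_38_0 lc_f_rc_21_1 lc_f_rc_6_1 lc_f_rc_14_1 lc_f_rc_38_0 lc_f_rc_39_2 lc_f_rc_39_2 lc_f_rc_39_2 lc_f_rc_39_2 lc_f_rc_38_0 lc_f_rc_21_1 lc_f_rc_38_0 lc_f_rc_14_1 lc_f_rc_27_1 lc_f_rc_37_0) (@D3.rec (fun _ => (Cert rels S Gen.f)) lc_f_rc_6_1 lc_f_Cert_tree lc_f_Cert_tree lc_f_rc_38_0 lc_f_rc_39_2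 lc_f_rc_38_0 lc_f_rc_38_1 lc_f_rc_21_1 lc_f_rc_6_1 lc_f_Cert_tree lc_f_Cert_tree lc_f_rc_38_0 lc_f_rc_27_1 lc_f_rc_6_1 lc_f_Cert_tree lc_f_Cert_tree lc_f_rc_38_0 lc_f_rc_27_3 lc_f_Cert_tree lc_f_rc_38_0 lc_f_rc_27_1 lc_f_rc_14_1 lc_f_rc_14_1 lc_f_rc_37_2 lc_f_rc_40_2 lc_f_Cert_tree lc_f_Cert_tree lc_f_rc_38_0 lc_f_rc_14_3 lc_f_Cert_tree lc_f_rc_38_0 lc_f_rc_38_0) (@D3.rec (fun _ => (Cert rels S Gen.f)) lc_f_rc_21_1 lc_f_rc_14_1 lc_f_Cert_tree lc_f_Cert_tree lc_f_rc_38_0 lc_f_rc_39_2 lc_f_Cert_tree lc_f_rc_38_0 lc_f_rc_38_0 lc_f_rc_38_1 lc_f_rc_21_1 lc_f_rc_21_1 lc_f_rc_27_1 lc_f_rc_37_2 lc_f_rc_40_2 lc_f_rc_27_1 lc_f_rc_6_1 lc_f_rc_27_3 lc_f_rc_40_2 lc_f_rc_39_2 lc_f_rc_38_0 lc_f_rc_39_2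 lc_f_rc_21_1 lc_f_rc_37_2 lc_f_Cert_tree lc_f_rc_38_0 lc_f_rc_38_0 lc_f_rc_21_1 lc_f_rc_27_1 lc_f_rc_38_0 lc_f_rc_14_1 lc_f_rc_39_2) (@D3.rec (fun _ => (Cert rels S Gen.f)) lc_f_rc_46_26 lc_f_Cert_tree lc_f_rc_38_0 lc_f_rc_39_2 lc_f_rc_6_1 lc_f_Cert_tree lc_f_Cert_tree lc_f_rc_38_0 lc_f_rc_38_1 lc_f_Cert_tree lc_f_Cert_tree lc_f_rc_38_0 lc_f_rc_38_0 lc_f_rc_37_2 lc_f_rc_38_0 lc_f_rc_39_2 lc_f_Cert_tree lc_f_rc_38_0 lc_f_rc_38_0 lc_f_rc_21_1 lc_f_rc_38_0 lc_f_rc_14_1 lc_f_Cert_tree lc_f_rc_38_0 lc_f_rc_37_2 lc_f_Cert_tree lc_f_rc_38_0 lc_f_rc_37_2 lc_f_rc_38_0 lc_f_rc_21_1 lc_f_rc_38_0 lc_f_rc_38_1) (@D3.rec (fun _ => (Cert rels S Gen.f)) lc_f_rc_37_2 lc_f_rc_32_3 lc_f_rc_39_2 lc_f_rc_37_2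 lc_f_rc_21_1 lc_f_rc_38_0 lc_f_rc_38_0 lc_f_rc_21_1 lc_f_rc_27_1 lc_f_rc_27_1 lc_f_Cert_tree lc_f_rc_38_0 lc_f_rc_38_0 lc_f_rc_38_1 lc_f_rc_21_1 lc_f_rc_27_1 lc_f_rc_37_2 lc_f_rc_38_0 lc_f_rc_32_1 lc_f_rc_14_1 lc_f_rc_39_2 lc_f_rc_37_2 lc_f_Cert_tree lc_f_rc_38_0 lc_f_rc_14_1 lc_f_Cert_tree lc_f_Cert_tree lc_f_rc_38_0 lc_f_rc_6_3 lc_f_rc_38_0 lc_f_rc_38_1 lc_f_rc_21_1) (@D3.rec (fun _ => (Cert rels S Gen.f)) lc_f_Cert_tree lc_f_Cert_tree lc_f_rc_38_0 lc_f_rc_39_2 lc_f_Cert_tree lc_f_Cert_tree lc_f_rc_38_0 lc_f_rc_40_2 lc_f_Cert_tree lc_f_rc_38_0 lc_f_rc_21_1 lc_f_rc_37_2 lc_f_rc_21_1 lc_f_Cert_tree lc_f_rc_38_0 lc_f_rc_39_2 lc_f_rc_21_1 lc_f_rc_21_1 lc_f_rc_39_2 lc_f_rc_6_3 lc_f_rc_37_2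 lc_f_Cert_tree lc_f_rc_38_0 lc_f_rc_39_2 lc_f_Cert_tree lc_f_rc_38_0 lc_f_rc_39_2 lc_f_Cert_tree lc_f_rc_38_0 lc_f_rc_38_0 lc_f_rc_21_1 lc_f_rc_21_1) (@D3.rec (fun _ => (Cert rels S Gen.f)) lc_f_rc_39_2 lc_f_rc_21_1 lc_f_rc_39_2 lc_f_rc_6_1 lc_f_rc_21_1 lc_f_rc_39_2 lc_f_rc_27_1 lc_f_rc_21_1 lc_f_rc_38_0 lc_f_rc_39_2 lc_f_rc_6_1 lc_f_rc_14_3 lc_f_rc_39_2 lc_f_Cert_tree lc_f_rc_38_0 lc_f_rc_39_2 lc_f_Cert_tree lc_f_rc_38_0 lc_f_rc_38_0 lc_f_rc_21_1 lc_f_rc_39_2 lc_f_rc_38_0 lc_f_rc_38_1 lc_f_rc_14_1 lc_f_rc_38_0 lc_f_rc_14_1 lc_f_Cert_tree lc_f_rc_38_0 lc_f_rc_38_0 lc_f_rc_21_1 lc_f_rc_14_1 lc_f_rc_14_3) (@D3.rec (fun _ => (Cert rels S Gen.f)) lc_f_rc_38_0 lc_f_rc_39_2 lc_f_rc_21_1 lc_f_Cert_tree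 lc_f_rc_38_0 lc_f_rc_6_3 lc_f_rc_39_2 lc_f_Cert_tree lc_f_Cert_tree lc_f_rc_38_0 lc_f_rc_6_3 lc_f_Cert_tree lc_f_rc_38_0 lc_f_rc_38_0 lc_f_rc_6_3 lc_f_Cert_tree lc_f_Cert_tree lc_f_rc_38_0 lc_f_rc_38_0 lc_f_rc_38_1 lc_f_rc_21_1 lc_f_Cert_tree lc_f_rc_38_0 lc_f_rc_38_0 lc_f_rc_14_1 lc_f_rc_32_3 lc_f_rc_27_1 lc_f_rc_14_1 lc_f_rc_27_1 lc_f_rc_38_0 lc_f_rc_21_1 lc_f_Cert_tree) (@D3.rec (fun _ => (Cert rels S Gen.f)) lc_f_rc_38_0 lc_f_rc_38_0 lc_f_rc_21_1 lc_f_rc_14_1 lc_f_rc_39_2 lc_f_rc_38_0 lc_f_rc_38_0 lc_f_rc_21_1 lc_f_rc_38_0 lc_f_rc_14_1 lc_f_rc_27_1 lc_f_rc_21_1 lc_f_rc_6_3 lc_f_Cert_tree lc_f_rc_38_0 lc_f_rc_37_2 lc_f_rc_38_0 lc_f_rc_21_1 lc_f_Cert_tree lc_f_rc_38_0 lc_f_rc_39_2 lc_f_Cert_tree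 lc_f_rc_38_0 lc_f_rc_39_2 lc_f_Cert_tree lc_f_rc_38_0 lc_f_rc_27_1 lc_f_rc_38_0 lc_f_rc_38_1 lc_f_rc_21_1 lc_f_Cert_tree lc_f_rc_38_0) (@D3.rec (fun _ => (Cert rels S Gen.f)) lc_f_rc_38_0 lc_f_rc_21_1 lc_f_Cert_tree lc_f_rc_38_0 lc_f_rc_14_1 lc_f_rc_32_3 lc_f_rc_27_1 lc_f_rc_21_1 lc_f_rc_21_1 lc_f_rc_37_2 lc_f_rc_40_2 lc_f_rc_38_0 lc_f_rc_37_0 lc_f_rc_27_1 lc_f_Cert_tree lc_f_rc_38_0 lc_f_Cert_tree lc_f_rc_38_0 lc_f_rc_38_1 lc_f_rc_14_1 lc_f_rc_27_1 lc_f_rc_37_2 lc_f_Cert_tree lc_f_rc_38_0 lc_f_rc_6_1 lc_f_rc_38_0 lc_f_rc_14_1 lc_f_rc_6_1 lc_f_rc_40_2 lc_f_rc_38_0 lc_f_rc_21_1 lc_f_Cert_tree) (@D3.rec (fun _ => (Cert rels S Gen.f)) lc_f_rc_38_0 lc_f_rc_39_2 lc_f_rc_38_0 lc_f_rc_21_1 lc_f_Cert_tree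 lc_f_rc_38_0 lc_f_rc_27_3 lc_f_Cert_tree lc_f_Cert_tree lc_f_rc_38_0 lc_f_rc_38_0 lc_f_rc_21_1 lc_f_rc_32_3 lc_f_rc_27_1 lc_f_rc_37_0 lc_f_Cert_tree lc_f_Cert_tree lc_f_rc_38_0 lc_f_rc_38_0 lc_f_rc_39_2 lc_f_rc_38_0 lc_f_rc_14_1 lc_f_rc_27_1 lc_f_rc_37_2 lc_f_rc_38_0 lc_f_rc_21_1 lc_f_rc_38_0 lc_f_rc_21_1 lc_f_rc_37_2 lc_f_rc_40_2 lc_f_Cert_tree lc_f_rc_38_0) (@D3.rec (fun _ => (Cert rels S Gen.f)) lc_f_rc_39_2 lc_f_rc_38_0 lc_f_rc_21_1 lc_f_Cert_tree lc_f_rc_38_0 lc_f_rc_39_2 lc_f_Cert_tree lc_f_rc_38_0 lc_f_rc_39_2 lc_f_rc_38_0 lc_f_rc_21_1 lc_f_rc_38_0 lc_f_rc_38_1 lc_f_rc_21_1 lc_f_rc_32_3 lc_f_rc_27_1 lc_f_rc_40_2 lc_f_rc_40_2 lc_f_rc_38_0 lc_f_rc_21_1 lc_f_rc_38_0 lc_f_rc_21_1 lc_f_rc_32_3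 lc_f_rc_27_1 lc_f_rc_38_0 lc_f_rc_14_1 lc_f_rc_37_2 lc_f_rc_27_1 lc_f_rc_40_2 lc_f_Cert_tree lc_f_Cert_tree lc_f_rc_38_0) (@D3.rec (fun _ => (Cert rels S Gen.f)) lc_f_rc_32_3 lc_f_Cert_tree lc_f_Cert_tree lc_f_rc_38_0 lc_f_rc_38_0 lc_f_rc_37_2 lc_f_rc_38_0 lc_f_rc_14_1 lc_f_rc_40_0 lc_f_Cert_tree lc_f_rc_38_0 lc_f_rc_27_1 lc_f_rc_38_0 lc_f_rc_38_0 lc_f_rc_39_2 lc_f_Cert_tree lc_f_rc_38_0 lc_f_rc_40_2 lc_f_rc_38_0 lc_f_rc_14_1 lc_f_rc_21_1 lc_f_rc_14_1 lc_f_rc_14_1 lc_f_rc_6_1 lc_f_Cert_tree lc_f_Cert_tree lc_f_rc_38_0 lc_f_rc_14_1 lc_f_Cert_tree lc_f_rc_38_0 lc_f_rc_38_0 lc_f_rc_32_1) (@D3.rec (fun _ => (Cert rels S Gen.f)) lc_f_rc_14_1 lc_f_Cert_tree lc_f_rc_38_0 lc_f_rc_27_1 lc_f_rc_39_2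 lc_f_rc_38_0 lc_f_rc_39_2 lc_f_rc_38_0 lc_f_rc_37_2 lc_f_rc_32_3 lc_f_rc_39_2 lc_f_rc_37_0 lc_f_rc_21_1 lc_f_rc_38_0 lc_f_rc_6_1 lc_f_rc_6_1 lc_f_rc_6_1 lc_f_rc_38_0 lc_f_rc_21_1 lc_f_rc_14_1 lc_f_rc_14_1 lc_f_rc_27_1 lc_f_rc_14_1 lc_f_Cert_tree lc_f_Cert_tree lc_f_rc_38_0 lc_f_rc_38_0 lc_f_rc_38_1 lc_f_rc_21_1 lc_f_rc_32_3 lc_f_rc_27_1 lc_f_rc_37_2) (@D3.rec (fun _ => (Cert rels S Gen.f)) lc_f_rc_40_2 lc_f_Cert_tree lc_f_Cert_tree lc_f_rc_38_0 lc_f_rc_38_0 lc_f_rc_37_2 lc_f_Cert_tree lc_f_Cert_tree lc_f_rc_38_0 lc_f_rc_38_0 lc_f_rc_37_2 lc_f_rc_38_0 lc_f_rc_14_1 lc_f_rc_14_1 lc_f_rc_40_2 lc_f_Cert_tree lc_f_rc_38_0 lc_f_rc_38_0 lc_f_rc_21_1 lc_f_Cert_tree lc_f_rc_38_0 lc_f_rc_14_1 lc_f_rc_32_3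 lc_f_rc_38_1 lc_f_Cert_tree lc_f_rc_38_0 lc_f_rc_38_0 lc_f_rc_38_1 lc_f_rc_21_1 lc_f_rc_38_0 lc_f_rc_21_1 lc_f_rc_32_3) (@D3.rec (fun _ => (Cert rels S Gen.f)) lc_f_rc_27_1 lc_f_rc_37_2 lc_f_rc_40_2 lc_f_rc_32_1 lc_f_rc_40_2 lc_f_rc_32_1 lc_f_rc_38_0 lc_f_rc_37_0 lc_f_rc_40_2 lc_f_rc_21_1 lc_f_rc_40_2 lc_f_rc_38_0 lc_f_rc_14_1 lc_f_rc_40_2 lc_f_rc_14_1 lc_f_rc_38_0 lc_f_rc_21_1 lc_f_Cert_tree lc_f_Cert_tree lc_f_rc_38_0 lc_f_rc_38_0 lc_f_rc_39_2 lc_f_Cert_tree lc_f_rc_38_0 lc_f_rc_38_0 lc_f_rc_14_1 lc_f_rc_32_3 lc_f_rc_39_2 lc_f_rc_21_1 lc_f_rc_38_0 lc_f_rc_27_1 lc_f_rc_27_1)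
def ce_f_19 : D2 → D3 → (Cert rels S Gen.f) := @D2.rec (fun _ => D3 → (Cert rels S Gen.f)) (@D3.rec (fun _ => (Cert rels S Gen.f)) lc_f_rc_40_2 lc_f_rc_38_0 lc_f_rc_21_1 lc_f_rc_38_0 lc_f_rc_21_1 lc_f_rc_32_3 lc_f_rc_27_1 lc_f_rc_32_3 lc_f_rc_39_2 lc_f_rc_37_2 lc_f_Cert_tree lc_f_rc_27_1 lc_f_rc_27_1 lc_f_rc_38_0 lc_f_rc_38_1 lc_f_rc_37_0 lc_f_rc_27_1 lc_f_rc_37_2 lc_f_rc_40_2 lc_f_rc_27_1 lc_f_rc_38_0 lc_f_rc_21_1 lc_f_Cert_tree lc_f_rc_38_0 lc_f_rc_38_0 lc_f_rc_21_1 lc_f_rc_32_3 lc_f_rc_27_1 lc_f_rc_37_2 lc_f_Cert_tree lc_f_rc_38_0 lc_f_rc_38_0) (@D3.rec (fun _ => (Cert rels S Gen.f)) lc_f_rc_21_1 lc_f_rc_38_0 lc_f_rc_38_0 lc_f_rc_38_1 lc_f_rc_37_2 lc_f_rc_38_0 lc_f_rc_14_1 lc_f_rc_38_0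 lc_f_rc_21_1 lc_f_rc_6_3 lc_f_rc_38_0 lc_f_rc_21_1 lc_f_rc_38_0 lc_f_rc_21_1 lc_f_rc_38_0 lc_f_rc_39_2 lc_f_rc_32_3 lc_f_rc_27_1 lc_f_rc_6_1 lc_f_rc_38_0 lc_f_rc_38_1 lc_f_rc_21_1 lc_f_rc_38_0 lc_f_rc_14_1 lc_f_rc_32_3 lc_f_rc_27_1 lc_f_rc_27_1 lc_f_rc_37_2 lc_f_rc_37_2 lc_f_rc_38_0 lc_f_rc_14_1 lc_f_rc_32_3) (@D3.rec (fun _ => (Cert rels S Gen.f)) lc_f_rc_27_1 lc_f_rc_21_1 lc_f_rc_38_0 lc_f_rc_21_1 lc_f_Cert_tree lc_f_rc_38_0 lc_f_rc_38_0 lc_f_rc_21_1 lc_f_Cert_tree lc_f_rc_38_0 lc_f_rc_14_1 lc_f_rc_32_3 lc_f_rc_6_3 lc_f_Cert_tree lc_f_rc_38_0 lc_f_rc_38_0 lc_f_rc_38_1 lc_f_rc_14_1 lc_f_rc_32_3 lc_f_rc_27_1 lc_f_rc_37_2 lc_f_rc_38_0 lc_f_rc_32_5 lc_f_rc_32_3 lc_f_rc_14_1 lc_f_Cert_tree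 lc_f_rc_32_3 lc_f_rc_27_1 lc_f_rc_38_0 lc_f_rc_14_1 lc_f_rc_32_3 lc_f_rc_27_1) (@D3.rec (fun _ => (Cert rels S Gen.f)) lc_f_rc_32_3 lc_f_rc_38_0 lc_f_rc_6_1 lc_f_rc_38_0 lc_f_rc_21_1 lc_f_rc_6_1 lc_f_rc_27_1 lc_f_rc_38_0 lc_f_rc_14_1 lc_f_rc_38_0 lc_f_rc_21_1 lc_f_rc_38_0 lc_f_rc_39_2 lc_f_rc_32_3 lc_f_rc_27_1 lc_f_rc_37_2 lc_f_rc_40_2 lc_f_Cert_tree lc_f_rc_38_0 lc_f_rc_14_1 lc_f_rc_32_3 lc_f_rc_27_1 lc_f_rc_38_0 lc_f_rc_32_3 lc_f_rc_14_1 lc_f_Cert_tree lc_f_rc_21_1 lc_f_rc_40_2 lc_f_rc_40_2 lc_f_Cert_tree lc_f_rc_38_0 lc_f_rc_38_1) (@D3.rec (fun _ => (Cert rels S Gen.f)) lc_f_rc_6_1 lc_f_rc_38_0 lc_f_rc_14_1 lc_f_rc_37_2 lc_f_rc_37_2 lc_f_rc_38_0 lc_f_rc_38_1 lc_f_rc_21_1 lc_f_rc_32_3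 lc_f_rc_27_1 lc_f_rc_38_0 lc_f_rc_21_1 lc_f_rc_32_3 lc_f_rc_27_1 lc_f_rc_38_0 lc_f_rc_40_2 lc_f_rc_38_0 lc_f_rc_38_0 lc_f_rc_21_1 lc_f_rc_32_3 lc_f_rc_27_1 lc_f_Cert_tree lc_f_rc_38_0 lc_f_rc_38_0 lc_f_rc_14_1 lc_f_rc_39_2 lc_f_rc_37_2 lc_f_rc_32_3 lc_f_rc_27_1 lc_f_rc_32_3 lc_f_rc_27_1 lc_f_rc_40_2) (@D3.rec (fun _ => (Cert rels S Gen.f)) lc_f_rc_38_0 lc_f_rc_38_1 lc_f_rc_21_1 lc_f_rc_6_1 lc_f_rc_27_1 lc_f_rc_38_0 lc_f_rc_21_1 lc_f_rc_38_0 lc_f_rc_21_1 lc_f_rc_32_3 lc_f_rc_27_1 lc_f_rc_32_3 lc_f_rc_27_1 lc_f_rc_37_2 lc_f_Cert_tree lc_f_rc_32_3 lc_f_rc_27_1 lc_f_rc_32_3 lc_f_rc_27_1 lc_f_Cert_tree lc_f_rc_6_1 lc_f_Cert_tree lc_f_Cert_tree lc_f_rc_38_0 lc_f_rc_38_0 lc_f_rc_39_2 lc_f_rc_38_0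 lc_f_rc_38_0 lc_f_rc_14_1 lc_f_rc_32_3 lc_f_rc_39_2 lc_f_rc_40_0) (@D3.rec (fun _ => (Cert rels S Gen.f)) lc_f_rc_38_0 lc_f_rc_37_0 lc_f_rc_14_1 lc_f_rc_39_2 lc_f_rc_38_0 lc_f_rc_14_1 lc_f_rc_39_2 lc_f_Cert_tree lc_f_rc_38_0 lc_f_rc_38_0 lc_f_rc_21_1 lc_f_rc_38_0 lc_f_rc_14_1 lc_f_rc_32_3 lc_f_rc_27_1 lc_f_rc_38_0 lc_f_rc_39_2 lc_f_rc_32_3 lc_f_rc_39_2 lc_f_rc_32_3 lc_f_rc_39_2 lc_f_Cert_tree lc_f_rc_37_0 lc_f_rc_14_1 lc_f_Cert_tree lc_f_rc_38_0 lc_f_rc_38_0 lc_f_rc_38_1 lc_f_rc_21_1 lc_f_rc_32_3 lc_f_rc_27_1 lc_f_rc_37_2) (@D3.rec (fun _ => (Cert rels S Gen.f)) lc_f_Cert_tree lc_f_rc_32_3 lc_f_rc_14_1 lc_f_rc_40_2 lc_f_Cert_tree lc_f_rc_38_0 lc_f_Cert_tree lc_f_rc_38_0 lc_f_rc_14_1 lc_f_rc_32_3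 lc_f_rc_37_2 lc_f_rc_38_0 lc_f_rc_38_0 lc_f_rc_14_1 lc_f_rc_39_2 lc_f_rc_40_2 lc_f_rc_40_2 lc_f_Cert_tree lc_f_rc_38_0 lc_f_rc_14_1 lc_f_rc_32_3 lc_f_rc_27_1 lc_f_rc_38_0 lc_f_rc_32_3 lc_f_rc_14_1 lc_f_Cert_tree lc_f_rc_38_0 lc_f_rc_38_1 lc_f_rc_40_2 lc_f_rc_32_3 lc_f_rc_27_1 lc_f_rc_37_2) (@D3.rec (fun _ => (Cert rels S Gen.f)) lc_f_rc_32_3 lc_f_rc_27_1 lc_f_Cert_tree lc_f_rc_32_3 lc_f_rc_37_2 lc_f_rc_40_2 lc_f_rc_40_2 lc_f_rc_39_2 lc_f_rc_40_2 lc_f_rc_40_2 lc_f_rc_14_1 lc_f_rc_32_3 lc_f_rc_27_1 lc_f_rc_38_0 lc_f_rc_38_0 lc_f_rc_14_1 lc_f_rc_32_3 lc_f_rc_39_2 lc_f_rc_38_0 lc_f_rc_6_1 lc_f_rc_32_3 lc_f_rc_14_1 lc_f_Cert_tree lc_f_rc_39_2 lc_f_rc_32_3 lc_f_rc_27_1 lc_f_rc_32_3 lc_f_rc_27_1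 lc_f_Cert_tree lc_f_Cert_tree lc_f_rc_32_3 lc_f_rc_40_2) (@D3.rec (fun _ => (Cert rels S Gen.f)) lc_f_rc_38_0 lc_f_rc_39_2 lc_f_rc_37_2 lc_f_rc_27_3 lc_f_rc_32_3 lc_f_rc_27_1 lc_f_rc_38_0 lc_f_rc_14_1 lc_f_rc_32_3 lc_f_rc_27_1 lc_f_Cert_tree lc_f_rc_32_3 lc_f_rc_6_3 lc_f_rc_38_0 lc_f_rc_14_1 lc_f_rc_32_3 lc_f_rc_27_1 lc_f_rc_40_2 lc_f_rc_39_2 lc_f_rc_37_2 lc_f_rc_6_1 lc_f_rc_32_3 lc_f_rc_27_1 lc_f_rc_32_3 lc_f_rc_27_1 lc_f_rc_32_3 lc_f_rc_27_1 lc_f_rc_32_3 lc_f_rc_39_2 lc_f_Cert_tree lc_f_rc_32_3 lc_f_rc_27_1) (@D3.rec (fun _ => (Cert rels S Gen.f)) lc_f_rc_37_2 lc_f_rc_32_3 lc_f_rc_21_1 lc_f_Cert_tree lc_f_rc_27_3 lc_f_rc_32_3 lc_f_rc_14_1 lc_f_Cert_tree lc_f_rc_32_3 lc_f_rc_27_1 lc_f_rc_38_0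 lc_f_rc_40_2 lc_f_rc_32_3 lc_f_rc_27_1 lc_f_rc_38_0 lc_f_rc_32_3 lc_f_rc_14_1 lc_f_Cert_tree lc_f_rc_38_0 lc_f_rc_40_2 lc_f_rc_32_3 lc_f_rc_14_1 lc_f_rc_37_2 lc_f_Cert_tree lc_f_rc_32_3 lc_f_rc_37_2 lc_f_rc_6_1 lc_f_rc_37_2 lc_f_Cert_tree lc_f_rc_38_0 lc_f_Cert_tree lc_f_rc_32_3) (@D3.rec (fun _ => (Cert rels S Gen.f)) lc_f_rc_14_1 lc_f_Cert_tree lc_f_rc_6_1 lc_f_rc_27_1 lc_f_Cert_tree lc_f_rc_32_3 lc_f_rc_21_3 lc_f_rc_32_3 lc_f_rc_27_1 lc_f_rc_32_3 lc_f_rc_39_2 lc_f_Cert_tree lc_f_rc_32_3 lc_f_rc_27_1 lc_f_rc_40_2 lc_f_rc_38_0 lc_f_rc_32_3 lc_f_rc_14_1 lc_f_Cert_tree lc_f_rc_32_3 lc_f_rc_21_1 lc_f_Cert_tree lc_f_rc_38_0 lc_f_rc_40_2 lc_f_rc_38_0 lc_f_rc_40_2 lc_f_rc_37_2 lc_f_rc_21_1 lc_f_rc_14_1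 lc_f_rc_39_2 lc_f_Cert_tree lc_f_rc_32_3) (@D3.rec (fun _ => (Cert rels S Gen.f)) lc_f_rc_27_1 lc_f_Cert_tree lc_f_rc_32_3 lc_f_rc_40_2 lc_f_rc_6_1 lc_f_rc_14_1 lc_f_rc_21_1 lc_f_Cert_tree lc_f_rc_38_0 lc_f_rc_39_2 lc_f_rc_39_2 lc_f_Cert_tree lc_f_Cert_tree lc_f_rc_6_1 lc_f_rc_27_1 lc_f_rc_37_2 lc_f_Cert_tree lc_f_rc_32_3 lc_f_rc_27_1 lc_f_rc_32_3 lc_f_rc_27_1 lc_f_Cert_tree lc_f_Cert_tree lc_f_rc_32_3 lc_f_rc_37_2 lc_f_rc_38_0 lc_f_Cert_tree lc_f_Cert_tree lc_f_rc_38_0 lc_f_rc_38_0 lc_f_rc_38_0 lc_f_rc_14_1) (@D3.rec (fun _ => (Cert rels S Gen.f)) lc_f_rc_32_3 lc_f_rc_39_2 lc_f_rc_6_1 lc_f_rc_32_3 lc_f_rc_14_1 lc_f_Cert_tree lc_f_rc_14_1 lc_f_rc_40_2 lc_f_rc_38_0 lc_f_rc_14_1 lc_f_rc_32_3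 lc_f_rc_27_1 lc_f_rc_32_3 lc_f_rc_14_1 lc_f_Cert_tree lc_f_rc_32_3 lc_f_rc_39_2 lc_f_Cert_tree lc_f_Cert_tree lc_f_rc_38_0 lc_f_rc_38_0 lc_f_rc_40_2 lc_f_rc_14_1 lc_f_rc_21_1 lc_f_rc_37_2 lc_f_Cert_tree lc_f_rc_32_3 lc_f_rc_21_1 lc_f_rc_38_0 lc_f_rc_38_1 lc_f_rc_32_3 lc_f_rc_37_2) (@D3.rec (fun _ => (Cert rels S Gen.f)) lc_f_rc_38_0 lc_f_rc_40_2 lc_f_rc_38_0 lc_f_rc_32_3 lc_f_rc_14_1 lc_f_Cert_tree lc_f_rc_40_2 lc_f_rc_40_2 lc_f_rc_38_0 lc_f_rc_32_3 lc_f_rc_14_1 lc_f_Cert_tree lc_f_rc_21_1 lc_f_rc_37_2 lc_f_Cert_tree lc_f_rc_38_0 lc_f_rc_32_3 lc_f_rc_40_2 lc_f_rc_37_2 lc_f_Cert_tree lc_f_rc_32_3 lc_f_rc_37_2 lc_f_Cert_tree lc_f_rc_38_0 lc_f_rc_38_1 lc_f_rc_40_2 lc_f_rc_40_2 lc_f_rc_40_2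 lc_f_Cert_tree lc_f_rc_6_1 lc_f_rc_32_3 lc_f_rc_14_1) (@D3.rec (fun _ => (Cert rels S Gen.f)) lc_f_Cert_tree lc_f_rc_6_1 lc_f_rc_37_2 lc_f_Cert_tree lc_f_rc_38_0 lc_f_Cert_tree lc_f_Cert_tree lc_f_rc_38_0 lc_f_rc_38_0 lc_f_rc_38_1 lc_f_rc_39_2 lc_f_Cert_tree lc_f_rc_14_1 lc_f_rc_14_1 lc_f_Cert_tree lc_f_rc_38_0 lc_f_rc_38_1 lc_f_rc_32_3 lc_f_rc_14_1 lc_f_Cert_tree lc_f_rc_39_2 lc_f_Cert_tree lc_f_Cert_tree lc_f_Cert_tree lc_f_Cert_tree lc_f_rc_38_0 lc_f_Cert_tree lc_f_rc_32_3 lc_f_rc_37_2 lc_f_Cert_tree lc_f_rc_38_0 lc_f_Cert_tree) (@D3.rec (fun _ => (Cert rels S Gen.f)) lc_f_rc_38_0 lc_f_Cert_tree lc_f_rc_32_3 lc_f_rc_37_0 lc_f_Cert_tree lc_f_rc_21_1 lc_f_rc_21_1 lc_f_Cert_tree lc_f_rc_38_0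 lc_f_rc_6_1 lc_f_rc_40_2 lc_f_Cert_tree lc_f_rc_32_3 lc_f_rc_14_1 lc_f_rc_38_0 lc_f_rc_38_1 lc_f_Cert_tree lc_f_rc_38_0 lc_f_rc_38_0 lc_f_Cert_tree lc_f_rc_38_0 lc_f_Cert_tree lc_f_rc_38_0 lc_f_Cert_tree lc_f_Cert_tree lc_f_Cert_tree lc_f_rc_38_0 lc_f_rc_38_1 lc_f_rc_40_2 lc_f_rc_40_2 lc_f_rc_32_3 lc_f_rc_21_1) (@D3.rec (fun _ => (Cert rels S Gen.f)) lc_f_Cert_tree lc_f_rc_38_0 lc_f_Cert_tree lc_f_rc_38_0 lc_f_rc_6_1 lc_f_rc_40_0 lc_f_rc_38_0 lc_f_Cert_tree lc_f_rc_38_0 lc_f_Cert_tree lc_f_Cert_tree lc_f_rc_38_0 lc_f_rc_38_0 lc_f_rc_38_0 lc_f_Cert_tree lc_f_rc_6_1 lc_f_rc_37_2 lc_f_rc_38_0 lc_f_Cert_tree lc_f_Cert_tree lc_f_rc_38_0 lc_f_rc_38_0 lc_f_rc_38_1 lc_f_rc_38_0 lc_f_rc_38_0 lc_f_rc_6_1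 lc_f_rc_32_3 lc_f_rc_14_1 lc_f_Cert_tree lc_f_Cert_tree lc_f_rc_38_0 lc_f_rc_32_3) (@D3.rec (fun _ => (Cert rels S Gen.f)) lc_f_rc_14_1 lc_f_Cert_tree lc_f_Cert_tree lc_f_rc_38_0 lc_f_Cert_tree lc_f_rc_38_0 lc_f_rc_38_0 lc_f_rc_6_1 lc_f_rc_6_1 lc_f_Cert_tree lc_f_rc_14_1 lc_f_rc_6_1 lc_f_rc_38_0 lc_f_rc_38_1 lc_f_rc_37_2 lc_f_rc_40_2 lc_f_rc_6_1 lc_f_rc_40_2 lc_f_rc_21_1 lc_f_rc_40_2 lc_f_Cert_tree lc_f_rc_38_0 lc_f_rc_21_1 lc_f_rc_39_2 lc_f_Cert_tree lc_f_rc_38_0 lc_f_Cert_tree lc_f_rc_38_0 lc_f_Cert_tree lc_f_rc_32_3 lc_f_rc_39_2 lc_f_rc_38_0) (@D3.rec (fun _ => (Cert rels S Gen.f)) lc_f_rc_38_1 lc_f_rc_38_0 lc_f_rc_37_2 lc_f_rc_40_2 lc_f_rc_38_0 lc_f_Cert_tree lc_f_rc_38_0 lc_f_Cert_tree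 lc_f_rc_38_0 lc_f_rc_38_0 lc_f_rc_38_0 lc_f_rc_37_2 lc_f_rc_38_0 lc_f_Cert_tree lc_f_rc_38_0 lc_f_rc_37_2 lc_f_Cert_tree lc_f_rc_38_0 lc_f_rc_38_0 lc_f_rc_38_0 lc_f_rc_38_0 lc_f_rc_38_0 lc_f_rc_38_0 lc_f_rc_38_1 lc_f_rc_38_0 lc_f_rc_38_0 lc_f_rc_38_0 lc_f_Cert_tree lc_f_rc_38_0 lc_f_Cert_tree lc_f_rc_38_0 lc_f_Cert_tree) (@D3.rec (fun _ => (Cert rels S Gen.f)) lc_f_rc_38_0 lc_f_rc_38_1 lc_f_rc_37_2 lc_f_rc_38_0 lc_f_rc_38_0 lc_f_rc_38_0 lc_f_rc_38_0 lc_f_rc_38_0 lc_f_rc_38_0 lc_f_rc_37_2 lc_f_rc_40_2 lc_f_Cert_tree lc_f_rc_38_0 lc_f_rc_38_0 lc_f_rc_38_0 lc_f_rc_38_0 lc_f_rc_38_0 lc_f_rc_38_0 lc_f_rc_38_1 lc_f_rc_38_0 lc_f_rc_38_0 lc_f_rc_37_2 lc_f_Cert_tree lc_f_rc_38_0 lc_f_rc_38_0 lc_f_Cert_tree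 lc_f_rc_38_0 lc_f_rc_38_0 lc_f_rc_38_0 lc_f_Cert_tree lc_f_rc_38_0 lc_f_rc_38_1) (@D3.rec (fun _ => (Cert rels S Gen.f)) lc_f_rc_37_2 lc_f_rc_40_2 lc_f_Cert_tree lc_f_Cert_tree lc_f_rc_38_0 lc_f_Cert_tree lc_f_rc_38_0 lc_f_rc_38_0 lc_f_rc_38_0 lc_f_rc_38_1 lc_f_rc_37_2 lc_f_rc_40_2 lc_f_rc_38_0 lc_f_rc_38_0 lc_f_rc_38_0 lc_f_rc_38_0 lc_f_rc_37_2 lc_f_rc_38_0 lc_f_rc_38_0 lc_f_rc_38_0 lc_f_rc_37_2 lc_f_rc_40_2 lc_f_rc_38_0 lc_f_rc_37_2 lc_f_rc_38_0 lc_f_rc_38_0 lc_f_rc_38_0 lc_f_rc_37_2 lc_f_rc_38_0 lc_f_rc_38_0 lc_f_rc_38_0 lc_f_rc_37_2)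
def ce_f : Pt → (Cert rels S Gen.f) := @Pt.rec (fun _ => (Cert rels S Gen.f)) (@D1.rec (fun _ => D2 → D3 → (Cert rels S Gen.f)) ce_f_0 ce_f_1 ce_f_2 ce_f_3 ce_f_4 ce_f_5 ce_f_6 ce_f_7 ce_f_8 ce_f_9 ce_f_10 ce_f_11 ce_f_12 ce_f_13 ce_f_14 ce_f_15 ce_f_16 ce_f_17 ce_f_18 ce_f_19)
def isSeed_f (p : Pt) : Bool := false

end

end Cfsg.Agent.Helper28.S1685
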