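import Cfsg.Agent.Lib.Helper28.S1685.Tree

set_option autoImplicit false
set_option maxRecDepth 100000
set_option linter.all false

namespace Cfsg.Agent.Helper28.S1685

open Cfsg.Agent.Helper28
open Cfsg.Spor.Fi22 (Gen)

noncomputable section

def lv_g_0 : D2 → D3 → Nat := @D2.rec (fun _ => D3 → Nat) (@D3.rec (fun _ => Nat) 1 2 3 4 5 6 6 0 7 7 1 3 8 8 2 3 3 9 9 4 4 5 5 5 10 10 10 4 4 4 5 5) (@D3.rec (fun _ => Nat) 5 5 5 11 11 11 6 6 6 8 6 6 7 7 7 7 7 7 7 12 12 12 6 6 6 6 9 6 6 9 6 7) (@D3.rec (fun _ => Nat) 7 7 7 7 7 7 7 7 7 13 13 13 8 8 8 10 8 8 10 8 8 10 8 8 10 8 9 9 9 9 9 9) (@D3.rec (fun _ => Nat) 9 9 9 9 9 9 9 14 14 14 0 8 11 8 8 8 11 8 8 11 8 8 11 11 11 8 8 11 8 8 11 8) (@D3.rec (fun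 _ => Nat) 9 9 9 9 9 9 9 9 9 9 9 9 9 0 9 0 1 12 10 12 10 10 12 10 12 12 12 10 10 12 10 10) (@D3.rec (fun _ => Nat) 10 12 12 12 12 10 10 12 10 10 0 12 12 10 11 11 11 11 11 11 11 11 11 0 11 11 11 11 11 0 1 11) (@D3.rec (fun _ => Nat) 1 13 13 10 13 10 10 13 13 10 13 13 13 13 10 10 13 10 10 10 0 13 13 13 13 13 10 10 10 13 13 10) (@D3.rec (fun _ => Nat) 10 0 1 13 13 10 11 11 11 11 11 11 11 11 11 0 11 1 11 11 11 11 0 11 11 0 1 14 14 12 14 12) (@D3.rec (fun _ => Nat) 12 62 14 14 14 12 14 14 14 14 14 12 12 12 14 14 12 12 0 12 61 1 14 14 14 14 14 14 14 12 12 12) (@D3.rec (fun _ => Nat) 12 0 14 14 0 12 12 0 1 14 14 14 13 13 13 13 13 13 13 13 13 13 0 13 13 13 0 1 13 13 13 0) (@D3.rec (fun _ => Nat) 13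 13 13 0 1 13 0 1 15 15 12 12 15 15 12 12 60 15 15 15 12 12 15 15 15 15 15 15 12 12 12 12) (@D3.rec (fun _ => Nat) 0 15 15 0 12 12 12 0 1 61 12 15 15 15 15 15 15 15 15 15 0 12 12 0 12 12 12 0 1 15 15 15) (@D3.rec (fun _ => Nat) 0 1 12 0 1 15 15 15 13 13 13 13 13 13 60 13 13 0 13 13 13 0 1 13 13 0 13 1 13 13 13 0) (@D3.rec (fun _ => Nat) 1 13 13 0 0 1 0 1 16 16 16 14 14 60 16 16 62 14 14 62 16 16 16 16 14 14 0 16 16 16 16 16) (@D3.rec (fun _ => Nat) 16 16 16 0 14 14 0 14 14 14 0 1 16 16 16 0 1 14 14 0 61 14 1 61 59 59 16 16 16 16 16 16) (@D3.rec (fun _ => Nat) 0 16 16 0 16 16 16 0 1 14 14 14 0 1 14 14 0 0 1 16 16 0 0 18 1 0 1 16 16 16 16 15) (@D3.rec (fun _ => Nat) 15 15 15 15 15 15 60 15 15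 15 0 1 15 15 0 0 15 1 15 0 15 1 15 15 0 0 17 1 15 0 15 0) (@D3.rec (fun _ => Nat) 1 0 1 1 17 17 17 17 60 14 14 14 60 17 17 17 62 14 62 17 17 17 17 17 0 14 14 14 0 1 17 17) (@D3.rec (fun _ => Nat) 17 17 17 0 17 17 0 17 17 17 0 1 14 14 14 0 1 14 14 0 0 14 1 17 17 0 0 19 1 14 0 63) (@D3.rec (fun _ => Nat) 14 1 63 61 61 61 17 17 17 17 17 0 17 17 17 0 1 17 17 17 0 1 17 17 0 0 17 1 14 14 0 0) (@D3.rec (fun _ => Nat) 16 1 14 0 14 0 1 0 1 17 0 17 0 19 1 1 3 19 1 17 17 17 17 15 15 15 15 62 62 15 15 15) (@D3.rec (fun _ => Nat) 0 0 15 1 15 0 15 0 15 1 1 15 1 15 0 15 0 17 1 0 1 3 15 0 1 0 0 1 1 18 18 62)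
def lv_g_1 : D2 → D3 → Nat := @D2.rec (fun _ => D3 → Nat) (@D3.rec (fun _ => Nat) 18 18 18 62 16 16 62 62 18 18 64 66 20 64 18 18 18 18 0 18 18 18 0 1 16 16 0 0 16 1 18 18) (@D3.rec (fun _ => Nat) 18 18 0 18 18 18 0 1 18 18 18 0 1 18 18 0 0 18 1 16 16 0 0 16 1 16 0 16 0 16 1 0) (@D3.rec (fun _ => Nat) 1 61 61 18 0 18 0 20 1 65 1 3 20 63 16 1 63 61 61 61 70 18 18 18 18 0 18 18 18 0 1 18) (@D3.rec (fun _ => Nat) 18 0 0 18 1 18 18 0 0 18 1 18 0 18 0 18 1 0 1 3 18 16 0 16 0 18 1 0 1 3 16 0) (@D3.rec (fun _ => Nat) 1 0 0 1 1 18 0 20 1 0 20 1 3 20 2 3 18 18 18 18 18 17 17 17 62 17 62 17 62 63 17 0) (@D3.rec (fun _ => Nat) 17 0 17 1 1 17 0 17 1 0 17 1 17 0 19 1 0 19 0 1 3 1 3 2 17 0 0 1 0 1 1 15)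 (@D3.rec (fun _ => Nat) 19 19 19 69 19 19 62 68 19 16 62 16 62 62 19 64 19 68 21 66 21 19 19 0 19 19 19 0 1 19 19 0) (@D3.rec (fun _ => Nat) 0 19 1 16 0 16 0 16 1 0 1 3 63 19 19 0 19 19 19 0 1 19 19 0 0 19 1 19 19 0 0 19) (@D3.rec (fun _ => Nat) 1 19 0 19 0 19 1 0 1 3 19 16 0 16 0 16 1 0 1 65 64 16 0 16 1 0 16 0 1 63 63 1) (@D3.rec (fun _ => Nat) 63 19 0 21 1 0 21 67 1 3 21 67 2 3 65 63 63 63 67 68 19 19 0 19 19 19 0 1 19 19 0 0) (@D3.rec (fun _ => Nat) 19 1 19 0 19 0 19 1 0 1 3 19 19 0 19 0 19 1 66 1 68 19 19 0 19 1 0 19 0 1 3 19) (@D3.rec (fun _ => Nat) 1 73 2 71 16 0 18 1 0 18 0 1 3 1 66 2 16 0 0 1 0 1 1 16 19 0 21 1 3 21 1 3) (@D3.rec (fun _ => Nat) 21 21 2 3 4 19 19 19 19 19 17 17 64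 17 64 17 64 65 17 0 17 1 0 17 1 17 0 17 1 1 17 0) (@D3.rec (fun _ => Nat) 19 0 1 3 0 1 3 19 1 3 2 16 2 66 0 0 1 1 0 1 16 20 20 69 67 20 20 64 20 67 20 68) (@D3.rec (fun _ => Nat) 68 20 18 64 64 64 20 68 22 68 22 66 22 68 20 20 20 0 1 20 20 0 0 20 1 20 0 20 0 20 1 0) (@D3.rec (fun _ => Nat) 1 3 20 18 0 18 1 0 18 0 1 3 63 1 3 2 66 20 20 20 0 1 20 20 0 0 20 1 20 0 20 0) (@D3.rec (fun _ => Nat) 20 1 0 1 3 20 20 0 20 0 20 1 0 1 3 20 20 0 20 1 0 20 0 1 3 20 1 3 2 3 18 0) (@D3.rec (fun _ => Nat) 18 1 0 18 0 1 64 64 1 65 18 0 18 0 1 63 63 0 1 63 63 1 63 69 20 0 22 69 1 3 22 69) (@D3.rec (fun _ => Nat) 1 3 22 22 67 2 3 69 69 4 63 67 69 68 20 20 20 65 1 20 20 0 65 20 1 20 0 20 0 20 1 69) (@D3.rec (fun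 _ => Nat) 1 65 20 20 0 20 1 0 20 0 1 3 20 1 70 2 72 20 0 20 1 0 20 66 1 70 20 20 0 20 0 1) (@D3.rec (fun _ => Nat) 3 20 0 1 3 20 20 1 74 2 71 18 0 20 0 1 3 0 1 3 20 1 66 2 0 0 1 1 0 1 17 0) (@D3.rec (fun _ => Nat) 22 1 3 22 22 2 3 2 3 3 22 22 4 20 20 20 20 0 20 20 19 19 64 19 64 65 64 65 19 19 0 19)
def lv_g_2 : D2 → D3 → Nat := @D2.rec (fun _ => D3 → Nat) (@D3.rec (fun _ => Nat) 1 1 19 0 19 1 0 21 0 1 3 21 1 3 2 0 1 3 2 3 21 17 2 66 0 1 0 1 17 1 17 21) (@D3.rec (fun _ => Nat) 69 21 68 21 66 68 21 21 66 21 68 21 68 66 21 68 68 18 64 64 64 21 70 23 68 23 68 23 23 68 21 21) (@D3.rec (fun _ => Nat) 0 0 21 1 21 0 21 0 21 1 0 1 3 21 21 0 21 1 0 21 0 1 3 21 1 3 2 3 18 0 18 0) (@D3.rec (fun _ =>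 Nat) 1 3 65 0 1 3 18 65 1 3 2 65 64 2 3 21 21 0 0 21 1 21 0 21 0 21 1 0 1 3 21 21) (@D3.rec (fun _ => Nat) 0 21 1 0 21 0 1 3 21 1 3 2 3 21 0 21 1 0 21 0 1 3 21 1 3 2 3 21 0 21 0 1) (@D3.rec (fun _ => Nat) 3 21 0 1 3 21 21 1 3 2 3 8 2 67 3 4 18 0 18 0 1 66 66 0 1 66 18 66 1 63 0 18) (@D3.rec (fun _ => Nat) 0 1 65 65 1 65 0 1 65 67 67 0 23 69 1 3 23 23 67 2 3 67 2 3 3 23 23 66 67 4 66 68) (@D3.rec (fun _ => Nat) 67 66 66 72 21 21 67 21 0 21 67 21 1 21 0 21 1 0 21 69 1 66 21 21 0 21 0 1 3 21 0 1) (@D3.rec (fun _ => Nat) 3 21 21 1 63 2 68 21 0 21 67 1 62 21 67 1 70 21 21 0 21 0 1 3 21 21 1 69 2 64 0 1) (@D3.rec (fun _ => Nat) 71 2 3 71 21 21 0 20 0 1 3 20 1 70 2 0 1 68 2 3 20 0 1 0 1 18 1 3 18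 1 3 23) (@D3.rec (fun _ => Nat) 23 2 3 3 23 23 4 4 4 5 5 0 23 23 21 21 21 0 21 21 1 2 21 66 19 66 67 19 66 67 0 19) (@D3.rec (fun _ => Nat) 1 19 1 0 1 3 21 0 1 3 2 3 21 18 2 70 1 18 2 4 0 1 1 18 18 22 67 22 65 22 65 65) (@D3.rec (fun _ => Nat) 22 66 67 22 67 22 69 68 22 65 65 22 22 65 67 68 66 66 68 73 24 68 24 24 68 68 68 24 24 22 0 22) (@D3.rec (fun _ => Nat) 0 22 1 0 1 3 22 22 0 22 1 0 22 0 1 3 22 1 3 2 3 22 0 22 0 1 3 22 0 1 3 22) (@D3.rec (fun _ => Nat) 22 1 3 2 3 8 2 3 3 4 0 20 0 1 3 20 65 1 3 2 67 0 1 3 2 3 65 65 62 2 3 4) (@D3.rec (fun _ => Nat) 5 22 0 22 0 22 1 0 1 3 22 22 0 22 1 0 22 0 1 3 22 1 3 2 3 22 0 22 0 1 3 22) (@D3.rec (fun _ => Nat) 0 1 3 22 22 1 3 2 3 9 2 3 3 4 22 0 22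 0 1 3 22 0 1 3 22 22 1 3 2 3 2 66) (@D3.rec (fun _ => Nat) 3 4 0 22 0 1 3 22 22 1 3 2 3 0 1 3 2 3 3 22 22 9 2 65 3 4 4 65 69 0 20 0) (@D3.rec (fun _ => Nat) 1 68 20 66 1 66 0 1 63 66 66 0 1 65 65 0 1 65 65 1 3 69 67 67 71 1 3 24 24 69 2 3) (@D3.rec (fun _ => Nat) 3 24 24 67 69 4 69 69 4 4 5 5 0 24 24 67 67 67 69 69 67 71 22 69 22 22 71 22 1 67 22 22) (@D3.rec (fun _ => Nat) 0 22 63 1 68 22 68 1 67 22 22 0 22 0 1 3 22 22 1 65 2 73 0 1 70 2 3 72 22 22 0 22) (@D3.rec (fun _ => Nat) 68 1 69 22 22 69 69 22 22 0 1 3 22 22 0 1 73 2 3 71 22 22 1 3 77 4 5 75 0 22 22 0)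
def lv_g_3 : D2 → D3 → Nat := @D2.rec (fun _ => D3 → Nat) (@D3.rec (fun _ => Nat) 1 3 22 0 1 72 2 3 22 1 3 70 4 5 67 0 1 1 3 19 19 2 3 2 3 3 24 24 24 4 4 5) (@D3.rec (fun _ => Nat) 5 0 24 24 4 4 0 5 5 1 2 24 22 22 0 22 22 1 2 22 2 3 22 66 67 21 66 67 1 21 0 1) (@D3.rec (fun _ => Nat) 3 2 3 23 23 1 19 2 4 19 0 1 19 19 19 23 67 23 70 70 23 66 66 23 23 66 68 66 68 71 23 68) (@D3.rec (fun _ => Nat) 68 23 23 68 68 68 66 68 68 23 23 66 66 66 68 72 25 25 70 70 25 25 68 70 0 25 25 23 0 23 1 0) (@D3.rec (fun _ => Nat) 23 0 1 3 23 1 3 2 3 23 0 23 0 1 3 23 0 1 3 23 23 1 3 2 3 9 2 3 3 4 0 23) (@D3.rec (fun _ => Nat) 0 1 3 23 23 1 3 2 3 0 1 3 2 3 3 23 23 9 2 3 3 4 67 4 4 5 5 0 1 3 20 67) (@D3.rec (fun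 _ => Nat) 0 1 3 2 3 67 67 64 2 3 1 3 66 2 3 4 5 67 4 5 4 5 23 0 23 1 69 23 0 1 3 23) (@D3.rec (fun _ => Nat) 1 3 2 3 23 0 23 0 1 3 23 0 1 3 23 23 1 3 2 3 2 3 3 4 0 23 0 1 3 23 23 1) (@D3.rec (fun _ => Nat) 3 2 3 0 1 3 2 3 3 23 23 10 2 3 3 4 10 4 4 67 5 0 23 0 1 3 23 23 1 3 2 3) (@D3.rec (fun _ => Nat) 0 1 3 2 3 3 23 23 2 66 3 4 4 68 0 1 3 23 23 0 1 3 2 3 3 23 23 10 2 67 3 4) (@D3.rec (fun _ => Nat) 1 3 10 2 3 3 4 4 5 5 0 23 23 4 64 66 64 66 0 1 68 20 68 0 1 67 68 68 1 3 65 70) (@D3.rec (fun _ => Nat) 0 1 67 1 3 67 66 2 67 3 67 64 66 72 2 3 3 25 25 25 69 69 4 4 5 5 0 25 25 66 69 67) (@D3.rec (fun _ => Nat) 67 69 4 4 0 5 5 1 2 25 64 66 66 66 72 66 23 23 71 23 23 0 23 63 1 68 23 23 71 68 23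 23) (@D3.rec (fun _ => Nat) 0 1 3 23 23 0 1 65 2 3 72 23 23 1 3 76 4 5 76 0 23 23 70 1 71 23 23 69 71 23 23 70) (@D3.rec (fun _ => Nat) 71 0 23 23 0 1 75 2 3 73 23 23 23 1 3 77 4 5 77 0 23 23 2 74 3 71 4 0 75 77 1 2) (@D3.rec (fun _ => Nat) 23 0 1 72 2 3 22 22 1 3 70 4 5 60 2 70 3 68 4 62 0 1 3 20 20 2 3 20 22 4 4 4) (@D3.rec (fun _ => Nat) 5 5 5 25 25 0 25 25 4 4 0 5 5 1 2 25 0 6 6 1 2 7 2 3 25 23 0 23 23 1 2 23) (@D3.rec (fun _ => Nat) 2 3 23 3 72 23 68 69 21 21 0 1 20 2 4 5 23 20 20 1 20 20 71 24 65 65 24 24 65 67 68 63) (@D3.rec (fun _ => Nat) 68 65 24 24 66 65 68 73 71 24 24 68 65 68 67 24 24 68 66 64 65 66 68 0 24 24 68 68 68 73 73 26) (@D3.rec (fun _ => Nat) 26 26 68 70 0 26 26 0 68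 70 1 2 26 24 0 24 0 1 3 24 71 1 3 24 24 1 3 2 3 20 2 3) (@D3.rec (fun _ => Nat) 3 4 0 24 0 1 3 24 24 1 3 2 3 0 1 3 2 3 3 24 24 10 2 3 3 4 10 4 4 5 5 0) (@D3.rec (fun _ => Nat) 1 3 24 24 0 1 3 2 3 3 24 24 10 2 3 3 4 1 3 10 2 3 3 4 4 5 5 0 24 24 65 4)
def lv_g_4 : D2 → D3 → Nat := @D2.rec (fun _ => D3 → Nat) (@D3.rec (fun _ => Nat) 4 5 5 67 4 4 5 5 0 1 3 2 3 67 22 67 1 3 67 2 3 4 5 67 4 5 64 2 3 3 4 5) (@D3.rec (fun _ => Nat) 5 4 71 4 5 6 7 24 71 24 0 1 3 24 69 71 24 24 1 3 2 3 20 2 3 3 4 0 24 0 1 3) (@D3.rec (fun _ => Nat) 24 24 1 3 2 3 72 1 3 2 71 3 24 24 2 3 3 4 4 4 68 5 0 1 3 24 24 0 1 3 2 3) (@D3.rec (fun _ => Nat) 3 24 24 11 2 3 3 4 1 3 11 2 3 3 4 4 5 5 0 24 24 11 4 4 5 5 11 4 65 67 5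 0) (@D3.rec (fun _ => Nat) 1 3 24 24 0 1 3 2 3 3 24 24 2 66 3 4 1 67 2 3 3 4 4 70 5 0 24 24 4 66 66 0) (@D3.rec (fun _ => Nat) 1 3 2 3 3 24 24 24 1 3 11 2 3 3 4 4 5 5 0 24 24 4 67 67 11 2 3 3 4 4 65 5) (@D3.rec (fun _ => Nat) 5 4 4 0 5 5 1 2 24 65 67 69 67 0 1 67 68 22 68 1 3 68 72 2 66 3 68 0 1 3 67 2) (@D3.rec (fun _ => Nat) 70 3 69 70 4 67 69 67 66 73 73 4 4 5 5 5 26 26 0 26 26 69 69 71 4 4 0 5 5 1 2 26) (@D3.rec (fun _ => Nat) 70 69 67 67 69 0 69 71 0 6 6 1 2 7 2 3 26 66 67 71 70 24 73 24 24 24 70 1 69 24 24 65) (@D3.rec (fun _ => Nat) 70 24 24 66 24 24 0 1 72 2 3 74 24 24 24 1 3 76 4 5 78 0 24 24 2 76 73 74 4 0 72 75) (@D3.rec (fun _ => Nat) 1 2 24 71 73 24 24 24 71 64 0 24 24 72 73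 1 2 24 0 1 3 79 4 5 5 79 24 24 0 24 24 2) (@D3.rec (fun _ => Nat) 76 3 77 4 0 75 77 1 2 24 4 71 74 0 0 1 2 70 2 3 24 0 1 3 72 4 5 5 24 59 2 72) (@D3.rec (fun _ => Nat) 3 70 4 61 4 70 72 63 1 3 21 2 3 21 23 4 21 23 4 4 4 5 5 0 5 5 26 0 26 26 1 2) (@D3.rec (fun _ => Nat) 26 0 6 6 1 2 7 2 3 26 1 2 6 2 3 7 3 70 26 0 24 24 1 2 24 24 2 3 24 3 72 24) (@D3.rec (fun _ => Nat) 68 69 1 21 4 25 21 21 21 69 69 25 25 70 65 70 67 25 25 68 70 66 64 66 66 68 0 25 25 64 66 68) (@D3.rec (fun _ => Nat) 71 69 71 73 25 25 25 68 66 68 68 70 0 25 25 66 68 66 66 0 68 72 1 2 25 68 71 68 72 71 74 27) (@D3.rec (fun _ => Nat) 27 0 27 27 0 70 72 1 2 27 1 2 72 2 3 27 67 25 73 1 3 25 25 1 3 2 3 71 2 3 3 25) (@D3.rec (fun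 _ => Nat) 25 2 3 3 4 21 4 4 5 5 0 1 3 25 25 0 1 3 2 3 3 25 25 11 2 3 3 4 1 3 11 2) (@D3.rec (fun _ => Nat) 3 3 4 4 5 5 0 25 25 11 4 4 5 5 69 11 4 4 5 5 5 0 1 3 2 3 3 25 25 25 1 3) (@D3.rec (fun _ => Nat) 11 2 3 3 4 4 5 5 0 25 25 67 4 4 5 5 11 2 3 3 67 4 4 5 5 5 4 4 0 5 5 1) (@D3.rec (fun _ => Nat) 2 25 67 4 4 5 5 6 6 7 7 0 1 3 68 2 3 4 5 5 69 69 66 2 3 3 4 5 5 4 71 4) (@D3.rec (fun _ => Nat) 5 69 66 4 4 5 5 5 4 4 72 67 6 7 6 71 25 69 71 25 25 1 3 2 3 69 71 25 25 21 2 3)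
def lv_g_5 : D2 → D3 → Nat := @D2.rec (fun _ => D3 → Nat) (@D3.rec (fun _ => Nat) 3 4 21 4 4 70 5 0 1 3 25 25 70 1 3 2 72 3 25 25 2 3 3 4 69 2 3 3 4 68 73 70) (@D3.rec (fun _ => Nat) 25 25 4 4 5 5 4 68 70 5 0 1 3 2 3 3 25 25 25 1 3 12 2 3 3 4 4 5 5 0 25 25) (@D3.rec (fun _ => Nat) 12 4 4 5 5 12 2 3 3 12 4 4 5 5 5 4 4 0 5 73 1 2 25 12 4 4 65 5 5 6 67 67) (@D3.rec (fun _ => Nat) 67 0 1 3 2 3 3 25 25 25 1 69 2 3 3 4 4 70 5 0 25 25 4 68 68 69 70 4 4 66 68 5) (@D3.rec (fun _ => Nat) 4 73 70 71 1 2 25 68 0 1 3 12 2 3 3 4 4 5 5 5 25 25 0 25 25 12 2 3 3 4 4 65) (@D3.rec (fun _ => Nat) 5 5 4 4 0 5 5 1 2 25 66 66 12 12 4 4 65 5 5 4 4 65 65 65 0 5 5 0 6 6 1 2) (@D3.rec (fun _ => Nat) 7 2 3 25 64 64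 66 0 1 3 67 70 72 68 2 67 3 70 4 68 67 1 3 2 69 3 69 4 67 69 72 72) (@D3.rec (fun _ => Nat) 67 67 69 73 72 74 4 4 4 5 5 0 5 5 27 0 27 27 1 2 27 72 67 69 0 69 71 0 6 6 1 2) (@D3.rec (fun _ => Nat) 7 2 3 27 70 74 69 67 69 0 67 71 1 2 71 1 2 6 2 3 7 3 72 27 66 25 25 72 72 25 25 25) (@D3.rec (fun _ => Nat) 68 25 25 25 0 1 3 78 4 5 5 78 25 25 0 25 25 2 78 72 76 4 0 76 75 1 2 25 69 0 0 1) (@D3.rec (fun _ => Nat) 2 70 2 3 25 71 71 77 71 25 25 0 25 25 74 73 1 2 25 2 3 25 1 3 2 77 3 71 79 4 4 5) (@D3.rec (fun _ => Nat) 70 0 77 79 25 0 25 25 1 2 25 4 74 74 0 0 1 2 70 2 3 25 0 72 1 1 2 3 73 3 70 25) (@D3.rec (fun _ => Nat) 1 3 2 72 3 68 70 4 4 5 60 24 60 4 70 72 62 64 70 22 2 3 3 22 24 4 22 24 22 6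 6 0) (@D3.rec (fun _ => Nat) 6 6 7 0 7 7 1 2 7 0 27 27 1 2 27 27 2 3 27 1 2 6 2 3 7 3 72 27 2 3 8 3) (@D3.rec (fun _ => Nat) 73 9 31 1 32 2 25 27 2 3 25 25 3 74 25 25 22 22 22 71 65 71 73 26 26 26 68 66 65 68 70 0) (@D3.rec (fun _ => Nat) 26 26 66 68 66 68 64 66 66 0 68 70 1 2 26 66 68 73 70 68 75 73 70 73 26 26 0 26 26 66 68 66) (@D3.rec (fun _ => Nat) 66 0 68 75 1 2 26 66 66 0 66 66 1 2 72 2 3 26 70 70 71 74 0 73 72 28 0 28 28 1 2 28) (@D3.rec (fun _ => Nat) 1 2 72 2 3 28 2 3 68 3 4 28 73 72 26 26 71 2 3 3 26 26 2 3 3 4 71 4 4 72 5 0) (@D3.rec (fun _ => Nat) 26 26 4 4 69 5 22 22 4 4 5 5 5 0 1 3 2 3 3 26 26 26 1 3 12 2 3 3 4 4 5 5) (@D3.rec (fun _ => Nat) 0 26 26 12 4 4 5 5 12 2 3 3 12 4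 4 5 5 5 4 4 0 5 5 1 2 26 67 12 4 4 5 5) (@D3.rec (fun _ => Nat) 5 69 69 6 6 6 7 7 7 0 1 3 12 2 3 3 4 4 5 5 5 26 26 0 26 26 12 2 3 3 67 4) (@D3.rec (fun _ => Nat) 4 5 5 5 4 4 0 5 5 1 2 26 67 4 4 5 5 12 12 4 4 5 5 5 65 67 4 4 4 5 5 5)
def lv_g_6 : D2 → D3 → Nat := @D2.rec (fun _ => D3 → Nat) (@D3.rec (fun _ => Nat) 0 5 5 0 6 6 1 2 7 2 3 26 6 6 7 7 6 6 7 1 3 69 2 3 3 4 5 5 4 4 5 69) (@D3.rec (fun _ => Nat) 71 69 67 4 4 5 5 5 4 4 5 69 6 7 67 67 4 4 4 65 71 5 5 72 6 71 73 26 26 71 73 26) (@D3.rec (fun _ => Nat) 26 2 3 3 4 71 26 22 4 4 5 5 22 22 4 68 70 5 72 1 3 2 70 3 26 26 26 71 2 3 3 4) (@D3.rec (fun _ => Nat) 68 73 72 26 26 4 4 5 5 69 71 4 4 5 69 5 71 70 26 4 4 66 5 5 6 70 68 70 0 1 3 13) (@D3.rec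 (fun _ => Nat) 2 3 3 4 4 5 5 5 26 26 0 26 26 13 2 3 3 13 4 4 5 5 5 4 4 0 5 75 1 2 26 13) (@D3.rec (fun _ => Nat) 4 4 5 5 5 13 4 4 5 74 5 13 13 4 4 4 63 5 5 0 5 5 0 6 1 2 73 2 3 26 6 6) (@D3.rec (fun _ => Nat) 67 65 7 69 67 0 1 71 2 3 3 4 4 5 74 5 26 26 0 26 26 70 72 4 4 66 70 5 4 66 72 78) (@D3.rec (fun _ => Nat) 1 2 26 70 68 68 70 4 68 66 70 70 5 72 2 3 26 1 3 13 2 3 3 4 4 5 5 5 4 4 4 5) (@D3.rec (fun _ => Nat) 5 0 5 5 26 0 26 26 1 2 26 13 13 4 4 67 5 5 4 4 70 67 67 0 5 5 0 6 6 1 2 7) (@D3.rec (fun _ => Nat) 2 3 26 68 72 13 13 4 4 65 67 67 0 73 5 0 6 6 67 65 65 0 67 67 1 2 7 1 2 6 2 3) (@D3.rec (fun _ => Nat) 75 3 70 26 66 1 3 2 68 3 70 70 70 4 68 68 68 2 3 3 4 72 69 72 71 69 70 69 67 72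 72 73) (@D3.rec (fun _ => Nat) 0 72 73 6 6 0 6 6 7 0 7 7 1 2 7 0 28 28 1 2 28 28 2 3 28 70 72 72 0 69 76 1) (@D3.rec (fun _ => Nat) 2 73 1 2 6 2 3 7 3 72 28 72 69 71 0 67 69 1 2 73 2 3 69 2 3 8 3 73 9 26 26 76) (@D3.rec (fun _ => Nat) 70 26 26 68 26 26 26 26 1 3 2 80 77 78 73 4 4 5 72 0 78 78 26 0 26 26 1 2 26 71 0 0) (@D3.rec (fun _ => Nat) 1 2 75 2 3 26 0 1 1 2 3 3 70 26 69 75 75 71 26 0 26 26 1 2 26 2 3 26 3 75 26 2) (@D3.rec (fun _ => Nat) 3 3 4 77 76 77 75 0 6 0 7 0 74 76 1 2 72 0 26 26 1 2 26 26 2 3 26 0 74 1 1 2) (@D3.rec (fun _ => Nat) 3 75 3 70 26 1 2 3 71 73 2 3 3 4 74 72 74 6 63 72 65 23 25 4 4 5 5 23 25 23 6 0) (@D3.rec (fun _ => Nat) 6 6 1 2 6 0 7 7 1 2 7 7 2 3 7 33 1 32 2 28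 30 2 3 28 28 3 72 28 2 3 8 3) (@D3.rec (fun _ => Nat) 73 9 28 3 70 8 33 2 32 3 28 3 23 71 70 69 71 71 71 71 27 27 0 27 27 68 70 68 68 68 0 70) (@D3.rec (fun _ => Nat) 75 1 2 27 66 68 71 64 66 66 64 64 66 66 66 1 2 70 2 3 27 66 72 71 73 69 71 71 73 73 0 73) (@D3.rec (fun _ => Nat) 75 27 0 27 27 1 2 27 68 68 0 68 68 1 2 77 2 3 27 68 68 68 1 2 68 2 3 70 3 4 27 72) (@D3.rec (fun _ => Nat) 70 71 0 73 75 1 2 74 0 29 29 1 2 29 29 2 3 29 2 3 70 3 4 29 3 4 70 4 5 5 29 73)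
def lv_g_7 : D2 → D3 → Nat := @D2.rec (fun _ => D3 → Nat) (@D3.rec (fun _ => Nat) 75 75 27 27 27 73 4 4 74 5 0 27 27 4 4 71 5 4 71 74 5 1 2 27 4 71 71 5 23 23 23 6) (@D3.rec (fun _ => Nat) 6 6 7 7 7 74 1 3 13 2 3 3 4 4 70 5 5 27 27 0 27 27 13 2 3 3 13 4 4 5 5 5) (@D3.rec (fun _ => Nat) 4 4 0 5 5 1 2 27 69 13 4 4 5 5 5 13 4 4 5 5 5 13 13 4 4 4 5 72 5 0 5 5) (@D3.rec (fun _ => Nat) 6 6 1 2 7 2 3 27 67 69 69 6 6 6 7 7 7 71 69 6 6 6 7 7 1 3 13 2 3 3 71 4) (@D3.rec (fun _ => Nat) 4 5 5 5 4 4 4 5 5 0 5 5 27 0 27 27 1 2 27 13 13 4 4 5 5 5 67 69 4 4 4 5) (@D3.rec (fun _ => Nat) 5 5 0 5 5 0 6 6 1 2 7 2 3 27 6 6 7 7 13 67 13 4 4 4 69 67 5 0 5 5 67 67) (@D3.rec (fun _ => Nat) 6 6 6 0 6 6 7 67 7 0 7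 7 1 2 7 1 2 6 2 3 7 3 74 27 6 6 7 8 74 2 3 3) (@D3.rec (fun _ => Nat) 71 68 4 4 5 5 5 4 4 5 5 6 77 73 69 68 4 4 4 5 69 5 5 6 72 67 6 69 6 6 74 71) (@D3.rec (fun _ => Nat) 71 71 73 27 27 27 71 27 4 4 5 5 23 23 4 4 74 5 5 23 6 70 70 70 76 73 2 3 3 4 70 70) (@D3.rec (fun _ => Nat) 76 27 27 68 27 27 69 71 4 4 5 70 5 72 72 27 4 4 5 5 5 69 4 4 66 5 69 5 73 27 6 6) (@D3.rec (fun _ => Nat) 68 68 7 70 68 1 3 14 2 3 3 14 4 4 5 5 5 4 4 4 5 5 0 5 76 27 0 27 27 1 2 27) (@D3.rec (fun _ => Nat) 14 4 4 5 74 5 14 14 4 4 4 5 5 5 0 5 5 0 6 1 2 73 2 3 27 6 6 6 65 7 7 14) (@D3.rec (fun _ => Nat) 14 4 4 65 74 5 27 74 5 14 14 6 6 27 6 6 65 65 65 29 7 7 1 2 7 1 2 2 3 72 3 72) (@D3.rec (fun _ => Nat) 27 6 67 67 7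 70 1 69 73 77 4 4 5 72 5 4 4 72 5 73 74 76 27 0 27 27 1 2 27 68 71 4) (@D3.rec (fun _ => Nat) 73 68 68 70 70 5 70 2 3 27 72 68 70 6 66 68 68 70 70 3 75 27 14 2 3 3 14 14 4 4 5 5) (@D3.rec (fun _ => Nat) 5 4 4 4 67 5 5 0 5 5 6 6 0 6 6 7 0 7 7 1 2 7 0 27 27 1 2 27 27 2 3 27) (@D3.rec (fun _ => Nat) 14 14 4 4 69 67 67 0 73 5 0 6 6 67 69 69 0 67 67 1 2 7 1 2 6 2 3 75 3 72 27 74) (@D3.rec (fun _ => Nat) 27 6 67 67 67 29 67 67 1 2 73 1 2 6 67 67 27 67 67 1 2 67 2 3 75 2 3 3 73 75 2 3) (@D3.rec (fun _ => Nat) 3 4 73 70 69 72 70 4 4 71 5 5 71 71 72 69 74 69 72 71 74 70 0 72 76 1 2 73 6 0 6 6) (@D3.rec (fun _ => Nat) 1 2 6 0 7 7 1 2 7 7 2 3 7 33 1 32 2 29 31 2 3 29 29 3 74 29 69 72 0 71 74 1) (@D3.rec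 (fun _ => Nat) 2 76 2 3 69 2 3 8 3 75 9 29 0 69 74 1 2 71 2 3 69 3 75 69 3 72 8 27 27 68 27 27) (@D3.rec (fun _ => Nat) 27 27 2 3 73 81 71 75 0 6 0 7 0 76 78 1 2 75 0 27 27 1 2 27 27 2 3 27 0 1 1 2)
def lv_g_8 : D2 → D3 → Nat := @D2.rec (fun _ => D3 → Nat) (@D3.rec (fun _ => Nat) 3 3 72 27 1 3 71 73 75 73 0 27 27 1 2 27 27 2 3 27 3 75 27 4 4 75 5 5 75 77 0 74) (@D3.rec (fun _ => Nat) 78 0 1 6 0 1 0 7 81 1 2 74 76 2 3 77 31 1 32 2 27 27 2 3 27 27 3 72 27 1 2 3) (@D3.rec (fun _ => Nat) 73 75 27 2 4 4 73 5 5 74 72 64 26 4 4 0 5 5 24 0 8 8 1 2 8 8 2 3 8 31 1 34) (@D3.rec (fun _ => Nat) 2 9 9 2 3 9 9 3 73 9 33 2 34 3 31 3 4 3 72 8 9 3 77 70 68 73 66 68 68 70 73 0) (@D3.rec (fun _ => Nat) 70 73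 28 0 28 28 1 2 28 66 68 68 64 66 66 68 68 68 1 2 75 2 3 28 66 68 66 68 68 66 66 68) (@D3.rec (fun _ => Nat) 68 2 3 70 3 75 28 68 70 75 68 70 70 68 68 0 70 70 70 0 72 75 1 2 75 0 28 28 1 2 28 28) (@D3.rec (fun _ => Nat) 2 3 28 68 68 68 1 2 68 2 3 70 3 4 28 68 68 2 3 68 3 4 70 4 78 72 28 72 72 0 68 71) (@D3.rec (fun _ => Nat) 1 2 76 75 2 3 70 35 1 33 2 30 32 2 3 30 30 3 4 30 3 4 70 4 5 5 30 4 77 79 75 5) (@D3.rec (fun _ => Nat) 5 71 6 30 73 75 75 28 28 0 28 28 4 71 74 5 1 2 28 4 71 71 5 6 71 74 2 78 28 6 77 71) (@D3.rec (fun _ => Nat) 75 24 24 24 6 6 6 7 7 72 76 14 2 3 3 14 4 4 5 5 5 4 4 72 72 0 5 5 28 0 28 28) (@D3.rec (fun _ => Nat) 1 2 28 14 4 4 5 5 5 14 14 4 4 4 5 72 5 0 5 5 6 6 1 2 7 2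 3 28 67 71 71 6) (@D3.rec (fun _ => Nat) 6 6 7 7 7 14 14 4 4 4 67 26 5 28 5 5 65 14 14 6 6 6 6 7 26 7 29 72 7 1 2 7) (@D3.rec (fun _ => Nat) 6 2 76 7 3 76 28 67 69 69 6 6 6 7 77 7 71 8 8 9 14 2 3 3 14 14 4 4 5 5 5 69) (@D3.rec (fun _ => Nat) 71 4 4 4 5 5 5 0 5 5 6 6 0 6 6 7 0 7 7 1 2 7 0 28 28 1 2 28 28 2 3 28) (@D3.rec (fun _ => Nat) 14 69 14 4 4 4 5 69 5 0 5 5 69 67 6 6 6 0 6 6 7 7 7 0 7 7 1 2 7 1 2 6) (@D3.rec (fun _ => Nat) 2 3 7 3 76 28 6 6 7 72 69 6 6 6 73 71 28 67 7 1 2 7 69 69 6 6 6 6 1 2 6 69) (@D3.rec (fun _ => Nat) 7 28 69 7 1 2 7 2 3 7 2 76 8 3 79 9 8 71 69 4 4 5 5 5 69 69 4 4 4 5 5 5) (@D3.rec (fun _ => Nat) 5 6 6 72 73 76 69 6 6 6 72 71 7 71 75 73 28 28 28 4 4 80 5 5 24 6 6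 76 76 74 32 72) (@D3.rec (fun _ => Nat) 76 72 72 73 73 4 4 5 72 5 70 72 73 28 72 28 28 72 28 71 4 4 5 5 71 5 76 28 6 6 6 66) (@D3.rec (fun _ => Nat) 7 7 71 6 6 70 66 7 71 6 68 73 7 74 74 2 3 3 15 4 4 5 76 5 15 15 4 4 4 5 5 5) (@D3.rec (fun _ => Nat) 0 5 5 6 6 0 6 7 0 7 78 1 2 75 0 28 28 1 2 28 28 2 3 28 15 15 4 4 5 74 5 30) (@D3.rec (fun _ => Nat) 76 5 15 15 6 6 6 27 6 6 67 7 7 29 7 7 1 2 7 1 2 2 3 74 3 72 28 6 6 67 7 7)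
def lv_g_9 : D2 → D3 → Nat := @D2.rec (fun _ => D3 → Nat) (@D3.rec (fun _ => Nat) 15 6 6 67 65 74 7 30 74 15 15 6 6 27 6 67 69 65 65 29 7 7 2 3 74 2 3 72 8 69 67 9) (@D3.rec (fun _ => Nat) 71 77 71 72 4 4 68 72 5 72 72 5 6 72 73 77 74 74 0 30 28 1 2 28 28 2 3 28 71 70 74 6) (@D3.rec (fun _ => Nat) 70 70 68 70 72 74 74 3 77 28 70 68 70 72 15 15 4 4 5 5 5 15 15 4 4 4 70 5 5 0 78 5) (@D3.rec (fun _ => Nat) 6 6 0 6 6 68 70 70 7 0 7 7 1 2 7 6 0 6 6 1 2 6 0 7 7 1 2 7 7 2 3 77) (@D3.rec (fun _ => Nat) 32 1 30 2 28 30 2 3 28 28 3 72 28 27 6 70 72 72 29 69 69 1 2 75 1 2 6 70 70 0 72 69) (@D3.rec (fun _ => Nat) 1 2 69 2 3 75 2 3 3 73 75 28 69 69 67 67 29 69 2 3 2 3 29 69 69 29 67 2 3 69 3 73) (@D3.rec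 (fun _ => Nat) 76 3 4 4 70 5 5 70 70 4 4 70 73 71 0 5 5 71 74 72 72 72 70 0 74 74 0 72 72 1 2 78) (@D3.rec (fun _ => Nat) 74 2 3 71 0 8 8 1 2 8 8 2 3 8 31 1 32 2 9 9 2 3 9 9 3 75 9 35 2 32 3 32) (@D3.rec (fun _ => Nat) 30 3 4 0 72 74 1 2 76 2 3 71 3 75 71 3 72 8 9 1 2 76 2 3 69 3 73 71 70 4 77 5) (@D3.rec (fun _ => Nat) 75 73 0 80 0 1 6 0 1 0 7 79 1 2 74 76 2 3 31 1 30 2 2 3 3 72 1 3 71 71 73 75) (@D3.rec (fun _ => Nat) 76 1 77 76 2 3 3 77 4 4 78 79 0 5 5 73 0 76 1 2 0 81 1 0 8 1 31 1 33 2 9 80) (@D3.rec (fun _ => Nat) 2 3 72 78 3 70 75 33 2 32 77 3 4 79 2 75 4 4 76 5 5 6 6 1 2 7 32 1 34 2 8 8) (@D3.rec (fun _ => Nat) 2 3 8 8 3 72 8 33 2 34 3 9 9 3 4 9 9 9 3 76 4 10 69 73 69 71 71 67 69 69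 71 71) (@D3.rec (fun _ => Nat) 70 69 0 73 73 1 2 75 0 29 29 1 2 29 29 2 3 29 66 68 70 70 66 68 68 68 70 70 2 3 72 3) (@D3.rec (fun _ => Nat) 77 29 68 70 66 70 66 66 70 68 3 74 70 79 69 71 71 71 71 72 73 70 69 0 71 68 1 2 70 0 69 71) (@D3.rec (fun _ => Nat) 1 2 77 73 2 3 72 33 1 31 2 29 31 2 3 29 29 3 4 29 70 70 2 3 70 3 4 72 4 78 74 29) (@D3.rec (fun _ => Nat) 72 70 3 4 70 4 77 72 80 29 0 72 72 33 1 33 2 73 72 2 3 78 75 3 4 72 35 2 33 3 33 31) (@D3.rec (fun _ => Nat) 3 4 31 31 4 83 85 31 4 77 79 79 5 5 82 83 31 77 6 73 73 76 77 0 1 2 6 73 76 2 80 6) (@D3.rec (fun _ => Nat) 73 73 75 73 75 8 8 80 76 76 15 4 4 5 5 5 15 15 4 4 4 5 5 5 0 5 5 6 6 69 0 72) (@D3.rec (fun _ => Nat) 75 1 2 7 0 1 2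 2 3 15 15 4 4 4 5 28 5 28 5 5 67 15 15 6 6 6 6 7 74 7 28 74) (@D3.rec (fun _ => Nat) 7 1 2 7 6 2 78 7 3 74 69 69 71 76 6 6 6 7 7 7 15 6 6 6 67 67 28 7 30 7 67 15) (@D3.rec (fun _ => Nat) 15 6 6 6 6 28 7 71 7 28 74 7 2 3 7 8 78 74 76 8 8 75 77 78 8 15 15 4 4 5 73 5)
def lv_g_10 : D2 → D3 → Nat := @D2.rec (fun _ => D3 → Nat) (@D3.rec (fun _ => Nat) 15 72 15 4 4 4 5 5 5 0 5 5 69 69 69 6 6 6 0 6 6 7 7 7 7 0 7 7 1 2 7 6) (@D3.rec (fun _ => Nat) 0 6 6 1 2 6 0 77 7 1 2 7 74 2 3 7 32 1 32 2 2 3 3 79 77 69 6 6 6 6 71 69) (@D3.rec (fun _ => Nat) 7 28 69 7 1 2 7 69 69 6 6 6 6 6 1 2 6 74 7 0 7 7 1 2 7 2 3 7 2 76 8 3) (@D3.rec (fun _ => Nat) 79 9 8 69 6 6 69 71 28 71 2 3 7 69 8 8 8 2 3 8 28 69 9 30 73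 2 3 9 3 73 9 79) (@D3.rec (fun _ => Nat) 8 82 79 74 70 4 4 4 5 5 5 0 5 5 71 6 6 6 6 74 69 7 80 78 69 6 75 73 6 6 78 75) (@D3.rec (fun _ => Nat) 76 76 79 68 78 71 73 4 4 5 72 5 74 5 70 78 74 70 76 77 6 6 6 68 7 7 73 6 6 70 7 7) (@D3.rec (fun _ => Nat) 6 68 73 7 8 77 71 73 74 4 4 5 5 5 16 16 4 4 5 76 5 29 78 5 16 16 16 6 6 6 29 6) (@D3.rec (fun _ => Nat) 6 65 7 7 7 0 7 7 1 2 7 6 0 6 1 2 0 7 7 1 2 75 78 2 3 79 30 1 30 2 2 3) (@D3.rec (fun _ => Nat) 3 74 16 6 6 6 65 76 7 76 7 29 76 16 16 6 6 6 6 29 6 65 65 31 7 7 29 7 7 2 3 74) (@D3.rec (fun _ => Nat) 2 3 72 8 8 67 9 9 16 6 67 67 75 7 29 16 8 8 29 67 67 67 67 27 9 9 3 72 8 69 71 71) (@D3.rec (fun _ => Nat) 71 71 73 75 6 6 70 70 72 73 72 7 74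 74 75 77 69 75 74 0 1 3 2 2 3 3 79 70 72 68 70 72) (@D3.rec (fun _ => Nat) 68 70 76 70 70 16 16 4 4 4 69 5 5 0 5 5 6 6 29 6 67 69 69 7 0 78 7 1 2 78 6 0) (@D3.rec (fun _ => Nat) 6 6 1 2 6 67 67 69 0 69 69 0 7 7 1 2 7 7 2 3 77 0 8 8 1 2 8 8 2 3 33 1) (@D3.rec (fun _ => Nat) 32 2 9 9 2 3 9 9 3 75 77 34 2 32 3 3 4 74 69 69 31 71 71 29 69 2 3 2 3 29 69 69) (@D3.rec (fun _ => Nat) 1 2 71 2 3 69 3 75 77 3 77 69 69 69 31 69 3 3 29 69 31 69 3 75 69 4 4 70 5 5 6 6) (@D3.rec (fun _ => Nat) 69 71 71 0 73 71 1 2 7 74 69 0 71 74 0 67 71 1 2 75 74 33 1 32 2 69 73 2 3 77 76 3) (@D3.rec (fun _ => Nat) 77 71 32 1 32 2 8 8 2 3 8 8 3 74 8 33 2 32 3 9 9 3 4 9 9 9 32 3 79 77 4 1) (@D3.rec (fun _ => Nat) 2 74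 2 3 73 3 75 71 78 10 2 3 71 3 74 71 77 4 83 77 75 75 73 0 1 0 82 1 0 8 1 29) (@D3.rec (fun _ => Nat) 1 31 74 9 82 2 3 74 79 3 76 2 3 73 73 75 77 3 6 6 80 80 82 79 1 2 7 0 75 75 1 2) (@D3.rec (fun _ => Nat) 2 31 1 33 77 34 1 30 8 31 2 33 79 76 74 3 4 72 80 73 75 4 76 6 6 76 7 6 2 84 7 34) (@D3.rec (fun _ => Nat) 2 36 3 10 10 3 4 10 10 77 10 3 33 11 4 11 68 70 70 66 68 68 70 70 66 66 68 68 68 68 70 70) (@D3.rec (fun _ => Nat) 0 68 70 1 2 74 78 2 3 72 29 1 31 2 2 3 3 75 66 68 72 66 66 68 68 70 70 3 80 78 68 80)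
def lv_g_11 : D2 → D3 → Nat := @D2.rec (fun _ => D3 → Nat) (@D3.rec (fun _ => Nat) 68 70 68 81 72 70 79 70 70 0 72 71 70 73 70 70 70 72 0 71 70 1 2 70 70 2 3 72 33 1 33 2) (@D3.rec (fun _ => Nat) 73 72 2 3 76 75 3 4 74 31 2 76 3 3 4 4 5 78 72 70 3 4 70 4 79 78 81 81 74 4 79 78) (@D3.rec (fun _ => Nat) 75 80 1 2 72 33 2 33 3 76 74 3 4 78 76 4 85 82 79 33 3 35 4 4 83 84 80 77 73 76 1 2) (@D3.rec (fun _ => Nat) 73 80 73 69 78 78 16 16 4 4 4 5 5 5 30 5 5 16 16 16 6 6 6 6 6 7 74 7 72 0 7 7) (@D3.rec (fun _ => Nat) 1 2 7 6 0 72 72 1 2 74 2 81 7 34 1 2 3 16 6 6 6 6 71 30 7 28 7 30 7 69 71 16) (@D3.rec (fun _ => Nat) 16 6 6 6 6 28 7 30 71 7 31 74 7 2 3 7 8 78 74 74 67 8 8 8 79 9 80 16 6 6 69 69)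 (@D3.rec (fun _ => Nat) 28 7 29 7 72 16 8 8 8 8 73 9 73 9 28 76 3 78 76 78 73 79 16 16 4 4 5 73 5 0 73 5) (@D3.rec (fun _ => Nat) 75 70 71 6 6 6 6 6 71 70 7 7 0 7 7 1 2 7 69 69 71 71 6 6 6 6 0 6 6 1 2 6) (@D3.rec (fun _ => Nat) 71 7 7 0 7 7 0 70 7 1 2 7 7 2 3 7 0 8 1 2 8 2 78 8 34 1 36 2 79 9 2 3) (@D3.rec (fun _ => Nat) 9 76 3 81 9 34 2 3 73 6 6 6 73 30 72 7 30 75 2 3 7 73 8 8 8 8 2 3 8 32 73 9) (@D3.rec (fun _ => Nat) 1 2 9 2 3 9 3 77 9 81 8 79 9 8 75 31 71 3 71 9 71 8 8 3 76 8 30 73 30 73 3 4) (@D3.rec (fun _ => Nat) 9 78 77 80 79 81 71 6 6 6 80 6 6 74 7 7 79 7 1 2 7 6 74 73 73 78 76 73 73 71 73 6) (@D3.rec (fun _ => Nat) 6 6 68 7 72 71 7 73 72 80 6 6 70 7 7 8 8 73 9 75 8 68 77 73 76 76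 4 4 4 5 5 5) (@D3.rec (fun _ => Nat) 70 5 5 17 17 6 6 6 68 74 7 76 31 76 7 31 78 17 17 17 17 6 6 6 29 6 6 31 6 68 68 7) (@D3.rec (fun _ => Nat) 29 7 7 0 7 7 1 2 7 7 2 3 79 0 8 8 1 2 2 32 1 33 2 9 9 2 3 79 81 3 72 77) (@D3.rec (fun _ => Nat) 32 2 3 17 6 6 67 76 7 77 7 31 17 8 8 8 8 35 67 67 31 9 9 31 9 9 3 74 8 8 69 9) (@D3.rec (fun _ => Nat) 9 8 69 67 17 8 8 69 69 67 30 73 68 72 70 73 70 72 6 70 70 70 70 72 70 72 72 72 7 74 74 75) (@D3.rec (fun _ => Nat) 75 77 74 76 1 73 2 2 2 3 72 72 72 74 74 70 17 6 6 6 6 68 70 70 7 0 7 7 1 2 7 6) (@D3.rec (fun _ => Nat) 29 6 70 70 69 31 72 69 0 7 78 1 2 78 7 2 3 0 8 8 1 2 8 8 2 3 68 29 70 69 0 68) (@D3.rec (fun _ => Nat) 70 1 2 69 69 33 1 34 2 9 9 2 3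 9 9 3 77 77 34 1 34 2 8 8 2 3 8 8 3 33 2 34) (@D3.rec (fun _ => Nat) 3 9 9 3 4 77 9 75 75 34 3 4 72 71 33 71 29 71 3 3 31 71 2 3 71 3 77 71 76 71 71 79) (@D3.rec (fun _ => Nat) 30 71 78 69 78 6 6 71 7 6 70 70 0 72 72 1 2 73 2 3 7 0 69 70 1 2 76 33 1 34 2 72)
def lv_g_12 : D2 → D3 → Nat := @D2.rec (fun _ => D3 → Nat) (@D3.rec (fun _ => Nat) 71 2 3 77 74 33 2 34 3 75 73 3 4 79 75 85 80 34 2 34 3 10 10 3 4 10 10 74 10 32 3 31) (@D3.rec (fun _ => Nat) 4 11 11 11 4 11 79 2 3 73 3 79 73 79 83 3 74 77 72 75 0 73 1 81 1 33 75 30 1 30 8 31) (@D3.rec (fun _ => Nat) 76 74 3 76 74 76 75 6 74 73 80 76 79 2 80 7 35 1 35 2 75 80 2 33 34 33 74 77 4 75 75 76) (@D3.rec (fun _ => Nat) 75 6 7 8 84 9 34 3 32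 81 10 4 79 81 10 67 69 69 73 71 71 69 71 71 70 72 67 69 68 69 69 69) (@D3.rec (fun _ => Nat) 71 70 70 74 72 34 1 31 2 71 72 2 3 76 80 3 76 74 31 2 3 68 70 72 68 68 70 78 76 78 80 70) (@D3.rec (fun _ => Nat) 79 80 72 72 78 81 80 70 0 71 71 1 2 73 70 70 73 72 70 70 74 72 35 1 35 2 71 70 2 3 70 70) (@D3.rec (fun _ => Nat) 3 4 72 35 2 35 3 74 72 3 4 78 74 4 5 72 74 76 3 4 84 5 74 72 4 79 74 81 82 82 77 2) (@D3.rec (fun _ => Nat) 3 75 33 3 35 4 76 74 74 4 84 83 84 76 83 79 33 4 71 69 71 78 78 80 17 17 6 6 6 6 6 72) (@D3.rec (fun _ => Nat) 28 7 7 32 7 7 32 7 67 17 17 17 17 6 6 6 6 6 30 7 71 30 74 7 0 70 74 1 2 7 7 2) (@D3.rec (fun _ => Nat) 3 7 8 32 1 36 2 74 71 2 77 82 9 17 6 6 6 69 30 7 30 7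 30 7 69 69 17 8 8 8 8 76) (@D3.rec (fun _ => Nat) 9 30 76 9 32 74 3 80 76 80 76 8 75 9 80 8 8 69 71 76 28 78 17 8 8 73 76 72 75 74 17 6) (@D3.rec (fun _ => Nat) 6 6 74 71 7 69 0 71 7 1 2 72 71 73 6 6 6 6 6 73 69 30 69 7 0 68 7 1 2 7 7 2) (@D3.rec (fun _ => Nat) 3 7 71 71 71 73 8 8 8 8 0 8 1 2 8 8 2 3 8 71 30 71 9 0 70 9 1 2 9 9 34 1) (@D3.rec (fun _ => Nat) 34 2 70 9 2 3 9 9 3 79 9 1 2 8 2 78 8 82 8 36 2 36 3 71 9 3 4 9 78 81 9 8) (@D3.rec (fun _ => Nat) 8 75 30 71 28 71 3 81 9 75 8 8 8 3 76 8 32 73 2 3 9 3 4 9 79 9 81 80 10 84 83 8) (@D3.rec (fun _ => Nat) 77 80 10 78 78 30 77 4 77 77 71 6 6 80 6 75 6 75 76 80 7 78 2 3 7 73 73 73 6 6 68 7) (@D3.rec (fun _ => Nat) 74 74 7 72 8 8 70 9 8 79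 9 76 79 69 76 6 6 6 6 6 67 69 7 78 71 7 7 75 7 18 18 6) (@D3.rec (fun _ => Nat) 6 67 76 76 7 31 76 73 31 76 7 31 71 18 18 18 8 8 8 29 8 8 29 8 8 29 67 67 67 31 70 9) (@D3.rec (fun _ => Nat) 33 9 9 35 1 34 2 9 9 2 3 9 9 3 77 77 32 1 33 2 8 8 2 34 2 33 3 9 79 3 4 74) (@D3.rec (fun _ => Nat) 81 75 8 8 67 78 9 18 8 8 8 8 67 67 29 9 9 9 31 10 10 69 11 69 69 72 75 75 72 73 75 8) (@D3.rec (fun _ => Nat) 73 70 72 72 72 72 72 68 74 70 76 74 74 9 77 76 77 77 79 2 74 74 76 18 6 6 6 6 69 69 71 78) (@D3.rec (fun _ => Nat) 71 70 72 7 80 1 2 7 7 2 3 7 31 8 8 69 69 69 31 71 71 31 71 71 35 1 33 2 9 78 2 3)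
def lv_g_13 : D2 → D3 → Nat := @D2.rec (fun _ => D3 → Nat) (@D3.rec (fun _ => Nat) 76 9 3 34 1 34 2 8 8 2 3 8 8 3 31 70 69 31 69 69 35 1 34 2 72 71 2 3 71 71 35 2) (@D3.rec (fun _ => Nat) 34 3 9 9 3 4 77 9 0 75 77 34 2 34 3 10 10 3 4 10 32 3 33 4 11 79 11 4 72 77 79 78) (@D3.rec (fun _ => Nat) 71 33 73 79 31 71 3 77 73 77 78 73 71 73 75 6 7 8 74 71 70 1 2 72 2 3 74 3 4 9 36 1) (@D3.rec (fun _ => Nat) 37 2 72 71 2 3 77 35 2 34 3 75 73 3 4 77 75 81 32 3 33 4 77 75 75 4 82 77 85 34 3 32) (@D3.rec (fun _ => Nat) 4 10 10 10 4 76 76 10 79 4 11 3 77 73 75 77 75 77 79 37 1 33 75 77 30 76 75 8 79 69 71 75) (@D3.rec (fun _ => Nat) 80 73 87 84 9 37 2 35 3 80 77 8 8 86 85 9 34 68 68 70 71 70 69 70 71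 68 71 70 70 70 74 69) (@D3.rec (fun _ => Nat) 68 68 68 70 69 70 71 70 70 70 70 72 72 34 2 33 3 72 72 3 4 78 83 74 74 68 79 80 68 68 85 78) (@D3.rec (fun _ => Nat) 81 80 78 78 80 68 72 72 1 2 71 71 2 3 73 72 71 72 73 72 74 72 72 76 74 35 2 35 3 74 72 3) (@D3.rec (fun _ => Nat) 4 72 72 0 4 5 78 74 33 3 35 4 76 74 74 4 5 83 78 76 5 79 74 83 78 80 80 77 3 4 75 33) (@D3.rec (fun _ => Nat) 4 35 84 85 81 78 85 76 82 81 81 71 71 71 69 71 71 71 80 72 18 18 6 6 6 6 6 71 30 30 7 30) (@D3.rec (fun _ => Nat) 69 7 30 7 7 30 7 69 18 18 18 8 8 8 8 8 30 76 9 30 71 76 32 76 9 32 1 36 2 71 76 2) (@D3.rec (fun _ => Nat) 3 9 9 3 81 9 8 2 80 3 73 73 78 80 78 8 8 8 73 34 9 80 32 80 73 18 8 8 78 77 30 9) (@D3.rec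 (fun _ => Nat) 78 75 78 80 10 75 85 75 79 73 18 6 6 72 73 70 77 7 68 70 1 2 73 7 2 3 74 71 8 8 8 8) (@D3.rec (fun _ => Nat) 8 73 30 70 70 30 71 9 35 1 36 2 70 9 2 3 9 9 3 81 9 71 71 71 73 8 8 8 8 1 2 8) (@D3.rec (fun _ => Nat) 2 3 8 8 3 80 8 32 72 73 32 75 9 34 1 36 2 72 9 2 3 9 9 34 2 36 3 72 9 3 4 9) (@D3.rec (fun _ => Nat) 9 0 84 9 2 3 10 80 10 87 82 10 36 3 38 4 73 11 78 4 86 11 80 84 81 8 32 75 80 9 10 10) (@D3.rec (fun _ => Nat) 79 78 10 32 75 3 4 11 4 82 79 11 82 81 81 8 77 8 75 76 79 3 80 79 75 73 8 8 72 9 74 73) (@D3.rec (fun _ => Nat) 9 8 73 9 10 73 75 69 78 6 6 6 6 70 68 71 69 7 79 78 73 7 7 75 77 19 8 8 69 76 78 9) (@D3.rec (fun _ => Nat) 35 31 31 78 80 31 78 9 75 19 19 19 8 8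 8 31 8 8 35 8 8 70 68 69 69 35 36 31 69 9 31 9) (@D3.rec (fun _ => Nat) 9 9 35 2 36 3 9 9 3 4 79 9 0 77 32 2 35 3 10 33 3 32 4 81 79 81 4 77 79 8 69 9) (@D3.rec (fun _ => Nat) 10 10 10 69 69 31 11 11 10 11 74 75 75 72 72 74 8 72 72 74 72 72 72 72 70 76 72 74 74 74 0 74) (@D3.rec (fun _ => Nat) 79 74 74 8 8 8 8 70 70 70 72 71 72 74 72 72 70 69 72 9 80 2 3 9 9 3 4 9 8 8 70 72)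
def lv_g_14 : D2 → D3 → Nat := @D2.rec (fun _ => D3 → Nat) (@D3.rec (fun _ => Nat) 71 71 35 35 33 72 74 31 71 71 35 2 35 3 80 80 3 4 80 0 36 2 36 3 10 10 3 4 10 0 39 38) (@D3.rec (fun _ => Nat) 31 70 71 31 71 71 35 2 36 3 73 71 3 4 71 71 0 34 3 33 4 11 79 11 4 77 5 79 79 0 1 36) (@D3.rec (fun _ => Nat) 3 34 4 10 10 4 79 79 4 77 79 11 79 79 76 73 79 73 81 79 73 77 79 73 77 8 8 74 72 2 74 3) (@D3.rec (fun _ => Nat) 76 4 82 81 9 38 2 37 3 73 73 3 4 77 34 3 33 4 75 73 73 4 79 79 75 83 86 4 77 80 75 82) (@D3.rec (fun _ => Nat) 36 4 34 76 76 12 79 85 77 81 79 77 8 79 74 74 82 82 76 84 84 81 9 37 3 35 10 82 11 71 69 71) (@D3.rec (fun _ => Nat) 70 71 71 72 74 70 71 75 72 72 74 71 70 70 70 70 71 71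 72 72 72 72 72 72 0 76 74 31 3 33 4 74) (@D3.rec (fun _ => Nat) 74 83 4 76 78 88 86 70 78 80 70 82 83 84 74 85 70 73 73 2 3 73 73 3 4 75 74 73 74 73 76 74) (@D3.rec (fun _ => Nat) 72 72 0 76 35 3 37 4 74 72 72 4 5 5 72 72 0 1 5 81 74 81 35 4 37 5 83 76 76 74 74 5) (@D3.rec (fun _ => Nat) 84 83 81 76 74 76 76 4 83 81 77 86 85 84 81 81 79 80 81 73 71 73 69 71 71 71 72 72 19 8 8 8) (@D3.rec (fun _ => Nat) 8 8 73 30 30 9 32 70 9 30 9 9 30 9 69 19 19 19 8 8 8 8 8 73 76 9 32 76 32 78 9 9) (@D3.rec (fun _ => Nat) 2 36 3 72 76 3 4 9 9 0 80 76 3 80 73 78 75 76 8 75 9 80 80 10 75 87 78 87 73 8 8 73) (@D3.rec (fun _ => Nat) 77 71 80 9 71 70 2 3 72 9 3 80 74 73 8 8 8 8 8 75 32 70 71 30 71 9 37 2 36 3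 71 9) (@D3.rec (fun _ => Nat) 3 4 9 9 0 73 9 73 73 73 75 10 10 10 10 2 3 10 3 4 10 10 0 78 78 10 32 72 73 32 73 11) (@D3.rec (fun _ => Nat) 36 2 36 3 72 11 3 4 11 11 0 34 3 36 4 73 11 11 4 88 5 11 11 0 1 86 85 3 78 10 82 80) (@D3.rec (fun _ => Nat) 10 79 82 4 38 88 75 73 11 77 86 11 82 10 73 85 79 10 10 82 77 4 5 75 11 75 82 82 75 75 8 8) (@D3.rec (fun _ => Nat) 70 9 9 76 75 0 10 75 77 71 8 8 8 69 68 73 71 9 73 80 73 9 9 75 78 20 8 8 69 78 78 9) (@D3.rec (fun _ => Nat) 9 37 75 33 78 80 33 78 0 75 20 20 20 10 10 10 10 31 10 10 31 10 0 70 69 69 69 69 37 36 33 69) (@D3.rec (fun _ => Nat) 11 31 11 11 11 0 34 3 35 4 11 78 11 4 75 5 80 0 1 34 3 32 4 77 79 81 79 10 69 10 10 69) (@D3.rec (fun _ =>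 Nat) 31 11 12 13 74 75 76 77 76 0 0 74 72 74 74 74 74 0 74 70 76 72 76 76 0 1 76 8 8 8 8 71) (@D3.rec (fun _ => Nat) 70 70 72 72 73 74 72 72 72 72 74 80 83 3 4 9 9 0 4 5 84 9 0 72 74 73 71 37 35 33 74 77) (@D3.rec (fun _ => Nat) 33 73 73 0 37 3 35 4 80 81 4 5 0 1 36 3 34 4 10 10 4 5 0 1 39 40 33 71 71 31 71 71) (@D3.rec (fun _ => Nat) 0 34 3 35 4 75 73 73 4 77 5 73 73 0 1 34 4 35 79 5 79 11 81 81 0 5 79 0 79 0 1 36)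
def lv_g_15 : D2 → D3 → Nat := @D2.rec (fun _ => D3 → Nat) (@D3.rec (fun _ => Nat) 4 34 76 12 78 81 75 81 81 77 73 10 74 76 83 11 37 3 36 4 73 73 4 76 79 81 4 76 77 77 75 75) (@D3.rec (fun _ => Nat) 77 82 80 77 77 81 10 73 73 76 84 84 78 78 81 80 84 11 39 10 71 69 72 72 71 71 74 76 70 70 73 74) (@D3.rec (fun _ => Nat) 74 74 0 76 70 70 70 70 70 0 71 73 72 72 72 72 72 72 72 72 0 1 85 4 35 78 74 83 74 83 80 82) (@D3.rec (fun _ => Nat) 80 82 85 87 87 72 73 73 3 4 73 73 0 4 5 84 75 76 73 75 76 78 78 74 74 74 0 1 35 4 37 5) (@D3.rec (fun _ => Nat) 5 76 76 74 74 0 5 5 85 6 0 82 74 0 1 76 78 5 37 82 82 81 83 78 79 76 76 81 76 80 87 81) (@D3.rec (fun _ => Nat) 79 81 79 75 73 73 72 73 74 73 80 76 20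 8 8 8 8 8 73 34 36 9 9 36 71 9 32 9 9 0 32 77) (@D3.rec (fun _ => Nat) 73 20 20 20 10 10 10 10 10 0 78 78 77 11 32 78 32 78 11 0 3 38 4 73 76 76 4 84 5 78 11 0) (@D3.rec (fun _ => Nat) 1 78 75 76 80 10 75 78 85 87 75 8 8 73 75 72 79 9 70 72 3 4 74 74 0 84 82 86 73 10 10 10) (@D3.rec (fun _ => Nat) 10 0 10 75 32 72 73 32 73 73 0 37 3 38 4 73 11 11 4 79 5 11 11 0 1 79 78 73 73 73 0 10) (@D3.rec (fun _ => Nat) 10 10 10 0 3 4 10 10 4 83 5 10 10 0 1 85 86 34 74 74 32 75 75 0 36 3 38 4 74 11 11 4) (@D3.rec (fun _ => Nat) 5 5 11 11 0 1 36 4 40 86 5 75 75 11 11 0 5 84 86 0 11 11 0 1 80 80 12 87 82 12 42 86) (@D3.rec (fun _ => Nat) 77 77 13 79 79 85 12 5 85 82 75 0 10 10 0 75 74 11 0 75 0 1 77 71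 8 8 8 72 70 73 73 9) (@D3.rec (fun _ => Nat) 9 76 80 75 78 9 0 77 87 78 21 10 10 0 71 71 80 79 11 0 37 77 33 80 80 33 0 1 75 21 21 0) (@D3.rec (fun _ => Nat) 10 10 10 10 0 35 10 10 37 0 1 71 71 71 71 71 0 36 35 37 71 11 11 33 33 11 0 11 0 1 36 4) (@D3.rec (fun _ => Nat) 35 79 5 81 11 81 0 5 79 0 0 1 34 81 82 12 13 12 13 76 77 77 0 0 1 1 74 72 74 74 74 74) (@D3.rec (fun _ => Nat) 74 0 1 74 70 76 72 0 0 1 10 10 0 10 72 72 72 74 74 74 77 74 74 0 72 71 74 82 79 80 4 5) (@D3.rec (fun _ => Nat) 5 11 11 0 1 5 83 82 11 1 72 75 73 73 0 37 35 33 75 77 77 76 33 73 0 1 39 4 35 5 82 0) (@D3.rec (fun _ => Nat) 5 0 1 38 4 36 5 12 0 5 0 1 35 36 33 73 73 73 79 33 73 73 0 1 36 4 35 75 5 75 75 73) (@D3.rec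 (fun _ => Nat) 73 0 5 79 0 73 0 1 81 36 5 35 79 0 81 0 80 81 0 1 0 0 1 0 1 38 75 10 76 86 88 81) (@D3.rec (fun _ => Nat) 4 77 75 75 83 77 75 75 79 79 84 10 73 76 84 81 78 78 85 41 73 71 71 73 73 78 73 0 75 81 78 72) (@D3.rec (fun _ => Nat) 0 74 76 74 74 74 0 1 72 72 72 82 72 0 85 0 1 73 73 74 74 74 74 74 74 0 74 0 84 74 0 1) (@D3.rec (fun _ => Nat) 78 76 85 86 82 80 87 80 79 85 87 72 75 75 75 4 5 5 75 75 0 1 5 83 82 84 76 73 75 80 76 76)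
def lv_g_16 : D2 → D3 → Nat := @D2.rec (fun _ => D3 → Nat) (@D3.rec (fun _ => Nat) 78 0 76 0 0 1 78 37 5 5 39 37 80 6 0 81 76 0 79 74 74 0 1 6 0 80 76 0 1 83 0 1) (@D3.rec (fun _ => Nat) 76 87 84 81 81 85 78 81 76 82 81 75 75 73 73 72 72 74 74 0 80 80 76 21 10 10 10 10 10 0 75 75) (@D3.rec (fun _ => Nat) 32 32 11 0 34 71 11 11 32 32 80 11 0 1 71 21 21 0 10 10 0 10 0 1 76 76 77 0 34 80 34 0) (@D3.rec (fun _ => Nat) 89 0 1 4 38 5 73 73 77 78 0 5 80 0 78 78 0 1 77 83 89 75 10 0 73 77 72 80 0 70 72 72) (@D3.rec (fun _ => Nat) 4 80 5 82 74 0 1 84 80 0 0 10 10 10 10 0 1 0 32 74 73 73 32 73 0 1 39 4 40 83 5 73) (@D3.rec (fun _ => Nat) 73 11 11 0 5 84 75 0 86 11 0 1 75 75 75 0 1 0 12 12 12 12 0 1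 4 80 5 12 12 0 5 83) (@D3.rec (fun _ => Nat) 84 0 12 12 0 1 34 74 76 79 34 75 0 1 36 4 40 5 5 76 76 13 13 0 5 5 6 0 13 0 1 36) (@D3.rec (fun _ => Nat) 5 40 40 88 90 0 75 75 0 13 13 77 0 1 0 88 0 1 84 0 1 85 80 12 88 87 77 77 85 79 83 0) (@D3.rec (fun _ => Nat) 1 10 0 1 77 0 0 1 0 1 79 71 10 10 10 0 72 70 70 73 73 73 11 0 75 82 75 75 80 78 0 1) (@D3.rec (fun _ => Nat) 77 83 86 0 10 0 1 71 0 80 0 0 1 39 82 35 80 0 0 1 77 75 22 0 1 12 12 12 0 12 0 1) (@D3.rec (fun _ => Nat) 33 12 0 0 1 71 71 71 71 0 0 1 36 37 35 35 71 71 13 0 33 0 0 1 0 15 1 36 5 37 80 0) (@D3.rec (fun _ => Nat) 81 0 82 0 1 0 0 1 1 81 12 13 14 0 77 0 1 1 76 76 74 74 76 0 76 0 0 1 74 72 0 0) (@D3.rec (fun _ => Nat) 1 1 10 10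 0 1 10 72 72 0 74 74 74 74 76 74 74 0 1 73 74 76 76 81 82 81 79 0 5 5 81 6) (@D3.rec (fun _ => Nat) 0 11 11 0 1 81 82 73 75 75 75 75 0 1 41 37 81 35 77 77 79 0 81 0 0 1 41 41 5 37 0 0) (@D3.rec (fun _ => Nat) 1 0 1 38 38 5 36 0 0 1 0 1 39 40 78 33 73 73 73 73 0 79 0 73 0 1 85 36 5 37 78 0) (@D3.rec (fun _ => Nat) 77 0 75 75 0 1 0 0 1 0 1 81 0 0 0 0 1 0 1 0 0 1 1 1 1 85 79 75 79 77 86 85) (@D3.rec (fun _ => Nat) 76 78 83 88 73 73 71 0 78 73 75 75 78 76 0 1 77 83 86 76 0 1 74 74 76 76 0 76 0 1 72 72) (@D3.rec (fun _ => Nat) 84 72 0 84 87 0 1 0 89 1 73 75 75 74 0 74 74 0 84 74 78 0 1 0 1 85 0 1 86 82 80 87) (@D3.rec (fun _ => Nat) 80 84 87 89 74 74 75 75 75 75 0 5 5 83 6 0 84 75 0 1 82 84 76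 74 75 78 80 0 78 0 80 0) (@D3.rec (fun _ => Nat) 1 0 1 1 87 0 6 0 83 39 0 82 81 0 1 81 81 78 0 1 81 76 0 0 1 0 1 0 0 78 1 0) (@D3.rec (fun _ => Nat) 1 86 81 84 79 81 75 75 75 75 75 0 74 74 80 74 76 76 0 1 87 82 86 0 10 0 10 10 10 0 1 75) (@D3.rec (fun _ => Nat) 0 36 0 80 0 1 38 38 73 73 77 11 0 34 0 77 0 1 0 22 0 1 0 0 1 0 1 80 0 0 1 34)
def lv_g_17 : D2 → D3 → Nat := @D2.rec (fun _ => D3 → Nat) (@D3.rec (fun _ => Nat) 0 0 1 0 87 1 5 40 0 75 0 76 76 0 1 0 0 1 80 0 1 80 0 0 1 75 0 74 0 1 72 72) (@D3.rec (fun _ => Nat) 84 74 0 5 82 0 78 85 0 1 83 1 1 12 12 0 12 0 1 1 34 74 74 75 0 0 0 1 41 41 5 40) (@D3.rec (fun _ => Nat) 40 81 81 0 75 75 0 80 13 13 0 1 0 81 0 1 80 0 1 75 0 0 1 1 12 12 0 12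 0 1 5 85) (@D3.rec (fun _ => Nat) 80 0 12 12 0 1 0 84 82 0 1 0 1 34 74 79 81 0 0 0 1 81 38 5 5 42 42 6 0 76 76 0) (@D3.rec (fun _ => Nat) 13 13 0 1 6 0 83 0 1 0 1 0 0 86 42 0 86 0 1 77 77 77 0 1 13 79 0 0 1 1 0 1) (@D3.rec (fun _ => Nat) 0 1 82 87 79 79 83 81 83 1 0 1 0 1 1 1 0 10 0 0 1 74 74 72 0 80 75 85 75 0 11 0) (@D3.rec (fun _ => Nat) 1 78 0 77 77 0 82 78 0 1 84 85 82 1 0 1 0 1 0 1 1 39 79 0 0 1 1 75 0 0 1 12) (@D3.rec (fun _ => Nat) 0 0 1 0 14 1 0 0 1 1 73 73 73 0 0 1 1 38 38 37 37 39 0 73 0 13 0 1 0 1 1 1) (@D3.rec (fun _ => Nat) 3 15 0 0 0 0 1 81 0 1 0 1 1 1 14 1 0 1 76 0 74 0 76 0 1 0 1 1 0 0 1 1) (@D3.rec (fun _ => Nat) 12 12 0 1 74 0 1 74 76 76 76 76 0 0 85 76 0 1 73 74 74 76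 76 0 81 79 0 83 81 0 1 6) (@D3.rec (fun _ => Nat) 0 84 83 82 0 1 13 0 1 75 75 77 75 0 75 0 1 41 41 37 78 0 77 0 79 0 1 0 1 1 41 0) (@D3.rec (fun _ => Nat) 0 0 1 1 1 38 0 0 0 1 1 1 79 41 40 77 0 75 75 0 75 0 1 0 1 0 1 84 0 0 0 0) (@D3.rec (fun _ => Nat) 1 77 0 1 75 0 0 1 1 1 1 0 1 1 1 1 1 1 1 76 88 85 75 0 73 0 1 80 80 0 75 75) (@D3.rec (fun _ => Nat) 0 84 78 0 1 86 85 83 0 82 1 76 76 0 76 76 0 1 0 1 84 74 0 84 74 0 1 0 0 81 1 0) (@D3.rec (fun _ => Nat) 1 3 87 0 75 0 0 1 86 76 80 0 1 85 80 0 0 1 1 1 89 82 89 82 81 74 0 77 77 0 86 77) (@D3.rec (fun _ => Nat) 77 0 1 6 0 84 85 84 0 1 90 0 1 76 0 80 0 82 0 1 78 0 1 0 1 1 0 1 0 1 85 86) (@D3.rec (fun _ => Nat) 0 1 0 0 1 81 82 0 0 81 1 81 0 0 1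 1 1 1 1 3 1 83 81 77 0 77 77 0 75 0 1 74) (@D3.rec (fun _ => Nat) 74 0 85 82 0 88 76 0 1 82 1 0 1 12 0 0 1 0 1 0 1 0 82 1 36 0 73 0 82 13 0 1) (@D3.rec (fun _ => Nat) 0 1 0 1 1 0 1 1 1 1 0 1 1 0 1 1 1 3 0 0 1 0 1 79 0 1 1 1 0 1 1 1) (@D3.rec (fun _ => Nat) 0 1 0 1 72 0 83 74 0 1 0 83 0 1 80 0 1 82 12 12 0 1 0 1 0 76 0 0 1 1 1 41) (@D3.rec (fun _ => Nat) 0 0 85 42 0 83 83 0 1 88 75 75 0 1 88 13 0 0 1 1 0 1 0 1 77 0 1 1 14 14 0 1) (@D3.rec (fun _ => Nat) 0 1 0 86 82 0 1 14 0 1 1 0 0 1 1 0 79 0 81 0 1 1 1 84 0 6 0 42 0 7 0 1)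
def lv_g_18 : D2 → D3 → Nat := @D2.rec (fun _ => D3 → Nat) (@D3.rec (fun _ => Nat) 78 78 0 1 15 0 0 1 0 1 0 85 1 1 1 1 90 0 1 0 1 77 77 0 0 79 1 86 0 84 0 1) (@D3.rec (fun _ => Nat) 1 1 1 83 79 79 87 85 1 1 1 12 0 1 1 74 0 72 0 1 80 0 88 80 75 0 1 0 1 0 1 86) (@D3.rec (fun _ => Nat) 77 77 0 1 87 0 1 87 1 1 1 0 0 1 1 77 0 1 1 14 0 1 1 1 3 16 1 1 73 0 73 0) (@D3.rec (fun _ => Nat) 1 1 38 0 39 0 37 0 1 73 0 1 0 1 1 2 3 1 1 1 1 0 1 1 1 78 0 1 76 0 1 0) (@D3.rec (fun _ => Nat) 1 1 1 1 12 0 1 0 1 0 76 76 0 85 76 76 0 1 1 91 0 1 0 76 76 0 78 78 0 1 90 81) (@D3.rec (fun _ => Nat) 0 1 88 0 1 0 1 0 0 1 0 1 75 75 0 77 77 0 1 0 1 43 0 0 83 0 1 79 0 1 0 1) (@D3.rec (fun _ => Nat) 1 0 1 1 1 0 1 1 1 79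 0 0 0 1 75 0 1 0 1 1 1 0 1 1 1 1 0 1 0 1 1 1) (@D3.rec (fun _ => Nat) 88 78 75 0 1 0 84 1 86 80 78 0 1 88 77 85 0 1 87 0 1 87 1 3 84 76 76 0 1 78 0 0) (@D3.rec (fun _ => Nat) 1 1 86 74 0 1 88 0 0 89 1 1 1 3 89 1 3 2 3 1 0 1 1 87 80 0 0 1 82 0 1 1) (@D3.rec (fun _ => Nat) 84 76 0 1 86 77 77 0 1 91 77 0 0 1 0 1 84 0 0 1 0 1 76 0 1 80 0 1 0 1 0 80) (@D3.rec (fun _ => Nat) 1 0 1 1 1 0 0 1 1 1 83 0 0 81 1 1 3 0 1 1 2 85 77 0 1 77 77 0 1 0 84 1) (@D3.rec (fun _ => Nat) 76 76 0 1 86 82 0 1 88 0 1 84 1 12 0 1 1 1 1 1 3 40 0 1 75 0 1 84 0 0 1 1) (@D3.rec (fun _ => Nat) 1 1 1 1 2 1 1 1 0 1 1 1 1 74 0 1 85 0 0 1 1 0 82 1 0 1 14 0 0 1 1 1) (@D3.rec (fun _ => Nat) 0 1 1 43 0 1 1 83 42 0 1 85 0 0 1 82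 77 0 0 79 1 82 0 0 1 0 1 1 1 0 1 14) (@D3.rec (fun _ => Nat) 0 0 1 1 1 0 0 1 0 1 1 1 1 81 0 1 0 1 84 0 1 7 0 1 44 0 1 0 85 1 78 0) (@D3.rec (fun _ => Nat) 0 1 86 0 1 0 1 1 1 3 85 0 1 1 88 0 84 0 81 1 1 3 87 0 1 0 1 89 85 0 1 76) (@D3.rec (fun _ => Nat) 0 1 0 1 79 0 1 86 85 0 0 1 0 1 1 86 85 0 0 1 0 1 1 1 0 1 0 1 2 3 75 0) (@D3.rec (fun _ => Nat) 1 0 1 40 0 1 39 0 1 0 1 0 77 1 0 1 4 1 0 1 0 1 0 1 0 1 1 1 87 78 78 0) (@D3.rec (fun _ => Nat) 1 78 78 0 0 1 0 1 1 76 0 1 0 0 1 83 0 1 0 1 1 1 1 1 77 77 0 1 77 0 0 1) (@D3.rec (fun _ => Nat) 1 43 0 1 1 0 1 0 1 0 1 1 1 0 1 1 1 0 1 1 1 1 1 88 85 0 0 86 1 0 1 3) (@D3.rec (fun _ => Nat) 88 84 80 0 0 1 86 87 0 0 1 0 1 2 3 78 0 0 1 88 0 1 0 1 87 0 0 78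 1 0 1 0) (@D3.rec (fun _ => Nat) 1 3 83 2 3 2 3 3 4 1 89 0 1 1 1 0 1 79 79 0 0 1 88 0 0 1 0 1 1 0 1 1)
def lv_g_19 : D2 → D3 → Nat := @D2.rec (fun _ => D3 → Nat) (@D3.rec (fun _ => Nat) 1 0 1 0 1 0 1 0 1 3 1 1 1 0 83 1 1 3 2 1 0 1 79 0 0 1 0 1 3 76 0 0) (@D3.rec (fun _ => Nat) 1 0 0 84 1 0 1 0 1 2 0 1 0 1 0 1 0 1 1 0 76 1 0 1 0 1 1 3 1 0 1 0) (@D3.rec (fun _ => Nat) 1 1 0 1 88 0 0 1 85 0 1 0 1 90 0 0 79 1 0 1 3 0 1 0 1 1 0 1 0 1 0 1) (@D3.rec (fun _ => Nat) 1 1 1 0 1 0 1 0 1 0 1 0 1 0 1 3 86 86 0 1 0 1 0 0 1 1 2 3 1 87 0 85) (@D3.rec (fun _ => Nat) 1 0 1 3 2 0 1 1 0 1 0 1 0 1 0 1 0 0 1 0 1 1 0 0 1 1 1 0 1 0 1 4) (@D3.rec (fun _ => Nat) 0 77 1 0 1 0 1 0 1 0 1 0 1 3 1 0 1 0 1 1 1 78 78 0 0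 1 0 0 1 0 1 1) (@D3.rec (fun _ => Nat) 0 1 1 1 0 1 1 77 0 0 1 0 1 0 1 0 1 0 1 0 1 1 1 1 87 0 0 88 1 0 1 3) (@D3.rec (fun _ => Nat) 1 3 2 3 84 0 84 0 1 0 1 0 0 1 1 1 4 86 0 1 0 1 0 0 1 1 0 85 1 0 1 3) (@D3.rec (fun _ => Nat) 0 1 1 3 2 3 4 4 4 5 1 0 1 0 0 1 0 1 0 1 0 1 1 1 0 1 0 1 1 1 3 2) (@D3.rec (fun _ => Nat) 33 1 3 2 0 1 0 1 0 1 1 3 2 0 1 0 1 1 1 3 1 0 1 0 1 0 1 0 1 1 0 1) (@D3.rec (fun _ => Nat) 3 0 1 1 2 0 1 1 0 1 0 1 0 1 0 0 1 1 0 1 0 1 3 1 3 2 0 1 1 31 1 0) (@D3.rec (fun _ => Nat) 1 1 0 1 1 0 1 0 1 0 1 1 3 2 3 0 0 1 1 0 1 1 32 4 0 1 3 1 2 1 1 0) (@D3.rec (fun _ => Nat) 1 1 0 1 1 0 1 1 31 1 1 1 1 0 1 3 1 0 1 0 1 1 1 3 2 32 1 1 32 0 0 1) (@D3.rec (fun _ => Nat) 0 1 1 0 1 1 1 1 0 1 0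 1 0 1 1 0 1 1 1 31 0 1 0 1 3 1 3 2 32 2 3 4) (@D3.rec (fun _ => Nat) 0 1 0 0 1 1 1 1 0 0 1 1 0 1 1 34 0 1 3 1 3 2 1 33 2 3 4 4 1 1 0 1) (@D3.rec (fun _ => Nat) 1 0 1 1 34 1 1 34 34 2 2 1 0 1 1 32 2 0 1 1 2 1 1 1 1 32 1 3 2 1 32 1) (@D3.rec (fun _ => Nat) 32 1 0 1 1 0 1 1 32 0 1 1 3 2 32 2 1 32 33 1 33 1 33 1 1 1 33 2 3 4 0 1) (@D3.rec (fun _ => Nat) 1 33 1 33 1 2 32 1 32 1 1 32 33 33 1 3 2 33 1 1 33 33 2 33 33 1 0 1 1 1 32 0) (@D3.rec (fun _ => Nat) 1 1 1 32 1 32 32 0 1 1 3 2 33 2 33 4 0 1 0 1 1 35 0 1 1 35 1 35 1 3 2 34) (@D3.rec (fun _ => Nat) 2 34 34 4 35 1 35 1 35 35 35 35 33 1 33 33 1 33 33 33 33 33 33 2 33 33 33 1 33 1 33 1) (@D3.rec (fun _ => Nat) 33 2 33 33 34 34 34 34 34 34 4 1 34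 34 33 33 33 34 2 34 34 34 1 33 33 1 33 33 33 1 34 2) (@D3.rec (fun _ => Nat) 34 34 1 1 36 1 36 36 35 2 35 35 36 36 34 34 34 34 34 34 34 35 35 35 34 34 35 35 37 37 37 36)
def lv_g : Pt → Nat := @Pt.rec (fun _ => Nat) (@D1.rec (fun _ => D2 → D3 → Nat) lv_g_0 lv_g_1 lv_g_2 lv_g_3 lv_g_4 lv_g_5 lv_g_6 lv_g_7 lv_g_8 lv_g_9 lv_g_10 lv_g_11 lv_g_12 lv_g_13 lv_g_14 lv_g_15 lv_g_16 lv_g_17 lv_g_18 lv_g_19)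
abbrev lc_g_Cert_tree : Cert rels S Gen.g := Cert.tree
abbrev lc_g_rc_15_1 : Cert rels S Gen.g := rc_15_1
abbrev lc_g_rc_15_3 : Cert rels S Gen.g := rc_15_3
abbrev lc_g_rc_22_1 : Cert rels S Gen.g := rc_22_1
abbrev lc_g_rc_22_3 : Cert rels S Gen.g := rc_22_3
abbrev lc_g_rc_28_1 : Cert rels S Gen.g := rc_28_1
abbrev lc_g_rc_28_3 : Cert rels S Gen.g := rc_28_3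
abbrev lc_g_rc_33_1 : Cert rels S Gen.g := rc_33_1
abbrev lc_g_rc_33_3 : Cert rels S Gen.g := rc_33_3
abbrev lc_g_rc_39_1 : Cert rels S Gen.g := rc_39_1
abbrev lc_g_rc_39_3 : Cert rels S Gen.g := rc_39_3
abbrev lc_g_rc_39_5 : Cert rels S Gen.g := rc_39_5
abbrev lc_g_rc_41_0 : Cert rels S Gen.g := rc_41_0
abbrev lc_g_rc_41_2 : Cert rels S Gen.g := rc_41_2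
abbrev lc_g_rc_42_0 : Cert rels S Gen.g := rc_42_0
abbrev lc_g_rc_42_1 : Cert rels S Gen.g := rc_42_1
abbrev lc_g_rc_43_0 : Cert rels S Gen.g := rc_43_0
abbrev lc_g_rc_43_2 : Cert rels S Gen.g := rc_43_2
abbrev lc_g_rc_47_12 : Cert rels S Gen.g := rc_47_12
abbrev lc_g_rc_47_19 : Cert rels S Gen.g := rc_47_19
abbrev lc_g_rc_47_26 : Cert rels S Gen.g := rc_47_26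
abbrev lc_g_rc_47_33 : Cert rels S Gen.g := rc_47_33
abbrev lc_g_rc_47_40 : Cert rels S Gen.g := rc_47_40
abbrev lc_g_rc_47_47 : Cert rels S Gen.g := rc_47_47
abbrev lc_g_rc_47_54 : Cert rels S Gen.g := rc_47_54
abbrev lc_g_rc_7_1 : Cert rels S Gen.g := rc_7_1
abbrev lc_g_rc_7_3 : Cert rels S Gen.g := rc_7_3
abbrev lc_g_sc_5_0 : Cert rels S Gen.g := sc_5_0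
def ce_g_0 : D2 → D3 → (Cert rels S Gen.g) := @D2.rec (fun _ => D3 → (Cert rels S Gen.g)) (@D3.rec (fun _ => (Cert rels S Gen.g)) lc_g_sc_5_0 lc_g_rc_7_1 lc_g_rc_15_1 lc_g_rc_22_1 lc_g_rc_28_1 lc_g_rc_33_1 lc_g_rc_41_2 lc_g_Cert_tree lc_g_rc_41_2 lc_g_rc_43_2 lc_g_rc_42_0 lc_g_rc_42_1 lc_g_rc_28_1 lc_g_rc_43_2 lc_g_rc_41_2 lc_g_rc_28_1 lc_g_rc_43_2 lc_g_rc_22_1 lc_g_rc_43_2 lc_g_rc_28_1 lc_g_rc_43_2 lc_g_rc_22_1 lc_g_rc_33_1 lc_g_rc_43_2 lc_g_rc_15_1 lc_g_rc_22_1 lc_g_rc_41_2 lc_g_rc_22_1 lc_g_rc_33_1 lc_g_rc_43_2 lc_g_rc_15_1 lc_g_rc_22_1) (@D3.rec (fun _ => (Cert rels S Gen.g)) lc_g_rc_22_1 lc_g_rc_43_2 lc_g_rc_41_2 lc_g_rc_7_1 lc_g_rc_15_1 lc_g_rc_41_2 lc_g_rc_15_1 lc_g_rc_22_1 lc_g_rc_22_1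 lc_g_rc_39_3 lc_g_rc_43_2 lc_g_rc_41_2 lc_g_rc_7_1 lc_g_rc_15_1 lc_g_rc_15_1 lc_g_rc_28_1 lc_g_rc_22_1 lc_g_rc_41_2 lc_g_rc_41_2 lc_g_rc_7_1 lc_g_rc_15_1 lc_g_rc_28_1 lc_g_rc_7_1 lc_g_rc_15_1 lc_g_rc_15_1 lc_g_rc_28_1 lc_g_rc_22_1 lc_g_rc_22_1 lc_g_rc_41_2 lc_g_rc_39_3 lc_g_rc_41_2 lc_g_rc_7_1) (@D3.rec (fun _ => (Cert rels S Gen.g)) lc_g_rc_7_1 lc_g_rc_15_1 lc_g_rc_15_1 lc_g_rc_15_1 lc_g_rc_41_2 lc_g_rc_28_1 lc_g_rc_41_2 lc_g_rc_28_1 lc_g_rc_28_1 lc_g_rc_7_1 lc_g_rc_28_1 lc_g_rc_33_1 lc_g_rc_7_1 lc_g_rc_7_1 lc_g_rc_15_1 lc_g_rc_15_1 lc_g_rc_15_1 lc_g_rc_15_1 lc_g_rc_28_1 lc_g_rc_41_2 lc_g_rc_28_1 lc_g_rc_22_1 lc_g_rc_41_2 lc_g_rc_28_1 lc_g_rc_41_2 lc_g_rc_28_1 lc_g_rc_7_1 lc_g_rc_7_1 lc_g_rc_7_1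 lc_g_rc_22_1 lc_g_rc_15_1 lc_g_rc_15_1) (@D3.rec (fun _ => (Cert rels S Gen.g)) lc_g_rc_15_1 lc_g_rc_28_1 lc_g_rc_43_2 lc_g_rc_41_2 lc_g_rc_28_1 lc_g_rc_33_1 lc_g_rc_22_1 lc_g_rc_7_1 lc_g_rc_22_1 lc_g_rc_33_1 lc_g_Cert_tree lc_g_rc_7_1 lc_g_rc_7_1 lc_g_rc_7_1 lc_g_rc_7_1 lc_g_rc_22_1 lc_g_rc_15_1 lc_g_rc_15_1 lc_g_rc_15_1 lc_g_rc_15_1 lc_g_rc_15_1 lc_g_rc_28_1 lc_g_rc_33_1 lc_g_rc_39_3 lc_g_rc_28_1 lc_g_rc_43_2 lc_g_rc_41_2 lc_g_rc_22_1 lc_g_rc_28_1 lc_g_rc_33_1 lc_g_rc_28_1 lc_g_rc_22_1) (@D3.rec (fun _ => (Cert rels S Gen.g)) lc_g_rc_7_1 lc_g_rc_7_1 lc_g_rc_7_1 lc_g_rc_22_1 lc_g_rc_15_1 lc_g_rc_15_1 lc_g_rc_28_1 lc_g_rc_22_1 lc_g_rc_33_1 lc_g_rc_43_2 lc_g_rc_28_1 lc_g_rc_22_1 lc_g_rc_33_1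 lc_g_Cert_tree lc_g_rc_15_1 lc_g_Cert_tree lc_g_rc_42_0 lc_g_rc_7_1 lc_g_rc_7_1 lc_g_rc_7_1 lc_g_rc_7_1 lc_g_rc_7_1 lc_g_rc_22_1 lc_g_rc_22_1 lc_g_rc_15_1 lc_g_rc_15_1 lc_g_rc_15_1 lc_g_rc_15_1 lc_g_rc_15_1 lc_g_rc_15_1 lc_g_rc_28_1 lc_g_rc_22_1) (@D3.rec (fun _ => (Cert rels S Gen.g)) lc_g_rc_33_1 lc_g_rc_41_2 lc_g_rc_33_1 lc_g_rc_43_2 lc_g_rc_39_3 lc_g_rc_43_2 lc_g_rc_28_1 lc_g_rc_28_1 lc_g_rc_22_1 lc_g_rc_33_1 lc_g_Cert_tree lc_g_rc_22_1 lc_g_rc_33_1 lc_g_rc_15_1 lc_g_rc_7_1 lc_g_rc_7_1 lc_g_rc_7_1 lc_g_rc_22_1 lc_g_rc_15_1 lc_g_rc_28_1 lc_g_rc_22_1 lc_g_rc_33_1 lc_g_rc_22_1 lc_g_Cert_tree lc_g_rc_28_1 lc_g_rc_22_1 lc_g_rc_33_1 lc_g_rc_15_1 lc_g_rc_22_1 lc_g_Cert_tree lc_g_rc_42_0 lc_g_rc_7_1)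 (@D3.rec (fun _ => (Cert rels S Gen.g)) lc_g_rc_42_0 lc_g_rc_7_1 lc_g_rc_7_1 lc_g_rc_7_1 lc_g_rc_7_1 lc_g_rc_7_1 lc_g_rc_7_1 lc_g_rc_22_1 lc_g_rc_22_1 lc_g_rc_22_1 lc_g_rc_15_1 lc_g_rc_15_1 lc_g_rc_15_1 lc_g_rc_15_1 lc_g_rc_15_1 lc_g_rc_28_1 lc_g_rc_15_1 lc_g_rc_22_1 lc_g_rc_33_1 lc_g_rc_22_1 lc_g_Cert_tree lc_g_rc_28_1 lc_g_rc_43_2 lc_g_rc_41_2 lc_g_rc_43_2 lc_g_rc_39_3 lc_g_rc_28_1 lc_g_rc_22_1 lc_g_rc_33_1 lc_g_rc_22_1 lc_g_rc_33_1 lc_g_rc_15_1) (@D3.rec (fun _ => (Cert rels S Gen.g)) lc_g_rc_22_1 lc_g_Cert_tree lc_g_rc_42_0 lc_g_rc_15_1 lc_g_rc_22_1 lc_g_rc_7_1 lc_g_rc_7_1 lc_g_rc_22_1 lc_g_rc_7_1 lc_g_rc_28_1 lc_g_rc_28_1 lc_g_rc_22_1 lc_g_rc_33_1 lc_g_rc_15_1 lc_g_rc_22_1 lc_g_Cert_tree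 lc_g_rc_28_1 lc_g_rc_42_0 lc_g_rc_22_1 lc_g_rc_33_1 lc_g_rc_15_1 lc_g_rc_22_1 lc_g_Cert_tree lc_g_rc_7_1 lc_g_rc_15_1 lc_g_Cert_tree lc_g_rc_42_0 lc_g_rc_7_1 lc_g_rc_7_1 lc_g_rc_7_1 lc_g_rc_7_1 lc_g_rc_22_1) (@D3.rec (fun _ => (Cert rels S Gen.g)) lc_g_rc_7_1 lc_g_rc_39_3 lc_g_rc_28_1 lc_g_rc_22_1 lc_g_rc_22_1 lc_g_rc_28_1 lc_g_rc_28_1 lc_g_rc_15_1 lc_g_rc_15_1 lc_g_rc_15_1 lc_g_rc_15_1 lc_g_rc_28_1 lc_g_rc_22_1 lc_g_rc_33_1 lc_g_rc_22_1 lc_g_rc_15_1 lc_g_rc_15_1 lc_g_rc_22_1 lc_g_Cert_tree lc_g_rc_28_1 lc_g_rc_39_3 lc_g_rc_42_0 lc_g_rc_22_1 lc_g_rc_28_1 lc_g_rc_43_2 lc_g_rc_28_1 lc_g_rc_43_2 lc_g_rc_22_1 lc_g_rc_41_2 lc_g_rc_22_1 lc_g_rc_33_1 lc_g_rc_15_1) (@D3.rec (fun _ => (Cert rels S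 Gen.g)) lc_g_rc_22_1 lc_g_Cert_tree lc_g_rc_15_1 lc_g_rc_22_1 lc_g_Cert_tree lc_g_rc_7_1 lc_g_rc_15_1 lc_g_Cert_tree lc_g_rc_42_0 lc_g_rc_7_1 lc_g_rc_15_1 lc_g_rc_28_1 lc_g_rc_22_1 lc_g_rc_7_1 lc_g_rc_15_1 lc_g_rc_22_1 lc_g_rc_22_1 lc_g_rc_33_1 lc_g_rc_22_1 lc_g_rc_33_1 lc_g_rc_15_1 lc_g_rc_22_1 lc_g_Cert_tree lc_g_rc_7_1 lc_g_rc_15_1 lc_g_rc_28_1 lc_g_Cert_tree lc_g_rc_42_0 lc_g_rc_41_2 lc_g_rc_15_1 lc_g_rc_22_1 lc_g_Cert_tree) (@D3.rec (fun _ => (Cert rels S Gen.g)) lc_g_rc_7_1 lc_g_rc_15_1 lc_g_rc_28_1 lc_g_Cert_tree lc_g_rc_42_0 lc_g_rc_7_1 lc_g_Cert_tree lc_g_rc_42_0 lc_g_rc_7_1 lc_g_rc_7_1 lc_g_rc_22_1 lc_g_rc_7_1 lc_g_rc_7_1 lc_g_rc_7_1 lc_g_rc_15_1 lc_g_rc_22_1 lc_g_rc_39_3 lc_g_rc_28_1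 lc_g_rc_22_1 lc_g_rc_28_1 lc_g_rc_22_1 lc_g_rc_33_1 lc_g_rc_28_1 lc_g_rc_15_1 lc_g_rc_28_1 lc_g_rc_15_1 lc_g_rc_22_1 lc_g_rc_15_1 lc_g_rc_22_1 lc_g_rc_33_1 lc_g_rc_15_1 lc_g_rc_22_1) (@D3.rec (fun _ => (Cert rels S Gen.g)) lc_g_Cert_tree lc_g_rc_15_1 lc_g_rc_22_1 lc_g_Cert_tree lc_g_rc_7_1 lc_g_rc_15_1 lc_g_rc_28_1 lc_g_Cert_tree lc_g_rc_42_0 lc_g_rc_39_3 lc_g_rc_41_2 lc_g_rc_22_1 lc_g_rc_41_2 lc_g_rc_28_1 lc_g_rc_22_1 lc_g_rc_28_1 lc_g_rc_22_1 lc_g_rc_43_2 lc_g_rc_15_1 lc_g_rc_22_1 lc_g_Cert_tree lc_g_rc_15_1 lc_g_rc_22_1 lc_g_Cert_tree lc_g_rc_7_1 lc_g_rc_15_1 lc_g_rc_28_1 lc_g_Cert_tree lc_g_rc_42_0 lc_g_rc_7_1 lc_g_rc_15_1 lc_g_rc_28_1) (@D3.rec (fun _ => (Cert rels S Gen.g)) lc_g_Cert_tree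 lc_g_rc_42_0 lc_g_rc_7_1 lc_g_Cert_tree lc_g_rc_42_0 lc_g_rc_7_1 lc_g_rc_15_1 lc_g_rc_41_2 lc_g_rc_15_1 lc_g_rc_22_1 lc_g_rc_7_1 lc_g_rc_15_1 lc_g_rc_15_1 lc_g_rc_22_1 lc_g_rc_43_2 lc_g_rc_15_1 lc_g_rc_22_1 lc_g_Cert_tree lc_g_rc_7_1 lc_g_rc_15_1 lc_g_rc_28_1 lc_g_Cert_tree lc_g_rc_42_0 lc_g_rc_7_1 lc_g_rc_15_1 lc_g_Cert_tree lc_g_rc_41_2 lc_g_rc_42_0 lc_g_rc_7_1 lc_g_rc_15_1 lc_g_rc_28_1 lc_g_Cert_tree) (@D3.rec (fun _ => (Cert rels S Gen.g)) lc_g_rc_42_0 lc_g_rc_7_1 lc_g_rc_15_1 lc_g_Cert_tree lc_g_Cert_tree lc_g_rc_42_0 lc_g_Cert_tree lc_g_rc_42_0 lc_g_rc_7_1 lc_g_rc_7_1 lc_g_rc_7_1 lc_g_rc_15_1 lc_g_rc_22_1 lc_g_rc_39_3 lc_g_rc_15_1 lc_g_rc_7_1 lc_g_rc_33_1 lc_g_rc_7_1 lc_g_rc_15_1 lc_g_rc_39_3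 lc_g_rc_41_2 lc_g_rc_28_1 lc_g_rc_28_1 lc_g_rc_33_1 lc_g_rc_15_1 lc_g_rc_22_1 lc_g_Cert_tree lc_g_rc_41_2 lc_g_rc_28_1 lc_g_rc_22_1 lc_g_rc_28_1 lc_g_rc_22_1) (@D3.rec (fun _ => (Cert rels S Gen.g)) lc_g_rc_15_1 lc_g_rc_15_1 lc_g_rc_22_1 lc_g_Cert_tree lc_g_rc_15_1 lc_g_rc_22_1 lc_g_Cert_tree lc_g_rc_7_1 lc_g_rc_15_1 lc_g_rc_28_1 lc_g_Cert_tree lc_g_rc_42_0 lc_g_rc_7_1 lc_g_rc_15_1 lc_g_rc_28_1 lc_g_Cert_tree lc_g_rc_42_0 lc_g_rc_7_1 lc_g_rc_15_1 lc_g_Cert_tree lc_g_rc_39_3 lc_g_rc_41_2 lc_g_rc_42_0 lc_g_rc_33_1 lc_g_rc_39_3 lc_g_rc_43_2 lc_g_rc_22_1 lc_g_rc_41_2 lc_g_rc_22_1 lc_g_rc_28_1 lc_g_rc_15_1 lc_g_rc_22_1) (@D3.rec (fun _ => (Cert rels S Gen.g)) lc_g_Cert_tree lc_g_rc_15_1 lc_g_rc_22_1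 lc_g_Cert_tree lc_g_rc_7_1 lc_g_rc_15_1 lc_g_rc_28_1 lc_g_Cert_tree lc_g_rc_42_0 lc_g_rc_7_1 lc_g_rc_15_1 lc_g_rc_28_1 lc_g_Cert_tree lc_g_rc_42_0 lc_g_rc_7_1 lc_g_rc_15_1 lc_g_Cert_tree lc_g_Cert_tree lc_g_rc_42_0 lc_g_rc_7_1 lc_g_rc_15_1 lc_g_Cert_tree lc_g_Cert_tree lc_g_rc_39_5 lc_g_rc_42_0 lc_g_Cert_tree lc_g_rc_42_0 lc_g_rc_7_1 lc_g_rc_22_1 lc_g_rc_15_1 lc_g_rc_43_2 lc_g_rc_7_1) (@D3.rec (fun _ => (Cert rels S Gen.g)) lc_g_rc_15_1 lc_g_rc_28_1 lc_g_rc_7_1 lc_g_rc_7_1 lc_g_rc_15_1 lc_g_rc_28_1 lc_g_rc_43_2 lc_g_rc_7_1 lc_g_rc_15_1 lc_g_rc_28_1 lc_g_Cert_tree lc_g_rc_42_0 lc_g_rc_7_1 lc_g_rc_15_1 lc_g_Cert_tree lc_g_Cert_tree lc_g_rc_41_2 lc_g_rc_42_0 lc_g_rc_7_1 lc_g_Cert_tree lc_g_rc_15_1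 lc_g_rc_42_0 lc_g_rc_7_1 lc_g_rc_15_1 lc_g_Cert_tree lc_g_Cert_tree lc_g_rc_39_5 lc_g_rc_42_0 lc_g_rc_7_1 lc_g_Cert_tree lc_g_rc_22_1 lc_g_Cert_tree) (@D3.rec (fun _ => (Cert rels S Gen.g)) lc_g_rc_42_0 lc_g_Cert_tree lc_g_rc_42_0 lc_g_rc_42_0 lc_g_rc_22_1 lc_g_rc_7_1 lc_g_rc_15_1 lc_g_rc_7_1 lc_g_rc_33_1 lc_g_rc_7_1 lc_g_rc_15_1 lc_g_rc_28_1 lc_g_rc_39_3 lc_g_rc_7_1 lc_g_rc_15_1 lc_g_rc_7_1 lc_g_rc_33_1 lc_g_rc_7_1 lc_g_rc_39_3 lc_g_rc_41_2 lc_g_rc_22_1 lc_g_rc_33_1 lc_g_rc_15_1 lc_g_rc_33_1 lc_g_Cert_tree lc_g_rc_7_1 lc_g_rc_15_1 lc_g_rc_28_1 lc_g_Cert_tree lc_g_rc_42_0 lc_g_rc_41_2 lc_g_rc_22_1) (@D3.rec (fun _ => (Cert rels S Gen.g)) lc_g_rc_28_1 lc_g_rc_15_1 lc_g_rc_22_1 lc_g_Cert_tree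 lc_g_rc_15_1 lc_g_rc_22_1 lc_g_Cert_tree lc_g_rc_7_1 lc_g_rc_15_1 lc_g_rc_28_1 lc_g_Cert_tree lc_g_rc_42_0 lc_g_rc_7_1 lc_g_rc_15_1 lc_g_rc_28_1 lc_g_Cert_tree lc_g_rc_42_0 lc_g_rc_7_1 lc_g_rc_15_1 lc_g_Cert_tree lc_g_Cert_tree lc_g_rc_41_2 lc_g_rc_42_0 lc_g_rc_7_1 lc_g_rc_15_1 lc_g_Cert_tree lc_g_Cert_tree lc_g_rc_39_5 lc_g_rc_42_0 lc_g_rc_7_1 lc_g_Cert_tree lc_g_rc_39_3) (@D3.rec (fun _ => (Cert rels S Gen.g)) lc_g_rc_15_1 lc_g_rc_42_0 lc_g_rc_33_1 lc_g_rc_39_3 lc_g_rc_43_2 lc_g_rc_33_1 lc_g_rc_28_1 lc_g_rc_22_1 lc_g_rc_41_2 lc_g_rc_15_1 lc_g_rc_22_1 lc_g_Cert_tree lc_g_rc_7_1 lc_g_rc_15_1 lc_g_rc_22_1 lc_g_Cert_tree lc_g_rc_42_0 lc_g_rc_7_1 lc_g_rc_15_1 lc_g_rc_28_1 lc_g_Cert_tree lc_g_rc_42_0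 lc_g_rc_7_1 lc_g_rc_15_1 lc_g_Cert_tree lc_g_Cert_tree lc_g_rc_41_2 lc_g_rc_42_0 lc_g_rc_7_1 lc_g_rc_15_1 lc_g_Cert_tree lc_g_Cert_tree) (@D3.rec (fun _ => (Cert rels S Gen.g)) lc_g_rc_39_5 lc_g_rc_42_0 lc_g_rc_7_1 lc_g_Cert_tree lc_g_rc_22_1 lc_g_Cert_tree lc_g_rc_42_0 lc_g_Cert_tree lc_g_rc_42_0 lc_g_rc_7_1 lc_g_Cert_tree lc_g_rc_22_1 lc_g_Cert_tree lc_g_rc_15_1 lc_g_rc_42_0 lc_g_rc_42_0 lc_g_rc_42_1 lc_g_rc_43_2 lc_g_rc_42_0 lc_g_rc_7_1 lc_g_rc_7_1 lc_g_rc_22_1 lc_g_rc_15_1 lc_g_rc_7_1 lc_g_rc_15_1 lc_g_rc_7_1 lc_g_rc_15_1 lc_g_rc_43_2 lc_g_rc_43_2 lc_g_rc_41_2 lc_g_rc_7_1 lc_g_rc_15_1) (@D3.rec (fun _ => (Cert rels S Gen.g)) lc_g_Cert_tree lc_g_Cert_tree lc_g_rc_41_2 lc_g_rc_42_0 lc_g_rc_7_1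 lc_g_Cert_tree lc_g_rc_22_1 lc_g_Cert_tree lc_g_rc_15_1 lc_g_rc_42_0 lc_g_rc_42_0 lc_g_rc_7_1 lc_g_rc_42_0 lc_g_rc_7_1 lc_g_Cert_tree lc_g_rc_22_1 lc_g_Cert_tree lc_g_rc_15_1 lc_g_rc_42_0 lc_g_Cert_tree lc_g_rc_42_0 lc_g_rc_42_1 lc_g_rc_7_1 lc_g_Cert_tree lc_g_rc_42_0 lc_g_Cert_tree lc_g_Cert_tree lc_g_rc_42_0 lc_g_rc_42_0 lc_g_rc_15_1 lc_g_rc_22_1 lc_g_rc_28_1)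
def ce_g_1 : D2 → D3 → (Cert rels S Gen.g) := @D2.rec (fun _ => D3 → (Cert rels S Gen.g)) (@D3.rec (fun _ => (Cert rels S Gen.g)) lc_g_rc_7_1 lc_g_rc_15_1 lc_g_rc_7_1 lc_g_rc_33_1 lc_g_rc_7_1 lc_g_rc_15_1 lc_g_rc_39_3 lc_g_rc_39_3 lc_g_rc_7_1 lc_g_rc_15_1 lc_g_rc_33_1 lc_g_rc_7_3 lc_g_rc_7_1 lc_g_rc_7_1 lc_g_rc_22_1 lc_g_rc_41_2 lc_g_rc_15_1 lc_g_rc_22_1 lc_g_Cert_tree lc_g_rc_7_1 lc_g_rc_15_1 lc_g_rc_33_1 lc_g_Cert_tree lc_g_rc_42_0 lc_g_rc_7_1 lc_g_rc_15_1 lc_g_Cert_tree lc_g_Cert_tree lc_g_rc_41_2 lc_g_rc_42_0 lc_g_rc_22_1 lc_g_rc_41_2) (@D3.rec (fun _ => (Cert rels S Gen.g)) lc_g_rc_15_1 lc_g_rc_22_1 lc_g_Cert_tree lc_g_rc_7_1 lc_g_rc_15_1 lc_g_rc_22_1 lc_g_Cert_tree lc_g_rc_42_0 lc_g_rc_7_1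 lc_g_rc_15_1 lc_g_rc_28_1 lc_g_Cert_tree lc_g_rc_42_0 lc_g_rc_7_1 lc_g_rc_15_1 lc_g_Cert_tree lc_g_Cert_tree lc_g_rc_41_2 lc_g_rc_42_0 lc_g_rc_7_1 lc_g_rc_15_1 lc_g_Cert_tree lc_g_Cert_tree lc_g_rc_41_2 lc_g_rc_42_0 lc_g_rc_7_1 lc_g_Cert_tree lc_g_rc_22_1 lc_g_Cert_tree lc_g_rc_15_1 lc_g_rc_42_0 lc_g_Cert_tree) (@D3.rec (fun _ => (Cert rels S Gen.g)) lc_g_rc_42_0 lc_g_rc_39_3 lc_g_rc_43_2 lc_g_rc_7_1 lc_g_Cert_tree lc_g_rc_22_1 lc_g_Cert_tree lc_g_rc_15_1 lc_g_rc_42_0 lc_g_rc_7_1 lc_g_rc_42_0 lc_g_rc_42_1 lc_g_rc_43_2 lc_g_rc_7_1 lc_g_rc_7_1 lc_g_rc_42_0 lc_g_rc_33_1 lc_g_rc_39_3 lc_g_rc_43_2 lc_g_rc_33_1 lc_g_rc_22_3 lc_g_rc_28_1 lc_g_rc_33_1 lc_g_rc_15_1 lc_g_rc_22_1 lc_g_Cert_tree lc_g_rc_7_1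 lc_g_rc_15_1 lc_g_rc_22_1 lc_g_Cert_tree lc_g_rc_42_0 lc_g_rc_7_1) (@D3.rec (fun _ => (Cert rels S Gen.g)) lc_g_rc_15_1 lc_g_Cert_tree lc_g_Cert_tree lc_g_rc_22_1 lc_g_rc_42_0 lc_g_rc_7_1 lc_g_rc_15_1 lc_g_Cert_tree lc_g_Cert_tree lc_g_rc_41_2 lc_g_rc_42_0 lc_g_rc_7_1 lc_g_Cert_tree lc_g_rc_22_1 lc_g_Cert_tree lc_g_rc_15_1 lc_g_rc_42_0 lc_g_Cert_tree lc_g_rc_42_0 lc_g_rc_42_1 lc_g_rc_43_2 lc_g_rc_7_1 lc_g_Cert_tree lc_g_rc_22_1 lc_g_Cert_tree lc_g_rc_15_1 lc_g_rc_42_0 lc_g_Cert_tree lc_g_rc_42_0 lc_g_rc_42_1 lc_g_rc_7_1 lc_g_Cert_tree) (@D3.rec (fun _ => (Cert rels S Gen.g)) lc_g_rc_42_0 lc_g_Cert_tree lc_g_Cert_tree lc_g_rc_42_0 lc_g_rc_42_0 lc_g_rc_7_1 lc_g_Cert_tree lc_g_rc_7_1 lc_g_rc_42_0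 lc_g_Cert_tree lc_g_rc_22_1 lc_g_rc_42_0 lc_g_rc_42_1 lc_g_rc_15_1 lc_g_rc_41_2 lc_g_rc_43_2 lc_g_rc_15_1 lc_g_rc_7_1 lc_g_rc_7_1 lc_g_rc_28_1 lc_g_rc_22_1 lc_g_rc_7_1 lc_g_rc_22_1 lc_g_rc_7_1 lc_g_rc_7_1 lc_g_rc_22_1 lc_g_rc_43_2 lc_g_rc_15_1 lc_g_rc_43_2 lc_g_rc_43_2 lc_g_rc_7_1 lc_g_Cert_tree) (@D3.rec (fun _ => (Cert rels S Gen.g)) lc_g_rc_22_1 lc_g_Cert_tree lc_g_rc_15_1 lc_g_rc_42_0 lc_g_rc_42_0 lc_g_rc_7_1 lc_g_Cert_tree lc_g_rc_7_1 lc_g_rc_42_0 lc_g_Cert_tree lc_g_rc_22_1 lc_g_rc_42_0 lc_g_rc_7_1 lc_g_Cert_tree lc_g_rc_7_1 lc_g_rc_42_0 lc_g_Cert_tree lc_g_rc_22_1 lc_g_Cert_tree lc_g_rc_42_0 lc_g_rc_42_1 lc_g_rc_42_0 lc_g_rc_42_1 lc_g_rc_41_2 lc_g_rc_15_1 lc_g_Cert_tree lc_g_Cert_tree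 lc_g_rc_42_0 lc_g_Cert_tree lc_g_rc_42_0 lc_g_rc_42_0 lc_g_rc_39_3) (@D3.rec (fun _ => (Cert rels S Gen.g)) lc_g_rc_7_1 lc_g_rc_15_1 lc_g_rc_22_1 lc_g_rc_15_3 lc_g_rc_7_1 lc_g_rc_15_1 lc_g_rc_33_1 lc_g_rc_7_3 lc_g_rc_7_1 lc_g_rc_7_1 lc_g_rc_7_1 lc_g_rc_22_1 lc_g_rc_39_3 lc_g_rc_33_1 lc_g_rc_7_1 lc_g_rc_33_1 lc_g_rc_22_1 lc_g_rc_33_1 lc_g_rc_15_1 lc_g_rc_7_3 lc_g_rc_7_1 lc_g_rc_15_1 lc_g_rc_22_1 lc_g_Cert_tree lc_g_rc_7_1 lc_g_rc_15_1 lc_g_rc_22_1 lc_g_Cert_tree lc_g_rc_42_0 lc_g_rc_7_1 lc_g_rc_15_1 lc_g_Cert_tree) (@D3.rec (fun _ => (Cert rels S Gen.g)) lc_g_Cert_tree lc_g_rc_41_2 lc_g_rc_42_0 lc_g_rc_7_1 lc_g_Cert_tree lc_g_rc_22_1 lc_g_Cert_tree lc_g_rc_15_1 lc_g_rc_42_0 lc_g_Cert_tree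 lc_g_rc_42_0 lc_g_rc_42_1 lc_g_rc_43_2 lc_g_rc_15_1 lc_g_rc_22_1 lc_g_Cert_tree lc_g_rc_7_1 lc_g_rc_15_1 lc_g_rc_22_1 lc_g_Cert_tree lc_g_rc_42_0 lc_g_rc_7_1 lc_g_rc_15_1 lc_g_Cert_tree lc_g_Cert_tree lc_g_rc_22_1 lc_g_rc_42_0 lc_g_rc_7_1 lc_g_rc_15_1 lc_g_Cert_tree lc_g_Cert_tree lc_g_rc_41_2) (@D3.rec (fun _ => (Cert rels S Gen.g)) lc_g_rc_42_0 lc_g_rc_7_1 lc_g_Cert_tree lc_g_rc_22_1 lc_g_Cert_tree lc_g_rc_15_1 lc_g_rc_42_0 lc_g_Cert_tree lc_g_rc_42_0 lc_g_rc_42_1 lc_g_rc_43_2 lc_g_rc_7_1 lc_g_Cert_tree lc_g_rc_22_1 lc_g_Cert_tree lc_g_rc_15_1 lc_g_rc_42_0 lc_g_Cert_tree lc_g_rc_42_0 lc_g_rc_33_3 lc_g_rc_43_2 lc_g_rc_7_1 lc_g_Cert_tree lc_g_rc_7_1 lc_g_rc_42_0 lc_g_Cert_tree lc_g_rc_22_1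 lc_g_Cert_tree lc_g_rc_42_0 lc_g_rc_39_3 lc_g_rc_43_2 lc_g_rc_42_0) (@D3.rec (fun _ => (Cert rels S Gen.g)) lc_g_rc_33_1 lc_g_rc_7_1 lc_g_Cert_tree lc_g_rc_7_1 lc_g_rc_42_0 lc_g_Cert_tree lc_g_rc_22_1 lc_g_rc_33_3 lc_g_rc_42_0 lc_g_rc_42_1 lc_g_rc_15_1 lc_g_rc_7_1 lc_g_rc_41_2 lc_g_rc_43_2 lc_g_rc_33_1 lc_g_rc_7_1 lc_g_rc_7_1 lc_g_rc_33_1 lc_g_rc_7_1 lc_g_rc_28_3 lc_g_rc_15_1 lc_g_rc_33_1 lc_g_Cert_tree lc_g_rc_7_1 lc_g_rc_15_1 lc_g_rc_28_1 lc_g_Cert_tree lc_g_rc_42_0 lc_g_rc_7_1 lc_g_rc_15_1 lc_g_Cert_tree lc_g_Cert_tree) (@D3.rec (fun _ => (Cert rels S Gen.g)) lc_g_rc_22_1 lc_g_rc_42_0 lc_g_rc_7_1 lc_g_Cert_tree lc_g_rc_15_1 lc_g_Cert_tree lc_g_rc_15_1 lc_g_rc_42_0 lc_g_Cert_tree lc_g_rc_42_0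 lc_g_rc_42_1 lc_g_rc_22_1 lc_g_rc_7_1 lc_g_Cert_tree lc_g_rc_22_1 lc_g_Cert_tree lc_g_rc_15_1 lc_g_rc_42_0 lc_g_rc_7_3 lc_g_rc_42_0 lc_g_rc_47_19 lc_g_rc_43_2 lc_g_rc_7_1 lc_g_Cert_tree lc_g_rc_7_1 lc_g_rc_42_0 lc_g_Cert_tree lc_g_rc_22_1 lc_g_Cert_tree lc_g_rc_42_0 lc_g_rc_42_1 lc_g_rc_15_1) (@D3.rec (fun _ => (Cert rels S Gen.g)) lc_g_rc_42_0 lc_g_rc_41_2 lc_g_rc_41_2 lc_g_rc_41_2 lc_g_rc_7_1 lc_g_Cert_tree lc_g_rc_7_1 lc_g_rc_42_0 lc_g_Cert_tree lc_g_rc_22_1 lc_g_Cert_tree lc_g_rc_42_0 lc_g_rc_42_1 lc_g_rc_42_0 lc_g_rc_33_3 lc_g_rc_41_2 lc_g_rc_15_1 lc_g_Cert_tree lc_g_Cert_tree lc_g_rc_42_0 lc_g_Cert_tree lc_g_rc_42_0 lc_g_rc_42_0 lc_g_rc_39_3 lc_g_rc_15_1 lc_g_Cert_tree lc_g_rc_7_1 lc_g_rc_42_0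 lc_g_rc_42_1 lc_g_rc_7_1 lc_g_rc_42_0 lc_g_rc_42_1) (@D3.rec (fun _ => (Cert rels S Gen.g)) lc_g_rc_28_1 lc_g_rc_22_1 lc_g_rc_41_2 lc_g_rc_43_2 lc_g_rc_43_2 lc_g_rc_15_1 lc_g_rc_7_1 lc_g_rc_7_1 lc_g_rc_33_1 lc_g_rc_28_1 lc_g_rc_7_1 lc_g_rc_7_1 lc_g_rc_7_1 lc_g_rc_7_1 lc_g_rc_43_2 lc_g_rc_22_1 lc_g_rc_43_2 lc_g_rc_43_2 lc_g_rc_7_1 lc_g_Cert_tree lc_g_rc_7_1 lc_g_rc_42_0 lc_g_Cert_tree lc_g_rc_22_1 lc_g_rc_42_0 lc_g_rc_15_1 lc_g_Cert_tree lc_g_rc_7_1 lc_g_rc_42_0 lc_g_rc_42_0 lc_g_rc_15_1 lc_g_Cert_tree) (@D3.rec (fun _ => (Cert rels S Gen.g)) lc_g_rc_7_1 lc_g_Cert_tree lc_g_rc_42_0 lc_g_rc_42_1 lc_g_Cert_tree lc_g_rc_42_0 lc_g_rc_42_1 lc_g_rc_28_1 lc_g_rc_42_0 lc_g_rc_42_1 lc_g_rc_41_2 lc_g_rc_39_3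 lc_g_rc_41_2 lc_g_rc_22_1 lc_g_Cert_tree lc_g_Cert_tree lc_g_rc_42_0 lc_g_rc_42_0 lc_g_Cert_tree lc_g_rc_42_0 lc_g_rc_39_3 lc_g_rc_7_1 lc_g_rc_15_1 lc_g_rc_22_3 lc_g_rc_15_3 lc_g_rc_22_1 lc_g_rc_7_1 lc_g_rc_33_1 lc_g_rc_22_1 lc_g_rc_41_0 lc_g_rc_15_1 lc_g_rc_39_5) (@D3.rec (fun _ => (Cert rels S Gen.g)) lc_g_rc_7_3 lc_g_rc_7_1 lc_g_rc_7_1 lc_g_rc_7_1 lc_g_rc_39_3 lc_g_rc_33_1 lc_g_rc_7_1 lc_g_rc_7_1 lc_g_rc_7_1 lc_g_rc_22_1 lc_g_rc_22_1 lc_g_rc_33_1 lc_g_rc_15_1 lc_g_rc_15_3 lc_g_rc_7_1 lc_g_rc_15_1 lc_g_rc_28_1 lc_g_Cert_tree lc_g_rc_42_0 lc_g_rc_7_1 lc_g_rc_15_1 lc_g_Cert_tree lc_g_Cert_tree lc_g_rc_22_1 lc_g_rc_42_0 lc_g_rc_7_1 lc_g_Cert_tree lc_g_rc_22_1 lc_g_Cert_tree lc_g_rc_15_1 lc_g_rc_42_0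 lc_g_Cert_tree) (@D3.rec (fun _ => (Cert rels S Gen.g)) lc_g_rc_42_0 lc_g_rc_42_1 lc_g_rc_43_2 lc_g_rc_7_1 lc_g_Cert_tree lc_g_rc_7_1 lc_g_rc_42_0 lc_g_Cert_tree lc_g_rc_22_1 lc_g_Cert_tree lc_g_rc_42_0 lc_g_rc_42_1 lc_g_rc_43_2 lc_g_rc_42_0 lc_g_rc_42_1 lc_g_rc_41_2 lc_g_rc_33_3 lc_g_rc_7_1 lc_g_rc_15_1 lc_g_rc_28_1 lc_g_Cert_tree lc_g_rc_42_0 lc_g_rc_7_1 lc_g_rc_15_1 lc_g_Cert_tree lc_g_Cert_tree lc_g_rc_22_1 lc_g_rc_42_0 lc_g_rc_7_1 lc_g_Cert_tree lc_g_rc_15_1 lc_g_Cert_tree) (@D3.rec (fun _ => (Cert rels S Gen.g)) lc_g_rc_15_1 lc_g_rc_42_0 lc_g_Cert_tree lc_g_rc_42_0 lc_g_rc_42_1 lc_g_rc_22_1 lc_g_rc_7_1 lc_g_Cert_tree lc_g_rc_22_1 lc_g_Cert_tree lc_g_rc_15_1 lc_g_rc_42_0 lc_g_Cert_tree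 lc_g_rc_42_0 lc_g_rc_42_1 lc_g_rc_43_2 lc_g_rc_7_1 lc_g_Cert_tree lc_g_rc_7_1 lc_g_rc_42_0 lc_g_Cert_tree lc_g_rc_22_1 lc_g_Cert_tree lc_g_rc_42_0 lc_g_rc_42_1 lc_g_rc_15_1 lc_g_rc_42_0 lc_g_rc_42_1 lc_g_rc_41_2 lc_g_rc_43_2 lc_g_rc_7_1 lc_g_Cert_tree) (@D3.rec (fun _ => (Cert rels S Gen.g)) lc_g_rc_7_1 lc_g_rc_42_0 lc_g_Cert_tree lc_g_rc_22_1 lc_g_Cert_tree lc_g_rc_42_0 lc_g_rc_39_3 lc_g_rc_43_2 lc_g_rc_42_0 lc_g_rc_28_3 lc_g_rc_15_1 lc_g_Cert_tree lc_g_rc_7_1 lc_g_Cert_tree lc_g_rc_42_0 lc_g_rc_7_1 lc_g_rc_7_1 lc_g_Cert_tree lc_g_rc_42_0 lc_g_rc_39_3 lc_g_rc_43_2 lc_g_rc_42_0 lc_g_rc_33_1 lc_g_rc_39_1 lc_g_rc_15_1 lc_g_Cert_tree lc_g_rc_7_1 lc_g_rc_7_1 lc_g_rc_42_0 lc_g_rc_42_1 lc_g_rc_7_1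 lc_g_rc_22_1) (@D3.rec (fun _ => (Cert rels S Gen.g)) lc_g_rc_42_0 lc_g_rc_42_1 lc_g_rc_28_1 lc_g_rc_22_1 lc_g_rc_33_3 lc_g_rc_41_2 lc_g_rc_43_2 lc_g_rc_7_1 lc_g_rc_15_3 lc_g_rc_43_2 lc_g_rc_33_1 lc_g_rc_41_0 lc_g_rc_15_3 lc_g_rc_47_33 lc_g_rc_7_1 lc_g_rc_15_1 lc_g_rc_33_1 lc_g_rc_22_3 lc_g_rc_42_0 lc_g_rc_7_1 lc_g_rc_15_1 lc_g_Cert_tree lc_g_rc_33_1 lc_g_rc_28_1 lc_g_rc_42_0 lc_g_rc_7_1 lc_g_Cert_tree lc_g_rc_15_1 lc_g_Cert_tree lc_g_rc_15_1 lc_g_rc_42_0 lc_g_rc_7_1) (@D3.rec (fun _ => (Cert rels S Gen.g)) lc_g_rc_42_0 lc_g_rc_47_26 lc_g_rc_22_1 lc_g_rc_7_1 lc_g_Cert_tree lc_g_rc_7_1 lc_g_rc_42_0 lc_g_Cert_tree lc_g_rc_15_1 lc_g_Cert_tree lc_g_rc_42_0 lc_g_rc_42_1 lc_g_rc_15_1 lc_g_rc_42_0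 lc_g_rc_41_2 lc_g_rc_41_2 lc_g_rc_41_2 lc_g_rc_7_1 lc_g_Cert_tree lc_g_rc_7_1 lc_g_rc_42_0 lc_g_Cert_tree lc_g_rc_22_1 lc_g_rc_15_1 lc_g_rc_42_0 lc_g_rc_15_1 lc_g_rc_15_1 lc_g_rc_15_1 lc_g_Cert_tree lc_g_rc_7_1 lc_g_Cert_tree lc_g_rc_42_0) (@D3.rec (fun _ => (Cert rels S Gen.g)) lc_g_rc_42_1 lc_g_rc_7_1 lc_g_Cert_tree lc_g_rc_42_0 lc_g_rc_42_1 lc_g_rc_28_1 lc_g_rc_22_1 lc_g_rc_42_0 lc_g_rc_41_2 lc_g_rc_41_2 lc_g_rc_41_2 lc_g_rc_15_1 lc_g_Cert_tree lc_g_rc_7_1 lc_g_Cert_tree lc_g_rc_42_0 lc_g_rc_42_1 lc_g_Cert_tree lc_g_rc_42_0 lc_g_rc_42_1 lc_g_rc_28_1 lc_g_rc_42_0 lc_g_rc_33_3 lc_g_rc_41_2 lc_g_Cert_tree lc_g_Cert_tree lc_g_rc_42_0 lc_g_rc_42_0 lc_g_Cert_tree lc_g_rc_42_0 lc_g_rc_39_3 lc_g_Cert_tree)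 (@D3.rec (fun _ => (Cert rels S Gen.g)) lc_g_rc_15_1 lc_g_rc_42_0 lc_g_rc_42_1 lc_g_rc_7_1 lc_g_rc_7_1 lc_g_rc_41_2 lc_g_rc_43_2 lc_g_rc_41_2 lc_g_rc_28_1 lc_g_rc_43_2 lc_g_rc_33_1 lc_g_rc_28_1 lc_g_rc_43_2 lc_g_rc_15_1 lc_g_rc_15_1 lc_g_rc_7_1 lc_g_rc_7_1 lc_g_Cert_tree lc_g_rc_33_1 lc_g_rc_41_2 lc_g_rc_15_1 lc_g_rc_15_1 lc_g_rc_7_1 lc_g_rc_7_1 lc_g_rc_7_1 lc_g_rc_7_1 lc_g_rc_43_2 lc_g_rc_43_2 lc_g_rc_28_1 lc_g_rc_15_1 lc_g_Cert_tree lc_g_rc_7_1)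
def ce_g_2 : D2 → D3 → (Cert rels S Gen.g) := @D2.rec (fun _ => D3 → (Cert rels S Gen.g)) (@D3.rec (fun _ => (Cert rels S Gen.g)) lc_g_rc_42_0 lc_g_rc_42_0 lc_g_rc_28_1 lc_g_Cert_tree lc_g_rc_15_1 lc_g_rc_42_0 lc_g_Cert_tree lc_g_rc_15_1 lc_g_Cert_tree lc_g_rc_42_0 lc_g_rc_42_1 lc_g_rc_7_1 lc_g_rc_42_0 lc_g_rc_42_1 lc_g_rc_41_2 lc_g_Cert_tree lc_g_rc_42_0 lc_g_rc_42_1 lc_g_rc_41_2 lc_g_rc_28_1 lc_g_rc_33_1 lc_g_rc_39_3 lc_g_rc_41_2 lc_g_rc_15_1 lc_g_Cert_tree lc_g_rc_42_0 lc_g_Cert_tree lc_g_rc_42_0 lc_g_rc_7_1 lc_g_rc_42_0 lc_g_rc_22_1 lc_g_rc_7_1) (@D3.rec (fun _ => (Cert rels S Gen.g)) lc_g_rc_7_1 lc_g_rc_15_1 lc_g_rc_41_0 lc_g_rc_15_1 lc_g_rc_7_3 lc_g_rc_15_3 lc_g_rc_22_1 lc_g_rc_7_1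 lc_g_rc_33_3 lc_g_rc_7_1 lc_g_rc_41_0 lc_g_rc_22_1 lc_g_rc_39_5 lc_g_rc_33_3 lc_g_rc_15_1 lc_g_rc_39_5 lc_g_rc_15_3 lc_g_rc_15_1 lc_g_rc_7_1 lc_g_rc_15_3 lc_g_rc_33_1 lc_g_rc_15_1 lc_g_rc_22_1 lc_g_rc_7_1 lc_g_rc_7_1 lc_g_rc_7_1 lc_g_rc_22_1 lc_g_rc_28_1 lc_g_rc_22_1 lc_g_rc_43_2 lc_g_rc_7_1 lc_g_rc_15_1) (@D3.rec (fun _ => (Cert rels S Gen.g)) lc_g_Cert_tree lc_g_Cert_tree lc_g_rc_28_1 lc_g_rc_42_0 lc_g_rc_7_1 lc_g_Cert_tree lc_g_rc_15_1 lc_g_Cert_tree lc_g_rc_15_1 lc_g_rc_42_0 lc_g_Cert_tree lc_g_rc_42_0 lc_g_rc_42_1 lc_g_rc_22_1 lc_g_rc_7_1 lc_g_Cert_tree lc_g_rc_7_1 lc_g_rc_42_0 lc_g_Cert_tree lc_g_rc_22_1 lc_g_Cert_tree lc_g_rc_42_0 lc_g_rc_42_1 lc_g_rc_15_1 lc_g_rc_42_0 lc_g_rc_42_1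 lc_g_rc_41_2 lc_g_rc_43_2 lc_g_rc_15_1 lc_g_Cert_tree lc_g_rc_7_1 lc_g_Cert_tree) (@D3.rec (fun _ => (Cert rels S Gen.g)) lc_g_rc_42_0 lc_g_rc_42_1 lc_g_rc_7_1 lc_g_Cert_tree lc_g_rc_42_0 lc_g_rc_42_1 lc_g_rc_28_1 lc_g_rc_43_2 lc_g_rc_42_0 lc_g_rc_42_1 lc_g_rc_41_2 lc_g_rc_33_3 lc_g_rc_28_3 lc_g_rc_41_2 lc_g_rc_28_1 lc_g_rc_7_1 lc_g_rc_15_1 lc_g_Cert_tree lc_g_Cert_tree lc_g_rc_28_1 lc_g_rc_42_0 lc_g_rc_7_1 lc_g_Cert_tree lc_g_rc_15_1 lc_g_Cert_tree lc_g_rc_15_1 lc_g_rc_42_0 lc_g_Cert_tree lc_g_rc_42_0 lc_g_rc_42_1 lc_g_rc_22_1 lc_g_rc_7_1) (@D3.rec (fun _ => (Cert rels S Gen.g)) lc_g_Cert_tree lc_g_rc_7_1 lc_g_rc_42_0 lc_g_Cert_tree lc_g_rc_15_1 lc_g_Cert_tree lc_g_rc_42_0 lc_g_rc_42_1 lc_g_rc_15_1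 lc_g_rc_42_0 lc_g_rc_42_1 lc_g_rc_41_2 lc_g_rc_43_2 lc_g_rc_7_1 lc_g_Cert_tree lc_g_rc_7_1 lc_g_rc_42_0 lc_g_Cert_tree lc_g_rc_22_1 lc_g_Cert_tree lc_g_rc_42_0 lc_g_rc_42_1 lc_g_rc_15_1 lc_g_rc_42_0 lc_g_rc_42_1 lc_g_rc_41_2 lc_g_rc_43_2 lc_g_rc_15_1 lc_g_Cert_tree lc_g_rc_7_1 lc_g_Cert_tree lc_g_rc_42_0) (@D3.rec (fun _ => (Cert rels S Gen.g)) lc_g_rc_42_1 lc_g_rc_7_1 lc_g_Cert_tree lc_g_rc_42_0 lc_g_rc_42_1 lc_g_rc_28_1 lc_g_rc_22_1 lc_g_rc_42_0 lc_g_rc_42_1 lc_g_rc_41_2 lc_g_rc_43_2 lc_g_rc_39_3 lc_g_rc_41_2 lc_g_rc_39_1 lc_g_rc_43_2 lc_g_rc_43_2 lc_g_rc_15_1 lc_g_Cert_tree lc_g_rc_7_1 lc_g_Cert_tree lc_g_rc_42_0 lc_g_rc_33_3 lc_g_rc_7_1 lc_g_Cert_tree lc_g_rc_42_0 lc_g_rc_39_3 lc_g_rc_28_1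 lc_g_rc_43_2 lc_g_rc_42_0 lc_g_rc_28_3 lc_g_Cert_tree lc_g_rc_15_1) (@D3.rec (fun _ => (Cert rels S Gen.g)) lc_g_Cert_tree lc_g_rc_42_0 lc_g_rc_7_1 lc_g_rc_7_1 lc_g_rc_42_0 lc_g_rc_33_1 lc_g_Cert_tree lc_g_rc_42_0 lc_g_rc_33_1 lc_g_rc_39_1 lc_g_rc_7_1 lc_g_Cert_tree lc_g_rc_15_1 lc_g_rc_22_1 lc_g_rc_42_0 lc_g_rc_42_1 lc_g_rc_7_1 lc_g_rc_7_1 lc_g_rc_7_1 lc_g_rc_41_2 lc_g_rc_43_2 lc_g_rc_22_1 lc_g_rc_41_2 lc_g_rc_28_1 lc_g_rc_43_2 lc_g_rc_33_1 lc_g_rc_28_1 lc_g_rc_33_3 lc_g_rc_43_2 lc_g_rc_43_2 lc_g_rc_15_3 lc_g_rc_15_3) (@D3.rec (fun _ => (Cert rels S Gen.g)) lc_g_rc_39_1 lc_g_rc_41_0 lc_g_rc_41_0 lc_g_rc_15_1 lc_g_rc_7_1 lc_g_rc_15_1 lc_g_rc_15_1 lc_g_rc_7_1 lc_g_Cert_tree lc_g_rc_22_1 lc_g_rc_33_1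 lc_g_rc_15_1 lc_g_rc_42_0 lc_g_rc_7_1 lc_g_Cert_tree lc_g_rc_7_1 lc_g_rc_42_0 lc_g_Cert_tree lc_g_rc_15_1 lc_g_rc_15_1 lc_g_rc_42_0 lc_g_rc_47_26 lc_g_rc_15_1 lc_g_rc_7_1 lc_g_Cert_tree lc_g_rc_7_1 lc_g_Cert_tree lc_g_rc_42_0 lc_g_rc_42_1 lc_g_rc_7_1 lc_g_Cert_tree lc_g_rc_42_0) (@D3.rec (fun _ => (Cert rels S Gen.g)) lc_g_rc_42_1 lc_g_rc_15_1 lc_g_rc_15_1 lc_g_rc_42_0 lc_g_rc_41_2 lc_g_rc_41_2 lc_g_rc_41_2 lc_g_rc_15_1 lc_g_Cert_tree lc_g_rc_7_1 lc_g_rc_7_1 lc_g_rc_42_0 lc_g_rc_33_1 lc_g_rc_7_1 lc_g_rc_22_1 lc_g_rc_42_0 lc_g_rc_22_1 lc_g_rc_28_1 lc_g_rc_22_1 lc_g_Cert_tree lc_g_rc_15_1 lc_g_Cert_tree lc_g_rc_42_0 lc_g_rc_42_1 lc_g_rc_7_1 lc_g_rc_7_1 lc_g_rc_42_0 lc_g_rc_41_2 lc_g_rc_41_2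 lc_g_rc_41_2 lc_g_Cert_tree lc_g_rc_42_0) (@D3.rec (fun _ => (Cert rels S Gen.g)) lc_g_rc_41_2 lc_g_rc_41_2 lc_g_rc_28_1 lc_g_rc_41_2 lc_g_rc_33_1 lc_g_rc_28_1 lc_g_Cert_tree lc_g_rc_15_1 lc_g_Cert_tree lc_g_rc_42_0 lc_g_rc_42_1 lc_g_rc_7_1 lc_g_rc_42_0 lc_g_rc_41_2 lc_g_rc_41_2 lc_g_Cert_tree lc_g_rc_42_0 lc_g_rc_33_3 lc_g_rc_41_2 lc_g_rc_28_1 lc_g_rc_33_1 lc_g_Cert_tree lc_g_rc_42_0 lc_g_Cert_tree lc_g_rc_42_0 lc_g_rc_7_1 lc_g_rc_42_0 lc_g_rc_42_1 lc_g_rc_22_1 lc_g_rc_42_0 lc_g_rc_42_1 lc_g_rc_15_1) (@D3.rec (fun _ => (Cert rels S Gen.g)) lc_g_rc_15_1 lc_g_rc_41_2 lc_g_rc_28_1 lc_g_rc_43_2 lc_g_rc_7_1 lc_g_rc_7_1 lc_g_rc_43_2 lc_g_rc_28_1 lc_g_rc_43_2 lc_g_rc_33_1 lc_g_rc_43_2 lc_g_Cert_tree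 lc_g_rc_33_1 lc_g_rc_39_5 lc_g_rc_22_1 lc_g_rc_15_1 lc_g_rc_15_1 lc_g_Cert_tree lc_g_rc_7_1 lc_g_rc_7_1 lc_g_rc_42_0 lc_g_rc_43_2 lc_g_rc_41_2 lc_g_rc_15_1 lc_g_rc_15_1 lc_g_rc_7_1 lc_g_rc_7_1 lc_g_rc_7_1 lc_g_rc_28_1 lc_g_rc_28_1 lc_g_Cert_tree lc_g_rc_15_1) (@D3.rec (fun _ => (Cert rels S Gen.g)) lc_g_rc_42_0 lc_g_rc_7_1 lc_g_rc_42_0 lc_g_Cert_tree lc_g_rc_42_0 lc_g_rc_42_1 lc_g_rc_15_1 lc_g_Cert_tree lc_g_rc_42_0 lc_g_rc_42_1 lc_g_rc_41_2 lc_g_rc_28_1 lc_g_rc_7_1 lc_g_rc_7_1 lc_g_rc_41_2 lc_g_rc_28_1 lc_g_rc_42_0 lc_g_rc_22_1 lc_g_rc_41_2 lc_g_rc_28_1 lc_g_Cert_tree lc_g_rc_42_0 lc_g_rc_42_0 lc_g_rc_22_1 lc_g_rc_28_1 lc_g_rc_7_1 lc_g_rc_41_0 lc_g_rc_7_1 lc_g_rc_41_0 lc_g_rc_15_1 lc_g_rc_41_0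 lc_g_rc_33_3) (@D3.rec (fun _ => (Cert rels S Gen.g)) lc_g_rc_15_1 lc_g_rc_7_3 lc_g_rc_15_3 lc_g_rc_15_1 lc_g_rc_7_1 lc_g_rc_7_1 lc_g_rc_39_5 lc_g_rc_41_2 lc_g_rc_7_1 lc_g_rc_41_0 lc_g_rc_33_3 lc_g_rc_28_1 lc_g_rc_22_1 lc_g_rc_22_3 lc_g_rc_43_2 lc_g_rc_43_2 lc_g_rc_15_1 lc_g_rc_33_1 lc_g_rc_39_5 lc_g_rc_22_3 lc_g_rc_15_1 lc_g_rc_22_1 lc_g_rc_7_1 lc_g_rc_7_1 lc_g_rc_7_1 lc_g_rc_22_3 lc_g_rc_22_1 lc_g_rc_33_1 lc_g_rc_28_1 lc_g_rc_7_1 lc_g_Cert_tree lc_g_rc_22_1) (@D3.rec (fun _ => (Cert rels S Gen.g)) lc_g_Cert_tree lc_g_rc_15_1 lc_g_rc_42_0 lc_g_Cert_tree lc_g_rc_42_0 lc_g_rc_42_1 lc_g_rc_28_1 lc_g_rc_7_1 lc_g_Cert_tree lc_g_rc_7_1 lc_g_rc_42_0 lc_g_Cert_tree lc_g_rc_15_1 lc_g_Cert_tree lc_g_rc_42_0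 lc_g_rc_42_1 lc_g_rc_15_1 lc_g_rc_42_0 lc_g_rc_42_1 lc_g_rc_41_2 lc_g_rc_43_2 lc_g_rc_15_1 lc_g_Cert_tree lc_g_rc_7_1 lc_g_Cert_tree lc_g_rc_42_0 lc_g_rc_42_1 lc_g_rc_7_1 lc_g_Cert_tree lc_g_rc_42_0 lc_g_rc_42_1 lc_g_rc_28_1) (@D3.rec (fun _ => (Cert rels S Gen.g)) lc_g_rc_22_1 lc_g_rc_42_0 lc_g_rc_42_1 lc_g_rc_41_2 lc_g_rc_43_2 lc_g_rc_39_3 lc_g_rc_41_2 lc_g_rc_28_1 lc_g_rc_43_2 lc_g_rc_43_2 lc_g_Cert_tree lc_g_rc_15_1 lc_g_Cert_tree lc_g_rc_42_0 lc_g_rc_42_1 lc_g_rc_7_1 lc_g_rc_7_1 lc_g_rc_42_0 lc_g_rc_42_1 lc_g_rc_41_2 lc_g_rc_33_3 lc_g_Cert_tree lc_g_rc_42_0 lc_g_rc_42_1 lc_g_rc_41_2 lc_g_rc_28_1 lc_g_rc_39_1 lc_g_rc_28_1 lc_g_rc_39_3 lc_g_rc_41_2 lc_g_rc_28_1 lc_g_rc_28_1) (@D3.rec (fun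 _ => (Cert rels S Gen.g)) lc_g_rc_22_1 lc_g_rc_7_1 lc_g_Cert_tree lc_g_rc_22_1 lc_g_Cert_tree lc_g_rc_15_1 lc_g_rc_42_0 lc_g_Cert_tree lc_g_rc_42_0 lc_g_rc_42_1 lc_g_rc_28_1 lc_g_rc_7_1 lc_g_Cert_tree lc_g_rc_7_1 lc_g_rc_42_0 lc_g_Cert_tree lc_g_rc_15_1 lc_g_Cert_tree lc_g_rc_42_0 lc_g_rc_42_1 lc_g_rc_15_1 lc_g_rc_42_0 lc_g_rc_42_1 lc_g_rc_41_2 lc_g_rc_43_2 lc_g_rc_7_1 lc_g_Cert_tree lc_g_rc_7_1 lc_g_Cert_tree lc_g_rc_42_0 lc_g_rc_42_1 lc_g_rc_7_1) (@D3.rec (fun _ => (Cert rels S Gen.g)) lc_g_Cert_tree lc_g_rc_42_0 lc_g_rc_42_1 lc_g_rc_15_1 lc_g_rc_15_1 lc_g_rc_42_0 lc_g_rc_42_1 lc_g_rc_41_2 lc_g_rc_43_2 lc_g_rc_39_3 lc_g_rc_41_2 lc_g_rc_28_1 lc_g_rc_43_2 lc_g_rc_43_2 lc_g_rc_15_1 lc_g_Cert_tree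 lc_g_rc_7_1 lc_g_Cert_tree lc_g_rc_42_0 lc_g_rc_42_1 lc_g_rc_7_1 lc_g_Cert_tree lc_g_rc_42_0 lc_g_rc_42_1 lc_g_rc_28_1 lc_g_rc_22_1 lc_g_rc_42_0 lc_g_rc_42_1 lc_g_rc_41_2 lc_g_rc_43_2 lc_g_rc_41_2 lc_g_rc_28_1) (@D3.rec (fun _ => (Cert rels S Gen.g)) lc_g_rc_43_2 lc_g_rc_43_2 lc_g_Cert_tree lc_g_rc_15_1 lc_g_Cert_tree lc_g_rc_42_0 lc_g_rc_42_1 lc_g_rc_7_1 lc_g_rc_7_1 lc_g_rc_42_0 lc_g_rc_42_1 lc_g_rc_41_2 lc_g_rc_43_2 lc_g_Cert_tree lc_g_rc_42_0 lc_g_rc_42_1 lc_g_rc_41_2 lc_g_rc_28_1 lc_g_rc_43_2 lc_g_rc_33_1 lc_g_rc_28_1 lc_g_rc_15_1 lc_g_rc_41_2 lc_g_rc_28_1 lc_g_rc_43_2 lc_g_rc_43_2 lc_g_rc_43_2 lc_g_rc_7_1 lc_g_rc_43_2 lc_g_Cert_tree lc_g_rc_15_1 lc_g_Cert_tree) (@D3.rec (fun _ => (Cert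 rels S Gen.g)) lc_g_rc_42_0 lc_g_rc_33_3 lc_g_rc_7_1 lc_g_rc_7_1 lc_g_rc_42_0 lc_g_rc_15_3 lc_g_Cert_tree lc_g_rc_42_0 lc_g_rc_39_3 lc_g_rc_39_3 lc_g_rc_28_1 lc_g_Cert_tree lc_g_rc_42_0 lc_g_rc_15_1 lc_g_rc_15_1 lc_g_Cert_tree lc_g_rc_42_0 lc_g_rc_22_1 lc_g_rc_28_1 lc_g_rc_42_0 lc_g_rc_42_1 lc_g_rc_39_1 lc_g_rc_41_0 lc_g_rc_41_0 lc_g_rc_22_1 lc_g_rc_42_0 lc_g_rc_42_1 lc_g_rc_15_1 lc_g_rc_15_1 lc_g_rc_22_1 lc_g_rc_41_2 lc_g_rc_28_1) (@D3.rec (fun _ => (Cert rels S Gen.g)) lc_g_rc_43_2 lc_g_rc_7_1 lc_g_rc_7_1 lc_g_rc_41_2 lc_g_rc_7_1 lc_g_rc_43_2 lc_g_rc_22_3 lc_g_rc_22_1 lc_g_rc_28_1 lc_g_rc_43_2 lc_g_rc_33_1 lc_g_rc_43_2 lc_g_Cert_tree lc_g_rc_33_1 lc_g_rc_39_5 lc_g_rc_33_3 lc_g_rc_43_2 lc_g_rc_33_3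 lc_g_rc_15_3 lc_g_rc_7_1 lc_g_rc_41_0 lc_g_rc_41_0 lc_g_rc_7_1 lc_g_rc_28_1 lc_g_rc_22_1 lc_g_rc_7_1 lc_g_rc_41_2 lc_g_rc_7_1 lc_g_rc_42_0 lc_g_rc_33_1 lc_g_rc_22_1 lc_g_rc_7_1) (@D3.rec (fun _ => (Cert rels S Gen.g)) lc_g_Cert_tree lc_g_rc_7_1 lc_g_rc_33_3 lc_g_rc_42_0 lc_g_rc_15_1 lc_g_rc_7_1 lc_g_rc_15_3 lc_g_rc_42_0 lc_g_rc_47_47 lc_g_rc_15_1 lc_g_rc_15_1 lc_g_Cert_tree lc_g_rc_7_1 lc_g_Cert_tree lc_g_rc_42_0 lc_g_rc_42_1 lc_g_rc_7_1 lc_g_rc_7_1 lc_g_rc_42_0 lc_g_rc_41_2 lc_g_rc_41_2 lc_g_rc_41_2 lc_g_Cert_tree lc_g_rc_42_0 lc_g_rc_41_2 lc_g_rc_41_2 lc_g_rc_28_1 lc_g_rc_41_2 lc_g_rc_15_1 lc_g_rc_15_1 lc_g_Cert_tree lc_g_rc_15_1) (@D3.rec (fun _ => (Cert rels S Gen.g)) lc_g_rc_7_1 lc_g_rc_42_0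 lc_g_rc_33_1 lc_g_rc_7_1 lc_g_rc_7_1 lc_g_rc_22_3 lc_g_rc_28_1 lc_g_rc_33_1 lc_g_rc_28_1 lc_g_Cert_tree lc_g_rc_42_0 lc_g_rc_42_1 lc_g_rc_15_1 lc_g_rc_15_1 lc_g_Cert_tree lc_g_rc_42_0 lc_g_rc_41_2 lc_g_rc_41_2 lc_g_rc_28_1 lc_g_rc_41_2 lc_g_rc_7_1 lc_g_rc_7_1 lc_g_rc_42_0 lc_g_rc_42_1 lc_g_rc_43_2 lc_g_rc_28_1 lc_g_rc_33_1 lc_g_rc_33_3 lc_g_Cert_tree lc_g_rc_33_1 lc_g_rc_41_2 lc_g_Cert_tree)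
def ce_g_3 : D2 → D3 → (Cert rels S Gen.g) := @D2.rec (fun _ => D3 → (Cert rels S Gen.g)) (@D3.rec (fun _ => (Cert rels S Gen.g)) lc_g_rc_42_0 lc_g_rc_42_1 lc_g_rc_15_1 lc_g_Cert_tree lc_g_rc_42_0 lc_g_rc_41_2 lc_g_rc_41_2 lc_g_rc_28_1 lc_g_rc_7_1 lc_g_rc_42_0 lc_g_rc_42_1 lc_g_rc_33_3 lc_g_rc_28_1 lc_g_rc_33_1 lc_g_rc_39_3 lc_g_Cert_tree lc_g_rc_42_0 lc_g_rc_42_0 lc_g_rc_42_1 lc_g_rc_22_1 lc_g_rc_28_1 lc_g_rc_41_2 lc_g_rc_43_2 lc_g_rc_41_2 lc_g_rc_28_1 lc_g_rc_43_2 lc_g_rc_22_1 lc_g_rc_15_1 lc_g_rc_15_1 lc_g_rc_28_1 lc_g_rc_43_2 lc_g_rc_33_1) (@D3.rec (fun _ => (Cert rels S Gen.g)) lc_g_rc_43_2 lc_g_Cert_tree lc_g_rc_7_1 lc_g_rc_7_1 lc_g_rc_33_1 lc_g_rc_43_2 lc_g_Cert_tree lc_g_rc_43_2 lc_g_rc_41_2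 lc_g_rc_42_0 lc_g_rc_43_2 lc_g_rc_41_2 lc_g_rc_22_1 lc_g_rc_22_1 lc_g_Cert_tree lc_g_rc_15_1 lc_g_rc_15_1 lc_g_rc_42_0 lc_g_rc_43_2 lc_g_rc_7_1 lc_g_rc_43_2 lc_g_rc_41_2 lc_g_rc_28_1 lc_g_rc_15_1 lc_g_rc_15_1 lc_g_rc_15_1 lc_g_rc_28_1 lc_g_rc_28_1 lc_g_rc_42_0 lc_g_rc_15_1 lc_g_Cert_tree lc_g_rc_42_0) (@D3.rec (fun _ => (Cert rels S Gen.g)) lc_g_rc_42_1 lc_g_rc_41_2 lc_g_rc_28_1 lc_g_rc_22_1 lc_g_rc_15_1 lc_g_rc_42_0 lc_g_rc_22_1 lc_g_rc_41_2 lc_g_rc_28_1 lc_g_rc_28_1 lc_g_Cert_tree lc_g_rc_42_0 lc_g_rc_15_1 lc_g_rc_28_1 lc_g_rc_33_1 lc_g_rc_7_1 lc_g_rc_41_0 lc_g_rc_7_1 lc_g_rc_41_0 lc_g_rc_33_3 lc_g_rc_7_1 lc_g_rc_41_0 lc_g_rc_33_3 lc_g_rc_15_1 lc_g_rc_15_1 lc_g_rc_28_3 lc_g_rc_43_2 lc_g_rc_15_3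 lc_g_rc_15_3 lc_g_rc_7_3 lc_g_rc_15_1 lc_g_rc_7_1) (@D3.rec (fun _ => (Cert rels S Gen.g)) lc_g_rc_7_1 lc_g_rc_7_1 lc_g_rc_7_1 lc_g_rc_39_5 lc_g_rc_41_2 lc_g_rc_41_0 lc_g_rc_28_3 lc_g_rc_33_3 lc_g_rc_43_2 lc_g_rc_33_1 lc_g_rc_28_1 lc_g_rc_43_2 lc_g_rc_33_1 lc_g_rc_28_1 lc_g_rc_39_5 lc_g_rc_22_3 lc_g_rc_15_1 lc_g_rc_15_1 lc_g_rc_22_3 lc_g_rc_22_1 lc_g_rc_7_1 lc_g_rc_7_1 lc_g_rc_22_3 lc_g_rc_22_3 lc_g_Cert_tree lc_g_rc_33_1 lc_g_rc_41_2 lc_g_rc_7_1 lc_g_Cert_tree lc_g_rc_7_1 lc_g_rc_42_0 lc_g_Cert_tree) (@D3.rec (fun _ => (Cert rels S Gen.g)) lc_g_rc_22_1 lc_g_Cert_tree lc_g_rc_42_0 lc_g_rc_42_1 lc_g_rc_15_1 lc_g_rc_42_0 lc_g_rc_42_1 lc_g_rc_41_2 lc_g_rc_43_2 lc_g_rc_7_1 lc_g_Cert_tree lc_g_rc_7_1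 lc_g_Cert_tree lc_g_rc_42_0 lc_g_rc_42_1 lc_g_rc_7_1 lc_g_Cert_tree lc_g_rc_42_0 lc_g_rc_42_1 lc_g_rc_15_1 lc_g_rc_15_1 lc_g_rc_42_0 lc_g_rc_42_1 lc_g_rc_41_2 lc_g_rc_43_2 lc_g_rc_39_3 lc_g_rc_41_2 lc_g_rc_28_1 lc_g_rc_43_2 lc_g_rc_43_2 lc_g_Cert_tree lc_g_rc_15_1) (@D3.rec (fun _ => (Cert rels S Gen.g)) lc_g_Cert_tree lc_g_rc_42_0 lc_g_rc_42_1 lc_g_rc_7_1 lc_g_rc_7_1 lc_g_rc_42_0 lc_g_rc_42_1 lc_g_rc_41_2 lc_g_rc_43_2 lc_g_Cert_tree lc_g_rc_42_0 lc_g_rc_42_1 lc_g_rc_41_2 lc_g_rc_28_1 lc_g_rc_43_2 lc_g_rc_33_1 lc_g_rc_28_1 lc_g_rc_15_1 lc_g_rc_41_2 lc_g_rc_28_1 lc_g_rc_43_2 lc_g_rc_43_2 lc_g_rc_28_1 lc_g_rc_28_1 lc_g_rc_43_2 lc_g_rc_22_1 lc_g_rc_43_2 lc_g_Cert_tree lc_g_rc_42_0 lc_g_rc_42_1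 lc_g_rc_15_1 lc_g_rc_15_1) (@D3.rec (fun _ => (Cert rels S Gen.g)) lc_g_Cert_tree lc_g_rc_42_0 lc_g_rc_42_1 lc_g_rc_41_2 lc_g_rc_28_1 lc_g_rc_39_1 lc_g_rc_28_1 lc_g_rc_28_3 lc_g_rc_41_2 lc_g_rc_28_1 lc_g_rc_42_0 lc_g_rc_42_1 lc_g_rc_39_3 lc_g_rc_41_2 lc_g_rc_28_1 lc_g_rc_28_1 lc_g_rc_33_1 lc_g_rc_39_1 lc_g_rc_28_1 lc_g_rc_22_1 lc_g_rc_22_1 lc_g_rc_15_1 lc_g_rc_7_1 lc_g_Cert_tree lc_g_rc_7_1 lc_g_rc_42_0 lc_g_rc_33_3 lc_g_rc_22_1 lc_g_Cert_tree lc_g_rc_42_0 lc_g_rc_42_1 lc_g_rc_15_1) (@D3.rec (fun _ => (Cert rels S Gen.g)) lc_g_rc_42_0 lc_g_rc_42_1 lc_g_rc_41_2 lc_g_rc_43_2 lc_g_rc_7_1 lc_g_Cert_tree lc_g_rc_7_1 lc_g_Cert_tree lc_g_rc_42_0 lc_g_rc_42_1 lc_g_rc_7_1 lc_g_Cert_tree lc_g_rc_42_0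 lc_g_rc_42_1 lc_g_rc_15_1 lc_g_rc_15_1 lc_g_rc_42_0 lc_g_rc_42_1 lc_g_rc_41_2 lc_g_rc_43_2 lc_g_rc_41_2 lc_g_rc_28_1 lc_g_rc_43_2 lc_g_rc_43_2 lc_g_Cert_tree lc_g_rc_7_1 lc_g_Cert_tree lc_g_rc_42_0 lc_g_rc_42_1 lc_g_rc_7_1 lc_g_rc_7_1 lc_g_rc_42_0) (@D3.rec (fun _ => (Cert rels S Gen.g)) lc_g_rc_42_1 lc_g_rc_41_2 lc_g_rc_43_2 lc_g_Cert_tree lc_g_rc_42_0 lc_g_rc_42_1 lc_g_rc_41_2 lc_g_rc_28_1 lc_g_rc_43_2 lc_g_rc_15_1 lc_g_rc_15_1 lc_g_rc_15_1 lc_g_rc_41_2 lc_g_rc_28_1 lc_g_rc_43_2 lc_g_rc_43_2 lc_g_rc_39_3 lc_g_rc_28_1 lc_g_rc_43_2 lc_g_rc_15_3 lc_g_rc_43_2 lc_g_Cert_tree lc_g_rc_15_1 lc_g_Cert_tree lc_g_rc_42_0 lc_g_rc_42_1 lc_g_rc_7_1 lc_g_rc_7_1 lc_g_rc_42_0 lc_g_rc_42_1 lc_g_rc_41_2 lc_g_rc_43_2)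 (@D3.rec (fun _ => (Cert rels S Gen.g)) lc_g_Cert_tree lc_g_rc_42_0 lc_g_rc_42_1 lc_g_rc_41_2 lc_g_rc_28_1 lc_g_rc_43_2 lc_g_rc_33_1 lc_g_rc_28_1 lc_g_rc_41_2 lc_g_rc_33_3 lc_g_rc_43_2 lc_g_rc_43_2 lc_g_rc_43_2 lc_g_rc_43_2 lc_g_Cert_tree lc_g_rc_42_0 lc_g_rc_42_1 lc_g_rc_15_1 lc_g_rc_15_1 lc_g_Cert_tree lc_g_rc_42_0 lc_g_rc_42_1 lc_g_rc_41_2 lc_g_rc_28_1 lc_g_rc_43_2 lc_g_rc_7_1 lc_g_rc_7_1 lc_g_rc_7_1 lc_g_rc_41_2 lc_g_rc_39_1 lc_g_rc_43_2 lc_g_rc_43_2) (@D3.rec (fun _ => (Cert rels S Gen.g)) lc_g_rc_42_0 lc_g_rc_42_1 lc_g_rc_22_1 lc_g_rc_41_2 lc_g_rc_28_1 lc_g_rc_43_2 lc_g_rc_28_1 lc_g_rc_43_2 lc_g_rc_33_1 lc_g_rc_43_2 lc_g_Cert_tree lc_g_rc_33_1 lc_g_rc_41_2 lc_g_rc_43_2 lc_g_rc_15_3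 lc_g_rc_43_2 lc_g_rc_22_3 lc_g_rc_15_3 lc_g_Cert_tree lc_g_rc_42_0 lc_g_rc_39_3 lc_g_rc_15_1 lc_g_rc_15_1 lc_g_Cert_tree lc_g_rc_42_0 lc_g_rc_39_3 lc_g_rc_39_3 lc_g_rc_28_1 lc_g_rc_42_0 lc_g_rc_42_1 lc_g_rc_39_3 lc_g_rc_47_19) (@D3.rec (fun _ => (Cert rels S Gen.g)) lc_g_Cert_tree lc_g_rc_42_0 lc_g_rc_33_1 lc_g_rc_42_0 lc_g_rc_42_1 lc_g_rc_33_1 lc_g_rc_7_1 lc_g_rc_41_2 lc_g_rc_39_1 lc_g_rc_43_2 lc_g_rc_41_0 lc_g_rc_41_0 lc_g_rc_41_0 lc_g_rc_22_1 lc_g_rc_41_2 lc_g_rc_28_1 lc_g_rc_43_2 lc_g_rc_22_1 lc_g_rc_15_1 lc_g_rc_15_1 lc_g_rc_22_3 lc_g_rc_22_1 lc_g_rc_28_1 lc_g_rc_43_2 lc_g_rc_33_1 lc_g_rc_43_2 lc_g_Cert_tree lc_g_rc_7_1 lc_g_rc_7_1 lc_g_rc_7_1 lc_g_rc_41_0 lc_g_rc_33_3) (@D3.rec (fun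 _ => (Cert rels S Gen.g)) lc_g_rc_22_3 lc_g_rc_22_3 lc_g_rc_33_1 lc_g_rc_43_2 lc_g_Cert_tree lc_g_rc_43_2 lc_g_rc_41_2 lc_g_rc_42_0 lc_g_rc_43_2 lc_g_rc_41_2 lc_g_rc_33_3 lc_g_rc_43_2 lc_g_rc_33_3 lc_g_rc_43_2 lc_g_rc_7_3 lc_g_rc_41_0 lc_g_rc_7_1 lc_g_rc_15_1 lc_g_rc_41_2 lc_g_rc_7_1 lc_g_rc_22_1 lc_g_Cert_tree lc_g_rc_7_1 lc_g_rc_33_3 lc_g_rc_42_0 lc_g_rc_22_1 lc_g_rc_7_1 lc_g_rc_7_1 lc_g_rc_28_1 lc_g_rc_22_1 lc_g_rc_15_1 lc_g_rc_15_1) (@D3.rec (fun _ => (Cert rels S Gen.g)) lc_g_Cert_tree lc_g_rc_42_0 lc_g_rc_42_1 lc_g_rc_7_1 lc_g_rc_7_1 lc_g_Cert_tree lc_g_rc_42_0 lc_g_rc_41_2 lc_g_rc_41_2 lc_g_rc_28_1 lc_g_rc_41_2 lc_g_rc_7_1 lc_g_rc_7_1 lc_g_rc_42_0 lc_g_rc_42_1 lc_g_rc_33_3 lc_g_rc_28_1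 lc_g_rc_33_1 lc_g_rc_43_2 lc_g_Cert_tree lc_g_rc_15_1 lc_g_rc_15_1 lc_g_rc_22_3 lc_g_rc_42_0 lc_g_rc_33_1 lc_g_rc_15_1 lc_g_rc_15_1 lc_g_rc_22_3 lc_g_rc_33_3 lc_g_rc_7_1 lc_g_rc_7_1 lc_g_rc_15_1) (@D3.rec (fun _ => (Cert rels S Gen.g)) lc_g_rc_15_1 lc_g_Cert_tree lc_g_rc_33_1 lc_g_rc_41_2 lc_g_Cert_tree lc_g_rc_42_0 lc_g_rc_41_2 lc_g_rc_41_2 lc_g_rc_28_1 lc_g_rc_41_2 lc_g_rc_22_1 lc_g_rc_15_1 lc_g_rc_15_1 lc_g_rc_42_0 lc_g_rc_42_1 lc_g_rc_43_2 lc_g_rc_28_1 lc_g_rc_33_1 lc_g_rc_33_3 lc_g_Cert_tree lc_g_rc_7_1 lc_g_rc_7_1 lc_g_rc_41_2 lc_g_rc_43_0 lc_g_rc_43_2 lc_g_rc_39_5 lc_g_rc_33_1 lc_g_Cert_tree lc_g_rc_28_1 lc_g_rc_41_2 lc_g_rc_42_0 lc_g_rc_43_2) (@D3.rec (fun _ => (Cert rels S Gen.g))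 lc_g_rc_41_2 lc_g_Cert_tree lc_g_rc_42_0 lc_g_rc_15_1 lc_g_rc_41_2 lc_g_rc_28_1 lc_g_rc_22_1 lc_g_rc_15_1 lc_g_rc_42_0 lc_g_rc_42_1 lc_g_rc_7_1 lc_g_rc_28_1 lc_g_rc_33_1 lc_g_rc_39_3 lc_g_rc_41_2 lc_g_rc_41_2 lc_g_rc_43_2 lc_g_rc_28_3 lc_g_rc_33_1 lc_g_rc_7_3 lc_g_Cert_tree lc_g_rc_42_0 lc_g_rc_42_1 lc_g_rc_15_1 lc_g_rc_28_1 lc_g_rc_41_2 lc_g_rc_43_2 lc_g_rc_33_1 lc_g_rc_39_3 lc_g_rc_43_2 lc_g_rc_28_1 lc_g_rc_43_2) (@D3.rec (fun _ => (Cert rels S Gen.g)) lc_g_rc_22_1 lc_g_rc_33_1 lc_g_rc_43_2 lc_g_rc_22_1 lc_g_rc_22_1 lc_g_Cert_tree lc_g_rc_15_1 lc_g_rc_15_1 lc_g_rc_33_1 lc_g_rc_43_2 lc_g_Cert_tree lc_g_rc_43_2 lc_g_rc_41_2 lc_g_rc_42_0 lc_g_rc_43_2 lc_g_rc_7_1 lc_g_Cert_tree lc_g_rc_43_2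 lc_g_rc_41_2 lc_g_rc_42_0 lc_g_rc_43_2 lc_g_rc_41_2 lc_g_rc_43_2 lc_g_rc_41_2 lc_g_rc_28_1 lc_g_rc_28_1 lc_g_Cert_tree lc_g_rc_22_1 lc_g_rc_22_1 lc_g_rc_42_0 lc_g_rc_43_2 lc_g_rc_15_1) (@D3.rec (fun _ => (Cert rels S Gen.g)) lc_g_rc_43_2 lc_g_rc_41_2 lc_g_rc_28_1 lc_g_rc_41_2 lc_g_rc_28_1 lc_g_rc_22_1 lc_g_rc_28_1 lc_g_rc_28_1 lc_g_rc_22_1 lc_g_rc_22_1 lc_g_Cert_tree lc_g_rc_42_0 lc_g_rc_15_1 lc_g_rc_41_2 lc_g_rc_28_1 lc_g_rc_22_1 lc_g_rc_22_1 lc_g_rc_28_1 lc_g_rc_33_1 lc_g_rc_42_0 lc_g_rc_15_1 lc_g_rc_33_1 lc_g_rc_22_3 lc_g_rc_7_1 lc_g_rc_41_0 lc_g_rc_33_3 lc_g_rc_7_1 lc_g_rc_7_1 lc_g_rc_22_3 lc_g_rc_43_2 lc_g_rc_41_0 lc_g_rc_47_33) (@D3.rec (fun _ => (Cert rels S Gen.g)) lc_g_rc_33_3 lc_g_rc_43_2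 lc_g_rc_15_1 lc_g_rc_15_1 lc_g_rc_22_3 lc_g_rc_43_2 lc_g_rc_15_3 lc_g_rc_7_3 lc_g_rc_7_3 lc_g_rc_15_1 lc_g_rc_15_1 lc_g_rc_7_1 lc_g_rc_7_1 lc_g_rc_7_1 lc_g_rc_7_1 lc_g_rc_7_1 lc_g_rc_7_1 lc_g_rc_42_1 lc_g_rc_28_3 lc_g_rc_22_1 lc_g_rc_43_2 lc_g_rc_28_3 lc_g_rc_43_2 lc_g_Cert_tree lc_g_rc_33_1 lc_g_rc_41_2 lc_g_rc_15_1 lc_g_rc_39_5 lc_g_rc_43_2 lc_g_rc_28_1 lc_g_rc_43_2 lc_g_rc_22_1) (@D3.rec (fun _ => (Cert rels S Gen.g)) lc_g_rc_15_1 lc_g_rc_15_1 lc_g_rc_22_3 lc_g_rc_22_3 lc_g_Cert_tree lc_g_rc_7_1 lc_g_rc_7_1 lc_g_Cert_tree lc_g_rc_22_3 lc_g_rc_41_2 lc_g_rc_42_0 lc_g_rc_43_2 lc_g_rc_41_2 lc_g_rc_15_1 lc_g_Cert_tree lc_g_rc_7_1 lc_g_Cert_tree lc_g_rc_42_0 lc_g_rc_42_1 lc_g_rc_7_1 lc_g_rc_28_1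 lc_g_rc_42_0 lc_g_rc_42_1 lc_g_rc_22_1 lc_g_rc_22_1 lc_g_rc_42_0 lc_g_rc_42_1 lc_g_rc_41_2 lc_g_rc_43_2 lc_g_rc_39_3 lc_g_rc_41_2 lc_g_rc_28_1) (@D3.rec (fun _ => (Cert rels S Gen.g)) lc_g_rc_43_2 lc_g_rc_43_2 lc_g_Cert_tree lc_g_rc_7_1 lc_g_Cert_tree lc_g_rc_42_0 lc_g_rc_42_1 lc_g_rc_7_1 lc_g_rc_7_1 lc_g_rc_42_0 lc_g_rc_42_1 lc_g_rc_41_2 lc_g_rc_43_2 lc_g_Cert_tree lc_g_rc_42_0 lc_g_rc_42_1 lc_g_rc_41_2 lc_g_rc_28_1 lc_g_rc_43_2 lc_g_rc_15_1 lc_g_rc_15_1 lc_g_rc_15_1 lc_g_rc_41_2 lc_g_rc_28_1 lc_g_rc_43_2 lc_g_rc_43_2 lc_g_rc_39_3 lc_g_rc_28_1 lc_g_rc_43_2 lc_g_rc_22_1 lc_g_rc_43_2 lc_g_Cert_tree) (@D3.rec (fun _ => (Cert rels S Gen.g)) lc_g_rc_42_0 lc_g_rc_42_1 lc_g_rc_15_1 lc_g_rc_15_1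 lc_g_Cert_tree lc_g_rc_42_0 lc_g_rc_42_1 lc_g_rc_41_2 lc_g_rc_28_1 lc_g_rc_43_2 lc_g_rc_7_1 lc_g_rc_7_1 lc_g_rc_7_1 lc_g_rc_41_2 lc_g_rc_28_1 lc_g_rc_43_2 lc_g_rc_43_2 lc_g_rc_42_0 lc_g_rc_42_1 lc_g_rc_22_1 lc_g_rc_41_2 lc_g_rc_28_1 lc_g_rc_43_2 lc_g_rc_28_1 lc_g_rc_43_2 lc_g_rc_33_1 lc_g_rc_43_2 lc_g_Cert_tree lc_g_rc_33_1 lc_g_rc_41_2 lc_g_rc_28_1 lc_g_rc_28_1)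
def ce_g_4 : D2 → D3 → (Cert rels S Gen.g) := @D2.rec (fun _ => D3 → (Cert rels S Gen.g)) (@D3.rec (fun _ => (Cert rels S Gen.g)) lc_g_rc_43_2 lc_g_rc_22_1 lc_g_rc_43_2 lc_g_rc_43_2 lc_g_rc_22_1 lc_g_rc_43_2 lc_g_rc_15_1 lc_g_rc_22_1 lc_g_Cert_tree lc_g_rc_42_0 lc_g_rc_42_1 lc_g_rc_41_2 lc_g_rc_28_1 lc_g_rc_39_1 lc_g_rc_22_1 lc_g_rc_28_1 lc_g_rc_42_0 lc_g_rc_42_1 lc_g_rc_22_1 lc_g_rc_41_2 lc_g_rc_28_1 lc_g_rc_28_1 lc_g_rc_33_1 lc_g_rc_39_1 lc_g_rc_28_1 lc_g_rc_22_1 lc_g_rc_39_3 lc_g_rc_41_2 lc_g_rc_28_1 lc_g_rc_43_2 lc_g_rc_28_1 lc_g_rc_22_1) (@D3.rec (fun _ => (Cert rels S Gen.g)) lc_g_rc_33_1 lc_g_rc_33_1 lc_g_rc_15_1 lc_g_rc_22_1 lc_g_rc_15_1 lc_g_rc_15_1 lc_g_rc_7_1 lc_g_rc_15_1 lc_g_rc_7_1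 lc_g_rc_7_1 lc_g_Cert_tree lc_g_rc_42_0 lc_g_rc_42_1 lc_g_rc_7_1 lc_g_rc_28_1 lc_g_rc_41_2 lc_g_rc_22_1 lc_g_rc_22_1 lc_g_rc_42_0 lc_g_rc_42_1 lc_g_rc_41_2 lc_g_rc_43_2 lc_g_rc_39_3 lc_g_rc_41_2 lc_g_rc_28_1 lc_g_rc_43_2 lc_g_rc_43_2 lc_g_Cert_tree lc_g_rc_7_1 lc_g_Cert_tree lc_g_rc_42_0 lc_g_rc_42_1) (@D3.rec (fun _ => (Cert rels S Gen.g)) lc_g_rc_7_1 lc_g_rc_7_1 lc_g_rc_42_0 lc_g_rc_42_1 lc_g_rc_41_2 lc_g_rc_43_2 lc_g_rc_22_1 lc_g_rc_42_0 lc_g_rc_42_1 lc_g_rc_41_2 lc_g_rc_15_3 lc_g_rc_43_2 lc_g_rc_15_1 lc_g_rc_15_1 lc_g_rc_41_2 lc_g_rc_28_1 lc_g_rc_43_2 lc_g_rc_43_2 lc_g_rc_28_1 lc_g_rc_43_2 lc_g_rc_15_3 lc_g_rc_43_2 lc_g_Cert_tree lc_g_rc_42_0 lc_g_rc_42_1 lc_g_rc_7_1 lc_g_rc_7_1 lc_g_Cert_tree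 lc_g_rc_42_0 lc_g_rc_42_1 lc_g_rc_41_2 lc_g_rc_28_1) (@D3.rec (fun _ => (Cert rels S Gen.g)) lc_g_rc_43_2 lc_g_rc_7_1 lc_g_rc_7_1 lc_g_rc_7_1 lc_g_rc_41_2 lc_g_rc_28_1 lc_g_rc_43_2 lc_g_rc_43_2 lc_g_rc_42_0 lc_g_rc_42_1 lc_g_rc_22_1 lc_g_rc_41_2 lc_g_rc_28_1 lc_g_rc_43_2 lc_g_rc_28_1 lc_g_rc_43_2 lc_g_rc_33_1 lc_g_rc_43_2 lc_g_Cert_tree lc_g_rc_15_1 lc_g_rc_15_1 lc_g_rc_15_1 lc_g_rc_28_1 lc_g_rc_43_2 lc_g_rc_22_1 lc_g_rc_43_2 lc_g_rc_43_2 lc_g_rc_43_2 lc_g_rc_22_3 lc_g_rc_15_3 lc_g_rc_41_2 lc_g_Cert_tree) (@D3.rec (fun _ => (Cert rels S Gen.g)) lc_g_rc_42_0 lc_g_rc_42_1 lc_g_rc_15_1 lc_g_rc_15_1 lc_g_Cert_tree lc_g_rc_42_0 lc_g_rc_42_1 lc_g_rc_41_2 lc_g_rc_28_1 lc_g_rc_43_2 lc_g_rc_7_1 lc_g_rc_7_1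 lc_g_rc_41_2 lc_g_rc_28_1 lc_g_rc_43_2 lc_g_rc_43_2 lc_g_rc_42_0 lc_g_rc_22_3 lc_g_rc_41_2 lc_g_rc_28_1 lc_g_rc_43_2 lc_g_rc_28_1 lc_g_rc_43_2 lc_g_rc_28_3 lc_g_rc_43_2 lc_g_Cert_tree lc_g_rc_33_1 lc_g_rc_41_2 lc_g_rc_43_2 lc_g_rc_39_3 lc_g_rc_43_2 lc_g_Cert_tree) (@D3.rec (fun _ => (Cert rels S Gen.g)) lc_g_rc_42_0 lc_g_rc_42_1 lc_g_rc_41_2 lc_g_rc_28_1 lc_g_rc_43_2 lc_g_rc_22_1 lc_g_rc_15_1 lc_g_rc_15_1 lc_g_rc_42_0 lc_g_rc_42_1 lc_g_rc_7_1 lc_g_rc_41_2 lc_g_rc_28_1 lc_g_rc_43_2 lc_g_rc_28_1 lc_g_rc_43_2 lc_g_rc_33_1 lc_g_rc_43_2 lc_g_Cert_tree lc_g_rc_7_1 lc_g_rc_7_1 lc_g_rc_43_2 lc_g_rc_7_1 lc_g_rc_41_0 lc_g_rc_28_1 lc_g_rc_41_2 lc_g_rc_28_1 lc_g_rc_43_2 lc_g_rc_28_1 lc_g_rc_43_2 lc_g_rc_22_1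 lc_g_rc_33_1) (@D3.rec (fun _ => (Cert rels S Gen.g)) lc_g_rc_43_2 lc_g_rc_33_1 lc_g_rc_43_2 lc_g_Cert_tree lc_g_rc_43_2 lc_g_rc_41_2 lc_g_rc_42_0 lc_g_rc_43_2 lc_g_rc_41_2 lc_g_rc_28_3 lc_g_rc_43_2 lc_g_rc_28_3 lc_g_rc_43_2 lc_g_Cert_tree lc_g_rc_42_0 lc_g_rc_39_3 lc_g_rc_39_3 lc_g_rc_22_1 lc_g_rc_28_1 lc_g_rc_42_0 lc_g_rc_42_1 lc_g_rc_28_1 lc_g_rc_22_3 lc_g_rc_41_2 lc_g_rc_28_1 lc_g_rc_43_2 lc_g_rc_41_0 lc_g_Cert_tree lc_g_rc_42_0 lc_g_rc_42_1 lc_g_rc_15_1 lc_g_rc_41_2) (@D3.rec (fun _ => (Cert rels S Gen.g)) lc_g_rc_39_1 lc_g_rc_43_2 lc_g_rc_7_1 lc_g_rc_7_3 lc_g_rc_43_2 lc_g_rc_28_3 lc_g_rc_43_2 lc_g_rc_41_0 lc_g_rc_42_0 lc_g_rc_28_1 lc_g_rc_43_2 lc_g_rc_28_1 lc_g_rc_43_2 lc_g_rc_22_1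 lc_g_rc_33_1 lc_g_rc_43_2 lc_g_rc_22_1 lc_g_rc_22_1 lc_g_Cert_tree lc_g_rc_15_1 lc_g_rc_15_1 lc_g_rc_7_1 lc_g_rc_22_3 lc_g_rc_22_3 lc_g_rc_33_1 lc_g_rc_43_2 lc_g_Cert_tree lc_g_rc_43_2 lc_g_rc_41_2 lc_g_rc_42_0 lc_g_rc_43_2 lc_g_rc_7_1) (@D3.rec (fun _ => (Cert rels S Gen.g)) lc_g_rc_7_3 lc_g_rc_7_1 lc_g_rc_33_3 lc_g_rc_28_3 lc_g_rc_43_2 lc_g_Cert_tree lc_g_rc_22_3 lc_g_rc_41_2 lc_g_Cert_tree lc_g_rc_43_2 lc_g_rc_41_2 lc_g_rc_42_0 lc_g_rc_43_2 lc_g_rc_41_2 lc_g_rc_43_2 lc_g_rc_41_2 lc_g_rc_28_1 lc_g_rc_39_1 lc_g_rc_43_2 lc_g_rc_43_2 lc_g_rc_22_1 lc_g_rc_15_1 lc_g_rc_15_1 lc_g_rc_15_1 lc_g_rc_7_1 lc_g_rc_22_1 lc_g_rc_33_3 lc_g_rc_42_0 lc_g_rc_15_1 lc_g_rc_7_1 lc_g_rc_7_1 lc_g_rc_33_3) (@D3.rec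 (fun _ => (Cert rels S Gen.g)) lc_g_rc_22_1 lc_g_rc_7_1 lc_g_rc_7_1 lc_g_rc_15_3 lc_g_rc_15_1 lc_g_rc_15_1 lc_g_Cert_tree lc_g_rc_42_0 lc_g_rc_41_2 lc_g_rc_41_2 lc_g_rc_28_1 lc_g_rc_41_2 lc_g_rc_7_1 lc_g_rc_7_1 lc_g_rc_7_1 lc_g_rc_42_0 lc_g_rc_42_1 lc_g_rc_33_3 lc_g_rc_28_1 lc_g_rc_33_1 lc_g_rc_43_2 lc_g_Cert_tree lc_g_rc_7_1 lc_g_rc_7_1 lc_g_rc_41_2 lc_g_rc_41_2 lc_g_rc_41_2 lc_g_rc_28_3 lc_g_rc_33_1 lc_g_Cert_tree lc_g_rc_39_5 lc_g_rc_43_0) (@D3.rec (fun _ => (Cert rels S Gen.g)) lc_g_rc_42_0 lc_g_rc_43_2 lc_g_rc_15_1 lc_g_rc_22_3 lc_g_rc_33_3 lc_g_rc_22_1 lc_g_rc_15_1 lc_g_rc_15_1 lc_g_rc_15_3 lc_g_rc_28_1 lc_g_Cert_tree lc_g_rc_7_1 lc_g_rc_7_1 lc_g_rc_28_1 lc_g_rc_15_1 lc_g_rc_42_0 lc_g_rc_43_2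 lc_g_rc_41_2 lc_g_Cert_tree lc_g_rc_42_0 lc_g_rc_42_1 lc_g_rc_43_2 lc_g_rc_28_1 lc_g_rc_22_1 lc_g_rc_33_1 lc_g_rc_39_3 lc_g_rc_22_1 lc_g_rc_22_1 lc_g_Cert_tree lc_g_rc_15_1 lc_g_rc_15_1 lc_g_rc_41_2) (@D3.rec (fun _ => (Cert rels S Gen.g)) lc_g_rc_43_0 lc_g_rc_43_2 lc_g_rc_43_2 lc_g_rc_33_1 lc_g_Cert_tree lc_g_rc_28_1 lc_g_rc_41_2 lc_g_rc_42_0 lc_g_rc_43_2 lc_g_rc_7_1 lc_g_rc_43_2 lc_g_rc_39_5 lc_g_rc_41_2 lc_g_Cert_tree lc_g_Cert_tree lc_g_rc_42_0 lc_g_rc_43_2 lc_g_rc_39_5 lc_g_rc_43_2 lc_g_rc_41_2 lc_g_rc_28_1 lc_g_Cert_tree lc_g_rc_42_0 lc_g_rc_42_1 lc_g_rc_15_1 lc_g_rc_28_1 lc_g_rc_22_1 lc_g_rc_33_1 lc_g_rc_22_1 lc_g_rc_39_3 lc_g_rc_41_2 lc_g_rc_7_1) (@D3.rec (fun _ => (Cert rels S Gen.g))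 lc_g_rc_43_2 lc_g_rc_7_1 lc_g_rc_33_1 lc_g_rc_39_1 lc_g_rc_43_2 lc_g_rc_41_2 lc_g_rc_43_2 lc_g_rc_28_1 lc_g_rc_42_0 lc_g_rc_42_1 lc_g_rc_15_1 lc_g_rc_41_2 lc_g_rc_43_2 lc_g_rc_33_1 lc_g_rc_39_3 lc_g_rc_43_2 lc_g_rc_41_2 lc_g_rc_43_2 lc_g_rc_22_1 lc_g_rc_33_1 lc_g_rc_43_2 lc_g_rc_22_1 lc_g_rc_22_1 lc_g_Cert_tree lc_g_rc_43_2 lc_g_rc_41_2 lc_g_rc_28_1 lc_g_Cert_tree lc_g_rc_22_1 lc_g_rc_22_1 lc_g_rc_42_0 lc_g_rc_43_2) (@D3.rec (fun _ => (Cert rels S Gen.g)) lc_g_rc_15_1 lc_g_Cert_tree lc_g_rc_43_2 lc_g_rc_41_2 lc_g_rc_42_0 lc_g_rc_43_2 lc_g_rc_41_2 lc_g_rc_43_2 lc_g_rc_41_2 lc_g_rc_28_1 lc_g_rc_42_0 lc_g_rc_43_2 lc_g_rc_41_2 lc_g_rc_43_2 lc_g_rc_41_2 lc_g_rc_28_1 lc_g_rc_41_2 lc_g_rc_28_1 lc_g_rc_22_1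 lc_g_Cert_tree lc_g_rc_41_2 lc_g_rc_28_1 lc_g_rc_42_0 lc_g_rc_43_2 lc_g_rc_22_1 lc_g_rc_28_1 lc_g_rc_43_2 lc_g_rc_41_2 lc_g_rc_28_1 lc_g_rc_41_2 lc_g_rc_28_1 lc_g_rc_22_1) (@D3.rec (fun _ => (Cert rels S Gen.g)) lc_g_rc_43_2 lc_g_rc_43_2 lc_g_rc_42_0 lc_g_rc_15_1 lc_g_rc_22_1 lc_g_rc_28_1 lc_g_rc_33_1 lc_g_rc_22_1 lc_g_rc_15_1 lc_g_rc_22_3 lc_g_rc_22_3 lc_g_rc_7_1 lc_g_rc_7_1 lc_g_rc_41_0 lc_g_rc_42_1 lc_g_rc_39_3 lc_g_rc_43_2 lc_g_rc_7_1 lc_g_rc_7_1 lc_g_rc_22_3 lc_g_rc_43_2 lc_g_rc_28_3 lc_g_rc_22_3 lc_g_rc_43_2 lc_g_rc_28_3 lc_g_rc_43_2 lc_g_Cert_tree lc_g_rc_15_1 lc_g_rc_15_1 lc_g_rc_15_1 lc_g_rc_43_2 lc_g_rc_22_1) (@D3.rec (fun _ => (Cert rels S Gen.g)) lc_g_rc_7_3 lc_g_rc_7_3 lc_g_rc_7_3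 lc_g_rc_7_3 lc_g_rc_22_1 lc_g_rc_15_1 lc_g_rc_15_1 lc_g_rc_7_1 lc_g_rc_7_1 lc_g_rc_7_1 lc_g_rc_7_1 lc_g_rc_7_1 lc_g_Cert_tree lc_g_rc_7_1 lc_g_rc_7_1 lc_g_rc_22_1 lc_g_rc_43_2 lc_g_rc_22_1 lc_g_rc_43_2 lc_g_Cert_tree lc_g_rc_43_2 lc_g_rc_28_3 lc_g_rc_42_0 lc_g_rc_43_2 lc_g_rc_41_2 lc_g_rc_22_1 lc_g_rc_15_1 lc_g_rc_41_2 lc_g_rc_28_3 lc_g_rc_28_1 lc_g_rc_43_2 lc_g_rc_22_1) (@D3.rec (fun _ => (Cert rels S Gen.g)) lc_g_rc_22_1 lc_g_Cert_tree lc_g_rc_15_1 lc_g_rc_15_1 lc_g_Cert_tree lc_g_rc_22_3 lc_g_rc_41_2 lc_g_rc_42_0 lc_g_rc_43_2 lc_g_rc_7_1 lc_g_rc_42_0 lc_g_rc_43_2 lc_g_rc_39_5 lc_g_rc_43_2 lc_g_rc_41_2 lc_g_rc_28_1 lc_g_rc_15_3 lc_g_rc_15_1 lc_g_rc_28_1 lc_g_rc_42_0 lc_g_rc_42_1 lc_g_rc_7_1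 lc_g_rc_7_1 lc_g_rc_42_0 lc_g_rc_42_1 lc_g_rc_41_2 lc_g_rc_43_2 lc_g_rc_28_1 lc_g_rc_41_2 lc_g_rc_28_1 lc_g_rc_43_2 lc_g_rc_22_1) (@D3.rec (fun _ => (Cert rels S Gen.g)) lc_g_rc_22_1 lc_g_rc_41_2 lc_g_rc_28_1 lc_g_rc_43_2 lc_g_rc_43_2 lc_g_rc_39_3 lc_g_rc_28_1 lc_g_rc_43_2 lc_g_rc_22_1 lc_g_rc_43_2 lc_g_Cert_tree lc_g_rc_42_0 lc_g_rc_42_1 lc_g_rc_7_1 lc_g_rc_7_1 lc_g_Cert_tree lc_g_rc_42_0 lc_g_rc_42_1 lc_g_rc_41_2 lc_g_rc_28_1 lc_g_rc_43_2 lc_g_rc_7_1 lc_g_rc_7_1 lc_g_rc_7_1 lc_g_rc_41_2 lc_g_rc_28_1 lc_g_rc_43_2 lc_g_rc_43_2 lc_g_rc_42_0 lc_g_rc_42_1 lc_g_rc_22_1 lc_g_rc_41_2) (@D3.rec (fun _ => (Cert rels S Gen.g)) lc_g_rc_28_1 lc_g_rc_43_2 lc_g_rc_28_1 lc_g_rc_43_2 lc_g_rc_33_1 lc_g_rc_43_2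 lc_g_Cert_tree lc_g_rc_15_1 lc_g_rc_15_1 lc_g_rc_15_1 lc_g_rc_28_1 lc_g_rc_43_2 lc_g_rc_22_1 lc_g_rc_43_2 lc_g_rc_15_3 lc_g_rc_43_2 lc_g_rc_22_1 lc_g_rc_43_2 lc_g_rc_15_1 lc_g_rc_22_1 lc_g_rc_41_2 lc_g_Cert_tree lc_g_rc_42_0 lc_g_rc_42_1 lc_g_rc_41_2 lc_g_rc_28_1 lc_g_rc_43_2 lc_g_rc_22_1 lc_g_rc_15_1 lc_g_rc_15_1 lc_g_rc_42_0 lc_g_rc_42_1) (@D3.rec (fun _ => (Cert rels S Gen.g)) lc_g_rc_7_1 lc_g_rc_41_2 lc_g_rc_28_1 lc_g_rc_43_2 lc_g_rc_28_1 lc_g_rc_43_2 lc_g_rc_33_1 lc_g_rc_43_2 lc_g_Cert_tree lc_g_rc_7_1 lc_g_rc_7_1 lc_g_rc_33_1 lc_g_rc_28_1 lc_g_rc_43_2 lc_g_rc_22_1 lc_g_rc_43_2 lc_g_rc_28_1 lc_g_rc_41_2 lc_g_rc_28_1 lc_g_rc_43_2 lc_g_rc_39_3 lc_g_rc_28_1 lc_g_rc_43_2 lc_g_rc_22_1 lc_g_rc_33_1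 lc_g_rc_43_2 lc_g_rc_33_1 lc_g_rc_43_2 lc_g_Cert_tree lc_g_rc_43_2 lc_g_rc_41_2 lc_g_rc_42_0) (@D3.rec (fun _ => (Cert rels S Gen.g)) lc_g_rc_43_2 lc_g_rc_41_2 lc_g_rc_43_2 lc_g_rc_22_1 lc_g_rc_43_2 lc_g_rc_15_1 lc_g_rc_22_1 lc_g_rc_15_1 lc_g_rc_22_1 lc_g_rc_7_1 lc_g_rc_15_1 lc_g_Cert_tree lc_g_rc_42_0 lc_g_rc_42_1 lc_g_rc_39_3 lc_g_rc_41_2 lc_g_rc_28_1 lc_g_rc_28_1 lc_g_rc_22_1 lc_g_rc_33_1 lc_g_rc_39_1 lc_g_rc_43_2 lc_g_rc_39_3 lc_g_rc_41_2 lc_g_rc_28_1 lc_g_rc_43_2 lc_g_rc_28_1 lc_g_rc_22_1 lc_g_rc_33_1 lc_g_rc_33_1 lc_g_rc_7_1 lc_g_rc_22_1) (@D3.rec (fun _ => (Cert rels S Gen.g)) lc_g_rc_15_1 lc_g_rc_41_0 lc_g_rc_39_3 lc_g_rc_28_1 lc_g_rc_43_2 lc_g_rc_22_1 lc_g_rc_33_1 lc_g_rc_43_2 lc_g_rc_22_1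 lc_g_rc_33_1 lc_g_rc_15_1 lc_g_rc_15_1 lc_g_rc_15_1 lc_g_rc_7_1 lc_g_rc_7_1 lc_g_rc_15_1 lc_g_rc_15_1 lc_g_rc_7_1 lc_g_rc_7_1 lc_g_rc_7_1 lc_g_rc_7_1 lc_g_rc_42_0 lc_g_rc_42_1 lc_g_rc_41_2 lc_g_rc_43_2 lc_g_rc_41_2 lc_g_rc_43_2 lc_g_rc_22_1 lc_g_rc_22_1 lc_g_rc_15_1 lc_g_rc_41_2 lc_g_rc_28_1)
def ce_g_5 : D2 → D3 → (Cert rels S Gen.g) := @D2.rec (fun _ => D3 → (Cert rels S Gen.g)) (@D3.rec (fun _ => (Cert rels S Gen.g)) lc_g_rc_43_2 lc_g_rc_43_2 lc_g_rc_39_3 lc_g_rc_28_1 lc_g_rc_43_2 lc_g_rc_15_3 lc_g_rc_43_2 lc_g_Cert_tree lc_g_rc_42_0 lc_g_rc_42_1 lc_g_rc_7_1 lc_g_rc_7_1 lc_g_rc_28_3 lc_g_rc_42_0 lc_g_rc_42_1 lc_g_rc_41_2 lc_g_rc_15_3 lc_g_rc_43_2 lc_g_rc_7_1 lc_g_rc_7_1 lc_g_rc_41_2 lc_g_rc_28_1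 lc_g_rc_43_2 lc_g_rc_43_2 lc_g_rc_28_3 lc_g_rc_41_2 lc_g_rc_28_1 lc_g_rc_43_2 lc_g_rc_43_2 lc_g_rc_22_1 lc_g_rc_28_1 lc_g_rc_15_3) (@D3.rec (fun _ => (Cert rels S Gen.g)) lc_g_rc_15_1 lc_g_rc_15_1 lc_g_rc_28_1 lc_g_rc_43_2 lc_g_rc_22_1 lc_g_rc_43_2 lc_g_rc_43_2 lc_g_rc_28_1 lc_g_rc_15_3 lc_g_rc_41_2 lc_g_Cert_tree lc_g_rc_42_0 lc_g_rc_42_1 lc_g_rc_41_2 lc_g_rc_28_1 lc_g_rc_43_2 lc_g_rc_7_1 lc_g_rc_7_1 lc_g_rc_7_1 lc_g_rc_42_0 lc_g_rc_42_1 lc_g_rc_7_1 lc_g_rc_41_2 lc_g_rc_28_1 lc_g_rc_43_2 lc_g_rc_28_1 lc_g_rc_43_2 lc_g_rc_33_1 lc_g_rc_43_2 lc_g_Cert_tree lc_g_rc_7_1 lc_g_rc_7_1) (@D3.rec (fun _ => (Cert rels S Gen.g)) lc_g_rc_7_1 lc_g_rc_28_1 lc_g_rc_43_2 lc_g_rc_22_1 lc_g_rc_43_2 lc_g_rc_28_1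 lc_g_rc_41_2 lc_g_rc_28_1 lc_g_rc_43_2 lc_g_rc_22_1 lc_g_rc_28_1 lc_g_rc_43_2 lc_g_rc_22_1 lc_g_rc_33_1 lc_g_rc_43_2 lc_g_rc_33_1 lc_g_rc_43_2 lc_g_Cert_tree lc_g_rc_43_2 lc_g_rc_41_2 lc_g_rc_42_0 lc_g_rc_43_2 lc_g_rc_15_1 lc_g_rc_15_1 lc_g_rc_22_1 lc_g_rc_43_2 lc_g_rc_15_1 lc_g_rc_22_1 lc_g_rc_41_2 lc_g_rc_41_2 lc_g_rc_22_3 lc_g_rc_43_2) (@D3.rec (fun _ => (Cert rels S Gen.g)) lc_g_rc_22_1 lc_g_Cert_tree lc_g_rc_42_0 lc_g_rc_42_1 lc_g_rc_41_2 lc_g_rc_28_1 lc_g_rc_43_2 lc_g_rc_22_1 lc_g_rc_15_1 lc_g_rc_15_1 lc_g_rc_42_0 lc_g_rc_22_3 lc_g_rc_41_2 lc_g_rc_28_1 lc_g_rc_43_2 lc_g_rc_28_1 lc_g_rc_43_2 lc_g_rc_28_3 lc_g_rc_43_2 lc_g_Cert_tree lc_g_rc_7_1 lc_g_rc_7_1 lc_g_rc_43_2 lc_g_rc_7_1 lc_g_rc_43_2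 lc_g_rc_22_3 lc_g_rc_28_3 lc_g_rc_28_1 lc_g_rc_43_2 lc_g_rc_39_3 lc_g_rc_22_3 lc_g_rc_43_2) (@D3.rec (fun _ => (Cert rels S Gen.g)) lc_g_rc_43_2 lc_g_rc_15_1 lc_g_rc_28_3 lc_g_rc_41_2 lc_g_rc_42_0 lc_g_rc_43_2 lc_g_rc_41_2 lc_g_rc_43_2 lc_g_Cert_tree lc_g_rc_42_0 lc_g_rc_42_1 lc_g_rc_15_1 lc_g_rc_41_2 lc_g_rc_28_1 lc_g_rc_43_2 lc_g_rc_28_1 lc_g_rc_43_2 lc_g_rc_22_1 lc_g_rc_33_1 lc_g_rc_43_2 lc_g_rc_22_1 lc_g_rc_22_1 lc_g_Cert_tree lc_g_rc_15_1 lc_g_rc_15_1 lc_g_rc_7_1 lc_g_rc_41_2 lc_g_rc_28_1 lc_g_rc_43_2 lc_g_rc_28_1 lc_g_rc_43_2 lc_g_rc_7_1) (@D3.rec (fun _ => (Cert rels S Gen.g)) lc_g_rc_33_1 lc_g_rc_43_2 lc_g_rc_33_1 lc_g_rc_43_2 lc_g_Cert_tree lc_g_rc_43_2 lc_g_rc_41_2 lc_g_rc_42_0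 lc_g_rc_43_2 lc_g_rc_7_1 lc_g_rc_7_3 lc_g_rc_7_1 lc_g_rc_33_1 lc_g_rc_39_3 lc_g_rc_28_1 lc_g_rc_43_2 lc_g_rc_22_1 lc_g_rc_33_1 lc_g_rc_43_2 lc_g_rc_33_1 lc_g_rc_43_2 lc_g_rc_22_3 lc_g_rc_22_1 lc_g_rc_43_2 lc_g_Cert_tree lc_g_rc_43_2 lc_g_rc_41_2 lc_g_Cert_tree lc_g_rc_43_2 lc_g_rc_41_2 lc_g_rc_42_0 lc_g_rc_43_2) (@D3.rec (fun _ => (Cert rels S Gen.g)) lc_g_rc_41_2 lc_g_rc_43_2 lc_g_rc_41_2 lc_g_rc_28_1 lc_g_rc_7_1 lc_g_rc_43_2 lc_g_rc_43_2 lc_g_Cert_tree lc_g_rc_42_0 lc_g_rc_42_1 lc_g_rc_15_1 lc_g_rc_22_1 lc_g_rc_15_1 lc_g_rc_43_2 lc_g_rc_41_2 lc_g_rc_39_3 lc_g_rc_43_2 lc_g_rc_39_3 lc_g_rc_43_2 lc_g_rc_39_3 lc_g_rc_43_2 lc_g_rc_42_0 lc_g_rc_42_1 lc_g_rc_41_2 lc_g_rc_15_1 lc_g_rc_43_2 lc_g_rc_22_1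 lc_g_rc_43_2 lc_g_rc_7_1 lc_g_rc_41_0 lc_g_rc_7_3 lc_g_rc_33_1) (@D3.rec (fun _ => (Cert rels S Gen.g)) lc_g_rc_28_3 lc_g_rc_43_2 lc_g_rc_41_0 lc_g_rc_28_1 lc_g_rc_28_3 lc_g_rc_43_2 lc_g_rc_22_1 lc_g_rc_33_1 lc_g_rc_43_2 lc_g_rc_22_1 lc_g_rc_22_1 lc_g_Cert_tree lc_g_rc_43_2 lc_g_rc_41_2 lc_g_rc_28_1 lc_g_Cert_tree lc_g_rc_22_1 lc_g_rc_22_1 lc_g_rc_42_0 lc_g_rc_43_2 lc_g_rc_15_1 lc_g_rc_7_3 lc_g_rc_7_1 lc_g_rc_7_1 lc_g_Cert_tree lc_g_rc_22_3 lc_g_rc_41_2 lc_g_Cert_tree lc_g_rc_43_2 lc_g_rc_41_2 lc_g_rc_42_0 lc_g_rc_43_2) (@D3.rec (fun _ => (Cert rels S Gen.g)) lc_g_rc_41_2 lc_g_rc_43_2 lc_g_rc_41_2 lc_g_rc_28_1 lc_g_rc_22_1 lc_g_rc_7_3 lc_g_rc_33_3 lc_g_rc_28_3 lc_g_rc_43_2 lc_g_Cert_tree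 lc_g_rc_43_2 lc_g_rc_28_1 lc_g_rc_42_0 lc_g_rc_43_2 lc_g_rc_39_5 lc_g_rc_42_0 lc_g_rc_43_2 lc_g_rc_41_2 lc_g_rc_43_2 lc_g_rc_41_2 lc_g_rc_28_1 lc_g_rc_41_2 lc_g_rc_43_2 lc_g_rc_22_1 lc_g_rc_43_2 lc_g_rc_15_1 lc_g_rc_7_1 lc_g_rc_33_3 lc_g_rc_22_3 lc_g_rc_7_1 lc_g_rc_7_1 lc_g_rc_7_1) (@D3.rec (fun _ => (Cert rels S Gen.g)) lc_g_rc_15_3 lc_g_rc_7_1 lc_g_rc_7_1 lc_g_rc_15_1 lc_g_Cert_tree lc_g_rc_42_0 lc_g_rc_42_1 lc_g_rc_33_3 lc_g_rc_28_1 lc_g_rc_22_1 lc_g_rc_33_1 lc_g_rc_43_2 lc_g_rc_7_1 lc_g_rc_7_1 lc_g_Cert_tree lc_g_rc_7_1 lc_g_rc_7_1 lc_g_rc_41_2 lc_g_rc_41_2 lc_g_rc_41_2 lc_g_rc_28_3 lc_g_rc_33_1 lc_g_Cert_tree lc_g_rc_43_2 lc_g_rc_43_0 lc_g_rc_42_0 lc_g_rc_43_2 lc_g_rc_7_1 lc_g_rc_39_5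 lc_g_Cert_tree lc_g_Cert_tree lc_g_rc_42_0) (@D3.rec (fun _ => (Cert rels S Gen.g)) lc_g_rc_43_2 lc_g_rc_39_5 lc_g_rc_43_2 lc_g_rc_41_2 lc_g_rc_28_1 lc_g_rc_15_3 lc_g_rc_7_1 lc_g_rc_33_3 lc_g_rc_28_1 lc_g_rc_22_1 lc_g_rc_22_1 lc_g_Cert_tree lc_g_rc_15_1 lc_g_rc_15_1 lc_g_rc_28_1 lc_g_rc_15_3 lc_g_rc_42_0 lc_g_rc_43_2 lc_g_rc_7_1 lc_g_rc_43_2 lc_g_rc_41_2 lc_g_rc_28_1 lc_g_rc_42_0 lc_g_rc_42_1 lc_g_rc_41_2 lc_g_rc_43_0 lc_g_rc_43_2 lc_g_rc_7_3 lc_g_rc_43_2 lc_g_rc_22_1 lc_g_rc_33_1 lc_g_rc_22_1) (@D3.rec (fun _ => (Cert rels S Gen.g)) lc_g_rc_47_19 lc_g_Cert_tree lc_g_rc_28_1 lc_g_rc_41_2 lc_g_rc_28_1 lc_g_Cert_tree lc_g_rc_22_1 lc_g_rc_22_1 lc_g_rc_42_0 lc_g_rc_43_2 lc_g_rc_15_1 lc_g_rc_43_2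 lc_g_rc_43_0 lc_g_rc_41_2 lc_g_Cert_tree lc_g_Cert_tree lc_g_rc_42_0 lc_g_rc_43_2 lc_g_rc_39_5 lc_g_rc_43_2 lc_g_rc_41_2 lc_g_rc_28_1 lc_g_Cert_tree lc_g_rc_39_5 lc_g_rc_42_0 lc_g_rc_42_0 lc_g_rc_43_2 lc_g_rc_41_2 lc_g_rc_33_1 lc_g_rc_41_2 lc_g_rc_28_1 lc_g_rc_22_1) (@D3.rec (fun _ => (Cert rels S Gen.g)) lc_g_rc_42_0 lc_g_rc_42_1 lc_g_rc_41_2 lc_g_rc_15_1 lc_g_rc_43_2 lc_g_rc_15_1 lc_g_rc_15_1 lc_g_rc_22_1 lc_g_rc_33_1 lc_g_rc_22_1 lc_g_rc_39_1 lc_g_rc_28_1 lc_g_rc_22_1 lc_g_rc_43_2 lc_g_rc_7_1 lc_g_rc_7_1 lc_g_rc_28_1 lc_g_rc_41_2 lc_g_rc_43_2 lc_g_rc_22_1 lc_g_rc_41_2 lc_g_rc_28_1 lc_g_rc_43_2 lc_g_rc_15_1 lc_g_rc_15_1 lc_g_rc_43_2 lc_g_rc_41_2 lc_g_rc_43_2 lc_g_rc_43_2 lc_g_rc_22_1 lc_g_rc_22_1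 lc_g_Cert_tree) (@D3.rec (fun _ => (Cert rels S Gen.g)) lc_g_rc_43_2 lc_g_rc_41_2 lc_g_rc_28_1 lc_g_Cert_tree lc_g_rc_22_1 lc_g_rc_41_2 lc_g_rc_42_0 lc_g_rc_43_2 lc_g_rc_41_2 lc_g_Cert_tree lc_g_rc_41_2 lc_g_rc_28_1 lc_g_rc_42_0 lc_g_rc_43_2 lc_g_rc_22_1 lc_g_rc_28_1 lc_g_rc_43_2 lc_g_rc_41_2 lc_g_rc_28_1 lc_g_rc_42_0 lc_g_rc_43_2 lc_g_rc_41_2 lc_g_rc_43_2 lc_g_rc_41_2 lc_g_rc_28_1 lc_g_rc_41_2 lc_g_rc_28_1 lc_g_rc_22_1 lc_g_rc_43_2 lc_g_rc_41_2 lc_g_rc_28_1 lc_g_rc_41_2) (@D3.rec (fun _ => (Cert rels S Gen.g)) lc_g_rc_22_1 lc_g_rc_22_1 lc_g_rc_33_3 lc_g_rc_42_0 lc_g_rc_33_1 lc_g_rc_43_2 lc_g_rc_43_2 lc_g_rc_39_5 lc_g_rc_43_2 lc_g_rc_41_2 lc_g_rc_28_1 lc_g_rc_33_1 lc_g_rc_41_2 lc_g_rc_15_1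 lc_g_rc_22_1 lc_g_rc_15_1 lc_g_rc_22_1 lc_g_rc_15_1 lc_g_rc_22_1 lc_g_rc_33_3 lc_g_rc_15_1 lc_g_rc_28_1 lc_g_rc_41_2 lc_g_rc_7_1 lc_g_rc_7_1 lc_g_rc_7_1 lc_g_rc_28_3 lc_g_rc_22_3 lc_g_rc_43_2 lc_g_rc_28_3 lc_g_rc_43_2 lc_g_Cert_tree) (@D3.rec (fun _ => (Cert rels S Gen.g)) lc_g_rc_7_1 lc_g_rc_7_1 lc_g_rc_15_3 lc_g_rc_43_2 lc_g_rc_22_3 lc_g_rc_43_2 lc_g_rc_15_1 lc_g_rc_22_3 lc_g_rc_43_2 lc_g_Cert_tree lc_g_rc_43_2 lc_g_rc_41_2 lc_g_rc_42_0 lc_g_rc_43_2 lc_g_rc_15_1 lc_g_rc_43_2 lc_g_rc_22_3 lc_g_rc_22_1 lc_g_rc_7_3 lc_g_rc_7_3 lc_g_rc_7_3 lc_g_rc_22_1 lc_g_rc_7_3 lc_g_rc_7_3 lc_g_rc_22_1 lc_g_rc_22_1 lc_g_Cert_tree lc_g_rc_15_1 lc_g_rc_15_1 lc_g_rc_7_1 lc_g_rc_7_1 lc_g_rc_7_1) (@D3.rec (fun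 _ => (Cert rels S Gen.g)) lc_g_rc_7_1 lc_g_Cert_tree lc_g_rc_7_1 lc_g_rc_28_3 lc_g_rc_42_0 lc_g_rc_43_2 lc_g_rc_7_1 lc_g_rc_22_1 lc_g_rc_43_2 lc_g_Cert_tree lc_g_rc_43_2 lc_g_rc_22_1 lc_g_rc_42_0 lc_g_rc_43_2 lc_g_rc_33_1 lc_g_rc_43_2 lc_g_rc_41_2 lc_g_rc_28_1 lc_g_rc_22_1 lc_g_rc_15_1 lc_g_rc_28_3 lc_g_rc_43_2 lc_g_Cert_tree lc_g_rc_43_2 lc_g_rc_15_1 lc_g_rc_28_1 lc_g_Cert_tree lc_g_rc_22_1 lc_g_rc_22_1 lc_g_rc_42_0 lc_g_rc_43_2 lc_g_rc_15_1) (@D3.rec (fun _ => (Cert rels S Gen.g)) lc_g_rc_42_0 lc_g_rc_43_2 lc_g_rc_39_5 lc_g_rc_43_2 lc_g_rc_41_2 lc_g_rc_28_1 lc_g_rc_43_2 lc_g_rc_41_2 lc_g_rc_41_0 lc_g_rc_41_2 lc_g_rc_28_1 lc_g_rc_22_1 lc_g_rc_15_1 lc_g_rc_15_3 lc_g_rc_15_1 lc_g_rc_15_1 lc_g_rc_28_1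 lc_g_rc_41_2 lc_g_rc_28_1 lc_g_rc_43_2 lc_g_rc_7_1 lc_g_rc_7_1 lc_g_rc_41_2 lc_g_rc_28_1 lc_g_rc_43_2 lc_g_rc_43_2 lc_g_rc_43_2 lc_g_rc_28_1 lc_g_rc_43_2 lc_g_rc_22_3 lc_g_rc_43_2 lc_g_Cert_tree) (@D3.rec (fun _ => (Cert rels S Gen.g)) lc_g_rc_22_1 lc_g_rc_22_1 lc_g_rc_28_1 lc_g_rc_43_2 lc_g_rc_28_1 lc_g_rc_43_2 lc_g_rc_39_3 lc_g_rc_39_3 lc_g_rc_22_1 lc_g_rc_43_2 lc_g_rc_15_1 lc_g_rc_22_1 lc_g_rc_41_2 lc_g_Cert_tree lc_g_rc_42_0 lc_g_rc_42_1 lc_g_rc_41_2 lc_g_rc_28_1 lc_g_rc_43_2 lc_g_rc_7_1 lc_g_rc_7_1 lc_g_rc_7_1 lc_g_rc_42_0 lc_g_rc_42_1 lc_g_rc_7_1 lc_g_rc_41_2 lc_g_rc_28_1 lc_g_rc_43_2 lc_g_rc_28_1 lc_g_rc_43_2 lc_g_rc_33_1 lc_g_rc_43_2) (@D3.rec (fun _ => (Cert rels S Gen.g)) lc_g_Cert_tree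 lc_g_rc_7_1 lc_g_rc_7_1 lc_g_rc_7_1 lc_g_rc_28_1 lc_g_rc_43_2 lc_g_rc_22_1 lc_g_rc_43_2 lc_g_rc_28_1 lc_g_rc_41_2 lc_g_rc_28_1 lc_g_rc_43_2 lc_g_rc_22_1 lc_g_rc_28_1 lc_g_rc_43_2 lc_g_rc_22_1 lc_g_rc_33_1 lc_g_rc_43_2 lc_g_rc_33_1 lc_g_rc_43_2 lc_g_Cert_tree lc_g_rc_43_2 lc_g_rc_41_2 lc_g_rc_42_0 lc_g_rc_43_2 lc_g_rc_15_1 lc_g_rc_28_1 lc_g_rc_15_1 lc_g_rc_22_1 lc_g_rc_43_2 lc_g_rc_15_1 lc_g_rc_22_1) (@D3.rec (fun _ => (Cert rels S Gen.g)) lc_g_rc_41_2 lc_g_rc_15_3 lc_g_rc_15_3 lc_g_rc_15_1 lc_g_rc_22_1 lc_g_rc_41_2 lc_g_rc_7_1 lc_g_rc_15_1 lc_g_rc_41_2 lc_g_Cert_tree lc_g_rc_42_0 lc_g_rc_42_1 lc_g_rc_15_1 lc_g_rc_41_2 lc_g_rc_28_1 lc_g_rc_43_2 lc_g_rc_28_1 lc_g_rc_43_2 lc_g_rc_22_1 lc_g_rc_33_1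 lc_g_rc_43_2 lc_g_rc_22_1 lc_g_rc_22_1 lc_g_Cert_tree lc_g_rc_15_1 lc_g_rc_15_1 lc_g_rc_7_1 lc_g_rc_41_2 lc_g_rc_28_1 lc_g_rc_43_2 lc_g_rc_7_1 lc_g_rc_28_1) (@D3.rec (fun _ => (Cert rels S Gen.g)) lc_g_rc_43_2 lc_g_rc_22_1 lc_g_rc_33_1 lc_g_rc_43_2 lc_g_rc_33_1 lc_g_rc_43_2 lc_g_Cert_tree lc_g_rc_43_2 lc_g_rc_41_2 lc_g_rc_42_0 lc_g_rc_43_2 lc_g_rc_7_1 lc_g_rc_43_2 lc_g_rc_22_1 lc_g_rc_43_2 lc_g_rc_15_1 lc_g_rc_22_1 lc_g_rc_33_1 lc_g_rc_39_3 lc_g_rc_28_1 lc_g_rc_43_2 lc_g_rc_22_1 lc_g_rc_33_1 lc_g_rc_43_2 lc_g_rc_39_3 lc_g_rc_43_2 lc_g_rc_22_1 lc_g_rc_33_1 lc_g_rc_43_2 lc_g_rc_15_1 lc_g_rc_22_1 lc_g_rc_22_1)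
def ce_g_6 : D2 → D3 → (Cert rels S Gen.g) := @D2.rec (fun _ => D3 → (Cert rels S Gen.g)) (@D3.rec (fun _ => (Cert rels S Gen.g)) lc_g_Cert_tree lc_g_rc_43_2 lc_g_rc_41_2 lc_g_Cert_tree lc_g_rc_43_2 lc_g_rc_41_2 lc_g_rc_42_0 lc_g_rc_43_2 lc_g_rc_41_2 lc_g_rc_43_2 lc_g_rc_41_2 lc_g_rc_28_1 lc_g_rc_15_1 lc_g_rc_22_1 lc_g_rc_7_1 lc_g_rc_15_1 lc_g_rc_7_1 lc_g_rc_15_1 lc_g_rc_7_1 lc_g_rc_42_0 lc_g_rc_42_1 lc_g_rc_15_1 lc_g_rc_41_2 lc_g_rc_28_1 lc_g_rc_43_2 lc_g_rc_28_1 lc_g_rc_22_1 lc_g_rc_33_1 lc_g_rc_22_1 lc_g_rc_33_1 lc_g_rc_22_1 lc_g_rc_22_1) (@D3.rec (fun _ => (Cert rels S Gen.g)) lc_g_rc_28_3 lc_g_rc_33_1 lc_g_rc_28_1 lc_g_rc_28_1 lc_g_rc_43_2 lc_g_rc_22_1 lc_g_rc_33_1 lc_g_rc_43_2 lc_g_rc_22_1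 lc_g_rc_33_1 lc_g_rc_15_1 lc_g_rc_15_3 lc_g_rc_15_1 lc_g_rc_7_1 lc_g_rc_33_1 lc_g_rc_43_2 lc_g_rc_22_1 lc_g_rc_33_1 lc_g_rc_43_2 lc_g_rc_47_26 lc_g_rc_15_1 lc_g_rc_22_1 lc_g_rc_43_2 lc_g_rc_15_3 lc_g_rc_7_1 lc_g_rc_15_1 lc_g_rc_15_1 lc_g_rc_15_1 lc_g_rc_15_1 lc_g_rc_7_1 lc_g_rc_7_1 lc_g_rc_7_1) (@D3.rec (fun _ => (Cert rels S Gen.g)) lc_g_rc_7_1 lc_g_rc_41_2 lc_g_rc_28_1 lc_g_rc_43_2 lc_g_rc_43_2 lc_g_rc_43_2 lc_g_rc_22_1 lc_g_rc_15_1 lc_g_rc_28_1 lc_g_rc_43_2 lc_g_rc_22_1 lc_g_rc_43_2 lc_g_rc_28_1 lc_g_rc_43_2 lc_g_rc_43_2 lc_g_rc_33_1 lc_g_rc_15_3 lc_g_rc_41_2 lc_g_rc_28_3 lc_g_rc_42_0 lc_g_rc_42_1 lc_g_rc_41_2 lc_g_rc_7_3 lc_g_rc_43_2 lc_g_rc_7_1 lc_g_rc_7_1 lc_g_rc_7_1 lc_g_rc_28_3 lc_g_rc_41_2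 lc_g_rc_28_1 lc_g_rc_43_2 lc_g_rc_43_2) (@D3.rec (fun _ => (Cert rels S Gen.g)) lc_g_rc_22_1 lc_g_rc_28_1 lc_g_rc_15_3 lc_g_rc_7_1 lc_g_rc_7_1 lc_g_rc_28_1 lc_g_rc_43_2 lc_g_rc_22_1 lc_g_rc_43_2 lc_g_rc_22_3 lc_g_rc_28_3 lc_g_rc_28_1 lc_g_rc_43_2 lc_g_rc_22_1 lc_g_rc_22_3 lc_g_rc_43_2 lc_g_rc_28_3 lc_g_rc_28_3 lc_g_rc_15_1 lc_g_rc_22_1 lc_g_rc_43_2 lc_g_rc_28_3 lc_g_rc_22_1 lc_g_rc_41_2 lc_g_rc_41_2 lc_g_rc_28_1 lc_g_rc_43_2 lc_g_rc_22_1 lc_g_Cert_tree lc_g_rc_42_0 lc_g_rc_42_1 lc_g_rc_15_1) (@D3.rec (fun _ => (Cert rels S Gen.g)) lc_g_rc_41_2 lc_g_rc_28_1 lc_g_rc_43_2 lc_g_rc_28_1 lc_g_rc_43_2 lc_g_rc_22_1 lc_g_rc_33_1 lc_g_rc_43_2 lc_g_rc_7_1 lc_g_rc_7_1 lc_g_Cert_tree lc_g_rc_7_1 lc_g_rc_7_1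 lc_g_rc_7_1 lc_g_rc_41_2 lc_g_rc_28_1 lc_g_rc_43_2 lc_g_rc_7_1 lc_g_rc_28_1 lc_g_rc_43_2 lc_g_rc_22_1 lc_g_rc_33_1 lc_g_rc_43_2 lc_g_rc_33_1 lc_g_rc_43_2 lc_g_Cert_tree lc_g_rc_43_2 lc_g_rc_41_2 lc_g_rc_42_0 lc_g_rc_43_2 lc_g_rc_7_1 lc_g_rc_7_1) (@D3.rec (fun _ => (Cert rels S Gen.g)) lc_g_rc_22_1 lc_g_rc_43_2 lc_g_rc_15_1 lc_g_rc_22_1 lc_g_rc_41_2 lc_g_rc_39_3 lc_g_rc_28_1 lc_g_rc_43_2 lc_g_rc_22_1 lc_g_rc_33_1 lc_g_rc_43_2 lc_g_rc_28_1 lc_g_rc_22_1 lc_g_rc_22_1 lc_g_rc_33_1 lc_g_rc_43_2 lc_g_rc_15_1 lc_g_rc_22_1 lc_g_rc_22_1 lc_g_Cert_tree lc_g_rc_43_2 lc_g_rc_41_2 lc_g_Cert_tree lc_g_rc_43_2 lc_g_rc_42_0 lc_g_rc_43_2 lc_g_rc_39_5 lc_g_rc_43_2 lc_g_rc_41_2 lc_g_rc_28_1 lc_g_rc_22_1 lc_g_rc_41_2)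 (@D3.rec (fun _ => (Cert rels S Gen.g)) lc_g_rc_15_3 lc_g_rc_43_2 lc_g_rc_41_2 lc_g_rc_43_2 lc_g_rc_22_3 lc_g_Cert_tree lc_g_rc_42_0 lc_g_rc_22_3 lc_g_rc_41_2 lc_g_rc_28_1 lc_g_rc_43_2 lc_g_rc_28_1 lc_g_rc_43_2 lc_g_rc_22_1 lc_g_rc_28_3 lc_g_rc_43_2 lc_g_rc_22_1 lc_g_rc_22_1 lc_g_Cert_tree lc_g_rc_15_1 lc_g_rc_15_1 lc_g_rc_22_3 lc_g_rc_28_3 lc_g_rc_28_1 lc_g_rc_43_2 lc_g_rc_7_1 lc_g_rc_22_3 lc_g_rc_43_2 lc_g_rc_43_2 lc_g_rc_7_1 lc_g_rc_28_3 lc_g_rc_41_2) (@D3.rec (fun _ => (Cert rels S Gen.g)) lc_g_rc_42_0 lc_g_rc_43_2 lc_g_rc_7_1 lc_g_rc_7_3 lc_g_rc_7_1 lc_g_rc_28_1 lc_g_rc_22_3 lc_g_rc_43_2 lc_g_rc_39_5 lc_g_rc_43_2 lc_g_rc_15_1 lc_g_rc_22_3 lc_g_rc_41_2 lc_g_rc_28_3 lc_g_rc_43_2 lc_g_rc_41_2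 lc_g_rc_28_1 lc_g_rc_42_0 lc_g_rc_42_1 lc_g_rc_15_1 lc_g_rc_41_2 lc_g_rc_28_1 lc_g_rc_43_2 lc_g_rc_28_1 lc_g_rc_43_2 lc_g_rc_22_1 lc_g_rc_33_1 lc_g_rc_43_2 lc_g_rc_22_1 lc_g_rc_33_1 lc_g_rc_43_2 lc_g_rc_22_1) (@D3.rec (fun _ => (Cert rels S Gen.g)) lc_g_rc_22_1 lc_g_Cert_tree lc_g_rc_43_2 lc_g_rc_41_2 lc_g_rc_28_1 lc_g_Cert_tree lc_g_rc_22_1 lc_g_rc_22_1 lc_g_rc_42_0 lc_g_rc_43_2 lc_g_rc_15_1 lc_g_rc_7_1 lc_g_rc_7_1 lc_g_rc_28_1 lc_g_rc_43_2 lc_g_rc_7_1 lc_g_rc_33_1 lc_g_rc_43_2 lc_g_rc_33_1 lc_g_rc_43_2 lc_g_rc_7_3 lc_g_rc_7_1 lc_g_rc_7_1 lc_g_Cert_tree lc_g_rc_43_2 lc_g_rc_41_2 lc_g_Cert_tree lc_g_rc_43_2 lc_g_rc_41_2 lc_g_rc_42_0 lc_g_rc_43_2 lc_g_rc_41_2) (@D3.rec (fun _ => (Cert rels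 S Gen.g)) lc_g_rc_43_2 lc_g_rc_41_2 lc_g_rc_28_1 lc_g_rc_22_1 lc_g_rc_7_3 lc_g_rc_41_2 lc_g_rc_43_2 lc_g_rc_33_1 lc_g_rc_43_2 lc_g_rc_22_3 lc_g_rc_22_1 lc_g_rc_43_2 lc_g_Cert_tree lc_g_rc_43_2 lc_g_rc_41_2 lc_g_Cert_tree lc_g_rc_43_2 lc_g_rc_41_2 lc_g_rc_42_0 lc_g_rc_22_3 lc_g_rc_43_2 lc_g_Cert_tree lc_g_rc_43_2 lc_g_rc_22_1 lc_g_rc_42_0 lc_g_rc_43_2 lc_g_rc_41_2 lc_g_rc_42_0 lc_g_rc_43_2 lc_g_rc_41_2 lc_g_rc_43_2 lc_g_rc_41_2) (@D3.rec (fun _ => (Cert rels S Gen.g)) lc_g_rc_43_2 lc_g_rc_41_2 lc_g_rc_43_2 lc_g_rc_22_1 lc_g_rc_43_2 lc_g_rc_42_0 lc_g_rc_42_1 lc_g_rc_41_2 lc_g_rc_15_1 lc_g_rc_43_2 lc_g_rc_22_1 lc_g_rc_15_1 lc_g_rc_33_1 lc_g_rc_43_2 lc_g_rc_33_1 lc_g_rc_43_2 lc_g_rc_43_2 lc_g_rc_41_2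 lc_g_rc_28_1 lc_g_rc_43_2 lc_g_rc_43_2 lc_g_rc_22_1 lc_g_rc_15_1 lc_g_rc_22_1 lc_g_rc_7_3 lc_g_rc_7_1 lc_g_rc_28_1 lc_g_rc_33_1 lc_g_rc_43_2 lc_g_rc_22_1 lc_g_rc_28_3 lc_g_rc_43_2) (@D3.rec (fun _ => (Cert rels S Gen.g)) lc_g_Cert_tree lc_g_rc_43_2 lc_g_rc_15_1 lc_g_rc_22_1 lc_g_rc_22_1 lc_g_Cert_tree lc_g_rc_43_2 lc_g_rc_41_2 lc_g_rc_28_1 lc_g_Cert_tree lc_g_rc_22_1 lc_g_rc_41_2 lc_g_rc_42_0 lc_g_rc_43_2 lc_g_rc_41_2 lc_g_Cert_tree lc_g_rc_41_2 lc_g_rc_28_1 lc_g_rc_42_0 lc_g_rc_43_2 lc_g_rc_22_1 lc_g_rc_28_1 lc_g_rc_43_2 lc_g_rc_41_2 lc_g_rc_28_1 lc_g_rc_28_1 lc_g_rc_7_3 lc_g_rc_7_3 lc_g_Cert_tree lc_g_rc_7_1 lc_g_rc_28_1 lc_g_rc_42_0) (@D3.rec (fun _ => (Cert rels S Gen.g)) lc_g_rc_43_2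 lc_g_rc_39_5 lc_g_rc_42_0 lc_g_rc_43_2 lc_g_rc_41_2 lc_g_rc_43_2 lc_g_rc_41_2 lc_g_rc_28_1 lc_g_rc_41_2 lc_g_rc_43_2 lc_g_rc_22_1 lc_g_rc_41_0 lc_g_rc_41_0 lc_g_rc_43_2 lc_g_Cert_tree lc_g_rc_43_2 lc_g_rc_41_2 lc_g_rc_42_0 lc_g_rc_43_2 lc_g_rc_33_1 lc_g_rc_43_2 lc_g_rc_41_2 lc_g_rc_41_2 lc_g_rc_43_2 lc_g_rc_41_2 lc_g_rc_28_1 lc_g_rc_41_2 lc_g_rc_43_2 lc_g_rc_22_1 lc_g_rc_15_1 lc_g_rc_15_1 lc_g_rc_33_3) (@D3.rec (fun _ => (Cert rels S Gen.g)) lc_g_rc_15_1 lc_g_rc_7_1 lc_g_rc_7_1 lc_g_rc_7_3 lc_g_rc_7_1 lc_g_rc_7_1 lc_g_rc_7_1 lc_g_rc_28_1 lc_g_rc_42_0 lc_g_rc_42_1 lc_g_rc_41_2 lc_g_rc_41_2 lc_g_rc_41_2 lc_g_rc_15_1 lc_g_rc_39_5 lc_g_rc_22_1 lc_g_rc_33_1 lc_g_rc_22_1 lc_g_rc_15_1 lc_g_Cert_tree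 lc_g_rc_43_2 lc_g_rc_43_0 lc_g_rc_7_1 lc_g_Cert_tree lc_g_rc_7_1 lc_g_rc_7_1 lc_g_rc_42_0 lc_g_rc_43_2 lc_g_rc_7_1 lc_g_rc_39_5 lc_g_Cert_tree lc_g_Cert_tree) (@D3.rec (fun _ => (Cert rels S Gen.g)) lc_g_rc_42_0 lc_g_rc_43_2 lc_g_rc_43_0 lc_g_rc_43_2 lc_g_rc_41_2 lc_g_rc_7_1 lc_g_Cert_tree lc_g_rc_42_0 lc_g_rc_42_0 lc_g_rc_43_2 lc_g_rc_41_2 lc_g_rc_41_2 lc_g_rc_28_1 lc_g_rc_22_1 lc_g_rc_15_3 lc_g_rc_28_1 lc_g_rc_28_3 lc_g_rc_7_1 lc_g_rc_28_1 lc_g_Cert_tree lc_g_rc_22_1 lc_g_rc_22_1 lc_g_rc_42_0 lc_g_rc_43_2 lc_g_rc_15_1 lc_g_rc_43_2 lc_g_rc_41_2 lc_g_rc_28_1 lc_g_rc_41_2 lc_g_rc_33_1 lc_g_rc_22_1 lc_g_rc_41_2) (@D3.rec (fun _ => (Cert rels S Gen.g)) lc_g_rc_28_1 lc_g_rc_43_2 lc_g_rc_43_2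 lc_g_rc_7_3 lc_g_rc_43_0 lc_g_rc_41_2 lc_g_rc_7_3 lc_g_Cert_tree lc_g_rc_22_1 lc_g_Cert_tree lc_g_rc_28_1 lc_g_Cert_tree lc_g_rc_39_5 lc_g_rc_47_47 lc_g_rc_42_0 lc_g_rc_43_2 lc_g_rc_39_5 lc_g_Cert_tree lc_g_rc_41_2 lc_g_rc_28_1 lc_g_rc_42_0 lc_g_rc_43_2 lc_g_rc_22_1 lc_g_rc_28_1 lc_g_rc_43_2 lc_g_rc_41_2 lc_g_rc_28_1 lc_g_Cert_tree lc_g_rc_39_5 lc_g_rc_42_0 lc_g_rc_42_0 lc_g_rc_43_2) (@D3.rec (fun _ => (Cert rels S Gen.g)) lc_g_rc_41_2 lc_g_rc_33_1 lc_g_rc_41_2 lc_g_rc_28_1 lc_g_rc_22_1 lc_g_rc_42_0 lc_g_rc_43_2 lc_g_rc_41_2 lc_g_rc_22_1 lc_g_rc_33_1 lc_g_rc_41_2 lc_g_rc_28_1 lc_g_rc_43_2 lc_g_rc_43_2 lc_g_rc_15_1 lc_g_rc_15_1 lc_g_rc_15_1 lc_g_rc_22_1 lc_g_rc_41_2 lc_g_rc_7_1 lc_g_rc_43_2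 lc_g_rc_22_1 lc_g_rc_22_1 lc_g_rc_28_1 lc_g_rc_43_2 lc_g_rc_33_1 lc_g_rc_43_2 lc_g_rc_15_1 lc_g_rc_15_1 lc_g_rc_43_2 lc_g_rc_28_1 lc_g_Cert_tree) (@D3.rec (fun _ => (Cert rels S Gen.g)) lc_g_rc_22_1 lc_g_rc_41_2 lc_g_rc_42_0 lc_g_rc_43_2 lc_g_rc_41_2 lc_g_Cert_tree lc_g_rc_41_2 lc_g_rc_28_1 lc_g_rc_42_0 lc_g_rc_43_2 lc_g_rc_41_2 lc_g_rc_28_1 lc_g_rc_43_2 lc_g_rc_41_2 lc_g_rc_28_1 lc_g_rc_33_3 lc_g_rc_42_0 lc_g_rc_33_1 lc_g_rc_43_2 lc_g_rc_43_2 lc_g_rc_39_5 lc_g_rc_43_2 lc_g_rc_41_2 lc_g_rc_28_1 lc_g_rc_33_1 lc_g_rc_41_2 lc_g_rc_15_1 lc_g_rc_22_1 lc_g_rc_43_2 lc_g_rc_41_2 lc_g_rc_28_1 lc_g_rc_41_2) (@D3.rec (fun _ => (Cert rels S Gen.g)) lc_g_rc_22_1 lc_g_rc_22_1 lc_g_rc_15_1 lc_g_rc_41_2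 lc_g_rc_28_1 lc_g_rc_22_1 lc_g_rc_43_2 lc_g_rc_43_2 lc_g_rc_43_2 lc_g_rc_41_2 lc_g_rc_43_2 lc_g_rc_41_2 lc_g_rc_22_1 lc_g_rc_22_1 lc_g_rc_33_3 lc_g_rc_28_1 lc_g_rc_41_2 lc_g_rc_22_1 lc_g_rc_33_1 lc_g_rc_43_2 lc_g_rc_7_1 lc_g_rc_7_1 lc_g_Cert_tree lc_g_rc_7_1 lc_g_rc_7_1 lc_g_rc_42_1 lc_g_rc_43_2 lc_g_rc_28_1 lc_g_rc_42_1 lc_g_rc_43_2 lc_g_Cert_tree lc_g_rc_43_2) (@D3.rec (fun _ => (Cert rels S Gen.g)) lc_g_rc_28_3 lc_g_rc_42_0 lc_g_rc_43_2 lc_g_rc_7_1 lc_g_rc_7_1 lc_g_rc_43_2 lc_g_rc_15_3 lc_g_rc_15_1 lc_g_rc_33_1 lc_g_rc_43_2 lc_g_rc_15_1 lc_g_rc_43_2 lc_g_rc_22_1 lc_g_rc_43_2 lc_g_rc_22_3 lc_g_rc_42_0 lc_g_rc_43_2 lc_g_rc_39_5 lc_g_rc_43_2 lc_g_rc_41_2 lc_g_rc_28_1 lc_g_rc_15_1 lc_g_rc_22_1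 lc_g_rc_7_3 lc_g_rc_7_3 lc_g_rc_7_3 lc_g_rc_7_3 lc_g_rc_7_3 lc_g_rc_22_1 lc_g_rc_22_1 lc_g_Cert_tree lc_g_rc_7_3) (@D3.rec (fun _ => (Cert rels S Gen.g)) lc_g_rc_28_3 lc_g_rc_28_1 lc_g_Cert_tree lc_g_rc_22_1 lc_g_rc_22_1 lc_g_rc_42_0 lc_g_rc_43_2 lc_g_rc_15_1 lc_g_rc_7_1 lc_g_rc_7_1 lc_g_Cert_tree lc_g_rc_7_1 lc_g_rc_22_1 lc_g_rc_42_0 lc_g_rc_43_2 lc_g_rc_33_1 lc_g_rc_43_2 lc_g_rc_41_2 lc_g_rc_28_1 lc_g_rc_22_3 lc_g_rc_43_2 lc_g_rc_22_1 lc_g_rc_42_0 lc_g_rc_43_2 lc_g_rc_22_1 lc_g_rc_43_2 lc_g_rc_41_2 lc_g_rc_41_0 lc_g_rc_41_2 lc_g_rc_28_1 lc_g_rc_22_1 lc_g_rc_22_1) (@D3.rec (fun _ => (Cert rels S Gen.g)) lc_g_rc_22_1 lc_g_rc_22_1 lc_g_Cert_tree lc_g_rc_43_2 lc_g_rc_15_3 lc_g_rc_42_0 lc_g_rc_43_2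 lc_g_rc_15_1 lc_g_Cert_tree lc_g_rc_41_2 lc_g_rc_28_1 lc_g_rc_42_0 lc_g_rc_43_2 lc_g_rc_22_1 lc_g_rc_28_1 lc_g_rc_43_2 lc_g_rc_41_2 lc_g_rc_28_1 lc_g_rc_43_2 lc_g_rc_41_2 lc_g_rc_41_0 lc_g_rc_41_2 lc_g_rc_28_1 lc_g_rc_22_1 lc_g_rc_41_2 lc_g_rc_28_1 lc_g_rc_22_1 lc_g_rc_28_1 lc_g_rc_22_1 lc_g_rc_33_1 lc_g_rc_15_1 lc_g_rc_15_1)
def ce_g_7 : D2 → D3 → (Cert rels S Gen.g) := @D2.rec (fun _ => D3 → (Cert rels S Gen.g)) (@D3.rec (fun _ => (Cert rels S Gen.g)) lc_g_rc_15_3 lc_g_rc_22_1 lc_g_rc_15_1 lc_g_rc_15_1 lc_g_rc_15_1 lc_g_rc_43_2 lc_g_rc_28_1 lc_g_rc_43_2 lc_g_rc_22_3 lc_g_rc_43_2 lc_g_Cert_tree lc_g_rc_7_1 lc_g_rc_7_1 lc_g_rc_28_1 lc_g_rc_43_2 lc_g_rc_28_1 lc_g_rc_43_2 lc_g_rc_43_2 lc_g_rc_28_1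 lc_g_rc_43_2 lc_g_rc_41_2 lc_g_rc_42_0 lc_g_rc_43_2 lc_g_rc_22_1 lc_g_rc_43_2 lc_g_rc_28_1 lc_g_rc_43_2 lc_g_rc_41_2 lc_g_rc_22_1 lc_g_rc_33_1 lc_g_rc_39_3 lc_g_rc_15_1) (@D3.rec (fun _ => (Cert rels S Gen.g)) lc_g_rc_22_1 lc_g_rc_41_2 lc_g_rc_7_1 lc_g_rc_15_1 lc_g_rc_41_2 lc_g_rc_22_3 lc_g_rc_42_0 lc_g_rc_42_1 lc_g_rc_15_1 lc_g_rc_41_2 lc_g_rc_28_1 lc_g_rc_43_2 lc_g_rc_28_1 lc_g_rc_43_2 lc_g_rc_15_1 lc_g_rc_33_1 lc_g_rc_43_2 lc_g_rc_7_1 lc_g_rc_7_1 lc_g_Cert_tree lc_g_rc_7_1 lc_g_rc_7_1 lc_g_rc_7_1 lc_g_rc_41_2 lc_g_rc_28_1 lc_g_rc_43_2 lc_g_rc_7_1 lc_g_rc_28_1 lc_g_rc_43_2 lc_g_rc_22_1 lc_g_rc_33_1 lc_g_rc_43_2) (@D3.rec (fun _ => (Cert rels S Gen.g)) lc_g_rc_33_1 lc_g_rc_43_2 lc_g_Cert_tree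 lc_g_rc_43_2 lc_g_rc_41_2 lc_g_rc_42_0 lc_g_rc_43_2 lc_g_rc_7_1 lc_g_rc_28_1 lc_g_rc_7_1 lc_g_rc_22_1 lc_g_rc_43_2 lc_g_rc_15_1 lc_g_rc_22_1 lc_g_rc_41_2 lc_g_rc_39_3 lc_g_rc_28_1 lc_g_rc_43_2 lc_g_rc_22_1 lc_g_rc_33_1 lc_g_rc_43_2 lc_g_rc_28_1 lc_g_rc_22_1 lc_g_rc_22_1 lc_g_rc_33_1 lc_g_rc_43_2 lc_g_rc_15_1 lc_g_rc_22_1 lc_g_rc_22_1 lc_g_Cert_tree lc_g_rc_43_2 lc_g_rc_41_2) (@D3.rec (fun _ => (Cert rels S Gen.g)) lc_g_rc_43_2 lc_g_rc_41_2 lc_g_rc_42_0 lc_g_rc_43_2 lc_g_rc_41_2 lc_g_rc_43_2 lc_g_rc_41_2 lc_g_rc_28_1 lc_g_rc_28_3 lc_g_rc_33_1 lc_g_rc_43_2 lc_g_rc_15_1 lc_g_rc_22_1 lc_g_rc_41_2 lc_g_rc_7_1 lc_g_rc_15_1 lc_g_rc_41_2 lc_g_rc_15_3 lc_g_rc_22_1 lc_g_rc_7_1 lc_g_rc_15_1 lc_g_rc_41_2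 lc_g_rc_7_1 lc_g_rc_15_1 lc_g_rc_42_0 lc_g_rc_42_1 lc_g_rc_15_1 lc_g_rc_41_2 lc_g_rc_28_1 lc_g_rc_43_2 lc_g_rc_7_3 lc_g_rc_28_1) (@D3.rec (fun _ => (Cert rels S Gen.g)) lc_g_rc_43_2 lc_g_rc_22_1 lc_g_rc_33_1 lc_g_rc_43_2 lc_g_rc_22_1 lc_g_rc_33_1 lc_g_rc_43_2 lc_g_rc_22_1 lc_g_rc_22_1 lc_g_Cert_tree lc_g_rc_43_2 lc_g_rc_41_2 lc_g_rc_28_1 lc_g_Cert_tree lc_g_rc_22_1 lc_g_rc_22_1 lc_g_rc_42_0 lc_g_rc_43_2 lc_g_rc_15_1 lc_g_rc_7_1 lc_g_rc_7_1 lc_g_rc_28_1 lc_g_rc_43_2 lc_g_rc_22_1 lc_g_rc_33_1 lc_g_rc_43_2 lc_g_rc_7_1 lc_g_rc_7_1 lc_g_rc_22_1 lc_g_rc_33_1 lc_g_rc_43_2 lc_g_rc_15_1) (@D3.rec (fun _ => (Cert rels S Gen.g)) lc_g_rc_22_1 lc_g_rc_22_1 lc_g_Cert_tree lc_g_rc_43_2 lc_g_rc_41_2 lc_g_Cert_tree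 lc_g_rc_43_2 lc_g_rc_41_2 lc_g_rc_42_0 lc_g_rc_43_2 lc_g_rc_41_2 lc_g_rc_43_2 lc_g_rc_41_2 lc_g_rc_28_1 lc_g_rc_15_1 lc_g_rc_22_1 lc_g_rc_7_1 lc_g_rc_15_1 lc_g_rc_41_2 lc_g_rc_28_1 lc_g_rc_43_2 lc_g_rc_22_1 lc_g_rc_33_1 lc_g_rc_43_2 lc_g_rc_47_33 lc_g_rc_22_1 lc_g_rc_22_1 lc_g_Cert_tree lc_g_rc_43_2 lc_g_rc_41_2 lc_g_rc_39_5 lc_g_rc_43_2) (@D3.rec (fun _ => (Cert rels S Gen.g)) lc_g_rc_15_1 lc_g_rc_22_1 lc_g_rc_22_1 lc_g_Cert_tree lc_g_rc_43_2 lc_g_rc_41_2 lc_g_rc_7_1 lc_g_rc_22_3 lc_g_rc_15_1 lc_g_Cert_tree lc_g_rc_22_1 lc_g_rc_41_2 lc_g_rc_42_0 lc_g_rc_43_2 lc_g_rc_41_2 lc_g_rc_42_0 lc_g_rc_43_2 lc_g_rc_41_2 lc_g_rc_43_2 lc_g_rc_41_2 lc_g_rc_28_1 lc_g_rc_41_2 lc_g_rc_22_1 lc_g_rc_22_1 lc_g_rc_7_1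 lc_g_rc_15_1 lc_g_rc_7_1 lc_g_rc_7_1 lc_g_rc_15_3 lc_g_rc_41_2 lc_g_rc_28_1 lc_g_rc_43_2) (@D3.rec (fun _ => (Cert rels S Gen.g)) lc_g_rc_15_1 lc_g_rc_15_1 lc_g_rc_28_1 lc_g_rc_43_2 lc_g_rc_22_1 lc_g_rc_33_1 lc_g_rc_43_2 lc_g_rc_22_1 lc_g_rc_33_1 lc_g_rc_15_1 lc_g_rc_22_1 lc_g_rc_22_1 lc_g_rc_22_3 lc_g_rc_22_1 lc_g_rc_39_1 lc_g_rc_43_2 lc_g_rc_22_1 lc_g_rc_33_1 lc_g_rc_43_2 lc_g_rc_15_1 lc_g_rc_15_3 lc_g_rc_22_1 lc_g_rc_43_2 lc_g_rc_15_1 lc_g_rc_7_1 lc_g_rc_7_1 lc_g_rc_7_1 lc_g_rc_43_2 lc_g_rc_22_1 lc_g_rc_43_2 lc_g_rc_15_3 lc_g_rc_28_3) (@D3.rec (fun _ => (Cert rels S Gen.g)) lc_g_rc_28_1 lc_g_rc_15_1 lc_g_rc_15_1 lc_g_rc_15_1 lc_g_rc_15_1 lc_g_rc_15_1 lc_g_rc_7_1 lc_g_rc_7_1 lc_g_rc_28_1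 lc_g_rc_43_2 lc_g_rc_22_1 lc_g_rc_43_2 lc_g_rc_28_1 lc_g_rc_15_1 lc_g_rc_22_1 lc_g_rc_43_2 lc_g_rc_33_1 lc_g_rc_22_1 lc_g_rc_41_2 lc_g_rc_28_1 lc_g_rc_41_2 lc_g_rc_33_1 lc_g_rc_43_2 lc_g_rc_22_1 lc_g_rc_28_3 lc_g_rc_28_3 lc_g_rc_41_2 lc_g_rc_28_1 lc_g_rc_43_2 lc_g_rc_43_2 lc_g_rc_15_1 lc_g_rc_22_3) (@D3.rec (fun _ => (Cert rels S Gen.g)) lc_g_rc_28_1 lc_g_rc_7_1 lc_g_rc_7_1 lc_g_rc_7_3 lc_g_rc_7_1 lc_g_rc_7_1 lc_g_rc_22_3 lc_g_rc_28_3 lc_g_rc_28_1 lc_g_rc_43_2 lc_g_rc_22_1 lc_g_rc_22_3 lc_g_rc_43_2 lc_g_rc_28_3 lc_g_rc_28_3 lc_g_rc_7_1 lc_g_rc_22_1 lc_g_rc_43_2 lc_g_rc_15_1 lc_g_rc_22_1 lc_g_rc_41_2 lc_g_rc_22_3 lc_g_rc_22_1 lc_g_rc_43_2 lc_g_rc_22_1 lc_g_rc_22_1 lc_g_rc_22_3 lc_g_rc_41_2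 lc_g_rc_41_2 lc_g_rc_28_1 lc_g_rc_22_1 lc_g_rc_41_2) (@D3.rec (fun _ => (Cert rels S Gen.g)) lc_g_rc_28_3 lc_g_rc_43_2 lc_g_rc_41_2 lc_g_rc_43_2 lc_g_rc_39_3 lc_g_rc_42_0 lc_g_rc_42_1 lc_g_rc_15_1 lc_g_rc_41_2 lc_g_rc_28_1 lc_g_rc_43_2 lc_g_rc_15_1 lc_g_rc_28_1 lc_g_rc_43_2 lc_g_rc_22_1 lc_g_rc_33_1 lc_g_rc_43_2 lc_g_rc_22_1 lc_g_rc_33_1 lc_g_rc_43_2 lc_g_rc_22_1 lc_g_rc_22_1 lc_g_Cert_tree lc_g_rc_43_2 lc_g_rc_41_2 lc_g_rc_7_1 lc_g_Cert_tree lc_g_rc_7_1 lc_g_rc_7_1 lc_g_rc_42_0 lc_g_rc_43_2 lc_g_rc_7_1) (@D3.rec (fun _ => (Cert rels S Gen.g)) lc_g_rc_7_1 lc_g_rc_28_1 lc_g_rc_43_2 lc_g_rc_22_1 lc_g_rc_33_1 lc_g_rc_43_2 lc_g_rc_7_1 lc_g_rc_7_1 lc_g_rc_22_1 lc_g_rc_33_1 lc_g_rc_43_2 lc_g_rc_15_1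 lc_g_rc_22_1 lc_g_rc_22_1 lc_g_Cert_tree lc_g_rc_43_2 lc_g_rc_41_2 lc_g_Cert_tree lc_g_rc_43_2 lc_g_rc_42_0 lc_g_rc_43_2 lc_g_rc_39_5 lc_g_rc_43_2 lc_g_rc_41_2 lc_g_rc_7_1 lc_g_rc_15_1 lc_g_rc_22_1 lc_g_rc_41_2 lc_g_rc_7_1 lc_g_rc_15_1 lc_g_rc_41_2 lc_g_rc_39_3) (@D3.rec (fun _ => (Cert rels S Gen.g)) lc_g_rc_43_2 lc_g_rc_22_1 lc_g_rc_43_2 lc_g_rc_15_1 lc_g_rc_33_1 lc_g_rc_22_1 lc_g_rc_22_1 lc_g_rc_43_2 lc_g_rc_41_2 lc_g_rc_33_1 lc_g_rc_28_1 lc_g_rc_22_1 lc_g_rc_22_1 lc_g_rc_22_1 lc_g_rc_43_2 lc_g_rc_41_2 lc_g_rc_15_3 lc_g_rc_15_1 lc_g_rc_43_2 lc_g_rc_28_3 lc_g_rc_22_1 lc_g_rc_41_2 lc_g_rc_42_0 lc_g_rc_43_2 lc_g_rc_41_2 lc_g_rc_42_0 lc_g_rc_43_2 lc_g_rc_43_2 lc_g_rc_41_2 lc_g_rc_43_2 lc_g_rc_41_2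 lc_g_rc_43_2) (@D3.rec (fun _ => (Cert rels S Gen.g)) lc_g_rc_22_1 lc_g_rc_41_2 lc_g_rc_43_2 lc_g_rc_15_1 lc_g_rc_28_1 lc_g_rc_15_1 lc_g_rc_42_0 lc_g_rc_15_3 lc_g_rc_22_3 lc_g_rc_33_1 lc_g_rc_28_1 lc_g_rc_43_2 lc_g_rc_22_1 lc_g_rc_22_3 lc_g_rc_43_2 lc_g_rc_22_1 lc_g_rc_43_2 lc_g_rc_33_1 lc_g_rc_22_1 lc_g_rc_7_1 lc_g_rc_28_3 lc_g_rc_41_2 lc_g_rc_28_1 lc_g_Cert_tree lc_g_rc_22_1 lc_g_rc_22_1 lc_g_rc_42_0 lc_g_rc_43_2 lc_g_rc_15_1 lc_g_rc_7_1 lc_g_rc_22_3 lc_g_rc_43_2) (@D3.rec (fun _ => (Cert rels S Gen.g)) lc_g_rc_7_3 lc_g_rc_7_1 lc_g_rc_7_1 lc_g_rc_7_1 lc_g_rc_22_3 lc_g_rc_41_2 lc_g_rc_28_3 lc_g_rc_43_2 lc_g_rc_41_2 lc_g_rc_28_1 lc_g_rc_7_3 lc_g_rc_43_2 lc_g_rc_22_3 lc_g_rc_41_2 lc_g_rc_33_3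 lc_g_rc_43_2 lc_g_rc_15_3 lc_g_rc_15_1 lc_g_rc_22_3 lc_g_rc_41_2 lc_g_rc_43_2 lc_g_rc_22_1 lc_g_rc_22_1 lc_g_rc_41_2 lc_g_rc_28_1 lc_g_rc_43_2 lc_g_rc_15_1 lc_g_rc_15_1 lc_g_rc_28_1 lc_g_rc_43_2 lc_g_rc_22_1 lc_g_rc_33_1) (@D3.rec (fun _ => (Cert rels S Gen.g)) lc_g_rc_43_2 lc_g_rc_22_1 lc_g_rc_33_1 lc_g_rc_43_2 lc_g_rc_7_3 lc_g_rc_22_1 lc_g_rc_22_1 lc_g_Cert_tree lc_g_rc_43_2 lc_g_rc_41_2 lc_g_rc_22_1 lc_g_rc_22_1 lc_g_Cert_tree lc_g_rc_43_2 lc_g_rc_41_2 lc_g_rc_28_1 lc_g_Cert_tree lc_g_rc_22_1 lc_g_rc_41_2 lc_g_rc_42_0 lc_g_rc_43_2 lc_g_rc_41_2 lc_g_Cert_tree lc_g_rc_41_2 lc_g_rc_28_1 lc_g_rc_42_0 lc_g_rc_43_2 lc_g_rc_22_1 lc_g_rc_28_1 lc_g_rc_43_2 lc_g_rc_41_2 lc_g_rc_28_1) (@D3.rec (fun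 _ => (Cert rels S Gen.g)) lc_g_rc_7_1 lc_g_rc_7_1 lc_g_rc_33_1 lc_g_rc_43_2 lc_g_rc_7_3 lc_g_rc_7_1 lc_g_rc_7_1 lc_g_Cert_tree lc_g_rc_7_1 lc_g_rc_41_2 lc_g_Cert_tree lc_g_rc_43_2 lc_g_rc_41_2 lc_g_rc_22_3 lc_g_rc_7_3 lc_g_rc_7_3 lc_g_Cert_tree lc_g_rc_7_1 lc_g_rc_22_1 lc_g_rc_42_0 lc_g_rc_43_2 lc_g_rc_41_2 lc_g_rc_42_0 lc_g_rc_43_2 lc_g_rc_41_2 lc_g_rc_43_2 lc_g_rc_41_2 lc_g_rc_43_2 lc_g_rc_41_2 lc_g_rc_43_2 lc_g_rc_22_1 lc_g_rc_41_0) (@D3.rec (fun _ => (Cert rels S Gen.g)) lc_g_rc_39_3 lc_g_rc_41_2 lc_g_rc_22_3 lc_g_rc_33_1 lc_g_rc_43_2 lc_g_rc_15_1 lc_g_rc_43_2 lc_g_rc_22_1 lc_g_rc_42_0 lc_g_rc_43_2 lc_g_rc_43_2 lc_g_rc_42_0 lc_g_rc_43_2 lc_g_rc_41_2 lc_g_rc_22_3 lc_g_rc_43_2 lc_g_rc_41_0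 lc_g_rc_43_2 lc_g_rc_22_3 lc_g_rc_42_0 lc_g_rc_43_2 lc_g_rc_22_1 lc_g_rc_43_2 lc_g_rc_41_2 lc_g_rc_43_0 lc_g_rc_43_2 lc_g_rc_41_2 lc_g_rc_41_2 lc_g_rc_43_2 lc_g_rc_43_2 lc_g_rc_41_2 lc_g_rc_28_1) (@D3.rec (fun _ => (Cert rels S Gen.g)) lc_g_rc_43_2 lc_g_rc_43_2 lc_g_rc_15_3 lc_g_rc_15_1 lc_g_rc_15_1 lc_g_rc_22_1 lc_g_rc_43_2 lc_g_rc_28_1 lc_g_rc_43_2 lc_g_rc_22_1 lc_g_rc_33_1 lc_g_rc_43_2 lc_g_rc_22_1 lc_g_rc_22_1 lc_g_rc_22_1 lc_g_rc_28_3 lc_g_rc_7_3 lc_g_rc_43_2 lc_g_rc_22_1 lc_g_rc_22_1 lc_g_rc_22_1 lc_g_rc_22_3 lc_g_Cert_tree lc_g_rc_43_2 lc_g_rc_15_3 lc_g_rc_42_0 lc_g_rc_43_2 lc_g_rc_15_1 lc_g_rc_28_1 lc_g_Cert_tree lc_g_rc_22_1 lc_g_rc_41_2) (@D3.rec (fun _ => (Cert rels S Gen.g)) lc_g_rc_42_0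 lc_g_rc_43_2 lc_g_rc_41_2 lc_g_Cert_tree lc_g_rc_41_2 lc_g_rc_28_1 lc_g_rc_42_0 lc_g_rc_43_2 lc_g_rc_41_2 lc_g_rc_28_1 lc_g_rc_43_2 lc_g_rc_41_2 lc_g_rc_28_1 lc_g_rc_33_3 lc_g_rc_42_0 lc_g_rc_33_1 lc_g_rc_43_2 lc_g_rc_43_2 lc_g_rc_39_5 lc_g_rc_43_2 lc_g_rc_41_2 lc_g_rc_28_1 lc_g_rc_33_1 lc_g_rc_41_2 lc_g_rc_15_1 lc_g_rc_22_1 lc_g_rc_28_3 lc_g_rc_43_2 lc_g_Cert_tree lc_g_rc_7_3 lc_g_rc_28_1 lc_g_rc_42_0) (@D3.rec (fun _ => (Cert rels S Gen.g)) lc_g_rc_43_2 lc_g_rc_33_1 lc_g_rc_43_2 lc_g_rc_41_2 lc_g_rc_41_2 lc_g_rc_43_2 lc_g_rc_41_2 lc_g_rc_28_1 lc_g_rc_41_2 lc_g_rc_43_2 lc_g_rc_22_1 lc_g_rc_15_1 lc_g_Cert_tree lc_g_rc_43_2 lc_g_rc_28_1 lc_g_rc_42_0 lc_g_rc_43_2 lc_g_rc_39_5 lc_g_rc_43_2 lc_g_rc_41_2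 lc_g_rc_41_0 lc_g_rc_41_2 lc_g_rc_22_1 lc_g_rc_22_1 lc_g_rc_41_2 lc_g_rc_43_2 lc_g_rc_22_1 lc_g_rc_15_1 lc_g_rc_7_1 lc_g_rc_7_3 lc_g_rc_7_1 lc_g_rc_7_1) (@D3.rec (fun _ => (Cert rels S Gen.g)) lc_g_rc_7_1 lc_g_rc_7_1 lc_g_rc_41_2 lc_g_rc_28_1 lc_g_rc_41_2 lc_g_rc_15_1 lc_g_rc_39_5 lc_g_rc_39_5 lc_g_Cert_tree lc_g_rc_22_1 lc_g_Cert_tree lc_g_rc_28_1 lc_g_Cert_tree lc_g_rc_7_1 lc_g_rc_15_1 lc_g_rc_42_0 lc_g_rc_43_2 lc_g_rc_43_0 lc_g_Cert_tree lc_g_rc_7_1 lc_g_rc_7_1 lc_g_rc_42_0 lc_g_rc_43_2 lc_g_rc_7_1 lc_g_rc_7_1 lc_g_rc_43_2 lc_g_rc_41_2 lc_g_rc_7_1 lc_g_Cert_tree lc_g_rc_42_0 lc_g_rc_42_0 lc_g_rc_43_2)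
def ce_g_8 : D2 → D3 → (Cert rels S Gen.g) := @D2.rec (fun _ => D3 → (Cert rels S Gen.g)) (@D3.rec (fun _ => (Cert rels S Gen.g)) lc_g_rc_41_2 lc_g_rc_41_2 lc_g_rc_7_1 lc_g_rc_22_1 lc_g_rc_42_0 lc_g_rc_41_2 lc_g_rc_15_3 lc_g_rc_41_2 lc_g_rc_22_1 lc_g_rc_7_1 lc_g_Cert_tree lc_g_rc_41_2 lc_g_rc_28_1 lc_g_rc_42_0 lc_g_rc_43_2 lc_g_rc_22_1 lc_g_rc_28_1 lc_g_rc_43_2 lc_g_rc_41_2 lc_g_rc_28_1 lc_g_rc_41_2 lc_g_rc_33_1 lc_g_rc_22_1 lc_g_rc_28_1 lc_g_rc_43_2 lc_g_rc_47_40 lc_g_rc_33_1 lc_g_rc_43_2 lc_g_rc_7_3 lc_g_rc_22_1 lc_g_Cert_tree lc_g_rc_39_5) (@D3.rec (fun _ => (Cert rels S Gen.g)) lc_g_rc_22_3 lc_g_Cert_tree lc_g_rc_42_0 lc_g_rc_28_1 lc_g_Cert_tree lc_g_rc_42_0 lc_g_Cert_tree lc_g_rc_41_2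 lc_g_rc_15_3 lc_g_rc_42_0 lc_g_rc_43_2 lc_g_rc_39_5 lc_g_rc_7_1 lc_g_rc_43_2 lc_g_rc_41_2 lc_g_rc_33_1 lc_g_rc_33_3 lc_g_rc_42_0 lc_g_rc_33_1 lc_g_rc_43_2 lc_g_rc_43_2 lc_g_rc_41_2 lc_g_rc_43_2 lc_g_rc_41_2 lc_g_rc_28_1 lc_g_rc_33_1 lc_g_rc_41_2 lc_g_rc_28_1 lc_g_rc_22_1 lc_g_rc_42_0 lc_g_rc_43_2 lc_g_rc_41_2) (@D3.rec (fun _ => (Cert rels S Gen.g)) lc_g_rc_22_1 lc_g_rc_33_1 lc_g_rc_15_1 lc_g_rc_43_2 lc_g_rc_28_1 lc_g_rc_43_2 lc_g_rc_15_1 lc_g_rc_33_1 lc_g_rc_43_2 lc_g_rc_22_1 lc_g_rc_15_1 lc_g_rc_43_2 lc_g_rc_22_1 lc_g_rc_33_1 lc_g_rc_43_2 lc_g_Cert_tree lc_g_rc_43_2 lc_g_rc_41_2 lc_g_rc_15_1 lc_g_Cert_tree lc_g_rc_41_2 lc_g_rc_28_1 lc_g_rc_42_0 lc_g_rc_43_2 lc_g_rc_41_2 lc_g_rc_28_1 lc_g_rc_43_2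 lc_g_rc_41_2 lc_g_rc_28_1 lc_g_rc_33_3 lc_g_rc_42_0 lc_g_rc_33_1) (@D3.rec (fun _ => (Cert rels S Gen.g)) lc_g_rc_43_2 lc_g_rc_43_2 lc_g_rc_41_2 lc_g_rc_43_2 lc_g_rc_41_2 lc_g_rc_28_1 lc_g_rc_33_1 lc_g_rc_41_2 lc_g_rc_47_26 lc_g_rc_22_1 lc_g_rc_43_2 lc_g_rc_43_2 lc_g_rc_43_2 lc_g_rc_41_2 lc_g_rc_43_2 lc_g_rc_41_2 lc_g_rc_28_1 lc_g_rc_41_2 lc_g_rc_28_1 lc_g_rc_22_1 lc_g_rc_15_1 lc_g_rc_41_2 lc_g_rc_22_3 lc_g_rc_22_1 lc_g_rc_22_3 lc_g_rc_41_2 lc_g_rc_15_3 lc_g_rc_22_3 lc_g_rc_43_2 lc_g_rc_22_1 lc_g_rc_22_1 lc_g_Cert_tree) (@D3.rec (fun _ => (Cert rels S Gen.g)) lc_g_rc_43_2 lc_g_rc_28_3 lc_g_rc_7_1 lc_g_Cert_tree lc_g_rc_7_1 lc_g_rc_7_1 lc_g_rc_42_0 lc_g_rc_43_2 lc_g_rc_7_1 lc_g_rc_15_3 lc_g_rc_33_1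 lc_g_rc_43_2 lc_g_rc_7_1 lc_g_rc_15_3 lc_g_rc_43_2 lc_g_rc_22_1 lc_g_rc_43_2 lc_g_rc_22_3 lc_g_rc_42_0 lc_g_rc_43_2 lc_g_rc_33_1 lc_g_rc_43_2 lc_g_rc_41_2 lc_g_rc_7_1 lc_g_rc_43_2 lc_g_rc_15_3 lc_g_rc_43_2 lc_g_rc_43_2 lc_g_rc_22_3 lc_g_rc_43_2 lc_g_rc_15_1 lc_g_rc_43_2) (@D3.rec (fun _ => (Cert rels S Gen.g)) lc_g_rc_22_3 lc_g_rc_43_2 lc_g_rc_41_2 lc_g_rc_41_0 lc_g_rc_41_2 lc_g_rc_15_3 lc_g_rc_22_1 lc_g_rc_28_1 lc_g_rc_22_3 lc_g_rc_22_1 lc_g_rc_7_3 lc_g_rc_7_3 lc_g_rc_7_3 lc_g_rc_7_3 lc_g_rc_7_3 lc_g_Cert_tree lc_g_rc_7_3 lc_g_rc_22_3 lc_g_rc_22_3 lc_g_Cert_tree lc_g_rc_22_1 lc_g_rc_41_2 lc_g_rc_42_0 lc_g_rc_43_2 lc_g_rc_33_1 lc_g_Cert_tree lc_g_rc_41_2 lc_g_rc_28_1 lc_g_rc_42_0 lc_g_rc_43_2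 lc_g_rc_22_1 lc_g_rc_28_1) (@D3.rec (fun _ => (Cert rels S Gen.g)) lc_g_rc_43_2 lc_g_rc_41_2 lc_g_rc_28_1 lc_g_rc_7_1 lc_g_rc_7_1 lc_g_rc_22_1 lc_g_rc_42_0 lc_g_rc_43_2 lc_g_rc_22_1 lc_g_rc_43_2 lc_g_rc_41_2 lc_g_rc_41_0 lc_g_rc_41_2 lc_g_rc_28_1 lc_g_rc_22_1 lc_g_rc_43_2 lc_g_rc_33_1 lc_g_rc_43_2 lc_g_rc_41_2 lc_g_rc_28_1 lc_g_rc_41_2 lc_g_rc_28_1 lc_g_rc_22_1 lc_g_rc_28_1 lc_g_rc_22_1 lc_g_rc_15_1 lc_g_rc_15_1 lc_g_rc_22_1 lc_g_rc_28_1 lc_g_Cert_tree lc_g_rc_15_3 lc_g_rc_43_2) (@D3.rec (fun _ => (Cert rels S Gen.g)) lc_g_rc_42_0 lc_g_rc_43_2 lc_g_rc_15_3 lc_g_rc_15_3 lc_g_rc_43_2 lc_g_rc_41_2 lc_g_rc_15_1 lc_g_rc_39_1 lc_g_rc_42_0 lc_g_rc_33_1 lc_g_rc_43_2 lc_g_rc_43_2 lc_g_rc_39_5 lc_g_rc_43_2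 lc_g_rc_41_2 lc_g_rc_28_1 lc_g_rc_33_1 lc_g_rc_41_2 lc_g_rc_28_1 lc_g_rc_22_1 lc_g_rc_41_2 lc_g_rc_28_1 lc_g_rc_22_1 lc_g_rc_28_1 lc_g_rc_22_1 lc_g_rc_33_1 lc_g_rc_15_1 lc_g_rc_28_1 lc_g_rc_22_1 lc_g_rc_28_3 lc_g_rc_39_1 lc_g_rc_22_1) (@D3.rec (fun _ => (Cert rels S Gen.g)) lc_g_rc_33_1 lc_g_rc_28_1 lc_g_rc_22_1 lc_g_rc_7_1 lc_g_rc_15_1 lc_g_rc_47_19 lc_g_rc_28_1 lc_g_rc_15_1 lc_g_rc_15_1 lc_g_Cert_tree lc_g_rc_15_1 lc_g_rc_15_1 lc_g_rc_43_2 lc_g_rc_28_1 lc_g_rc_43_2 lc_g_rc_41_2 lc_g_rc_42_0 lc_g_rc_43_2 lc_g_rc_7_1 lc_g_rc_43_2 lc_g_rc_28_1 lc_g_rc_43_2 lc_g_rc_41_2 lc_g_rc_41_2 lc_g_rc_43_2 lc_g_rc_22_3 lc_g_rc_43_2 lc_g_rc_28_1 lc_g_rc_28_1 lc_g_rc_41_2 lc_g_rc_47_33 lc_g_rc_43_2) (@D3.rec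 (fun _ => (Cert rels S Gen.g)) lc_g_rc_22_1 lc_g_rc_22_1 lc_g_rc_33_1 lc_g_rc_39_3 lc_g_rc_7_1 lc_g_rc_15_1 lc_g_rc_41_2 lc_g_rc_7_1 lc_g_rc_15_1 lc_g_rc_28_1 lc_g_rc_22_3 lc_g_rc_15_1 lc_g_rc_41_2 lc_g_rc_28_1 lc_g_rc_43_2 lc_g_rc_15_1 lc_g_rc_28_1 lc_g_rc_43_2 lc_g_rc_22_1 lc_g_rc_33_1 lc_g_rc_43_2 lc_g_rc_33_1 lc_g_rc_43_2 lc_g_rc_15_1 lc_g_rc_43_2 lc_g_Cert_tree lc_g_rc_43_2 lc_g_rc_41_2 lc_g_rc_7_1 lc_g_Cert_tree lc_g_rc_7_1 lc_g_rc_7_1) (@D3.rec (fun _ => (Cert rels S Gen.g)) lc_g_rc_42_0 lc_g_rc_43_2 lc_g_rc_7_1 lc_g_rc_7_1 lc_g_rc_28_1 lc_g_rc_43_2 lc_g_rc_22_1 lc_g_rc_33_1 lc_g_rc_43_2 lc_g_rc_7_1 lc_g_rc_7_1 lc_g_rc_22_1 lc_g_rc_33_1 lc_g_rc_43_2 lc_g_rc_15_1 lc_g_rc_22_1 lc_g_rc_22_1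 lc_g_Cert_tree lc_g_rc_43_2 lc_g_rc_41_2 lc_g_rc_43_2 lc_g_rc_41_2 lc_g_rc_42_0 lc_g_rc_43_2 lc_g_rc_41_2 lc_g_rc_43_2 lc_g_rc_41_2 lc_g_rc_7_1 lc_g_rc_39_3 lc_g_rc_33_1 lc_g_rc_43_2 lc_g_rc_15_1) (@D3.rec (fun _ => (Cert rels S Gen.g)) lc_g_rc_22_1 lc_g_rc_41_2 lc_g_rc_7_1 lc_g_rc_15_1 lc_g_rc_41_2 lc_g_rc_39_3 lc_g_rc_43_2 lc_g_rc_22_1 lc_g_rc_33_1 lc_g_rc_43_2 lc_g_rc_33_1 lc_g_rc_15_1 lc_g_rc_22_1 lc_g_rc_22_1 lc_g_rc_43_2 lc_g_rc_41_2 lc_g_rc_22_1 lc_g_rc_33_1 lc_g_rc_28_1 lc_g_rc_15_1 lc_g_rc_22_1 lc_g_rc_43_2 lc_g_rc_41_2 lc_g_rc_7_1 lc_g_rc_39_1 lc_g_rc_15_1 lc_g_rc_33_1 lc_g_rc_43_2 lc_g_rc_41_2 lc_g_rc_42_0 lc_g_rc_43_2 lc_g_rc_41_2) (@D3.rec (fun _ => (Cert rels S Gen.g)) lc_g_rc_41_2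 lc_g_rc_43_2 lc_g_rc_22_1 lc_g_rc_28_1 lc_g_rc_41_2 lc_g_rc_22_1 lc_g_rc_22_1 lc_g_rc_43_2 lc_g_rc_43_2 lc_g_rc_39_3 lc_g_rc_7_1 lc_g_rc_15_1 lc_g_rc_41_2 lc_g_rc_7_1 lc_g_rc_22_3 lc_g_rc_28_1 lc_g_rc_22_1 lc_g_rc_7_1 lc_g_rc_15_1 lc_g_rc_7_1 lc_g_rc_22_1 lc_g_rc_41_2 lc_g_rc_28_1 lc_g_rc_43_2 lc_g_rc_15_1 lc_g_rc_15_1 lc_g_rc_28_1 lc_g_rc_43_2 lc_g_rc_22_1 lc_g_rc_33_1 lc_g_rc_43_2 lc_g_rc_7_3) (@D3.rec (fun _ => (Cert rels S Gen.g)) lc_g_rc_7_3 lc_g_rc_22_1 lc_g_rc_33_1 lc_g_rc_43_2 lc_g_rc_15_1 lc_g_rc_22_1 lc_g_rc_22_1 lc_g_Cert_tree lc_g_rc_43_2 lc_g_rc_41_2 lc_g_rc_22_1 lc_g_rc_22_1 lc_g_Cert_tree lc_g_rc_43_2 lc_g_rc_41_2 lc_g_rc_28_1 lc_g_Cert_tree lc_g_rc_22_1 lc_g_rc_41_2 lc_g_rc_42_0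 lc_g_rc_43_2 lc_g_rc_41_2 lc_g_Cert_tree lc_g_rc_41_2 lc_g_rc_28_1 lc_g_rc_42_0 lc_g_rc_43_2 lc_g_rc_22_1 lc_g_rc_28_1 lc_g_rc_43_2 lc_g_rc_41_2 lc_g_rc_28_1) (@D3.rec (fun _ => (Cert rels S Gen.g)) lc_g_rc_7_1 lc_g_rc_7_1 lc_g_rc_7_1 lc_g_rc_22_1 lc_g_rc_33_1 lc_g_rc_43_2 lc_g_rc_15_1 lc_g_rc_42_0 lc_g_rc_22_1 lc_g_Cert_tree lc_g_rc_43_2 lc_g_rc_41_2 lc_g_rc_7_1 lc_g_rc_7_1 lc_g_rc_15_1 lc_g_rc_22_1 lc_g_rc_22_1 lc_g_Cert_tree lc_g_rc_43_2 lc_g_rc_41_2 lc_g_rc_7_1 lc_g_rc_15_1 lc_g_rc_15_1 lc_g_Cert_tree lc_g_rc_22_1 lc_g_rc_41_2 lc_g_rc_42_0 lc_g_rc_43_2 lc_g_rc_41_2 lc_g_rc_42_0 lc_g_rc_43_2 lc_g_rc_41_2) (@D3.rec (fun _ => (Cert rels S Gen.g)) lc_g_rc_43_2 lc_g_rc_41_2 lc_g_rc_28_1 lc_g_rc_41_2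 lc_g_rc_22_1 lc_g_rc_22_1 lc_g_rc_7_1 lc_g_rc_15_1 lc_g_rc_7_1 lc_g_rc_41_2 lc_g_rc_43_2 lc_g_rc_22_1 lc_g_rc_43_2 lc_g_rc_41_2 lc_g_rc_15_3 lc_g_rc_15_1 lc_g_rc_41_2 lc_g_rc_43_2 lc_g_rc_41_2 lc_g_rc_42_0 lc_g_rc_43_2 lc_g_rc_41_2 lc_g_rc_43_2 lc_g_rc_15_3 lc_g_rc_7_1 lc_g_rc_15_1 lc_g_rc_22_1 lc_g_rc_41_2 lc_g_rc_42_0 lc_g_rc_43_2 lc_g_rc_41_2 lc_g_rc_7_1) (@D3.rec (fun _ => (Cert rels S Gen.g)) lc_g_rc_7_1 lc_g_rc_15_3 lc_g_rc_43_2 lc_g_rc_15_1 lc_g_rc_42_0 lc_g_rc_43_2 lc_g_rc_41_2 lc_g_rc_43_2 lc_g_rc_41_2 lc_g_rc_28_1 lc_g_rc_43_2 lc_g_rc_39_3 lc_g_rc_28_1 lc_g_rc_41_2 lc_g_rc_28_1 lc_g_rc_22_1 lc_g_rc_7_1 lc_g_rc_22_1 lc_g_rc_22_1 lc_g_rc_28_1 lc_g_rc_43_2 lc_g_rc_22_1 lc_g_rc_33_1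 lc_g_rc_43_2 lc_g_rc_15_1 lc_g_rc_15_1 lc_g_rc_22_1 lc_g_rc_33_1 lc_g_rc_43_2 lc_g_rc_15_1 lc_g_rc_22_1 lc_g_rc_22_1) (@D3.rec (fun _ => (Cert rels S Gen.g)) lc_g_rc_43_2 lc_g_rc_15_1 lc_g_rc_22_1 lc_g_rc_7_1 lc_g_rc_7_1 lc_g_rc_15_3 lc_g_rc_43_2 lc_g_rc_15_1 lc_g_rc_22_1 lc_g_rc_43_2 lc_g_rc_7_1 lc_g_rc_7_1 lc_g_rc_15_1 lc_g_rc_28_1 lc_g_rc_28_3 lc_g_rc_15_1 lc_g_rc_15_1 lc_g_rc_15_1 lc_g_rc_15_1 lc_g_rc_22_1 lc_g_rc_43_2 lc_g_rc_7_3 lc_g_rc_22_1 lc_g_rc_41_2 lc_g_rc_28_1 lc_g_rc_22_1 lc_g_rc_41_2 lc_g_rc_33_1 lc_g_rc_43_2 lc_g_rc_15_1 lc_g_rc_39_3 lc_g_rc_43_2) (@D3.rec (fun _ => (Cert rels S Gen.g)) lc_g_rc_15_1 lc_g_rc_28_1 lc_g_rc_33_1 lc_g_rc_22_3 lc_g_rc_28_3 lc_g_rc_28_1 lc_g_rc_43_2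 lc_g_rc_22_1 lc_g_rc_22_3 lc_g_rc_43_2 lc_g_rc_15_1 lc_g_rc_41_0 lc_g_rc_28_3 lc_g_rc_7_1 lc_g_rc_7_3 lc_g_rc_7_1 lc_g_rc_7_1 lc_g_rc_28_3 lc_g_rc_7_1 lc_g_rc_22_3 lc_g_rc_22_1 lc_g_rc_43_2 lc_g_rc_15_1 lc_g_rc_22_1 lc_g_rc_22_3 lc_g_rc_41_2 lc_g_rc_41_2 lc_g_rc_7_1 lc_g_rc_15_1 lc_g_rc_22_1 lc_g_rc_41_2 lc_g_rc_39_3) (@D3.rec (fun _ => (Cert rels S Gen.g)) lc_g_rc_15_1 lc_g_rc_41_2 lc_g_rc_22_3 lc_g_rc_22_1 lc_g_rc_41_2 lc_g_rc_33_3 lc_g_rc_43_2 lc_g_rc_41_2 lc_g_rc_22_3 lc_g_rc_41_2 lc_g_rc_43_2 lc_g_rc_15_1 lc_g_rc_28_1 lc_g_rc_15_3 lc_g_rc_22_1 lc_g_rc_41_2 lc_g_rc_28_1 lc_g_rc_43_2 lc_g_rc_15_1 lc_g_rc_28_1 lc_g_rc_43_2 lc_g_rc_22_1 lc_g_rc_33_1 lc_g_rc_43_2 lc_g_rc_15_1 lc_g_rc_15_1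 lc_g_rc_22_1 lc_g_rc_33_1 lc_g_rc_43_2 lc_g_rc_15_1 lc_g_rc_22_1 lc_g_rc_22_1) (@D3.rec (fun _ => (Cert rels S Gen.g)) lc_g_Cert_tree lc_g_rc_43_2 lc_g_rc_41_2 lc_g_rc_22_1 lc_g_rc_22_1 lc_g_Cert_tree lc_g_rc_43_2 lc_g_rc_28_1 lc_g_Cert_tree lc_g_rc_22_1 lc_g_rc_22_1 lc_g_rc_42_0 lc_g_rc_43_2 lc_g_rc_39_5 lc_g_Cert_tree lc_g_rc_7_1 lc_g_rc_7_1 lc_g_rc_42_0 lc_g_rc_43_2 lc_g_rc_7_1 lc_g_rc_7_1 lc_g_rc_43_2 lc_g_rc_41_2 lc_g_rc_7_1 lc_g_rc_7_1 lc_g_rc_7_1 lc_g_rc_22_1 lc_g_rc_43_2 lc_g_rc_15_1 lc_g_rc_33_1 lc_g_rc_22_1 lc_g_rc_7_1) (@D3.rec (fun _ => (Cert rels S Gen.g)) lc_g_rc_43_2 lc_g_rc_41_2 lc_g_rc_7_1 lc_g_rc_7_1 lc_g_rc_15_1 lc_g_rc_22_1 lc_g_rc_22_1 lc_g_rc_22_1 lc_g_rc_43_2 lc_g_rc_41_2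 lc_g_rc_28_1 lc_g_rc_15_1 lc_g_rc_15_1 lc_g_rc_39_1 lc_g_rc_22_1 lc_g_rc_41_2 lc_g_rc_42_0 lc_g_rc_43_2 lc_g_rc_41_2 lc_g_rc_42_0 lc_g_rc_43_2 lc_g_rc_43_2 lc_g_rc_41_2 lc_g_rc_7_1 lc_g_rc_41_2 lc_g_rc_7_1 lc_g_rc_22_1 lc_g_rc_15_1 lc_g_rc_41_2 lc_g_rc_43_2 lc_g_rc_15_1 lc_g_rc_28_1)
def ce_g_9 : D2 → D3 → (Cert rels S Gen.g) := @D2.rec (fun _ => D3 → (Cert rels S Gen.g)) (@D3.rec (fun _ => (Cert rels S Gen.g)) lc_g_rc_43_2 lc_g_rc_22_1 lc_g_rc_41_2 lc_g_rc_28_1 lc_g_rc_43_2 lc_g_rc_43_2 lc_g_rc_41_2 lc_g_rc_43_2 lc_g_rc_43_2 lc_g_rc_33_1 lc_g_rc_39_3 lc_g_rc_22_1 lc_g_rc_41_2 lc_g_rc_43_2 lc_g_rc_41_2 lc_g_rc_28_1 lc_g_rc_43_2 lc_g_rc_43_2 lc_g_rc_15_1 lc_g_rc_43_2 lc_g_rc_41_2 lc_g_rc_28_1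 lc_g_rc_43_2 lc_g_rc_41_2 lc_g_rc_43_0 lc_g_rc_43_2 lc_g_rc_41_2 lc_g_rc_43_2 lc_g_rc_28_1 lc_g_rc_15_3 lc_g_rc_28_1 lc_g_rc_33_1) (@D3.rec (fun _ => (Cert rels S Gen.g)) lc_g_rc_28_1 lc_g_rc_39_5 lc_g_rc_15_3 lc_g_rc_22_3 lc_g_rc_22_1 lc_g_rc_43_2 lc_g_rc_7_3 lc_g_rc_15_3 lc_g_rc_22_1 lc_g_rc_7_1 lc_g_rc_22_3 lc_g_rc_41_2 lc_g_rc_22_1 lc_g_rc_33_3 lc_g_rc_7_1 lc_g_rc_41_0 lc_g_rc_41_2 lc_g_rc_28_3 lc_g_Cert_tree lc_g_rc_39_5 lc_g_rc_28_1 lc_g_rc_42_0 lc_g_rc_43_2 lc_g_rc_22_1 lc_g_rc_28_1 lc_g_rc_43_2 lc_g_rc_41_2 lc_g_rc_28_1 lc_g_rc_7_3 lc_g_rc_7_1 lc_g_rc_22_3 lc_g_rc_41_2) (@D3.rec (fun _ => (Cert rels S Gen.g)) lc_g_rc_7_3 lc_g_rc_7_3 lc_g_rc_7_1 lc_g_rc_7_1 lc_g_rc_15_3 lc_g_rc_15_3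 lc_g_rc_22_3 lc_g_rc_41_2 lc_g_rc_43_2 lc_g_rc_22_1 lc_g_rc_15_3 lc_g_rc_43_2 lc_g_rc_15_3 lc_g_rc_15_1 lc_g_rc_22_1 lc_g_rc_22_1 lc_g_rc_28_1 lc_g_rc_43_2 lc_g_rc_22_1 lc_g_rc_33_1 lc_g_rc_43_2 lc_g_rc_15_1 lc_g_rc_15_1 lc_g_rc_22_1 lc_g_rc_33_1 lc_g_rc_43_2 lc_g_rc_7_3 lc_g_rc_22_1 lc_g_rc_22_1 lc_g_Cert_tree lc_g_rc_7_3 lc_g_rc_41_2) (@D3.rec (fun _ => (Cert rels S Gen.g)) lc_g_rc_22_1 lc_g_rc_22_1 lc_g_Cert_tree lc_g_rc_43_2 lc_g_rc_41_2 lc_g_rc_28_1 lc_g_rc_7_3 lc_g_rc_7_3 lc_g_rc_28_1 lc_g_Cert_tree lc_g_rc_22_1 lc_g_rc_41_2 lc_g_rc_42_0 lc_g_rc_43_2 lc_g_rc_41_2 lc_g_rc_28_1 lc_g_Cert_tree lc_g_rc_22_1 lc_g_rc_41_2 lc_g_rc_42_0 lc_g_rc_43_2 lc_g_rc_41_2 lc_g_Cert_tree lc_g_rc_41_2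 lc_g_rc_28_1 lc_g_rc_42_0 lc_g_rc_43_2 lc_g_rc_41_2 lc_g_rc_28_1 lc_g_rc_43_2 lc_g_rc_41_2 lc_g_rc_43_2) (@D3.rec (fun _ => (Cert rels S Gen.g)) lc_g_rc_41_2 lc_g_rc_42_0 lc_g_rc_33_1 lc_g_rc_43_2 lc_g_rc_43_2 lc_g_rc_39_5 lc_g_rc_43_2 lc_g_rc_41_2 lc_g_rc_28_1 lc_g_rc_33_1 lc_g_rc_41_2 lc_g_rc_43_2 lc_g_rc_22_1 lc_g_rc_39_3 lc_g_rc_41_2 lc_g_rc_41_2 lc_g_rc_7_3 lc_g_rc_7_3 lc_g_rc_22_3 lc_g_rc_7_1 lc_g_rc_22_1 lc_g_rc_42_0 lc_g_rc_43_2 lc_g_rc_7_1 lc_g_rc_42_0 lc_g_rc_43_2 lc_g_rc_41_2 lc_g_rc_33_1 lc_g_rc_43_2 lc_g_Cert_tree lc_g_rc_7_3 lc_g_rc_22_3) (@D3.rec (fun _ => (Cert rels S Gen.g)) lc_g_rc_42_0 lc_g_rc_43_2 lc_g_rc_22_1 lc_g_rc_43_2 lc_g_rc_41_2 lc_g_rc_43_0 lc_g_rc_43_2 lc_g_rc_41_2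 lc_g_rc_41_2 lc_g_rc_43_2 lc_g_rc_43_2 lc_g_rc_15_1 lc_g_rc_42_0 lc_g_rc_43_2 lc_g_rc_43_2 lc_g_rc_22_3 lc_g_rc_15_1 lc_g_rc_33_1 lc_g_rc_43_2 lc_g_rc_41_2 lc_g_rc_43_2 lc_g_rc_41_2 lc_g_rc_41_0 lc_g_rc_43_2 lc_g_rc_22_3 lc_g_rc_43_2 lc_g_rc_22_3 lc_g_rc_43_2 lc_g_rc_41_2 lc_g_rc_28_1 lc_g_rc_41_2 lc_g_rc_43_0) (@D3.rec (fun _ => (Cert rels S Gen.g)) lc_g_rc_15_3 lc_g_rc_41_2 lc_g_rc_28_1 lc_g_rc_43_2 lc_g_rc_28_1 lc_g_rc_33_1 lc_g_rc_43_2 lc_g_rc_22_1 lc_g_rc_15_1 lc_g_rc_33_1 lc_g_rc_43_2 lc_g_rc_22_3 lc_g_rc_22_1 lc_g_rc_28_1 lc_g_Cert_tree lc_g_rc_43_2 lc_g_rc_41_2 lc_g_rc_22_1 lc_g_rc_22_1 lc_g_rc_41_0 lc_g_rc_22_1 lc_g_rc_22_1 lc_g_rc_22_3 lc_g_Cert_tree lc_g_rc_22_1 lc_g_rc_41_2 lc_g_Cert_tree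 lc_g_rc_22_3 lc_g_rc_43_2 lc_g_rc_42_0 lc_g_rc_43_2 lc_g_rc_15_3) (@D3.rec (fun _ => (Cert rels S Gen.g)) lc_g_rc_15_3 lc_g_rc_43_2 lc_g_rc_41_2 lc_g_rc_15_1 lc_g_Cert_tree lc_g_rc_41_2 lc_g_rc_28_1 lc_g_rc_42_0 lc_g_rc_43_2 lc_g_rc_41_2 lc_g_rc_28_1 lc_g_rc_43_2 lc_g_rc_41_2 lc_g_rc_28_1 lc_g_rc_33_3 lc_g_rc_42_0 lc_g_rc_33_1 lc_g_rc_43_2 lc_g_rc_43_2 lc_g_rc_41_2 lc_g_rc_43_2 lc_g_rc_41_2 lc_g_rc_28_1 lc_g_rc_33_1 lc_g_rc_41_2 lc_g_rc_15_1 lc_g_rc_22_1 lc_g_rc_43_2 lc_g_rc_43_2 lc_g_rc_43_2 lc_g_rc_41_2 lc_g_rc_43_2) (@D3.rec (fun _ => (Cert rels S Gen.g)) lc_g_rc_41_2 lc_g_rc_41_2 lc_g_rc_28_1 lc_g_Cert_tree lc_g_rc_43_2 lc_g_rc_28_1 lc_g_rc_42_0 lc_g_rc_43_2 lc_g_rc_33_1 lc_g_rc_43_2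 lc_g_rc_41_2 lc_g_rc_41_0 lc_g_rc_41_2 lc_g_rc_22_1 lc_g_rc_22_1 lc_g_rc_41_2 lc_g_rc_43_2 lc_g_rc_22_1 lc_g_rc_15_1 lc_g_rc_42_0 lc_g_rc_43_2 lc_g_rc_33_1 lc_g_rc_43_2 lc_g_rc_41_2 lc_g_rc_41_0 lc_g_rc_41_2 lc_g_rc_22_1 lc_g_rc_22_1 lc_g_rc_7_3 lc_g_rc_28_1 lc_g_rc_15_1 lc_g_rc_33_1) (@D3.rec (fun _ => (Cert rels S Gen.g)) lc_g_rc_28_1 lc_g_rc_39_5 lc_g_Cert_tree lc_g_rc_15_1 lc_g_Cert_tree lc_g_rc_42_0 lc_g_rc_28_1 lc_g_Cert_tree lc_g_rc_42_0 lc_g_Cert_tree lc_g_rc_41_2 lc_g_rc_22_1 lc_g_rc_42_0 lc_g_rc_43_2 lc_g_rc_7_1 lc_g_rc_15_1 lc_g_rc_43_2 lc_g_rc_41_2 lc_g_rc_33_3 lc_g_rc_42_0 lc_g_rc_33_1 lc_g_rc_43_2 lc_g_rc_43_2 lc_g_rc_41_2 lc_g_rc_41_2 lc_g_rc_7_1 lc_g_rc_42_0 lc_g_rc_41_2 lc_g_rc_15_3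 lc_g_rc_43_2 lc_g_rc_22_1 lc_g_rc_22_1) (@D3.rec (fun _ => (Cert rels S Gen.g)) lc_g_rc_28_1 lc_g_rc_42_0 lc_g_rc_7_3 lc_g_rc_28_3 lc_g_rc_43_2 lc_g_rc_41_2 lc_g_rc_41_2 lc_g_rc_33_1 lc_g_rc_33_1 lc_g_rc_43_2 lc_g_rc_22_1 lc_g_rc_28_1 lc_g_Cert_tree lc_g_rc_43_2 lc_g_rc_41_2 lc_g_rc_7_3 lc_g_Cert_tree lc_g_rc_22_1 lc_g_rc_42_0 lc_g_rc_43_2 lc_g_Cert_tree lc_g_rc_7_3 lc_g_rc_42_0 lc_g_Cert_tree lc_g_rc_41_2 lc_g_rc_42_0 lc_g_rc_33_3 lc_g_rc_42_0 lc_g_rc_41_2 lc_g_rc_43_2 lc_g_rc_43_2 lc_g_rc_47_12) (@D3.rec (fun _ => (Cert rels S Gen.g)) lc_g_rc_43_2 lc_g_rc_41_2 lc_g_rc_39_5 lc_g_rc_15_3 lc_g_rc_41_2 lc_g_rc_28_1 lc_g_rc_33_1 lc_g_rc_43_2 lc_g_rc_43_2 lc_g_rc_43_2 lc_g_rc_15_3 lc_g_rc_41_2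 lc_g_rc_28_1 lc_g_rc_7_3 lc_g_rc_43_2 lc_g_rc_39_3 lc_g_rc_33_1 lc_g_rc_43_2 lc_g_rc_28_1 lc_g_rc_43_2 lc_g_rc_41_2 lc_g_rc_43_2 lc_g_rc_41_2 lc_g_rc_42_0 lc_g_rc_43_2 lc_g_rc_41_2 lc_g_rc_33_3 lc_g_rc_42_0 lc_g_rc_39_3 lc_g_rc_43_2 lc_g_rc_43_2 lc_g_rc_41_2) (@D3.rec (fun _ => (Cert rels S Gen.g)) lc_g_rc_43_2 lc_g_rc_41_2 lc_g_rc_28_1 lc_g_rc_33_1 lc_g_rc_41_2 lc_g_rc_15_1 lc_g_rc_22_1 lc_g_rc_43_2 lc_g_rc_43_2 lc_g_rc_43_2 lc_g_rc_41_2 lc_g_rc_43_2 lc_g_rc_28_1 lc_g_rc_41_2 lc_g_rc_28_1 lc_g_rc_22_1 lc_g_rc_33_1 lc_g_rc_15_1 lc_g_rc_41_2 lc_g_rc_15_3 lc_g_rc_28_1 lc_g_rc_15_1 lc_g_rc_22_3 lc_g_rc_22_1 lc_g_rc_41_2 lc_g_rc_41_2 lc_g_rc_43_2 lc_g_rc_28_3 lc_g_rc_33_1 lc_g_rc_43_2 lc_g_rc_39_3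 lc_g_rc_43_2) (@D3.rec (fun _ => (Cert rels S Gen.g)) lc_g_rc_22_3 lc_g_rc_22_3 lc_g_Cert_tree lc_g_rc_22_1 lc_g_rc_41_2 lc_g_rc_42_0 lc_g_rc_43_2 lc_g_rc_33_1 lc_g_Cert_tree lc_g_rc_7_1 lc_g_rc_7_1 lc_g_rc_42_0 lc_g_rc_43_2 lc_g_rc_7_1 lc_g_rc_7_1 lc_g_rc_43_2 lc_g_rc_41_2 lc_g_rc_7_1 lc_g_rc_28_3 lc_g_rc_43_2 lc_g_rc_43_2 lc_g_rc_22_3 lc_g_rc_28_3 lc_g_rc_43_2 lc_g_rc_43_2 lc_g_rc_15_3 lc_g_rc_43_2 lc_g_rc_22_3 lc_g_rc_43_2 lc_g_rc_41_2 lc_g_rc_41_0 lc_g_rc_41_2) (@D3.rec (fun _ => (Cert rels S Gen.g)) lc_g_rc_22_1 lc_g_rc_22_1 lc_g_rc_7_1 lc_g_rc_28_1 lc_g_rc_15_1 lc_g_rc_22_3 lc_g_rc_15_1 lc_g_rc_28_1 lc_g_rc_15_3 lc_g_rc_28_1 lc_g_rc_41_2 lc_g_rc_22_1 lc_g_rc_22_1 lc_g_rc_33_1 lc_g_rc_7_3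 lc_g_rc_22_3 lc_g_rc_22_3 lc_g_rc_7_3 lc_g_rc_7_3 lc_g_rc_7_1 lc_g_rc_7_3 lc_g_rc_22_3 lc_g_rc_7_3 lc_g_Cert_tree lc_g_rc_7_3 lc_g_rc_15_1 lc_g_rc_42_0 lc_g_rc_43_2 lc_g_rc_22_3 lc_g_Cert_tree lc_g_rc_22_3 lc_g_rc_22_3) (@D3.rec (fun _ => (Cert rels S Gen.g)) lc_g_rc_42_0 lc_g_rc_43_2 lc_g_rc_39_5 lc_g_rc_41_2 lc_g_rc_43_2 lc_g_rc_41_2 lc_g_rc_41_0 lc_g_rc_41_2 lc_g_rc_42_0 lc_g_rc_33_1 lc_g_rc_43_2 lc_g_rc_43_2 lc_g_rc_39_5 lc_g_rc_43_2 lc_g_rc_41_2 lc_g_rc_28_1 lc_g_rc_33_1 lc_g_rc_41_2 lc_g_rc_28_1 lc_g_rc_22_1 lc_g_rc_7_1 lc_g_rc_33_1 lc_g_rc_43_2 lc_g_rc_41_2 lc_g_rc_28_1 lc_g_rc_41_2 lc_g_rc_28_1 lc_g_rc_22_1 lc_g_rc_28_1 lc_g_rc_22_1 lc_g_rc_15_3 lc_g_rc_15_1) (@D3.rec (fun _ => (Cert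 rels S Gen.g)) lc_g_rc_15_1 lc_g_rc_43_2 lc_g_rc_41_2 lc_g_rc_28_1 lc_g_rc_22_1 lc_g_rc_28_1 lc_g_rc_22_1 lc_g_rc_15_1 lc_g_rc_39_1 lc_g_rc_7_1 lc_g_Cert_tree lc_g_rc_33_1 lc_g_rc_28_3 lc_g_rc_39_1 lc_g_rc_42_0 lc_g_rc_33_1 lc_g_rc_43_2 lc_g_rc_43_2 lc_g_rc_15_3 lc_g_rc_43_2 lc_g_rc_41_2 lc_g_rc_15_3 lc_g_rc_15_3 lc_g_rc_41_2 lc_g_rc_28_1 lc_g_rc_22_1 lc_g_rc_43_2 lc_g_rc_43_2 lc_g_rc_43_2 lc_g_rc_41_2 lc_g_rc_43_2 lc_g_rc_41_2) (@D3.rec (fun _ => (Cert rels S Gen.g)) lc_g_rc_41_2 lc_g_rc_28_1 lc_g_rc_22_1 lc_g_rc_33_1 lc_g_rc_28_1 lc_g_rc_15_1 lc_g_rc_15_3 lc_g_rc_15_1 lc_g_rc_28_1 lc_g_rc_22_1 lc_g_rc_28_3 lc_g_rc_7_3 lc_g_rc_22_1 lc_g_rc_33_1 lc_g_rc_7_1 lc_g_rc_7_3 lc_g_rc_7_1 lc_g_rc_39_1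 lc_g_rc_22_1 lc_g_rc_28_1 lc_g_rc_15_1 lc_g_rc_15_1 lc_g_rc_41_2 lc_g_Cert_tree lc_g_rc_42_0 lc_g_rc_43_2 lc_g_rc_41_2 lc_g_rc_43_2 lc_g_rc_22_3 lc_g_rc_43_2 lc_g_rc_28_1 lc_g_rc_41_2) (@D3.rec (fun _ => (Cert rels S Gen.g)) lc_g_rc_7_1 lc_g_rc_43_2 lc_g_rc_22_1 lc_g_rc_7_1 lc_g_rc_22_3 lc_g_rc_7_1 lc_g_rc_15_1 lc_g_rc_7_1 lc_g_rc_28_1 lc_g_rc_41_2 lc_g_rc_15_1 lc_g_rc_28_1 lc_g_rc_43_2 lc_g_rc_22_1 lc_g_rc_33_1 lc_g_rc_43_2 lc_g_rc_15_1 lc_g_rc_15_1 lc_g_rc_22_1 lc_g_rc_33_1 lc_g_rc_43_2 lc_g_rc_15_1 lc_g_rc_22_1 lc_g_rc_22_1 lc_g_Cert_tree lc_g_rc_43_2 lc_g_rc_41_2 lc_g_rc_43_2 lc_g_rc_41_2 lc_g_rc_22_3 lc_g_Cert_tree lc_g_rc_43_2) (@D3.rec (fun _ => (Cert rels S Gen.g)) lc_g_rc_7_3 lc_g_rc_42_0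 lc_g_rc_43_2 lc_g_rc_41_2 lc_g_Cert_tree lc_g_rc_42_0 lc_g_rc_43_2 lc_g_rc_43_2 lc_g_rc_41_2 lc_g_rc_7_1 lc_g_rc_7_1 lc_g_rc_22_1 lc_g_rc_33_1 lc_g_rc_43_2 lc_g_rc_15_1 lc_g_rc_22_1 lc_g_rc_22_1 lc_g_rc_39_1 lc_g_rc_43_2 lc_g_rc_41_2 lc_g_rc_22_1 lc_g_rc_7_1 lc_g_rc_7_1 lc_g_rc_15_1 lc_g_rc_22_1 lc_g_rc_43_2 lc_g_rc_41_2 lc_g_rc_7_1 lc_g_rc_22_3 lc_g_rc_15_1 lc_g_rc_7_1 lc_g_rc_43_2) (@D3.rec (fun _ => (Cert rels S Gen.g)) lc_g_rc_41_2 lc_g_rc_42_0 lc_g_rc_43_2 lc_g_rc_41_2 lc_g_rc_41_2 lc_g_rc_43_2 lc_g_rc_22_1 lc_g_rc_28_1 lc_g_rc_41_2 lc_g_rc_28_1 lc_g_rc_28_3 lc_g_rc_43_2 lc_g_rc_43_2 lc_g_rc_28_3 lc_g_rc_7_1 lc_g_rc_15_1 lc_g_rc_41_2 lc_g_rc_7_1 lc_g_rc_15_1 lc_g_rc_28_1 lc_g_rc_43_2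 lc_g_rc_22_1 lc_g_rc_43_2 lc_g_rc_41_2 lc_g_rc_7_1 lc_g_rc_43_2 lc_g_rc_43_2 lc_g_rc_41_2 lc_g_rc_43_2 lc_g_rc_41_2 lc_g_rc_43_2 lc_g_rc_33_1) (@D3.rec (fun _ => (Cert rels S Gen.g)) lc_g_rc_39_3 lc_g_rc_7_1 lc_g_rc_15_1 lc_g_rc_41_2 lc_g_rc_41_2 lc_g_rc_39_1 lc_g_rc_7_1 lc_g_rc_43_2 lc_g_rc_15_1 lc_g_rc_43_2 lc_g_rc_43_0 lc_g_rc_28_1 lc_g_rc_43_2 lc_g_rc_41_2 lc_g_rc_28_1 lc_g_rc_28_1 lc_g_rc_22_1 lc_g_rc_22_1 lc_g_rc_22_1 lc_g_rc_7_1 lc_g_rc_28_1 lc_g_rc_33_1 lc_g_rc_28_1 lc_g_rc_28_1 lc_g_rc_7_1 lc_g_rc_22_1 lc_g_rc_22_1 lc_g_rc_28_1 lc_g_rc_43_2 lc_g_rc_22_1 lc_g_rc_28_3 lc_g_rc_43_2)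
def ce_g_10 : D2 → D3 → (Cert rels S Gen.g) := @D2.rec (fun _ => D3 → (Cert rels S Gen.g)) (@D3.rec (fun _ => (Cert rels S Gen.g)) lc_g_rc_15_1 lc_g_rc_7_3 lc_g_rc_15_1 lc_g_rc_22_1 lc_g_rc_33_1 lc_g_rc_43_2 lc_g_rc_15_1 lc_g_rc_22_1 lc_g_rc_22_1 lc_g_Cert_tree lc_g_rc_43_2 lc_g_rc_41_2 lc_g_rc_7_3 lc_g_rc_15_1 lc_g_rc_15_1 lc_g_rc_15_1 lc_g_rc_22_1 lc_g_rc_22_1 lc_g_Cert_tree lc_g_rc_43_2 lc_g_rc_41_2 lc_g_rc_7_1 lc_g_rc_15_1 lc_g_rc_15_1 lc_g_rc_28_1 lc_g_Cert_tree lc_g_rc_22_1 lc_g_rc_41_2 lc_g_rc_42_0 lc_g_rc_43_2 lc_g_rc_41_2 lc_g_rc_28_1) (@D3.rec (fun _ => (Cert rels S Gen.g)) lc_g_Cert_tree lc_g_rc_22_1 lc_g_rc_41_2 lc_g_rc_42_0 lc_g_rc_43_2 lc_g_rc_41_2 lc_g_Cert_tree lc_g_rc_33_1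 lc_g_rc_28_1 lc_g_rc_42_0 lc_g_rc_43_2 lc_g_rc_41_2 lc_g_rc_28_1 lc_g_rc_43_2 lc_g_rc_41_2 lc_g_rc_28_1 lc_g_rc_41_2 lc_g_rc_42_0 lc_g_rc_33_1 lc_g_rc_43_2 lc_g_rc_43_2 lc_g_rc_41_2 lc_g_rc_41_2 lc_g_rc_28_1 lc_g_rc_41_2 lc_g_rc_7_1 lc_g_rc_15_1 lc_g_rc_22_1 lc_g_rc_43_2 lc_g_rc_41_2 lc_g_rc_15_1 lc_g_rc_22_3) (@D3.rec (fun _ => (Cert rels S Gen.g)) lc_g_rc_15_1 lc_g_rc_41_2 lc_g_rc_43_2 lc_g_rc_41_2 lc_g_rc_42_0 lc_g_rc_43_2 lc_g_rc_41_2 lc_g_rc_7_1 lc_g_rc_22_1 lc_g_rc_7_1 lc_g_rc_15_1 lc_g_rc_15_1 lc_g_rc_22_1 lc_g_rc_41_2 lc_g_rc_42_0 lc_g_rc_43_2 lc_g_rc_41_2 lc_g_rc_7_1 lc_g_rc_7_1 lc_g_Cert_tree lc_g_rc_15_1 lc_g_rc_15_1 lc_g_rc_42_0 lc_g_rc_43_2 lc_g_rc_41_2 lc_g_rc_43_2 lc_g_rc_41_2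 lc_g_rc_28_1 lc_g_rc_43_2 lc_g_rc_39_3 lc_g_rc_28_1 lc_g_rc_41_2) (@D3.rec (fun _ => (Cert rels S Gen.g)) lc_g_rc_28_1 lc_g_rc_22_1 lc_g_rc_7_1 lc_g_rc_15_3 lc_g_rc_41_2 lc_g_rc_41_2 lc_g_rc_22_3 lc_g_rc_15_1 lc_g_rc_43_2 lc_g_rc_15_1 lc_g_rc_43_2 lc_g_rc_41_2 lc_g_rc_28_1 lc_g_rc_15_3 lc_g_rc_7_1 lc_g_rc_15_1 lc_g_rc_41_2 lc_g_rc_43_2 lc_g_rc_41_2 lc_g_rc_28_1 lc_g_rc_22_1 lc_g_rc_7_1 lc_g_rc_7_1 lc_g_rc_15_3 lc_g_rc_15_1 lc_g_rc_43_2 lc_g_rc_41_2 lc_g_rc_28_1 lc_g_rc_41_2 lc_g_rc_28_1 lc_g_rc_22_1 lc_g_rc_39_3) (@D3.rec (fun _ => (Cert rels S Gen.g)) lc_g_rc_22_1 lc_g_rc_33_1 lc_g_rc_39_5 lc_g_rc_15_3 lc_g_rc_22_1 lc_g_rc_22_1 lc_g_rc_33_1 lc_g_rc_43_2 lc_g_rc_15_1 lc_g_rc_22_1 lc_g_rc_22_1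 lc_g_Cert_tree lc_g_rc_43_2 lc_g_rc_41_2 lc_g_rc_15_1 lc_g_rc_15_1 lc_g_rc_22_1 lc_g_rc_22_1 lc_g_rc_43_2 lc_g_rc_7_1 lc_g_rc_7_1 lc_g_rc_15_1 lc_g_rc_15_3 lc_g_rc_22_1 lc_g_rc_7_1 lc_g_rc_15_1 lc_g_rc_28_3 lc_g_rc_28_1 lc_g_rc_22_1 lc_g_rc_41_2 lc_g_rc_33_1 lc_g_rc_15_1) (@D3.rec (fun _ => (Cert rels S Gen.g)) lc_g_rc_22_1 lc_g_rc_43_2 lc_g_rc_22_1 lc_g_rc_33_1 lc_g_rc_41_2 lc_g_rc_15_3 lc_g_rc_22_3 lc_g_rc_22_1 lc_g_rc_43_2 lc_g_rc_15_1 lc_g_rc_15_3 lc_g_rc_22_1 lc_g_rc_33_1 lc_g_rc_41_2 lc_g_rc_15_1 lc_g_rc_39_1 lc_g_rc_7_3 lc_g_rc_43_2 lc_g_rc_41_2 lc_g_rc_33_1 lc_g_rc_15_1 lc_g_rc_22_1 lc_g_rc_41_2 lc_g_rc_22_3 lc_g_rc_15_1 lc_g_rc_41_2 lc_g_rc_33_1 lc_g_rc_15_1 lc_g_rc_41_2 lc_g_rc_43_2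 lc_g_rc_15_1 lc_g_rc_28_1) (@D3.rec (fun _ => (Cert rels S Gen.g)) lc_g_rc_41_2 lc_g_rc_43_2 lc_g_rc_15_1 lc_g_rc_28_1 lc_g_rc_28_1 lc_g_rc_33_1 lc_g_rc_15_1 lc_g_rc_22_3 lc_g_rc_22_1 lc_g_rc_28_1 lc_g_rc_43_2 lc_g_rc_22_1 lc_g_rc_33_1 lc_g_rc_43_2 lc_g_rc_15_1 lc_g_rc_15_1 lc_g_rc_22_1 lc_g_rc_43_2 lc_g_rc_15_1 lc_g_rc_33_1 lc_g_rc_22_1 lc_g_rc_7_3 lc_g_rc_43_2 lc_g_rc_41_2 lc_g_rc_22_1 lc_g_rc_15_1 lc_g_rc_15_1 lc_g_rc_15_1 lc_g_rc_22_1 lc_g_rc_22_1 lc_g_rc_22_3 lc_g_rc_43_2) (@D3.rec (fun _ => (Cert rels S Gen.g)) lc_g_rc_41_2 lc_g_rc_7_1 lc_g_rc_15_1 lc_g_rc_15_1 lc_g_rc_28_1 lc_g_Cert_tree lc_g_rc_22_1 lc_g_rc_41_2 lc_g_rc_42_0 lc_g_rc_43_2 lc_g_rc_41_2 lc_g_rc_28_1 lc_g_Cert_tree lc_g_rc_22_1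 lc_g_rc_42_0 lc_g_rc_43_2 lc_g_Cert_tree lc_g_rc_41_2 lc_g_rc_28_1 lc_g_rc_42_0 lc_g_rc_43_2 lc_g_rc_22_1 lc_g_rc_28_1 lc_g_rc_43_2 lc_g_rc_41_2 lc_g_rc_7_1 lc_g_rc_41_2 lc_g_rc_42_0 lc_g_rc_33_1 lc_g_rc_43_2 lc_g_rc_43_2 lc_g_rc_41_2) (@D3.rec (fun _ => (Cert rels S Gen.g)) lc_g_rc_41_2 lc_g_rc_7_1 lc_g_rc_7_1 lc_g_rc_15_1 lc_g_rc_22_1 lc_g_rc_41_2 lc_g_rc_7_1 lc_g_rc_33_1 lc_g_rc_15_1 lc_g_rc_43_2 lc_g_rc_41_2 lc_g_rc_7_1 lc_g_rc_43_2 lc_g_rc_7_1 lc_g_rc_7_1 lc_g_rc_15_1 lc_g_rc_15_1 lc_g_rc_22_1 lc_g_rc_41_2 lc_g_rc_43_2 lc_g_rc_41_2 lc_g_rc_7_1 lc_g_rc_43_2 lc_g_rc_39_1 lc_g_rc_15_1 lc_g_rc_15_1 lc_g_rc_43_2 lc_g_rc_41_2 lc_g_rc_28_1 lc_g_rc_43_2 lc_g_rc_41_2 lc_g_rc_7_1) (@D3.rec (fun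 _ => (Cert rels S Gen.g)) lc_g_rc_43_2 lc_g_rc_41_2 lc_g_rc_7_1 lc_g_rc_15_1 lc_g_rc_28_1 lc_g_rc_7_1 lc_g_rc_28_1 lc_g_rc_33_1 lc_g_rc_43_2 lc_g_rc_41_2 lc_g_rc_43_2 lc_g_rc_15_1 lc_g_rc_15_1 lc_g_rc_28_1 lc_g_rc_15_3 lc_g_rc_41_2 lc_g_rc_41_2 lc_g_rc_28_1 lc_g_rc_15_3 lc_g_rc_43_2 lc_g_rc_15_3 lc_g_rc_15_1 lc_g_rc_28_1 lc_g_rc_15_1 lc_g_rc_28_1 lc_g_rc_33_1 lc_g_rc_41_2 lc_g_rc_43_2 lc_g_rc_33_1 lc_g_rc_28_1 lc_g_rc_22_1 lc_g_rc_15_3) (@D3.rec (fun _ => (Cert rels S Gen.g)) lc_g_rc_43_2 lc_g_rc_7_3 lc_g_rc_33_1 lc_g_rc_33_1 lc_g_rc_22_1 lc_g_rc_41_2 lc_g_rc_7_3 lc_g_rc_7_3 lc_g_rc_28_1 lc_g_rc_15_3 lc_g_rc_15_3 lc_g_rc_41_2 lc_g_rc_22_3 lc_g_rc_22_3 lc_g_rc_28_1 lc_g_rc_28_1 lc_g_rc_43_2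 lc_g_rc_43_2 lc_g_rc_28_1 lc_g_Cert_tree lc_g_rc_42_0 lc_g_rc_42_1 lc_g_rc_43_2 lc_g_rc_43_2 lc_g_rc_41_2 lc_g_rc_41_2 lc_g_rc_43_2 lc_g_rc_15_1 lc_g_rc_33_1 lc_g_rc_15_1 lc_g_rc_15_1 lc_g_rc_22_3) (@D3.rec (fun _ => (Cert rels S Gen.g)) lc_g_rc_7_1 lc_g_rc_33_1 lc_g_rc_33_3 lc_g_rc_15_1 lc_g_rc_28_1 lc_g_rc_28_1 lc_g_rc_22_1 lc_g_rc_22_1 lc_g_rc_33_1 lc_g_rc_43_2 lc_g_rc_7_3 lc_g_rc_22_1 lc_g_rc_22_1 lc_g_Cert_tree lc_g_rc_43_2 lc_g_rc_41_2 lc_g_rc_22_1 lc_g_rc_22_1 lc_g_rc_39_3 lc_g_rc_41_2 lc_g_rc_15_3 lc_g_rc_7_3 lc_g_rc_7_3 lc_g_rc_28_1 lc_g_Cert_tree lc_g_rc_7_3 lc_g_rc_41_2 lc_g_rc_42_0 lc_g_rc_43_2 lc_g_rc_7_3 lc_g_rc_28_1 lc_g_Cert_tree) (@D3.rec (fun _ => (Cert rels S Gen.g)) lc_g_rc_22_1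 lc_g_rc_41_2 lc_g_rc_42_0 lc_g_rc_43_2 lc_g_rc_41_2 lc_g_rc_15_3 lc_g_rc_43_2 lc_g_rc_7_3 lc_g_Cert_tree lc_g_rc_7_3 lc_g_rc_15_1 lc_g_Cert_tree lc_g_rc_41_2 lc_g_rc_28_1 lc_g_rc_42_0 lc_g_rc_43_2 lc_g_rc_41_2 lc_g_rc_28_1 lc_g_rc_43_2 lc_g_rc_41_2 lc_g_rc_43_0 lc_g_Cert_tree lc_g_rc_41_2 lc_g_rc_28_1 lc_g_rc_42_0 lc_g_rc_43_2 lc_g_rc_41_2 lc_g_rc_28_1 lc_g_rc_43_2 lc_g_rc_41_2 lc_g_rc_33_3 lc_g_rc_42_0) (@D3.rec (fun _ => (Cert rels S Gen.g)) lc_g_rc_33_1 lc_g_rc_43_2 lc_g_rc_43_2 lc_g_rc_41_2 lc_g_rc_43_2 lc_g_rc_41_2 lc_g_rc_28_1 lc_g_rc_33_1 lc_g_rc_41_2 lc_g_rc_43_2 lc_g_rc_43_2 lc_g_rc_43_2 lc_g_rc_43_2 lc_g_rc_43_2 lc_g_rc_41_2 lc_g_rc_41_2 lc_g_rc_28_1 lc_g_rc_22_1 lc_g_rc_33_1 lc_g_rc_43_2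 lc_g_rc_22_3 lc_g_rc_7_3 lc_g_rc_22_3 lc_g_rc_22_3 lc_g_rc_33_1 lc_g_rc_43_2 lc_g_rc_41_2 lc_g_rc_43_2 lc_g_rc_41_2 lc_g_rc_15_1 lc_g_rc_43_2 lc_g_rc_22_3) (@D3.rec (fun _ => (Cert rels S Gen.g)) lc_g_rc_42_0 lc_g_rc_43_2 lc_g_rc_22_3 lc_g_rc_43_2 lc_g_rc_41_2 lc_g_rc_28_1 lc_g_rc_41_2 lc_g_rc_43_0 lc_g_rc_22_1 lc_g_rc_41_2 lc_g_rc_43_2 lc_g_rc_43_2 lc_g_rc_22_3 lc_g_rc_22_1 lc_g_rc_15_1 lc_g_rc_43_2 lc_g_rc_41_2 lc_g_rc_41_2 lc_g_rc_43_2 lc_g_rc_22_3 lc_g_rc_15_3 lc_g_rc_28_1 lc_g_rc_41_2 lc_g_rc_22_1 lc_g_rc_22_1 lc_g_rc_33_1 lc_g_rc_43_2 lc_g_rc_22_1 lc_g_rc_43_2 lc_g_rc_41_2 lc_g_rc_43_2 lc_g_rc_41_2) (@D3.rec (fun _ => (Cert rels S Gen.g)) lc_g_rc_22_3 lc_g_rc_22_3 lc_g_rc_22_3 lc_g_Cert_tree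 lc_g_rc_33_1 lc_g_rc_28_1 lc_g_rc_42_0 lc_g_rc_43_2 lc_g_rc_41_2 lc_g_rc_22_1 lc_g_rc_22_3 lc_g_Cert_tree lc_g_rc_22_1 lc_g_rc_41_2 lc_g_Cert_tree lc_g_rc_47_40 lc_g_rc_22_3 lc_g_rc_42_0 lc_g_rc_43_2 lc_g_rc_39_5 lc_g_rc_41_0 lc_g_rc_33_3 lc_g_rc_42_0 lc_g_rc_33_1 lc_g_rc_43_2 lc_g_rc_43_2 lc_g_rc_15_3 lc_g_rc_43_2 lc_g_rc_41_2 lc_g_rc_15_3 lc_g_rc_15_3 lc_g_rc_41_2) (@D3.rec (fun _ => (Cert rels S Gen.g)) lc_g_rc_22_3 lc_g_rc_22_1 lc_g_rc_33_3 lc_g_rc_42_0 lc_g_rc_39_3 lc_g_rc_43_2 lc_g_rc_43_2 lc_g_rc_41_2 lc_g_rc_43_2 lc_g_rc_41_2 lc_g_rc_28_1 lc_g_rc_33_1 lc_g_rc_41_2 lc_g_rc_15_1 lc_g_rc_22_1 lc_g_rc_43_2 lc_g_rc_43_2 lc_g_rc_43_2 lc_g_rc_41_2 lc_g_rc_43_2 lc_g_rc_28_1 lc_g_rc_41_2 lc_g_rc_28_1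 lc_g_rc_22_1 lc_g_rc_33_1 lc_g_rc_15_1 lc_g_rc_43_2 lc_g_rc_41_2 lc_g_rc_15_3 lc_g_rc_22_1 lc_g_rc_28_1 lc_g_rc_42_0) (@D3.rec (fun _ => (Cert rels S Gen.g)) lc_g_rc_43_2 lc_g_rc_33_1 lc_g_rc_43_2 lc_g_rc_41_2 lc_g_rc_41_0 lc_g_rc_41_2 lc_g_rc_22_1 lc_g_rc_22_1 lc_g_rc_7_3 lc_g_rc_15_1 lc_g_rc_43_2 lc_g_rc_41_2 lc_g_rc_41_0 lc_g_rc_41_2 lc_g_rc_28_1 lc_g_rc_22_1 lc_g_rc_15_1 lc_g_rc_33_1 lc_g_rc_15_1 lc_g_rc_7_3 lc_g_rc_33_1 lc_g_rc_28_1 lc_g_rc_39_5 lc_g_Cert_tree lc_g_rc_42_0 lc_g_Cert_tree lc_g_rc_15_1 lc_g_rc_42_0 lc_g_Cert_tree lc_g_rc_41_2 lc_g_rc_42_0 lc_g_rc_33_3) (@D3.rec (fun _ => (Cert rels S Gen.g)) lc_g_rc_42_0 lc_g_rc_41_2 lc_g_rc_7_3 lc_g_rc_43_2 lc_g_rc_15_1 lc_g_rc_43_2 lc_g_rc_41_2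 lc_g_rc_7_1 lc_g_rc_22_1 lc_g_rc_41_2 lc_g_rc_7_1 lc_g_rc_43_2 lc_g_rc_41_2 lc_g_rc_43_2 lc_g_rc_7_1 lc_g_rc_22_1 lc_g_rc_41_0 lc_g_rc_41_2 lc_g_rc_43_2 lc_g_rc_41_2 lc_g_rc_22_3 lc_g_rc_7_1 lc_g_rc_28_3 lc_g_rc_28_1 lc_g_rc_42_0 lc_g_rc_43_2 lc_g_rc_41_2 lc_g_Cert_tree lc_g_rc_7_3 lc_g_rc_22_3 lc_g_rc_42_0 lc_g_rc_43_2) (@D3.rec (fun _ => (Cert rels S Gen.g)) lc_g_rc_43_2 lc_g_rc_33_3 lc_g_rc_42_0 lc_g_rc_41_2 lc_g_rc_28_3 lc_g_rc_33_3 lc_g_rc_42_0 lc_g_rc_41_2 lc_g_rc_43_2 lc_g_rc_43_2 lc_g_rc_43_2 lc_g_rc_43_2 lc_g_rc_47_40 lc_g_rc_28_3 lc_g_rc_41_2 lc_g_rc_41_2 lc_g_rc_28_1 lc_g_rc_39_5 lc_g_rc_15_3 lc_g_rc_15_1 lc_g_rc_33_1 lc_g_rc_28_1 lc_g_rc_15_3 lc_g_rc_43_2 lc_g_rc_41_2 lc_g_rc_41_2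 lc_g_rc_41_2 lc_g_rc_41_2 lc_g_rc_43_2 lc_g_rc_39_1 lc_g_rc_28_1 lc_g_rc_43_2) (@D3.rec (fun _ => (Cert rels S Gen.g)) lc_g_rc_43_2 lc_g_rc_43_2 lc_g_rc_41_2 lc_g_rc_43_2 lc_g_rc_28_1 lc_g_rc_41_2 lc_g_rc_28_1 lc_g_rc_22_1 lc_g_rc_33_1 lc_g_rc_15_1 lc_g_rc_15_1 lc_g_rc_41_2 lc_g_rc_43_2 lc_g_rc_28_1 lc_g_rc_28_1 lc_g_rc_15_1 lc_g_rc_28_1 lc_g_rc_22_3 lc_g_rc_22_3 lc_g_rc_7_1 lc_g_rc_33_1 lc_g_rc_43_2 lc_g_rc_43_2 lc_g_rc_22_3 lc_g_rc_7_1 lc_g_rc_43_2 lc_g_rc_28_1 lc_g_rc_15_1 lc_g_rc_43_2 lc_g_rc_15_3 lc_g_rc_43_2 lc_g_rc_22_3) (@D3.rec (fun _ => (Cert rels S Gen.g)) lc_g_Cert_tree lc_g_rc_7_1 lc_g_rc_22_3 lc_g_rc_42_0 lc_g_rc_43_2 lc_g_rc_39_5 lc_g_rc_28_1 lc_g_rc_43_2 lc_g_rc_41_2 lc_g_rc_41_0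 lc_g_rc_41_2 lc_g_rc_42_0 lc_g_rc_33_1 lc_g_rc_43_2 lc_g_rc_43_2 lc_g_rc_41_2 lc_g_rc_41_2 lc_g_rc_28_1 lc_g_rc_43_2 lc_g_rc_15_3 lc_g_rc_22_3 lc_g_rc_43_2 lc_g_rc_7_1 lc_g_rc_15_3 lc_g_rc_28_1 lc_g_rc_22_1 lc_g_rc_28_1 lc_g_rc_41_2 lc_g_rc_22_1 lc_g_rc_22_1 lc_g_rc_28_1 lc_g_rc_33_1)
def ce_g_11 : D2 → D3 → (Cert rels S Gen.g) := @D2.rec (fun _ => D3 → (Cert rels S Gen.g)) (@D3.rec (fun _ => (Cert rels S Gen.g)) lc_g_rc_28_1 lc_g_rc_28_1 lc_g_rc_28_1 lc_g_rc_33_1 lc_g_rc_28_1 lc_g_rc_22_1 lc_g_rc_33_1 lc_g_rc_7_3 lc_g_rc_7_3 lc_g_Cert_tree lc_g_rc_22_3 lc_g_rc_22_3 lc_g_rc_15_1 lc_g_rc_7_1 lc_g_rc_7_3 lc_g_rc_15_1 lc_g_rc_15_1 lc_g_rc_33_1 lc_g_Cert_tree lc_g_rc_7_3 lc_g_rc_7_3 lc_g_rc_42_0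 lc_g_rc_43_2 lc_g_rc_15_1 lc_g_rc_28_1 lc_g_rc_43_2 lc_g_rc_41_2 lc_g_rc_28_1 lc_g_rc_39_1 lc_g_rc_42_0 lc_g_rc_33_1 lc_g_rc_43_2) (@D3.rec (fun _ => (Cert rels S Gen.g)) lc_g_rc_22_3 lc_g_rc_22_3 lc_g_rc_43_2 lc_g_rc_41_2 lc_g_rc_39_5 lc_g_rc_41_2 lc_g_rc_41_2 lc_g_rc_28_1 lc_g_rc_22_1 lc_g_rc_43_2 lc_g_rc_43_2 lc_g_rc_7_1 lc_g_rc_41_2 lc_g_rc_41_2 lc_g_rc_28_1 lc_g_rc_28_1 lc_g_rc_22_1 lc_g_rc_33_1 lc_g_rc_33_1 lc_g_rc_43_2 lc_g_rc_41_2 lc_g_rc_28_1 lc_g_rc_22_1 lc_g_rc_28_1 lc_g_rc_22_1 lc_g_rc_33_1 lc_g_rc_47_54 lc_g_rc_7_1 lc_g_rc_28_1 lc_g_rc_28_1 lc_g_rc_22_1 lc_g_rc_15_1) (@D3.rec (fun _ => (Cert rels S Gen.g)) lc_g_rc_28_1 lc_g_rc_39_1 lc_g_rc_42_0 lc_g_rc_43_2 lc_g_rc_33_1 lc_g_rc_43_2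 lc_g_rc_43_2 lc_g_rc_43_2 lc_g_rc_41_2 lc_g_rc_15_3 lc_g_rc_15_3 lc_g_rc_41_2 lc_g_rc_28_1 lc_g_rc_22_1 lc_g_rc_15_3 lc_g_rc_28_1 lc_g_rc_15_3 lc_g_rc_15_1 lc_g_rc_7_3 lc_g_rc_43_2 lc_g_rc_41_2 lc_g_rc_33_1 lc_g_rc_28_1 lc_g_rc_28_1 lc_g_rc_15_1 lc_g_rc_15_3 lc_g_rc_7_1 lc_g_rc_39_1 lc_g_rc_15_1 lc_g_rc_22_1 lc_g_rc_42_0 lc_g_rc_43_2) (@D3.rec (fun _ => (Cert rels S Gen.g)) lc_g_rc_7_1 lc_g_rc_28_1 lc_g_rc_28_1 lc_g_rc_28_3 lc_g_rc_33_1 lc_g_rc_43_2 lc_g_rc_15_1 lc_g_rc_15_1 lc_g_rc_22_1 lc_g_rc_33_1 lc_g_rc_43_2 lc_g_rc_15_1 lc_g_rc_22_1 lc_g_rc_22_1 lc_g_rc_39_1 lc_g_rc_43_2 lc_g_rc_41_2 lc_g_rc_22_1 lc_g_rc_15_1 lc_g_rc_15_1 lc_g_rc_15_1 lc_g_rc_22_1 lc_g_rc_22_1 lc_g_rc_43_2 lc_g_rc_41_2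 lc_g_rc_7_1 lc_g_rc_33_1 lc_g_rc_15_1 lc_g_rc_22_1 lc_g_Cert_tree lc_g_rc_22_1 lc_g_rc_41_2) (@D3.rec (fun _ => (Cert rels S Gen.g)) lc_g_rc_42_0 lc_g_rc_43_2 lc_g_rc_41_2 lc_g_rc_41_2 lc_g_Cert_tree lc_g_rc_15_1 lc_g_rc_43_2 lc_g_rc_42_0 lc_g_rc_43_2 lc_g_rc_7_3 lc_g_rc_43_2 lc_g_rc_7_3 lc_g_rc_28_1 lc_g_rc_7_1 lc_g_rc_42_0 lc_g_rc_43_2 lc_g_rc_41_2 lc_g_rc_7_1 lc_g_rc_15_1 lc_g_rc_22_1 lc_g_rc_43_2 lc_g_rc_41_2 lc_g_rc_7_1 lc_g_rc_33_1 lc_g_rc_15_1 lc_g_rc_43_2 lc_g_rc_41_2 lc_g_rc_43_2 lc_g_rc_41_2 lc_g_rc_33_1 lc_g_rc_43_2 lc_g_rc_7_1) (@D3.rec (fun _ => (Cert rels S Gen.g)) lc_g_rc_7_1 lc_g_rc_7_1 lc_g_rc_15_1 lc_g_rc_41_2 lc_g_rc_41_2 lc_g_rc_39_1 lc_g_rc_7_1 lc_g_rc_7_1 lc_g_rc_43_2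 lc_g_rc_15_1 lc_g_rc_7_1 lc_g_rc_43_0 lc_g_rc_28_1 lc_g_rc_43_2 lc_g_rc_41_2 lc_g_rc_28_1 lc_g_rc_28_1 lc_g_rc_22_1 lc_g_rc_22_1 lc_g_rc_33_1 lc_g_rc_43_2 lc_g_rc_7_1 lc_g_rc_15_1 lc_g_rc_28_1 lc_g_rc_33_1 lc_g_rc_28_1 lc_g_rc_28_1 lc_g_rc_43_2 lc_g_rc_41_2 lc_g_rc_41_2 lc_g_rc_7_1 lc_g_rc_15_1) (@D3.rec (fun _ => (Cert rels S Gen.g)) lc_g_rc_15_1 lc_g_rc_28_1 lc_g_rc_15_3 lc_g_rc_28_1 lc_g_rc_15_1 lc_g_rc_41_2 lc_g_rc_7_1 lc_g_rc_15_1 lc_g_rc_28_1 lc_g_rc_28_1 lc_g_rc_7_1 lc_g_rc_7_1 lc_g_rc_43_0 lc_g_rc_28_1 lc_g_rc_15_1 lc_g_rc_28_1 lc_g_rc_41_2 lc_g_rc_22_1 lc_g_rc_22_1 lc_g_rc_28_1 lc_g_rc_28_1 lc_g_rc_33_1 lc_g_rc_28_1 lc_g_rc_22_1 lc_g_rc_22_1 lc_g_rc_43_2 lc_g_rc_15_1 lc_g_rc_22_1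 lc_g_rc_22_1 lc_g_Cert_tree lc_g_rc_43_2 lc_g_rc_41_2) (@D3.rec (fun _ => (Cert rels S Gen.g)) lc_g_rc_41_2 lc_g_rc_7_3 lc_g_rc_7_3 lc_g_rc_15_1 lc_g_rc_22_1 lc_g_rc_22_1 lc_g_rc_43_2 lc_g_rc_41_2 lc_g_rc_7_1 lc_g_rc_39_1 lc_g_rc_15_1 lc_g_rc_28_1 lc_g_Cert_tree lc_g_rc_22_1 lc_g_rc_41_2 lc_g_rc_42_0 lc_g_rc_43_2 lc_g_rc_41_2 lc_g_rc_7_3 lc_g_rc_7_3 lc_g_rc_7_3 lc_g_rc_7_3 lc_g_rc_7_1 lc_g_rc_15_1 lc_g_rc_15_1 lc_g_rc_28_1 lc_g_Cert_tree lc_g_rc_22_1 lc_g_rc_41_2 lc_g_rc_42_0 lc_g_rc_43_2 lc_g_rc_41_2) (@D3.rec (fun _ => (Cert rels S Gen.g)) lc_g_rc_7_1 lc_g_rc_7_1 lc_g_rc_15_1 lc_g_Cert_tree lc_g_rc_15_1 lc_g_rc_15_1 lc_g_Cert_tree lc_g_rc_28_3 lc_g_rc_28_1 lc_g_rc_42_0 lc_g_rc_43_2 lc_g_rc_41_2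 lc_g_rc_28_1 lc_g_rc_43_2 lc_g_rc_41_2 lc_g_rc_28_1 lc_g_Cert_tree lc_g_rc_28_1 lc_g_rc_42_0 lc_g_rc_43_2 lc_g_rc_41_2 lc_g_rc_43_2 lc_g_rc_39_3 lc_g_rc_28_1 lc_g_rc_22_3 lc_g_rc_42_0 lc_g_rc_22_3 lc_g_rc_43_2 lc_g_rc_43_2 lc_g_rc_41_2 lc_g_rc_43_2 lc_g_rc_41_2) (@D3.rec (fun _ => (Cert rels S Gen.g)) lc_g_rc_28_1 lc_g_rc_33_1 lc_g_rc_41_2 lc_g_rc_28_1 lc_g_rc_22_1 lc_g_rc_43_2 lc_g_rc_43_2 lc_g_rc_41_2 lc_g_rc_15_3 lc_g_rc_15_1 lc_g_rc_41_2 lc_g_rc_41_2 lc_g_rc_7_1 lc_g_rc_15_1 lc_g_rc_43_2 lc_g_rc_15_1 lc_g_rc_43_2 lc_g_rc_15_3 lc_g_rc_43_2 lc_g_rc_41_2 lc_g_rc_28_1 lc_g_rc_15_3 lc_g_rc_7_1 lc_g_rc_15_1 lc_g_rc_15_1 lc_g_rc_41_2 lc_g_rc_43_2 lc_g_rc_41_2 lc_g_rc_28_1 lc_g_rc_22_3 lc_g_rc_7_1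 lc_g_rc_7_1) (@D3.rec (fun _ => (Cert rels S Gen.g)) lc_g_rc_42_0 lc_g_rc_43_2 lc_g_rc_15_1 lc_g_rc_43_2 lc_g_rc_41_2 lc_g_rc_28_1 lc_g_rc_41_2 lc_g_rc_28_1 lc_g_rc_22_1 lc_g_rc_39_3 lc_g_rc_22_1 lc_g_rc_33_1 lc_g_rc_15_1 lc_g_rc_28_1 lc_g_rc_15_3 lc_g_rc_15_1 lc_g_rc_28_1 lc_g_rc_41_2 lc_g_rc_15_3 lc_g_rc_22_1 lc_g_rc_28_1 lc_g_rc_7_1 lc_g_rc_28_1 lc_g_rc_41_2 lc_g_rc_28_1 lc_g_rc_22_1 lc_g_rc_22_1 lc_g_rc_33_1 lc_g_rc_15_3 lc_g_rc_28_1 lc_g_rc_41_2 lc_g_rc_28_1) (@D3.rec (fun _ => (Cert rels S Gen.g)) lc_g_rc_22_1 lc_g_rc_33_1 lc_g_rc_28_3 lc_g_rc_33_1 lc_g_rc_39_1 lc_g_rc_39_5 lc_g_rc_28_1 lc_g_rc_15_1 lc_g_rc_22_1 lc_g_rc_22_1 lc_g_rc_15_3 lc_g_rc_43_2 lc_g_rc_41_2 lc_g_rc_28_1 lc_g_rc_15_1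 lc_g_rc_15_1 lc_g_rc_15_3 lc_g_rc_41_2 lc_g_rc_42_0 lc_g_rc_43_2 lc_g_rc_41_2 lc_g_rc_15_1 lc_g_rc_43_2 lc_g_rc_7_1 lc_g_rc_43_2 lc_g_rc_43_2 lc_g_rc_28_1 lc_g_rc_28_1 lc_g_rc_43_2 lc_g_rc_15_3 lc_g_rc_22_3 lc_g_rc_15_1) (@D3.rec (fun _ => (Cert rels S Gen.g)) lc_g_rc_22_1 lc_g_rc_41_2 lc_g_rc_33_3 lc_g_rc_15_1 lc_g_rc_28_1 lc_g_rc_15_3 lc_g_rc_41_2 lc_g_rc_22_3 lc_g_rc_43_2 lc_g_rc_15_1 lc_g_rc_15_1 lc_g_rc_41_2 lc_g_rc_43_2 lc_g_rc_15_1 lc_g_rc_28_1 lc_g_rc_15_1 lc_g_rc_28_1 lc_g_rc_7_1 lc_g_rc_28_1 lc_g_rc_22_3 lc_g_rc_28_1 lc_g_rc_22_1 lc_g_rc_15_1 lc_g_rc_15_3 lc_g_rc_28_1 lc_g_rc_43_2 lc_g_rc_22_1 lc_g_rc_33_1 lc_g_rc_43_2 lc_g_rc_15_1 lc_g_rc_22_1 lc_g_rc_22_1) (@D3.rec (fun _ => (Cert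 rels S Gen.g)) lc_g_rc_41_0 lc_g_rc_43_2 lc_g_rc_41_2 lc_g_rc_22_1 lc_g_rc_15_1 lc_g_rc_15_1 lc_g_rc_22_1 lc_g_rc_41_2 lc_g_rc_41_2 lc_g_rc_39_1 lc_g_rc_15_1 lc_g_rc_39_5 lc_g_rc_7_3 lc_g_rc_43_2 lc_g_rc_41_2 lc_g_rc_7_3 lc_g_rc_43_2 lc_g_rc_22_1 lc_g_rc_22_1 lc_g_rc_15_1 lc_g_rc_15_1 lc_g_rc_15_1 lc_g_rc_15_1 lc_g_rc_28_1 lc_g_rc_33_1 lc_g_rc_22_1 lc_g_rc_41_2 lc_g_rc_43_2 lc_g_rc_41_2 lc_g_rc_33_1 lc_g_rc_43_2 lc_g_rc_15_1) (@D3.rec (fun _ => (Cert rels S Gen.g)) lc_g_rc_39_1 lc_g_rc_15_1 lc_g_rc_15_1 lc_g_Cert_tree lc_g_rc_41_2 lc_g_rc_28_1 lc_g_rc_42_0 lc_g_rc_43_2 lc_g_rc_41_2 lc_g_rc_28_1 lc_g_rc_43_2 lc_g_rc_41_2 lc_g_rc_7_1 lc_g_Cert_tree lc_g_rc_41_2 lc_g_rc_28_1 lc_g_rc_42_0 lc_g_rc_43_2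 lc_g_rc_43_2 lc_g_rc_33_3 lc_g_rc_42_0 lc_g_rc_33_1 lc_g_rc_43_2 lc_g_rc_43_2 lc_g_rc_41_2 lc_g_rc_43_2 lc_g_rc_41_2 lc_g_rc_22_3 lc_g_rc_28_3 lc_g_rc_41_2 lc_g_rc_7_1 lc_g_rc_7_1) (@D3.rec (fun _ => (Cert rels S Gen.g)) lc_g_rc_43_2 lc_g_rc_43_2 lc_g_rc_41_2 lc_g_rc_7_1 lc_g_rc_15_1 lc_g_rc_41_2 lc_g_rc_43_2 lc_g_rc_43_2 lc_g_rc_15_1 lc_g_rc_15_3 lc_g_rc_28_1 lc_g_rc_15_3 lc_g_rc_7_1 lc_g_rc_15_1 lc_g_rc_15_1 lc_g_rc_41_2 lc_g_rc_28_1 lc_g_rc_15_3 lc_g_rc_43_2 lc_g_rc_7_1 lc_g_rc_43_2 lc_g_rc_15_1 lc_g_rc_28_1 lc_g_rc_15_3 lc_g_rc_28_1 lc_g_rc_33_1 lc_g_rc_41_2 lc_g_rc_7_1 lc_g_rc_28_1 lc_g_rc_33_1 lc_g_rc_28_1 lc_g_rc_22_1) (@D3.rec (fun _ => (Cert rels S Gen.g)) lc_g_rc_33_1 lc_g_rc_28_1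 lc_g_rc_15_3 lc_g_rc_28_1 lc_g_rc_28_1 lc_g_rc_28_1 lc_g_rc_33_1 lc_g_rc_15_3 lc_g_rc_28_1 lc_g_rc_28_1 lc_g_rc_28_1 lc_g_rc_22_1 lc_g_rc_7_1 lc_g_rc_28_1 lc_g_rc_43_2 lc_g_rc_43_2 lc_g_rc_7_3 lc_g_rc_15_3 lc_g_rc_41_2 lc_g_rc_28_1 lc_g_rc_7_1 lc_g_rc_7_3 lc_g_rc_7_3 lc_g_rc_28_1 lc_g_rc_28_1 lc_g_rc_28_1 lc_g_rc_7_1 lc_g_rc_15_3 lc_g_rc_28_1 lc_g_rc_7_1 lc_g_rc_28_3 lc_g_rc_28_1) (@D3.rec (fun _ => (Cert rels S Gen.g)) lc_g_rc_43_2 lc_g_rc_43_2 lc_g_rc_7_1 lc_g_rc_33_1 lc_g_rc_42_0 lc_g_rc_7_1 lc_g_rc_43_2 lc_g_rc_41_2 lc_g_rc_43_2 lc_g_rc_41_2 lc_g_rc_7_3 lc_g_rc_7_1 lc_g_rc_7_3 lc_g_rc_15_3 lc_g_rc_28_1 lc_g_rc_28_1 lc_g_rc_28_1 lc_g_rc_22_1 lc_g_rc_22_1 lc_g_rc_43_2 lc_g_rc_41_2 lc_g_rc_41_0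 lc_g_rc_7_3 lc_g_rc_7_3 lc_g_rc_28_1 lc_g_Cert_tree lc_g_rc_22_1 lc_g_rc_41_2 lc_g_rc_42_0 lc_g_rc_43_2 lc_g_rc_41_2 lc_g_rc_28_1) (@D3.rec (fun _ => (Cert rels S Gen.g)) lc_g_rc_39_3 lc_g_rc_41_2 lc_g_rc_41_2 lc_g_rc_43_2 lc_g_rc_15_1 lc_g_rc_15_3 lc_g_rc_7_3 lc_g_rc_15_1 lc_g_Cert_tree lc_g_rc_41_2 lc_g_rc_7_3 lc_g_rc_42_0 lc_g_rc_43_2 lc_g_rc_7_3 lc_g_rc_28_1 lc_g_rc_43_2 lc_g_rc_41_2 lc_g_Cert_tree lc_g_rc_41_2 lc_g_rc_28_1 lc_g_rc_42_0 lc_g_rc_43_2 lc_g_rc_41_2 lc_g_rc_28_1 lc_g_rc_43_2 lc_g_rc_41_2 lc_g_rc_33_1 lc_g_rc_15_1 lc_g_rc_43_2 lc_g_rc_15_3 lc_g_Cert_tree lc_g_rc_47_40) (@D3.rec (fun _ => (Cert rels S Gen.g)) lc_g_rc_7_3 lc_g_rc_42_0 lc_g_rc_43_2 lc_g_rc_15_1 lc_g_rc_28_1 lc_g_rc_33_3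 lc_g_rc_42_0 lc_g_rc_33_1 lc_g_rc_43_2 lc_g_rc_43_2 lc_g_rc_41_2 lc_g_rc_43_2 lc_g_rc_41_2 lc_g_rc_28_1 lc_g_rc_33_1 lc_g_rc_41_2 lc_g_rc_43_0 lc_g_rc_43_0 lc_g_rc_33_3 lc_g_rc_42_0 lc_g_rc_39_3 lc_g_rc_43_2 lc_g_rc_43_2 lc_g_rc_41_2 lc_g_rc_43_2 lc_g_rc_41_2 lc_g_rc_28_1 lc_g_rc_33_1 lc_g_rc_41_2 lc_g_rc_43_2 lc_g_rc_43_2 lc_g_rc_43_2) (@D3.rec (fun _ => (Cert rels S Gen.g)) lc_g_rc_41_2 lc_g_rc_43_2 lc_g_rc_28_1 lc_g_rc_41_2 lc_g_rc_28_1 lc_g_rc_43_2 lc_g_rc_33_1 lc_g_rc_43_2 lc_g_rc_43_2 lc_g_rc_15_1 lc_g_rc_41_2 lc_g_rc_28_1 lc_g_rc_43_2 lc_g_rc_22_3 lc_g_rc_22_3 lc_g_rc_33_1 lc_g_rc_22_3 lc_g_rc_43_2 lc_g_rc_41_2 lc_g_rc_41_2 lc_g_rc_15_1 lc_g_rc_22_3 lc_g_rc_43_2 lc_g_rc_41_2 lc_g_rc_28_1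 lc_g_rc_41_2 lc_g_rc_22_1 lc_g_rc_22_1 lc_g_rc_7_3 lc_g_rc_22_1 lc_g_rc_28_1 lc_g_rc_15_1) (@D3.rec (fun _ => (Cert rels S Gen.g)) lc_g_rc_22_1 lc_g_rc_28_1 lc_g_rc_28_1 lc_g_rc_22_1 lc_g_rc_15_3 lc_g_rc_43_2 lc_g_rc_41_2 lc_g_rc_39_3 lc_g_rc_41_2 lc_g_rc_41_2 lc_g_rc_22_3 lc_g_rc_22_3 lc_g_Cert_tree lc_g_rc_22_3 lc_g_rc_22_3 lc_g_rc_42_0 lc_g_rc_43_2 lc_g_rc_33_1 lc_g_rc_43_2 lc_g_rc_41_2 lc_g_rc_28_1 lc_g_Cert_tree lc_g_rc_15_1 lc_g_rc_22_3 lc_g_rc_42_0 lc_g_rc_43_2 lc_g_rc_39_5 lc_g_rc_15_1 lc_g_rc_42_0 lc_g_rc_15_1 lc_g_rc_43_2 lc_g_rc_22_3)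
def ce_g_12 : D2 → D3 → (Cert rels S Gen.g) := @D2.rec (fun _ => D3 → (Cert rels S Gen.g)) (@D3.rec (fun _ => (Cert rels S Gen.g)) lc_g_rc_22_3 lc_g_rc_43_2 lc_g_rc_41_2 lc_g_rc_39_5 lc_g_rc_41_0 lc_g_rc_43_2 lc_g_rc_43_2 lc_g_rc_43_2 lc_g_rc_41_2 lc_g_rc_15_3 lc_g_rc_15_3 lc_g_rc_41_2 lc_g_rc_28_1 lc_g_rc_22_1 lc_g_rc_15_3 lc_g_rc_39_1 lc_g_rc_7_3 lc_g_rc_43_2 lc_g_rc_43_2 lc_g_rc_43_2 lc_g_rc_41_2 lc_g_rc_43_2 lc_g_rc_28_1 lc_g_rc_41_2 lc_g_rc_28_1 lc_g_rc_22_1 lc_g_rc_33_1 lc_g_rc_22_1 lc_g_rc_15_1 lc_g_rc_43_2 lc_g_rc_41_2 lc_g_rc_43_2) (@D3.rec (fun _ => (Cert rels S Gen.g)) lc_g_rc_28_1 lc_g_rc_28_1 lc_g_rc_22_1 lc_g_rc_33_1 lc_g_rc_28_1 lc_g_rc_15_1 lc_g_rc_22_1 lc_g_rc_43_2 lc_g_rc_41_2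 lc_g_rc_41_0 lc_g_rc_41_2 lc_g_rc_22_3 lc_g_rc_22_1 lc_g_rc_22_1 lc_g_rc_7_3 lc_g_rc_41_2 lc_g_rc_7_1 lc_g_rc_22_3 lc_g_rc_28_3 lc_g_rc_33_1 lc_g_Cert_tree lc_g_rc_41_2 lc_g_rc_42_0 lc_g_rc_15_1 lc_g_rc_42_0 lc_g_rc_7_1 lc_g_rc_28_3 lc_g_rc_33_3 lc_g_rc_42_0 lc_g_rc_41_2 lc_g_rc_43_2 lc_g_rc_43_2) (@D3.rec (fun _ => (Cert rels S Gen.g)) lc_g_rc_28_3 lc_g_rc_7_1 lc_g_rc_41_2 lc_g_rc_7_3 lc_g_rc_22_1 lc_g_rc_7_1 lc_g_rc_43_2 lc_g_rc_41_2 lc_g_rc_41_0 lc_g_rc_22_3 lc_g_rc_22_3 lc_g_rc_28_3 lc_g_rc_33_1 lc_g_rc_43_2 lc_g_rc_39_1 lc_g_rc_28_1 lc_g_rc_22_3 lc_g_rc_42_0 lc_g_rc_22_3 lc_g_rc_43_2 lc_g_rc_7_3 lc_g_rc_22_3 lc_g_rc_43_2 lc_g_rc_43_2 lc_g_rc_43_2 lc_g_rc_15_1 lc_g_rc_43_2 lc_g_rc_39_5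 lc_g_rc_28_1 lc_g_rc_33_3 lc_g_rc_39_3 lc_g_rc_7_1) (@D3.rec (fun _ => (Cert rels S Gen.g)) lc_g_rc_22_1 lc_g_rc_41_2 lc_g_rc_28_1 lc_g_rc_28_1 lc_g_rc_15_3 lc_g_rc_22_1 lc_g_rc_33_3 lc_g_rc_41_2 lc_g_rc_43_2 lc_g_rc_15_3 lc_g_rc_28_1 lc_g_rc_28_1 lc_g_rc_15_1 lc_g_rc_15_3 lc_g_rc_15_1 lc_g_rc_41_2 lc_g_rc_41_2 lc_g_rc_43_2 lc_g_rc_33_3 lc_g_rc_22_3 lc_g_rc_22_3 lc_g_rc_43_2 lc_g_rc_28_1 lc_g_rc_43_2 lc_g_rc_15_3 lc_g_rc_22_3 lc_g_rc_33_3 lc_g_rc_43_2 lc_g_rc_7_1 lc_g_rc_39_3 lc_g_rc_33_3 lc_g_rc_43_2) (@D3.rec (fun _ => (Cert rels S Gen.g)) lc_g_rc_43_2 lc_g_rc_15_3 lc_g_rc_28_1 lc_g_rc_7_3 lc_g_rc_28_1 lc_g_rc_39_1 lc_g_rc_42_0 lc_g_rc_33_1 lc_g_rc_43_2 lc_g_rc_22_3 lc_g_rc_22_3 lc_g_rc_43_2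 lc_g_rc_41_2 lc_g_rc_39_5 lc_g_rc_33_1 lc_g_rc_41_2 lc_g_rc_22_3 lc_g_rc_22_1 lc_g_rc_43_2 lc_g_rc_43_2 lc_g_rc_41_2 lc_g_rc_7_1 lc_g_rc_28_1 lc_g_rc_28_1 lc_g_rc_7_1 lc_g_rc_28_1 lc_g_rc_28_1 lc_g_rc_33_1 lc_g_rc_28_1 lc_g_rc_22_1 lc_g_rc_33_1 lc_g_rc_22_1) (@D3.rec (fun _ => (Cert rels S Gen.g)) lc_g_rc_47_12 lc_g_rc_39_1 lc_g_rc_22_1 lc_g_rc_22_1 lc_g_rc_28_1 lc_g_rc_33_1 lc_g_rc_33_1 lc_g_rc_15_1 lc_g_Cert_tree lc_g_rc_7_3 lc_g_rc_7_3 lc_g_rc_42_0 lc_g_rc_43_2 lc_g_rc_22_3 lc_g_rc_15_3 lc_g_rc_15_1 lc_g_rc_28_1 lc_g_rc_7_1 lc_g_rc_33_1 lc_g_rc_28_1 lc_g_rc_33_1 lc_g_rc_43_2 lc_g_rc_39_1 lc_g_rc_42_0 lc_g_rc_33_1 lc_g_rc_43_2 lc_g_rc_7_3 lc_g_rc_15_1 lc_g_rc_43_2 lc_g_rc_41_2 lc_g_rc_28_1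 lc_g_rc_33_1) (@D3.rec (fun _ => (Cert rels S Gen.g)) lc_g_rc_41_2 lc_g_rc_28_1 lc_g_rc_22_1 lc_g_rc_43_2 lc_g_rc_43_2 lc_g_rc_43_2 lc_g_rc_41_2 lc_g_rc_22_3 lc_g_rc_28_1 lc_g_rc_41_2 lc_g_rc_28_1 lc_g_rc_22_1 lc_g_rc_41_0 lc_g_rc_28_1 lc_g_rc_22_1 lc_g_rc_7_1 lc_g_rc_15_1 lc_g_rc_22_1 lc_g_rc_41_2 lc_g_rc_28_1 lc_g_rc_7_3 lc_g_rc_22_1 lc_g_rc_22_1 lc_g_rc_43_2 lc_g_rc_28_1 lc_g_rc_22_1 lc_g_rc_15_3 lc_g_rc_7_3 lc_g_rc_7_1 lc_g_rc_39_1 lc_g_rc_28_1 lc_g_rc_43_2) (@D3.rec (fun _ => (Cert rels S Gen.g)) lc_g_rc_41_2 lc_g_rc_15_3 lc_g_rc_43_2 lc_g_rc_41_2 lc_g_rc_33_1 lc_g_rc_28_1 lc_g_rc_15_3 lc_g_rc_22_1 lc_g_rc_15_3 lc_g_rc_28_1 lc_g_rc_15_3 lc_g_rc_15_3 lc_g_rc_47_12 lc_g_rc_22_1 lc_g_rc_7_1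 lc_g_rc_39_1 lc_g_rc_28_1 lc_g_rc_28_1 lc_g_rc_28_3 lc_g_rc_28_3 lc_g_rc_28_3 lc_g_rc_39_3 lc_g_rc_43_2 lc_g_rc_7_3 lc_g_rc_22_1 lc_g_rc_15_1 lc_g_rc_15_1 lc_g_rc_22_1 lc_g_rc_22_1 lc_g_rc_43_2 lc_g_rc_41_2 lc_g_rc_7_1) (@D3.rec (fun _ => (Cert rels S Gen.g)) lc_g_rc_15_1 lc_g_rc_15_1 lc_g_rc_28_1 lc_g_rc_39_1 lc_g_rc_22_1 lc_g_rc_41_2 lc_g_rc_43_2 lc_g_rc_41_2 lc_g_rc_15_1 lc_g_rc_22_1 lc_g_rc_22_1 lc_g_rc_15_1 lc_g_rc_15_1 lc_g_rc_7_1 lc_g_rc_15_1 lc_g_rc_22_1 lc_g_rc_41_2 lc_g_rc_41_2 lc_g_rc_39_1 lc_g_rc_7_1 lc_g_rc_22_1 lc_g_rc_7_1 lc_g_rc_43_2 lc_g_rc_15_1 lc_g_Cert_tree lc_g_rc_28_3 lc_g_rc_28_1 lc_g_rc_42_0 lc_g_rc_43_2 lc_g_rc_41_2 lc_g_rc_28_1 lc_g_rc_43_2) (@D3.rec (fun _ => (Cert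 rels S Gen.g)) lc_g_rc_41_2 lc_g_rc_28_1 lc_g_rc_28_1 lc_g_rc_22_3 lc_g_rc_42_0 lc_g_rc_22_3 lc_g_rc_43_2 lc_g_rc_43_2 lc_g_rc_7_3 lc_g_rc_43_2 lc_g_rc_28_1 lc_g_rc_7_3 lc_g_rc_22_1 lc_g_rc_7_1 lc_g_rc_15_1 lc_g_rc_41_2 lc_g_rc_41_2 lc_g_rc_15_1 lc_g_rc_43_2 lc_g_rc_15_1 lc_g_rc_15_3 lc_g_rc_28_1 lc_g_rc_15_3 lc_g_rc_28_1 lc_g_rc_43_2 lc_g_rc_22_1 lc_g_rc_7_1 lc_g_rc_7_1 lc_g_rc_15_1 lc_g_rc_28_1 lc_g_rc_28_1 lc_g_rc_7_1) (@D3.rec (fun _ => (Cert rels S Gen.g)) lc_g_rc_7_1 lc_g_rc_7_1 lc_g_rc_43_0 lc_g_rc_28_1 lc_g_rc_15_3 lc_g_rc_28_1 lc_g_rc_41_2 lc_g_rc_22_1 lc_g_rc_22_1 lc_g_rc_33_1 lc_g_rc_22_3 lc_g_rc_28_1 lc_g_rc_22_3 lc_g_rc_22_1 lc_g_rc_28_1 lc_g_rc_28_1 lc_g_rc_28_1 lc_g_rc_33_1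 lc_g_rc_28_1 lc_g_rc_15_3 lc_g_rc_28_1 lc_g_rc_15_3 lc_g_rc_28_1 lc_g_rc_7_1 lc_g_rc_28_1 lc_g_rc_7_1 lc_g_rc_28_1 lc_g_rc_28_1 lc_g_rc_7_1 lc_g_rc_22_1 lc_g_rc_28_1 lc_g_rc_15_1) (@D3.rec (fun _ => (Cert rels S Gen.g)) lc_g_rc_22_1 lc_g_rc_41_2 lc_g_rc_28_1 lc_g_rc_28_3 lc_g_rc_15_1 lc_g_rc_33_3 lc_g_Cert_tree lc_g_rc_28_3 lc_g_rc_41_2 lc_g_rc_42_0 lc_g_rc_43_2 lc_g_rc_7_3 lc_g_rc_22_1 lc_g_rc_33_3 lc_g_rc_15_1 lc_g_rc_28_1 lc_g_rc_22_1 lc_g_rc_41_2 lc_g_rc_41_2 lc_g_rc_15_3 lc_g_rc_28_1 lc_g_rc_15_3 lc_g_rc_43_2 lc_g_rc_15_1 lc_g_Cert_tree lc_g_rc_33_1 lc_g_rc_28_1 lc_g_rc_42_0 lc_g_rc_43_2 lc_g_rc_41_2 lc_g_rc_28_1 lc_g_rc_43_2) (@D3.rec (fun _ => (Cert rels S Gen.g)) lc_g_rc_41_2 lc_g_rc_28_1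 lc_g_rc_28_1 lc_g_rc_7_3 lc_g_rc_7_3 lc_g_rc_22_3 lc_g_rc_7_1 lc_g_rc_15_1 lc_g_rc_15_1 lc_g_rc_15_1 lc_g_Cert_tree lc_g_rc_28_1 lc_g_rc_42_0 lc_g_rc_43_2 lc_g_rc_41_2 lc_g_rc_28_1 lc_g_rc_43_2 lc_g_rc_41_2 lc_g_rc_28_1 lc_g_rc_15_3 lc_g_rc_15_1 lc_g_rc_22_1 lc_g_rc_7_1 lc_g_Cert_tree lc_g_rc_28_3 lc_g_rc_15_1 lc_g_rc_42_0 lc_g_rc_43_2 lc_g_rc_15_1 lc_g_rc_28_1 lc_g_rc_41_2 lc_g_rc_42_0) (@D3.rec (fun _ => (Cert rels S Gen.g)) lc_g_rc_33_1 lc_g_rc_43_2 lc_g_rc_28_3 lc_g_rc_41_2 lc_g_rc_43_2 lc_g_rc_41_2 lc_g_rc_28_1 lc_g_rc_33_1 lc_g_rc_41_2 lc_g_rc_28_1 lc_g_rc_22_1 lc_g_rc_42_0 lc_g_rc_43_2 lc_g_rc_41_2 lc_g_rc_43_2 lc_g_rc_39_3 lc_g_rc_28_1 lc_g_rc_39_3 lc_g_rc_22_1 lc_g_rc_22_3 lc_g_rc_43_2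 lc_g_rc_22_3 lc_g_rc_41_2 lc_g_rc_43_2 lc_g_rc_28_1 lc_g_rc_41_2 lc_g_rc_28_1 lc_g_rc_22_1 lc_g_rc_33_1 lc_g_rc_15_3 lc_g_rc_15_1 lc_g_rc_15_1) (@D3.rec (fun _ => (Cert rels S Gen.g)) lc_g_rc_28_1 lc_g_rc_22_3 lc_g_rc_15_1 lc_g_rc_22_3 lc_g_rc_22_3 lc_g_rc_28_1 lc_g_rc_41_2 lc_g_rc_28_1 lc_g_rc_22_1 lc_g_rc_41_0 lc_g_rc_7_1 lc_g_rc_15_1 lc_g_rc_28_1 lc_g_rc_41_2 lc_g_rc_28_1 lc_g_rc_22_1 lc_g_rc_22_3 lc_g_rc_33_1 lc_g_rc_43_2 lc_g_rc_41_2 lc_g_rc_28_1 lc_g_rc_41_2 lc_g_rc_28_1 lc_g_rc_22_1 lc_g_rc_33_1 lc_g_rc_15_1 lc_g_rc_39_3 lc_g_rc_39_1 lc_g_rc_15_1 lc_g_rc_7_3 lc_g_rc_39_5 lc_g_rc_22_1) (@D3.rec (fun _ => (Cert rels S Gen.g)) lc_g_rc_22_1 lc_g_rc_33_1 lc_g_rc_22_1 lc_g_rc_33_1 lc_g_rc_28_1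 lc_g_rc_22_1 lc_g_rc_43_0 lc_g_rc_28_1 lc_g_rc_28_1 lc_g_rc_33_1 lc_g_rc_22_1 lc_g_rc_15_1 lc_g_rc_15_1 lc_g_rc_15_3 lc_g_rc_41_2 lc_g_rc_33_1 lc_g_rc_41_2 lc_g_rc_28_1 lc_g_rc_43_2 lc_g_rc_28_1 lc_g_rc_15_1 lc_g_rc_22_1 lc_g_rc_43_2 lc_g_rc_41_2 lc_g_rc_28_1 lc_g_rc_28_1 lc_g_rc_7_3 lc_g_rc_15_3 lc_g_rc_15_1 lc_g_rc_41_2 lc_g_rc_43_2 lc_g_rc_15_1) (@D3.rec (fun _ => (Cert rels S Gen.g)) lc_g_rc_39_1 lc_g_rc_33_1 lc_g_rc_28_1 lc_g_rc_43_0 lc_g_rc_15_1 lc_g_rc_28_1 lc_g_rc_22_3 lc_g_rc_28_1 lc_g_rc_28_1 lc_g_rc_33_1 lc_g_rc_22_1 lc_g_rc_28_1 lc_g_rc_28_1 lc_g_rc_28_1 lc_g_rc_43_2 lc_g_rc_15_1 lc_g_rc_22_1 lc_g_rc_22_1 lc_g_rc_43_2 lc_g_rc_41_2 lc_g_rc_28_1 lc_g_rc_33_1 lc_g_rc_15_1 lc_g_rc_7_3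 lc_g_rc_33_3 lc_g_rc_22_1 lc_g_rc_41_2 lc_g_rc_43_2 lc_g_rc_41_2 lc_g_rc_22_1 lc_g_rc_15_1 lc_g_rc_15_1) (@D3.rec (fun _ => (Cert rels S Gen.g)) lc_g_rc_41_2 lc_g_rc_43_2 lc_g_rc_39_1 lc_g_rc_43_2 lc_g_rc_15_1 lc_g_rc_28_1 lc_g_rc_39_1 lc_g_rc_43_2 lc_g_rc_7_3 lc_g_rc_43_2 lc_g_rc_28_1 lc_g_rc_7_3 lc_g_rc_28_1 lc_g_rc_22_1 lc_g_rc_22_1 lc_g_rc_15_1 lc_g_rc_15_1 lc_g_rc_15_1 lc_g_rc_15_1 lc_g_rc_15_1 lc_g_rc_41_2 lc_g_rc_28_1 lc_g_rc_43_2 lc_g_rc_41_2 lc_g_rc_28_1 lc_g_rc_7_3 lc_g_rc_28_1 lc_g_rc_43_2 lc_g_rc_7_1 lc_g_rc_39_1 lc_g_rc_39_1 lc_g_rc_15_1) (@D3.rec (fun _ => (Cert rels S Gen.g)) lc_g_rc_43_2 lc_g_rc_15_1 lc_g_rc_28_1 lc_g_rc_7_1 lc_g_rc_42_0 lc_g_rc_7_1 lc_g_rc_43_2 lc_g_rc_43_2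 lc_g_rc_41_2 lc_g_rc_43_2 lc_g_rc_41_2 lc_g_rc_28_1 lc_g_rc_33_1 lc_g_rc_41_2 lc_g_rc_7_1 lc_g_rc_7_1 lc_g_rc_33_3 lc_g_rc_42_0 lc_g_rc_39_3 lc_g_rc_43_2 lc_g_rc_43_2 lc_g_rc_41_2 lc_g_rc_43_2 lc_g_rc_43_2 lc_g_rc_43_2 lc_g_rc_43_2 lc_g_rc_41_2 lc_g_rc_43_2 lc_g_rc_22_3 lc_g_rc_41_2 lc_g_rc_28_1 lc_g_rc_7_1) (@D3.rec (fun _ => (Cert rels S Gen.g)) lc_g_rc_22_3 lc_g_rc_7_1 lc_g_rc_15_1 lc_g_rc_28_1 lc_g_rc_7_1 lc_g_rc_22_3 lc_g_rc_28_1 lc_g_rc_28_1 lc_g_rc_15_1 lc_g_rc_28_1 lc_g_rc_28_1 lc_g_rc_33_1 lc_g_rc_7_1 lc_g_rc_28_1 lc_g_rc_7_1 lc_g_rc_28_1 lc_g_rc_22_1 lc_g_rc_33_1 lc_g_rc_28_1 lc_g_rc_22_1 lc_g_rc_33_1 lc_g_rc_22_1 lc_g_rc_22_1 lc_g_rc_28_1 lc_g_rc_28_1 lc_g_rc_22_1 lc_g_rc_42_0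 lc_g_rc_39_5 lc_g_rc_7_1 lc_g_rc_33_1 lc_g_rc_39_5 lc_g_rc_28_1) (@D3.rec (fun _ => (Cert rels S Gen.g)) lc_g_rc_28_1 lc_g_rc_28_1 lc_g_rc_28_1 lc_g_rc_7_1 lc_g_rc_7_3 lc_g_rc_28_1 lc_g_rc_28_3 lc_g_rc_28_1 lc_g_rc_28_1 lc_g_rc_28_1 lc_g_rc_33_3 lc_g_rc_15_3 lc_g_rc_28_1 lc_g_rc_33_1 lc_g_rc_7_1 lc_g_rc_43_2 lc_g_rc_43_2 lc_g_rc_7_1 lc_g_rc_7_1 lc_g_rc_43_2 lc_g_rc_22_3 lc_g_rc_28_1 lc_g_rc_41_2 lc_g_rc_39_3 lc_g_rc_28_1 lc_g_rc_22_1 lc_g_rc_41_2 lc_g_rc_41_2 lc_g_rc_33_1 lc_g_rc_43_2 lc_g_rc_15_1 lc_g_rc_7_3) (@D3.rec (fun _ => (Cert rels S Gen.g)) lc_g_rc_7_3 lc_g_rc_7_3 lc_g_rc_33_3 lc_g_rc_41_2 lc_g_rc_15_3 lc_g_rc_42_0 lc_g_rc_43_2 lc_g_rc_41_2 lc_g_rc_28_1 lc_g_rc_43_2 lc_g_rc_41_2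 lc_g_rc_28_1 lc_g_rc_28_1 lc_g_rc_41_2 lc_g_rc_28_1 lc_g_rc_28_1 lc_g_rc_43_2 lc_g_rc_15_3 lc_g_rc_28_1 lc_g_rc_15_1 lc_g_rc_28_1 lc_g_rc_15_3 lc_g_rc_33_1 lc_g_rc_28_1 lc_g_rc_33_3 lc_g_rc_42_0 lc_g_rc_41_2 lc_g_rc_43_2 lc_g_rc_43_2 lc_g_rc_15_3 lc_g_rc_43_2 lc_g_rc_41_2)
def ce_g_13 : D2 → D3 → (Cert rels S Gen.g) := @D2.rec (fun _ => D3 → (Cert rels S Gen.g)) (@D3.rec (fun _ => (Cert rels S Gen.g)) lc_g_rc_15_3 lc_g_rc_33_1 lc_g_rc_41_2 lc_g_rc_33_3 lc_g_rc_42_0 lc_g_rc_39_3 lc_g_rc_43_2 lc_g_rc_43_2 lc_g_rc_41_2 lc_g_rc_43_2 lc_g_rc_41_2 lc_g_rc_28_1 lc_g_rc_33_1 lc_g_rc_41_2 lc_g_rc_28_1 lc_g_rc_33_1 lc_g_rc_43_2 lc_g_rc_15_1 lc_g_rc_15_3 lc_g_rc_28_1 lc_g_rc_15_1 lc_g_rc_42_0 lc_g_rc_15_1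 lc_g_rc_43_2 lc_g_rc_7_3 lc_g_rc_15_1 lc_g_rc_43_2 lc_g_rc_41_2 lc_g_rc_28_1 lc_g_rc_33_1 lc_g_rc_43_2 lc_g_rc_43_2) (@D3.rec (fun _ => (Cert rels S Gen.g)) lc_g_rc_43_2 lc_g_rc_41_2 lc_g_rc_43_2 lc_g_rc_28_1 lc_g_rc_41_2 lc_g_rc_28_1 lc_g_rc_28_1 lc_g_rc_33_1 lc_g_Cert_tree lc_g_rc_43_0 lc_g_rc_15_1 lc_g_rc_43_2 lc_g_rc_43_2 lc_g_rc_43_2 lc_g_rc_41_2 lc_g_rc_43_2 lc_g_rc_28_1 lc_g_rc_41_2 lc_g_rc_28_1 lc_g_rc_33_1 lc_g_rc_43_2 lc_g_rc_41_2 lc_g_rc_43_2 lc_g_rc_28_1 lc_g_rc_28_1 lc_g_rc_22_1 lc_g_rc_33_1 lc_g_rc_28_1 lc_g_rc_43_2 lc_g_rc_43_2 lc_g_rc_15_3 lc_g_rc_7_3) (@D3.rec (fun _ => (Cert rels S Gen.g)) lc_g_rc_33_1 lc_g_rc_22_3 lc_g_rc_43_2 lc_g_rc_22_1 lc_g_rc_22_3 lc_g_rc_28_1 lc_g_rc_41_2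 lc_g_rc_22_3 lc_g_rc_22_1 lc_g_rc_22_1 lc_g_rc_7_3 lc_g_rc_28_1 lc_g_rc_22_1 lc_g_rc_7_1 lc_g_rc_22_1 lc_g_rc_41_2 lc_g_rc_28_1 lc_g_rc_28_1 lc_g_rc_22_1 lc_g_rc_22_3 lc_g_rc_22_3 lc_g_rc_42_0 lc_g_rc_43_2 lc_g_rc_22_3 lc_g_rc_43_2 lc_g_rc_41_2 lc_g_rc_15_3 lc_g_rc_41_2 lc_g_rc_28_1 lc_g_rc_22_1 lc_g_rc_33_3 lc_g_rc_42_0) (@D3.rec (fun _ => (Cert rels S Gen.g)) lc_g_rc_33_1 lc_g_rc_43_2 lc_g_rc_22_3 lc_g_rc_22_3 lc_g_rc_43_2 lc_g_rc_41_2 lc_g_rc_39_5 lc_g_rc_15_1 lc_g_rc_43_2 lc_g_rc_15_1 lc_g_rc_41_2 lc_g_rc_22_3 lc_g_rc_28_1 lc_g_rc_41_2 lc_g_rc_28_1 lc_g_rc_22_1 lc_g_rc_41_0 lc_g_rc_39_1 lc_g_rc_43_2 lc_g_rc_41_2 lc_g_rc_43_2 lc_g_rc_28_1 lc_g_rc_15_3 lc_g_rc_22_1 lc_g_rc_15_3 lc_g_rc_28_1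 lc_g_rc_7_3 lc_g_rc_22_1 lc_g_rc_15_3 lc_g_rc_33_3 lc_g_rc_41_2 lc_g_rc_43_2) (@D3.rec (fun _ => (Cert rels S Gen.g)) lc_g_rc_28_1 lc_g_rc_28_1 lc_g_rc_22_1 lc_g_rc_33_1 lc_g_rc_28_1 lc_g_rc_22_1 lc_g_rc_33_1 lc_g_rc_15_1 lc_g_rc_22_1 lc_g_rc_28_1 lc_g_rc_15_1 lc_g_rc_41_2 lc_g_rc_7_1 lc_g_rc_22_1 lc_g_rc_15_1 lc_g_rc_33_1 lc_g_rc_15_1 lc_g_rc_41_2 lc_g_rc_33_1 lc_g_rc_22_3 lc_g_rc_42_0 lc_g_rc_22_3 lc_g_rc_43_2 lc_g_rc_39_3 lc_g_rc_43_2 lc_g_rc_7_1 lc_g_rc_28_1 lc_g_rc_28_1 lc_g_rc_39_1 lc_g_rc_33_1 lc_g_rc_43_2 lc_g_rc_43_2) (@D3.rec (fun _ => (Cert rels S Gen.g)) lc_g_rc_33_1 lc_g_rc_41_2 lc_g_rc_7_1 lc_g_rc_39_1 lc_g_rc_22_1 lc_g_rc_22_3 lc_g_rc_43_2 lc_g_rc_22_3 lc_g_rc_41_2 lc_g_rc_22_3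 lc_g_rc_43_2 lc_g_rc_28_1 lc_g_rc_22_1 lc_g_rc_22_1 lc_g_rc_22_1 lc_g_rc_15_1 lc_g_rc_28_1 lc_g_rc_33_1 lc_g_rc_43_2 lc_g_rc_28_1 lc_g_rc_28_3 lc_g_rc_43_2 lc_g_rc_43_2 lc_g_rc_43_2 lc_g_rc_22_3 lc_g_rc_7_1 lc_g_rc_28_1 lc_g_rc_28_1 lc_g_rc_33_1 lc_g_rc_28_1 lc_g_rc_39_3 lc_g_rc_39_3) (@D3.rec (fun _ => (Cert rels S Gen.g)) lc_g_rc_43_2 lc_g_rc_7_1 lc_g_rc_28_1 lc_g_rc_33_1 lc_g_rc_33_1 lc_g_rc_43_2 lc_g_rc_43_2 lc_g_rc_15_3 lc_g_rc_15_1 lc_g_rc_28_1 lc_g_rc_33_1 lc_g_rc_28_1 lc_g_rc_22_1 lc_g_rc_43_2 lc_g_rc_43_2 lc_g_rc_43_2 lc_g_rc_41_2 lc_g_rc_22_3 lc_g_rc_28_1 lc_g_rc_41_2 lc_g_rc_28_1 lc_g_rc_22_1 lc_g_rc_7_1 lc_g_rc_33_1 lc_g_rc_15_1 lc_g_rc_28_1 lc_g_rc_39_1 lc_g_rc_22_1 lc_g_rc_28_1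 lc_g_rc_22_1 lc_g_rc_7_1 lc_g_rc_28_1) (@D3.rec (fun _ => (Cert rels S Gen.g)) lc_g_rc_39_1 lc_g_rc_39_1 lc_g_rc_33_1 lc_g_rc_7_1 lc_g_rc_47_47 lc_g_rc_33_1 lc_g_rc_15_1 lc_g_rc_28_1 lc_g_rc_42_0 lc_g_rc_43_2 lc_g_rc_7_3 lc_g_rc_28_1 lc_g_rc_43_2 lc_g_rc_41_2 lc_g_rc_28_1 lc_g_rc_28_1 lc_g_rc_28_1 lc_g_rc_28_1 lc_g_rc_28_1 lc_g_rc_41_2 lc_g_rc_33_1 lc_g_rc_43_2 lc_g_rc_33_1 lc_g_rc_43_2 lc_g_rc_22_1 lc_g_rc_43_2 lc_g_rc_43_2 lc_g_rc_43_2 lc_g_rc_41_2 lc_g_rc_15_1 lc_g_rc_28_1 lc_g_rc_41_2) (@D3.rec (fun _ => (Cert rels S Gen.g)) lc_g_rc_28_1 lc_g_rc_22_1 lc_g_rc_33_1 lc_g_Cert_tree lc_g_rc_28_1 lc_g_rc_22_1 lc_g_rc_28_1 lc_g_rc_15_1 lc_g_rc_43_2 lc_g_rc_41_2 lc_g_rc_33_1 lc_g_rc_28_1 lc_g_rc_28_1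 lc_g_rc_22_1 lc_g_rc_33_1 lc_g_rc_28_1 lc_g_rc_22_1 lc_g_rc_7_3 lc_g_rc_15_1 lc_g_rc_22_1 lc_g_rc_22_1 lc_g_rc_15_1 lc_g_rc_42_1 lc_g_rc_22_1 lc_g_rc_33_3 lc_g_rc_39_3 lc_g_rc_7_1 lc_g_rc_28_1 lc_g_rc_41_2 lc_g_rc_28_1 lc_g_rc_22_1 lc_g_rc_28_1) (@D3.rec (fun _ => (Cert rels S Gen.g)) lc_g_rc_28_1 lc_g_rc_28_1 lc_g_rc_15_3 lc_g_rc_15_3 lc_g_rc_43_2 lc_g_rc_15_3 lc_g_rc_47_40 lc_g_rc_22_1 lc_g_rc_7_1 lc_g_rc_39_1 lc_g_rc_7_3 lc_g_rc_28_1 lc_g_rc_28_3 lc_g_rc_28_3 lc_g_rc_33_3 lc_g_rc_28_3 lc_g_rc_28_3 lc_g_rc_41_2 lc_g_rc_43_2 lc_g_rc_43_2 lc_g_rc_22_1 lc_g_rc_15_1 lc_g_rc_15_1 lc_g_rc_28_1 lc_g_rc_22_1 lc_g_rc_41_2 lc_g_rc_41_2 lc_g_rc_7_1 lc_g_rc_42_0 lc_g_rc_43_2 lc_g_rc_15_1 lc_g_rc_39_1)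 (@D3.rec (fun _ => (Cert rels S Gen.g)) lc_g_rc_41_2 lc_g_rc_28_1 lc_g_rc_43_2 lc_g_rc_41_2 lc_g_rc_28_1 lc_g_rc_7_3 lc_g_rc_28_1 lc_g_rc_43_2 lc_g_rc_22_1 lc_g_rc_22_1 lc_g_rc_15_1 lc_g_rc_7_1 lc_g_rc_15_1 lc_g_rc_41_2 lc_g_rc_28_1 lc_g_rc_28_1 lc_g_rc_28_1 lc_g_rc_7_1 lc_g_rc_7_1 lc_g_rc_15_3 lc_g_rc_28_3 lc_g_rc_43_2 lc_g_rc_7_1 lc_g_rc_43_0 lc_g_rc_28_1 lc_g_rc_42_1 lc_g_rc_42_0 lc_g_rc_7_1 lc_g_rc_43_2 lc_g_rc_28_3 lc_g_rc_42_1 lc_g_rc_43_2) (@D3.rec (fun _ => (Cert rels S Gen.g)) lc_g_rc_41_2 lc_g_rc_28_1 lc_g_rc_33_1 lc_g_rc_41_2 lc_g_rc_7_3 lc_g_rc_22_1 lc_g_rc_22_1 lc_g_rc_43_2 lc_g_rc_28_3 lc_g_rc_41_2 lc_g_rc_7_1 lc_g_rc_28_1 lc_g_rc_28_1 lc_g_rc_15_1 lc_g_rc_15_1 lc_g_rc_15_1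 lc_g_rc_28_1 lc_g_rc_28_1 lc_g_rc_7_1 lc_g_rc_7_1 lc_g_rc_28_1 lc_g_rc_28_1 lc_g_rc_28_1 lc_g_rc_22_1 lc_g_rc_22_3 lc_g_rc_28_1 lc_g_rc_7_1 lc_g_rc_28_1 lc_g_rc_7_1 lc_g_rc_39_3 lc_g_rc_7_1 lc_g_rc_22_1) (@D3.rec (fun _ => (Cert rels S Gen.g)) lc_g_rc_28_1 lc_g_rc_28_1 lc_g_rc_22_3 lc_g_rc_7_1 lc_g_rc_22_1 lc_g_rc_42_1 lc_g_rc_15_3 lc_g_rc_28_1 lc_g_rc_7_1 lc_g_rc_22_1 lc_g_rc_39_3 lc_g_rc_15_1 lc_g_rc_41_2 lc_g_rc_28_1 lc_g_rc_28_1 lc_g_rc_39_3 lc_g_rc_7_3 lc_g_rc_15_1 lc_g_rc_41_2 lc_g_rc_43_2 lc_g_rc_42_0 lc_g_rc_43_2 lc_g_rc_33_1 lc_g_rc_28_1 lc_g_rc_43_2 lc_g_rc_41_2 lc_g_rc_28_1 lc_g_rc_7_3 lc_g_rc_15_1 lc_g_rc_28_1 lc_g_rc_41_2 lc_g_rc_28_1) (@D3.rec (fun _ => (Cert rels S Gen.g))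 lc_g_rc_28_1 lc_g_rc_7_1 lc_g_rc_28_1 lc_g_rc_33_1 lc_g_rc_43_2 lc_g_rc_15_3 lc_g_rc_15_1 lc_g_rc_28_1 lc_g_rc_28_1 lc_g_rc_42_0 lc_g_rc_28_1 lc_g_rc_43_2 lc_g_rc_43_2 lc_g_rc_41_2 lc_g_rc_43_2 lc_g_rc_41_2 lc_g_rc_28_1 lc_g_rc_33_1 lc_g_rc_41_2 lc_g_rc_33_1 lc_g_rc_22_1 lc_g_rc_28_1 lc_g_rc_7_3 lc_g_rc_28_1 lc_g_rc_28_1 lc_g_rc_7_1 lc_g_rc_15_1 lc_g_rc_15_1 lc_g_rc_28_1 lc_g_rc_42_0 lc_g_rc_43_2 lc_g_rc_41_2) (@D3.rec (fun _ => (Cert rels S Gen.g)) lc_g_rc_43_2 lc_g_rc_41_2 lc_g_rc_28_1 lc_g_rc_33_1 lc_g_rc_41_2 lc_g_rc_39_3 lc_g_rc_22_1 lc_g_rc_28_1 lc_g_rc_28_1 lc_g_rc_28_1 lc_g_rc_15_1 lc_g_rc_33_1 lc_g_rc_7_1 lc_g_rc_15_1 lc_g_rc_42_0 lc_g_rc_15_1 lc_g_rc_43_2 lc_g_rc_28_3 lc_g_rc_15_1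 lc_g_rc_43_2 lc_g_rc_41_2 lc_g_rc_28_1 lc_g_rc_33_1 lc_g_rc_43_2 lc_g_rc_43_2 lc_g_rc_43_2 lc_g_rc_41_2 lc_g_rc_41_2 lc_g_rc_28_1 lc_g_rc_41_2 lc_g_rc_28_1 lc_g_rc_22_1) (@D3.rec (fun _ => (Cert rels S Gen.g)) lc_g_rc_33_1 lc_g_Cert_tree lc_g_rc_15_3 lc_g_rc_15_1 lc_g_rc_43_2 lc_g_rc_41_2 lc_g_rc_28_1 lc_g_rc_39_3 lc_g_rc_22_1 lc_g_rc_15_3 lc_g_rc_39_1 lc_g_rc_15_1 lc_g_rc_22_3 lc_g_rc_41_2 lc_g_rc_33_1 lc_g_rc_28_1 lc_g_rc_28_1 lc_g_rc_22_1 lc_g_rc_33_1 lc_g_rc_28_1 lc_g_rc_15_3 lc_g_rc_15_1 lc_g_rc_7_1 lc_g_rc_7_3 lc_g_rc_7_1 lc_g_rc_22_1 lc_g_rc_22_3 lc_g_rc_28_1 lc_g_rc_39_3 lc_g_rc_15_1 lc_g_rc_28_1 lc_g_rc_22_1) (@D3.rec (fun _ => (Cert rels S Gen.g)) lc_g_rc_39_3 lc_g_rc_33_1 lc_g_rc_15_1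 lc_g_rc_22_3 lc_g_rc_43_0 lc_g_rc_41_2 lc_g_rc_28_1 lc_g_rc_22_1 lc_g_rc_28_1 lc_g_rc_39_3 lc_g_rc_28_1 lc_g_rc_15_1 lc_g_rc_7_3 lc_g_rc_39_5 lc_g_rc_7_1 lc_g_rc_15_1 lc_g_rc_33_1 lc_g_rc_28_1 lc_g_rc_43_2 lc_g_rc_7_1 lc_g_rc_22_3 lc_g_rc_41_2 lc_g_rc_43_2 lc_g_rc_22_1 lc_g_rc_33_1 lc_g_rc_28_1 lc_g_rc_15_1 lc_g_rc_28_1 lc_g_rc_7_1 lc_g_rc_28_1 lc_g_rc_39_1 lc_g_rc_28_1) (@D3.rec (fun _ => (Cert rels S Gen.g)) lc_g_rc_33_1 lc_g_rc_28_1 lc_g_rc_7_1 lc_g_rc_22_1 lc_g_rc_22_1 lc_g_rc_7_1 lc_g_rc_15_3 lc_g_rc_28_1 lc_g_rc_7_1 lc_g_rc_15_1 lc_g_rc_22_1 lc_g_rc_41_2 lc_g_rc_41_2 lc_g_rc_41_0 lc_g_rc_43_2 lc_g_rc_33_3 lc_g_rc_43_2 lc_g_rc_15_1 lc_g_rc_7_3 lc_g_rc_15_1 lc_g_rc_33_3 lc_g_rc_41_2 lc_g_rc_28_1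 lc_g_rc_22_3 lc_g_rc_33_1 lc_g_rc_22_1 lc_g_rc_15_1 lc_g_rc_28_1 lc_g_rc_7_1 lc_g_rc_43_2 lc_g_rc_7_1 lc_g_rc_28_1) (@D3.rec (fun _ => (Cert rels S Gen.g)) lc_g_rc_7_1 lc_g_rc_41_2 lc_g_rc_15_1 lc_g_rc_43_2 lc_g_rc_15_3 lc_g_rc_7_3 lc_g_rc_22_1 lc_g_rc_33_1 lc_g_rc_28_1 lc_g_rc_22_1 lc_g_rc_28_1 lc_g_rc_28_1 lc_g_rc_15_1 lc_g_rc_15_1 lc_g_rc_28_1 lc_g_rc_43_2 lc_g_rc_43_2 lc_g_rc_41_2 lc_g_rc_7_3 lc_g_rc_28_1 lc_g_rc_33_1 lc_g_rc_39_1 lc_g_rc_43_2 lc_g_rc_7_1 lc_g_rc_28_1 lc_g_rc_15_1 lc_g_rc_15_1 lc_g_rc_43_2 lc_g_rc_43_2 lc_g_rc_15_1 lc_g_rc_7_1 lc_g_rc_28_1) (@D3.rec (fun _ => (Cert rels S Gen.g)) lc_g_rc_22_1 lc_g_rc_33_1 lc_g_rc_7_1 lc_g_rc_43_2 lc_g_rc_7_1 lc_g_rc_41_2 lc_g_rc_43_2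 lc_g_rc_28_1 lc_g_rc_41_2 lc_g_rc_28_1 lc_g_rc_28_1 lc_g_rc_33_1 lc_g_Cert_tree lc_g_rc_7_1 lc_g_rc_43_2 lc_g_rc_43_2 lc_g_rc_43_2 lc_g_rc_41_2 lc_g_rc_43_2 lc_g_rc_43_2 lc_g_rc_41_2 lc_g_rc_43_2 lc_g_rc_28_1 lc_g_rc_22_3 lc_g_rc_15_3 lc_g_rc_33_1 lc_g_rc_28_1 lc_g_rc_7_1 lc_g_rc_15_3 lc_g_rc_28_1 lc_g_rc_28_1 lc_g_rc_22_1) (@D3.rec (fun _ => (Cert rels S Gen.g)) lc_g_rc_28_1 lc_g_rc_22_1 lc_g_rc_33_1 lc_g_rc_28_1 lc_g_rc_22_1 lc_g_rc_28_1 lc_g_rc_22_1 lc_g_rc_22_1 lc_g_rc_22_1 lc_g_rc_28_1 lc_g_rc_22_1 lc_g_rc_41_2 lc_g_rc_39_5 lc_g_rc_28_1 lc_g_rc_28_1 lc_g_rc_33_1 lc_g_rc_33_1 lc_g_rc_28_1 lc_g_rc_28_1 lc_g_rc_33_3 lc_g_rc_7_1 lc_g_rc_28_1 lc_g_rc_33_1 lc_g_rc_28_3 lc_g_rc_28_1 lc_g_rc_39_3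 lc_g_rc_41_2 lc_g_rc_41_2 lc_g_rc_28_1 lc_g_rc_33_1 lc_g_Cert_tree lc_g_rc_22_3) (@D3.rec (fun _ => (Cert rels S Gen.g)) lc_g_rc_7_1 lc_g_rc_28_1 lc_g_rc_22_1 lc_g_rc_41_2 lc_g_rc_41_2 lc_g_rc_28_1 lc_g_rc_28_1 lc_g_rc_28_1 lc_g_rc_43_2 lc_g_rc_43_0 lc_g_rc_33_1 lc_g_rc_15_1 lc_g_rc_28_1 lc_g_rc_7_3 lc_g_rc_7_3 lc_g_rc_28_1 lc_g_rc_28_1 lc_g_rc_28_1 lc_g_rc_33_3 lc_g_rc_43_2 lc_g_rc_33_1 lc_g_rc_43_2 lc_g_rc_41_2 lc_g_rc_28_1 lc_g_rc_33_1 lc_g_rc_41_2 lc_g_rc_28_1 lc_g_rc_22_1 lc_g_rc_43_2 lc_g_rc_33_1 lc_g_rc_28_1 lc_g_rc_28_1)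
def ce_g_14 : D2 → D3 → (Cert rels S Gen.g) := @D2.rec (fun _ => D3 → (Cert rels S Gen.g)) (@D3.rec (fun _ => (Cert rels S Gen.g)) lc_g_rc_15_1 lc_g_rc_28_1 lc_g_rc_15_1 lc_g_rc_15_1 lc_g_rc_28_1 lc_g_rc_28_1 lc_g_rc_41_2 lc_g_rc_15_3 lc_g_rc_43_2 lc_g_rc_33_1 lc_g_rc_43_2 lc_g_rc_43_2 lc_g_rc_43_2 lc_g_rc_41_2 lc_g_rc_15_3 lc_g_rc_28_1 lc_g_rc_41_2 lc_g_rc_28_1 lc_g_rc_33_1 lc_g_Cert_tree lc_g_rc_43_2 lc_g_rc_43_2 lc_g_rc_43_2 lc_g_rc_41_2 lc_g_rc_43_2 lc_g_rc_28_1 lc_g_rc_41_2 lc_g_rc_28_1 lc_g_rc_33_1 lc_g_Cert_tree lc_g_rc_28_1 lc_g_rc_28_1) (@D3.rec (fun _ => (Cert rels S Gen.g)) lc_g_rc_28_1 lc_g_rc_43_2 lc_g_rc_15_3 lc_g_rc_15_1 lc_g_rc_28_1 lc_g_rc_33_1 lc_g_rc_15_1 lc_g_rc_43_2 lc_g_rc_15_1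 lc_g_rc_41_2 lc_g_rc_15_1 lc_g_rc_28_1 lc_g_rc_41_2 lc_g_rc_28_1 lc_g_rc_22_1 lc_g_rc_33_1 lc_g_Cert_tree lc_g_rc_43_2 lc_g_rc_41_2 lc_g_rc_43_2 lc_g_rc_28_1 lc_g_rc_28_1 lc_g_rc_22_1 lc_g_rc_33_1 lc_g_rc_28_1 lc_g_rc_28_1 lc_g_rc_33_1 lc_g_rc_28_1 lc_g_rc_33_1 lc_g_Cert_tree lc_g_rc_42_0 lc_g_rc_33_3) (@D3.rec (fun _ => (Cert rels S Gen.g)) lc_g_rc_41_2 lc_g_rc_43_2 lc_g_rc_28_1 lc_g_rc_28_1 lc_g_rc_33_1 lc_g_rc_28_1 lc_g_rc_22_3 lc_g_rc_28_1 lc_g_rc_28_1 lc_g_rc_15_1 lc_g_rc_15_3 lc_g_rc_33_1 lc_g_rc_7_3 lc_g_rc_15_3 lc_g_rc_28_3 lc_g_rc_28_1 lc_g_rc_28_1 lc_g_rc_22_1 lc_g_rc_22_1 lc_g_rc_7_1 lc_g_rc_22_1 lc_g_rc_15_1 lc_g_rc_33_1 lc_g_rc_15_1 lc_g_rc_22_1 lc_g_rc_28_1 lc_g_rc_22_1 lc_g_rc_43_2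 lc_g_rc_22_3 lc_g_rc_43_2 lc_g_rc_28_1 lc_g_rc_41_2) (@D3.rec (fun _ => (Cert rels S Gen.g)) lc_g_rc_22_1 lc_g_rc_28_1 lc_g_rc_22_1 lc_g_rc_22_1 lc_g_rc_15_1 lc_g_rc_43_2 lc_g_rc_43_2 lc_g_rc_43_2 lc_g_rc_41_2 lc_g_rc_22_3 lc_g_rc_28_1 lc_g_rc_41_2 lc_g_rc_28_1 lc_g_rc_22_1 lc_g_rc_15_1 lc_g_rc_41_2 lc_g_rc_15_1 lc_g_rc_28_1 lc_g_rc_28_1 lc_g_rc_22_1 lc_g_rc_33_1 lc_g_rc_28_1 lc_g_rc_28_1 lc_g_rc_15_1 lc_g_rc_22_1 lc_g_rc_39_1 lc_g_rc_22_1 lc_g_rc_28_1 lc_g_rc_15_3 lc_g_rc_7_3 lc_g_rc_22_1 lc_g_rc_7_3) (@D3.rec (fun _ => (Cert rels S Gen.g)) lc_g_rc_28_1 lc_g_rc_28_1 lc_g_rc_28_1 lc_g_rc_22_1 lc_g_rc_33_1 lc_g_rc_15_1 lc_g_rc_7_1 lc_g_rc_47_33 lc_g_rc_41_0 lc_g_rc_7_3 lc_g_rc_7_1 lc_g_rc_28_1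 lc_g_rc_22_1 lc_g_rc_43_2 lc_g_rc_43_2 lc_g_rc_22_3 lc_g_rc_33_1 lc_g_rc_7_1 lc_g_rc_41_0 lc_g_rc_22_1 lc_g_rc_22_1 lc_g_rc_22_3 lc_g_rc_15_1 lc_g_rc_33_3 lc_g_rc_41_2 lc_g_rc_22_3 lc_g_rc_15_1 lc_g_rc_28_1 lc_g_rc_7_1 lc_g_rc_43_2 lc_g_rc_43_2 lc_g_rc_28_1) (@D3.rec (fun _ => (Cert rels S Gen.g)) lc_g_rc_28_3 lc_g_rc_43_2 lc_g_rc_28_1 lc_g_rc_22_3 lc_g_rc_33_1 lc_g_rc_28_1 lc_g_rc_28_1 lc_g_rc_39_3 lc_g_rc_28_1 lc_g_rc_33_1 lc_g_rc_22_1 lc_g_rc_43_2 lc_g_rc_7_1 lc_g_rc_28_1 lc_g_rc_22_1 lc_g_rc_33_1 lc_g_rc_43_2 lc_g_rc_43_2 lc_g_rc_15_1 lc_g_rc_15_3 lc_g_rc_28_1 lc_g_rc_28_1 lc_g_rc_22_1 lc_g_rc_33_1 lc_g_Cert_tree lc_g_rc_22_1 lc_g_rc_15_1 lc_g_rc_43_2 lc_g_rc_41_2 lc_g_rc_33_1 lc_g_rc_28_1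 lc_g_rc_28_1) (@D3.rec (fun _ => (Cert rels S Gen.g)) lc_g_rc_22_1 lc_g_rc_7_1 lc_g_rc_28_1 lc_g_rc_28_1 lc_g_rc_15_1 lc_g_rc_22_1 lc_g_rc_7_1 lc_g_rc_22_1 lc_g_rc_7_1 lc_g_rc_33_1 lc_g_rc_22_1 lc_g_rc_43_2 lc_g_rc_7_1 lc_g_rc_7_1 lc_g_rc_33_1 lc_g_rc_7_1 lc_g_rc_43_2 lc_g_rc_28_3 lc_g_rc_41_2 lc_g_rc_43_2 lc_g_rc_41_2 lc_g_rc_28_1 lc_g_rc_33_1 lc_g_rc_41_2 lc_g_rc_28_1 lc_g_rc_22_1 lc_g_rc_28_1 lc_g_rc_28_1 lc_g_rc_41_2 lc_g_rc_41_2 lc_g_rc_43_0 lc_g_rc_43_2) (@D3.rec (fun _ => (Cert rels S Gen.g)) lc_g_rc_22_1 lc_g_rc_43_2 lc_g_Cert_tree lc_g_rc_22_1 lc_g_rc_43_2 lc_g_rc_41_2 lc_g_rc_33_1 lc_g_rc_28_1 lc_g_rc_28_1 lc_g_rc_22_1 lc_g_rc_33_1 lc_g_rc_28_1 lc_g_rc_22_1 lc_g_rc_33_1 lc_g_rc_15_1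 lc_g_rc_22_1 lc_g_Cert_tree lc_g_rc_42_0 lc_g_rc_22_1 lc_g_rc_15_1 lc_g_rc_7_1 lc_g_rc_22_1 lc_g_rc_28_1 lc_g_rc_28_1 lc_g_rc_28_1 lc_g_rc_22_1 lc_g_rc_7_3 lc_g_rc_22_1 lc_g_rc_33_1 lc_g_rc_15_1 lc_g_rc_22_1 lc_g_rc_22_1) (@D3.rec (fun _ => (Cert rels S Gen.g)) lc_g_rc_15_1 lc_g_rc_15_1 lc_g_rc_22_1 lc_g_rc_15_1 lc_g_rc_7_1 lc_g_rc_7_1 lc_g_rc_22_3 lc_g_rc_28_1 lc_g_rc_22_1 lc_g_rc_15_3 lc_g_rc_15_1 lc_g_rc_22_1 lc_g_rc_22_1 lc_g_rc_7_1 lc_g_rc_47_54 lc_g_rc_43_2 lc_g_rc_39_1 lc_g_rc_47_54 lc_g_rc_42_1 lc_g_rc_28_1 lc_g_rc_28_3 lc_g_rc_41_2 lc_g_rc_43_2 lc_g_rc_28_3 lc_g_rc_41_2 lc_g_rc_41_2 lc_g_rc_43_2 lc_g_rc_28_1 lc_g_rc_22_1 lc_g_rc_15_1 lc_g_rc_28_1 lc_g_rc_41_2) (@D3.rec (fun _ =>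 (Cert rels S Gen.g)) lc_g_rc_28_1 lc_g_rc_28_1 lc_g_rc_7_1 lc_g_rc_43_2 lc_g_rc_7_1 lc_g_rc_28_1 lc_g_rc_43_2 lc_g_rc_43_2 lc_g_rc_41_2 lc_g_rc_7_3 lc_g_rc_28_1 lc_g_rc_33_1 lc_g_rc_28_1 lc_g_rc_22_1 lc_g_rc_15_1 lc_g_rc_22_1 lc_g_rc_28_1 lc_g_rc_28_1 lc_g_rc_7_1 lc_g_rc_28_1 lc_g_rc_28_1 lc_g_rc_33_1 lc_g_rc_22_1 lc_g_rc_7_1 lc_g_rc_7_1 lc_g_rc_7_1 lc_g_rc_28_1 lc_g_rc_15_1 lc_g_rc_7_1 lc_g_rc_22_1 lc_g_rc_22_1 lc_g_rc_33_1) (@D3.rec (fun _ => (Cert rels S Gen.g)) lc_g_rc_43_2 lc_g_rc_7_1 lc_g_rc_41_2 lc_g_rc_33_1 lc_g_rc_41_2 lc_g_rc_41_2 lc_g_rc_28_1 lc_g_rc_22_1 lc_g_rc_33_1 lc_g_Cert_tree lc_g_rc_15_1 lc_g_rc_15_1 lc_g_rc_41_2 lc_g_rc_22_3 lc_g_rc_28_1 lc_g_rc_28_3 lc_g_rc_22_1 lc_g_rc_7_1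 lc_g_rc_28_1 lc_g_rc_28_1 lc_g_rc_22_1 lc_g_rc_33_1 lc_g_rc_28_1 lc_g_rc_22_1 lc_g_rc_7_1 lc_g_rc_15_3 lc_g_rc_7_1 lc_g_rc_15_3 lc_g_rc_22_1 lc_g_rc_15_1 lc_g_rc_28_1 lc_g_rc_28_1) (@D3.rec (fun _ => (Cert rels S Gen.g)) lc_g_rc_39_1 lc_g_rc_43_2 lc_g_rc_33_1 lc_g_rc_28_1 lc_g_rc_43_2 lc_g_rc_43_2 lc_g_rc_43_2 lc_g_rc_41_2 lc_g_rc_41_0 lc_g_rc_33_1 lc_g_rc_41_2 lc_g_rc_7_3 lc_g_rc_28_3 lc_g_rc_39_3 lc_g_rc_28_1 lc_g_rc_41_2 lc_g_rc_28_1 lc_g_rc_33_1 lc_g_rc_22_1 lc_g_rc_28_1 lc_g_rc_28_1 lc_g_rc_43_2 lc_g_rc_15_1 lc_g_rc_15_3 lc_g_rc_28_1 lc_g_rc_33_1 lc_g_rc_28_1 lc_g_rc_43_2 lc_g_rc_28_1 lc_g_rc_41_2 lc_g_rc_7_1 lc_g_rc_28_1) (@D3.rec (fun _ => (Cert rels S Gen.g)) lc_g_rc_41_2 lc_g_rc_28_1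 lc_g_rc_22_1 lc_g_rc_33_1 lc_g_Cert_tree lc_g_rc_7_3 lc_g_rc_15_1 lc_g_rc_33_1 lc_g_rc_28_1 lc_g_rc_33_1 lc_g_rc_22_1 lc_g_rc_7_1 lc_g_rc_15_1 lc_g_rc_28_1 lc_g_rc_33_1 lc_g_rc_43_2 lc_g_rc_41_2 lc_g_rc_28_1 lc_g_rc_41_2 lc_g_rc_28_1 lc_g_rc_22_1 lc_g_rc_33_1 lc_g_Cert_tree lc_g_rc_22_1 lc_g_rc_33_1 lc_g_rc_15_1 lc_g_rc_28_1 lc_g_rc_28_1 lc_g_rc_41_2 lc_g_rc_15_1 lc_g_rc_43_0 lc_g_rc_7_1) (@D3.rec (fun _ => (Cert rels S Gen.g)) lc_g_rc_15_1 lc_g_rc_43_2 lc_g_rc_15_1 lc_g_rc_41_2 lc_g_rc_41_2 lc_g_rc_28_1 lc_g_rc_41_2 lc_g_rc_28_1 lc_g_rc_22_1 lc_g_rc_33_1 lc_g_Cert_tree lc_g_rc_43_2 lc_g_rc_41_2 lc_g_rc_33_1 lc_g_rc_28_1 lc_g_rc_41_0 lc_g_rc_22_1 lc_g_rc_33_1 lc_g_rc_28_1 lc_g_rc_15_3 lc_g_rc_33_1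 lc_g_rc_15_1 lc_g_rc_22_1 lc_g_Cert_tree lc_g_rc_42_0 lc_g_rc_7_3 lc_g_rc_7_1 lc_g_rc_41_2 lc_g_rc_28_1 lc_g_rc_22_1 lc_g_rc_22_1 lc_g_rc_41_0) (@D3.rec (fun _ => (Cert rels S Gen.g)) lc_g_rc_15_1 lc_g_rc_22_1 lc_g_rc_7_1 lc_g_rc_28_1 lc_g_rc_28_1 lc_g_rc_15_3 lc_g_rc_28_3 lc_g_rc_33_1 lc_g_rc_15_1 lc_g_rc_43_0 lc_g_rc_7_3 lc_g_rc_7_1 lc_g_rc_15_1 lc_g_rc_15_1 lc_g_rc_22_1 lc_g_rc_7_3 lc_g_rc_43_2 lc_g_rc_22_1 lc_g_rc_15_1 lc_g_rc_7_1 lc_g_rc_22_1 lc_g_rc_28_1 lc_g_rc_22_1 lc_g_rc_33_1 lc_g_rc_15_1 lc_g_rc_22_3 lc_g_rc_43_2 lc_g_rc_28_1 lc_g_rc_41_2 lc_g_rc_33_1 lc_g_rc_28_1 lc_g_rc_33_1) (@D3.rec (fun _ => (Cert rels S Gen.g)) lc_g_rc_28_1 lc_g_rc_22_1 lc_g_rc_33_1 lc_g_rc_39_1 lc_g_rc_42_0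 lc_g_Cert_tree lc_g_rc_22_1 lc_g_rc_42_0 lc_g_rc_42_0 lc_g_rc_41_2 lc_g_rc_15_1 lc_g_rc_41_2 lc_g_rc_28_1 lc_g_rc_43_2 lc_g_rc_43_0 lc_g_rc_33_3 lc_g_rc_15_1 lc_g_rc_28_1 lc_g_rc_7_3 lc_g_rc_22_1 lc_g_rc_41_2 lc_g_rc_28_1 lc_g_rc_33_1 lc_g_rc_28_1 lc_g_rc_43_0 lc_g_rc_28_1 lc_g_rc_28_1 lc_g_rc_33_1 lc_g_rc_28_1 lc_g_rc_33_1 lc_g_rc_28_1 lc_g_rc_22_1) (@D3.rec (fun _ => (Cert rels S Gen.g)) lc_g_rc_33_1 lc_g_rc_7_1 lc_g_rc_28_1 lc_g_rc_41_2 lc_g_rc_15_1 lc_g_rc_28_1 lc_g_rc_28_1 lc_g_rc_33_1 lc_g_Cert_tree lc_g_rc_41_2 lc_g_rc_28_1 lc_g_rc_33_1 lc_g_rc_22_1 lc_g_rc_15_1 lc_g_rc_28_1 lc_g_rc_22_1 lc_g_rc_33_1 lc_g_rc_7_3 lc_g_rc_43_2 lc_g_rc_28_1 lc_g_rc_28_1 lc_g_rc_33_1 lc_g_Cert_tree lc_g_rc_43_2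 lc_g_rc_7_1 lc_g_rc_28_1 lc_g_rc_22_1 lc_g_rc_33_1 lc_g_rc_15_1 lc_g_rc_15_1 lc_g_rc_15_3 lc_g_rc_43_2) (@D3.rec (fun _ => (Cert rels S Gen.g)) lc_g_rc_28_1 lc_g_rc_28_1 lc_g_rc_22_1 lc_g_rc_33_1 lc_g_rc_22_1 lc_g_Cert_tree lc_g_rc_7_1 lc_g_rc_41_2 lc_g_rc_7_1 lc_g_rc_28_1 lc_g_rc_28_1 lc_g_rc_15_3 lc_g_rc_33_1 lc_g_rc_28_1 lc_g_rc_15_1 lc_g_rc_33_1 lc_g_rc_22_1 lc_g_Cert_tree lc_g_rc_42_0 lc_g_rc_33_3 lc_g_rc_41_2 lc_g_rc_43_2 lc_g_rc_28_1 lc_g_rc_15_1 lc_g_rc_15_3 lc_g_rc_33_1 lc_g_rc_33_1 lc_g_rc_22_1 lc_g_rc_22_1 lc_g_rc_22_1 lc_g_rc_22_1 lc_g_rc_22_1) (@D3.rec (fun _ => (Cert rels S Gen.g)) lc_g_rc_22_1 lc_g_rc_28_1 lc_g_rc_28_1 lc_g_rc_41_2 lc_g_rc_28_1 lc_g_rc_41_2 lc_g_rc_42_1 lc_g_rc_28_3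 lc_g_rc_41_0 lc_g_Cert_tree lc_g_Cert_tree lc_g_rc_39_3 lc_g_rc_41_2 lc_g_rc_41_2 lc_g_rc_28_1 lc_g_rc_22_1 lc_g_rc_33_1 lc_g_Cert_tree lc_g_rc_41_2 lc_g_rc_41_2 lc_g_rc_41_2 lc_g_rc_41_0 lc_g_rc_41_2 lc_g_rc_33_1 lc_g_Cert_tree lc_g_rc_42_0 lc_g_rc_22_1 lc_g_rc_43_2 lc_g_rc_28_1 lc_g_rc_33_1 lc_g_rc_22_1 lc_g_rc_28_1) (@D3.rec (fun _ => (Cert rels S Gen.g)) lc_g_rc_43_0 lc_g_rc_28_1 lc_g_rc_33_1 lc_g_rc_28_1 lc_g_rc_41_2 lc_g_rc_15_3 lc_g_rc_28_1 lc_g_rc_33_1 lc_g_rc_28_1 lc_g_rc_28_1 lc_g_rc_41_2 lc_g_rc_33_1 lc_g_rc_33_3 lc_g_rc_41_2 lc_g_rc_28_1 lc_g_rc_22_1 lc_g_rc_33_1 lc_g_Cert_tree lc_g_rc_28_1 lc_g_rc_22_1 lc_g_rc_22_3 lc_g_rc_15_1 lc_g_Cert_tree lc_g_rc_28_1 lc_g_rc_39_1 lc_g_rc_39_1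 lc_g_rc_33_1 lc_g_rc_15_1 lc_g_rc_15_1 lc_g_rc_41_2 lc_g_rc_41_2 lc_g_rc_43_0) (@D3.rec (fun _ => (Cert rels S Gen.g)) lc_g_rc_28_1 lc_g_rc_22_1 lc_g_rc_43_2 lc_g_Cert_tree lc_g_rc_33_3 lc_g_rc_41_2 lc_g_rc_43_2 lc_g_rc_28_1 lc_g_rc_28_1 lc_g_rc_22_1 lc_g_rc_28_1 lc_g_rc_33_1 lc_g_Cert_tree lc_g_rc_42_0 lc_g_rc_33_3 lc_g_rc_41_2 lc_g_rc_43_2 lc_g_rc_28_1 lc_g_rc_28_1 lc_g_rc_33_1 lc_g_rc_28_1 lc_g_rc_33_1 lc_g_Cert_tree lc_g_rc_42_0 lc_g_rc_43_2 lc_g_rc_43_2 lc_g_rc_41_2 lc_g_rc_15_3 lc_g_rc_28_1 lc_g_rc_28_1 lc_g_rc_22_1 lc_g_rc_33_1) (@D3.rec (fun _ => (Cert rels S Gen.g)) lc_g_Cert_tree lc_g_rc_15_1 lc_g_rc_41_2 lc_g_rc_15_1 lc_g_rc_28_1 lc_g_rc_28_1 lc_g_rc_22_1 lc_g_rc_33_1 lc_g_rc_28_1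 lc_g_rc_28_1 lc_g_rc_33_1 lc_g_rc_15_1 lc_g_rc_22_1 lc_g_Cert_tree lc_g_rc_42_0 lc_g_rc_28_1 lc_g_rc_28_1 lc_g_rc_28_1 lc_g_rc_22_1 lc_g_rc_33_1 lc_g_rc_28_1 lc_g_rc_33_1 lc_g_rc_39_3 lc_g_rc_33_1 lc_g_Cert_tree lc_g_rc_33_1 lc_g_rc_22_1 lc_g_Cert_tree lc_g_rc_33_1 lc_g_Cert_tree lc_g_rc_42_0 lc_g_rc_28_1)
def ce_g_15 : D2 → D3 → (Cert rels S Gen.g) := @D2.rec (fun _ => D3 → (Cert rels S Gen.g)) (@D3.rec (fun _ => (Cert rels S Gen.g)) lc_g_rc_28_1 lc_g_rc_28_1 lc_g_rc_33_1 lc_g_rc_33_1 lc_g_rc_7_3 lc_g_rc_28_1 lc_g_rc_22_1 lc_g_rc_28_3 lc_g_rc_33_1 lc_g_rc_7_1 lc_g_rc_15_1 lc_g_rc_15_1 lc_g_rc_22_1 lc_g_rc_15_1 lc_g_rc_22_3 lc_g_rc_7_1 lc_g_rc_43_2 lc_g_rc_41_2 lc_g_rc_43_2 lc_g_rc_28_1 lc_g_rc_28_1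 lc_g_rc_22_1 lc_g_rc_28_1 lc_g_rc_7_1 lc_g_rc_15_1 lc_g_rc_28_1 lc_g_rc_28_1 lc_g_rc_22_1 lc_g_rc_22_1 lc_g_rc_33_1 lc_g_rc_15_1 lc_g_rc_22_1) (@D3.rec (fun _ => (Cert rels S Gen.g)) lc_g_rc_15_1 lc_g_rc_15_3 lc_g_rc_7_3 lc_g_rc_41_0 lc_g_rc_33_1 lc_g_rc_15_1 lc_g_rc_15_1 lc_g_rc_43_0 lc_g_rc_22_3 lc_g_rc_28_1 lc_g_rc_7_1 lc_g_rc_22_1 lc_g_rc_41_0 lc_g_rc_33_1 lc_g_rc_28_1 lc_g_rc_47_26 lc_g_rc_28_3 lc_g_rc_7_1 lc_g_rc_28_1 lc_g_rc_7_1 lc_g_rc_15_1 lc_g_rc_28_1 lc_g_rc_41_2 lc_g_rc_33_3 lc_g_rc_28_1 lc_g_rc_33_1 lc_g_rc_28_1 lc_g_rc_33_1 lc_g_rc_22_1 lc_g_rc_33_1 lc_g_rc_41_2 lc_g_rc_39_3) (@D3.rec (fun _ => (Cert rels S Gen.g)) lc_g_rc_22_1 lc_g_rc_42_1 lc_g_Cert_tree lc_g_rc_15_1 lc_g_rc_7_1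 lc_g_rc_28_1 lc_g_rc_22_1 lc_g_rc_33_1 lc_g_rc_22_1 lc_g_Cert_tree lc_g_rc_15_1 lc_g_rc_7_1 lc_g_rc_28_1 lc_g_rc_28_1 lc_g_rc_22_1 lc_g_rc_33_1 lc_g_rc_22_1 lc_g_rc_33_1 lc_g_rc_15_1 lc_g_rc_22_1 lc_g_Cert_tree lc_g_rc_42_0 lc_g_rc_22_1 lc_g_rc_28_1 lc_g_rc_28_1 lc_g_rc_42_1 lc_g_rc_22_1 lc_g_rc_7_1 lc_g_rc_15_1 lc_g_rc_22_1 lc_g_rc_28_1 lc_g_rc_28_1) (@D3.rec (fun _ => (Cert rels S Gen.g)) lc_g_rc_7_1 lc_g_rc_15_1 lc_g_rc_7_1 lc_g_rc_7_1 lc_g_rc_7_1 lc_g_rc_15_1 lc_g_rc_41_2 lc_g_rc_41_2 lc_g_rc_41_2 lc_g_rc_28_1 lc_g_rc_22_1 lc_g_rc_33_1 lc_g_Cert_tree lc_g_rc_28_1 lc_g_rc_22_1 lc_g_rc_22_3 lc_g_rc_15_1 lc_g_rc_41_2 lc_g_rc_41_2 lc_g_rc_43_0 lc_g_rc_41_2 lc_g_rc_22_1 lc_g_rc_43_0 lc_g_rc_22_1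 lc_g_rc_43_2 lc_g_rc_22_1 lc_g_Cert_tree lc_g_rc_42_0 lc_g_rc_28_1 lc_g_rc_28_1 lc_g_rc_28_1 lc_g_rc_22_1) (@D3.rec (fun _ => (Cert rels S Gen.g)) lc_g_rc_33_1 lc_g_rc_22_1 lc_g_rc_33_1 lc_g_rc_15_1 lc_g_rc_22_1 lc_g_Cert_tree lc_g_rc_22_1 lc_g_rc_33_1 lc_g_rc_15_1 lc_g_rc_22_1 lc_g_Cert_tree lc_g_rc_22_1 lc_g_rc_15_1 lc_g_Cert_tree lc_g_rc_42_0 lc_g_rc_42_1 lc_g_rc_33_3 lc_g_rc_22_1 lc_g_rc_22_1 lc_g_rc_28_1 lc_g_rc_15_1 lc_g_rc_15_1 lc_g_rc_15_1 lc_g_rc_22_1 lc_g_rc_22_1 lc_g_rc_15_1 lc_g_rc_28_1 lc_g_rc_22_1 lc_g_rc_42_0 lc_g_rc_47_33 lc_g_rc_33_3 lc_g_rc_28_1) (@D3.rec (fun _ => (Cert rels S Gen.g)) lc_g_rc_43_2 lc_g_rc_7_3 lc_g_rc_33_1 lc_g_rc_39_1 lc_g_rc_41_2 lc_g_rc_41_2 lc_g_rc_7_3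 lc_g_rc_41_2 lc_g_rc_41_0 lc_g_rc_41_2 lc_g_rc_43_2 lc_g_rc_28_3 lc_g_rc_28_1 lc_g_rc_28_1 lc_g_rc_41_2 lc_g_rc_28_1 lc_g_rc_33_1 lc_g_rc_22_1 lc_g_rc_28_1 lc_g_rc_7_1 lc_g_rc_28_1 lc_g_rc_22_1 lc_g_rc_33_1 lc_g_rc_15_1 lc_g_rc_43_2 lc_g_rc_28_1 lc_g_rc_28_1 lc_g_rc_22_1 lc_g_rc_33_1 lc_g_Cert_tree lc_g_rc_22_1 lc_g_rc_28_3) (@D3.rec (fun _ => (Cert rels S Gen.g)) lc_g_rc_28_1 lc_g_rc_28_1 lc_g_rc_33_1 lc_g_rc_22_1 lc_g_rc_7_1 lc_g_rc_22_1 lc_g_rc_33_1 lc_g_rc_22_1 lc_g_rc_33_1 lc_g_Cert_tree lc_g_rc_15_1 lc_g_rc_28_1 lc_g_rc_42_1 lc_g_rc_7_1 lc_g_rc_15_3 lc_g_rc_28_1 lc_g_rc_28_1 lc_g_rc_33_1 lc_g_rc_22_1 lc_g_Cert_tree lc_g_rc_41_2 lc_g_rc_33_1 lc_g_rc_28_1 lc_g_rc_41_0 lc_g_rc_22_1 lc_g_rc_41_2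 lc_g_rc_28_1 lc_g_rc_15_1 lc_g_rc_33_1 lc_g_rc_15_1 lc_g_rc_22_1 lc_g_Cert_tree) (@D3.rec (fun _ => (Cert rels S Gen.g)) lc_g_rc_42_0 lc_g_rc_7_1 lc_g_rc_28_3 lc_g_rc_28_3 lc_g_rc_7_1 lc_g_rc_22_1 lc_g_rc_22_1 lc_g_rc_7_1 lc_g_rc_15_3 lc_g_rc_15_3 lc_g_rc_28_1 lc_g_rc_28_1 lc_g_rc_33_1 lc_g_rc_41_2 lc_g_rc_41_2 lc_g_rc_15_1 lc_g_rc_28_1 lc_g_rc_33_1 lc_g_rc_43_2 lc_g_rc_28_1 lc_g_rc_41_2 lc_g_rc_28_1 lc_g_rc_22_1 lc_g_rc_41_0 lc_g_Cert_tree lc_g_rc_15_1 lc_g_rc_7_3 lc_g_rc_28_3 lc_g_rc_33_1 lc_g_rc_33_1 lc_g_rc_28_1 lc_g_rc_22_1) (@D3.rec (fun _ => (Cert rels S Gen.g)) lc_g_rc_33_1 lc_g_Cert_tree lc_g_rc_15_1 lc_g_rc_33_1 lc_g_rc_41_2 lc_g_rc_7_1 lc_g_rc_28_1 lc_g_rc_28_1 lc_g_rc_22_1 lc_g_rc_33_1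 lc_g_Cert_tree lc_g_rc_33_3 lc_g_rc_41_2 lc_g_rc_33_1 lc_g_rc_28_1 lc_g_rc_28_1 lc_g_rc_22_1 lc_g_rc_33_1 lc_g_rc_28_1 lc_g_rc_7_3 lc_g_rc_33_1 lc_g_rc_15_1 lc_g_rc_22_1 lc_g_Cert_tree lc_g_rc_42_0 lc_g_rc_7_3 lc_g_rc_7_1 lc_g_rc_41_2 lc_g_rc_22_1 lc_g_rc_33_1 lc_g_Cert_tree lc_g_rc_7_1) (@D3.rec (fun _ => (Cert rels S Gen.g)) lc_g_rc_28_1 lc_g_rc_22_1 lc_g_rc_33_1 lc_g_Cert_tree lc_g_rc_41_2 lc_g_rc_28_1 lc_g_rc_22_1 lc_g_rc_33_1 lc_g_rc_28_1 lc_g_rc_22_1 lc_g_rc_33_1 lc_g_rc_15_1 lc_g_rc_22_1 lc_g_Cert_tree lc_g_rc_42_0 lc_g_rc_22_1 lc_g_rc_7_1 lc_g_rc_41_2 lc_g_rc_41_2 lc_g_rc_43_0 lc_g_rc_28_1 lc_g_rc_22_1 lc_g_rc_43_0 lc_g_Cert_tree lc_g_rc_15_1 lc_g_rc_41_2 lc_g_rc_33_1 lc_g_rc_28_1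 lc_g_rc_41_0 lc_g_rc_22_1 lc_g_rc_33_1 lc_g_rc_28_1) (@D3.rec (fun _ => (Cert rels S Gen.g)) lc_g_rc_22_1 lc_g_rc_33_1 lc_g_rc_15_1 lc_g_rc_22_1 lc_g_Cert_tree lc_g_rc_42_0 lc_g_rc_28_1 lc_g_rc_28_1 lc_g_rc_7_3 lc_g_rc_15_3 lc_g_rc_33_1 lc_g_rc_22_1 lc_g_rc_41_0 lc_g_rc_15_1 lc_g_rc_22_1 lc_g_Cert_tree lc_g_rc_33_1 lc_g_rc_7_3 lc_g_rc_15_3 lc_g_Cert_tree lc_g_rc_7_1 lc_g_rc_15_1 lc_g_Cert_tree lc_g_rc_42_0 lc_g_rc_22_1 lc_g_rc_42_0 lc_g_rc_15_1 lc_g_rc_28_1 lc_g_rc_22_1 lc_g_rc_7_1 lc_g_rc_28_3 lc_g_rc_7_3) (@D3.rec (fun _ => (Cert rels S Gen.g)) lc_g_rc_15_1 lc_g_rc_33_1 lc_g_rc_7_1 lc_g_rc_15_1 lc_g_rc_43_0 lc_g_rc_22_3 lc_g_rc_15_1 lc_g_rc_22_1 lc_g_rc_15_1 lc_g_rc_28_1 lc_g_rc_41_2 lc_g_Cert_tree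 lc_g_rc_22_1 lc_g_rc_33_1 lc_g_Cert_tree lc_g_rc_28_1 lc_g_rc_33_1 lc_g_rc_22_1 lc_g_Cert_tree lc_g_rc_41_2 lc_g_Cert_tree lc_g_rc_42_0 lc_g_rc_41_2 lc_g_rc_41_2 lc_g_rc_28_1 lc_g_rc_28_1 lc_g_rc_33_1 lc_g_rc_15_1 lc_g_rc_28_1 lc_g_rc_41_2 lc_g_rc_28_1 lc_g_rc_22_1) (@D3.rec (fun _ => (Cert rels S Gen.g)) lc_g_rc_33_1 lc_g_rc_15_1 lc_g_rc_28_1 lc_g_rc_43_0 lc_g_rc_43_0 lc_g_rc_33_1 lc_g_Cert_tree lc_g_rc_28_3 lc_g_rc_28_3 lc_g_rc_15_1 lc_g_rc_33_1 lc_g_rc_22_1 lc_g_rc_33_1 lc_g_Cert_tree lc_g_rc_22_1 lc_g_rc_33_1 lc_g_rc_28_1 lc_g_rc_28_1 lc_g_rc_22_1 lc_g_Cert_tree lc_g_rc_33_1 lc_g_rc_7_1 lc_g_rc_28_1 lc_g_rc_28_1 lc_g_rc_33_1 lc_g_rc_33_1 lc_g_Cert_tree lc_g_rc_42_0 lc_g_rc_41_2 lc_g_rc_22_1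 lc_g_rc_33_1 lc_g_Cert_tree) (@D3.rec (fun _ => (Cert rels S Gen.g)) lc_g_rc_28_1 lc_g_rc_22_1 lc_g_rc_33_1 lc_g_rc_22_1 lc_g_Cert_tree lc_g_rc_28_1 lc_g_rc_28_1 lc_g_rc_33_1 lc_g_rc_33_1 lc_g_Cert_tree lc_g_rc_42_0 lc_g_rc_7_1 lc_g_rc_28_1 lc_g_rc_22_1 lc_g_rc_33_1 lc_g_rc_22_1 lc_g_Cert_tree lc_g_rc_15_1 lc_g_rc_15_1 lc_g_rc_28_1 lc_g_rc_28_1 lc_g_rc_22_1 lc_g_rc_33_1 lc_g_rc_22_1 lc_g_rc_33_1 lc_g_rc_22_1 lc_g_Cert_tree lc_g_rc_28_1 lc_g_Cert_tree lc_g_rc_42_0 lc_g_rc_28_1 lc_g_rc_28_1) (@D3.rec (fun _ => (Cert rels S Gen.g)) lc_g_rc_28_1 lc_g_rc_28_1 lc_g_rc_33_1 lc_g_rc_28_1 lc_g_rc_33_1 lc_g_rc_33_1 lc_g_Cert_tree lc_g_rc_33_1 lc_g_rc_33_1 lc_g_Cert_tree lc_g_Cert_tree lc_g_rc_42_0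 lc_g_rc_28_1 lc_g_rc_33_1 lc_g_rc_39_3 lc_g_rc_28_1 lc_g_rc_41_2 lc_g_rc_41_2 lc_g_rc_43_2 lc_g_rc_33_1 lc_g_rc_22_1 lc_g_rc_41_2 lc_g_Cert_tree lc_g_Cert_tree lc_g_rc_42_0 lc_g_rc_42_0 lc_g_rc_41_2 lc_g_rc_41_0 lc_g_rc_22_1 lc_g_rc_41_2 lc_g_rc_22_1 lc_g_rc_33_1) (@D3.rec (fun _ => (Cert rels S Gen.g)) lc_g_rc_22_1 lc_g_Cert_tree lc_g_rc_42_0 lc_g_rc_41_2 lc_g_rc_41_2 lc_g_rc_41_2 lc_g_rc_41_0 lc_g_Cert_tree lc_g_Cert_tree lc_g_rc_42_0 lc_g_rc_22_1 lc_g_rc_33_1 lc_g_Cert_tree lc_g_rc_15_1 lc_g_rc_41_2 lc_g_rc_28_1 lc_g_rc_33_1 lc_g_rc_41_2 lc_g_rc_41_2 lc_g_rc_41_2 lc_g_rc_28_1 lc_g_rc_22_1 lc_g_rc_33_1 lc_g_Cert_tree lc_g_rc_41_2 lc_g_rc_33_1 lc_g_rc_43_0 lc_g_rc_39_1 lc_g_rc_33_3 lc_g_rc_41_2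 lc_g_rc_28_1 lc_g_rc_22_1) (@D3.rec (fun _ => (Cert rels S Gen.g)) lc_g_rc_33_1 lc_g_rc_15_1 lc_g_rc_22_1 lc_g_Cert_tree lc_g_rc_42_0 lc_g_rc_22_1 lc_g_rc_15_1 lc_g_rc_15_1 lc_g_rc_7_1 lc_g_rc_42_0 lc_g_rc_41_2 lc_g_rc_39_1 lc_g_rc_22_1 lc_g_rc_33_1 lc_g_Cert_tree lc_g_rc_33_1 lc_g_rc_15_1 lc_g_rc_41_2 lc_g_rc_41_2 lc_g_rc_22_1 lc_g_rc_43_0 lc_g_rc_22_1 lc_g_rc_33_1 lc_g_rc_22_1 lc_g_Cert_tree lc_g_rc_42_0 lc_g_rc_7_3 lc_g_rc_28_1 lc_g_rc_28_1 lc_g_rc_33_1 lc_g_rc_33_1 lc_g_Cert_tree) (@D3.rec (fun _ => (Cert rels S Gen.g)) lc_g_rc_33_1 lc_g_Cert_tree lc_g_rc_42_0 lc_g_rc_28_1 lc_g_rc_28_1 lc_g_rc_28_1 lc_g_rc_33_1 lc_g_rc_33_1 lc_g_Cert_tree lc_g_rc_33_1 lc_g_Cert_tree lc_g_rc_42_0 lc_g_rc_43_2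 lc_g_rc_43_2 lc_g_rc_41_2 lc_g_rc_28_1 lc_g_rc_22_1 lc_g_rc_33_1 lc_g_rc_7_1 lc_g_rc_33_1 lc_g_rc_15_1 lc_g_rc_22_1 lc_g_Cert_tree lc_g_rc_42_0 lc_g_rc_28_1 lc_g_rc_28_1 lc_g_rc_28_1 lc_g_rc_22_1 lc_g_rc_33_1 lc_g_rc_22_1 lc_g_rc_33_1 lc_g_rc_15_1) (@D3.rec (fun _ => (Cert rels S Gen.g)) lc_g_rc_22_1 lc_g_Cert_tree lc_g_rc_33_1 lc_g_rc_15_1 lc_g_Cert_tree lc_g_rc_15_1 lc_g_Cert_tree lc_g_rc_42_0 lc_g_rc_33_3 lc_g_rc_33_1 lc_g_rc_33_1 lc_g_rc_33_1 lc_g_rc_33_1 lc_g_Cert_tree lc_g_rc_33_1 lc_g_Cert_tree lc_g_rc_28_3 lc_g_rc_33_1 lc_g_Cert_tree lc_g_rc_42_0 lc_g_Cert_tree lc_g_Cert_tree lc_g_rc_42_0 lc_g_Cert_tree lc_g_rc_42_0 lc_g_rc_22_1 lc_g_rc_15_1 lc_g_rc_7_1 lc_g_rc_15_1 lc_g_rc_33_1 lc_g_rc_28_3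 lc_g_rc_28_1) (@D3.rec (fun _ => (Cert rels S Gen.g)) lc_g_rc_28_1 lc_g_rc_7_1 lc_g_rc_22_1 lc_g_rc_15_1 lc_g_rc_28_3 lc_g_rc_22_1 lc_g_rc_15_1 lc_g_rc_28_1 lc_g_rc_15_1 lc_g_rc_33_1 lc_g_rc_15_3 lc_g_rc_7_1 lc_g_rc_28_1 lc_g_rc_28_3 lc_g_rc_22_1 lc_g_rc_28_3 lc_g_rc_15_1 lc_g_rc_33_1 lc_g_rc_28_1 lc_g_rc_28_3 lc_g_rc_28_1 lc_g_rc_22_1 lc_g_rc_33_1 lc_g_rc_41_2 lc_g_rc_41_2 lc_g_rc_33_3 lc_g_rc_33_1 lc_g_Cert_tree lc_g_rc_28_3 lc_g_rc_7_1 lc_g_rc_15_1 lc_g_rc_22_1) (@D3.rec (fun _ => (Cert rels S Gen.g)) lc_g_Cert_tree lc_g_rc_41_2 lc_g_rc_22_1 lc_g_rc_41_2 lc_g_rc_15_1 lc_g_rc_22_1 lc_g_Cert_tree lc_g_rc_42_0 lc_g_rc_28_1 lc_g_rc_22_1 lc_g_rc_33_1 lc_g_rc_15_1 lc_g_rc_22_1 lc_g_Cert_tree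 lc_g_rc_7_1 lc_g_Cert_tree lc_g_rc_42_0 lc_g_rc_28_1 lc_g_rc_28_1 lc_g_rc_22_1 lc_g_rc_33_1 lc_g_rc_22_1 lc_g_rc_33_1 lc_g_rc_15_1 lc_g_rc_22_1 lc_g_Cert_tree lc_g_rc_22_1 lc_g_Cert_tree lc_g_rc_22_1 lc_g_rc_15_1 lc_g_Cert_tree lc_g_rc_42_0) (@D3.rec (fun _ => (Cert rels S Gen.g)) lc_g_rc_43_2 lc_g_rc_15_1 lc_g_rc_22_1 lc_g_rc_28_3 lc_g_rc_28_3 lc_g_rc_33_3 lc_g_rc_28_1 lc_g_rc_7_1 lc_g_rc_7_1 lc_g_rc_7_1 lc_g_rc_43_2 lc_g_rc_28_1 lc_g_rc_43_2 lc_g_rc_22_1 lc_g_rc_41_2 lc_g_rc_28_1 lc_g_rc_22_1 lc_g_rc_33_1 lc_g_rc_15_1 lc_g_rc_22_1 lc_g_Cert_tree lc_g_rc_42_0 lc_g_rc_22_1 lc_g_rc_15_1 lc_g_rc_15_1 lc_g_rc_39_5 lc_g_rc_41_2 lc_g_rc_41_2 lc_g_rc_22_1 lc_g_rc_43_0 lc_g_rc_22_1 lc_g_rc_41_2)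
def ce_g_16 : D2 → D3 → (Cert rels S Gen.g) := @D2.rec (fun _ => D3 → (Cert rels S Gen.g)) (@D3.rec (fun _ => (Cert rels S Gen.g)) lc_g_rc_22_1 lc_g_Cert_tree lc_g_rc_22_1 lc_g_Cert_tree lc_g_Cert_tree lc_g_rc_42_0 lc_g_rc_28_1 lc_g_rc_33_1 lc_g_rc_22_1 lc_g_rc_33_1 lc_g_rc_22_1 lc_g_rc_28_1 lc_g_rc_15_1 lc_g_rc_22_1 lc_g_Cert_tree lc_g_rc_15_1 lc_g_rc_22_1 lc_g_Cert_tree lc_g_rc_22_1 lc_g_rc_15_1 lc_g_rc_28_1 lc_g_Cert_tree lc_g_rc_42_0 lc_g_rc_22_1 lc_g_Cert_tree lc_g_rc_15_1 lc_g_rc_33_1 lc_g_Cert_tree lc_g_rc_42_0 lc_g_rc_22_1 lc_g_Cert_tree lc_g_rc_42_0) (@D3.rec (fun _ => (Cert rels S Gen.g)) lc_g_rc_28_1 lc_g_rc_28_3 lc_g_rc_28_3 lc_g_rc_15_1 lc_g_rc_22_1 lc_g_rc_15_1 lc_g_rc_28_1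 lc_g_rc_22_1 lc_g_rc_15_1 lc_g_rc_15_1 lc_g_rc_43_2 lc_g_rc_41_2 lc_g_rc_41_0 lc_g_rc_22_1 lc_g_rc_41_2 lc_g_rc_28_1 lc_g_rc_41_2 lc_g_rc_22_1 lc_g_rc_41_0 lc_g_Cert_tree lc_g_rc_22_1 lc_g_rc_43_2 lc_g_rc_15_1 lc_g_rc_33_1 lc_g_rc_22_1 lc_g_rc_33_1 lc_g_rc_28_1 lc_g_rc_22_1 lc_g_rc_33_1 lc_g_Cert_tree lc_g_rc_22_1 lc_g_rc_33_1) (@D3.rec (fun _ => (Cert rels S Gen.g)) lc_g_rc_28_1 lc_g_rc_33_1 lc_g_rc_22_1 lc_g_Cert_tree lc_g_rc_28_1 lc_g_rc_28_1 lc_g_rc_22_1 lc_g_rc_33_1 lc_g_rc_22_1 lc_g_rc_33_1 lc_g_rc_22_1 lc_g_rc_22_1 lc_g_Cert_tree lc_g_rc_42_0 lc_g_rc_33_1 lc_g_rc_22_1 lc_g_rc_33_1 lc_g_Cert_tree lc_g_rc_7_1 lc_g_rc_22_1 lc_g_Cert_tree lc_g_rc_22_1 lc_g_Cert_tree lc_g_rc_42_0 lc_g_rc_15_1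 lc_g_rc_15_1 lc_g_rc_33_1 lc_g_Cert_tree lc_g_rc_41_2 lc_g_rc_22_1 lc_g_rc_33_1 lc_g_Cert_tree) (@D3.rec (fun _ => (Cert rels S Gen.g)) lc_g_rc_15_3 lc_g_Cert_tree lc_g_rc_42_0 lc_g_rc_28_1 lc_g_rc_41_0 lc_g_rc_33_1 lc_g_rc_22_1 lc_g_rc_41_0 lc_g_rc_28_1 lc_g_rc_22_1 lc_g_Cert_tree lc_g_rc_33_1 lc_g_rc_15_1 lc_g_Cert_tree lc_g_rc_7_1 lc_g_rc_33_1 lc_g_Cert_tree lc_g_rc_42_0 lc_g_rc_7_1 lc_g_rc_7_1 lc_g_rc_15_3 lc_g_rc_33_1 lc_g_rc_33_1 lc_g_Cert_tree lc_g_rc_41_0 lc_g_rc_41_2 lc_g_rc_28_1 lc_g_rc_28_1 lc_g_Cert_tree lc_g_rc_28_1 lc_g_rc_22_1 lc_g_rc_33_1) (@D3.rec (fun _ => (Cert rels S Gen.g)) lc_g_rc_28_1 lc_g_rc_15_1 lc_g_rc_33_1 lc_g_rc_15_1 lc_g_rc_22_1 lc_g_Cert_tree lc_g_rc_42_0 lc_g_rc_15_1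 lc_g_rc_28_3 lc_g_Cert_tree lc_g_Cert_tree lc_g_rc_22_1 lc_g_rc_33_1 lc_g_rc_15_1 lc_g_rc_22_1 lc_g_Cert_tree lc_g_rc_42_0 lc_g_Cert_tree lc_g_rc_41_2 lc_g_rc_28_1 lc_g_rc_22_1 lc_g_rc_33_1 lc_g_rc_33_1 lc_g_rc_22_1 lc_g_Cert_tree lc_g_rc_42_0 lc_g_rc_7_3 lc_g_rc_28_1 lc_g_rc_7_3 lc_g_rc_7_3 lc_g_rc_33_1 lc_g_rc_22_1) (@D3.rec (fun _ => (Cert rels S Gen.g)) lc_g_rc_33_1 lc_g_rc_15_1 lc_g_rc_22_1 lc_g_Cert_tree lc_g_rc_33_1 lc_g_rc_15_1 lc_g_rc_7_3 lc_g_Cert_tree lc_g_rc_7_1 lc_g_rc_15_1 lc_g_Cert_tree lc_g_rc_42_0 lc_g_rc_22_1 lc_g_rc_41_2 lc_g_rc_22_1 lc_g_Cert_tree lc_g_rc_42_0 lc_g_Cert_tree lc_g_rc_22_1 lc_g_rc_33_1 lc_g_rc_15_1 lc_g_rc_22_1 lc_g_Cert_tree lc_g_rc_42_0 lc_g_rc_28_1 lc_g_rc_22_1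 lc_g_rc_33_1 lc_g_rc_15_1 lc_g_rc_22_1 lc_g_Cert_tree lc_g_rc_33_1 lc_g_rc_22_3) (@D3.rec (fun _ => (Cert rels S Gen.g)) lc_g_rc_22_1 lc_g_Cert_tree lc_g_rc_7_1 lc_g_rc_15_1 lc_g_Cert_tree lc_g_rc_42_0 lc_g_rc_41_2 lc_g_rc_41_2 lc_g_rc_22_1 lc_g_rc_43_0 lc_g_rc_33_1 lc_g_rc_22_1 lc_g_Cert_tree lc_g_rc_42_0 lc_g_rc_28_1 lc_g_rc_28_1 lc_g_rc_15_1 lc_g_rc_22_1 lc_g_rc_33_1 lc_g_rc_22_1 lc_g_rc_41_0 lc_g_rc_15_1 lc_g_rc_22_1 lc_g_Cert_tree lc_g_rc_22_1 lc_g_rc_33_1 lc_g_rc_22_1 lc_g_Cert_tree lc_g_rc_15_1 lc_g_Cert_tree lc_g_rc_42_0 lc_g_rc_33_1) (@D3.rec (fun _ => (Cert rels S Gen.g)) lc_g_rc_33_1 lc_g_rc_22_1 lc_g_rc_7_3 lc_g_rc_7_3 lc_g_rc_15_3 lc_g_Cert_tree lc_g_rc_15_1 lc_g_rc_22_1 lc_g_Cert_tree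 lc_g_rc_7_1 lc_g_rc_15_1 lc_g_rc_43_0 lc_g_Cert_tree lc_g_rc_42_0 lc_g_Cert_tree lc_g_rc_7_3 lc_g_Cert_tree lc_g_rc_42_0 lc_g_rc_15_3 lc_g_Cert_tree lc_g_rc_42_0 lc_g_rc_28_3 lc_g_rc_22_1 lc_g_rc_7_1 lc_g_rc_43_2 lc_g_rc_43_2 lc_g_rc_15_1 lc_g_rc_33_3 lc_g_rc_33_1 lc_g_rc_15_1 lc_g_rc_15_1 lc_g_Cert_tree) (@D3.rec (fun _ => (Cert rels S Gen.g)) lc_g_rc_42_0 lc_g_rc_22_1 lc_g_Cert_tree lc_g_rc_42_0 lc_g_rc_42_0 lc_g_Cert_tree lc_g_Cert_tree lc_g_rc_42_0 lc_g_Cert_tree lc_g_rc_42_0 lc_g_rc_43_2 lc_g_rc_41_2 lc_g_rc_22_1 lc_g_rc_33_1 lc_g_rc_33_1 lc_g_Cert_tree lc_g_rc_28_1 lc_g_rc_22_1 lc_g_rc_33_1 lc_g_rc_43_2 lc_g_rc_22_1 lc_g_rc_33_1 lc_g_rc_22_1 lc_g_Cert_tree lc_g_rc_28_1 lc_g_rc_33_1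 lc_g_rc_22_1 lc_g_rc_43_0 lc_g_rc_15_1 lc_g_rc_43_0 lc_g_Cert_tree lc_g_rc_42_0) (@D3.rec (fun _ => (Cert rels S Gen.g)) lc_g_rc_15_1 lc_g_rc_33_1 lc_g_rc_33_1 lc_g_Cert_tree lc_g_rc_22_1 lc_g_Cert_tree lc_g_rc_42_0 lc_g_rc_22_1 lc_g_Cert_tree lc_g_rc_41_2 lc_g_Cert_tree lc_g_Cert_tree lc_g_rc_42_0 lc_g_rc_41_0 lc_g_rc_39_3 lc_g_rc_41_2 lc_g_rc_33_1 lc_g_Cert_tree lc_g_Cert_tree lc_g_rc_42_0 lc_g_rc_22_1 lc_g_rc_39_5 lc_g_rc_22_1 lc_g_Cert_tree lc_g_rc_42_0 lc_g_rc_22_1 lc_g_rc_33_1 lc_g_rc_22_1 lc_g_Cert_tree lc_g_rc_28_1 lc_g_Cert_tree lc_g_rc_42_0) (@D3.rec (fun _ => (Cert rels S Gen.g)) lc_g_rc_33_1 lc_g_rc_33_1 lc_g_Cert_tree lc_g_Cert_tree lc_g_rc_42_0 lc_g_rc_28_1 lc_g_rc_22_1 lc_g_rc_33_1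 lc_g_rc_22_1 lc_g_Cert_tree lc_g_Cert_tree lc_g_rc_42_0 lc_g_rc_28_1 lc_g_rc_28_1 lc_g_rc_22_1 lc_g_rc_33_1 lc_g_rc_22_1 lc_g_rc_33_1 lc_g_rc_22_1 lc_g_Cert_tree lc_g_rc_22_1 lc_g_Cert_tree lc_g_Cert_tree lc_g_rc_42_0 lc_g_Cert_tree lc_g_rc_39_5 lc_g_rc_42_0 lc_g_rc_33_1 lc_g_rc_33_1 lc_g_rc_33_1 lc_g_rc_15_1 lc_g_Cert_tree) (@D3.rec (fun _ => (Cert rels S Gen.g)) lc_g_rc_33_1 lc_g_Cert_tree lc_g_rc_28_1 lc_g_Cert_tree lc_g_rc_42_0 lc_g_Cert_tree lc_g_Cert_tree lc_g_rc_42_0 lc_g_rc_42_0 lc_g_rc_39_3 lc_g_rc_41_2 lc_g_rc_43_2 lc_g_rc_43_2 lc_g_Cert_tree lc_g_rc_22_1 lc_g_Cert_tree lc_g_rc_42_0 lc_g_rc_42_0 lc_g_rc_22_1 lc_g_rc_41_2 lc_g_rc_22_1 lc_g_rc_41_0 lc_g_rc_22_1 lc_g_Cert_tree lc_g_rc_22_1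 lc_g_Cert_tree lc_g_Cert_tree lc_g_rc_42_0 lc_g_rc_41_2 lc_g_rc_41_2 lc_g_Cert_tree lc_g_Cert_tree) (@D3.rec (fun _ => (Cert rels S Gen.g)) lc_g_rc_42_0 lc_g_rc_42_0 lc_g_rc_15_1 lc_g_rc_22_1 lc_g_Cert_tree lc_g_rc_42_0 lc_g_rc_7_1 lc_g_rc_41_2 lc_g_rc_33_1 lc_g_Cert_tree lc_g_rc_43_0 lc_g_rc_43_2 lc_g_rc_22_1 lc_g_rc_41_2 lc_g_rc_33_1 lc_g_rc_15_1 lc_g_rc_22_1 lc_g_Cert_tree lc_g_rc_42_0 lc_g_rc_41_0 lc_g_rc_41_0 lc_g_rc_22_1 lc_g_rc_43_0 lc_g_rc_43_2 lc_g_rc_41_2 lc_g_rc_15_1 lc_g_rc_28_1 lc_g_Cert_tree lc_g_rc_22_1 lc_g_rc_33_1 lc_g_rc_15_1 lc_g_rc_22_1) (@D3.rec (fun _ => (Cert rels S Gen.g)) lc_g_Cert_tree lc_g_rc_7_1 lc_g_rc_15_1 lc_g_Cert_tree lc_g_rc_42_0 lc_g_rc_33_1 lc_g_rc_15_1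 lc_g_rc_41_2 lc_g_rc_22_1 lc_g_rc_42_0 lc_g_rc_15_1 lc_g_rc_22_1 lc_g_Cert_tree lc_g_rc_42_0 lc_g_rc_15_1 lc_g_rc_28_1 lc_g_rc_22_1 lc_g_rc_41_2 lc_g_rc_22_1 lc_g_rc_41_2 lc_g_rc_22_1 lc_g_Cert_tree lc_g_rc_22_1 lc_g_Cert_tree lc_g_Cert_tree lc_g_rc_42_0 lc_g_rc_22_1 lc_g_rc_7_3 lc_g_rc_33_1 lc_g_rc_33_1 lc_g_Cert_tree lc_g_Cert_tree) (@D3.rec (fun _ => (Cert rels S Gen.g)) lc_g_rc_42_0 lc_g_Cert_tree lc_g_rc_42_0 lc_g_rc_22_1 lc_g_rc_28_3 lc_g_rc_33_1 lc_g_rc_33_1 lc_g_Cert_tree lc_g_Cert_tree lc_g_rc_42_0 lc_g_Cert_tree lc_g_rc_42_0 lc_g_rc_43_2 lc_g_rc_43_2 lc_g_rc_7_1 lc_g_rc_41_2 lc_g_rc_22_1 lc_g_rc_33_1 lc_g_rc_15_1 lc_g_rc_22_1 lc_g_Cert_tree lc_g_rc_7_1 lc_g_Cert_tree lc_g_rc_15_1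 lc_g_Cert_tree lc_g_rc_42_0 lc_g_rc_15_1 lc_g_rc_33_1 lc_g_rc_33_1 lc_g_rc_33_1 lc_g_rc_33_1 lc_g_Cert_tree) (@D3.rec (fun _ => (Cert rels S Gen.g)) lc_g_rc_22_1 lc_g_Cert_tree lc_g_rc_15_1 lc_g_rc_28_1 lc_g_Cert_tree lc_g_rc_42_0 lc_g_Cert_tree lc_g_Cert_tree lc_g_rc_42_0 lc_g_Cert_tree lc_g_rc_42_0 lc_g_rc_28_1 lc_g_Cert_tree lc_g_Cert_tree lc_g_Cert_tree lc_g_Cert_tree lc_g_rc_42_0 lc_g_Cert_tree lc_g_rc_42_0 lc_g_Cert_tree lc_g_Cert_tree lc_g_rc_42_0 lc_g_rc_42_0 lc_g_rc_42_0 lc_g_rc_42_0 lc_g_rc_39_5 lc_g_rc_28_3 lc_g_rc_15_1 lc_g_rc_28_1 lc_g_rc_15_1 lc_g_rc_33_1 lc_g_rc_33_1) (@D3.rec (fun _ => (Cert rels S Gen.g)) lc_g_rc_28_3 lc_g_rc_15_1 lc_g_rc_28_3 lc_g_rc_33_1 lc_g_rc_22_1 lc_g_rc_33_1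 lc_g_rc_22_1 lc_g_Cert_tree lc_g_rc_41_2 lc_g_rc_41_2 lc_g_rc_22_1 lc_g_rc_41_2 lc_g_rc_15_1 lc_g_rc_28_1 lc_g_Cert_tree lc_g_rc_42_0 lc_g_rc_15_1 lc_g_rc_22_1 lc_g_rc_43_2 lc_g_rc_15_1 lc_g_Cert_tree lc_g_rc_42_0 lc_g_rc_22_1 lc_g_rc_41_2 lc_g_rc_15_1 lc_g_rc_22_1 lc_g_Cert_tree lc_g_rc_15_1 lc_g_Cert_tree lc_g_rc_42_0 lc_g_rc_22_1 lc_g_rc_33_1) (@D3.rec (fun _ => (Cert rels S Gen.g)) lc_g_rc_15_1 lc_g_rc_22_1 lc_g_Cert_tree lc_g_rc_15_1 lc_g_rc_7_1 lc_g_Cert_tree lc_g_rc_42_0 lc_g_Cert_tree lc_g_rc_7_1 lc_g_rc_42_0 lc_g_rc_33_1 lc_g_rc_22_1 lc_g_rc_33_1 lc_g_rc_22_1 lc_g_Cert_tree lc_g_rc_15_1 lc_g_rc_22_1 lc_g_Cert_tree lc_g_rc_22_1 lc_g_rc_15_1 lc_g_rc_28_1 lc_g_Cert_tree lc_g_rc_42_0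 lc_g_Cert_tree lc_g_rc_42_0 lc_g_rc_22_1 lc_g_Cert_tree lc_g_rc_42_0 lc_g_rc_43_2 lc_g_rc_28_3 lc_g_rc_43_2 lc_g_rc_33_1) (@D3.rec (fun _ => (Cert rels S Gen.g)) lc_g_rc_15_1 lc_g_rc_15_1 lc_g_rc_7_1 lc_g_rc_43_2 lc_g_rc_22_1 lc_g_rc_33_1 lc_g_rc_22_1 lc_g_rc_43_2 lc_g_rc_15_1 lc_g_rc_22_1 lc_g_Cert_tree lc_g_rc_22_1 lc_g_rc_33_1 lc_g_rc_15_1 lc_g_rc_22_1 lc_g_Cert_tree lc_g_rc_39_5 lc_g_rc_15_1 lc_g_Cert_tree lc_g_rc_42_0 lc_g_rc_22_1 lc_g_rc_15_1 lc_g_rc_22_1 lc_g_rc_39_5 lc_g_rc_22_1 lc_g_rc_39_5 lc_g_rc_22_1 lc_g_Cert_tree lc_g_rc_22_1 lc_g_Cert_tree lc_g_rc_28_1 lc_g_Cert_tree) (@D3.rec (fun _ => (Cert rels S Gen.g)) lc_g_rc_42_0 lc_g_Cert_tree lc_g_rc_42_0 lc_g_rc_42_0 lc_g_rc_39_5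 lc_g_Cert_tree lc_g_rc_22_1 lc_g_Cert_tree lc_g_rc_22_1 lc_g_rc_22_1 lc_g_Cert_tree lc_g_rc_15_1 lc_g_rc_15_1 lc_g_Cert_tree lc_g_rc_42_0 lc_g_rc_22_1 lc_g_rc_15_1 lc_g_rc_28_1 lc_g_Cert_tree lc_g_rc_42_0 lc_g_rc_22_1 lc_g_rc_15_1 lc_g_Cert_tree lc_g_Cert_tree lc_g_rc_42_0 lc_g_Cert_tree lc_g_rc_42_0 lc_g_Cert_tree lc_g_Cert_tree lc_g_rc_42_0 lc_g_rc_42_0 lc_g_Cert_tree) (@D3.rec (fun _ => (Cert rels S Gen.g)) lc_g_rc_42_0 lc_g_rc_22_1 lc_g_rc_22_1 lc_g_rc_15_1 lc_g_rc_43_2 lc_g_rc_28_1 lc_g_rc_22_1 lc_g_rc_41_2 lc_g_rc_22_1 lc_g_rc_41_0 lc_g_rc_22_1 lc_g_Cert_tree lc_g_rc_22_1 lc_g_rc_33_1 lc_g_rc_22_1 lc_g_rc_41_2 lc_g_rc_15_1 lc_g_rc_22_1 lc_g_Cert_tree lc_g_rc_42_0 lc_g_rc_43_2 lc_g_rc_22_1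 lc_g_rc_43_2 lc_g_Cert_tree lc_g_rc_22_1 lc_g_Cert_tree lc_g_rc_22_1 lc_g_rc_33_1 lc_g_rc_22_1 lc_g_Cert_tree lc_g_rc_42_0 lc_g_rc_22_1) (@D3.rec (fun _ => (Cert rels S Gen.g)) lc_g_Cert_tree lc_g_rc_33_1 lc_g_Cert_tree lc_g_rc_7_3 lc_g_Cert_tree lc_g_rc_42_0 lc_g_rc_22_1 lc_g_rc_33_1 lc_g_rc_22_1 lc_g_rc_33_1 lc_g_rc_22_1 lc_g_rc_22_1 lc_g_Cert_tree lc_g_rc_22_1 lc_g_Cert_tree lc_g_rc_33_1 lc_g_Cert_tree lc_g_rc_42_0 lc_g_Cert_tree lc_g_rc_22_1 lc_g_Cert_tree lc_g_rc_42_0 lc_g_Cert_tree lc_g_Cert_tree lc_g_rc_42_0 lc_g_Cert_tree lc_g_rc_42_0 lc_g_rc_33_1 lc_g_Cert_tree lc_g_Cert_tree lc_g_rc_42_0 lc_g_rc_33_1)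
def ce_g_17 : D2 → D3 → (Cert rels S Gen.g) := @D2.rec (fun _ => D3 → (Cert rels S Gen.g)) (@D3.rec (fun _ => (Cert rels S Gen.g)) lc_g_Cert_tree lc_g_Cert_tree lc_g_rc_42_0 lc_g_Cert_tree lc_g_rc_15_3 lc_g_rc_42_0 lc_g_rc_33_1 lc_g_rc_41_0 lc_g_Cert_tree lc_g_rc_22_1 lc_g_Cert_tree lc_g_rc_7_1 lc_g_rc_22_1 lc_g_Cert_tree lc_g_rc_42_0 lc_g_Cert_tree lc_g_Cert_tree lc_g_rc_42_0 lc_g_rc_7_1 lc_g_Cert_tree lc_g_rc_42_0 lc_g_rc_7_1 lc_g_Cert_tree lc_g_Cert_tree lc_g_rc_42_0 lc_g_rc_41_0 lc_g_Cert_tree lc_g_rc_33_1 lc_g_Cert_tree lc_g_rc_42_0 lc_g_rc_22_1 lc_g_rc_33_1) (@D3.rec (fun _ => (Cert rels S Gen.g)) lc_g_rc_15_1 lc_g_rc_22_1 lc_g_Cert_tree lc_g_rc_33_1 lc_g_rc_15_1 lc_g_Cert_tree lc_g_rc_22_1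 lc_g_rc_15_1 lc_g_Cert_tree lc_g_rc_42_0 lc_g_rc_15_1 lc_g_rc_42_0 lc_g_rc_42_0 lc_g_rc_15_1 lc_g_rc_22_1 lc_g_Cert_tree lc_g_rc_15_1 lc_g_Cert_tree lc_g_rc_42_0 lc_g_rc_42_0 lc_g_rc_41_2 lc_g_rc_22_1 lc_g_rc_33_1 lc_g_rc_22_1 lc_g_Cert_tree lc_g_Cert_tree lc_g_Cert_tree lc_g_rc_42_0 lc_g_rc_22_1 lc_g_rc_7_3 lc_g_rc_33_1 lc_g_rc_22_1) (@D3.rec (fun _ => (Cert rels S Gen.g)) lc_g_rc_7_3 lc_g_rc_7_3 lc_g_rc_7_3 lc_g_Cert_tree lc_g_rc_15_1 lc_g_rc_22_1 lc_g_Cert_tree lc_g_rc_7_1 lc_g_rc_15_1 lc_g_rc_28_1 lc_g_Cert_tree lc_g_rc_42_0 lc_g_Cert_tree lc_g_rc_7_3 lc_g_Cert_tree lc_g_rc_42_0 lc_g_rc_7_1 lc_g_Cert_tree lc_g_rc_42_0 lc_g_rc_22_1 lc_g_Cert_tree lc_g_Cert_tree lc_g_rc_42_0 lc_g_rc_42_0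 lc_g_rc_15_1 lc_g_rc_22_1 lc_g_Cert_tree lc_g_rc_15_1 lc_g_Cert_tree lc_g_rc_42_0 lc_g_rc_33_1 lc_g_rc_22_3) (@D3.rec (fun _ => (Cert rels S Gen.g)) lc_g_rc_22_1 lc_g_Cert_tree lc_g_rc_7_1 lc_g_rc_15_1 lc_g_Cert_tree lc_g_rc_42_0 lc_g_Cert_tree lc_g_rc_22_3 lc_g_rc_15_1 lc_g_Cert_tree lc_g_rc_42_0 lc_g_Cert_tree lc_g_rc_42_0 lc_g_rc_41_2 lc_g_rc_22_1 lc_g_rc_39_5 lc_g_rc_22_1 lc_g_Cert_tree lc_g_Cert_tree lc_g_Cert_tree lc_g_rc_42_0 lc_g_rc_15_1 lc_g_rc_33_1 lc_g_rc_22_1 lc_g_rc_33_1 lc_g_rc_22_1 lc_g_rc_15_1 lc_g_rc_22_1 lc_g_Cert_tree lc_g_rc_15_1 lc_g_rc_22_1 lc_g_Cert_tree) (@D3.rec (fun _ => (Cert rels S Gen.g)) lc_g_rc_15_1 lc_g_rc_28_1 lc_g_Cert_tree lc_g_rc_42_0 lc_g_rc_22_1 lc_g_Cert_tree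 lc_g_rc_15_1 lc_g_Cert_tree lc_g_rc_42_0 lc_g_Cert_tree lc_g_rc_42_0 lc_g_Cert_tree lc_g_Cert_tree lc_g_rc_43_2 lc_g_rc_22_1 lc_g_Cert_tree lc_g_rc_7_3 lc_g_Cert_tree lc_g_rc_42_0 lc_g_rc_7_1 lc_g_rc_15_1 lc_g_rc_28_1 lc_g_Cert_tree lc_g_rc_42_0 lc_g_rc_7_1 lc_g_rc_15_1 lc_g_Cert_tree lc_g_Cert_tree lc_g_rc_42_0 lc_g_rc_42_0 lc_g_Cert_tree lc_g_rc_42_0) (@D3.rec (fun _ => (Cert rels S Gen.g)) lc_g_Cert_tree lc_g_rc_42_0 lc_g_rc_28_1 lc_g_rc_43_2 lc_g_rc_15_1 lc_g_rc_41_2 lc_g_rc_41_2 lc_g_rc_22_1 lc_g_rc_15_1 lc_g_rc_42_0 lc_g_Cert_tree lc_g_rc_42_0 lc_g_Cert_tree lc_g_rc_42_0 lc_g_rc_42_0 lc_g_rc_42_0 lc_g_Cert_tree lc_g_rc_22_1 lc_g_Cert_tree lc_g_Cert_tree lc_g_rc_42_0 lc_g_rc_22_1 lc_g_rc_33_1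 lc_g_rc_22_1 lc_g_Cert_tree lc_g_rc_43_2 lc_g_rc_43_2 lc_g_rc_15_1 lc_g_rc_22_1 lc_g_Cert_tree lc_g_rc_28_1 lc_g_Cert_tree) (@D3.rec (fun _ => (Cert rels S Gen.g)) lc_g_rc_42_0 lc_g_rc_33_1 lc_g_Cert_tree lc_g_rc_15_1 lc_g_rc_22_1 lc_g_Cert_tree lc_g_rc_41_2 lc_g_rc_15_1 lc_g_Cert_tree lc_g_rc_42_0 lc_g_rc_33_1 lc_g_rc_33_1 lc_g_rc_33_3 lc_g_rc_42_0 lc_g_Cert_tree lc_g_rc_42_0 lc_g_Cert_tree lc_g_rc_42_0 lc_g_Cert_tree lc_g_rc_42_0 lc_g_rc_42_0 lc_g_rc_41_0 lc_g_rc_33_1 lc_g_Cert_tree lc_g_Cert_tree lc_g_rc_42_0 lc_g_rc_42_0 lc_g_rc_22_1 lc_g_Cert_tree lc_g_Cert_tree lc_g_rc_42_0 lc_g_rc_22_1) (@D3.rec (fun _ => (Cert rels S Gen.g)) lc_g_Cert_tree lc_g_Cert_tree lc_g_rc_42_0 lc_g_Cert_tree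 lc_g_rc_39_5 lc_g_rc_42_0 lc_g_Cert_tree lc_g_Cert_tree lc_g_rc_42_0 lc_g_rc_42_0 lc_g_rc_22_1 lc_g_rc_33_1 lc_g_rc_22_1 lc_g_Cert_tree lc_g_Cert_tree lc_g_rc_42_0 lc_g_rc_42_0 lc_g_rc_22_1 lc_g_rc_33_1 lc_g_rc_22_1 lc_g_rc_33_1 lc_g_rc_22_1 lc_g_Cert_tree lc_g_rc_22_1 lc_g_Cert_tree lc_g_rc_28_1 lc_g_Cert_tree lc_g_rc_42_0 lc_g_Cert_tree lc_g_rc_42_0 lc_g_rc_42_0 lc_g_rc_42_0) (@D3.rec (fun _ => (Cert rels S Gen.g)) lc_g_rc_42_1 lc_g_rc_43_2 lc_g_Cert_tree lc_g_Cert_tree lc_g_Cert_tree lc_g_Cert_tree lc_g_rc_42_0 lc_g_rc_41_0 lc_g_Cert_tree lc_g_rc_42_0 lc_g_Cert_tree lc_g_rc_42_0 lc_g_rc_42_0 lc_g_rc_42_0 lc_g_rc_43_2 lc_g_rc_42_0 lc_g_Cert_tree lc_g_rc_42_0 lc_g_rc_22_1 lc_g_Cert_tree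 lc_g_rc_22_1 lc_g_Cert_tree lc_g_rc_28_1 lc_g_Cert_tree lc_g_rc_42_0 lc_g_Cert_tree lc_g_rc_42_0 lc_g_rc_42_0 lc_g_Cert_tree lc_g_Cert_tree lc_g_rc_42_0 lc_g_rc_42_0) (@D3.rec (fun _ => (Cert rels S Gen.g)) lc_g_rc_7_1 lc_g_rc_15_1 lc_g_Cert_tree lc_g_rc_42_0 lc_g_rc_41_2 lc_g_Cert_tree lc_g_rc_42_0 lc_g_rc_43_0 lc_g_rc_22_1 lc_g_rc_43_2 lc_g_rc_15_1 lc_g_rc_22_1 lc_g_Cert_tree lc_g_Cert_tree lc_g_rc_39_5 lc_g_rc_15_1 lc_g_Cert_tree lc_g_rc_42_0 lc_g_rc_41_0 lc_g_rc_22_1 lc_g_rc_41_0 lc_g_rc_15_1 lc_g_rc_22_1 lc_g_Cert_tree lc_g_rc_15_1 lc_g_rc_43_2 lc_g_Cert_tree lc_g_rc_33_3 lc_g_rc_47_40 lc_g_Cert_tree lc_g_rc_42_0 lc_g_rc_22_1) (@D3.rec (fun _ => (Cert rels S Gen.g)) lc_g_Cert_tree lc_g_rc_33_3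 lc_g_rc_15_1 lc_g_rc_15_1 lc_g_Cert_tree lc_g_rc_42_0 lc_g_rc_7_1 lc_g_Cert_tree lc_g_rc_42_0 lc_g_rc_22_1 lc_g_rc_41_2 lc_g_rc_15_1 lc_g_rc_22_1 lc_g_Cert_tree lc_g_rc_15_1 lc_g_Cert_tree lc_g_rc_42_0 lc_g_rc_22_1 lc_g_rc_15_1 lc_g_rc_33_1 lc_g_rc_33_1 lc_g_Cert_tree lc_g_rc_22_1 lc_g_Cert_tree lc_g_rc_28_1 lc_g_Cert_tree lc_g_rc_42_0 lc_g_Cert_tree lc_g_rc_42_0 lc_g_rc_42_0 lc_g_rc_22_1 lc_g_Cert_tree) (@D3.rec (fun _ => (Cert rels S Gen.g)) lc_g_Cert_tree lc_g_Cert_tree lc_g_rc_42_0 lc_g_rc_42_0 lc_g_rc_42_0 lc_g_rc_22_1 lc_g_Cert_tree lc_g_Cert_tree lc_g_Cert_tree lc_g_rc_42_0 lc_g_rc_42_0 lc_g_rc_42_0 lc_g_rc_22_1 lc_g_rc_43_2 lc_g_rc_43_2 lc_g_rc_7_1 lc_g_Cert_tree lc_g_rc_15_1 lc_g_rc_22_1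 lc_g_Cert_tree lc_g_rc_15_1 lc_g_Cert_tree lc_g_rc_42_0 lc_g_Cert_tree lc_g_rc_42_0 lc_g_Cert_tree lc_g_rc_42_0 lc_g_rc_15_1 lc_g_Cert_tree lc_g_Cert_tree lc_g_Cert_tree lc_g_Cert_tree) (@D3.rec (fun _ => (Cert rels S Gen.g)) lc_g_rc_42_0 lc_g_rc_28_1 lc_g_Cert_tree lc_g_rc_42_0 lc_g_rc_15_1 lc_g_Cert_tree lc_g_Cert_tree lc_g_rc_42_0 lc_g_rc_42_0 lc_g_rc_42_0 lc_g_rc_42_0 lc_g_Cert_tree lc_g_rc_42_0 lc_g_rc_42_0 lc_g_rc_42_0 lc_g_rc_42_0 lc_g_rc_42_0 lc_g_rc_42_0 lc_g_rc_42_0 lc_g_rc_15_1 lc_g_rc_43_2 lc_g_rc_15_1 lc_g_rc_22_1 lc_g_Cert_tree lc_g_rc_28_1 lc_g_Cert_tree lc_g_rc_42_0 lc_g_rc_15_1 lc_g_rc_39_5 lc_g_Cert_tree lc_g_rc_15_1 lc_g_rc_22_1) (@D3.rec (fun _ => (Cert rels S Gen.g))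 lc_g_Cert_tree lc_g_rc_43_2 lc_g_rc_15_1 lc_g_Cert_tree lc_g_rc_42_0 lc_g_rc_43_2 lc_g_rc_43_2 lc_g_rc_28_1 lc_g_Cert_tree lc_g_rc_7_1 lc_g_rc_42_0 lc_g_rc_15_1 lc_g_rc_22_1 lc_g_Cert_tree lc_g_rc_15_1 lc_g_rc_28_1 lc_g_Cert_tree lc_g_rc_42_0 lc_g_Cert_tree lc_g_rc_42_0 lc_g_rc_43_2 lc_g_rc_22_1 lc_g_Cert_tree lc_g_rc_15_1 lc_g_rc_28_1 lc_g_Cert_tree lc_g_rc_42_0 lc_g_Cert_tree lc_g_Cert_tree lc_g_rc_7_1 lc_g_rc_42_0 lc_g_Cert_tree) (@D3.rec (fun _ => (Cert rels S Gen.g)) lc_g_rc_42_0 lc_g_rc_42_1 lc_g_rc_43_2 lc_g_Cert_tree lc_g_rc_22_1 lc_g_Cert_tree lc_g_Cert_tree lc_g_rc_42_0 lc_g_rc_43_2 lc_g_rc_15_1 lc_g_rc_43_2 lc_g_Cert_tree lc_g_rc_42_0 lc_g_rc_22_1 lc_g_rc_15_1 lc_g_Cert_tree lc_g_Cert_tree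 lc_g_rc_42_0 lc_g_rc_42_0 lc_g_rc_42_0 lc_g_rc_43_2 lc_g_rc_15_1 lc_g_rc_33_3 lc_g_rc_43_2 lc_g_rc_43_2 lc_g_rc_22_1 lc_g_Cert_tree lc_g_rc_15_1 lc_g_rc_22_1 lc_g_Cert_tree lc_g_rc_41_2 lc_g_rc_15_1) (@D3.rec (fun _ => (Cert rels S Gen.g)) lc_g_rc_28_1 lc_g_Cert_tree lc_g_rc_42_0 lc_g_rc_22_1 lc_g_Cert_tree lc_g_rc_28_1 lc_g_rc_15_1 lc_g_rc_15_1 lc_g_Cert_tree lc_g_rc_42_0 lc_g_rc_43_2 lc_g_Cert_tree lc_g_rc_42_0 lc_g_rc_22_1 lc_g_Cert_tree lc_g_rc_22_1 lc_g_Cert_tree lc_g_rc_28_1 lc_g_Cert_tree lc_g_rc_42_0 lc_g_rc_28_1 lc_g_Cert_tree lc_g_rc_42_0 lc_g_Cert_tree lc_g_rc_42_0 lc_g_rc_42_0 lc_g_Cert_tree lc_g_rc_42_0 lc_g_Cert_tree lc_g_rc_42_0 lc_g_rc_22_1 lc_g_rc_15_1) (@D3.rec (fun _ =>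 (Cert rels S Gen.g)) lc_g_Cert_tree lc_g_rc_42_0 lc_g_Cert_tree lc_g_Cert_tree lc_g_rc_42_0 lc_g_rc_22_1 lc_g_rc_15_1 lc_g_Cert_tree lc_g_Cert_tree lc_g_rc_43_2 lc_g_rc_42_0 lc_g_rc_28_1 lc_g_Cert_tree lc_g_Cert_tree lc_g_rc_42_0 lc_g_rc_42_0 lc_g_rc_42_0 lc_g_rc_42_0 lc_g_rc_42_0 lc_g_rc_42_1 lc_g_rc_42_0 lc_g_rc_28_1 lc_g_rc_15_1 lc_g_rc_22_1 lc_g_Cert_tree lc_g_rc_15_1 lc_g_rc_22_1 lc_g_Cert_tree lc_g_rc_28_1 lc_g_Cert_tree lc_g_rc_42_0 lc_g_rc_15_1) (@D3.rec (fun _ => (Cert rels S Gen.g)) lc_g_rc_22_1 lc_g_Cert_tree lc_g_rc_43_2 lc_g_rc_22_1 lc_g_Cert_tree lc_g_rc_47_47 lc_g_rc_15_1 lc_g_Cert_tree lc_g_rc_42_0 lc_g_rc_28_1 lc_g_rc_42_0 lc_g_Cert_tree lc_g_rc_42_0 lc_g_rc_22_1 lc_g_Cert_tree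 lc_g_Cert_tree lc_g_rc_42_0 lc_g_Cert_tree lc_g_rc_42_0 lc_g_Cert_tree lc_g_rc_42_0 lc_g_Cert_tree lc_g_rc_7_3 lc_g_rc_42_0 lc_g_rc_22_1 lc_g_Cert_tree lc_g_rc_22_1 lc_g_Cert_tree lc_g_rc_22_1 lc_g_rc_28_1 lc_g_Cert_tree lc_g_rc_42_0) (@D3.rec (fun _ => (Cert rels S Gen.g)) lc_g_Cert_tree lc_g_rc_42_0 lc_g_Cert_tree lc_g_rc_42_0 lc_g_rc_42_0 lc_g_Cert_tree lc_g_rc_42_0 lc_g_rc_42_0 lc_g_rc_42_0 lc_g_rc_42_0 lc_g_Cert_tree lc_g_rc_42_0 lc_g_rc_42_0 lc_g_Cert_tree lc_g_rc_42_0 lc_g_rc_42_0 lc_g_rc_42_0 lc_g_rc_42_1 lc_g_Cert_tree lc_g_Cert_tree lc_g_rc_42_0 lc_g_Cert_tree lc_g_rc_42_0 lc_g_rc_7_1 lc_g_Cert_tree lc_g_rc_42_0 lc_g_rc_42_0 lc_g_rc_42_0 lc_g_Cert_tree lc_g_rc_42_0 lc_g_rc_42_0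 lc_g_rc_42_0) (@D3.rec (fun _ => (Cert rels S Gen.g)) lc_g_Cert_tree lc_g_rc_42_0 lc_g_Cert_tree lc_g_rc_42_0 lc_g_rc_22_1 lc_g_Cert_tree lc_g_rc_15_1 lc_g_rc_28_1 lc_g_Cert_tree lc_g_rc_42_0 lc_g_Cert_tree lc_g_rc_15_1 lc_g_Cert_tree lc_g_rc_42_0 lc_g_rc_22_1 lc_g_Cert_tree lc_g_rc_42_0 lc_g_rc_15_1 lc_g_rc_15_1 lc_g_rc_28_1 lc_g_Cert_tree lc_g_rc_42_0 lc_g_Cert_tree lc_g_rc_42_0 lc_g_Cert_tree lc_g_rc_22_1 lc_g_Cert_tree lc_g_Cert_tree lc_g_rc_42_0 lc_g_rc_42_0 lc_g_rc_42_0 lc_g_rc_22_1) (@D3.rec (fun _ => (Cert rels S Gen.g)) lc_g_Cert_tree lc_g_Cert_tree lc_g_rc_43_2 lc_g_rc_22_1 lc_g_Cert_tree lc_g_rc_15_1 lc_g_rc_7_3 lc_g_Cert_tree lc_g_rc_42_0 lc_g_rc_43_2 lc_g_rc_15_1 lc_g_rc_28_1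 lc_g_Cert_tree lc_g_rc_42_0 lc_g_rc_7_1 lc_g_rc_15_1 lc_g_Cert_tree lc_g_Cert_tree lc_g_rc_42_0 lc_g_rc_42_0 lc_g_Cert_tree lc_g_rc_42_0 lc_g_Cert_tree lc_g_rc_42_0 lc_g_rc_28_1 lc_g_Cert_tree lc_g_rc_42_0 lc_g_rc_42_0 lc_g_rc_15_1 lc_g_rc_28_1 lc_g_Cert_tree lc_g_rc_42_0) (@D3.rec (fun _ => (Cert rels S Gen.g)) lc_g_Cert_tree lc_g_rc_42_0 lc_g_Cert_tree lc_g_rc_22_3 lc_g_rc_28_1 lc_g_Cert_tree lc_g_rc_42_0 lc_g_rc_7_1 lc_g_Cert_tree lc_g_rc_42_0 lc_g_rc_42_0 lc_g_Cert_tree lc_g_Cert_tree lc_g_rc_42_0 lc_g_rc_42_0 lc_g_Cert_tree lc_g_rc_22_1 lc_g_Cert_tree lc_g_rc_28_1 lc_g_Cert_tree lc_g_rc_42_0 lc_g_rc_42_0 lc_g_rc_42_0 lc_g_rc_15_1 lc_g_Cert_tree lc_g_rc_22_1 lc_g_Cert_tree lc_g_rc_22_1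 lc_g_Cert_tree lc_g_rc_28_1 lc_g_Cert_tree lc_g_rc_42_0)
def ce_g_18 : D2 → D3 → (Cert rels S Gen.g) := @D2.rec (fun _ => D3 → (Cert rels S Gen.g)) (@D3.rec (fun _ => (Cert rels S Gen.g)) lc_g_rc_15_1 lc_g_rc_28_1 lc_g_Cert_tree lc_g_rc_42_0 lc_g_rc_15_1 lc_g_Cert_tree lc_g_Cert_tree lc_g_rc_42_0 lc_g_Cert_tree lc_g_rc_42_0 lc_g_Cert_tree lc_g_rc_15_1 lc_g_rc_42_0 lc_g_rc_42_0 lc_g_rc_42_0 lc_g_rc_42_0 lc_g_rc_43_2 lc_g_Cert_tree lc_g_rc_42_0 lc_g_Cert_tree lc_g_rc_42_0 lc_g_rc_7_1 lc_g_rc_15_1 lc_g_Cert_tree lc_g_Cert_tree lc_g_rc_39_5 lc_g_rc_42_0 lc_g_rc_39_5 lc_g_Cert_tree lc_g_rc_15_1 lc_g_Cert_tree lc_g_rc_42_0) (@D3.rec (fun _ => (Cert rels S Gen.g)) lc_g_rc_42_0 lc_g_rc_42_0 lc_g_rc_42_0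 lc_g_rc_43_2 lc_g_rc_22_1 lc_g_rc_15_1 lc_g_rc_33_3 lc_g_rc_43_2 lc_g_rc_42_0 lc_g_rc_42_0 lc_g_rc_42_0 lc_g_rc_28_1 lc_g_Cert_tree lc_g_rc_42_0 lc_g_rc_42_0 lc_g_rc_22_1 lc_g_Cert_tree lc_g_rc_28_1 lc_g_Cert_tree lc_g_rc_42_0 lc_g_rc_43_2 lc_g_Cert_tree lc_g_rc_42_0 lc_g_rc_22_1 lc_g_rc_28_1 lc_g_Cert_tree lc_g_rc_42_0 lc_g_Cert_tree lc_g_rc_42_0 lc_g_Cert_tree lc_g_rc_42_0 lc_g_rc_33_3) (@D3.rec (fun _ => (Cert rels S Gen.g)) lc_g_rc_15_1 lc_g_rc_28_1 lc_g_Cert_tree lc_g_rc_42_0 lc_g_rc_39_5 lc_g_Cert_tree lc_g_rc_42_0 lc_g_rc_33_3 lc_g_rc_42_0 lc_g_rc_42_0 lc_g_rc_42_0 lc_g_Cert_tree lc_g_Cert_tree lc_g_rc_42_0 lc_g_rc_42_0 lc_g_rc_28_1 lc_g_Cert_tree lc_g_rc_42_0 lc_g_rc_42_0 lc_g_rc_28_1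 lc_g_Cert_tree lc_g_rc_42_0 lc_g_rc_42_0 lc_g_rc_42_0 lc_g_rc_42_1 lc_g_rc_43_2 lc_g_rc_42_0 lc_g_rc_42_0 lc_g_rc_22_1 lc_g_Cert_tree lc_g_rc_28_1 lc_g_Cert_tree) (@D3.rec (fun _ => (Cert rels S Gen.g)) lc_g_rc_42_0 lc_g_rc_42_0 lc_g_rc_22_1 lc_g_Cert_tree lc_g_rc_22_1 lc_g_Cert_tree lc_g_rc_28_1 lc_g_Cert_tree lc_g_rc_42_0 lc_g_rc_28_1 lc_g_Cert_tree lc_g_rc_42_0 lc_g_Cert_tree lc_g_rc_42_0 lc_g_rc_42_0 lc_g_rc_41_2 lc_g_rc_43_2 lc_g_rc_42_0 lc_g_rc_42_0 lc_g_rc_42_0 lc_g_rc_42_0 lc_g_Cert_tree lc_g_rc_42_0 lc_g_rc_42_0 lc_g_rc_42_0 lc_g_rc_28_1 lc_g_Cert_tree lc_g_rc_42_0 lc_g_rc_28_1 lc_g_Cert_tree lc_g_rc_42_0 lc_g_Cert_tree) (@D3.rec (fun _ => (Cert rels S Gen.g)) lc_g_rc_42_0 lc_g_rc_42_0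 lc_g_rc_42_0 lc_g_rc_42_0 lc_g_rc_7_1 lc_g_Cert_tree lc_g_rc_42_0 lc_g_Cert_tree lc_g_rc_42_0 lc_g_Cert_tree lc_g_rc_15_1 lc_g_rc_22_1 lc_g_Cert_tree lc_g_rc_41_2 lc_g_rc_15_1 lc_g_rc_28_1 lc_g_Cert_tree lc_g_rc_42_0 lc_g_rc_42_0 lc_g_rc_43_0 lc_g_Cert_tree lc_g_rc_42_0 lc_g_Cert_tree lc_g_rc_15_1 lc_g_rc_22_1 lc_g_Cert_tree lc_g_rc_15_1 lc_g_rc_28_1 lc_g_Cert_tree lc_g_rc_42_0 lc_g_rc_43_2 lc_g_rc_15_1) (@D3.rec (fun _ => (Cert rels S Gen.g)) lc_g_Cert_tree lc_g_rc_42_0 lc_g_rc_28_1 lc_g_Cert_tree lc_g_rc_42_0 lc_g_Cert_tree lc_g_rc_42_0 lc_g_Cert_tree lc_g_Cert_tree lc_g_rc_42_0 lc_g_Cert_tree lc_g_rc_42_0 lc_g_rc_15_1 lc_g_rc_22_1 lc_g_Cert_tree lc_g_rc_15_1 lc_g_rc_28_1 lc_g_Cert_tree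 lc_g_rc_42_0 lc_g_Cert_tree lc_g_rc_42_0 lc_g_rc_22_1 lc_g_Cert_tree lc_g_Cert_tree lc_g_rc_28_1 lc_g_Cert_tree lc_g_rc_42_0 lc_g_rc_28_1 lc_g_Cert_tree lc_g_rc_42_0 lc_g_Cert_tree lc_g_rc_42_0) (@D3.rec (fun _ => (Cert rels S Gen.g)) lc_g_rc_42_0 lc_g_Cert_tree lc_g_rc_42_0 lc_g_rc_42_0 lc_g_rc_42_0 lc_g_Cert_tree lc_g_rc_42_0 lc_g_rc_42_0 lc_g_rc_42_0 lc_g_rc_22_1 lc_g_Cert_tree lc_g_Cert_tree lc_g_Cert_tree lc_g_rc_42_0 lc_g_rc_15_1 lc_g_Cert_tree lc_g_rc_42_0 lc_g_Cert_tree lc_g_rc_42_0 lc_g_rc_42_0 lc_g_rc_42_0 lc_g_Cert_tree lc_g_rc_42_0 lc_g_rc_42_0 lc_g_rc_42_0 lc_g_rc_42_0 lc_g_Cert_tree lc_g_rc_42_0 lc_g_Cert_tree lc_g_rc_42_0 lc_g_rc_42_0 lc_g_rc_42_0) (@D3.rec (fun _ => (Cert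 rels S Gen.g)) lc_g_rc_43_2 lc_g_rc_22_1 lc_g_rc_28_1 lc_g_Cert_tree lc_g_rc_42_0 lc_g_Cert_tree lc_g_rc_15_1 lc_g_rc_42_0 lc_g_rc_43_2 lc_g_rc_15_1 lc_g_rc_39_5 lc_g_Cert_tree lc_g_rc_42_0 lc_g_rc_43_2 lc_g_rc_15_1 lc_g_rc_33_1 lc_g_Cert_tree lc_g_rc_42_0 lc_g_rc_43_2 lc_g_Cert_tree lc_g_rc_42_0 lc_g_rc_43_2 lc_g_rc_42_0 lc_g_rc_42_1 lc_g_rc_43_2 lc_g_rc_15_1 lc_g_rc_28_1 lc_g_Cert_tree lc_g_rc_42_0 lc_g_rc_15_1 lc_g_Cert_tree lc_g_Cert_tree) (@D3.rec (fun _ => (Cert rels S Gen.g)) lc_g_rc_42_0 lc_g_rc_42_0 lc_g_rc_43_2 lc_g_rc_28_1 lc_g_Cert_tree lc_g_rc_42_0 lc_g_rc_22_3 lc_g_Cert_tree lc_g_Cert_tree lc_g_rc_28_1 lc_g_rc_42_0 lc_g_rc_42_0 lc_g_rc_42_0 lc_g_rc_42_1 lc_g_rc_43_2 lc_g_rc_42_0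 lc_g_rc_42_1 lc_g_rc_41_2 lc_g_rc_43_2 lc_g_rc_42_0 lc_g_Cert_tree lc_g_rc_42_0 lc_g_rc_42_0 lc_g_rc_43_2 lc_g_rc_15_1 lc_g_Cert_tree lc_g_Cert_tree lc_g_rc_42_0 lc_g_rc_7_1 lc_g_Cert_tree lc_g_rc_42_0 lc_g_rc_42_0) (@D3.rec (fun _ => (Cert rels S Gen.g)) lc_g_rc_43_2 lc_g_rc_28_1 lc_g_Cert_tree lc_g_rc_42_0 lc_g_rc_43_2 lc_g_rc_15_1 lc_g_rc_28_1 lc_g_Cert_tree lc_g_rc_42_0 lc_g_rc_47_40 lc_g_rc_15_1 lc_g_Cert_tree lc_g_Cert_tree lc_g_rc_42_0 lc_g_Cert_tree lc_g_rc_42_0 lc_g_rc_33_1 lc_g_Cert_tree lc_g_Cert_tree lc_g_rc_42_0 lc_g_Cert_tree lc_g_rc_42_0 lc_g_rc_28_1 lc_g_Cert_tree lc_g_rc_42_0 lc_g_rc_28_1 lc_g_Cert_tree lc_g_rc_42_0 lc_g_Cert_tree lc_g_rc_42_0 lc_g_Cert_tree lc_g_rc_41_2)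 (@D3.rec (fun _ => (Cert rels S Gen.g)) lc_g_rc_42_0 lc_g_Cert_tree lc_g_rc_42_0 lc_g_rc_42_0 lc_g_rc_42_0 lc_g_Cert_tree lc_g_Cert_tree lc_g_rc_42_0 lc_g_rc_42_0 lc_g_rc_42_0 lc_g_rc_28_1 lc_g_Cert_tree lc_g_Cert_tree lc_g_rc_15_1 lc_g_rc_42_0 lc_g_rc_42_0 lc_g_rc_42_1 lc_g_Cert_tree lc_g_rc_42_0 lc_g_rc_42_0 lc_g_rc_41_2 lc_g_rc_33_3 lc_g_rc_28_1 lc_g_Cert_tree lc_g_rc_42_0 lc_g_rc_15_1 lc_g_rc_28_1 lc_g_Cert_tree lc_g_rc_42_0 lc_g_Cert_tree lc_g_rc_7_3 lc_g_rc_42_0) (@D3.rec (fun _ => (Cert rels S Gen.g)) lc_g_rc_15_1 lc_g_rc_28_1 lc_g_Cert_tree lc_g_rc_42_0 lc_g_rc_43_2 lc_g_rc_28_1 lc_g_Cert_tree lc_g_rc_42_0 lc_g_rc_47_40 lc_g_Cert_tree lc_g_rc_42_0 lc_g_rc_33_3 lc_g_rc_42_0 lc_g_rc_28_1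 lc_g_Cert_tree lc_g_rc_42_0 lc_g_rc_42_0 lc_g_rc_42_0 lc_g_rc_42_0 lc_g_rc_42_0 lc_g_rc_42_1 lc_g_rc_28_1 lc_g_Cert_tree lc_g_rc_42_0 lc_g_rc_28_1 lc_g_Cert_tree lc_g_rc_42_0 lc_g_rc_33_1 lc_g_Cert_tree lc_g_Cert_tree lc_g_rc_42_0 lc_g_rc_42_0) (@D3.rec (fun _ => (Cert rels S Gen.g)) lc_g_rc_42_0 lc_g_rc_42_0 lc_g_rc_42_0 lc_g_rc_42_0 lc_g_rc_41_2 lc_g_rc_42_0 lc_g_rc_42_0 lc_g_rc_42_0 lc_g_Cert_tree lc_g_rc_42_0 lc_g_rc_42_0 lc_g_rc_42_0 lc_g_rc_42_0 lc_g_rc_28_1 lc_g_Cert_tree lc_g_rc_42_0 lc_g_rc_15_1 lc_g_Cert_tree lc_g_Cert_tree lc_g_rc_42_0 lc_g_rc_42_0 lc_g_Cert_tree lc_g_rc_15_1 lc_g_rc_42_0 lc_g_Cert_tree lc_g_rc_42_0 lc_g_rc_15_1 lc_g_Cert_tree lc_g_Cert_tree lc_g_rc_42_0 lc_g_rc_42_0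 lc_g_rc_42_0) (@D3.rec (fun _ => (Cert rels S Gen.g)) lc_g_Cert_tree lc_g_rc_42_0 lc_g_rc_42_0 lc_g_rc_28_1 lc_g_Cert_tree lc_g_rc_42_0 lc_g_rc_42_0 lc_g_rc_43_2 lc_g_rc_28_1 lc_g_Cert_tree lc_g_rc_42_0 lc_g_rc_15_1 lc_g_Cert_tree lc_g_Cert_tree lc_g_rc_42_0 lc_g_rc_43_2 lc_g_rc_15_1 lc_g_Cert_tree lc_g_Cert_tree lc_g_rc_39_5 lc_g_rc_42_0 lc_g_rc_28_1 lc_g_Cert_tree lc_g_Cert_tree lc_g_rc_42_0 lc_g_Cert_tree lc_g_rc_42_0 lc_g_rc_42_0 lc_g_rc_42_0 lc_g_Cert_tree lc_g_rc_42_0 lc_g_rc_15_1) (@D3.rec (fun _ => (Cert rels S Gen.g)) lc_g_Cert_tree lc_g_Cert_tree lc_g_rc_42_0 lc_g_rc_42_0 lc_g_rc_42_0 lc_g_Cert_tree lc_g_Cert_tree lc_g_rc_42_0 lc_g_Cert_tree lc_g_rc_42_0 lc_g_rc_42_0 lc_g_rc_42_0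 lc_g_rc_42_0 lc_g_rc_28_1 lc_g_Cert_tree lc_g_rc_42_0 lc_g_Cert_tree lc_g_rc_42_0 lc_g_rc_15_1 lc_g_Cert_tree lc_g_rc_42_0 lc_g_rc_28_1 lc_g_Cert_tree lc_g_rc_42_0 lc_g_rc_28_1 lc_g_Cert_tree lc_g_rc_42_0 lc_g_Cert_tree lc_g_rc_28_1 lc_g_rc_42_0 lc_g_rc_15_1 lc_g_Cert_tree) (@D3.rec (fun _ => (Cert rels S Gen.g)) lc_g_Cert_tree lc_g_rc_42_0 lc_g_rc_15_1 lc_g_Cert_tree lc_g_rc_42_0 lc_g_Cert_tree lc_g_rc_42_0 lc_g_rc_42_0 lc_g_rc_42_0 lc_g_rc_42_1 lc_g_rc_43_2 lc_g_Cert_tree lc_g_rc_42_0 lc_g_rc_42_0 lc_g_rc_43_2 lc_g_Cert_tree lc_g_rc_15_1 lc_g_Cert_tree lc_g_rc_15_1 lc_g_rc_42_0 lc_g_rc_42_0 lc_g_rc_42_1 lc_g_rc_42_1 lc_g_Cert_tree lc_g_rc_42_0 lc_g_Cert_tree lc_g_rc_42_0 lc_g_rc_43_2 lc_g_rc_43_0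 lc_g_Cert_tree lc_g_rc_42_0 lc_g_rc_28_1) (@D3.rec (fun _ => (Cert rels S Gen.g)) lc_g_Cert_tree lc_g_rc_42_0 lc_g_Cert_tree lc_g_rc_42_0 lc_g_rc_41_2 lc_g_Cert_tree lc_g_rc_42_0 lc_g_rc_28_3 lc_g_rc_15_1 lc_g_Cert_tree lc_g_Cert_tree lc_g_rc_42_0 lc_g_Cert_tree lc_g_rc_42_0 lc_g_rc_42_0 lc_g_rc_28_1 lc_g_rc_28_1 lc_g_Cert_tree lc_g_Cert_tree lc_g_rc_42_0 lc_g_Cert_tree lc_g_rc_42_0 lc_g_rc_42_0 lc_g_rc_42_0 lc_g_Cert_tree lc_g_rc_42_0 lc_g_Cert_tree lc_g_rc_42_0 lc_g_rc_41_2 lc_g_rc_43_2 lc_g_rc_28_1 lc_g_Cert_tree) (@D3.rec (fun _ => (Cert rels S Gen.g)) lc_g_rc_42_0 lc_g_Cert_tree lc_g_rc_42_0 lc_g_rc_28_1 lc_g_Cert_tree lc_g_rc_42_0 lc_g_rc_28_1 lc_g_Cert_tree lc_g_rc_42_0 lc_g_Cert_tree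 lc_g_rc_42_0 lc_g_Cert_tree lc_g_rc_39_5 lc_g_rc_42_0 lc_g_Cert_tree lc_g_rc_42_0 lc_g_rc_43_2 lc_g_rc_42_0 lc_g_Cert_tree lc_g_rc_42_0 lc_g_Cert_tree lc_g_rc_42_0 lc_g_Cert_tree lc_g_rc_42_0 lc_g_Cert_tree lc_g_rc_42_0 lc_g_rc_42_0 lc_g_rc_42_0 lc_g_rc_43_2 lc_g_rc_15_1 lc_g_rc_28_1 lc_g_Cert_tree) (@D3.rec (fun _ => (Cert rels S Gen.g)) lc_g_rc_42_0 lc_g_rc_7_1 lc_g_rc_15_1 lc_g_Cert_tree lc_g_Cert_tree lc_g_rc_42_0 lc_g_Cert_tree lc_g_rc_42_0 lc_g_rc_42_0 lc_g_rc_15_1 lc_g_Cert_tree lc_g_rc_42_0 lc_g_Cert_tree lc_g_Cert_tree lc_g_rc_42_0 lc_g_rc_43_2 lc_g_Cert_tree lc_g_rc_42_0 lc_g_Cert_tree lc_g_rc_42_0 lc_g_rc_42_0 lc_g_rc_42_0 lc_g_rc_42_0 lc_g_rc_42_0 lc_g_rc_15_1 lc_g_rc_28_1 lc_g_Cert_tree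 lc_g_rc_42_0 lc_g_rc_15_1 lc_g_Cert_tree lc_g_Cert_tree lc_g_rc_42_0) (@D3.rec (fun _ => (Cert rels S Gen.g)) lc_g_rc_42_0 lc_g_rc_28_1 lc_g_Cert_tree lc_g_rc_42_0 lc_g_rc_42_0 lc_g_Cert_tree lc_g_rc_42_0 lc_g_Cert_tree lc_g_rc_42_0 lc_g_Cert_tree lc_g_rc_42_0 lc_g_rc_42_0 lc_g_rc_42_0 lc_g_Cert_tree lc_g_rc_42_0 lc_g_rc_42_0 lc_g_rc_42_0 lc_g_Cert_tree lc_g_rc_42_0 lc_g_rc_42_0 lc_g_rc_42_0 lc_g_rc_42_0 lc_g_rc_42_0 lc_g_rc_43_2 lc_g_rc_15_1 lc_g_Cert_tree lc_g_Cert_tree lc_g_rc_22_1 lc_g_rc_42_0 lc_g_Cert_tree lc_g_rc_42_0 lc_g_rc_42_1) (@D3.rec (fun _ => (Cert rels S Gen.g)) lc_g_rc_39_5 lc_g_rc_43_2 lc_g_rc_15_1 lc_g_Cert_tree lc_g_Cert_tree lc_g_rc_42_0 lc_g_rc_43_2 lc_g_rc_43_2 lc_g_Cert_tree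 lc_g_Cert_tree lc_g_rc_42_0 lc_g_Cert_tree lc_g_rc_42_0 lc_g_rc_41_2 lc_g_rc_43_2 lc_g_rc_15_1 lc_g_Cert_tree lc_g_Cert_tree lc_g_rc_42_0 lc_g_rc_39_5 lc_g_Cert_tree lc_g_rc_42_0 lc_g_Cert_tree lc_g_rc_42_0 lc_g_rc_41_0 lc_g_Cert_tree lc_g_Cert_tree lc_g_rc_39_5 lc_g_rc_42_0 lc_g_Cert_tree lc_g_rc_42_0 lc_g_Cert_tree) (@D3.rec (fun _ => (Cert rels S Gen.g)) lc_g_rc_42_0 lc_g_rc_42_1 lc_g_rc_43_2 lc_g_rc_41_2 lc_g_rc_43_2 lc_g_rc_41_2 lc_g_rc_28_1 lc_g_rc_43_2 lc_g_rc_43_2 lc_g_rc_42_0 lc_g_rc_43_2 lc_g_Cert_tree lc_g_rc_42_0 lc_g_rc_42_0 lc_g_rc_42_0 lc_g_Cert_tree lc_g_rc_42_0 lc_g_rc_7_1 lc_g_rc_15_1 lc_g_Cert_tree lc_g_Cert_tree lc_g_rc_42_0 lc_g_rc_39_5 lc_g_Cert_tree lc_g_Cert_tree lc_g_rc_42_0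 lc_g_Cert_tree lc_g_rc_42_0 lc_g_rc_42_0 lc_g_Cert_tree lc_g_rc_42_0 lc_g_rc_42_0)
def ce_g_19 : D2 → D3 → (Cert rels S Gen.g) := @D2.rec (fun _ => D3 → (Cert rels S Gen.g)) (@D3.rec (fun _ => (Cert rels S Gen.g)) lc_g_rc_42_0 lc_g_Cert_tree lc_g_rc_42_0 lc_g_Cert_tree lc_g_rc_42_0 lc_g_Cert_tree lc_g_rc_42_0 lc_g_Cert_tree lc_g_rc_42_0 lc_g_rc_42_1 lc_g_rc_42_0 lc_g_rc_42_0 lc_g_rc_42_0 lc_g_Cert_tree lc_g_rc_28_1 lc_g_rc_42_0 lc_g_rc_42_0 lc_g_rc_42_1 lc_g_rc_41_2 lc_g_rc_42_0 lc_g_Cert_tree lc_g_rc_42_0 lc_g_rc_15_1 lc_g_Cert_tree lc_g_Cert_tree lc_g_rc_42_0 lc_g_Cert_tree lc_g_rc_42_0 lc_g_rc_42_1 lc_g_rc_15_1 lc_g_Cert_tree lc_g_Cert_tree) (@D3.rec (fun _ => (Cert rels S Gen.g)) lc_g_rc_42_0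 lc_g_Cert_tree lc_g_Cert_tree lc_g_rc_28_3 lc_g_rc_42_0 lc_g_Cert_tree lc_g_rc_42_0 lc_g_Cert_tree lc_g_rc_42_0 lc_g_rc_41_2 lc_g_Cert_tree lc_g_rc_42_0 lc_g_Cert_tree lc_g_rc_42_0 lc_g_Cert_tree lc_g_rc_42_0 lc_g_Cert_tree lc_g_rc_42_0 lc_g_rc_42_0 lc_g_Cert_tree lc_g_rc_39_5 lc_g_rc_42_0 lc_g_Cert_tree lc_g_rc_42_0 lc_g_Cert_tree lc_g_rc_42_0 lc_g_rc_42_0 lc_g_rc_42_1 lc_g_rc_42_0 lc_g_Cert_tree lc_g_rc_42_0 lc_g_Cert_tree) (@D3.rec (fun _ => (Cert rels S Gen.g)) lc_g_rc_42_0 lc_g_rc_42_0 lc_g_Cert_tree lc_g_rc_42_0 lc_g_rc_39_5 lc_g_Cert_tree lc_g_Cert_tree lc_g_rc_42_0 lc_g_rc_22_1 lc_g_Cert_tree lc_g_rc_42_0 lc_g_Cert_tree lc_g_rc_42_0 lc_g_rc_43_2 lc_g_Cert_tree lc_g_Cert_tree lc_g_rc_15_1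 lc_g_rc_42_0 lc_g_Cert_tree lc_g_rc_42_0 lc_g_rc_42_1 lc_g_Cert_tree lc_g_rc_42_0 lc_g_Cert_tree lc_g_rc_42_0 lc_g_rc_42_0 lc_g_Cert_tree lc_g_rc_42_0 lc_g_Cert_tree lc_g_rc_42_0 lc_g_Cert_tree lc_g_rc_42_0) (@D3.rec (fun _ => (Cert rels S Gen.g)) lc_g_rc_42_0 lc_g_rc_42_0 lc_g_rc_42_0 lc_g_Cert_tree lc_g_rc_42_0 lc_g_Cert_tree lc_g_rc_42_0 lc_g_Cert_tree lc_g_rc_42_0 lc_g_Cert_tree lc_g_rc_42_0 lc_g_Cert_tree lc_g_rc_42_0 lc_g_Cert_tree lc_g_rc_42_0 lc_g_rc_42_1 lc_g_rc_41_0 lc_g_rc_15_1 lc_g_Cert_tree lc_g_rc_42_0 lc_g_Cert_tree lc_g_rc_42_0 lc_g_Cert_tree lc_g_Cert_tree lc_g_rc_42_0 lc_g_rc_42_0 lc_g_rc_41_2 lc_g_rc_43_2 lc_g_rc_42_0 lc_g_rc_43_2 lc_g_Cert_tree lc_g_rc_43_0) (@D3.rec (fun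 _ => (Cert rels S Gen.g)) lc_g_rc_42_0 lc_g_Cert_tree lc_g_rc_42_0 lc_g_rc_42_1 lc_g_rc_41_2 lc_g_Cert_tree lc_g_rc_42_0 lc_g_rc_42_0 lc_g_Cert_tree lc_g_rc_42_0 lc_g_Cert_tree lc_g_rc_42_0 lc_g_Cert_tree lc_g_rc_42_0 lc_g_Cert_tree lc_g_rc_42_0 lc_g_Cert_tree lc_g_Cert_tree lc_g_rc_42_0 lc_g_Cert_tree lc_g_rc_42_0 lc_g_rc_42_0 lc_g_Cert_tree lc_g_Cert_tree lc_g_rc_42_0 lc_g_rc_42_0 lc_g_rc_42_0 lc_g_Cert_tree lc_g_rc_42_0 lc_g_Cert_tree lc_g_rc_42_0 lc_g_rc_43_2) (@D3.rec (fun _ => (Cert rels S Gen.g)) lc_g_Cert_tree lc_g_rc_39_5 lc_g_rc_42_0 lc_g_Cert_tree lc_g_rc_42_0 lc_g_Cert_tree lc_g_rc_42_0 lc_g_Cert_tree lc_g_rc_42_0 lc_g_Cert_tree lc_g_rc_42_0 lc_g_Cert_tree lc_g_rc_42_0 lc_g_rc_42_1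 lc_g_rc_42_0 lc_g_Cert_tree lc_g_rc_42_0 lc_g_Cert_tree lc_g_rc_42_0 lc_g_rc_42_0 lc_g_rc_42_0 lc_g_rc_7_1 lc_g_rc_15_1 lc_g_Cert_tree lc_g_Cert_tree lc_g_rc_42_0 lc_g_Cert_tree lc_g_Cert_tree lc_g_rc_42_0 lc_g_Cert_tree lc_g_rc_42_0 lc_g_rc_42_0) (@D3.rec (fun _ => (Cert rels S Gen.g)) lc_g_Cert_tree lc_g_rc_42_0 lc_g_rc_42_0 lc_g_rc_42_0 lc_g_Cert_tree lc_g_rc_42_0 lc_g_rc_42_0 lc_g_rc_15_1 lc_g_Cert_tree lc_g_Cert_tree lc_g_rc_42_0 lc_g_Cert_tree lc_g_rc_42_0 lc_g_Cert_tree lc_g_rc_42_0 lc_g_Cert_tree lc_g_rc_42_0 lc_g_Cert_tree lc_g_rc_42_0 lc_g_Cert_tree lc_g_rc_42_0 lc_g_rc_42_0 lc_g_rc_42_0 lc_g_rc_42_0 lc_g_rc_41_2 lc_g_Cert_tree lc_g_Cert_tree lc_g_rc_41_2 lc_g_rc_42_0 lc_g_Cert_tree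 lc_g_rc_42_0 lc_g_rc_42_1) (@D3.rec (fun _ => (Cert rels S Gen.g)) lc_g_rc_42_0 lc_g_rc_42_1 lc_g_rc_41_2 lc_g_rc_43_2 lc_g_rc_43_2 lc_g_Cert_tree lc_g_rc_43_2 lc_g_Cert_tree lc_g_rc_42_0 lc_g_Cert_tree lc_g_rc_42_0 lc_g_Cert_tree lc_g_Cert_tree lc_g_rc_42_0 lc_g_rc_42_0 lc_g_rc_42_0 lc_g_rc_43_2 lc_g_rc_22_1 lc_g_Cert_tree lc_g_rc_42_0 lc_g_Cert_tree lc_g_rc_42_0 lc_g_Cert_tree lc_g_Cert_tree lc_g_rc_42_0 lc_g_rc_42_0 lc_g_Cert_tree lc_g_rc_22_1 lc_g_rc_42_0 lc_g_Cert_tree lc_g_rc_42_0 lc_g_rc_42_1) (@D3.rec (fun _ => (Cert rels S Gen.g)) lc_g_Cert_tree lc_g_rc_42_0 lc_g_rc_42_0 lc_g_rc_42_1 lc_g_rc_41_2 lc_g_rc_43_2 lc_g_rc_43_2 lc_g_rc_28_1 lc_g_rc_43_2 lc_g_rc_43_2 lc_g_rc_42_0 lc_g_Cert_tree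 lc_g_rc_42_0 lc_g_Cert_tree lc_g_Cert_tree lc_g_rc_42_0 lc_g_Cert_tree lc_g_rc_42_0 lc_g_Cert_tree lc_g_rc_42_0 lc_g_Cert_tree lc_g_rc_42_0 lc_g_rc_42_0 lc_g_rc_42_0 lc_g_Cert_tree lc_g_rc_42_0 lc_g_Cert_tree lc_g_rc_42_0 lc_g_rc_42_0 lc_g_rc_42_0 lc_g_rc_42_1 lc_g_rc_41_2) (@D3.rec (fun _ => (Cert rels S Gen.g)) lc_g_rc_39_3 lc_g_rc_42_0 lc_g_rc_42_1 lc_g_rc_41_2 lc_g_Cert_tree lc_g_rc_42_0 lc_g_Cert_tree lc_g_rc_42_0 lc_g_Cert_tree lc_g_rc_42_0 lc_g_rc_42_0 lc_g_rc_42_1 lc_g_rc_41_2 lc_g_Cert_tree lc_g_rc_42_0 lc_g_Cert_tree lc_g_rc_42_0 lc_g_rc_42_0 lc_g_rc_42_0 lc_g_rc_42_1 lc_g_rc_42_0 lc_g_Cert_tree lc_g_rc_42_0 lc_g_Cert_tree lc_g_rc_42_0 lc_g_Cert_tree lc_g_rc_42_0 lc_g_Cert_tree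 lc_g_rc_42_0 lc_g_rc_42_0 lc_g_Cert_tree lc_g_rc_42_0) (@D3.rec (fun _ => (Cert rels S Gen.g)) lc_g_rc_42_1 lc_g_Cert_tree lc_g_rc_42_0 lc_g_rc_42_0 lc_g_rc_41_2 lc_g_Cert_tree lc_g_rc_42_0 lc_g_rc_42_0 lc_g_Cert_tree lc_g_rc_42_0 lc_g_Cert_tree lc_g_rc_42_0 lc_g_Cert_tree lc_g_rc_42_0 lc_g_Cert_tree lc_g_Cert_tree lc_g_rc_42_0 lc_g_rc_42_0 lc_g_Cert_tree lc_g_rc_42_0 lc_g_Cert_tree lc_g_rc_42_0 lc_g_rc_42_1 lc_g_rc_42_0 lc_g_rc_42_1 lc_g_rc_41_2 lc_g_Cert_tree lc_g_rc_42_0 lc_g_rc_42_0 lc_g_rc_39_3 lc_g_rc_42_0 lc_g_Cert_tree) (@D3.rec (fun _ => (Cert rels S Gen.g)) lc_g_rc_42_0 lc_g_rc_42_0 lc_g_Cert_tree lc_g_rc_42_0 lc_g_rc_42_0 lc_g_Cert_tree lc_g_rc_42_0 lc_g_Cert_tree lc_g_rc_42_0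 lc_g_Cert_tree lc_g_rc_42_0 lc_g_rc_42_0 lc_g_rc_42_1 lc_g_rc_41_2 lc_g_rc_43_2 lc_g_Cert_tree lc_g_Cert_tree lc_g_rc_42_0 lc_g_rc_42_0 lc_g_Cert_tree lc_g_rc_42_0 lc_g_rc_42_0 lc_g_rc_39_3 lc_g_rc_43_2 lc_g_Cert_tree lc_g_rc_42_0 lc_g_rc_42_1 lc_g_rc_42_0 lc_g_rc_41_2 lc_g_rc_42_0 lc_g_rc_42_0 lc_g_Cert_tree) (@D3.rec (fun _ => (Cert rels S Gen.g)) lc_g_rc_42_0 lc_g_rc_42_0 lc_g_Cert_tree lc_g_rc_42_0 lc_g_rc_42_0 lc_g_Cert_tree lc_g_rc_42_0 lc_g_rc_42_0 lc_g_rc_39_3 lc_g_rc_42_0 lc_g_rc_42_0 lc_g_rc_42_0 lc_g_rc_42_0 lc_g_Cert_tree lc_g_rc_42_0 lc_g_rc_42_1 lc_g_rc_42_0 lc_g_Cert_tree lc_g_rc_42_0 lc_g_Cert_tree lc_g_rc_42_0 lc_g_rc_42_0 lc_g_rc_42_0 lc_g_rc_42_1 lc_g_rc_41_2 lc_g_rc_39_3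 lc_g_rc_42_0 lc_g_rc_42_0 lc_g_rc_39_3 lc_g_Cert_tree lc_g_Cert_tree lc_g_rc_42_0) (@D3.rec (fun _ => (Cert rels S Gen.g)) lc_g_Cert_tree lc_g_rc_42_0 lc_g_rc_42_0 lc_g_Cert_tree lc_g_rc_42_0 lc_g_rc_42_0 lc_g_rc_42_0 lc_g_rc_42_0 lc_g_Cert_tree lc_g_rc_42_0 lc_g_Cert_tree lc_g_rc_42_0 lc_g_Cert_tree lc_g_rc_42_0 lc_g_rc_42_0 lc_g_Cert_tree lc_g_rc_42_0 lc_g_rc_42_0 lc_g_rc_42_0 lc_g_rc_39_3 lc_g_Cert_tree lc_g_rc_42_0 lc_g_Cert_tree lc_g_rc_42_0 lc_g_rc_42_1 lc_g_rc_42_0 lc_g_rc_42_1 lc_g_rc_41_2 lc_g_rc_39_3 lc_g_rc_41_2 lc_g_rc_43_2 lc_g_rc_43_2) (@D3.rec (fun _ => (Cert rels S Gen.g)) lc_g_Cert_tree lc_g_rc_42_0 lc_g_Cert_tree lc_g_Cert_tree lc_g_rc_42_0 lc_g_rc_42_0 lc_g_rc_42_0 lc_g_rc_42_0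 lc_g_Cert_tree lc_g_Cert_tree lc_g_rc_42_0 lc_g_rc_42_0 lc_g_Cert_tree lc_g_rc_42_0 lc_g_rc_42_0 lc_g_rc_39_3 lc_g_Cert_tree lc_g_rc_42_0 lc_g_rc_42_1 lc_g_rc_42_0 lc_g_rc_42_1 lc_g_rc_41_2 lc_g_rc_42_0 lc_g_rc_39_3 lc_g_rc_41_2 lc_g_rc_43_2 lc_g_rc_43_2 lc_g_rc_43_2 lc_g_rc_42_0 lc_g_rc_42_0 lc_g_Cert_tree lc_g_rc_42_0) (@D3.rec (fun _ => (Cert rels S Gen.g)) lc_g_rc_42_0 lc_g_Cert_tree lc_g_rc_42_0 lc_g_rc_42_0 lc_g_rc_39_3 lc_g_rc_42_0 lc_g_rc_42_0 lc_g_rc_39_3 lc_g_rc_39_3 lc_g_rc_41_2 lc_g_rc_41_2 lc_g_rc_42_0 lc_g_Cert_tree lc_g_rc_42_0 lc_g_rc_42_0 lc_g_rc_39_3 lc_g_rc_41_2 lc_g_Cert_tree lc_g_rc_42_0 lc_g_rc_42_0 lc_g_rc_41_2 lc_g_rc_42_0 lc_g_rc_42_0 lc_g_rc_42_0 lc_g_rc_42_0 lc_g_rc_39_3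 lc_g_rc_42_0 lc_g_rc_42_1 lc_g_rc_41_2 lc_g_rc_42_0 lc_g_rc_39_3 lc_g_rc_42_0) (@D3.rec (fun _ => (Cert rels S Gen.g)) lc_g_rc_39_3 lc_g_rc_42_0 lc_g_Cert_tree lc_g_rc_42_0 lc_g_rc_42_0 lc_g_Cert_tree lc_g_rc_42_0 lc_g_rc_42_0 lc_g_rc_39_3 lc_g_Cert_tree lc_g_rc_42_0 lc_g_rc_42_0 lc_g_rc_42_1 lc_g_rc_41_2 lc_g_rc_39_3 lc_g_rc_41_2 lc_g_rc_42_0 lc_g_rc_39_3 lc_g_rc_39_3 lc_g_rc_42_0 lc_g_rc_39_3 lc_g_rc_42_0 lc_g_rc_7_1 lc_g_rc_42_0 lc_g_rc_42_0 lc_g_rc_42_0 lc_g_rc_39_3 lc_g_rc_41_2 lc_g_rc_43_2 lc_g_rc_43_2 lc_g_Cert_tree lc_g_rc_42_0) (@D3.rec (fun _ => (Cert rels S Gen.g)) lc_g_rc_42_0 lc_g_rc_39_3 lc_g_rc_42_0 lc_g_rc_39_3 lc_g_rc_42_0 lc_g_rc_41_2 lc_g_rc_39_3 lc_g_rc_42_0 lc_g_rc_39_3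 lc_g_rc_42_0 lc_g_rc_42_0 lc_g_rc_39_3 lc_g_rc_39_3 lc_g_rc_39_3 lc_g_rc_42_0 lc_g_rc_42_1 lc_g_rc_41_2 lc_g_rc_7_1 lc_g_rc_42_0 lc_g_rc_42_0 lc_g_rc_39_3 lc_g_rc_39_3 lc_g_rc_41_2 lc_g_rc_39_3 lc_g_rc_39_3 lc_g_rc_42_0 lc_g_Cert_tree lc_g_rc_42_0 lc_g_rc_42_0 lc_g_rc_42_0 lc_g_rc_39_3 lc_g_Cert_tree) (@D3.rec (fun _ => (Cert rels S Gen.g)) lc_g_rc_42_0 lc_g_rc_42_0 lc_g_rc_42_0 lc_g_rc_39_3 lc_g_rc_42_0 lc_g_rc_39_3 lc_g_rc_39_3 lc_g_Cert_tree lc_g_rc_42_0 lc_g_rc_42_0 lc_g_rc_42_1 lc_g_rc_41_2 lc_g_rc_39_3 lc_g_rc_41_2 lc_g_rc_39_3 lc_g_rc_43_2 lc_g_Cert_tree lc_g_rc_42_0 lc_g_Cert_tree lc_g_rc_42_0 lc_g_rc_42_0 lc_g_rc_39_3 lc_g_Cert_tree lc_g_rc_42_0 lc_g_rc_42_0 lc_g_rc_39_3 lc_g_rc_42_0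 lc_g_rc_39_3 lc_g_rc_42_0 lc_g_rc_42_1 lc_g_rc_41_2 lc_g_rc_39_3) (@D3.rec (fun _ => (Cert rels S Gen.g)) lc_g_rc_41_2 lc_g_rc_39_3 lc_g_rc_39_3 lc_g_rc_43_2 lc_g_rc_39_3 lc_g_rc_42_0 lc_g_rc_39_3 lc_g_rc_42_0 lc_g_rc_39_3 lc_g_rc_39_3 lc_g_rc_39_3 lc_g_rc_39_3 lc_g_rc_39_3 lc_g_rc_42_0 lc_g_rc_39_3 lc_g_rc_39_3 lc_g_rc_42_0 lc_g_rc_39_3 lc_g_rc_39_3 lc_g_rc_39_3 lc_g_rc_39_3 lc_g_rc_39_3 lc_g_rc_39_3 lc_g_rc_41_2 lc_g_rc_39_3 lc_g_rc_39_3 lc_g_rc_39_3 lc_g_rc_42_0 lc_g_rc_39_3 lc_g_rc_42_0 lc_g_rc_39_3 lc_g_rc_42_0) (@D3.rec (fun _ => (Cert rels S Gen.g)) lc_g_rc_39_3 lc_g_rc_41_2 lc_g_rc_39_3 lc_g_rc_7_1 lc_g_rc_39_3 lc_g_rc_7_1 lc_g_rc_39_3 lc_g_rc_39_3 lc_g_rc_39_3 lc_g_rc_39_3 lc_g_rc_43_2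 lc_g_rc_42_0 lc_g_rc_39_3 lc_g_rc_39_3 lc_g_rc_39_3 lc_g_rc_39_3 lc_g_rc_15_1 lc_g_rc_7_1 lc_g_rc_41_2 lc_g_rc_39_3 lc_g_rc_39_3 lc_g_rc_39_3 lc_g_rc_42_0 lc_g_rc_39_3 lc_g_rc_39_3 lc_g_rc_42_0 lc_g_rc_39_3 lc_g_rc_39_3 lc_g_rc_39_3 lc_g_rc_42_0 lc_g_rc_15_1 lc_g_rc_41_2) (@D3.rec (fun _ => (Cert rels S Gen.g)) lc_g_rc_39_3 lc_g_rc_39_3 lc_g_rc_42_0 lc_g_rc_42_0 lc_g_rc_39_3 lc_g_rc_42_0 lc_g_rc_39_3 lc_g_rc_22_1 lc_g_rc_39_3 lc_g_rc_41_2 lc_g_rc_39_3 lc_g_rc_43_2 lc_g_rc_39_3 lc_g_rc_7_1 lc_g_rc_15_1 lc_g_rc_39_3 lc_g_rc_39_3 lc_g_rc_39_3 lc_g_rc_22_1 lc_g_rc_7_1 lc_g_rc_39_3 lc_g_rc_43_2 lc_g_rc_39_3 lc_g_rc_7_1 lc_g_rc_39_3 lc_g_rc_39_3 lc_g_rc_7_1 lc_g_rc_15_1 lc_g_rc_7_1 lc_g_rc_22_1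 lc_g_rc_22_1 lc_g_rc_39_3)
def ce_g : Pt → (Cert rels S Gen.g) := @Pt.rec (fun _ => (Cert rels S Gen.g)) (@D1.rec (fun _ => D2 → D3 → (Cert rels S Gen.g)) ce_g_0 ce_g_1 ce_g_2 ce_g_3 ce_g_4 ce_g_5 ce_g_6 ce_g_7 ce_g_8 ce_g_9 ce_g_10 ce_g_11 ce_g_12 ce_g_13 ce_g_14 ce_g_15 ce_g_16 ce_g_17 ce_g_18 ce_g_19)
def isSeed_g (p : Pt) : Bool := false

end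

end Cfsg.Agent.Helper28.S1685
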