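import Cfsg.Agent.Lib.Helper28.S1685.Tree

set_option autoImplicit false
set_option maxRecDepth 100000
set_option linter.all false

namespace Cfsg.Agent.Helper28.S1685

open Cfsg.Agent.Helper28
open Cfsg.Spor.Fi22 (Gen)

noncomputable section

def lv_h_0 : D2 → D3 → Nat := @D2.rec (fun _ => D3 → Nat) (@D3.rec (fun _ => Nat) 1 2 3 4 0 0 1 0 1 6 0 1 6 7 1 7 8 7 0 8 9 8 8 0 8 0 1 9 9 0 9 9) (@D3.rec (fun _ => Nat) 0 0 1 9 0 1 10 10 0 10 0 1 10 10 0 0 0 1 1 0 1 9 11 11 0 0 11 0 1 0 1 11) (@D3.rec (fun _ => Nat) 0 0 0 1 1 0 1 10 10 1 10 10 12 0 0 12 0 1 0 1 0 0 1 11 1 11 16 0 1 15 1 0) (@D3.rec (fun _ => Nat) 1 11 0 1 3 11 11 11 11 11 11 16 13 0 1 17 0 1 0 0 1 12 0 1 0 0 1 1 3 12 12 12) (@D3.rec (fun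 _ => Nat) 0 1 12 0 0 1 3 12 12 1 3 4 4 12 12 12 12 21 0 0 1 13 16 0 0 1 0 0 1 1 3 13) (@D3.rec (fun _ => Nat) 13 1 0 0 1 1 3 4 4 4 13 13 13 13 1 3 13 1 1 3 4 4 13 13 12 4 4 5 5 5 13 13) (@D3.rec (fun _ => Nat) 13 21 0 1 1 3 14 18 0 1 1 0 0 1 1 3 4 4 4 14 14 13 0 1 1 4 13 4 4 5 5 5) (@D3.rec (fun _ => Nat) 5 5 14 14 14 14 3 4 4 13 13 4 4 5 5 5 0 14 13 13 5 5 5 6 6 6 6 0 1 3 4 4) (@D3.rec (fun _ => Nat) 4 15 17 0 1 14 14 0 1 1 4 14 4 4 5 5 5 5 5 0 15 15 14 0 1 14 14 5 5 14 14 5) (@D3.rec (fun _ => Nat) 5 5 6 6 6 6 6 6 6 15 15 0 4 4 5 5 14 14 14 14 5 5 5 6 6 0 6 6 1 14 14 14) (@D3.rec (fun _ => Nat) 6 6 13 6 6 7 7 7 1 4 4 4 5 5 5 5 5 0 1 15 15 15 0 1 15 15 5 5 15 15 5 5) (@D3.rec (fun _ => Nat) 5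 6 6 6 6 6 0 6 6 0 1 0 1 3 15 15 15 15 6 6 6 15 15 15 6 6 14 6 6 7 7 0) (@D3.rec (fun _ => Nat) 7 7 7 7 7 16 0 1 5 5 6 6 15 15 15 15 15 15 6 6 0 6 6 7 0 7 1 7 15 15 0 15) (@D3.rec (fun _ => Nat) 15 7 14 7 14 7 8 8 16 5 5 5 5 5 6 6 6 6 6 6 1 3 16 16 16 16 16 1 3 16 16 16) (@D3.rec (fun _ => Nat) 16 6 6 6 16 16 16 6 6 0 6 6 7 7 0 7 7 7 0 7 0 1 7 0 1 16 1 3 4 4 16 16) (@D3.rec (fun _ => Nat) 16 16 16 16 7 7 0 7 7 16 16 0 16 16 7 15 7 15 7 8 0 8 0 1 8 8 8 0 0 1 16 6) (@D3.rec (fun _ => Nat) 6 61 7 16 16 0 16 16 16 0 16 16 7 0 7 60 1 7 0 8 1 8 16 0 16 0 1 16 15 8 15 15) (@D3.rec (fun _ => Nat) 8 15 15 9 17 17 6 6 6 6 6 61 6 7 7 0 7 7 7 3 4 4 17 17 17 17 17 0 17 17 3 4) (@D3.rec (fun _ => Nat) 4 17 17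 17 17 17 17 7 7 0 7 7 17 17 0 17 17 7 0 7 0 1 7 8 0 8 0 1 8 0 8 0) (@D3.rec (fun _ => Nat) 1 8 0 1 17 1 16 4 4 5 5 5 17 17 0 17 17 17 17 0 17 17 8 0 8 0 1 8 17 0 17 0) (@D3.rec (fun _ => Nat) 1 17 16 8 16 16 8 16 16 0 9 0 0 1 9 0 1 17 9 0 1 1 17 7 61 17 0 17 0 1 17 0) (@D3.rec (fun _ => Nat) 17 63 1 17 0 8 0 62 1 8 62 1 9 0 17 0 0 1 17 0 0 1 16 16 9 16 16 16 16 18 18 18)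
def lv_h_1 : D2 → D3 → Nat := @D2.rec (fun _ => D3 → Nat) (@D3.rec (fun _ => Nat) 7 7 0 7 7 63 7 62 8 0 8 0 1 8 4 4 5 5 5 18 18 0 18 18 18 0 18 0 1 18 4 4) (@D3.rec (fun _ => Nat) 5 5 5 18 18 0 18 18 18 18 0 18 18 8 0 8 0 1 8 18 0 18 0 1 18 0 8 0 0 1 8 0) (@D3.rec (fun _ => Nat) 63 1 7 0 9 0 0 1 9 0 0 1 18 0 1 9 0 1 18 1 18 17 17 5 5 5 6 6 0 6 6 18) (@D3.rec (fun _ => Nat) 0 18 0 1 18 18 0 18 0 1 18 0 9 0 0 1 9 0 0 1 7 0 18 0 0 1 18 0 0 1 17 17) (@D3.rec (fun _ => Nat) 9 17 17 17 17 0 0 1 10 0 1 0 1 18 1 18 0 1 18 18 18 63 63 0 18 0 0 1 62 1 0 18) (@D3.rec (fun _ => Nat) 0 63 1 18 62 0 62 1 9 62 1 62 0 0 1 18 0 1 0 0 1 0 1 1 17 17 17 17 17 17 17 17) (@D3.rec (fun _ => Nat) 19 19 0 19 8 0 8 0 1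 63 8 63 64 64 0 9 0 0 1 1 19 5 5 5 6 6 0 6 6 19 0 19) (@D3.rec (fun _ => Nat) 0 1 19 0 19 0 0 1 19 0 0 1 63 5 5 5 6 6 0 6 6 19 0 19 0 1 19 19 0 19 0 1) (@D3.rec (fun _ => Nat) 19 0 9 0 0 1 9 0 0 1 7 0 19 0 0 1 19 0 63 1 7 0 0 1 9 0 1 0 63 1 8 63) (@D3.rec (fun _ => Nat) 1 0 0 1 10 0 1 0 0 1 19 1 1 19 0 1 19 1 8 19 18 18 18 6 6 0 6 6 7 0 7 0) (@D3.rec (fun _ => Nat) 1 7 0 19 0 0 1 19 0 0 1 7 0 19 0 0 1 19 69 68 1 7 0 0 1 10 0 1 0 0 1 8) (@D3.rec (fun _ => Nat) 71 1 1 69 0 0 1 19 0 1 0 0 1 66 1 1 18 18 18 18 18 18 18 18 0 0 1 0 1 19 0 1) (@D3.rec (fun _ => Nat) 10 19 1 19 19 1 19 19 21 0 63 0 0 1 0 1 64 1 0 65 1 19 65 1 64 0 64 1 64 64 0 0) (@D3.rec (fun _ => Nat) 1 0 0 1 0 0 1 11 0 1 1 66 1 17 18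 18 18 18 64 18 18 20 0 20 0 1 0 9 0 0 1 0) (@D3.rec (fun _ => Nat) 1 24 65 64 64 66 0 0 1 0 1 1 20 20 6 6 0 6 6 7 0 7 0 1 7 0 20 0 0 1 20 0) (@D3.rec (fun _ => Nat) 0 1 25 0 0 1 20 0 1 0 0 1 63 0 1 1 64 6 6 0 6 6 7 0 7 0 1 7 0 20 0 0) (@D3.rec (fun _ => Nat) 1 20 0 0 1 7 0 20 0 0 1 20 0 0 1 7 0 0 1 10 0 1 0 0 1 8 0 1 1 8 0 0) (@D3.rec (fun _ => Nat) 1 20 0 1 0 65 1 8 64 1 0 0 1 0 65 1 9 0 65 1 9 65 1 8 0 0 1 0 0 1 20 0) (@D3.rec (fun _ => Nat) 0 1 10 20 1 1 20 8 20 20 1 9 9 20 19 19 67 19 19 7 0 7 65 1 7 0 8 0 0 1 8 73) (@D3.rec (fun _ => Nat) 72 1 7 0 0 1 20 0 1 0 0 1 8 70 1 1 72 0 0 1 20 0 1 71 68 1 8 0 0 1 0 0) (@D3.rec (fun _ => Nat) 1 9 0 0 1 11 9 67 1 1 62 0 0 1 0 0 1 0 0 1 11 66 1 1 19 19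 19 19 0 19 19 0) (@D3.rec (fun _ => Nat) 1 0 1 11 20 1 20 1 11 20 11 0 20 20 20 22 0 22 0 1 64 0 0 1 64 1 64 1 17 0 65 1)
def lv_h_2 : D2 → D3 → Nat := @D2.rec (fun _ => D3 → Nat) (@D3.rec (fun _ => Nat) 64 64 11 65 1 64 0 1 0 0 1 12 0 1 1 66 0 1 1 65 65 66 1 18 19 19 66 19 19 66 19 0) (@D3.rec (fun _ => Nat) 21 0 0 1 0 1 26 0 0 1 0 1 0 1 26 1 26 65 66 66 66 0 0 1 1 21 1 20 21 21 7 0) (@D3.rec (fun _ => Nat) 7 0 1 7 0 8 0 0 1 8 0 0 1 25 0 0 1 21 0 1 0 0 1 25 0 1 1 25 0 0 1 0) (@D3.rec (fun _ => Nat) 0 1 63 0 0 1 18 65 0 1 1 64 65 1 8 7 0 7 0 1 7 0 8 0 0 1 8 0 0 1 7 0) (@D3.rec (fun _ => Nat) 0 1 21 0 1 0 0 1 8 0 1 1 8 0 0 1 21 0 1 0 0 1 8 0 1 1 8 0 0 1 0 0) (@D3.rec (fun _ => Nat) 1 9 0 0 1 11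 9 0 1 1 9 67 1 8 9 9 0 0 1 0 65 1 9 0 65 1 11 9 64 1 0 1) (@D3.rec (fun _ => Nat) 0 65 1 10 65 1 0 65 1 9 9 0 1 0 0 1 11 21 1 1 21 1 1 11 21 11 0 9 21 21 9 69) (@D3.rec (fun _ => Nat) 10 10 10 21 20 65 20 0 8 0 67 1 8 0 0 1 9 0 1 67 66 1 8 0 0 1 0 0 1 9 0 0) (@D3.rec (fun _ => Nat) 1 12 9 70 1 1 73 0 0 1 71 68 1 9 71 68 1 12 9 0 1 0 0 1 12 10 72 1 1 64 0 71) (@D3.rec (fun _ => Nat) 1 1 12 69 12 0 0 1 0 0 1 12 70 1 1 0 68 1 1 12 65 20 20 0 20 20 0 1 20 0 1 12) (@D3.rec (fun _ => Nat) 21 1 12 21 12 0 21 12 21 12 0 12 0 1 21 23 0 23 0 1 23 0 1 0 1 66 1 18 66 18 67 1) (@D3.rec (fun _ => Nat) 64 12 66 0 0 1 13 56 0 1 1 67 65 66 1 19 67 66 1 66 66 20 66 20 66 0 0 1 0 1 0 1) (@D3.rec (fun _ => Nat) 26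 1 26 0 0 1 0 1 26 0 1 21 26 1 26 26 66 66 0 0 1 1 21 22 22 21 22 21 0 0 8 0) (@D3.rec (fun _ => Nat) 0 1 8 0 0 1 27 0 0 1 9 0 1 0 0 1 27 0 1 1 27 0 0 1 0 0 1 27 0 0 1 19) (@D3.rec (fun _ => Nat) 27 0 1 1 27 0 1 8 27 70 0 1 0 0 1 19 65 0 1 1 66 0 0 1 1 19 66 65 63 1 9 9) (@D3.rec (fun _ => Nat) 9 0 8 0 0 1 8 0 0 1 20 0 0 1 9 0 1 0 0 1 8 0 1 1 8 0 0 1 0 0 1 9) (@D3.rec (fun _ => Nat) 0 0 1 12 9 0 1 1 9 0 1 19 9 9 0 0 1 0 0 1 9 0 0 1 12 9 0 1 1 9 1 68) (@D3.rec (fun _ => Nat) 9 9 0 1 0 0 1 12 10 0 1 1 10 0 0 1 1 12 10 12 0 67 1 9 10 10 10 9 71 0 1 0) (@D3.rec (fun _ => Nat) 67 1 12 10 64 1 0 64 1 12 19 0 67 1 11 0 67 1 10 0 1 2 10 10 0 0 1 12 22 1 1 12) (@D3.rec (fun _ => Nat) 22 12 0 10 22 22 19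 22 12 22 12 0 12 0 1 10 69 10 71 11 11 11 67 21 67 0 69 1 9 67 1 0) (@D3.rec (fun _ => Nat) 0 1 69 70 1 9 72 72 1 13 9 0 1 0 0 1 13 10 63 1 1 68 0 70 1 1 13 70 13 0 0 1) (@D3.rec (fun _ => Nat) 71 70 1 13 10 0 13 13 0 0 0 1 13 11 0 71 1 1 13 64 13 0 0 1 2 13 13 0 13 0 1 0)
def lv_h_3 : D2 → D3 → Nat := @D2.rec (fun _ => D3 → Nat) (@D3.rec (fun _ => Nat) 0 1 13 0 70 1 1 13 67 0 1 2 66 13 67 0 21 0 1 21 0 1 12 1 13 22 13 13 0 13 22 13) (@D3.rec (fun _ => Nat) 0 13 0 1 13 0 13 0 1 13 0 1 24 0 24 0 1 24 0 1 0 1 13 66 1 19 66 19 64 13 55 0) (@D3.rec (fun _ => Nat) 1 1 67 14 67 57 68 1 66 59 68 68 21 68 66 0 0 1 0 1 38 0 1 22 28 1 28 20 28 0 1 0) (@D3.rec (fun _ => Nat) 1 22 28 1 28 0 1 22 28 22 0 28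 68 0 1 1 22 23 22 23 22 0 22 0 22 0 1 0 0 1 9 0) (@D3.rec (fun _ => Nat) 1 0 0 1 28 0 1 1 28 0 0 1 0 0 1 39 0 0 1 20 27 0 1 1 27 0 1 20 27 70 0 1) (@D3.rec (fun _ => Nat) 0 0 1 20 27 0 1 1 27 0 0 1 1 20 27 20 0 0 1 9 27 68 1 9 68 9 69 0 0 1 20 65) (@D3.rec (fun _ => Nat) 0 0 1 1 20 66 65 65 1 10 0 1 65 1 2 20 20 67 10 10 10 10 0 0 1 9 0 1 0 0 1 21) (@D3.rec (fun _ => Nat) 0 1 1 21 0 0 1 0 0 1 9 0 0 1 13 9 0 1 1 9 1 20 9 9 0 1 0 0 1 13 10 0) (@D3.rec (fun _ => Nat) 1 1 10 0 0 1 1 13 10 13 0 0 1 20 10 10 1 20 10 20 0 0 1 0 0 1 13 10 0 1 1 10) (@D3.rec (fun _ => Nat) 0 0 1 1 13 10 13 0 1 66 10 10 10 69 0 0 1 13 11 0 0 1 1 13 11 13 0 67 1 10 11 11) (@D3.rec (fun _ => Nat) 0 1 67 1 2 11 13 11 13 0 13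 0 1 11 10 67 10 69 0 67 1 13 11 0 66 1 13 20 0 1 2 13) (@D3.rec (fun _ => Nat) 0 67 1 0 1 2 11 1 2 12 3 11 11 1 1 13 23 13 13 0 20 23 13 23 13 0 13 0 1 11 67 20) (@D3.rec (fun _ => Nat) 20 0 13 0 13 0 1 13 0 1 11 69 11 68 12 12 67 0 71 1 14 0 1 69 72 1 14 10 70 14 14 0) (@D3.rec (fun _ => Nat) 0 0 1 14 11 0 70 1 1 14 72 14 0 0 1 2 14 14 0 14 0 1 69 70 1 14 11 0 14 14 0 1) (@D3.rec (fun _ => Nat) 14 14 0 1 0 73 1 1 14 71 14 14 0 0 1 2 14 14 0 14 0 1 1 2 12 3 14 14 0 1 14 0) (@D3.rec (fun _ => Nat) 1 0 72 1 1 14 14 67 0 1 2 66 14 67 1 2 12 3 72 67 0 0 1 22 0 1 13 0 1 13 14 23) (@D3.rec (fun _ => Nat) 14 14 0 14 0 14 0 1 14 0 14 0 1 14 0 1 14 0 1 14 0 1 0 1 13 0 25 0 1 25 0 1) (@D3.rec (fun _ => Nat)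 0 1 14 1 14 14 68 20 20 14 54 56 68 1 66 68 67 58 60 68 68 68 0 1 0 1 23 40 1 38 0 1) (@D3.rec (fun _ => Nat) 23 28 23 0 21 28 0 0 1 23 28 0 1 23 28 23 0 28 1 2 28 23 0 23 0 1 0 1 28 23 24 23) (@D3.rec (fun _ => Nat) 23 0 23 0 23 0 1 23 0 1 23 0 1 0 0 1 0 0 1 29 0 0 1 21 29 0 1 1 29 0 1 21) (@D3.rec (fun _ => Nat) 29 29 0 1 0 0 1 21 39 0 1 1 37 0 0 1 1 21 29 21 0 0 1 21 29 70 1 21 72 21 0 0) (@D3.rec (fun _ => Nat) 0 1 21 29 0 0 1 1 21 29 21 0 0 1 10 29 68 0 1 0 1 2 29 21 70 21 0 21 0 1 1 10)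
def lv_h_4 : D2 → D3 → Nat := @D2.rec (fun _ => D3 → Nat) (@D3.rec (fun _ => Nat) 70 10 66 67 10 70 10 71 0 0 1 1 21 68 21 65 0 1 65 1 2 21 21 67 11 11 0 1 2 27 5 3) (@D3.rec (fun _ => Nat) 3 21 73 11 11 11 11 0 0 1 0 0 1 22 0 1 14 22 0 1 1 22 0 1 21 22 22 0 1 0 0 1) (@D3.rec (fun _ => Nat) 14 10 0 1 1 10 0 0 1 1 14 10 14 0 1 21 10 10 21 10 21 0 0 0 1 14 11 0 0 1 1 14) (@D3.rec (fun _ => Nat) 11 14 0 0 1 21 11 11 0 1 0 1 2 11 14 11 14 0 14 0 1 1 21 11 21 0 70 0 21 0 1 0) (@D3.rec (fun _ => Nat) 0 1 14 11 0 0 1 1 14 11 14 0 1 68 11 11 67 1 1 2 11 71 11 14 0 14 0 1 11 66 69 0) (@D3.rec (fun _ => Nat) 0 1 1 14 12 14 14 0 0 1 67 1 2 12 14 12 14 0 14 0 1 12 11 70 0 1 2 12 5 12 3 3) (@D3.rec (fun _ =>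 Nat) 0 14 0 14 0 1 14 0 1 11 71 11 69 0 69 1 14 14 21 0 1 2 14 1 2 12 3 0 0 1 2 1) (@D3.rec (fun _ => Nat) 2 13 3 12 13 3 69 4 12 21 24 14 24 14 14 0 14 0 14 0 1 21 21 0 14 0 14 0 1 14 0 1) (@D3.rec (fun _ => Nat) 12 74 21 21 0 21 0 1 14 0 1 14 0 1 0 1 22 12 69 72 13 69 71 1 15 15 71 71 1 15 11 71) (@D3.rec (fun _ => Nat) 15 15 0 15 0 1 0 72 1 1 15 74 15 15 0 0 1 2 15 15 0 15 0 1 1 2 70 3 15 15 0 1) (@D3.rec (fun _ => Nat) 15 0 1 0 15 15 15 0 1 15 15 0 1 12 15 15 0 1 0 0 1 2 15 15 15 0 15 0 15 0 1 1) (@D3.rec (fun _ => Nat) 2 13 3 15 15 0 1 15 0 1 69 3 72 4 15 15 0 1 0 1 21 0 0 1 2 66 15 15 69 69 1 2) (@D3.rec (fun _ => Nat) 13 3 74 67 13 3 21 4 0 1 0 1 14 0 1 14 1 70 15 15 0 15 0 15 0 1 0 15 0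 1 15 0) (@D3.rec (fun _ => Nat) 1 15 0 1 15 0 1 0 1 14 15 0 1 0 1 21 1 14 14 0 1 0 26 0 1 23 0 1 15 1 15 15) (@D3.rec (fun _ => Nat) 69 21 55 57 66 69 59 70 68 0 1 24 38 0 1 24 38 24 0 22 36 1 2 30 24 0 24 0 1 22 0 1) (@D3.rec (fun _ => Nat) 0 1 24 30 24 24 0 1 2 30 24 0 24 0 1 2 30 3 0 24 0 1 24 0 1 0 1 28 24 24 0 24) (@D3.rec (fun _ => Nat) 0 24 0 1 24 0 1 24 0 1 24 0 1 0 1 23 0 1 0 0 1 22 30 0 1 1 30 1 1 22 30 22) (@D3.rec (fun _ => Nat) 0 1 22 30 30 1 22 30 22 0 0 0 1 22 37 0 0 1 1 22 39 22 0 0 1 22 37 71 0 1 0 1) (@D3.rec (fun _ => Nat) 2 29 22 67 22 0 22 0 1 1 22 67 22 0 22 70 22 0 22 0 1 0 0 1 1 22 29 22 22 0 0 1) (@D3.rec (fun _ => Nat) 0 1 2 29 22 73 22 0 22 0 1 1 11 66 11 67 0 1 2 29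 1 5 68 3 3 0 22 0 22 0 1 22) (@D3.rec (fun _ => Nat) 0 1 68 11 68 11 69 11 71 11 68 0 0 1 68 1 2 22 22 22 67 67 0 1 2 29 5 3 3 22 73 12) (@D3.rec (fun _ => Nat) 12 0 1 5 68 3 3 69 6 6 4 4 12 12 12 0 1 0 1 15 23 0 1 1 23 1 23 15 71 0 1 22)
def lv_h_5 : D2 → D3 → Nat := @D2.rec (fun _ => D3 → Nat) (@D3.rec (fun _ => Nat) 23 23 1 22 23 22 0 0 0 1 15 11 0 0 1 1 15 11 15 0 1 22 11 11 1 1 2 11 11 69 70 15) (@D3.rec (fun _ => Nat) 0 1 22 11 22 0 0 22 0 1 0 0 1 1 15 12 15 15 0 0 1 0 1 2 12 15 12 15 0 15 0 1) (@D3.rec (fun _ => Nat) 1 22 12 22 0 0 1 2 12 1 5 12 3 3 0 15 73 15 0 1 15 0 1 67 22 0 22 0 1 1 22 0) (@D3.rec (fun _ => Nat) 1 0 0 1 1 15 12 15 15 0 70 1 1 2 12 72 12 15 0 15 0 1 12 68 75 2 12 69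 12 3 70 0) (@D3.rec (fun _ => Nat) 72 15 73 1 15 0 1 70 0 0 1 71 1 2 13 15 13 15 15 0 15 0 15 0 1 0 1 2 13 5 13 3) (@D3.rec (fun _ => Nat) 3 0 15 0 15 0 1 15 0 1 12 72 0 1 5 70 3 3 0 6 0 4 4 0 4 0 1 15 0 1 15 0) (@D3.rec (fun _ => Nat) 1 0 1 12 12 66 70 0 0 1 2 15 15 22 1 2 13 3 13 3 69 0 1 1 2 14 3 14 3 67 4 13) (@D3.rec (fun _ => Nat) 4 69 5 22 22 0 15 15 0 15 0 15 0 1 0 15 0 1 15 0 1 22 22 0 22 0 1 15 0 1 15 0) (@D3.rec (fun _ => Nat) 1 0 1 23 13 72 22 22 0 22 0 1 22 0 1 15 0 1 0 1 5 1 23 23 72 16 16 71 16 16 16 0) (@D3.rec (fun _ => Nat) 16 0 1 1 0 0 1 2 16 16 16 0 16 0 16 0 1 1 2 77 3 16 16 0 1 16 0 1 3 4 16 16) (@D3.rec (fun _ => Nat) 0 1 0 1 22 0 1 16 16 16 0 16 0 1 13 16 16 0 1 0 1 22 0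 1 1 2 14 3 3 16 16 16) (@D3.rec (fun _ => Nat) 0 16 0 1 0 16 0 1 16 0 1 71 3 74 4 16 16 0 1 0 1 22 4 74 5 16 0 1 73 1 22 22) (@D3.rec (fun _ => Nat) 0 1 1 2 14 3 3 68 68 16 69 70 69 14 3 22 4 4 22 0 1 24 15 0 1 15 1 72 70 16 0 16) (@D3.rec (fun _ => Nat) 0 1 0 16 0 1 16 0 1 0 1 0 16 0 1 24 0 1 15 16 0 1 0 1 22 1 15 15 0 1 22 1) (@D3.rec (fun _ => Nat) 22 22 30 29 1 0 0 1 0 1 77 24 1 16 16 16 56 58 76 0 1 25 36 25 25 0 1 2 40 25 0 25) (@D3.rec (fun _ => Nat) 0 1 23 0 2 30 3 3 0 25 0 1 25 0 1 0 1 0 1 2 30 25 25 0 25 0 25 0 1 2 30 3) (@D3.rec (fun _ => Nat) 0 25 0 1 25 0 1 3 0 4 0 1 25 0 1 0 1 25 1 30 25 0 25 0 1 0 25 0 1 25 0 1) (@D3.rec (fun _ => Nat) 25 0 1 0 1 24 0 1 68 1 24 24 0 1 23 31 1 1 23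 31 23 0 1 23 31 31 31 23 31 23 0 23) (@D3.rec (fun _ => Nat) 0 1 23 31 23 0 23 31 23 0 23 0 1 0 0 1 1 23 37 23 23 0 0 1 0 1 2 37 23 73 23 0) (@D3.rec (fun _ => Nat) 23 0 1 1 23 69 23 0 0 1 2 31 1 5 68 3 3 0 23 0 23 0 1 23 0 1 23 70 23 0 23 0) (@D3.rec (fun _ => Nat) 1 23 0 23 0 1 23 0 1 0 0 1 0 1 2 31 23 73 23 23 0 23 0 23 0 1 0 1 2 31 1 5) (@D3.rec (fun _ => Nat) 75 3 3 0 23 0 23 0 1 23 0 1 77 12 68 12 76 0 1 5 70 3 3 0 6 70 6 6 0 4 4 0)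
def lv_h_6 : D2 → D3 → Nat := @D2.rec (fun _ => D3 → Nat) (@D3.rec (fun _ => Nat) 4 0 1 23 0 1 23 0 1 0 1 12 12 69 12 69 12 69 76 0 1 0 1 2 29 5 3 3 23 23 23 67) (@D3.rec (fun _ => Nat) 67 0 1 5 68 3 3 69 6 6 4 4 13 13 1 70 6 6 70 4 4 71 71 5 13 0 1 16 24 1 24 16) (@D3.rec (fun _ => Nat) 71 1 23 24 24 24 71 1 23 24 23 0 23 24 0 23 0 1 0 0 1 1 16 12 16 16 0 1 1 2 12 12) (@D3.rec (fun _ => Nat) 68 70 16 0 1 23 12 23 0 2 12 69 12 66 69 0 68 0 1 23 0 23 0 1 1 23 0 1 0 0 1 0) (@D3.rec (fun _ => Nat) 1 2 13 16 13 16 16 0 16 0 16 0 1 0 1 2 13 1 5 13 3 3 0 16 73 16 0 1 16 0 1 77) (@D3.rec (fun _ => Nat) 23 0 23 0 1 1 5 72 3 3 0 6 68 6 72 0 4 4 0 4 0 1 16 73 16 0 1 0 1 13 0 1) (@D3.rec (fun _ => Nat) 23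 0 1 0 1 0 71 1 1 2 13 70 13 16 16 0 16 0 16 0 1 2 13 74 13 3 70 0 71 16 71 1) (@D3.rec (fun _ => Nat) 16 0 1 70 77 3 0 0 68 0 70 0 1 73 0 1 26 0 1 0 1 2 14 5 14 3 3 0 16 16 0 16) (@D3.rec (fun _ => Nat) 0 16 0 1 0 16 0 1 16 0 1 0 1 5 69 3 3 0 6 0 4 4 0 4 0 1 16 0 1 16 0 1) (@D3.rec (fun _ => Nat) 0 1 13 13 74 1 73 6 0 4 4 0 4 0 1 7 0 1 5 5 0 5 0 1 5 0 1 16 0 1 0 1) (@D3.rec (fun _ => Nat) 5 1 13 13 74 0 1 1 2 14 3 3 16 14 3 69 71 1 15 15 15 3 69 4 4 74 5 5 69 23 23 0) (@D3.rec (fun _ => Nat) 23 0 1 16 0 16 0 1 0 16 0 1 16 0 1 0 1 0 16 0 1 15 0 1 24 23 23 0 23 0 1 23) (@D3.rec (fun _ => Nat) 0 1 16 0 1 0 1 5 1 24 24 72 23 0 23 0 1 23 0 1 0 1 5 0 1 67 1 6 6 17 17 71) (@D3.rec (fun _ => Nat) 17 17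 0 17 0 1 1 23 0 1 1 2 75 3 3 17 17 17 0 17 0 1 0 17 0 1 17 0 1 3 4 17) (@D3.rec (fun _ => Nat) 17 0 1 0 1 23 4 5 17 0 1 1 23 23 1 14 17 17 0 17 0 1 17 0 1 0 1 23 1 23 23 1) (@D3.rec (fun _ => Nat) 25 15 73 3 3 75 4 4 17 17 0 17 0 1 17 0 1 0 1 0 17 0 1 25 0 1 23 4 74 5 17 0) (@D3.rec (fun _ => Nat) 1 73 1 23 23 5 75 1 71 73 1 25 15 15 3 3 23 68 4 23 23 78 1 25 16 25 0 1 72 72 0 17) (@D3.rec (fun _ => Nat) 0 1 17 0 1 0 1 0 17 0 1 25 0 1 23 30 31 1 0 0 1 0 1 82 25 1 16 16 0 1 23 1) (@D3.rec (fun _ => Nat) 23 23 16 1 23 23 74 0 0 1 1 1 57 0 1 2 36 26 26 0 26 0 26 0 1 2 38 3 3 0 26 0) (@D3.rec (fun _ => Nat) 1 26 0 1 24 0 1 3 3 0 66 0 68 0 1 26 0 1 0 1 27 1 1 2 32 3 3 0 26 0 26 0) (@D3.rec (fun _ =>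 Nat) 1 0 26 0 1 26 0 1 3 0 4 0 1 26 0 1 0 1 27 4 0 1 68 0 1 0 1 5 1 27 27 15) (@D3.rec (fun _ => Nat) 30 0 26 0 1 26 0 1 0 1 0 26 0 1 15 0 1 25 0 1 68 1 25 25 1 68 68 25 25 25 25 1)
def lv_h_7 : D2 → D3 → Nat := @D2.rec (fun _ => D3 → Nat) (@D3.rec (fun _ => Nat) 24 32 24 24 0 32 24 32 24 0 24 0 1 24 32 24 0 0 24 0 1 24 0 1 0 24 0 1 24 24 0 24) (@D3.rec (fun _ => Nat) 0 1 24 0 1 0 0 1 0 1 2 35 24 71 24 24 0 24 0 24 0 1 0 1 2 39 1 5 71 3 3 0) (@D3.rec (fun _ => Nat) 24 0 24 0 1 24 0 1 24 73 24 0 24 0 1 1 5 70 3 3 0 6 67 6 6 0 4 4 0 4 0 1) (@D3.rec (fun _ => Nat) 0 1 24 0 1 0 1 13 24 24 0 24 0 1 24 0 1 0 1 24 0 1 0 1 0 1 0 1 2 31 1 5) (@D3.rec (fun _ => Nat) 71 3 3 0 24 24 0 24 0 24 0 1 0 24 0 1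 24 0 1 0 1 5 73 3 3 0 6 73 6 6 0 4) (@D3.rec (fun _ => Nat) 4 0 4 0 1 24 0 1 24 0 1 0 1 13 13 74 13 72 1 6 70 6 6 0 4 4 0 4 0 1 65 0) (@D3.rec (fun _ => Nat) 70 67 0 65 0 1 5 69 0 5 0 1 5 0 1 24 0 1 0 1 5 1 13 13 13 66 72 74 0 1 27 31) (@D3.rec (fun _ => Nat) 0 1 5 68 3 3 69 6 6 4 4 24 73 69 1 68 6 6 68 4 4 74 69 7 5 5 14 70 71 70 5 71) (@D3.rec (fun _ => Nat) 71 1 25 17 17 73 25 71 24 25 24 0 24 25 24 0 24 0 1 0 1 24 0 1 0 1 1 2 13 13 17 71) (@D3.rec (fun _ => Nat) 72 17 0 17 0 1 2 13 71 13 68 70 0 71 0 1 24 0 24 0 1 0 69 0 64 0 0 1 1 26 0 1) (@D3.rec (fun _ => Nat) 24 0 1 0 1 0 1 0 1 2 14 1 5 14 3 3 0 17 17 76 17 0 17 0 1 0 17 0 1 17 0 1) (@D3.rec (fun _ => Nat) 1 5 65 3 3 0 6 73 6 74 0 4 4 0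 4 0 1 17 75 17 0 1 0 1 14 24 0 1 24 0 1 6) (@D3.rec (fun _ => Nat) 74 6 0 4 4 0 4 0 1 29 0 72 0 72 0 1 5 23 0 28 0 1 27 0 1 17 74 0 1 5 1 14) (@D3.rec (fun _ => Nat) 14 1 0 1 8 1 69 1 2 14 72 14 3 71 0 72 76 17 0 17 73 1 0 17 0 1 17 0 1 3 0 0) (@D3.rec (fun _ => Nat) 4 70 0 71 0 1 75 0 1 26 73 0 1 1 68 0 1 0 1 1 26 26 0 1 16 15 0 1 5 72 3 3) (@D3.rec (fun _ => Nat) 0 6 6 0 4 4 0 4 0 1 17 0 17 0 1 0 17 0 1 17 0 1 0 1 0 17 0 1 16 0 1 14) (@D3.rec (fun _ => Nat) 1 71 6 0 4 4 0 4 0 1 7 0 1 5 5 0 5 0 1 5 0 1 17 0 1 0 1 5 1 14 14 70) (@D3.rec (fun _ => Nat) 7 1 5 5 0 5 0 1 5 0 1 25 0 1 6 0 27 0 1 29 0 1 0 1 5 0 1 1 6 6 1 28) (@D3.rec (fun _ => Nat) 15 15 3 3 69 78 69 71 16 72 16 0 4 69 5 5 72 72 24 24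 0 0 24 0 1 24 0 1 0 17 0 1) (@D3.rec (fun _ => Nat) 17 0 1 0 1 0 17 0 1 16 0 1 5 30 31 1 0 0 1 0 1 3 16 1 25 25 24 0 24 0 1 24) (@D3.rec (fun _ => Nat) 0 1 0 1 5 0 1 69 1 6 6 25 24 0 1 24 0 1 0 1 14 1 6 6 1 69 69 18 74 18 81 1) (@D3.rec (fun _ => Nat) 1 24 1 26 73 3 3 4 4 18 18 0 18 0 1 18 0 1 0 1 78 18 0 1 26 0 1 24 4 5 18 0)
def lv_h_8 : D2 → D3 → Nat := @D2.rec (fun _ => D3 → Nat) (@D3.rec (fun _ => Nat) 1 1 24 24 5 1 26 15 0 18 0 1 79 18 0 1 26 0 1 24 1 24 24 26 71 26 26 0 4 77 4 77) (@D3.rec (fun _ => Nat) 0 5 5 0 18 18 0 1 0 18 0 1 26 0 1 75 32 31 1 0 76 1 0 1 78 26 1 24 24 5 75 1) (@D3.rec (fun _ => Nat) 73 73 24 70 26 16 26 26 0 24 24 24 79 26 0 26 0 1 72 0 1 0 18 0 1 26 0 1 24 32 31 1)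 (@D3.rec (fun _ => Nat) 0 0 1 0 1 3 26 1 24 24 72 0 0 1 1 1 79 1 24 24 24 1 1 1 2 36 3 3 0 27 0 27) (@D3.rec (fun _ => Nat) 0 1 0 27 0 1 27 0 1 3 3 0 4 68 0 68 0 1 27 0 1 0 1 27 0 1 0 0 1 0 1 0) (@D3.rec (fun _ => Nat) 1 0 1 5 1 77 71 8 16 32 3 3 0 4 0 4 0 1 0 27 0 1 27 0 1 0 1 0 27 0 1 16) (@D3.rec (fun _ => Nat) 0 1 27 4 0 1 70 0 1 0 1 5 1 27 27 0 1 0 1 5 1 6 6 78 77 72 78 16 0 0 1 0) (@D3.rec (fun _ => Nat) 27 0 1 16 0 1 70 31 33 1 0 0 1 0 1 3 16 1 26 26 1 70 70 26 26 26 26 77 74 74 73 26) (@D3.rec (fun _ => Nat) 26 26 26 26 33 25 0 25 82 25 82 1 0 25 0 1 25 0 1 0 25 0 1 1 76 1 73 1 24 1 25 0) (@D3.rec (fun _ => Nat) 1 74 79 1 25 0 1 0 1 24 1 0 1 2 37 1 5 73 3 3 0 25 0 25 0 25 0 1 75 25 81 1)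 (@D3.rec (fun _ => Nat) 25 0 1 1 5 73 3 3 0 6 75 6 6 0 4 4 0 4 0 1 0 1 25 0 1 0 1 14 25 25 0 25) (@D3.rec (fun _ => Nat) 0 1 25 0 1 6 70 6 6 0 4 4 0 4 0 1 28 65 0 67 0 0 1 5 24 0 27 0 1 26 0 1) (@D3.rec (fun _ => Nat) 1 76 1 5 1 14 14 73 76 1 25 77 1 0 1 8 1 0 1 1 0 1 29 33 0 1 5 73 3 3 0 6) (@D3.rec (fun _ => Nat) 75 6 6 0 4 4 0 4 0 1 25 0 25 0 1 0 25 0 1 25 0 1 0 1 77 25 0 1 31 0 1 14) (@D3.rec (fun _ => Nat) 1 6 75 6 6 0 4 4 0 4 0 1 67 0 7 69 0 67 0 1 5 5 0 5 0 1 5 0 1 25 0 1) (@D3.rec (fun _ => Nat) 0 1 5 1 14 14 14 76 74 72 0 0 0 1 5 0 5 0 1 5 0 1 0 1 73 0 0 1 25 0 1 69) (@D3.rec (fun _ => Nat) 0 29 0 1 26 0 1 0 1 5 74 1 7 1 6 6 76 77 1 29 70 29 29 0 1 70 6 6 70 4 4 71) (@D3.rec (fun _ =>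 Nat) 71 7 7 5 5 78 70 7 71 70 5 5 74 76 74 26 18 73 73 25 0 25 0 1 79 77 1 25 74 1 1 0) (@D3.rec (fun _ => Nat) 1 24 1 2 14 72 14 3 73 0 70 72 72 69 18 79 1 0 1 0 69 0 66 0 0 1 1 28 25 0 1 25) (@D3.rec (fun _ => Nat) 0 1 1 0 1 66 0 1 1 1 0 1 8 1 0 1 17 15 1 5 72 3 3 0 6 75 6 76 0 4 4 0) (@D3.rec (fun _ => Nat) 4 0 1 18 76 18 76 0 18 0 1 18 0 1 0 1 72 18 0 1 17 0 1 81 6 77 6 0 4 4 0 4) (@D3.rec (fun _ => Nat) 0 1 29 0 7 74 0 72 0 1 5 5 0 29 0 1 28 0 1 18 76 0 1 5 1 15 82 0 1 0 1 8)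
def lv_h_9 : D2 → D3 → Nat := @D2.rec (fun _ => D3 → Nat) (@D3.rec (fun _ => Nat) 0 0 1 5 0 0 1 0 1 0 1 0 1 0 1 26 0 0 1 0 1 8 0 1 5 71 1 6 9 1 9 9) (@D3.rec (fun _ => Nat) 28 15 3 0 72 0 4 71 0 72 0 1 72 0 18 77 1 76 0 1 75 18 0 1 32 0 1 28 4 0 1 1) (@D3.rec (fun _ => Nat) 70 0 68 0 1 0 1 1 28 28 1 0 1 1 80 1 69 71 17 17 0 1 77 6 6 0 4 4 0 4 0 1) (@D3.rec (fun _ => Nat) 7 0 7 0 1 5 5 0 0 5 0 1 5 0 1 0 18 0 1 18 0 1 0 1 0 18 0 1 17 0 1 5) (@D3.rec (fun _ => Nat) 32 32 1 0 74 1 0 1 82 17 1 15 79 7 1 5 5 0 5 0 1 5 0 1 25 0 1 6 0 6 0 1) (@D3.rec (fun _ => Nat) 28 0 1 0 1 5 0 1 1 6 6 80 6 0 0 1 0 1 0 1 0 1 27 0 1 0 1 0 1 14 1 6) (@D3.rec (fun _ => Nat) 6 1 28 16 28 28 0 72 71 73 0 70 72 0 17 0 1 5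 74 72 25 0 0 25 0 1 0 1 0 25 0 1) (@D3.rec (fun _ => Nat) 74 0 1 5 0 1 0 18 0 1 73 0 1 69 30 29 1 0 0 1 0 1 3 17 1 6 6 0 0 0 1 1) (@D3.rec (fun _ => Nat) 3 1 4 25 0 1 25 0 1 0 1 15 1 6 6 1 69 69 7 25 0 1 0 1 15 1 15 15 76 27 27 29) (@D3.rec (fun _ => Nat) 0 4 4 0 5 5 0 19 19 0 1 0 19 0 1 27 0 1 30 31 1 78 0 1 1 25 5 1 27 0 0 1) (@D3.rec (fun _ => Nat) 80 73 1 79 0 1 1 25 27 0 27 0 29 0 1 0 5 77 5 77 0 1 6 0 1 19 31 31 1 0 0 1) (@D3.rec (fun _ => Nat) 0 1 3 27 1 75 75 72 77 76 1 1 79 25 72 75 27 0 0 0 1 0 1 27 0 1 34 30 1 0 0 1) (@D3.rec (fun _ => Nat) 0 1 3 27 1 25 25 77 0 0 1 1 3 1 76 75 77 25 1 1 78 25 17 34 3 3 0 4 4 0 70 0) (@D3.rec (fun _ => Nat) 1 0 28 0 1 28 0 1 0 1 76 28 0 1 17 0 1 80 4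 0 0 1 66 0 0 1 0 1 0 1 5 1) (@D3.rec (fun _ => Nat) 77 81 1 8 1 1 1 8 1 5 1 6 6 9 17 17 0 4 0 4 0 1 0 5 0 1 72 0 1 0 1 0) (@D3.rec (fun _ => Nat) 28 0 1 17 0 1 5 29 35 1 0 72 1 0 1 80 17 1 29 81 0 1 0 1 5 1 6 6 78 77 74 79) (@D3.rec (fun _ => Nat) 1 26 1 6 6 7 7 7 7 73 17 0 1 31 33 1 0 0 1 0 1 3 17 1 70 70 0 0 0 1 1 3) (@D3.rec (fun _ => Nat) 1 4 83 81 27 27 27 27 77 77 74 81 27 27 27 27 27 75 27 27 26 0 1 26 26 80 1 78 1 75 1 1) (@D3.rec (fun _ => Nat) 26 0 1 0 1 80 1 1 29 33 1 5 71 3 3 0 6 71 6 6 0 4 4 0 4 0 1 0 1 0 26 0) (@D3.rec (fun _ => Nat) 1 26 0 1 73 26 79 0 1 6 73 6 6 0 4 4 0 4 0 1 30 69 0 7 0 0 1 5 5 0 28 0) (@D3.rec (fun _ => Nat) 1 30 0 1 1 75 1 5 1 15 26 79 78 1 26 0 1 0 1 8 0 0 0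 1 5 0 0 1 0 1 0 0) (@D3.rec (fun _ => Nat) 1 69 0 1 1 26 0 0 1 0 1 8 0 1 5 7 6 6 76 76 9 1 9 9 1 75 1 71 73 33 29 0)
def lv_h_10 : D2 → D3 → Nat := @D2.rec (fun _ => D3 → Nat) (@D3.rec (fun _ => Nat) 1 6 73 6 6 0 4 4 0 4 0 1 7 67 0 7 7 0 67 0 1 5 5 0 0 5 0 1 5 0 1 69) (@D3.rec (fun _ => Nat) 26 0 1 26 0 1 0 1 0 26 0 1 33 0 1 5 32 32 1 77 0 1 1 15 75 0 7 0 0 1 5 5) (@D3.rec (fun _ => Nat) 0 5 0 1 5 0 1 0 1 72 72 0 0 1 24 0 1 71 0 6 0 1 28 0 1 0 1 5 74 1 7 1) (@D3.rec (fun _ => Nat) 6 6 72 1 1 1 0 1 0 1 0 1 24 1 0 1 1 0 1 7 29 0 1 0 1 0 1 25 1 6 6 8) (@D3.rec (fun _ => Nat) 8 7 7 69 70 68 29 0 73 77 0 76 0 1 70 7 7 72 70 5 5 74 78 84 71 74 72 74 76 1 26 0) (@D3.rec (fun _ => Nat) 1 77 1 30 15 3 0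 69 0 68 71 0 0 1 70 70 75 78 1 1 71 0 1 68 0 1 1 0 1 0 1 8) (@D3.rec (fun _ => Nat) 1 0 1 8 9 1 9 74 1 69 76 18 18 0 6 74 6 0 4 4 0 4 0 1 7 31 0 7 74 0 74 0) (@D3.rec (fun _ => Nat) 1 5 5 0 0 5 0 1 29 0 1 0 19 78 19 73 0 1 0 19 0 1 18 0 1 5 30 30 1 77 0 1) (@D3.rec (fun _ => Nat) 1 80 0 7 0 1 5 5 0 0 1 0 1 0 1 76 0 0 1 0 1 25 0 31 0 1 0 1 8 0 1 5) (@D3.rec (fun _ => Nat) 71 1 6 1 9 1 9 9 1 1 0 1 1 24 1 1 1 9 1 0 1 1 9 1 25 9 1 6 10 10 34 30) (@D3.rec (fun _ => Nat) 0 4 0 1 0 1 72 0 0 71 0 1 0 1 0 1 0 75 32 0 0 1 78 0 1 1 28 0 1 70 0 1) (@D3.rec (fun _ => Nat) 0 1 1 1 25 74 76 69 71 0 68 18 0 18 0 1 7 0 7 1 5 5 0 0 5 0 1 5 0 1 0 8) (@D3.rec (fun _ => Nat) 0 1 27 0 1 6 0 0 6 0 1 0 1 0 6 0 1 18 0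 1 5 0 1 0 19 0 1 73 0 1 30 31) (@D3.rec (fun _ => Nat) 1 0 0 1 0 1 3 18 1 6 6 0 0 74 1 1 78 79 6 0 6 0 1 0 1 0 1 0 1 29 0 1) (@D3.rec (fun _ => Nat) 30 0 1 0 1 15 1 6 6 1 7 0 1 1 1 24 1 1 0 1 1 15 1 15 15 30 0 0 0 1 0 1) (@D3.rec (fun _ => Nat) 68 70 0 76 0 1 18 0 1 76 0 26 0 1 0 1 0 26 0 1 72 30 31 1 0 0 1 0 1 3 74 1) (@D3.rec (fun _ => Nat) 6 6 34 30 1 0 0 1 0 1 3 75 1 71 71 0 0 0 1 1 3 1 4 4 4 7 1 1 1 4 83 26) (@D3.rec (fun _ => Nat) 0 1 0 1 16 1 16 16 7 79 0 1 16 1 16 16 77 28 28 30 0 1 0 5 5 0 1 6 0 1 20 31) (@D3.rec (fun _ => Nat) 29 1 74 0 1 0 1 3 28 1 72 79 1 0 1 1 75 1 0 1 0 30 0 1 30 0 1 0 1 0 6 74) (@D3.rec (fun _ => Nat) 72 33 31 1 81 32 32 1 81 74 74 0 1 1 3 1 75 4 77 73 75 74 28 0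 1 1 1 1 86 1 18 0) (@D3.rec (fun _ => Nat) 0 0 1 1 3 1 4 82 80 26 26 1 1 18 78 75 18 18 0 4 4 0 0 1 69 0 0 71 0 1 0 1) (@D3.rec (fun _ => Nat) 0 1 0 29 0 1 18 0 1 5 29 31 1 78 0 1 1 78 0 1 1 0 1 1 8 1 5 1 6 6 9 9)
def lv_h_11 : D2 → D3 → Nat := @D2.rec (fun _ => D3 → Nat) (@D3.rec (fun _ => Nat) 25 27 26 9 6 6 77 18 0 18 0 1 0 5 0 1 0 1 0 1 0 70 0 1 18 0 1 5 31 35 1 0) (@D3.rec (fun _ => Nat) 0 1 0 1 3 18 1 6 6 0 0 74 1 1 80 76 80 78 1 27 1 6 6 7 7 7 7 81 27 7 7 7) (@D3.rec (fun _ => Nat) 7 8 18 0 1 0 0 0 1 1 3 1 4 4 4 75 72 76 82 1 1 1 4 5 79 82 80 75 74 1 27 75) (@D3.rec (fun _ => Nat) 79 1 1 35 70 0 6 73 6 6 0 4 4 0 4 0 1 7 65 0 7 7 0 0 1 5 5 0 0 5 0 1) (@D3.rec (fun _ => Nat) 32 0 1 1 0 1 0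 27 81 1 81 1 5 32 34 81 1 0 7 0 0 1 5 5 0 0 1 0 1 32 0 0) (@D3.rec (fun _ => Nat) 1 69 0 1 1 26 0 29 0 1 0 1 8 0 1 5 7 6 6 75 73 81 1 9 1 9 9 1 1 1 0 1) (@D3.rec (fun _ => Nat) 1 25 1 25 1 1 0 1 9 7 0 1 1 9 1 9 1 6 6 78 7 10 73 75 71 0 35 35 0 74 0 1) (@D3.rec (fun _ => Nat) 75 7 0 7 7 0 0 1 5 5 0 0 5 0 1 5 0 1 67 0 0 1 71 69 0 69 67 0 1 26 0 1) (@D3.rec (fun _ => Nat) 72 0 0 6 0 1 0 1 0 6 0 1 33 0 1 5 71 0 27 0 1 76 1 7 34 36 1 0 0 1 0 1) (@D3.rec (fun _ => Nat) 3 33 1 6 6 76 79 1 1 0 1 1 0 6 0 1 0 1 0 1 25 1 0 0 1 1 0 1 7 29 0 1) (@D3.rec (fun _ => Nat) 28 0 1 0 1 26 1 6 6 8 8 7 7 25 1 1 75 1 25 25 26 1 26 1 8 8 0 1 1 26 1 26) (@D3.rec (fun _ => Nat) 26 7 7 9 9 8 0 74 75 0 31 0 1 70 75 0 0 1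 81 0 1 75 74 76 76 77 1 34 0 0 1 70) (@D3.rec (fun _ => Nat) 0 1 66 0 73 0 1 1 0 73 0 1 0 1 8 1 9 1 9 76 9 1 9 10 69 76 67 69 0 19 19 0) (@D3.rec (fun _ => Nat) 19 0 1 7 0 7 0 1 5 5 0 0 5 0 1 0 1 31 0 0 1 74 0 0 74 0 1 0 1 27 0 0) (@D3.rec (fun _ => Nat) 33 0 1 0 1 0 30 0 1 19 0 1 5 0 1 0 20 78 73 31 30 1 0 0 1 0 1 3 19 1 6 6) (@D3.rec (fun _ => Nat) 79 80 1 1 0 1 0 0 1 1 25 1 1 0 1 1 9 1 0 1 0 1 9 1 26 9 1 6 10 10 10 10) (@D3.rec (fun _ => Nat) 10 25 1 25 26 26 10 1 10 26 26 34 34 0 0 1 0 1 1 0 72 0 1 0 1 0 0 1 34 1 0 1) (@D3.rec (fun _ => Nat) 0 0 1 34 78 1 76 1 81 1 1 0 1 1 26 26 0 69 0 0 1 68 70 0 0 19 0 1 19 0 1 0) (@D3.rec (fun _ => Nat) 8 1 6 0 0 6 0 1 0 1 0 6 0 1 5 0 1 0 1 0 27 0 1 69 0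 1 0 29 0 1 0 1) (@D3.rec (fun _ => Nat) 0 30 0 1 70 32 31 1 0 0 1 0 1 3 19 1 6 6 34 32 1 0 0 1 0 1 3 73 1 0 0 0) (@D3.rec (fun _ => Nat) 1 1 3 1 4 4 4 7 7 1 1 75 0 1 0 1 1 25 1 1 0 1 0 1 16 1 16 16 7 1 25 25) (@D3.rec (fun _ => Nat) 1 16 16 16 30 0 1 1 1 1 70 0 78 0 1 83 0 1 0 1 18 0 1 0 27 0 1 32 31 1 0 0)
def lv_h_12 : D2 → D3 → Nat := @D2.rec (fun _ => D3 → Nat) (@D3.rec (fun _ => Nat) 1 0 1 3 74 0 0 0 1 1 3 1 4 4 4 85 7 0 0 0 1 1 3 1 4 4 4 71 78 1 1 1) (@D3.rec (fun _ => Nat) 4 18 4 4 5 5 9 0 1 17 1 17 17 17 17 1 17 82 0 1 0 1 6 33 33 1 82 32 28 1 80 82) (@D3.rec (fun _ => Nat) 1 3 1 76 74 1 75 1 0 1 0 0 1 82 1 19 37 33 1 0 0 1 74 74 80 1 19 4 74 75 75 77) (@D3.rec (fun _ => Nat) 81 1 19 19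 19 19 1 1 1 4 19 78 80 81 80 19 19 0 19 0 1 0 0 0 1 1 0 0 1 0 1 0) (@D3.rec (fun _ => Nat) 0 1 19 1 5 29 33 1 0 0 1 0 1 3 19 1 6 6 75 75 1 1 26 28 1 9 27 9 6 6 7 10) (@D3.rec (fun _ => Nat) 10 10 26 28 27 27 76 0 19 0 1 19 0 1 0 1 0 0 1 5 1 28 33 35 1 0 0 1 0 1 3 19) (@D3.rec (fun _ => Nat) 1 6 6 0 0 0 1 1 3 1 4 4 4 7 7 7 7 1 1 80 80 80 74 28 7 7 7 7 8 8 8 0) (@D3.rec (fun _ => Nat) 1 28 1 1 1 4 28 4 4 5 5 5 5 5 82 77 9 5 68 68 0 70 0 1 7 0 7 7 0 0 1 5) (@D3.rec (fun _ => Nat) 5 0 0 5 0 1 0 1 30 67 0 0 1 70 0 0 1 1 28 0 0 30 0 1 0 1 0 30 0 1 35 0) (@D3.rec (fun _ => Nat) 1 5 7 34 38 1 0 0 1 83 3 6 6 1 0 1 1 0 0 1 1 26 1 26 0 1 1 0 1 9 7 0) (@D3.rec (fun _ => Nat) 1 0 1 9 1 9 1 6 6 7 7 10 10 10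 10 26 26 1 26 26 26 26 27 1 77 1 10 7 8 71 0 70) (@D3.rec (fun _ => Nat) 0 1 68 74 0 68 76 0 1 81 0 1 0 1 0 70 0 1 1 0 0 6 0 1 0 1 0 6 0 1 5 0) (@D3.rec (fun _ => Nat) 1 26 69 0 1 1 0 69 0 1 70 0 26 0 1 33 0 1 7 0 31 0 1 0 1 0 30 0 1 35 32 36) (@D3.rec (fun _ => Nat) 1 0 0 1 0 1 3 35 1 6 6 30 0 1 76 1 3 8 8 0 0 0 1 1 3 1 4 4 4 7 7 1) (@D3.rec (fun _ => Nat) 26 1 0 1 1 75 1 26 26 27 1 1 27 1 8 8 0 1 0 1 27 1 27 27 7 7 9 9 9 8 8 26) (@D3.rec (fun _ => Nat) 26 26 27 9 9 1 27 27 27 8 1 77 0 76 1 0 1 77 0 0 1 1 0 1 26 0 1 1 0 1 0 1) (@D3.rec (fun _ => Nat) 0 1 34 1 1 9 1 9 10 10 10 76 10 69 0 67 69 0 0 1 66 20 0 0 20 0 1 0 1 0 1 0) (@D3.rec (fun _ => Nat) 1 0 72 0 1 0 1 0 0 1 5 1 73 0 1 1 67 0 1 71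 1 0 0 1 69 1 0 0 1 0 1 0) (@D3.rec (fun _ => Nat) 0 1 20 32 33 1 0 0 1 0 1 3 20 1 6 6 32 30 1 0 0 1 73 0 0 0 1 1 3 1 4 4) (@D3.rec (fun _ => Nat) 4 7 1 26 1 1 26 27 1 10 27 10 1 10 1 27 10 10 27 11 11 11 11 26 27 0 0 1 1 1 5 32) (@D3.rec (fun _ => Nat) 71 1 0 0 1 34 33 1 0 0 1 1 3 34 1 0 0 1 1 81 1 27 27 1 0 0 1 1 68 0 0 76) (@D3.rec (fun _ => Nat) 0 1 0 1 0 20 0 1 5 0 1 19 71 1 7 0 0 1 0 1 0 0 1 6 35 33 1 0 0 1 0 1)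
def lv_h_13 : D2 → D3 → Nat := @D2.rec (fun _ => D3 → Nat) (@D3.rec (fun _ => Nat) 3 6 1 36 32 1 0 0 1 0 1 3 71 1 0 1 0 0 1 68 32 33 1 0 0 1 0 1 3 70 0 0) (@D3.rec (fun _ => Nat) 0 1 1 3 1 4 4 4 20 7 7 0 0 0 1 1 3 1 4 4 1 1 1 4 19 4 4 5 5 5 5 9) (@D3.rec (fun _ => Nat) 1 1 26 26 1 17 1 17 17 17 17 26 26 17 0 1 19 19 80 0 1 79 78 1 0 1 26 1 19 19 35 34) (@D3.rec (fun _ => Nat) 1 0 0 1 0 1 3 0 0 0 1 1 3 1 4 4 4 81 1 1 1 4 26 4 4 5 5 5 83 1 1 1) (@D3.rec (fun _ => Nat) 4 19 4 4 5 5 5 5 8 5 5 1 18 18 18 18 18 1 20 37 33 1 75 81 78 20 20 20 29 1 0 0) (@D3.rec (fun _ => Nat) 1 1 3 20 20 0 0 0 1 1 20 20 20 20 20 20 20 20 0 39 20 0 1 0 1 1 1 0 1 5 29 1) (@D3.rec (fun _ => Nat) 0 1 20 33 1 0 0 1 1 3 20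 6 6 0 0 0 1 1 3 1 4 4 4 7 7 27 27 29 28 10 10 28) (@D3.rec (fun _ => Nat) 28 10 7 80 11 37 1 0 20 0 1 5 0 1 29 35 1 0 0 1 1 3 6 29 29 0 0 0 1 1 3 1) (@D3.rec (fun _ => Nat) 4 4 4 20 7 7 7 7 1 1 1 4 29 4 4 5 5 5 5 5 8 8 8 8 9 0 8 8 1 29 29 8) (@D3.rec (fun _ => Nat) 5 29 5 5 29 29 5 5 6 6 6 36 70 0 68 68 0 1 0 1 0 1 0 69 0 1 1 0 34 0 1 33) (@D3.rec (fun _ => Nat) 1 0 0 1 5 1 27 0 0 1 1 0 1 1 33 7 34 0 1 33 1 0 0 1 35 29 36 1 0 0 1 0) (@D3.rec (fun _ => Nat) 1 3 35 1 6 6 8 0 0 1 1 3 4 7 7 1 27 27 1 1 27 27 27 27 1 28 1 10 1 10 1 10) (@D3.rec (fun _ => Nat) 10 7 7 8 11 11 11 27 8 0 1 0 1 70 0 70 0 1 68 0 77 0 1 5 0 1 27 1 1 0 1 7) (@D3.rec (fun _ => Nat) 27 1 34 1 0 0 1 6 37 36 1 0 0 1 0 1 3 6 1 27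 27 0 1 71 28 1 0 1 72 28 0 1) (@D3.rec (fun _ => Nat) 0 1 3 33 1 8 8 32 1 0 0 1 70 31 36 1 0 0 1 0 1 3 35 0 0 0 1 1 3 1 4 4) (@D3.rec (fun _ => Nat) 4 39 7 7 0 1 3 4 4 9 9 9 1 1 1 4 27 4 4 5 5 5 5 8 8 27 1 77 27 27 28 28) (@D3.rec (fun _ => Nat) 9 9 9 1 28 1 28 28 28 28 28 28 8 8 10 1 1 27 0 1 1 1 27 27 1 5 1 34 1 36 1 3) (@D3.rec (fun _ => Nat) 36 10 10 10 11 11 75 0 1 0 0 1 1 36 0 40 0 1 1 0 0 1 5 1 20 1 1 7 1 0 1 6) (@D3.rec (fun _ => Nat) 37 1 0 0 1 1 3 6 0 1 69 28 0 1 67 0 0 1 1 3 69 1 0 1 68 34 1 0 0 1 1 3) (@D3.rec (fun _ => Nat) 21 21 0 0 0 1 1 3 1 4 4 4 21 7 0 0 0 1 1 1 1 1 4 20 4 4 5 5 5 27 27 27) (@D3.rec (fun _ => Nat) 28 11 11 28 11 28 28 11 12 0 1 1 5 20 6 6 34 0 0 1 1 3 36 0 0 1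 1 3 4 4 38 1) (@D3.rec (fun _ => Nat) 1 28 28 1 1 7 20 37 0 1 36 1 0 0 1 6 29 1 0 0 1 0 1 3 6 1 20 20 78 8 1 0)
def lv_h_14 : D2 → D3 → Nat := @D2.rec (fun _ => D3 → Nat) (@D3.rec (fun _ => Nat) 1 7 37 1 0 0 1 1 3 7 0 0 0 1 1 3 1 4 4 7 0 0 0 1 1 3 1 4 4 75 33 1) (@D3.rec (fun _ => Nat) 0 0 1 1 3 70 0 0 0 1 1 3 1 4 4 4 76 1 1 1 4 7 4 4 5 5 5 5 5 5 21 1) (@D3.rec (fun _ => Nat) 1 1 4 74 4 5 5 8 5 5 20 79 5 5 9 27 27 27 27 18 18 18 18 18 1 20 20 75 1 80 27 1) (@D3.rec (fun _ => Nat) 27 86 20 20 20 0 0 0 1 1 3 1 4 4 1 1 1 4 27 4 4 5 5 5 5 85 28 5 27 5 5 6) (@D3.rec (fun _ => Nat) 28 5 20 5 5 5 19 19 21 21 75 21 21 0 0 1 1 3 4 4 21 21 21 1 1 1 21 21 21 0 1 0) (@D3.rec (fun _ => Nat) 0 1 5 1 30 6 0 1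 3 6 30 0 1 3 21 21 0 0 1 1 3 4 4 4 21 7 7 1 1 1 4 30) (@D3.rec (fun _ => Nat) 4 4 5 5 5 5 8 28 28 30 29 29 11 84 29 0 0 0 1 0 1 3 6 1 30 30 0 0 1 1 3 4) (@D3.rec (fun _ => Nat) 4 4 7 30 1 1 1 4 7 4 4 5 5 5 5 5 5 21 8 8 8 8 8 5 30 5 5 30 30 5 5 6) (@D3.rec (fun _ => Nat) 6 6 6 6 0 9 1 30 30 30 30 30 30 6 30 30 6 6 7 0 0 1 0 0 1 5 1 28 1 1 0 1) (@D3.rec (fun _ => Nat) 71 28 1 0 1 6 0 0 1 1 3 6 28 28 1 1 71 29 1 35 74 35 8 0 1 37 0 1 1 3 35 37) (@D3.rec (fun _ => Nat) 0 0 1 1 3 1 4 4 4 39 7 7 1 1 28 4 5 8 28 28 28 28 28 11 11 11 8 0 1 1 7 0) (@D3.rec (fun _ => Nat) 1 0 1 6 0 1 0 1 3 6 1 28 28 8 8 1 3 8 28 7 0 0 1 1 3 7 0 0 0 1 1 3) (@D3.rec (fun _ => Nat) 1 4 4 4 7 28 28 1 3 73 29 70 1 3 72 0 1 3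 1 4 4 4 35 9 9 9 0 0 1 1 3 70) (@D3.rec (fun _ => Nat) 0 0 0 1 1 3 1 4 4 4 39 1 1 1 4 7 4 4 5 5 5 5 5 5 39 8 8 1 4 4 5 5) (@D3.rec (fun _ => Nat) 5 10 10 5 28 5 28 28 5 5 6 6 6 28 77 28 28 29 29 10 29 29 29 29 29 1 28 28 5 6 34 34) (@D3.rec (fun _ => Nat) 36 36 36 3 4 40 11 11 0 1 1 1 7 0 1 0 1 6 0 1 1 3 6 21 21 8 8 8 7 1 3 7) (@D3.rec (fun _ => Nat) 7 0 0 1 1 3 4 4 7 1 3 71 29 1 3 69 69 1 1 3 4 4 71 0 1 3 68 68 0 0 1 1) (@D3.rec (fun _ => Nat) 3 4 4 4 22 22 1 1 1 4 7 4 4 5 5 5 5 5 22 1 1 1 5 5 79 81 5 28 28 29 12 29) (@D3.rec (fun _ => Nat) 29 0 0 1 6 75 6 21 7 7 34 1 1 3 4 4 4 40 1 1 4 70 4 5 5 40 29 77 78 8 21 0) (@D3.rec (fun _ => Nat) 1 7 0 0 1 1 3 7 0 0 1 1 3 1 4 4 4 7 82 21 21 21 9 0 1 3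 8 0 0 1 1 3) (@D3.rec (fun _ => Nat) 4 4 4 8 1 1 1 4 7 4 5 5 5 8 1 1 1 4 79 4 5 5 5 77 0 0 1 1 3 4 4 4) (@D3.rec (fun _ => Nat) 70 1 1 1 4 8 4 4 5 5 5 5 5 5 76 18 5 8 5 5 77 8 5 5 5 6 6 6 6 6 6 29)
def lv_h_15 : D2 → D3 → Nat := @D2.rec (fun _ => D3 → Nat) (@D3.rec (fun _ => Nat) 5 74 5 79 10 77 28 28 28 19 19 21 28 28 21 21 1 1 1 4 28 4 5 5 5 29 5 5 28 28 5 5) (@D3.rec (fun _ => Nat) 6 82 6 22 22 22 22 1 1 4 30 4 5 80 5 22 22 22 28 22 1 6 1 1 3 6 31 31 7 7 1 3) (@D3.rec (fun _ => Nat) 4 4 7 31 1 3 4 4 22 22 1 1 4 7 4 4 5 5 5 5 5 22 8 5 31 5 31 31 5 5 6 6) (@D3.rec (fun _ => Nat) 29 30 30 0 1 1 1 3 1 4 4 4 7 31 31 31 31 1 1 4 7 4 4 5 5 5 5 8 36 5 8 5) (@D3.rec (fun _ => Nat) 5 8 8 5 5 5 6 6 6 6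 6 6 6 6 6 0 10 6 31 31 6 6 31 31 6 6 34 7 1 31 31 31) (@D3.rec (fun _ => Nat) 31 31 7 1 1 6 1 1 3 6 29 29 69 71 1 3 71 29 7 1 3 7 7 1 1 3 4 4 4 7 29 29) (@D3.rec (fun _ => Nat) 71 75 71 30 70 35 35 76 76 35 1 3 37 37 1 3 4 4 37 41 1 1 4 7 4 4 5 84 5 5 5 5) (@D3.rec (fun _ => Nat) 41 8 29 5 6 29 29 29 0 1 8 8 8 1 7 1 3 7 1 3 1 4 4 4 7 29 29 29 9 9 3 4) (@D3.rec (fun _ => Nat) 4 9 29 8 1 1 3 4 4 4 8 1 1 1 4 7 4 4 5 5 5 5 5 5 8 29 29 3 4 4 73 72) (@D3.rec (fun _ => Nat) 3 4 4 74 1 4 4 4 5 5 5 5 5 5 41 10 10 1 1 3 4 4 4 72 1 1 1 4 8 4 4 5) (@D3.rec (fun _ => Nat) 5 5 5 5 5 41 18 5 8 5 5 8 8 5 5 5 6 6 6 6 6 6 6 6 5 5 5 6 6 6 29 6) (@D3.rec (fun _ => Nat) 29 29 6 6 35 7 30 30 30 29 6 7 36 36 36 36 38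 36 40 4 5 40 1 8 8 78 8 1 7 1 73 7) (@D3.rec (fun _ => Nat) 7 1 3 74 81 4 7 22 22 22 9 9 9 9 8 8 3 4 8 8 1 1 4 7 4 5 5 8 3 4 4 71) (@D3.rec (fun _ => Nat) 3 4 4 69 73 4 80 4 5 5 71 1 3 4 4 70 72 1 1 4 71 4 4 5 5 5 5 0 23 23 75 5) (@D3.rec (fun _ => Nat) 8 5 5 77 8 5 5 6 6 6 6 6 30 79 79 0 1 1 29 7 75 75 7 8 8 40 4 72 4 4 5 5) (@D3.rec (fun _ => Nat) 5 5 40 37 70 5 72 5 6 6 81 80 9 22 1 3 8 1 1 3 4 4 4 8 1 1 4 21 4 4 72 5) (@D3.rec (fun _ => Nat) 5 5 5 5 8 83 22 22 22 10 1 3 4 4 9 1 1 4 8 4 4 5 5 5 5 9 19 5 8 5 8 5) (@D3.rec (fun _ => Nat) 6 6 6 73 5 72 5 83 5 6 6 6 1 1 4 9 4 4 5 5 5 5 5 72 19 5 9 5 5 9 9 5) (@D3.rec (fun _ => Nat) 5 5 6 6 6 6 6 6 81 19 6 9 6 6 81 9 6 79 6 6 7 7 7 7 7 30 29 22 29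 29 86 30) (@D3.rec (fun _ => Nat) 5 5 29 5 30 29 6 80 23 23 23 23 31 5 31 5 6 83 6 29 42 7 7 3 41 4 4 7 32 32 32 8) (@D3.rec (fun _ => Nat) 8 7 4 4 5 5 5 8 41 4 4 5 5 5 0 23 23 79 37 5 5 8 8 5 5 5 6 6 6 6 6 6) (@D3.rec (fun _ => Nat) 32 32 32 6 6 80 7 0 0 1 30 4 21 4 4 74 5 5 5 5 5 8 32 32 32 32 74 8 5 5 8 8)
def lv_h_16 : D2 → D3 → Nat := @D2.rec (fun _ => D3 → Nat) (@D3.rec (fun _ => Nat) 5 5 6 6 6 6 76 36 6 6 9 9 6 6 6 80 9 9 6 6 36 6 6 7 7 7 0 7 7 7 7 7) (@D3.rec (fun _ => Nat) 1 32 32 85 32 32 0 7 36 32 32 7 38 7 7 3 40 4 4 7 30 30 30 71 73 73 3 4 4 73 8 8) (@D3.rec (fun _ => Nat) 3 4 8 8 4 7 4 4 5 5 5 5 5 8 71 75 75 73 72 37 37 76 76 41 3 4 37 41 4 4 5 5) (@D3.rec (fun _ => Nat) 0 37 41 5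 38 5 8 8 5 5 5 6 82 6 6 6 6 6 6 0 1 9 9 9 73 8 3 4 8 4 4 4) (@D3.rec (fun _ => Nat) 72 5 5 5 5 5 8 30 30 10 10 4 4 5 5 5 10 9 4 8 4 4 5 5 5 9 19 5 8 5 5 8) (@D3.rec (fun _ => Nat) 8 5 5 5 6 6 6 6 6 6 6 6 4 4 5 5 75 72 4 4 5 5 5 74 5 5 5 5 5 5 6 6) (@D3.rec (fun _ => Nat) 6 6 6 6 6 6 4 72 4 4 5 5 5 72 19 5 38 5 5 9 9 5 5 5 6 6 6 6 6 6 6 19) (@D3.rec (fun _ => Nat) 6 9 9 6 6 6 9 9 9 6 6 35 6 6 7 7 7 7 7 7 7 6 6 6 30 30 30 0 7 35 0 7) (@D3.rec (fun _ => Nat) 8 36 36 42 38 42 38 42 5 6 30 9 9 9 78 9 37 8 8 40 75 75 8 8 41 4 75 73 81 79 5 8) (@D3.rec (fun _ => Nat) 23 23 23 10 10 10 10 9 9 4 5 9 9 37 8 5 8 5 6 6 4 4 5 5 73 4 4 5 5 0 73 73) (@D3.rec (fun _ => Nat) 5 78 5 6 6 32 4 4 5 5 74 74 37 38 5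 5 79 73 5 5 6 6 6 6 0 1 24 77 6 9 6 6) (@D3.rec (fun _ => Nat) 80 9 79 6 6 7 7 7 7 79 1 85 30 8 77 77 8 9 5 5 72 72 5 5 6 6 6 6 37 70 6 72) (@D3.rec (fun _ => Nat) 6 7 81 79 80 10 23 3 4 9 4 80 4 4 5 5 5 5 9 31 38 5 5 22 22 5 5 5 76 74 6 6) (@D3.rec (fun _ => Nat) 6 6 6 6 6 81 82 9 4 4 5 5 5 10 39 9 5 5 9 9 5 5 6 6 6 6 20 20 6 9 6 9) (@D3.rec (fun _ => Nat) 6 7 7 73 73 6 74 6 81 6 7 7 37 40 5 5 10 10 5 5 5 6 6 6 6 6 20 20 6 10 6 6) (@D3.rec (fun _ => Nat) 10 10 6 80 6 6 7 7 7 7 7 81 20 7 10 7 7 79 10 7 83 7 8 8 8 30 31 30 82 82 24 24) (@D3.rec (fun _ => Nat) 32 6 32 6 42 42 8 8 4 4 43 43 5 5 5 8 33 33 33 0 9 9 8 8 5 5 5 6 6 6 41 41) (@D3.rec (fun _ => Nat) 5 5 5 6 0 6 6 0 1 24 80 39 39 6 6 9 9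 9 6 6 80 6 6 7 7 7 7 7 33 33 81 7) (@D3.rec (fun _ => Nat) 82 1 1 10 5 5 22 22 5 5 5 74 74 85 6 6 6 6 6 6 33 84 76 76 9 9 6 6 9 9 36 6) (@D3.rec (fun _ => Nat) 6 7 7 7 76 38 7 7 84 10 10 7 81 7 7 81 80 0 10 10 7 36 7 36 7 8 8 8 0 1 8 8) (@D3.rec (fun _ => Nat) 8 86 33 0 1 36 8 8 38 38 8 8 4 4 42 42 5 5 5 8 31 31 31 71 73 73 4 4 5 5 73 9) (@D3.rec (fun _ => Nat) 9 4 5 0 9 9 5 5 8 8 5 5 5 6 6 6 6 6 73 77 71 73 72 37 43 78 78 4 5 39 43 5)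
def lv_h_17 : D2 → D3 → Nat := @D2.rec (fun _ => D3 → Nat) (@D3.rec (fun _ => Nat) 5 6 6 0 1 39 6 38 6 9 9 6 6 6 6 7 83 7 7 7 7 1 10 10 10 73 9 4 5 9 5 5) (@D3.rec (fun _ => Nat) 5 5 5 72 6 6 78 6 6 6 0 11 11 5 5 5 6 6 6 10 5 9 9 5 5 6 6 6 20 20 6 9) (@D3.rec (fun _ => Nat) 9 6 6 6 9 9 9 6 6 37 6 6 7 7 7 7 7 7 7 5 5 6 6 74 5 5 5 6 6 6 6 6) (@D3.rec (fun _ => Nat) 6 6 6 6 6 6 7 7 85 7 7 7 7 5 74 74 5 5 6 6 6 20 20 6 6 38 38 6 6 88 10 10) (@D3.rec (fun _ => Nat) 6 82 6 6 7 7 0 7 7 7 7 20 7 10 10 10 7 7 7 10 10 0 10 10 7 37 7 37 7 8 8 8) (@D3.rec (fun _ => Nat) 8 8 79 31 0 1 37 86 1 8 38 42 38 42 38 6 10 10 10 80 10 39 39 9 9 81 42 83 75 75 83 9) (@D3.rec (fun _ => Nat) 9 41 5 81 77 75 78 81 81 6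 24 24 83 11 11 11 10 10 5 6 10 39 9 6 9 6 7 5 5 6 6 5) (@D3.rec (fun _ => Nat) 5 6 6 0 1 75 6 82 6 7 80 32 5 5 6 6 74 82 39 79 38 6 6 81 77 83 6 6 7 7 7 0) (@D3.rec (fun _ => Nat) 1 89 84 7 10 7 7 81 79 10 81 7 8 8 79 9 77 77 6 6 74 74 81 6 6 7 7 7 37 72 7 74) (@D3.rec (fun _ => Nat) 90 81 85 82 4 5 10 5 80 80 5 5 5 6 6 6 6 6 33 38 38 6 6 6 23 23 23 6 6 6 6 76) (@D3.rec (fun _ => Nat) 74 85 7 83 7 7 7 7 7 10 10 5 5 5 6 6 6 79 39 10 6 6 10 10 77 6 6 7 7 7 21 21) (@D3.rec (fun _ => Nat) 7 10 7 10 8 75 76 7 74 7 80 8 39 39 39 6 6 11 11 11 6 6 6 7 7 7 7 21 21 7 11 7) (@D3.rec (fun _ => Nat) 7 80 11 11 80 7 80 7 8 8 8 83 21 8 11 8 83 8 81 33 33 44 44 44 0 9 9 5 5 5 43 43) (@D3.rec (fun _ => Nat) 43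 6 6 6 6 34 34 77 0 1 10 9 9 9 6 38 6 6 7 7 43 43 43 6 0 6 6 7 0 1 7 0) (@D3.rec (fun _ => Nat) 0 1 10 82 39 39 7 7 86 10 81 10 10 7 80 7 84 7 8 8 34 81 84 10 87 6 6 23 23 23 6 6) (@D3.rec (fun _ => Nat) 38 6 6 76 76 88 87 77 7 7 7 7 7 76 72 10 10 83 7 7 0 10 10 38 7 8 83 38 8 8 80 81) (@D3.rec (fun _ => Nat) 11 11 8 85 8 81 0 82 0 1 11 38 8 38 8 38 9 9 0 1 9 0 1 9 9 81 40 40 0 9 9 5) (@D3.rec (fun _ => Nat) 5 5 42 42 42 87 6 6 6 0 73 75 75 5 5 6 6 10 10 5 6 0 1 10 6 6 9 9 6 37 6 6) (@D3.rec (fun _ => Nat) 7 7 7 7 73 73 73 74 43 78 5 6 39 6 6 7 0 1 7 40 7 10 10 7 7 7 8 87 8 8 11 11) (@D3.rec (fun _ => Nat) 75 10 5 6 6 6 6 37 6 6 76 0 7 7 80 7 7 1 6 76 6 6 7 7 6 10 10 6 6 7 7 21) (@D3.rec (fun _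 => Nat) 21 7 10 10 10 7 81 7 7 10 10 0 10 10 7 84 7 37 7 8 8 8 8 8 83 6 6 7 6 82 6 6) (@D3.rec (fun _ => Nat) 7 7 7 7 77 7 7 84 7 7 8 8 85 8 8 6 74 75 82 6 6 7 7 21 21 7 7 40 40 0 7 7)
def lv_h_18 : D2 → D3 → Nat := @D2.rec (fun _ => D3 → Nat) (@D3.rec (fun _ => Nat) 86 82 11 11 84 7 85 7 8 8 0 1 8 8 21 8 11 11 11 8 8 11 0 11 0 1 11 37 8 84 37 8) (@D3.rec (fun _ => Nat) 37 9 9 0 86 1 86 87 44 40 11 83 11 11 84 39 42 82 10 10 81 42 78 85 85 77 75 84 10 43 6 86) (@D3.rec (fun _ => Nat) 83 85 77 76 78 81 81 85 12 11 6 39 10 7 10 80 6 6 7 86 6 6 7 0 1 82 7 80 82 41 90 6) (@D3.rec (fun _ => Nat) 6 7 85 39 85 40 79 7 7 0 83 77 81 7 8 1 87 84 8 11 8 81 82 81 79 80 7 7 80 74 74 83) (@D3.rec (fun _ => Nat)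 7 8 39 72 83 85 83 5 6 6 82 82 82 6 6 78 6 6 7 7 7 7 40 85 40 41 7 84 7 7 24 24) (@D3.rec (fun _ => Nat) 24 24 7 7 7 78 77 8 81 8 8 8 11 11 11 6 77 6 6 7 7 79 43 11 82 7 7 77 11 11 77 7) (@D3.rec (fun _ => Nat) 8 22 22 8 11 76 76 8 76 39 39 44 7 7 12 12 12 7 7 8 8 22 22 8 12 8 82 12 82 8 82 83) (@D3.rec (fun _ => Nat) 44 44 0 44 44 0 1 10 6 6 38 6 6 45 45 77 45 45 7 7 7 90 0 1 10 10 79 10 10 38 7 38) (@D3.rec (fun _ => Nat) 7 8 43 0 43 43 76 7 0 1 7 8 0 1 87 0 1 1 11 84 41 41 8 84 81 11 83 11 89 86 8 84) (@D3.rec (fun _ => Nat) 87 86 7 7 24 24 78 24 24 7 38 7 38 7 76 76 85 87 83 8 8 8 81 72 72 80 11 11 87 8 0 1) (@D3.rec (fun _ => Nat) 11 38 38 85 9 83 87 12 9 85 0 87 0 1 86 0 1 38 9 38 1 1 74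 10 10 82 82 40 40 0 1 10) (@D3.rec (fun _ => Nat) 6 39 6 6 44 0 44 44 86 7 7 1 75 76 6 6 7 11 6 0 1 79 7 7 77 10 10 39 7 39 7 8) (@D3.rec (fun _ => Nat) 8 73 6 7 1 8 40 11 8 8 9 75 6 0 7 7 39 7 39 7 78 0 1 8 82 8 83 7 78 7 8 7) (@D3.rec (fun _ => Nat) 11 11 7 81 22 22 8 11 83 11 11 81 8 84 8 11 0 11 0 1 11 81 8 82 8 39 39 9 9 85 7 82) (@D3.rec (fun _ => Nat) 7 82 7 8 8 8 84 8 84 8 9 84 7 80 77 77 88 7 84 22 22 83 8 8 83 40 40 0 1 8 84 90) (@D3.rec (fun _ => Nat) 84 12 86 84 8 86 80 9 0 1 79 12 12 9 0 12 84 0 1 12 0 1 87 39 9 88 39 88 1 83 12 82) (@D3.rec (fun _ => Nat) 42 42 83 11 78 81 44 76 78 83 89 77 85 85 43 82 84 80 83 79 83 83 41 11 86 7 82 7 1 83 0 86) (@D3.rec (fun _ => Nat) 41 85 7 75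 83 41 81 81 40 75 8 0 1 83 83 83 91 83 80 8 83 76 83 83 84 85 6 7 90 80 78 82) (@D3.rec (fun _ => Nat) 82 7 85 7 79 7 8 8 42 87 43 43 8 81 8 25 25 25 8 8 78 9 85 9 12 77 12 12 84 7 77 7) (@D3.rec (fun _ => Nat) 8 81 81 45 12 85 8 79 12 79 79 23 78 41 41 44 8 13 13 8 23 82 82 46 0 46 0 1 46 0 0 1) (@D3.rec (fun _ => Nat) 85 7 40 7 40 7 45 90 45 77 45 8 8 1 11 79 11 80 11 82 40 8 40 40 0 45 0 1 45 84 8 0) (@D3.rec (fun _ => Nat) 0 1 84 1 90 1 89 81 12 41 90 83 12 83 84 84 8 25 78 25 78 25 80 8 40 8 40 40 76 89 86 84)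
def lv_h_19 : D2 → D3 → Nat := @D2.rec (fun _ => D3 → Nat) (@D3.rec (fun _ => Nat) 9 87 74 76 12 87 82 0 0 1 40 82 78 0 1 87 0 1 1 40 80 11 84 83 82 42 0 0 1 39 7 39) (@D3.rec (fun _ => Nat) 7 44 0 1 44 91 8 78 7 1 82 8 78 11 39 8 39 39 9 0 1 8 39 8 39 39 0 1 82 83 8 78) (@D3.rec (fun _ => Nat) 78 12 84 23 83 12 86 12 83 85 9 84 82 91 12 0 1 12 0 0 1 85 9 82 82 39 86 83 84 8 84 84) (@D3.rec (fun _ => Nat) 9 84 84 84 77 88 83 84 23 79 9 85 42 0 0 1 83 86 85 88 85 83 88 85 82 84 1 85 13 81 0 1) (@D3.rec (fun _ => Nat) 13 88 0 1 1 86 39 87 85 85 84 44 86 81 78 83 78 84 84 89 86 83 86 82 84 87 85 88 82 84 84 84) (@D3.rec (fun _ => Nat) 0 1 83 86 83 81 83 85 87 81 81 0 0 1 83 83 81 85 84 85 85 90 80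 82 79 84 8 83 8 79 79 9) (@D3.rec (fun _ => Nat) 89 43 9 85 26 26 9 79 13 79 13 85 8 79 79 85 83 86 84 79 79 79 41 14 87 46 0 1 46 0 0 1) (@D3.rec (fun _ => Nat) 0 1 1 85 83 8 83 40 8 40 40 47 89 47 79 9 12 84 83 12 80 80 84 40 40 40 0 1 45 0 0 1) (@D3.rec (fun _ => Nat) 80 78 0 1 1 84 89 88 86 83 86 85 85 26 80 26 80 80 85 9 40 40 40 91 89 83 82 82 83 0 1 1) (@D3.rec (fun _ => Nat) 40 0 1 1 76 76 86 84 87 86 0 1 1 41 8 41 41 46 0 1 90 78 80 81 81 80 80 41 41 41 0 0) (@D3.rec (fun _ => Nat) 1 41 41 41 1 83 85 80 85 85 85 13 83 87 83 84 82 85 88 13 0 0 1 0 1 1 86 86 84 41 81 84) (@D3.rec (fun _ => Nat) 84 84 86 88 84 84 84 85 85 85 85 0 1 1 85 88 86 86 86 90 86 86 82 82 82 0 1 81 1 87 85 91) (@D3.rec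 (fun _ => Nat) 86 83 80 80 78 85 85 91 87 84 86 83 86 0 0 1 87 77 77 85 88 77 0 1 1 85 82 83 85 85 84 85) (@D3.rec (fun _ => Nat) 81 81 9 85 85 81 80 27 79 14 79 79 86 86 81 86 86 87 81 83 89 48 0 0 1 0 1 1 0 1 86 83) (@D3.rec (fun _ => Nat) 85 9 86 42 42 42 47 88 86 85 86 82 86 86 42 42 0 0 1 0 1 1 86 0 1 86 86 90 86 27 80 80) (@D3.rec (fun _ => Nat) 80 86 86 42 42 84 78 84 0 1 1 82 86 86 88 0 1 41 41 41 1 80 82 80 41 41 0 1 1 41 41 85) (@D3.rec (fun _ => Nat) 82 84 87 85 87 90 81 82 84 87 86 0 1 1 0 1 84 84 85 86 86 89 85 86 79 87 0 1 87 87 90 90) (@D3.rec (fun _ => Nat) 84 85 90 84 87 1 87 91 83 80 86 87 84 86 0 1 1 85 83 89 83 0 1 83 86 87 84 87 81 85 83 81) (@D3.rec (fun _ => Nat) 81 81 85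 81 87 86 83 91 89 0 1 1 0 1 1 87 85 85 89 89 42 42 86 86 88 84 86 42 0 1 1 0) (@D3.rec (fun _ => Nat) 1 80 1 86 87 82 82 87 42 85 84 1 78 86 88 1 43 43 82 83 84 43 0 1 43 87 87 87 89 94 84 90) (@D3.rec (fun _ => Nat) 0 1 1 88 86 90 86 87 87 1 87 92 88 88 85 84 87 0 1 79 90 1 87 85 87 81 83 88 88 91 0 1) (@D3.rec (fun _ => Nat) 1 85 87 87 44 88 88 88 0 1 1 88 82 88 88 43 1 87 88 88 1 89 86 1 89 83 92 1 87 91 88 1)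
def lv_h : Pt → Nat := @Pt.rec (fun _ => Nat) (@D1.rec (fun _ => D2 → D3 → Nat) lv_h_0 lv_h_1 lv_h_2 lv_h_3 lv_h_4 lv_h_5 lv_h_6 lv_h_7 lv_h_8 lv_h_9 lv_h_10 lv_h_11 lv_h_12 lv_h_13 lv_h_14 lv_h_15 lv_h_16 lv_h_17 lv_h_18 lv_h_19)
abbrev lc_h_Cert_tree : Cert rels S Gen.h := Cert.tree
abbrev lc_h_rc_13_1 : Cert rels S Gen.h := rc_13_1
abbrev lc_h_rc_13_3 : Cert rels S Gen.h := rc_13_3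
abbrev lc_h_rc_20_1 : Cert rels S Gen.h := rc_20_1
abbrev lc_h_rc_20_3 : Cert rels S Gen.h := rc_20_3
abbrev lc_h_rc_26_1 : Cert rels S Gen.h := rc_26_1
abbrev lc_h_rc_26_3 : Cert rels S Gen.h := rc_26_3
abbrev lc_h_rc_26_5 : Cert rels S Gen.h := rc_26_5
abbrev lc_h_rc_31_1 : Cert rels S Gen.h := rc_31_1
abbrev lc_h_rc_31_3 : Cert rels S Gen.h := rc_31_3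
abbrev lc_h_rc_35_0 : Cert rels S Gen.h := rc_35_0
abbrev lc_h_rc_35_1 : Cert rels S Gen.h := rc_35_1
abbrev lc_h_rc_36_0 : Cert rels S Gen.h := rc_36_0
abbrev lc_h_rc_36_2 : Cert rels S Gen.h := rc_36_2
abbrev lc_h_rc_36_4 : Cert rels S Gen.h := rc_36_4
abbrev lc_h_rc_37_1 : Cert rels S Gen.h := rc_37_1
abbrev lc_h_rc_37_3 : Cert rels S Gen.h := rc_37_3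
abbrev lc_h_rc_41_1 : Cert rels S Gen.h := rc_41_1
abbrev lc_h_rc_41_3 : Cert rels S Gen.h := rc_41_3
abbrev lc_h_rc_45_16 : Cert rels S Gen.h := rc_45_16
abbrev lc_h_rc_45_25 : Cert rels S Gen.h := rc_45_25
abbrev lc_h_rc_45_34 : Cert rels S Gen.h := rc_45_34
abbrev lc_h_rc_45_43 : Cert rels S Gen.h := rc_45_43
abbrev lc_h_rc_45_52 : Cert rels S Gen.h := rc_45_52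
abbrev lc_h_rc_45_61 : Cert rels S Gen.h := rc_45_61
abbrev lc_h_rc_46_20 : Cert rels S Gen.h := rc_46_20
abbrev lc_h_rc_46_27 : Cert rels S Gen.h := rc_46_27
abbrev lc_h_rc_46_34 : Cert rels S Gen.h := rc_46_34
abbrev lc_h_rc_46_41 : Cert rels S Gen.h := rc_46_41
abbrev lc_h_rc_46_48 : Cert rels S Gen.h := rc_46_48
abbrev lc_h_rc_46_55 : Cert rels S Gen.h := rc_46_55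
abbrev lc_h_rc_47_13 : Cert rels S Gen.h := rc_47_13
abbrev lc_h_rc_47_27 : Cert rels S Gen.h := rc_47_27
abbrev lc_h_rc_47_34 : Cert rels S Gen.h := rc_47_34
abbrev lc_h_rc_47_48 : Cert rels S Gen.h := rc_47_48
abbrev lc_h_rc_47_55 : Cert rels S Gen.h := rc_47_55
abbrev lc_h_rc_5_1 : Cert rels S Gen.h := rc_5_1
abbrev lc_h_rc_5_3 : Cert rels S Gen.h := rc_5_3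
abbrev lc_h_sc_6_0 : Cert rels S Gen.h := sc_6_0
def ce_h_0 : D2 → D3 → (Cert rels S Gen.h) := @D2.rec (fun _ => D3 → (Cert rels S Gen.h)) (@D3.rec (fun _ => (Cert rels S Gen.h)) lc_h_sc_6_0 lc_h_rc_5_1 lc_h_rc_13_1 lc_h_rc_20_1 lc_h_Cert_tree lc_h_Cert_tree lc_h_rc_35_0 lc_h_Cert_tree lc_h_rc_35_0 lc_h_rc_36_2 lc_h_Cert_tree lc_h_rc_35_0 lc_h_rc_26_3 lc_h_rc_36_2 lc_h_rc_35_0 lc_h_rc_37_1 lc_h_rc_36_2 lc_h_rc_20_1 lc_h_Cert_tree lc_h_rc_41_1 lc_h_rc_36_2 lc_h_rc_20_1 lc_h_rc_31_1 lc_h_Cert_tree lc_h_rc_13_1 lc_h_Cert_tree lc_h_rc_35_0 lc_h_rc_20_1 lc_h_rc_31_1 lc_h_Cert_tree lc_h_rc_13_1 lc_h_rc_31_1) (@D3.rec (fun _ => (Cert rels S Gen.h)) lc_h_Cert_tree lc_h_Cert_tree lc_h_rc_35_0 lc_h_rc_5_1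 lc_h_Cert_tree lc_h_rc_35_0 lc_h_rc_13_1 lc_h_rc_31_1 lc_h_Cert_tree lc_h_rc_37_1 lc_h_Cert_tree lc_h_rc_35_0 lc_h_rc_5_1 lc_h_rc_13_1 lc_h_Cert_tree lc_h_Cert_tree lc_h_Cert_tree lc_h_rc_35_0 lc_h_rc_35_0 lc_h_Cert_tree lc_h_rc_35_0 lc_h_rc_26_3 lc_h_rc_5_1 lc_h_rc_13_1 lc_h_Cert_tree lc_h_Cert_tree lc_h_rc_37_1 lc_h_Cert_tree lc_h_rc_35_0 lc_h_Cert_tree lc_h_rc_35_0 lc_h_rc_5_1) (@D3.rec (fun _ => (Cert rels S Gen.h)) lc_h_Cert_tree lc_h_Cert_tree lc_h_Cert_tree lc_h_rc_35_0 lc_h_rc_35_0 lc_h_Cert_tree lc_h_rc_35_0 lc_h_rc_26_3 lc_h_rc_26_3 lc_h_rc_35_0 lc_h_rc_13_1 lc_h_rc_31_1 lc_h_rc_5_1 lc_h_Cert_tree lc_h_Cert_tree lc_h_rc_13_1 lc_h_Cert_tree lc_h_rc_35_0 lc_h_Cert_tree lc_h_rc_35_0 lc_h_Cert_tree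 lc_h_Cert_tree lc_h_rc_35_0 lc_h_rc_26_3 lc_h_rc_35_0 lc_h_rc_26_3 lc_h_rc_5_3 lc_h_Cert_tree lc_h_rc_35_0 lc_h_rc_5_1 lc_h_rc_35_0 lc_h_Cert_tree) (@D3.rec (fun _ => (Cert rels S Gen.h)) lc_h_rc_35_0 lc_h_rc_13_1 lc_h_Cert_tree lc_h_rc_35_0 lc_h_rc_26_3 lc_h_rc_31_1 lc_h_rc_20_1 lc_h_rc_5_1 lc_h_rc_20_1 lc_h_rc_13_1 lc_h_rc_37_1 lc_h_rc_41_1 lc_h_rc_5_1 lc_h_Cert_tree lc_h_rc_35_0 lc_h_rc_41_1 lc_h_Cert_tree lc_h_rc_35_0 lc_h_Cert_tree lc_h_Cert_tree lc_h_rc_35_0 lc_h_rc_13_1 lc_h_Cert_tree lc_h_rc_35_0 lc_h_Cert_tree lc_h_Cert_tree lc_h_rc_35_0 lc_h_rc_35_0 lc_h_rc_26_3 lc_h_rc_31_1 lc_h_rc_26_3 lc_h_rc_20_1) (@D3.rec (fun _ => (Cert rels S Gen.h)) lc_h_Cert_tree lc_h_rc_35_0 lc_h_rc_5_1 lc_h_Cert_tree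 lc_h_Cert_tree lc_h_rc_35_0 lc_h_rc_26_3 lc_h_rc_20_1 lc_h_rc_13_1 lc_h_rc_35_0 lc_h_rc_26_3 lc_h_rc_20_1 lc_h_rc_31_1 lc_h_rc_37_1 lc_h_rc_13_1 lc_h_rc_37_1 lc_h_rc_41_1 lc_h_rc_5_3 lc_h_Cert_tree lc_h_Cert_tree lc_h_rc_35_0 lc_h_rc_5_1 lc_h_rc_47_48 lc_h_Cert_tree lc_h_Cert_tree lc_h_rc_35_0 lc_h_Cert_tree lc_h_Cert_tree lc_h_rc_35_0 lc_h_rc_35_0 lc_h_rc_26_3 lc_h_rc_20_1) (@D3.rec (fun _ => (Cert rels S Gen.h)) lc_h_rc_13_1 lc_h_rc_35_0 lc_h_Cert_tree lc_h_Cert_tree lc_h_rc_35_0 lc_h_rc_35_0 lc_h_rc_26_3 lc_h_rc_26_3 lc_h_rc_20_1 lc_h_rc_31_1 lc_h_rc_37_1 lc_h_rc_20_1 lc_h_rc_31_1 lc_h_rc_13_1 lc_h_rc_35_0 lc_h_rc_26_3 lc_h_rc_5_1 lc_h_rc_35_0 lc_h_rc_35_0 lc_h_rc_26_3 lc_h_rc_20_1 lc_h_rc_31_1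 lc_h_rc_20_1 lc_h_rc_37_1 lc_h_rc_36_2 lc_h_rc_20_1 lc_h_rc_31_1 lc_h_rc_13_1 lc_h_rc_20_1 lc_h_rc_37_1 lc_h_rc_41_1 lc_h_rc_5_1) (@D3.rec (fun _ => (Cert rels S Gen.h)) lc_h_rc_41_1 lc_h_rc_5_3 lc_h_Cert_tree lc_h_rc_35_0 lc_h_rc_35_0 lc_h_rc_26_3 lc_h_rc_5_1 lc_h_rc_5_1 lc_h_Cert_tree lc_h_rc_35_0 lc_h_rc_35_0 lc_h_Cert_tree lc_h_Cert_tree lc_h_rc_35_0 lc_h_rc_35_0 lc_h_rc_26_3 lc_h_rc_26_3 lc_h_rc_20_1 lc_h_rc_31_1 lc_h_rc_20_1 lc_h_rc_37_1 lc_h_rc_26_3 lc_h_Cert_tree lc_h_rc_35_0 lc_h_rc_35_0 lc_h_rc_26_3 lc_h_rc_36_2 lc_h_rc_20_1 lc_h_rc_31_1 lc_h_rc_20_1 lc_h_rc_31_1 lc_h_rc_13_1) (@D3.rec (fun _ => (Cert rels S Gen.h)) lc_h_rc_20_1 lc_h_rc_37_1 lc_h_rc_41_1 lc_h_rc_13_1 lc_h_rc_20_1 lc_h_rc_5_1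 lc_h_rc_26_3 lc_h_rc_20_1 lc_h_rc_31_1 lc_h_rc_26_3 lc_h_rc_36_2 lc_h_rc_20_1 lc_h_rc_31_1 lc_h_rc_13_1 lc_h_rc_20_1 lc_h_rc_37_1 lc_h_Cert_tree lc_h_rc_41_1 lc_h_rc_20_1 lc_h_rc_36_2 lc_h_rc_13_1 lc_h_rc_20_1 lc_h_rc_37_1 lc_h_rc_5_1 lc_h_rc_13_1 lc_h_rc_20_1 lc_h_rc_41_1 lc_h_Cert_tree lc_h_rc_35_0 lc_h_rc_26_3 lc_h_rc_26_3 lc_h_rc_20_1) (@D3.rec (fun _ => (Cert rels S Gen.h)) lc_h_rc_31_1 lc_h_rc_5_1 lc_h_rc_47_27 lc_h_Cert_tree lc_h_rc_35_0 lc_h_rc_26_3 lc_h_rc_26_3 lc_h_Cert_tree lc_h_rc_35_0 lc_h_rc_35_0 lc_h_rc_26_3 lc_h_rc_36_2 lc_h_rc_20_1 lc_h_rc_31_1 lc_h_rc_20_1 lc_h_rc_31_1 lc_h_rc_13_1 lc_h_rc_20_1 lc_h_rc_37_1 lc_h_Cert_tree lc_h_rc_37_1 lc_h_rc_41_1 lc_h_rc_20_1 lc_h_Cert_tree lc_h_rc_35_0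 lc_h_rc_26_3 lc_h_rc_36_2 lc_h_rc_20_1 lc_h_rc_31_1 lc_h_rc_20_1 lc_h_rc_36_2 lc_h_rc_13_1) (@D3.rec (fun _ => (Cert rels S Gen.h)) lc_h_rc_20_1 lc_h_rc_37_1 lc_h_rc_13_1 lc_h_rc_20_1 lc_h_rc_37_1 lc_h_rc_5_1 lc_h_rc_13_1 lc_h_rc_20_1 lc_h_rc_41_1 lc_h_rc_5_1 lc_h_rc_13_1 lc_h_Cert_tree lc_h_rc_20_1 lc_h_rc_31_1 lc_h_rc_13_1 lc_h_rc_20_1 lc_h_rc_26_3 lc_h_rc_31_1 lc_h_rc_20_1 lc_h_rc_36_2 lc_h_rc_13_1 lc_h_rc_20_1 lc_h_rc_37_1 lc_h_rc_5_1 lc_h_rc_13_1 lc_h_Cert_tree lc_h_rc_20_1 lc_h_rc_41_1 lc_h_rc_35_0 lc_h_rc_13_1 lc_h_rc_20_1 lc_h_rc_37_1) (@D3.rec (fun _ => (Cert rels S Gen.h)) lc_h_rc_5_1 lc_h_rc_13_1 lc_h_rc_26_3 lc_h_rc_20_1 lc_h_rc_41_1 lc_h_rc_5_1 lc_h_rc_13_1 lc_h_rc_20_1 lc_h_rc_35_0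 lc_h_rc_26_3 lc_h_rc_20_1 lc_h_rc_31_1 lc_h_rc_20_1 lc_h_rc_31_1 lc_h_rc_13_1 lc_h_rc_20_1 lc_h_rc_37_1 lc_h_Cert_tree lc_h_rc_35_0 lc_h_rc_26_3 lc_h_rc_26_3 lc_h_rc_31_1 lc_h_Cert_tree lc_h_rc_35_0 lc_h_rc_26_3 lc_h_rc_36_2 lc_h_rc_20_1 lc_h_rc_31_1 lc_h_rc_20_1 lc_h_rc_36_2 lc_h_rc_13_1 lc_h_rc_20_1) (@D3.rec (fun _ => (Cert rels S Gen.h)) lc_h_rc_37_1 lc_h_rc_13_1 lc_h_rc_20_1 lc_h_rc_37_1 lc_h_rc_5_1 lc_h_rc_13_1 lc_h_Cert_tree lc_h_rc_20_1 lc_h_rc_41_1 lc_h_Cert_tree lc_h_rc_35_0 lc_h_Cert_tree lc_h_rc_35_0 lc_h_rc_26_3 lc_h_rc_20_1 lc_h_rc_31_1 lc_h_rc_20_1 lc_h_rc_36_2 lc_h_rc_13_1 lc_h_rc_20_1 lc_h_rc_37_1 lc_h_rc_13_1 lc_h_rc_20_1 lc_h_rc_37_1 lc_h_rc_5_1 lc_h_rc_13_1 lc_h_rc_26_3 lc_h_rc_20_1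 lc_h_rc_41_1 lc_h_rc_5_1 lc_h_rc_13_1 lc_h_Cert_tree) (@D3.rec (fun _ => (Cert rels S Gen.h)) lc_h_rc_20_1 lc_h_rc_41_1 lc_h_rc_5_1 lc_h_rc_13_1 lc_h_rc_20_1 lc_h_rc_5_1 lc_h_Cert_tree lc_h_rc_35_0 lc_h_rc_13_1 lc_h_rc_20_1 lc_h_rc_5_1 lc_h_rc_13_1 lc_h_rc_13_1 lc_h_rc_31_1 lc_h_rc_37_1 lc_h_rc_13_1 lc_h_rc_20_1 lc_h_rc_37_1 lc_h_rc_5_1 lc_h_rc_13_1 lc_h_Cert_tree lc_h_rc_20_1 lc_h_rc_41_1 lc_h_rc_5_1 lc_h_Cert_tree lc_h_rc_13_1 lc_h_rc_35_0 lc_h_rc_20_1 lc_h_rc_5_1 lc_h_rc_13_1 lc_h_Cert_tree lc_h_rc_20_1) (@D3.rec (fun _ => (Cert rels S Gen.h)) lc_h_rc_41_1 lc_h_rc_5_1 lc_h_rc_13_1 lc_h_rc_13_1 lc_h_rc_26_3 lc_h_rc_20_1 lc_h_rc_5_1 lc_h_rc_13_1 lc_h_rc_5_1 lc_h_rc_20_1 lc_h_rc_31_1 lc_h_rc_13_1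 lc_h_rc_20_1 lc_h_rc_37_1 lc_h_rc_13_1 lc_h_rc_20_1 lc_h_rc_37_1 lc_h_rc_5_1 lc_h_rc_13_1 lc_h_rc_20_1 lc_h_rc_35_0 lc_h_rc_26_3 lc_h_rc_20_1 lc_h_rc_31_1 lc_h_rc_13_1 lc_h_rc_31_1 lc_h_rc_37_1 lc_h_rc_35_0 lc_h_rc_26_3 lc_h_rc_20_1 lc_h_rc_31_1 lc_h_rc_20_1) (@D3.rec (fun _ => (Cert rels S Gen.h)) lc_h_rc_36_2 lc_h_rc_13_1 lc_h_rc_20_1 lc_h_rc_37_1 lc_h_rc_13_1 lc_h_rc_20_1 lc_h_rc_37_1 lc_h_rc_5_1 lc_h_rc_13_1 lc_h_Cert_tree lc_h_rc_20_1 lc_h_rc_41_1 lc_h_rc_5_1 lc_h_rc_13_1 lc_h_Cert_tree lc_h_rc_20_1 lc_h_rc_41_1 lc_h_rc_5_1 lc_h_Cert_tree lc_h_rc_13_1 lc_h_Cert_tree lc_h_rc_35_0 lc_h_rc_20_1 lc_h_Cert_tree lc_h_rc_35_0 lc_h_rc_36_2 lc_h_rc_35_0 lc_h_rc_26_3 lc_h_rc_20_1 lc_h_rc_31_1 lc_h_rc_13_1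 lc_h_rc_20_1) (@D3.rec (fun _ => (Cert rels S Gen.h)) lc_h_rc_37_1 lc_h_rc_13_1 lc_h_rc_20_1 lc_h_rc_37_1 lc_h_rc_5_1 lc_h_rc_13_1 lc_h_Cert_tree lc_h_rc_20_1 lc_h_rc_41_1 lc_h_rc_5_1 lc_h_rc_13_1 lc_h_Cert_tree lc_h_rc_20_1 lc_h_rc_41_1 lc_h_rc_5_1 lc_h_rc_13_1 lc_h_rc_13_1 lc_h_rc_26_3 lc_h_rc_20_1 lc_h_rc_5_1 lc_h_Cert_tree lc_h_rc_13_1 lc_h_Cert_tree lc_h_rc_35_0 lc_h_rc_20_1 lc_h_rc_5_1 lc_h_rc_13_1 lc_h_Cert_tree lc_h_Cert_tree lc_h_rc_35_0 lc_h_rc_36_2 lc_h_rc_5_1) (@D3.rec (fun _ => (Cert rels S Gen.h)) lc_h_rc_13_1 lc_h_rc_5_3 lc_h_rc_5_1 lc_h_rc_5_1 lc_h_rc_13_1 lc_h_Cert_tree lc_h_rc_37_1 lc_h_rc_5_1 lc_h_rc_13_1 lc_h_Cert_tree lc_h_rc_20_1 lc_h_rc_41_1 lc_h_rc_5_1 lc_h_Cert_tree lc_h_rc_13_1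 lc_h_rc_5_1 lc_h_rc_35_0 lc_h_rc_20_1 lc_h_Cert_tree lc_h_rc_5_1 lc_h_rc_35_0 lc_h_rc_13_1 lc_h_rc_5_1 lc_h_Cert_tree lc_h_rc_13_1 lc_h_Cert_tree lc_h_rc_35_0 lc_h_rc_20_1 lc_h_rc_5_1 lc_h_rc_5_1 lc_h_rc_20_1 lc_h_rc_13_1) (@D3.rec (fun _ => (Cert rels S Gen.h)) lc_h_rc_13_1 lc_h_rc_31_1 lc_h_rc_26_3 lc_h_rc_5_1 lc_h_rc_20_1 lc_h_rc_5_1 lc_h_rc_13_1 lc_h_rc_20_1 lc_h_rc_37_1 lc_h_rc_5_1 lc_h_rc_13_1 lc_h_rc_41_1 lc_h_rc_20_1 lc_h_rc_5_1 lc_h_rc_13_1 lc_h_Cert_tree lc_h_rc_20_1 lc_h_rc_5_1 lc_h_rc_13_1 lc_h_rc_26_3 lc_h_rc_20_1 lc_h_rc_31_1 lc_h_rc_13_1 lc_h_rc_20_1 lc_h_rc_37_1 lc_h_rc_5_1 lc_h_rc_13_1 lc_h_Cert_tree lc_h_rc_37_1 lc_h_rc_41_1 lc_h_rc_26_3 lc_h_rc_20_1) (@D3.rec (fun _ => (Cert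 rels S Gen.h)) lc_h_rc_31_1 lc_h_rc_13_1 lc_h_rc_20_1 lc_h_rc_37_1 lc_h_rc_13_1 lc_h_rc_20_1 lc_h_rc_37_1 lc_h_rc_5_1 lc_h_rc_13_1 lc_h_Cert_tree lc_h_rc_20_1 lc_h_rc_41_1 lc_h_rc_5_1 lc_h_rc_13_1 lc_h_Cert_tree lc_h_rc_20_1 lc_h_rc_41_1 lc_h_rc_5_1 lc_h_Cert_tree lc_h_rc_13_1 lc_h_Cert_tree lc_h_rc_35_0 lc_h_rc_20_1 lc_h_rc_5_1 lc_h_Cert_tree lc_h_rc_13_1 lc_h_Cert_tree lc_h_rc_35_0 lc_h_rc_20_1 lc_h_Cert_tree lc_h_rc_5_1 lc_h_Cert_tree) (@D3.rec (fun _ => (Cert rels S Gen.h)) lc_h_rc_35_0 lc_h_rc_13_1 lc_h_Cert_tree lc_h_rc_35_0 lc_h_rc_36_2 lc_h_rc_35_0 lc_h_rc_26_3 lc_h_rc_20_1 lc_h_rc_31_1 lc_h_rc_13_1 lc_h_rc_20_1 lc_h_rc_37_1 lc_h_rc_5_1 lc_h_rc_13_1 lc_h_Cert_tree lc_h_rc_20_1 lc_h_rc_41_1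 lc_h_rc_5_1 lc_h_rc_13_1 lc_h_Cert_tree lc_h_rc_20_1 lc_h_rc_41_1 lc_h_rc_5_1 lc_h_Cert_tree lc_h_rc_13_1 lc_h_Cert_tree lc_h_rc_35_0 lc_h_rc_20_1 lc_h_rc_5_1 lc_h_Cert_tree lc_h_rc_13_1 lc_h_Cert_tree) (@D3.rec (fun _ => (Cert rels S Gen.h)) lc_h_rc_35_0 lc_h_rc_20_1 lc_h_rc_5_1 lc_h_rc_5_1 lc_h_rc_20_1 lc_h_rc_13_1 lc_h_rc_13_1 lc_h_rc_31_1 lc_h_rc_26_3 lc_h_Cert_tree lc_h_rc_5_1 lc_h_Cert_tree lc_h_Cert_tree lc_h_rc_35_0 lc_h_rc_13_1 lc_h_Cert_tree lc_h_rc_35_0 lc_h_rc_36_2 lc_h_rc_5_1 lc_h_Cert_tree lc_h_rc_35_0 lc_h_rc_35_0 lc_h_rc_13_1 lc_h_rc_5_1 lc_h_rc_13_1 lc_h_rc_5_1 lc_h_Cert_tree lc_h_rc_13_1 lc_h_Cert_tree lc_h_rc_35_0 lc_h_rc_5_1 lc_h_Cert_tree) (@D3.rec (fun _ => (Cert rels S Gen.h))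 lc_h_rc_13_1 lc_h_rc_36_2 lc_h_rc_35_0 lc_h_rc_20_1 lc_h_Cert_tree lc_h_rc_5_1 lc_h_Cert_tree lc_h_rc_13_1 lc_h_rc_35_0 lc_h_rc_13_1 lc_h_rc_41_1 lc_h_rc_35_0 lc_h_rc_5_1 lc_h_Cert_tree lc_h_rc_5_1 lc_h_Cert_tree lc_h_Cert_tree lc_h_rc_35_0 lc_h_rc_13_1 lc_h_Cert_tree lc_h_Cert_tree lc_h_rc_35_0 lc_h_rc_5_1 lc_h_rc_5_1 lc_h_rc_5_1 lc_h_rc_20_1 lc_h_rc_13_1 lc_h_rc_13_1 lc_h_rc_31_1 lc_h_rc_13_1 lc_h_rc_20_1 lc_h_rc_5_1)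
def ce_h_1 : D2 → D3 → (Cert rels S Gen.h) := @D2.rec (fun _ => D3 → (Cert rels S Gen.h)) (@D3.rec (fun _ => (Cert rels S Gen.h)) lc_h_rc_5_1 lc_h_rc_13_1 lc_h_Cert_tree lc_h_rc_20_1 lc_h_rc_5_1 lc_h_rc_41_1 lc_h_rc_13_1 lc_h_rc_41_1 lc_h_rc_5_1 lc_h_Cert_tree lc_h_rc_13_1 lc_h_Cert_tree lc_h_rc_35_0 lc_h_rc_5_1 lc_h_rc_20_1 lc_h_rc_31_1 lc_h_rc_13_1 lc_h_rc_20_1 lc_h_rc_37_1 lc_h_rc_5_1 lc_h_rc_13_1 lc_h_Cert_tree lc_h_rc_20_1 lc_h_rc_41_1 lc_h_rc_5_1 lc_h_Cert_tree lc_h_rc_13_1 lc_h_Cert_tree lc_h_rc_35_0 lc_h_rc_41_1 lc_h_rc_20_1 lc_h_rc_31_1) (@D3.rec (fun _ => (Cert rels S Gen.h)) lc_h_rc_13_1 lc_h_rc_20_1 lc_h_rc_37_1 lc_h_rc_5_1 lc_h_rc_13_1 lc_h_Cert_tree lc_h_rc_20_1 lc_h_rc_41_1 lc_h_rc_5_1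 lc_h_rc_13_1 lc_h_Cert_tree lc_h_rc_20_1 lc_h_rc_41_1 lc_h_rc_5_1 lc_h_Cert_tree lc_h_rc_13_1 lc_h_Cert_tree lc_h_rc_35_0 lc_h_rc_20_1 lc_h_rc_5_1 lc_h_Cert_tree lc_h_rc_13_1 lc_h_Cert_tree lc_h_rc_35_0 lc_h_rc_20_1 lc_h_Cert_tree lc_h_rc_5_1 lc_h_Cert_tree lc_h_Cert_tree lc_h_rc_35_0 lc_h_rc_13_1 lc_h_Cert_tree) (@D3.rec (fun _ => (Cert rels S Gen.h)) lc_h_rc_41_3 lc_h_rc_35_0 lc_h_rc_36_2 lc_h_Cert_tree lc_h_rc_5_1 lc_h_Cert_tree lc_h_Cert_tree lc_h_rc_35_0 lc_h_rc_13_1 lc_h_Cert_tree lc_h_Cert_tree lc_h_rc_35_0 lc_h_rc_36_2 lc_h_Cert_tree lc_h_rc_35_0 lc_h_rc_5_1 lc_h_Cert_tree lc_h_rc_35_0 lc_h_rc_13_1 lc_h_rc_35_0 lc_h_rc_26_3 lc_h_rc_26_3 lc_h_rc_31_1 lc_h_rc_13_1 lc_h_rc_20_1 lc_h_rc_37_1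 lc_h_rc_5_1 lc_h_rc_13_1 lc_h_Cert_tree lc_h_rc_20_1 lc_h_rc_41_1 lc_h_rc_5_1) (@D3.rec (fun _ => (Cert rels S Gen.h)) lc_h_Cert_tree lc_h_rc_13_1 lc_h_Cert_tree lc_h_rc_35_0 lc_h_rc_20_1 lc_h_rc_5_1 lc_h_Cert_tree lc_h_rc_13_1 lc_h_Cert_tree lc_h_rc_35_0 lc_h_rc_20_1 lc_h_Cert_tree lc_h_rc_5_1 lc_h_Cert_tree lc_h_Cert_tree lc_h_rc_35_0 lc_h_rc_13_1 lc_h_Cert_tree lc_h_Cert_tree lc_h_rc_35_0 lc_h_rc_36_2 lc_h_Cert_tree lc_h_rc_5_1 lc_h_Cert_tree lc_h_Cert_tree lc_h_rc_35_0 lc_h_rc_13_1 lc_h_Cert_tree lc_h_Cert_tree lc_h_rc_35_0 lc_h_rc_5_1 lc_h_rc_5_1) (@D3.rec (fun _ => (Cert rels S Gen.h)) lc_h_rc_5_1 lc_h_rc_20_1 lc_h_rc_13_1 lc_h_rc_13_1 lc_h_rc_31_1 lc_h_Cert_tree lc_h_Cert_tree lc_h_rc_35_0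 lc_h_rc_5_1 lc_h_Cert_tree lc_h_rc_35_0 lc_h_Cert_tree lc_h_rc_35_0 lc_h_rc_13_1 lc_h_rc_35_0 lc_h_rc_36_2 lc_h_Cert_tree lc_h_rc_35_0 lc_h_rc_5_1 lc_h_rc_26_3 lc_h_rc_20_1 lc_h_rc_5_1 lc_h_rc_20_1 lc_h_Cert_tree lc_h_rc_5_1 lc_h_Cert_tree lc_h_Cert_tree lc_h_rc_35_0 lc_h_rc_36_2 lc_h_rc_35_0 lc_h_Cert_tree lc_h_rc_5_1) (@D3.rec (fun _ => (Cert rels S Gen.h)) lc_h_Cert_tree lc_h_rc_36_2 lc_h_rc_35_0 lc_h_rc_13_1 lc_h_rc_5_3 lc_h_Cert_tree lc_h_rc_5_1 lc_h_rc_35_0 lc_h_rc_5_1 lc_h_rc_20_1 lc_h_rc_35_0 lc_h_rc_41_1 lc_h_Cert_tree lc_h_Cert_tree lc_h_rc_35_0 lc_h_rc_5_1 lc_h_Cert_tree lc_h_rc_35_0 lc_h_Cert_tree lc_h_Cert_tree lc_h_rc_35_0 lc_h_Cert_tree lc_h_rc_35_0 lc_h_rc_35_0 lc_h_rc_13_1 lc_h_rc_5_1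 lc_h_rc_5_1 lc_h_rc_5_1 lc_h_rc_20_1 lc_h_rc_20_1 lc_h_rc_13_1 lc_h_rc_37_1) (@D3.rec (fun _ => (Cert rels S Gen.h)) lc_h_rc_5_1 lc_h_rc_13_1 lc_h_Cert_tree lc_h_rc_20_1 lc_h_rc_5_1 lc_h_Cert_tree lc_h_rc_13_1 lc_h_Cert_tree lc_h_rc_35_0 lc_h_rc_5_1 lc_h_rc_5_1 lc_h_rc_41_1 lc_h_rc_41_1 lc_h_rc_31_1 lc_h_Cert_tree lc_h_rc_5_1 lc_h_Cert_tree lc_h_Cert_tree lc_h_rc_35_0 lc_h_rc_35_0 lc_h_rc_36_2 lc_h_rc_13_1 lc_h_rc_20_1 lc_h_rc_37_1 lc_h_rc_5_1 lc_h_rc_13_1 lc_h_Cert_tree lc_h_rc_20_1 lc_h_rc_41_1 lc_h_rc_5_1 lc_h_Cert_tree lc_h_rc_13_1) (@D3.rec (fun _ => (Cert rels S Gen.h)) lc_h_Cert_tree lc_h_rc_35_0 lc_h_rc_20_1 lc_h_Cert_tree lc_h_rc_5_1 lc_h_Cert_tree lc_h_Cert_tree lc_h_rc_35_0 lc_h_rc_13_1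 lc_h_Cert_tree lc_h_Cert_tree lc_h_rc_35_0 lc_h_rc_5_1 lc_h_rc_13_1 lc_h_rc_20_1 lc_h_rc_37_1 lc_h_rc_5_1 lc_h_rc_13_1 lc_h_Cert_tree lc_h_rc_20_1 lc_h_rc_41_1 lc_h_rc_5_1 lc_h_Cert_tree lc_h_rc_13_1 lc_h_Cert_tree lc_h_rc_35_0 lc_h_rc_20_1 lc_h_rc_5_1 lc_h_Cert_tree lc_h_rc_13_1 lc_h_Cert_tree lc_h_rc_35_0) (@D3.rec (fun _ => (Cert rels S Gen.h)) lc_h_rc_20_1 lc_h_Cert_tree lc_h_rc_5_1 lc_h_Cert_tree lc_h_Cert_tree lc_h_rc_35_0 lc_h_rc_13_1 lc_h_Cert_tree lc_h_Cert_tree lc_h_rc_35_0 lc_h_rc_36_2 lc_h_Cert_tree lc_h_rc_5_1 lc_h_Cert_tree lc_h_Cert_tree lc_h_rc_35_0 lc_h_rc_13_1 lc_h_Cert_tree lc_h_rc_36_2 lc_h_rc_35_0 lc_h_rc_36_2 lc_h_Cert_tree lc_h_Cert_tree lc_h_rc_35_0 lc_h_rc_5_1 lc_h_Cert_tree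 lc_h_rc_35_0 lc_h_Cert_tree lc_h_rc_41_3 lc_h_rc_35_0 lc_h_rc_13_1 lc_h_rc_31_1) (@D3.rec (fun _ => (Cert rels S Gen.h)) lc_h_rc_35_0 lc_h_Cert_tree lc_h_Cert_tree lc_h_rc_35_0 lc_h_rc_5_1 lc_h_Cert_tree lc_h_rc_35_0 lc_h_Cert_tree lc_h_Cert_tree lc_h_rc_35_0 lc_h_rc_13_1 lc_h_rc_35_0 lc_h_rc_35_0 lc_h_rc_36_2 lc_h_Cert_tree lc_h_rc_35_0 lc_h_rc_5_1 lc_h_rc_35_0 lc_h_rc_26_3 lc_h_rc_20_1 lc_h_rc_13_1 lc_h_rc_31_1 lc_h_rc_37_1 lc_h_rc_5_1 lc_h_rc_13_1 lc_h_Cert_tree lc_h_rc_20_1 lc_h_rc_41_1 lc_h_rc_5_1 lc_h_Cert_tree lc_h_rc_13_1 lc_h_Cert_tree) (@D3.rec (fun _ => (Cert rels S Gen.h)) lc_h_rc_35_0 lc_h_rc_20_1 lc_h_Cert_tree lc_h_rc_5_1 lc_h_Cert_tree lc_h_Cert_tree lc_h_rc_35_0 lc_h_rc_13_1 lc_h_Cert_tree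 lc_h_Cert_tree lc_h_rc_35_0 lc_h_rc_36_2 lc_h_Cert_tree lc_h_rc_5_1 lc_h_Cert_tree lc_h_Cert_tree lc_h_rc_35_0 lc_h_rc_13_1 lc_h_rc_20_3 lc_h_rc_13_3 lc_h_rc_35_0 lc_h_rc_36_2 lc_h_Cert_tree lc_h_Cert_tree lc_h_rc_35_0 lc_h_rc_5_1 lc_h_Cert_tree lc_h_rc_35_0 lc_h_Cert_tree lc_h_Cert_tree lc_h_rc_35_0 lc_h_rc_13_1) (@D3.rec (fun _ => (Cert rels S Gen.h)) lc_h_rc_36_2 lc_h_rc_35_0 lc_h_rc_35_0 lc_h_rc_36_2 lc_h_Cert_tree lc_h_Cert_tree lc_h_rc_35_0 lc_h_rc_5_1 lc_h_Cert_tree lc_h_rc_35_0 lc_h_Cert_tree lc_h_Cert_tree lc_h_rc_35_0 lc_h_rc_31_3 lc_h_rc_35_0 lc_h_rc_35_0 lc_h_rc_13_1 lc_h_rc_5_1 lc_h_rc_5_1 lc_h_rc_5_1 lc_h_rc_20_1 lc_h_rc_20_1 lc_h_rc_13_1 lc_h_rc_37_1 lc_h_Cert_tree lc_h_Cert_tree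 lc_h_rc_35_0 lc_h_Cert_tree lc_h_rc_35_0 lc_h_rc_5_1 lc_h_Cert_tree lc_h_rc_35_0) (@D3.rec (fun _ => (Cert rels S Gen.h)) lc_h_rc_26_3 lc_h_rc_20_1 lc_h_rc_35_0 lc_h_rc_13_1 lc_h_rc_36_2 lc_h_rc_35_0 lc_h_rc_5_1 lc_h_rc_5_1 lc_h_rc_26_5 lc_h_Cert_tree lc_h_rc_5_1 lc_h_Cert_tree lc_h_Cert_tree lc_h_rc_35_0 lc_h_Cert_tree lc_h_rc_35_0 lc_h_rc_36_2 lc_h_rc_35_0 lc_h_Cert_tree lc_h_rc_5_1 lc_h_rc_35_0 lc_h_rc_5_1 lc_h_rc_36_2 lc_h_rc_35_0 lc_h_rc_13_1 lc_h_Cert_tree lc_h_rc_5_1 lc_h_rc_35_0 lc_h_rc_5_1 lc_h_rc_41_1 lc_h_Cert_tree lc_h_Cert_tree) (@D3.rec (fun _ => (Cert rels S Gen.h)) lc_h_rc_35_0 lc_h_Cert_tree lc_h_Cert_tree lc_h_rc_35_0 lc_h_Cert_tree lc_h_Cert_tree lc_h_rc_35_0 lc_h_rc_26_3 lc_h_Cert_tree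 lc_h_rc_35_0 lc_h_rc_35_0 lc_h_rc_13_3 lc_h_rc_35_0 lc_h_rc_26_3 lc_h_rc_13_1 lc_h_rc_5_1 lc_h_rc_5_1 lc_h_rc_5_1 lc_h_rc_31_1 lc_h_rc_20_1 lc_h_rc_13_1 lc_h_rc_5_1 lc_h_Cert_tree lc_h_rc_13_1 lc_h_Cert_tree lc_h_rc_35_0 lc_h_Cert_tree lc_h_rc_5_1 lc_h_Cert_tree lc_h_Cert_tree lc_h_rc_35_0 lc_h_Cert_tree) (@D3.rec (fun _ => (Cert rels S Gen.h)) lc_h_rc_35_0 lc_h_rc_36_2 lc_h_rc_5_1 lc_h_rc_5_1 lc_h_rc_41_1 lc_h_rc_26_5 lc_h_Cert_tree lc_h_Cert_tree lc_h_rc_35_0 lc_h_Cert_tree lc_h_rc_35_0 lc_h_rc_35_0 lc_h_rc_13_1 lc_h_rc_36_2 lc_h_rc_5_1 lc_h_rc_13_1 lc_h_Cert_tree lc_h_rc_20_1 lc_h_rc_41_1 lc_h_rc_5_1 lc_h_Cert_tree lc_h_rc_13_1 lc_h_Cert_tree lc_h_rc_35_0 lc_h_rc_20_1 lc_h_Cert_tree lc_h_rc_5_1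 lc_h_Cert_tree lc_h_Cert_tree lc_h_rc_35_0 lc_h_rc_13_1 lc_h_Cert_tree) (@D3.rec (fun _ => (Cert rels S Gen.h)) lc_h_Cert_tree lc_h_rc_35_0 lc_h_rc_36_2 lc_h_Cert_tree lc_h_Cert_tree lc_h_rc_35_0 lc_h_rc_5_1 lc_h_Cert_tree lc_h_rc_35_0 lc_h_Cert_tree lc_h_Cert_tree lc_h_rc_35_0 lc_h_rc_13_1 lc_h_Cert_tree lc_h_rc_35_0 lc_h_rc_35_0 lc_h_rc_36_2 lc_h_rc_5_1 lc_h_rc_13_1 lc_h_Cert_tree lc_h_rc_20_1 lc_h_rc_41_1 lc_h_rc_5_1 lc_h_Cert_tree lc_h_rc_13_1 lc_h_Cert_tree lc_h_rc_35_0 lc_h_rc_20_1 lc_h_Cert_tree lc_h_rc_5_1 lc_h_Cert_tree lc_h_Cert_tree) (@D3.rec (fun _ => (Cert rels S Gen.h)) lc_h_rc_35_0 lc_h_rc_13_1 lc_h_Cert_tree lc_h_Cert_tree lc_h_rc_35_0 lc_h_rc_36_2 lc_h_Cert_tree lc_h_rc_5_1 lc_h_Cert_tree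 lc_h_Cert_tree lc_h_rc_35_0 lc_h_rc_13_1 lc_h_Cert_tree lc_h_Cert_tree lc_h_rc_35_0 lc_h_rc_36_2 lc_h_Cert_tree lc_h_Cert_tree lc_h_rc_35_0 lc_h_rc_5_1 lc_h_Cert_tree lc_h_rc_35_0 lc_h_Cert_tree lc_h_Cert_tree lc_h_rc_35_0 lc_h_rc_13_1 lc_h_Cert_tree lc_h_rc_35_0 lc_h_rc_35_0 lc_h_rc_36_2 lc_h_Cert_tree lc_h_Cert_tree) (@D3.rec (fun _ => (Cert rels S Gen.h)) lc_h_rc_35_0 lc_h_rc_5_1 lc_h_Cert_tree lc_h_rc_35_0 lc_h_Cert_tree lc_h_rc_36_2 lc_h_rc_35_0 lc_h_rc_13_1 lc_h_rc_13_3 lc_h_rc_35_0 lc_h_Cert_tree lc_h_Cert_tree lc_h_rc_35_0 lc_h_Cert_tree lc_h_rc_5_1 lc_h_rc_35_0 lc_h_rc_5_1 lc_h_Cert_tree lc_h_rc_41_3 lc_h_rc_35_0 lc_h_rc_20_1 lc_h_rc_26_5 lc_h_rc_35_0 lc_h_rc_26_3 lc_h_Cert_tree lc_h_Cert_tree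 lc_h_rc_35_0 lc_h_Cert_tree lc_h_Cert_tree lc_h_rc_35_0 lc_h_rc_5_1 lc_h_Cert_tree) (@D3.rec (fun _ => (Cert rels S Gen.h)) lc_h_Cert_tree lc_h_rc_35_0 lc_h_rc_26_3 lc_h_rc_20_1 lc_h_rc_35_0 lc_h_rc_35_0 lc_h_rc_13_1 lc_h_rc_26_3 lc_h_rc_36_2 lc_h_rc_36_2 lc_h_rc_35_0 lc_h_rc_13_1 lc_h_rc_20_1 lc_h_rc_13_1 lc_h_rc_5_1 lc_h_rc_13_1 lc_h_rc_20_1 lc_h_rc_37_1 lc_h_rc_41_1 lc_h_rc_5_1 lc_h_Cert_tree lc_h_rc_13_1 lc_h_rc_31_1 lc_h_rc_35_0 lc_h_rc_20_1 lc_h_Cert_tree lc_h_rc_5_1 lc_h_Cert_tree lc_h_Cert_tree lc_h_rc_35_0 lc_h_rc_13_1 lc_h_rc_20_3) (@D3.rec (fun _ => (Cert rels S Gen.h)) lc_h_rc_13_3 lc_h_rc_35_0 lc_h_rc_36_2 lc_h_Cert_tree lc_h_Cert_tree lc_h_rc_35_0 lc_h_rc_5_1 lc_h_Cert_tree lc_h_rc_35_0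 lc_h_Cert_tree lc_h_Cert_tree lc_h_rc_35_0 lc_h_rc_13_1 lc_h_rc_36_2 lc_h_rc_35_0 lc_h_rc_35_0 lc_h_rc_36_2 lc_h_Cert_tree lc_h_Cert_tree lc_h_rc_35_0 lc_h_rc_5_1 lc_h_Cert_tree lc_h_rc_35_0 lc_h_rc_5_3 lc_h_rc_26_3 lc_h_rc_35_0 lc_h_rc_13_1 lc_h_Cert_tree lc_h_Cert_tree lc_h_rc_35_0 lc_h_Cert_tree lc_h_Cert_tree) (@D3.rec (fun _ => (Cert rels S Gen.h)) lc_h_rc_35_0 lc_h_rc_5_1 lc_h_Cert_tree lc_h_Cert_tree lc_h_rc_35_0 lc_h_rc_26_3 lc_h_rc_20_1 lc_h_rc_36_2 lc_h_rc_35_0 lc_h_rc_35_0 lc_h_rc_36_2 lc_h_Cert_tree lc_h_Cert_tree lc_h_rc_35_0 lc_h_Cert_tree lc_h_Cert_tree lc_h_rc_35_0 lc_h_Cert_tree lc_h_Cert_tree lc_h_rc_35_0 lc_h_rc_26_3 lc_h_rc_31_3 lc_h_rc_35_0 lc_h_rc_35_0 lc_h_rc_13_1 lc_h_rc_5_1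 lc_h_rc_5_1 lc_h_rc_5_1 lc_h_Cert_tree lc_h_rc_20_1 lc_h_rc_13_1 lc_h_Cert_tree) (@D3.rec (fun _ => (Cert rels S Gen.h)) lc_h_rc_35_0 lc_h_Cert_tree lc_h_rc_35_0 lc_h_rc_5_1 lc_h_rc_5_1 lc_h_rc_35_0 lc_h_rc_5_1 lc_h_rc_35_0 lc_h_rc_26_3 lc_h_rc_20_1 lc_h_rc_31_1 lc_h_Cert_tree lc_h_rc_13_1 lc_h_rc_13_1 lc_h_rc_13_1 lc_h_rc_5_1 lc_h_Cert_tree lc_h_rc_37_1 lc_h_Cert_tree lc_h_rc_35_0 lc_h_rc_46_41 lc_h_Cert_tree lc_h_Cert_tree lc_h_rc_35_0 lc_h_rc_5_1 lc_h_rc_35_0 lc_h_rc_36_2 lc_h_rc_35_0 lc_h_rc_26_3 lc_h_Cert_tree lc_h_rc_5_1 lc_h_rc_35_0)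
def ce_h_2 : D2 → D3 → (Cert rels S Gen.h) := @D2.rec (fun _ => D3 → (Cert rels S Gen.h)) (@D3.rec (fun _ => (Cert rels S Gen.h)) lc_h_rc_13_3 lc_h_rc_20_1 lc_h_rc_26_3 lc_h_rc_5_1 lc_h_rc_35_0 lc_h_rc_5_1 lc_h_Cert_tree lc_h_rc_35_0 lc_h_Cert_tree lc_h_Cert_tree lc_h_rc_35_0 lc_h_rc_5_1 lc_h_Cert_tree lc_h_rc_35_0 lc_h_rc_35_0 lc_h_rc_36_4 lc_h_Cert_tree lc_h_rc_35_0 lc_h_rc_35_0 lc_h_rc_26_3 lc_h_rc_31_1 lc_h_rc_26_1 lc_h_rc_35_0 lc_h_rc_26_3 lc_h_rc_13_1 lc_h_rc_13_1 lc_h_rc_5_1 lc_h_rc_5_1 lc_h_rc_5_1 lc_h_rc_41_1 lc_h_rc_20_1 lc_h_Cert_tree) (@D3.rec (fun _ => (Cert rels S Gen.h)) lc_h_rc_5_1 lc_h_Cert_tree lc_h_Cert_tree lc_h_rc_35_0 lc_h_Cert_tree lc_h_rc_35_0 lc_h_rc_20_1 lc_h_Cert_tree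 lc_h_Cert_tree lc_h_rc_35_0 lc_h_Cert_tree lc_h_rc_35_0 lc_h_Cert_tree lc_h_rc_35_0 lc_h_rc_13_1 lc_h_rc_35_0 lc_h_rc_36_2 lc_h_rc_13_1 lc_h_rc_5_1 lc_h_rc_31_1 lc_h_rc_31_1 lc_h_Cert_tree lc_h_Cert_tree lc_h_rc_35_0 lc_h_rc_35_0 lc_h_rc_5_1 lc_h_rc_35_0 lc_h_rc_26_3 lc_h_rc_20_1 lc_h_rc_13_1 lc_h_rc_5_1 lc_h_Cert_tree) (@D3.rec (fun _ => (Cert rels S Gen.h)) lc_h_rc_13_1 lc_h_Cert_tree lc_h_rc_35_0 lc_h_rc_20_1 lc_h_Cert_tree lc_h_rc_5_1 lc_h_Cert_tree lc_h_Cert_tree lc_h_rc_35_0 lc_h_rc_13_1 lc_h_Cert_tree lc_h_Cert_tree lc_h_rc_35_0 lc_h_rc_20_1 lc_h_Cert_tree lc_h_Cert_tree lc_h_rc_35_0 lc_h_rc_5_1 lc_h_Cert_tree lc_h_rc_35_0 lc_h_Cert_tree lc_h_Cert_tree lc_h_rc_35_0 lc_h_rc_13_1 lc_h_Cert_tree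 lc_h_rc_35_0 lc_h_rc_35_0 lc_h_rc_36_2 lc_h_Cert_tree lc_h_Cert_tree lc_h_rc_35_0 lc_h_Cert_tree) (@D3.rec (fun _ => (Cert rels S Gen.h)) lc_h_Cert_tree lc_h_rc_35_0 lc_h_rc_13_1 lc_h_Cert_tree lc_h_Cert_tree lc_h_rc_35_0 lc_h_rc_26_3 lc_h_rc_20_1 lc_h_Cert_tree lc_h_rc_35_0 lc_h_rc_35_0 lc_h_rc_36_2 lc_h_rc_20_1 lc_h_rc_35_0 lc_h_rc_26_3 lc_h_rc_5_1 lc_h_Cert_tree lc_h_rc_13_1 lc_h_Cert_tree lc_h_rc_35_0 lc_h_rc_20_1 lc_h_Cert_tree lc_h_rc_5_1 lc_h_Cert_tree lc_h_Cert_tree lc_h_rc_35_0 lc_h_rc_13_1 lc_h_Cert_tree lc_h_Cert_tree lc_h_rc_35_0 lc_h_rc_36_2 lc_h_Cert_tree) (@D3.rec (fun _ => (Cert rels S Gen.h)) lc_h_Cert_tree lc_h_rc_35_0 lc_h_rc_5_1 lc_h_Cert_tree lc_h_rc_35_0 lc_h_Cert_tree lc_h_Cert_tree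 lc_h_rc_35_0 lc_h_rc_13_1 lc_h_Cert_tree lc_h_rc_35_0 lc_h_rc_35_0 lc_h_rc_36_2 lc_h_Cert_tree lc_h_Cert_tree lc_h_rc_35_0 lc_h_rc_5_1 lc_h_Cert_tree lc_h_rc_35_0 lc_h_Cert_tree lc_h_Cert_tree lc_h_rc_35_0 lc_h_rc_13_1 lc_h_Cert_tree lc_h_rc_35_0 lc_h_rc_35_0 lc_h_rc_36_2 lc_h_Cert_tree lc_h_Cert_tree lc_h_rc_35_0 lc_h_Cert_tree lc_h_Cert_tree) (@D3.rec (fun _ => (Cert rels S Gen.h)) lc_h_rc_35_0 lc_h_rc_5_1 lc_h_Cert_tree lc_h_Cert_tree lc_h_rc_35_0 lc_h_rc_26_3 lc_h_rc_20_1 lc_h_Cert_tree lc_h_rc_35_0 lc_h_rc_35_0 lc_h_rc_13_1 lc_h_rc_41_3 lc_h_rc_35_0 lc_h_rc_26_3 lc_h_rc_36_2 lc_h_rc_36_2 lc_h_Cert_tree lc_h_Cert_tree lc_h_rc_35_0 lc_h_Cert_tree lc_h_rc_36_2 lc_h_rc_35_0 lc_h_rc_5_1 lc_h_Cert_tree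 lc_h_rc_36_2 lc_h_rc_35_0 lc_h_rc_26_3 lc_h_rc_20_1 lc_h_rc_35_1 lc_h_rc_35_0 lc_h_Cert_tree lc_h_rc_35_0) (@D3.rec (fun _ => (Cert rels S Gen.h)) lc_h_Cert_tree lc_h_rc_5_1 lc_h_rc_35_0 lc_h_rc_5_1 lc_h_rc_31_1 lc_h_rc_35_0 lc_h_Cert_tree lc_h_rc_31_1 lc_h_rc_35_0 lc_h_rc_13_1 lc_h_rc_20_1 lc_h_Cert_tree lc_h_rc_35_0 lc_h_Cert_tree lc_h_Cert_tree lc_h_rc_35_0 lc_h_rc_5_1 lc_h_rc_5_1 lc_h_rc_35_0 lc_h_rc_35_0 lc_h_rc_5_1 lc_h_rc_35_0 lc_h_rc_35_0 lc_h_rc_26_3 lc_h_rc_20_1 lc_h_rc_31_1 lc_h_Cert_tree lc_h_rc_13_1 lc_h_rc_13_1 lc_h_rc_13_1 lc_h_rc_20_1 lc_h_rc_13_3) (@D3.rec (fun _ => (Cert rels S Gen.h)) lc_h_rc_5_1 lc_h_rc_20_1 lc_h_rc_13_1 lc_h_rc_5_1 lc_h_rc_5_1 lc_h_rc_47_13 lc_h_rc_13_1 lc_h_Cert_tree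 lc_h_rc_5_1 lc_h_Cert_tree lc_h_rc_31_1 lc_h_rc_35_0 lc_h_rc_13_1 lc_h_Cert_tree lc_h_Cert_tree lc_h_rc_35_0 lc_h_rc_5_1 lc_h_Cert_tree lc_h_rc_35_0 lc_h_rc_47_27 lc_h_rc_26_1 lc_h_rc_35_0 lc_h_rc_13_1 lc_h_Cert_tree lc_h_Cert_tree lc_h_rc_35_0 lc_h_Cert_tree lc_h_Cert_tree lc_h_rc_35_0 lc_h_rc_5_1 lc_h_Cert_tree lc_h_Cert_tree) (@D3.rec (fun _ => (Cert rels S Gen.h)) lc_h_rc_35_0 lc_h_rc_26_3 lc_h_rc_20_1 lc_h_rc_36_2 lc_h_rc_35_0 lc_h_rc_35_0 lc_h_rc_36_2 lc_h_Cert_tree lc_h_Cert_tree lc_h_rc_35_0 lc_h_rc_13_3 lc_h_rc_5_1 lc_h_rc_35_0 lc_h_rc_5_1 lc_h_rc_26_5 lc_h_rc_20_1 lc_h_rc_35_0 lc_h_rc_26_3 lc_h_rc_20_1 lc_h_Cert_tree lc_h_rc_35_0 lc_h_Cert_tree lc_h_Cert_tree lc_h_rc_35_0 lc_h_rc_5_1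 lc_h_rc_5_1 lc_h_rc_36_2 lc_h_rc_35_0 lc_h_rc_35_0 lc_h_rc_36_2 lc_h_Cert_tree lc_h_rc_36_2) (@D3.rec (fun _ => (Cert rels S Gen.h)) lc_h_rc_35_0 lc_h_rc_35_0 lc_h_rc_26_3 lc_h_rc_36_2 lc_h_rc_31_1 lc_h_Cert_tree lc_h_Cert_tree lc_h_rc_35_0 lc_h_Cert_tree lc_h_Cert_tree lc_h_rc_35_0 lc_h_rc_5_1 lc_h_rc_37_1 lc_h_rc_35_0 lc_h_rc_35_0 lc_h_Cert_tree lc_h_rc_31_3 lc_h_rc_35_0 lc_h_rc_35_0 lc_h_rc_26_3 lc_h_rc_41_1 lc_h_rc_13_1 lc_h_rc_13_1 lc_h_Cert_tree lc_h_rc_5_1 lc_h_rc_5_1 lc_h_Cert_tree lc_h_rc_35_0 lc_h_rc_20_1 lc_h_Cert_tree lc_h_rc_35_0 lc_h_rc_13_1) (@D3.rec (fun _ => (Cert rels S Gen.h)) lc_h_rc_13_1 lc_h_rc_35_0 lc_h_rc_5_1 lc_h_rc_5_1 lc_h_rc_5_1 lc_h_Cert_tree lc_h_rc_5_1 lc_h_rc_26_3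 lc_h_rc_20_1 lc_h_rc_31_1 lc_h_Cert_tree lc_h_rc_37_1 lc_h_Cert_tree lc_h_rc_35_0 lc_h_rc_20_1 lc_h_rc_13_1 lc_h_Cert_tree lc_h_rc_5_1 lc_h_Cert_tree lc_h_rc_35_0 lc_h_rc_41_1 lc_h_Cert_tree lc_h_rc_35_0 lc_h_Cert_tree lc_h_rc_35_0 lc_h_rc_5_1 lc_h_rc_35_0 lc_h_rc_26_3 lc_h_rc_26_3 lc_h_rc_26_3 lc_h_rc_13_1 lc_h_rc_35_0) (@D3.rec (fun _ => (Cert rels S Gen.h)) lc_h_rc_20_1 lc_h_rc_5_1 lc_h_rc_13_1 lc_h_Cert_tree lc_h_Cert_tree lc_h_rc_35_0 lc_h_rc_13_1 lc_h_rc_13_3 lc_h_Cert_tree lc_h_rc_35_0 lc_h_rc_35_0 lc_h_rc_26_3 lc_h_rc_5_1 lc_h_rc_5_1 lc_h_rc_35_0 lc_h_rc_5_1 lc_h_rc_41_1 lc_h_rc_20_1 lc_h_rc_35_0 lc_h_rc_26_3 lc_h_rc_13_1 lc_h_rc_13_1 lc_h_rc_5_1 lc_h_rc_5_1 lc_h_rc_37_1 lc_h_Cert_tree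 lc_h_Cert_tree lc_h_rc_35_0 lc_h_Cert_tree lc_h_rc_35_0 lc_h_Cert_tree lc_h_rc_35_0) (@D3.rec (fun _ => (Cert rels S Gen.h)) lc_h_rc_13_1 lc_h_rc_35_0 lc_h_rc_20_1 lc_h_Cert_tree lc_h_Cert_tree lc_h_rc_35_0 lc_h_Cert_tree lc_h_rc_35_0 lc_h_rc_5_1 lc_h_Cert_tree lc_h_rc_35_0 lc_h_rc_26_3 lc_h_rc_20_1 lc_h_rc_35_0 lc_h_rc_13_1 lc_h_rc_36_2 lc_h_rc_13_1 lc_h_rc_31_1 lc_h_Cert_tree lc_h_Cert_tree lc_h_rc_35_0 lc_h_rc_35_0 lc_h_rc_5_1 lc_h_rc_5_1 lc_h_rc_5_1 lc_h_rc_26_3 lc_h_rc_20_1 lc_h_rc_31_1 lc_h_Cert_tree lc_h_Cert_tree lc_h_rc_5_1 lc_h_Cert_tree) (@D3.rec (fun _ => (Cert rels S Gen.h)) lc_h_Cert_tree lc_h_rc_35_0 lc_h_rc_13_1 lc_h_Cert_tree lc_h_Cert_tree lc_h_rc_35_0 lc_h_rc_26_3 lc_h_Cert_tree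 lc_h_Cert_tree lc_h_rc_35_0 lc_h_rc_5_1 lc_h_Cert_tree lc_h_rc_35_0 lc_h_Cert_tree lc_h_Cert_tree lc_h_rc_35_0 lc_h_rc_13_1 lc_h_Cert_tree lc_h_rc_35_0 lc_h_rc_35_0 lc_h_rc_20_1 lc_h_Cert_tree lc_h_Cert_tree lc_h_rc_35_0 lc_h_Cert_tree lc_h_Cert_tree lc_h_rc_35_0 lc_h_rc_5_1 lc_h_Cert_tree lc_h_Cert_tree lc_h_rc_35_0 lc_h_rc_26_3) (@D3.rec (fun _ => (Cert rels S Gen.h)) lc_h_rc_20_1 lc_h_Cert_tree lc_h_rc_35_0 lc_h_rc_35_0 lc_h_rc_13_1 lc_h_Cert_tree lc_h_rc_35_0 lc_h_rc_26_3 lc_h_rc_36_2 lc_h_rc_13_3 lc_h_Cert_tree lc_h_rc_35_0 lc_h_Cert_tree lc_h_Cert_tree lc_h_rc_35_0 lc_h_rc_26_3 lc_h_rc_20_1 lc_h_Cert_tree lc_h_rc_35_0 lc_h_rc_35_0 lc_h_rc_36_2 lc_h_Cert_tree lc_h_Cert_tree lc_h_rc_35_0 lc_h_rc_35_0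 lc_h_rc_26_3 lc_h_rc_36_2 lc_h_rc_26_3 lc_h_rc_47_13 lc_h_rc_35_0 lc_h_rc_13_1 lc_h_rc_26_3) (@D3.rec (fun _ => (Cert rels S Gen.h)) lc_h_rc_20_1 lc_h_Cert_tree lc_h_rc_5_1 lc_h_Cert_tree lc_h_Cert_tree lc_h_rc_35_0 lc_h_rc_13_1 lc_h_Cert_tree lc_h_Cert_tree lc_h_rc_35_0 lc_h_rc_36_2 lc_h_Cert_tree lc_h_Cert_tree lc_h_rc_35_0 lc_h_rc_5_1 lc_h_Cert_tree lc_h_rc_35_0 lc_h_Cert_tree lc_h_Cert_tree lc_h_rc_35_0 lc_h_rc_13_1 lc_h_Cert_tree lc_h_rc_35_0 lc_h_rc_35_0 lc_h_rc_36_2 lc_h_Cert_tree lc_h_Cert_tree lc_h_rc_35_0 lc_h_Cert_tree lc_h_Cert_tree lc_h_rc_35_0 lc_h_rc_5_1) (@D3.rec (fun _ => (Cert rels S Gen.h)) lc_h_Cert_tree lc_h_Cert_tree lc_h_rc_35_0 lc_h_rc_26_3 lc_h_rc_20_1 lc_h_Cert_tree lc_h_rc_35_0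 lc_h_rc_35_0 lc_h_rc_13_1 lc_h_Cert_tree lc_h_rc_35_0 lc_h_rc_26_3 lc_h_rc_36_2 lc_h_rc_36_2 lc_h_Cert_tree lc_h_Cert_tree lc_h_rc_35_0 lc_h_Cert_tree lc_h_Cert_tree lc_h_rc_35_0 lc_h_rc_5_1 lc_h_Cert_tree lc_h_Cert_tree lc_h_rc_35_0 lc_h_rc_26_3 lc_h_rc_20_1 lc_h_Cert_tree lc_h_rc_35_0 lc_h_rc_35_0 lc_h_rc_13_1 lc_h_rc_35_0 lc_h_rc_41_1) (@D3.rec (fun _ => (Cert rels S Gen.h)) lc_h_rc_36_2 lc_h_rc_36_2 lc_h_Cert_tree lc_h_rc_35_0 lc_h_Cert_tree lc_h_Cert_tree lc_h_rc_35_0 lc_h_rc_5_1 lc_h_rc_5_1 lc_h_Cert_tree lc_h_rc_35_0 lc_h_rc_35_0 lc_h_rc_5_1 lc_h_Cert_tree lc_h_Cert_tree lc_h_rc_35_0 lc_h_rc_35_0 lc_h_rc_26_3 lc_h_rc_20_1 lc_h_rc_31_1 lc_h_Cert_tree lc_h_rc_37_3 lc_h_rc_35_0 lc_h_rc_13_1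 lc_h_rc_13_1 lc_h_rc_13_1 lc_h_rc_36_2 lc_h_rc_20_1 lc_h_rc_31_1 lc_h_Cert_tree lc_h_rc_35_0 lc_h_Cert_tree) (@D3.rec (fun _ => (Cert rels S Gen.h)) lc_h_rc_36_2 lc_h_rc_35_0 lc_h_rc_5_1 lc_h_rc_5_1 lc_h_rc_5_1 lc_h_rc_35_0 lc_h_Cert_tree lc_h_rc_20_1 lc_h_rc_35_0 lc_h_rc_26_3 lc_h_rc_26_3 lc_h_Cert_tree lc_h_rc_13_1 lc_h_rc_35_0 lc_h_rc_13_1 lc_h_Cert_tree lc_h_rc_31_1 lc_h_rc_35_0 lc_h_rc_5_1 lc_h_Cert_tree lc_h_rc_35_0 lc_h_rc_26_3 lc_h_rc_20_1 lc_h_rc_13_1 lc_h_Cert_tree lc_h_Cert_tree lc_h_rc_35_0 lc_h_rc_13_1 lc_h_rc_13_1 lc_h_rc_35_0 lc_h_rc_35_0 lc_h_rc_5_1) (@D3.rec (fun _ => (Cert rels S Gen.h)) lc_h_rc_5_1 lc_h_rc_5_1 lc_h_Cert_tree lc_h_rc_5_1 lc_h_rc_5_1 lc_h_rc_5_1 lc_h_rc_26_3 lc_h_rc_20_1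 lc_h_rc_26_3 lc_h_rc_20_1 lc_h_rc_31_1 lc_h_Cert_tree lc_h_rc_37_1 lc_h_Cert_tree lc_h_rc_35_0 lc_h_rc_20_1 lc_h_rc_5_3 lc_h_rc_13_1 lc_h_rc_20_1 lc_h_rc_5_1 lc_h_rc_13_1 lc_h_rc_5_1 lc_h_rc_13_1 lc_h_rc_5_1 lc_h_rc_26_3 lc_h_Cert_tree lc_h_rc_37_3 lc_h_rc_35_0 lc_h_rc_5_1 lc_h_rc_31_1 lc_h_rc_35_0 lc_h_Cert_tree) (@D3.rec (fun _ => (Cert rels S Gen.h)) lc_h_Cert_tree lc_h_rc_35_0 lc_h_rc_13_1 lc_h_rc_46_20 lc_h_rc_35_0 lc_h_rc_5_1 lc_h_rc_26_1 lc_h_rc_20_1 lc_h_rc_35_0 lc_h_rc_26_3 lc_h_rc_20_1 lc_h_Cert_tree lc_h_rc_35_0 lc_h_Cert_tree lc_h_Cert_tree lc_h_rc_35_0 lc_h_rc_5_1 lc_h_rc_5_1 lc_h_rc_36_2 lc_h_rc_35_0 lc_h_rc_35_0 lc_h_rc_36_2 lc_h_Cert_tree lc_h_rc_36_2 lc_h_rc_35_0 lc_h_rc_35_0 lc_h_rc_26_3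 lc_h_rc_36_2 lc_h_rc_31_1 lc_h_Cert_tree lc_h_Cert_tree lc_h_rc_35_0) (@D3.rec (fun _ => (Cert rels S Gen.h)) lc_h_rc_20_1 lc_h_rc_20_1 lc_h_rc_35_0 lc_h_rc_5_1 lc_h_rc_5_1 lc_h_Cert_tree lc_h_rc_26_3 lc_h_rc_31_1 lc_h_Cert_tree lc_h_Cert_tree lc_h_Cert_tree lc_h_rc_35_0 lc_h_rc_13_1 lc_h_rc_13_1 lc_h_Cert_tree lc_h_rc_36_2 lc_h_rc_35_0 lc_h_rc_35_0 lc_h_rc_5_1 lc_h_rc_36_2 lc_h_rc_5_1 lc_h_Cert_tree lc_h_Cert_tree lc_h_rc_35_0 lc_h_rc_26_3 lc_h_rc_26_3 lc_h_rc_31_1 lc_h_Cert_tree lc_h_rc_37_1 lc_h_Cert_tree lc_h_rc_35_0 lc_h_Cert_tree)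
def ce_h_3 : D2 → D3 → (Cert rels S Gen.h) := @D2.rec (fun _ => D3 → (Cert rels S Gen.h)) (@D3.rec (fun _ => (Cert rels S Gen.h)) lc_h_Cert_tree lc_h_rc_35_0 lc_h_rc_13_1 lc_h_Cert_tree lc_h_rc_37_1 lc_h_rc_35_0 lc_h_rc_35_0 lc_h_rc_5_1 lc_h_rc_5_1 lc_h_Cert_tree lc_h_rc_35_0 lc_h_rc_26_3 lc_h_rc_37_1 lc_h_rc_31_1 lc_h_rc_37_1 lc_h_Cert_tree lc_h_rc_13_1 lc_h_Cert_tree lc_h_rc_35_0 lc_h_rc_5_1 lc_h_Cert_tree lc_h_rc_35_0 lc_h_rc_36_2 lc_h_rc_35_0 lc_h_rc_13_1 lc_h_rc_13_1 lc_h_rc_20_1 lc_h_rc_13_1 lc_h_Cert_tree lc_h_rc_5_1 lc_h_rc_5_1 lc_h_rc_5_1) (@D3.rec (fun _ => (Cert rels S Gen.h)) lc_h_Cert_tree lc_h_rc_5_1 lc_h_Cert_tree lc_h_rc_35_0 lc_h_rc_31_1 lc_h_Cert_tree lc_h_rc_37_1 lc_h_Cert_tree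 lc_h_rc_35_0 lc_h_rc_41_1 lc_h_Cert_tree lc_h_rc_35_0 lc_h_rc_20_1 lc_h_Cert_tree lc_h_rc_13_1 lc_h_Cert_tree lc_h_rc_35_0 lc_h_rc_5_1 lc_h_Cert_tree lc_h_rc_35_0 lc_h_Cert_tree lc_h_rc_35_0 lc_h_rc_26_3 lc_h_rc_13_1 lc_h_rc_35_0 lc_h_rc_13_1 lc_h_rc_26_3 lc_h_rc_26_3 lc_h_rc_20_3 lc_h_rc_13_1 lc_h_rc_20_3 lc_h_Cert_tree) (@D3.rec (fun _ => (Cert rels S Gen.h)) lc_h_rc_35_0 lc_h_rc_35_0 lc_h_rc_26_3 lc_h_rc_20_1 lc_h_rc_13_1 lc_h_rc_13_3 lc_h_rc_20_1 lc_h_rc_35_0 lc_h_rc_26_3 lc_h_rc_5_3 lc_h_rc_20_1 lc_h_rc_13_1 lc_h_rc_13_1 lc_h_rc_37_1 lc_h_rc_37_1 lc_h_Cert_tree lc_h_Cert_tree lc_h_rc_35_0 lc_h_Cert_tree lc_h_rc_35_0 lc_h_rc_36_2 lc_h_Cert_tree lc_h_rc_35_0 lc_h_rc_26_3 lc_h_rc_13_1 lc_h_rc_35_0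 lc_h_rc_13_1 lc_h_rc_26_3 lc_h_rc_20_1 lc_h_Cert_tree lc_h_rc_35_0 lc_h_Cert_tree) (@D3.rec (fun _ => (Cert rels S Gen.h)) lc_h_rc_35_0 lc_h_rc_5_1 lc_h_rc_5_1 lc_h_rc_35_0 lc_h_rc_5_1 lc_h_Cert_tree lc_h_rc_35_0 lc_h_rc_26_3 lc_h_rc_20_1 lc_h_rc_31_1 lc_h_Cert_tree lc_h_rc_13_1 lc_h_rc_31_1 lc_h_Cert_tree lc_h_rc_35_0 lc_h_rc_35_0 lc_h_rc_13_1 lc_h_rc_13_1 lc_h_rc_5_1 lc_h_rc_5_1 lc_h_rc_5_1 lc_h_Cert_tree lc_h_rc_31_1 lc_h_Cert_tree lc_h_rc_37_1 lc_h_Cert_tree lc_h_rc_35_0 lc_h_Cert_tree lc_h_Cert_tree lc_h_rc_35_0 lc_h_rc_5_1 lc_h_Cert_tree) (@D3.rec (fun _ => (Cert rels S Gen.h)) lc_h_rc_35_0 lc_h_Cert_tree lc_h_Cert_tree lc_h_rc_35_0 lc_h_rc_13_1 lc_h_Cert_tree lc_h_rc_35_0 lc_h_rc_35_0 lc_h_rc_26_3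 lc_h_Cert_tree lc_h_Cert_tree lc_h_rc_35_0 lc_h_Cert_tree lc_h_Cert_tree lc_h_rc_35_0 lc_h_rc_36_2 lc_h_Cert_tree lc_h_Cert_tree lc_h_rc_35_0 lc_h_rc_26_3 lc_h_rc_13_1 lc_h_Cert_tree lc_h_rc_35_0 lc_h_rc_35_0 lc_h_rc_13_1 lc_h_Cert_tree lc_h_rc_35_0 lc_h_rc_26_3 lc_h_rc_20_1 lc_h_rc_20_1 lc_h_Cert_tree lc_h_rc_35_0) (@D3.rec (fun _ => (Cert rels S Gen.h)) lc_h_Cert_tree lc_h_Cert_tree lc_h_rc_35_0 lc_h_rc_5_1 lc_h_rc_5_1 lc_h_Cert_tree lc_h_rc_35_0 lc_h_rc_35_0 lc_h_rc_5_1 lc_h_Cert_tree lc_h_Cert_tree lc_h_rc_35_0 lc_h_rc_35_0 lc_h_rc_26_3 lc_h_rc_20_1 lc_h_rc_26_3 lc_h_Cert_tree lc_h_Cert_tree lc_h_rc_35_0 lc_h_rc_13_1 lc_h_rc_13_1 lc_h_rc_5_3 lc_h_rc_35_0 lc_h_rc_26_3 lc_h_rc_13_3 lc_h_rc_20_1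 lc_h_rc_13_3 lc_h_Cert_tree lc_h_Cert_tree lc_h_rc_35_0 lc_h_rc_13_1 lc_h_rc_20_1) (@D3.rec (fun _ => (Cert rels S Gen.h)) lc_h_Cert_tree lc_h_Cert_tree lc_h_rc_35_0 lc_h_rc_35_0 lc_h_rc_26_3 lc_h_rc_36_2 lc_h_rc_26_3 lc_h_rc_35_0 lc_h_rc_35_0 lc_h_rc_5_1 lc_h_Cert_tree lc_h_rc_35_0 lc_h_rc_35_0 lc_h_rc_35_0 lc_h_rc_26_3 lc_h_rc_26_3 lc_h_rc_31_1 lc_h_rc_37_1 lc_h_rc_13_1 lc_h_rc_20_1 lc_h_rc_20_1 lc_h_rc_13_1 lc_h_Cert_tree lc_h_Cert_tree lc_h_rc_35_0 lc_h_rc_5_1 lc_h_Cert_tree lc_h_rc_35_0 lc_h_Cert_tree lc_h_Cert_tree lc_h_rc_35_0 lc_h_rc_13_1) (@D3.rec (fun _ => (Cert rels S Gen.h)) lc_h_Cert_tree lc_h_rc_35_0 lc_h_rc_35_0 lc_h_rc_36_2 lc_h_Cert_tree lc_h_Cert_tree lc_h_rc_35_0 lc_h_Cert_tree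 lc_h_Cert_tree lc_h_rc_35_0 lc_h_rc_5_1 lc_h_Cert_tree lc_h_Cert_tree lc_h_rc_35_0 lc_h_rc_26_3 lc_h_rc_20_1 lc_h_Cert_tree lc_h_rc_35_0 lc_h_rc_35_0 lc_h_rc_13_1 lc_h_rc_35_0 lc_h_rc_26_3 lc_h_rc_36_2 lc_h_rc_36_2 lc_h_Cert_tree lc_h_rc_35_0 lc_h_Cert_tree lc_h_Cert_tree lc_h_rc_35_0 lc_h_rc_5_1 lc_h_rc_5_1 lc_h_Cert_tree) (@D3.rec (fun _ => (Cert rels S Gen.h)) lc_h_rc_35_0 lc_h_rc_35_0 lc_h_rc_5_1 lc_h_Cert_tree lc_h_Cert_tree lc_h_rc_35_0 lc_h_rc_35_0 lc_h_rc_26_3 lc_h_rc_20_1 lc_h_rc_31_1 lc_h_Cert_tree lc_h_Cert_tree lc_h_rc_35_0 lc_h_rc_13_1 lc_h_rc_13_1 lc_h_rc_13_1 lc_h_rc_35_0 lc_h_rc_26_3 lc_h_rc_36_2 lc_h_rc_20_1 lc_h_Cert_tree lc_h_Cert_tree lc_h_rc_35_0 lc_h_Cert_tree lc_h_Cert_tree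 lc_h_rc_35_0 lc_h_rc_5_1 lc_h_rc_5_1 lc_h_Cert_tree lc_h_rc_35_0 lc_h_rc_35_0 lc_h_rc_5_1) (@D3.rec (fun _ => (Cert rels S Gen.h)) lc_h_Cert_tree lc_h_Cert_tree lc_h_rc_35_0 lc_h_rc_35_0 lc_h_rc_26_3 lc_h_rc_20_1 lc_h_rc_31_1 lc_h_Cert_tree lc_h_rc_35_0 lc_h_rc_37_1 lc_h_rc_13_1 lc_h_rc_13_1 lc_h_rc_36_2 lc_h_rc_26_3 lc_h_Cert_tree lc_h_Cert_tree lc_h_rc_35_0 lc_h_rc_13_1 lc_h_rc_13_1 lc_h_Cert_tree lc_h_Cert_tree lc_h_rc_35_0 lc_h_rc_35_0 lc_h_rc_5_1 lc_h_rc_5_1 lc_h_rc_5_1 lc_h_Cert_tree lc_h_rc_41_3 lc_h_rc_35_0 lc_h_rc_5_1 lc_h_rc_5_1 lc_h_rc_5_1) (@D3.rec (fun _ => (Cert rels S Gen.h)) lc_h_Cert_tree lc_h_rc_35_0 lc_h_rc_37_3 lc_h_rc_35_0 lc_h_rc_26_3 lc_h_rc_20_1 lc_h_rc_26_3 lc_h_rc_20_1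 lc_h_rc_31_1 lc_h_Cert_tree lc_h_rc_37_1 lc_h_Cert_tree lc_h_rc_35_0 lc_h_rc_13_1 lc_h_rc_20_1 lc_h_rc_5_3 lc_h_rc_13_1 lc_h_rc_20_1 lc_h_Cert_tree lc_h_rc_36_2 lc_h_rc_35_0 lc_h_rc_13_1 lc_h_rc_13_1 lc_h_Cert_tree lc_h_rc_35_1 lc_h_rc_35_0 lc_h_rc_5_1 lc_h_rc_5_1 lc_h_Cert_tree lc_h_rc_35_0 lc_h_rc_26_3 lc_h_rc_31_1) (@D3.rec (fun _ => (Cert rels S Gen.h)) lc_h_Cert_tree lc_h_rc_31_1 lc_h_rc_35_0 lc_h_Cert_tree lc_h_rc_35_0 lc_h_rc_26_3 lc_h_rc_5_1 lc_h_rc_35_0 lc_h_rc_26_3 lc_h_rc_36_2 lc_h_rc_20_1 lc_h_rc_13_1 lc_h_rc_5_1 lc_h_rc_35_0 lc_h_rc_35_0 lc_h_rc_13_1 lc_h_rc_13_1 lc_h_rc_20_1 lc_h_rc_13_1 lc_h_Cert_tree lc_h_rc_5_1 lc_h_rc_5_1 lc_h_rc_5_1 lc_h_rc_5_1 lc_h_rc_5_1 lc_h_Cert_tree lc_h_rc_5_1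 lc_h_Cert_tree lc_h_rc_35_0 lc_h_rc_5_1 lc_h_rc_36_2 lc_h_rc_26_3) (@D3.rec (fun _ => (Cert rels S Gen.h)) lc_h_rc_26_3 lc_h_Cert_tree lc_h_rc_31_1 lc_h_Cert_tree lc_h_rc_37_1 lc_h_Cert_tree lc_h_rc_35_0 lc_h_rc_41_1 lc_h_Cert_tree lc_h_rc_35_0 lc_h_rc_13_1 lc_h_rc_20_1 lc_h_rc_5_1 lc_h_rc_36_2 lc_h_rc_13_1 lc_h_rc_5_1 lc_h_rc_20_1 lc_h_Cert_tree lc_h_rc_37_3 lc_h_rc_35_0 lc_h_rc_26_3 lc_h_Cert_tree lc_h_rc_35_0 lc_h_rc_20_1 lc_h_rc_20_1 lc_h_rc_35_0 lc_h_rc_5_1 lc_h_rc_5_1 lc_h_rc_13_3 lc_h_rc_26_3 lc_h_rc_31_1 lc_h_Cert_tree) (@D3.rec (fun _ => (Cert rels S Gen.h)) lc_h_Cert_tree lc_h_Cert_tree lc_h_rc_35_0 lc_h_rc_13_1 lc_h_rc_13_1 lc_h_Cert_tree lc_h_rc_36_2 lc_h_rc_35_0 lc_h_rc_35_0 lc_h_rc_5_1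 lc_h_rc_36_2 lc_h_rc_5_1 lc_h_Cert_tree lc_h_Cert_tree lc_h_rc_35_0 lc_h_rc_26_3 lc_h_rc_26_3 lc_h_rc_31_1 lc_h_Cert_tree lc_h_rc_37_1 lc_h_Cert_tree lc_h_rc_35_0 lc_h_rc_26_5 lc_h_rc_31_1 lc_h_rc_35_0 lc_h_rc_13_1 lc_h_rc_13_1 lc_h_Cert_tree lc_h_rc_5_1 lc_h_rc_5_1 lc_h_Cert_tree lc_h_rc_35_0) (@D3.rec (fun _ => (Cert rels S Gen.h)) lc_h_rc_31_1 lc_h_rc_37_1 lc_h_Cert_tree lc_h_rc_35_0 lc_h_Cert_tree lc_h_rc_36_2 lc_h_rc_35_0 lc_h_rc_35_0 lc_h_rc_13_1 lc_h_rc_36_2 lc_h_rc_20_1 lc_h_rc_13_1 lc_h_Cert_tree lc_h_Cert_tree lc_h_rc_35_0 lc_h_rc_26_3 lc_h_rc_5_1 lc_h_rc_5_1 lc_h_Cert_tree lc_h_rc_5_1 lc_h_Cert_tree lc_h_rc_35_0 lc_h_rc_35_0 lc_h_rc_26_3 lc_h_rc_36_2 lc_h_rc_31_1 lc_h_rc_31_1 lc_h_rc_37_1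 lc_h_Cert_tree lc_h_rc_35_0 lc_h_rc_41_1 lc_h_Cert_tree) (@D3.rec (fun _ => (Cert rels S Gen.h)) lc_h_rc_35_0 lc_h_Cert_tree lc_h_rc_13_1 lc_h_rc_35_0 lc_h_rc_35_0 lc_h_rc_13_1 lc_h_rc_20_1 lc_h_rc_13_1 lc_h_Cert_tree lc_h_rc_35_0 lc_h_rc_26_3 lc_h_rc_37_1 lc_h_rc_5_1 lc_h_rc_37_1 lc_h_rc_35_0 lc_h_rc_26_3 lc_h_rc_36_2 lc_h_rc_31_1 lc_h_rc_26_5 lc_h_rc_37_1 lc_h_Cert_tree lc_h_Cert_tree lc_h_rc_35_0 lc_h_rc_13_1 lc_h_Cert_tree lc_h_rc_35_0 lc_h_rc_5_1 lc_h_Cert_tree lc_h_rc_35_0 lc_h_rc_36_2 lc_h_rc_13_1 lc_h_rc_13_1) (@D3.rec (fun _ => (Cert rels S Gen.h)) lc_h_rc_20_1 lc_h_rc_13_1 lc_h_Cert_tree lc_h_rc_20_1 lc_h_Cert_tree lc_h_rc_13_1 lc_h_Cert_tree lc_h_rc_35_0 lc_h_rc_5_1 lc_h_Cert_tree lc_h_rc_5_1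 lc_h_Cert_tree lc_h_rc_35_0 lc_h_rc_5_1 lc_h_Cert_tree lc_h_rc_35_0 lc_h_rc_37_1 lc_h_Cert_tree lc_h_rc_35_0 lc_h_rc_41_1 lc_h_Cert_tree lc_h_rc_35_0 lc_h_Cert_tree lc_h_rc_35_0 lc_h_rc_26_3 lc_h_Cert_tree lc_h_rc_20_1 lc_h_Cert_tree lc_h_rc_35_0 lc_h_rc_13_1 lc_h_Cert_tree lc_h_rc_35_0) (@D3.rec (fun _ => (Cert rels S Gen.h)) lc_h_Cert_tree lc_h_rc_35_0 lc_h_rc_5_1 lc_h_rc_35_0 lc_h_rc_37_1 lc_h_rc_20_1 lc_h_rc_26_3 lc_h_rc_13_1 lc_h_rc_20_1 lc_h_rc_20_1 lc_h_Cert_tree lc_h_rc_41_1 lc_h_rc_13_1 lc_h_rc_35_0 lc_h_rc_26_3 lc_h_rc_37_1 lc_h_rc_20_1 lc_h_rc_37_1 lc_h_rc_31_1 lc_h_rc_20_1 lc_h_rc_37_1 lc_h_rc_37_1 lc_h_Cert_tree lc_h_rc_35_0 lc_h_Cert_tree lc_h_rc_35_0 lc_h_rc_5_1 lc_h_rc_36_2 lc_h_rc_35_0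 lc_h_rc_36_2 lc_h_Cert_tree lc_h_rc_35_0) (@D3.rec (fun _ => (Cert rels S Gen.h)) lc_h_rc_26_3 lc_h_rc_13_1 lc_h_rc_31_1 lc_h_Cert_tree lc_h_rc_13_1 lc_h_rc_13_1 lc_h_Cert_tree lc_h_Cert_tree lc_h_rc_35_0 lc_h_rc_13_1 lc_h_rc_13_1 lc_h_Cert_tree lc_h_rc_35_0 lc_h_rc_5_1 lc_h_rc_5_1 lc_h_rc_5_1 lc_h_Cert_tree lc_h_rc_5_1 lc_h_rc_35_0 lc_h_rc_26_3 lc_h_rc_20_1 lc_h_rc_31_1 lc_h_Cert_tree lc_h_rc_37_1 lc_h_Cert_tree lc_h_rc_35_0 lc_h_Cert_tree lc_h_rc_35_0 lc_h_rc_36_2 lc_h_rc_13_1 lc_h_rc_13_1 lc_h_rc_20_1) (@D3.rec (fun _ => (Cert rels S Gen.h)) lc_h_rc_13_1 lc_h_Cert_tree lc_h_rc_5_1 lc_h_Cert_tree lc_h_rc_5_1 lc_h_Cert_tree lc_h_rc_35_0 lc_h_rc_37_1 lc_h_Cert_tree lc_h_rc_35_0 lc_h_rc_41_1 lc_h_Cert_tree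 lc_h_rc_35_0 lc_h_Cert_tree lc_h_Cert_tree lc_h_rc_35_0 lc_h_Cert_tree lc_h_Cert_tree lc_h_rc_35_0 lc_h_rc_5_1 lc_h_Cert_tree lc_h_Cert_tree lc_h_rc_35_0 lc_h_rc_26_3 lc_h_rc_20_1 lc_h_Cert_tree lc_h_rc_35_0 lc_h_rc_35_0 lc_h_rc_13_1 lc_h_Cert_tree lc_h_rc_35_0 lc_h_rc_31_1) (@D3.rec (fun _ => (Cert rels S Gen.h)) lc_h_rc_31_1 lc_h_rc_36_2 lc_h_Cert_tree lc_h_rc_35_0 lc_h_Cert_tree lc_h_Cert_tree lc_h_rc_35_0 lc_h_rc_5_1 lc_h_rc_36_2 lc_h_Cert_tree lc_h_rc_35_0 lc_h_rc_35_0 lc_h_rc_36_2 lc_h_Cert_tree lc_h_Cert_tree lc_h_rc_35_0 lc_h_rc_35_0 lc_h_rc_26_3 lc_h_rc_13_1 lc_h_rc_26_3 lc_h_Cert_tree lc_h_Cert_tree lc_h_rc_35_0 lc_h_rc_13_1 lc_h_rc_13_1 lc_h_rc_36_2 lc_h_rc_35_0 lc_h_rc_26_3 lc_h_rc_31_1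 lc_h_rc_20_1 lc_h_Cert_tree lc_h_Cert_tree) (@D3.rec (fun _ => (Cert rels S Gen.h)) lc_h_Cert_tree lc_h_rc_35_0 lc_h_rc_13_1 lc_h_rc_13_1 lc_h_Cert_tree lc_h_Cert_tree lc_h_rc_35_0 lc_h_rc_35_0 lc_h_rc_5_1 lc_h_rc_5_1 lc_h_rc_5_1 lc_h_Cert_tree lc_h_Cert_tree lc_h_rc_35_0 lc_h_rc_5_1 lc_h_rc_5_1 lc_h_rc_37_1 lc_h_Cert_tree lc_h_rc_35_0 lc_h_Cert_tree lc_h_rc_35_0 lc_h_rc_26_3 lc_h_rc_20_1 lc_h_rc_26_3 lc_h_rc_20_1 lc_h_rc_31_1 lc_h_Cert_tree lc_h_rc_37_1 lc_h_Cert_tree lc_h_rc_35_0 lc_h_rc_35_0 lc_h_rc_13_1)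
def ce_h_4 : D2 → D3 → (Cert rels S Gen.h) := @D2.rec (fun _ => D3 → (Cert rels S Gen.h)) (@D3.rec (fun _ => (Cert rels S Gen.h)) lc_h_rc_31_1 lc_h_rc_20_1 lc_h_rc_26_3 lc_h_rc_26_1 lc_h_rc_20_1 lc_h_rc_31_1 lc_h_rc_13_1 lc_h_rc_31_3 lc_h_Cert_tree lc_h_Cert_tree lc_h_rc_35_0 lc_h_rc_35_0 lc_h_rc_13_1 lc_h_rc_36_2 lc_h_rc_20_1 lc_h_rc_26_3 lc_h_Cert_tree lc_h_rc_35_0 lc_h_rc_20_1 lc_h_rc_35_0 lc_h_rc_26_3 lc_h_rc_26_3 lc_h_rc_31_1 lc_h_rc_37_1 lc_h_rc_5_1 lc_h_rc_5_1 lc_h_Cert_tree lc_h_rc_35_0 lc_h_rc_26_3 lc_h_rc_36_2 lc_h_rc_41_1 lc_h_rc_20_1) (@D3.rec (fun _ => (Cert rels S Gen.h)) lc_h_rc_31_1 lc_h_rc_31_1 lc_h_rc_26_5 lc_h_rc_20_1 lc_h_rc_13_1 lc_h_rc_13_1 lc_h_rc_5_1 lc_h_Cert_tree lc_h_Cert_tree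 lc_h_rc_35_0 lc_h_Cert_tree lc_h_Cert_tree lc_h_rc_35_0 lc_h_rc_5_1 lc_h_Cert_tree lc_h_rc_35_0 lc_h_rc_26_3 lc_h_rc_20_1 lc_h_Cert_tree lc_h_rc_35_0 lc_h_rc_35_0 lc_h_rc_13_1 lc_h_Cert_tree lc_h_rc_35_0 lc_h_rc_31_1 lc_h_rc_36_2 lc_h_rc_36_2 lc_h_Cert_tree lc_h_rc_35_0 lc_h_Cert_tree lc_h_Cert_tree lc_h_rc_35_0) (@D3.rec (fun _ => (Cert rels S Gen.h)) lc_h_rc_5_1 lc_h_rc_5_1 lc_h_Cert_tree lc_h_rc_35_0 lc_h_rc_35_0 lc_h_rc_5_1 lc_h_Cert_tree lc_h_Cert_tree lc_h_rc_35_0 lc_h_rc_35_0 lc_h_rc_26_3 lc_h_rc_20_1 lc_h_rc_31_1 lc_h_Cert_tree lc_h_rc_35_0 lc_h_rc_13_1 lc_h_rc_13_1 lc_h_rc_13_1 lc_h_rc_26_3 lc_h_rc_36_2 lc_h_rc_20_1 lc_h_Cert_tree lc_h_Cert_tree lc_h_Cert_tree lc_h_rc_35_0 lc_h_rc_13_1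 lc_h_rc_13_1 lc_h_Cert_tree lc_h_Cert_tree lc_h_rc_35_0 lc_h_rc_35_0 lc_h_rc_5_1) (@D3.rec (fun _ => (Cert rels S Gen.h)) lc_h_rc_5_1 lc_h_rc_5_1 lc_h_Cert_tree lc_h_Cert_tree lc_h_rc_35_0 lc_h_rc_5_1 lc_h_rc_5_1 lc_h_rc_5_1 lc_h_Cert_tree lc_h_rc_35_0 lc_h_Cert_tree lc_h_rc_35_0 lc_h_rc_26_3 lc_h_rc_20_1 lc_h_rc_26_3 lc_h_rc_20_1 lc_h_rc_31_1 lc_h_Cert_tree lc_h_rc_37_1 lc_h_Cert_tree lc_h_rc_35_0 lc_h_rc_35_0 lc_h_rc_13_1 lc_h_rc_13_1 lc_h_rc_20_1 lc_h_Cert_tree lc_h_rc_36_2 lc_h_Cert_tree lc_h_rc_13_1 lc_h_Cert_tree lc_h_rc_35_0 lc_h_Cert_tree) (@D3.rec (fun _ => (Cert rels S Gen.h)) lc_h_Cert_tree lc_h_rc_35_0 lc_h_rc_13_1 lc_h_rc_13_1 lc_h_Cert_tree lc_h_Cert_tree lc_h_rc_35_0 lc_h_rc_35_0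 lc_h_rc_5_1 lc_h_rc_5_1 lc_h_rc_5_1 lc_h_Cert_tree lc_h_rc_35_0 lc_h_rc_41_1 lc_h_rc_5_1 lc_h_rc_5_1 lc_h_rc_20_3 lc_h_rc_35_0 lc_h_rc_35_0 lc_h_rc_26_3 lc_h_rc_20_1 lc_h_rc_20_1 lc_h_rc_20_1 lc_h_rc_31_1 lc_h_Cert_tree lc_h_rc_37_1 lc_h_Cert_tree lc_h_rc_35_0 lc_h_rc_13_1 lc_h_rc_37_1 lc_h_rc_31_3 lc_h_Cert_tree) (@D3.rec (fun _ => (Cert rels S Gen.h)) lc_h_Cert_tree lc_h_rc_35_0 lc_h_rc_35_0 lc_h_rc_13_1 lc_h_rc_13_1 lc_h_rc_20_1 lc_h_rc_13_1 lc_h_Cert_tree lc_h_Cert_tree lc_h_rc_35_0 lc_h_rc_5_1 lc_h_rc_35_0 lc_h_rc_26_3 lc_h_rc_5_1 lc_h_rc_5_1 lc_h_rc_5_1 lc_h_rc_5_1 lc_h_Cert_tree lc_h_rc_5_1 lc_h_Cert_tree lc_h_rc_35_0 lc_h_rc_5_1 lc_h_rc_5_1 lc_h_rc_13_3 lc_h_Cert_tree lc_h_rc_35_0 lc_h_rc_26_3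 lc_h_rc_36_2 lc_h_rc_41_1 lc_h_rc_20_1 lc_h_rc_20_1 lc_h_rc_31_1) (@D3.rec (fun _ => (Cert rels S Gen.h)) lc_h_Cert_tree lc_h_rc_31_1 lc_h_Cert_tree lc_h_rc_37_1 lc_h_Cert_tree lc_h_rc_35_0 lc_h_rc_41_1 lc_h_Cert_tree lc_h_rc_35_0 lc_h_rc_13_1 lc_h_rc_31_1 lc_h_rc_5_1 lc_h_rc_36_2 lc_h_Cert_tree lc_h_rc_36_2 lc_h_rc_35_0 lc_h_rc_13_1 lc_h_rc_20_1 lc_h_rc_13_1 lc_h_Cert_tree lc_h_rc_35_0 lc_h_rc_26_3 lc_h_rc_5_1 lc_h_rc_35_0 lc_h_rc_26_3 lc_h_rc_36_2 lc_h_rc_31_1 lc_h_Cert_tree lc_h_Cert_tree lc_h_rc_35_0 lc_h_rc_26_3 lc_h_rc_35_0) (@D3.rec (fun _ => (Cert rels S Gen.h)) lc_h_rc_26_3 lc_h_rc_5_1 lc_h_rc_20_1 lc_h_rc_13_1 lc_h_rc_36_2 lc_h_rc_20_1 lc_h_rc_5_3 lc_h_rc_13_1 lc_h_rc_5_1 lc_h_rc_13_1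 lc_h_rc_13_1 lc_h_rc_13_1 lc_h_rc_13_1 lc_h_rc_20_1 lc_h_rc_13_1 lc_h_Cert_tree lc_h_rc_20_1 lc_h_Cert_tree lc_h_rc_13_1 lc_h_Cert_tree lc_h_rc_35_0 lc_h_rc_5_1 lc_h_rc_5_1 lc_h_Cert_tree lc_h_rc_5_1 lc_h_Cert_tree lc_h_rc_5_1 lc_h_Cert_tree lc_h_rc_35_0 lc_h_rc_5_1 lc_h_Cert_tree lc_h_rc_35_0) (@D3.rec (fun _ => (Cert rels S Gen.h)) lc_h_rc_13_1 lc_h_rc_13_3 lc_h_rc_13_1 lc_h_rc_31_1 lc_h_Cert_tree lc_h_rc_37_1 lc_h_Cert_tree lc_h_rc_35_0 lc_h_rc_37_1 lc_h_Cert_tree lc_h_rc_35_0 lc_h_rc_41_1 lc_h_Cert_tree lc_h_rc_35_0 lc_h_Cert_tree lc_h_rc_35_0 lc_h_rc_26_3 lc_h_rc_5_1 lc_h_rc_36_2 lc_h_rc_13_3 lc_h_rc_5_1 lc_h_rc_13_1 lc_h_rc_13_1 lc_h_rc_35_0 lc_h_rc_5_1 lc_h_rc_31_1 lc_h_rc_26_1 lc_h_rc_26_5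 lc_h_rc_35_0 lc_h_rc_13_1 lc_h_rc_13_1 lc_h_rc_13_3) (@D3.rec (fun _ => (Cert rels S Gen.h)) lc_h_rc_5_1 lc_h_rc_5_1 lc_h_Cert_tree lc_h_rc_37_1 lc_h_Cert_tree lc_h_rc_35_0 lc_h_Cert_tree lc_h_rc_36_2 lc_h_rc_35_0 lc_h_rc_35_0 lc_h_rc_13_1 lc_h_rc_36_2 lc_h_rc_20_1 lc_h_rc_13_1 lc_h_Cert_tree lc_h_Cert_tree lc_h_rc_35_0 lc_h_rc_26_3 lc_h_rc_5_1 lc_h_rc_5_1 lc_h_Cert_tree lc_h_rc_5_1 lc_h_Cert_tree lc_h_rc_35_0 lc_h_rc_35_0 lc_h_rc_26_3 lc_h_rc_31_3 lc_h_rc_31_1 lc_h_rc_31_1 lc_h_rc_37_1 lc_h_Cert_tree lc_h_rc_35_0) (@D3.rec (fun _ => (Cert rels S Gen.h)) lc_h_rc_41_1 lc_h_Cert_tree lc_h_rc_35_0 lc_h_Cert_tree lc_h_rc_13_1 lc_h_rc_20_1 lc_h_rc_13_1 lc_h_Cert_tree lc_h_rc_35_0 lc_h_rc_5_1 lc_h_rc_5_1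 lc_h_Cert_tree lc_h_rc_35_0 lc_h_rc_36_2 lc_h_rc_37_1 lc_h_rc_41_1 lc_h_Cert_tree lc_h_rc_35_0 lc_h_Cert_tree lc_h_Cert_tree lc_h_rc_35_0 lc_h_rc_26_3 lc_h_rc_13_1 lc_h_rc_20_1 lc_h_rc_13_1 lc_h_Cert_tree lc_h_rc_20_1 lc_h_Cert_tree lc_h_rc_13_1 lc_h_Cert_tree lc_h_rc_35_0 lc_h_rc_35_0) (@D3.rec (fun _ => (Cert rels S Gen.h)) lc_h_rc_26_3 lc_h_rc_5_1 lc_h_rc_31_1 lc_h_rc_5_1 lc_h_rc_5_1 lc_h_Cert_tree lc_h_rc_35_0 lc_h_rc_5_1 lc_h_Cert_tree lc_h_rc_35_0 lc_h_rc_36_2 lc_h_rc_31_1 lc_h_rc_26_1 lc_h_rc_37_1 lc_h_rc_37_1 lc_h_rc_41_1 lc_h_Cert_tree lc_h_rc_35_0 lc_h_Cert_tree lc_h_rc_35_0 lc_h_rc_26_3 lc_h_Cert_tree lc_h_Cert_tree lc_h_rc_35_0 lc_h_rc_26_3 lc_h_rc_37_1 lc_h_rc_20_1 lc_h_rc_13_1 lc_h_rc_20_1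 lc_h_rc_37_1 lc_h_rc_35_0 lc_h_rc_26_3) (@D3.rec (fun _ => (Cert rels S Gen.h)) lc_h_rc_5_1 lc_h_rc_31_1 lc_h_rc_26_5 lc_h_rc_37_1 lc_h_rc_36_2 lc_h_rc_31_1 lc_h_rc_36_2 lc_h_rc_37_1 lc_h_Cert_tree lc_h_rc_35_0 lc_h_Cert_tree lc_h_rc_35_0 lc_h_rc_13_1 lc_h_Cert_tree lc_h_rc_35_0 lc_h_rc_5_1 lc_h_rc_35_0 lc_h_rc_36_2 lc_h_rc_20_1 lc_h_rc_13_1 lc_h_Cert_tree lc_h_rc_20_1 lc_h_Cert_tree lc_h_rc_13_1 lc_h_Cert_tree lc_h_rc_35_0 lc_h_Cert_tree lc_h_rc_20_1 lc_h_Cert_tree lc_h_rc_35_0 lc_h_rc_13_1 lc_h_Cert_tree) (@D3.rec (fun _ => (Cert rels S Gen.h)) lc_h_rc_35_0 lc_h_rc_5_1 lc_h_Cert_tree lc_h_rc_35_0 lc_h_rc_5_1 lc_h_Cert_tree lc_h_rc_35_0 lc_h_Cert_tree lc_h_rc_35_0 lc_h_rc_5_1 lc_h_rc_41_1 lc_h_Cert_tree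 lc_h_rc_35_0 lc_h_Cert_tree lc_h_rc_35_0 lc_h_rc_26_3 lc_h_rc_35_0 lc_h_rc_37_1 lc_h_rc_20_1 lc_h_Cert_tree lc_h_rc_35_0 lc_h_Cert_tree lc_h_rc_20_1 lc_h_Cert_tree lc_h_rc_35_0 lc_h_rc_26_3 lc_h_Cert_tree lc_h_rc_35_0 lc_h_rc_13_1 lc_h_rc_35_0 lc_h_rc_5_1 lc_h_rc_20_1) (@D3.rec (fun _ => (Cert rels S Gen.h)) lc_h_rc_37_1 lc_h_rc_20_1 lc_h_rc_41_1 lc_h_rc_37_1 lc_h_rc_20_1 lc_h_rc_26_3 lc_h_rc_31_1 lc_h_rc_37_1 lc_h_rc_37_1 lc_h_Cert_tree lc_h_rc_35_0 lc_h_rc_13_1 lc_h_rc_36_2 lc_h_Cert_tree lc_h_rc_35_0 lc_h_rc_5_1 lc_h_rc_36_2 lc_h_rc_5_1 lc_h_Cert_tree lc_h_rc_5_1 lc_h_rc_36_2 lc_h_rc_35_0 lc_h_rc_26_3 lc_h_rc_13_1 lc_h_rc_31_1 lc_h_Cert_tree lc_h_rc_37_1 lc_h_Cert_tree lc_h_rc_35_0 lc_h_rc_20_1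 lc_h_Cert_tree lc_h_rc_35_0) (@D3.rec (fun _ => (Cert rels S Gen.h)) lc_h_Cert_tree lc_h_rc_35_0 lc_h_rc_13_1 lc_h_rc_13_1 lc_h_rc_20_1 lc_h_rc_13_1 lc_h_Cert_tree lc_h_rc_35_0 lc_h_rc_26_3 lc_h_rc_5_1 lc_h_rc_5_1 lc_h_Cert_tree lc_h_rc_5_1 lc_h_Cert_tree lc_h_rc_35_0 lc_h_rc_26_3 lc_h_rc_36_2 lc_h_rc_31_1 lc_h_Cert_tree lc_h_rc_37_1 lc_h_Cert_tree lc_h_rc_35_0 lc_h_rc_41_1 lc_h_Cert_tree lc_h_rc_35_0 lc_h_Cert_tree lc_h_rc_35_0 lc_h_rc_5_1 lc_h_rc_20_1 lc_h_rc_13_1 lc_h_Cert_tree lc_h_rc_20_1) (@D3.rec (fun _ => (Cert rels S Gen.h)) lc_h_Cert_tree lc_h_rc_13_1 lc_h_Cert_tree lc_h_rc_35_0 lc_h_rc_5_1 lc_h_Cert_tree lc_h_rc_35_0 lc_h_rc_5_1 lc_h_Cert_tree lc_h_rc_35_0 lc_h_rc_41_1 lc_h_Cert_tree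 lc_h_rc_35_0 lc_h_Cert_tree lc_h_rc_35_0 lc_h_rc_26_3 lc_h_Cert_tree lc_h_rc_35_0 lc_h_Cert_tree lc_h_Cert_tree lc_h_rc_35_0 lc_h_rc_5_1 lc_h_rc_5_1 lc_h_Cert_tree lc_h_rc_35_0 lc_h_rc_35_0 lc_h_rc_5_1 lc_h_rc_35_0 lc_h_rc_35_0 lc_h_rc_26_3 lc_h_rc_20_1 lc_h_rc_31_1) (@D3.rec (fun _ => (Cert rels S Gen.h)) lc_h_Cert_tree lc_h_rc_35_0 lc_h_rc_13_1 lc_h_rc_13_1 lc_h_rc_13_1 lc_h_rc_35_0 lc_h_rc_31_1 lc_h_rc_36_2 lc_h_rc_20_1 lc_h_Cert_tree lc_h_Cert_tree lc_h_Cert_tree lc_h_rc_35_0 lc_h_rc_13_1 lc_h_rc_36_2 lc_h_Cert_tree lc_h_Cert_tree lc_h_rc_35_0 lc_h_rc_35_0 lc_h_rc_5_1 lc_h_rc_36_2 lc_h_rc_5_1 lc_h_Cert_tree lc_h_Cert_tree lc_h_rc_35_0 lc_h_rc_5_1 lc_h_rc_36_2 lc_h_rc_13_1 lc_h_Cert_tree lc_h_rc_35_0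 lc_h_Cert_tree lc_h_rc_35_0) (@D3.rec (fun _ => (Cert rels S Gen.h)) lc_h_rc_26_3 lc_h_rc_13_1 lc_h_rc_26_3 lc_h_rc_36_2 lc_h_rc_31_1 lc_h_Cert_tree lc_h_rc_37_1 lc_h_Cert_tree lc_h_rc_35_0 lc_h_rc_35_0 lc_h_rc_13_1 lc_h_rc_36_2 lc_h_rc_20_1 lc_h_Cert_tree lc_h_rc_37_1 lc_h_rc_20_1 lc_h_rc_20_1 lc_h_Cert_tree lc_h_rc_13_1 lc_h_Cert_tree lc_h_rc_35_0 lc_h_Cert_tree lc_h_Cert_tree lc_h_rc_35_0 lc_h_rc_35_0 lc_h_rc_13_1 lc_h_rc_13_1 lc_h_rc_20_1 lc_h_rc_13_1 lc_h_Cert_tree lc_h_Cert_tree lc_h_rc_35_0) (@D3.rec (fun _ => (Cert rels S Gen.h)) lc_h_Cert_tree lc_h_rc_35_0 lc_h_rc_26_3 lc_h_rc_5_1 lc_h_rc_5_1 lc_h_rc_13_3 lc_h_rc_5_1 lc_h_Cert_tree lc_h_rc_5_1 lc_h_Cert_tree lc_h_rc_35_0 lc_h_rc_35_0 lc_h_rc_5_1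 lc_h_rc_36_2 lc_h_rc_5_1 lc_h_rc_37_1 lc_h_Cert_tree lc_h_rc_35_0 lc_h_rc_26_3 lc_h_rc_36_2 lc_h_rc_35_0 lc_h_rc_41_1 lc_h_rc_20_1 lc_h_rc_20_1 lc_h_rc_31_1 lc_h_Cert_tree lc_h_rc_31_1 lc_h_Cert_tree lc_h_rc_37_1 lc_h_Cert_tree lc_h_rc_35_0 lc_h_rc_41_1) (@D3.rec (fun _ => (Cert rels S Gen.h)) lc_h_Cert_tree lc_h_rc_35_0 lc_h_rc_5_1 lc_h_rc_20_1 lc_h_rc_26_1 lc_h_rc_13_1 lc_h_rc_20_1 lc_h_rc_13_1 lc_h_rc_36_2 lc_h_rc_5_1 lc_h_rc_37_1 lc_h_Cert_tree lc_h_Cert_tree lc_h_rc_35_0 lc_h_rc_36_2 lc_h_rc_35_0 lc_h_rc_26_3 lc_h_rc_13_1 lc_h_rc_20_1 lc_h_rc_13_1 lc_h_rc_37_1 lc_h_rc_20_1 lc_h_Cert_tree lc_h_rc_35_0 lc_h_rc_26_3 lc_h_rc_5_1 lc_h_rc_41_1 lc_h_rc_20_1 lc_h_rc_31_1 lc_h_rc_31_1 lc_h_rc_26_5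 lc_h_rc_5_1) (@D3.rec (fun _ => (Cert rels S Gen.h)) lc_h_rc_13_1 lc_h_Cert_tree lc_h_rc_35_0 lc_h_rc_41_1 lc_h_rc_5_3 lc_h_rc_20_1 lc_h_rc_31_1 lc_h_rc_5_3 lc_h_rc_20_1 lc_h_rc_41_1 lc_h_rc_13_1 lc_h_rc_20_1 lc_h_rc_13_1 lc_h_rc_5_1 lc_h_rc_5_1 lc_h_Cert_tree lc_h_rc_35_0 lc_h_Cert_tree lc_h_rc_35_0 lc_h_rc_5_1 lc_h_rc_5_1 lc_h_Cert_tree lc_h_rc_35_0 lc_h_rc_35_0 lc_h_rc_5_1 lc_h_rc_35_0 lc_h_rc_20_1 lc_h_rc_31_1 lc_h_rc_36_2 lc_h_Cert_tree lc_h_rc_35_0 lc_h_rc_13_1)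
def ce_h_5 : D2 → D3 → (Cert rels S Gen.h) := @D2.rec (fun _ => D3 → (Cert rels S Gen.h)) (@D3.rec (fun _ => (Cert rels S Gen.h)) lc_h_rc_13_1 lc_h_rc_13_1 lc_h_rc_35_0 lc_h_rc_31_1 lc_h_rc_36_2 lc_h_rc_20_1 lc_h_Cert_tree lc_h_Cert_tree lc_h_Cert_tree lc_h_rc_35_0 lc_h_rc_13_1 lc_h_rc_13_1 lc_h_Cert_tree lc_h_Cert_tree lc_h_rc_35_0 lc_h_rc_35_0 lc_h_rc_5_1 lc_h_rc_5_1 lc_h_rc_5_1 lc_h_Cert_tree lc_h_rc_35_0 lc_h_rc_5_1 lc_h_rc_5_1 lc_h_rc_5_1 lc_h_rc_35_0 lc_h_rc_35_0 lc_h_rc_26_3 lc_h_rc_20_1 lc_h_rc_20_1 lc_h_rc_47_34 lc_h_rc_36_2 lc_h_rc_37_1) (@D3.rec (fun _ => (Cert rels S Gen.h)) lc_h_Cert_tree lc_h_rc_35_0 lc_h_rc_13_1 lc_h_rc_13_1 lc_h_rc_20_1 lc_h_Cert_tree lc_h_Cert_tree lc_h_rc_13_1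 lc_h_Cert_tree lc_h_rc_35_0 lc_h_Cert_tree lc_h_Cert_tree lc_h_rc_35_0 lc_h_rc_35_0 lc_h_rc_13_1 lc_h_rc_13_1 lc_h_rc_20_1 lc_h_rc_13_1 lc_h_Cert_tree lc_h_Cert_tree lc_h_rc_35_0 lc_h_Cert_tree lc_h_rc_35_0 lc_h_rc_26_3 lc_h_rc_5_1 lc_h_rc_5_1 lc_h_rc_5_1 lc_h_rc_5_1 lc_h_Cert_tree lc_h_rc_5_1 lc_h_Cert_tree lc_h_rc_35_0) (@D3.rec (fun _ => (Cert rels S Gen.h)) lc_h_rc_35_0 lc_h_rc_5_1 lc_h_rc_5_1 lc_h_rc_5_1 lc_h_Cert_tree lc_h_Cert_tree lc_h_rc_35_0 lc_h_rc_26_3 lc_h_rc_36_2 lc_h_rc_35_0 lc_h_rc_41_1 lc_h_rc_20_1 lc_h_rc_20_1 lc_h_rc_31_1 lc_h_Cert_tree lc_h_rc_31_1 lc_h_rc_26_1 lc_h_rc_37_1 lc_h_Cert_tree lc_h_rc_35_0 lc_h_rc_41_1 lc_h_Cert_tree lc_h_rc_35_0 lc_h_rc_37_1 lc_h_rc_20_1 lc_h_Cert_tree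 lc_h_rc_13_1 lc_h_Cert_tree lc_h_rc_35_0 lc_h_rc_35_0 lc_h_rc_5_1 lc_h_Cert_tree) (@D3.rec (fun _ => (Cert rels S Gen.h)) lc_h_rc_35_0 lc_h_Cert_tree lc_h_Cert_tree lc_h_rc_35_0 lc_h_rc_35_0 lc_h_rc_13_1 lc_h_rc_13_1 lc_h_rc_20_1 lc_h_rc_13_1 lc_h_Cert_tree lc_h_rc_5_1 lc_h_rc_35_0 lc_h_rc_35_0 lc_h_rc_26_3 lc_h_rc_5_1 lc_h_rc_20_1 lc_h_rc_5_1 lc_h_rc_5_1 lc_h_Cert_tree lc_h_rc_5_1 lc_h_Cert_tree lc_h_rc_35_0 lc_h_rc_5_1 lc_h_rc_5_1 lc_h_rc_20_3 lc_h_rc_26_3 lc_h_rc_36_2 lc_h_rc_20_3 lc_h_rc_20_1 lc_h_rc_20_1 lc_h_rc_20_3 lc_h_Cert_tree) (@D3.rec (fun _ => (Cert rels S Gen.h)) lc_h_rc_31_1 lc_h_rc_37_1 lc_h_rc_36_2 lc_h_rc_35_0 lc_h_rc_41_1 lc_h_Cert_tree lc_h_rc_35_0 lc_h_rc_36_2 lc_h_Cert_tree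 lc_h_Cert_tree lc_h_rc_35_0 lc_h_rc_5_3 lc_h_rc_35_0 lc_h_rc_26_3 lc_h_rc_13_1 lc_h_rc_13_1 lc_h_rc_13_1 lc_h_rc_20_1 lc_h_rc_13_1 lc_h_Cert_tree lc_h_rc_20_1 lc_h_Cert_tree lc_h_rc_13_1 lc_h_Cert_tree lc_h_rc_35_0 lc_h_Cert_tree lc_h_rc_35_0 lc_h_rc_26_3 lc_h_rc_5_1 lc_h_rc_41_1 lc_h_rc_5_1 lc_h_rc_20_1) (@D3.rec (fun _ => (Cert rels S Gen.h)) lc_h_rc_31_1 lc_h_Cert_tree lc_h_rc_5_1 lc_h_Cert_tree lc_h_rc_5_1 lc_h_Cert_tree lc_h_rc_35_0 lc_h_rc_5_1 lc_h_Cert_tree lc_h_rc_35_0 lc_h_rc_13_1 lc_h_rc_13_3 lc_h_Cert_tree lc_h_rc_35_0 lc_h_rc_41_1 lc_h_rc_36_2 lc_h_rc_20_1 lc_h_rc_31_1 lc_h_Cert_tree lc_h_rc_41_1 lc_h_Cert_tree lc_h_rc_13_1 lc_h_rc_20_1 lc_h_Cert_tree lc_h_rc_37_1 lc_h_Cert_tree lc_h_rc_35_0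 lc_h_rc_37_1 lc_h_Cert_tree lc_h_rc_35_0 lc_h_rc_41_1 lc_h_Cert_tree) (@D3.rec (fun _ => (Cert rels S Gen.h)) lc_h_rc_35_0 lc_h_Cert_tree lc_h_rc_35_0 lc_h_rc_26_3 lc_h_rc_5_1 lc_h_rc_36_2 lc_h_rc_13_3 lc_h_Cert_tree lc_h_Cert_tree lc_h_rc_35_0 lc_h_rc_26_3 lc_h_rc_20_1 lc_h_rc_13_1 lc_h_rc_20_1 lc_h_rc_35_0 lc_h_rc_26_3 lc_h_rc_5_1 lc_h_rc_31_1 lc_h_rc_36_2 lc_h_rc_31_1 lc_h_rc_26_3 lc_h_Cert_tree lc_h_rc_35_0 lc_h_rc_35_0 lc_h_rc_26_3 lc_h_rc_13_1 lc_h_rc_20_1 lc_h_rc_5_1 lc_h_rc_20_1 lc_h_rc_36_2 lc_h_rc_13_1 lc_h_rc_5_1) (@D3.rec (fun _ => (Cert rels S Gen.h)) lc_h_rc_13_1 lc_h_rc_20_1 lc_h_rc_5_1 lc_h_rc_20_1 lc_h_rc_13_1 lc_h_Cert_tree lc_h_rc_20_1 lc_h_rc_13_1 lc_h_Cert_tree lc_h_rc_20_1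 lc_h_Cert_tree lc_h_rc_13_1 lc_h_Cert_tree lc_h_rc_35_0 lc_h_Cert_tree lc_h_rc_20_1 lc_h_Cert_tree lc_h_rc_35_0 lc_h_rc_13_1 lc_h_Cert_tree lc_h_rc_35_0 lc_h_rc_13_1 lc_h_rc_5_1 lc_h_Cert_tree lc_h_rc_5_1 lc_h_Cert_tree lc_h_rc_35_0 lc_h_rc_5_1 lc_h_Cert_tree lc_h_rc_35_0 lc_h_rc_5_1 lc_h_Cert_tree) (@D3.rec (fun _ => (Cert rels S Gen.h)) lc_h_rc_35_0 lc_h_Cert_tree lc_h_rc_35_0 lc_h_rc_5_1 lc_h_rc_5_1 lc_h_rc_5_3 lc_h_rc_5_1 lc_h_rc_13_1 lc_h_Cert_tree lc_h_rc_37_1 lc_h_Cert_tree lc_h_rc_35_0 lc_h_rc_41_1 lc_h_Cert_tree lc_h_rc_35_0 lc_h_rc_41_1 lc_h_Cert_tree lc_h_rc_35_0 lc_h_Cert_tree lc_h_rc_35_0 lc_h_rc_26_3 lc_h_rc_35_0 lc_h_rc_37_1 lc_h_rc_20_1 lc_h_rc_13_3 lc_h_rc_13_1 lc_h_rc_5_1 lc_h_rc_31_3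 lc_h_rc_13_1 lc_h_rc_20_1 lc_h_rc_13_1 lc_h_Cert_tree) (@D3.rec (fun _ => (Cert rels S Gen.h)) lc_h_rc_5_1 lc_h_Cert_tree lc_h_rc_35_0 lc_h_rc_35_0 lc_h_Cert_tree lc_h_Cert_tree lc_h_rc_35_0 lc_h_rc_26_3 lc_h_rc_13_1 lc_h_rc_20_1 lc_h_rc_13_1 lc_h_Cert_tree lc_h_rc_20_1 lc_h_Cert_tree lc_h_rc_13_1 lc_h_Cert_tree lc_h_rc_35_0 lc_h_rc_35_0 lc_h_rc_26_3 lc_h_rc_31_3 lc_h_rc_31_1 lc_h_rc_5_1 lc_h_rc_5_1 lc_h_Cert_tree lc_h_rc_35_0 lc_h_rc_5_1 lc_h_Cert_tree lc_h_rc_35_0 lc_h_rc_31_1 lc_h_rc_37_1 lc_h_rc_37_1 lc_h_rc_41_1) (@D3.rec (fun _ => (Cert rels S Gen.h)) lc_h_Cert_tree lc_h_rc_35_0 lc_h_Cert_tree lc_h_rc_35_0 lc_h_rc_26_3 lc_h_Cert_tree lc_h_rc_35_0 lc_h_rc_20_1 lc_h_rc_13_1 lc_h_rc_20_1 lc_h_Cert_tree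 lc_h_rc_13_1 lc_h_Cert_tree lc_h_rc_35_0 lc_h_rc_5_1 lc_h_rc_5_1 lc_h_rc_5_1 lc_h_Cert_tree lc_h_rc_35_0 lc_h_Cert_tree lc_h_rc_35_0 lc_h_rc_26_3 lc_h_Cert_tree lc_h_rc_35_0 lc_h_rc_35_0 lc_h_rc_26_3 lc_h_rc_13_1 lc_h_rc_20_1 lc_h_rc_31_1 lc_h_rc_20_1 lc_h_rc_13_1 lc_h_rc_20_1) (@D3.rec (fun _ => (Cert rels S Gen.h)) lc_h_Cert_tree lc_h_rc_13_1 lc_h_Cert_tree lc_h_rc_35_0 lc_h_Cert_tree lc_h_rc_20_1 lc_h_Cert_tree lc_h_rc_35_0 lc_h_rc_13_1 lc_h_Cert_tree lc_h_rc_35_0 lc_h_rc_36_2 lc_h_rc_31_1 lc_h_rc_26_1 lc_h_rc_37_1 lc_h_rc_5_1 lc_h_rc_5_1 lc_h_Cert_tree lc_h_rc_35_0 lc_h_Cert_tree lc_h_rc_35_0 lc_h_rc_5_1 lc_h_rc_37_1 lc_h_rc_31_1 lc_h_rc_41_1 lc_h_rc_41_1 lc_h_Cert_tree lc_h_rc_35_0 lc_h_rc_37_3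 lc_h_rc_35_0 lc_h_rc_37_1 lc_h_rc_20_1) (@D3.rec (fun _ => (Cert rels S Gen.h)) lc_h_Cert_tree lc_h_rc_35_0 lc_h_rc_35_0 lc_h_rc_26_3 lc_h_rc_13_1 lc_h_rc_20_1 lc_h_rc_31_1 lc_h_rc_20_1 lc_h_rc_31_1 lc_h_rc_20_1 lc_h_rc_37_1 lc_h_rc_26_3 lc_h_rc_37_1 lc_h_rc_5_1 lc_h_rc_31_1 lc_h_rc_5_1 lc_h_rc_37_1 lc_h_rc_37_1 lc_h_rc_36_2 lc_h_Cert_tree lc_h_rc_35_0 lc_h_rc_26_3 lc_h_rc_20_1 lc_h_Cert_tree lc_h_rc_35_0 lc_h_rc_13_1 lc_h_rc_35_0 lc_h_rc_36_2 lc_h_rc_36_2 lc_h_rc_20_1 lc_h_Cert_tree lc_h_rc_13_1) (@D3.rec (fun _ => (Cert rels S Gen.h)) lc_h_Cert_tree lc_h_rc_35_0 lc_h_Cert_tree lc_h_rc_20_1 lc_h_Cert_tree lc_h_rc_35_0 lc_h_rc_13_1 lc_h_Cert_tree lc_h_rc_35_0 lc_h_Cert_tree lc_h_rc_35_0 lc_h_Cert_tree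 lc_h_rc_20_1 lc_h_Cert_tree lc_h_rc_35_0 lc_h_rc_26_3 lc_h_Cert_tree lc_h_rc_35_0 lc_h_rc_13_1 lc_h_rc_5_1 lc_h_Cert_tree lc_h_rc_35_0 lc_h_Cert_tree lc_h_rc_35_0 lc_h_rc_5_1 lc_h_rc_35_0 lc_h_rc_5_1 lc_h_rc_20_1 lc_h_Cert_tree lc_h_rc_35_0 lc_h_rc_26_3 lc_h_rc_35_0) (@D3.rec (fun _ => (Cert rels S Gen.h)) lc_h_rc_37_1 lc_h_rc_20_1 lc_h_rc_5_3 lc_h_rc_46_34 lc_h_rc_35_0 lc_h_Cert_tree lc_h_Cert_tree lc_h_rc_35_0 lc_h_Cert_tree lc_h_rc_35_0 lc_h_rc_20_1 lc_h_rc_31_1 lc_h_rc_35_0 lc_h_rc_13_1 lc_h_rc_20_1 lc_h_rc_13_1 lc_h_rc_37_1 lc_h_rc_31_1 lc_h_rc_20_1 lc_h_Cert_tree lc_h_rc_35_0 lc_h_rc_13_1 lc_h_rc_36_2 lc_h_rc_20_1 lc_h_rc_13_1 lc_h_Cert_tree lc_h_rc_35_0 lc_h_rc_26_3 lc_h_rc_36_2 lc_h_rc_5_1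 lc_h_Cert_tree lc_h_rc_5_1) (@D3.rec (fun _ => (Cert rels S Gen.h)) lc_h_Cert_tree lc_h_rc_35_0 lc_h_rc_5_1 lc_h_Cert_tree lc_h_rc_26_3 lc_h_rc_13_1 lc_h_rc_20_1 lc_h_rc_31_1 lc_h_Cert_tree lc_h_rc_37_1 lc_h_Cert_tree lc_h_rc_35_0 lc_h_rc_41_1 lc_h_Cert_tree lc_h_rc_35_0 lc_h_Cert_tree lc_h_rc_35_0 lc_h_Cert_tree lc_h_rc_35_0 lc_h_rc_26_3 lc_h_rc_13_1 lc_h_rc_20_1 lc_h_rc_13_1 lc_h_Cert_tree lc_h_rc_20_1 lc_h_Cert_tree lc_h_rc_13_1 lc_h_Cert_tree lc_h_rc_35_0 lc_h_rc_26_3 lc_h_rc_5_1 lc_h_rc_31_1) (@D3.rec (fun _ => (Cert rels S Gen.h)) lc_h_Cert_tree lc_h_rc_5_1 lc_h_Cert_tree lc_h_rc_35_0 lc_h_rc_5_1 lc_h_Cert_tree lc_h_rc_35_0 lc_h_rc_31_1 lc_h_Cert_tree lc_h_rc_37_1 lc_h_Cert_tree lc_h_rc_35_0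 lc_h_rc_41_1 lc_h_Cert_tree lc_h_rc_35_0 lc_h_Cert_tree lc_h_rc_35_0 lc_h_rc_26_3 lc_h_rc_35_0 lc_h_rc_13_1 lc_h_rc_20_1 lc_h_Cert_tree lc_h_rc_13_1 lc_h_Cert_tree lc_h_rc_35_0 lc_h_Cert_tree lc_h_rc_20_1 lc_h_Cert_tree lc_h_rc_35_0 lc_h_rc_13_1 lc_h_Cert_tree lc_h_rc_35_0) (@D3.rec (fun _ => (Cert rels S Gen.h)) lc_h_rc_5_1 lc_h_Cert_tree lc_h_rc_35_0 lc_h_Cert_tree lc_h_rc_35_0 lc_h_rc_5_1 lc_h_Cert_tree lc_h_rc_35_0 lc_h_rc_26_3 lc_h_rc_35_0 lc_h_rc_37_1 lc_h_rc_20_1 lc_h_Cert_tree lc_h_rc_35_0 lc_h_rc_13_1 lc_h_rc_13_1 lc_h_rc_35_0 lc_h_rc_35_0 lc_h_rc_5_1 lc_h_rc_5_1 lc_h_rc_5_1 lc_h_Cert_tree lc_h_rc_35_0 lc_h_rc_5_1 lc_h_rc_5_1 lc_h_rc_5_1 lc_h_rc_20_1 lc_h_rc_26_3 lc_h_rc_20_1 lc_h_rc_31_1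 lc_h_Cert_tree lc_h_rc_37_1) (@D3.rec (fun _ => (Cert rels S Gen.h)) lc_h_Cert_tree lc_h_rc_35_0 lc_h_rc_13_1 lc_h_rc_13_1 lc_h_rc_20_1 lc_h_Cert_tree lc_h_rc_37_1 lc_h_rc_37_1 lc_h_rc_20_1 lc_h_Cert_tree lc_h_rc_13_1 lc_h_Cert_tree lc_h_rc_35_0 lc_h_Cert_tree lc_h_Cert_tree lc_h_rc_35_0 lc_h_rc_35_0 lc_h_rc_13_1 lc_h_rc_36_2 lc_h_rc_20_1 lc_h_rc_13_1 lc_h_Cert_tree lc_h_Cert_tree lc_h_rc_35_0 lc_h_Cert_tree lc_h_rc_35_0 lc_h_rc_26_3 lc_h_rc_36_2 lc_h_rc_5_1 lc_h_rc_13_3 lc_h_rc_5_1 lc_h_Cert_tree) (@D3.rec (fun _ => (Cert rels S Gen.h)) lc_h_rc_5_1 lc_h_Cert_tree lc_h_rc_35_0 lc_h_rc_35_0 lc_h_rc_5_1 lc_h_rc_13_1 lc_h_rc_5_1 lc_h_Cert_tree lc_h_Cert_tree lc_h_rc_35_0 lc_h_rc_26_3 lc_h_rc_13_1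 lc_h_rc_35_0 lc_h_rc_41_1 lc_h_rc_36_2 lc_h_rc_20_1 lc_h_rc_31_1 lc_h_Cert_tree lc_h_rc_31_1 lc_h_Cert_tree lc_h_rc_37_1 lc_h_Cert_tree lc_h_rc_35_0 lc_h_rc_41_1 lc_h_Cert_tree lc_h_rc_35_0 lc_h_rc_13_1 lc_h_rc_37_1 lc_h_rc_20_1 lc_h_Cert_tree lc_h_rc_13_1 lc_h_Cert_tree) (@D3.rec (fun _ => (Cert rels S Gen.h)) lc_h_rc_35_0 lc_h_rc_31_1 lc_h_Cert_tree lc_h_rc_13_1 lc_h_Cert_tree lc_h_rc_35_0 lc_h_rc_5_1 lc_h_Cert_tree lc_h_rc_35_0 lc_h_Cert_tree lc_h_Cert_tree lc_h_rc_35_0 lc_h_Cert_tree lc_h_rc_35_0 lc_h_rc_26_3 lc_h_rc_13_1 lc_h_rc_13_1 lc_h_rc_5_3 lc_h_rc_20_1 lc_h_rc_13_1 lc_h_Cert_tree lc_h_rc_20_1 lc_h_Cert_tree lc_h_rc_13_1 lc_h_Cert_tree lc_h_rc_35_0 lc_h_Cert_tree lc_h_rc_35_0 lc_h_rc_26_3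 lc_h_rc_5_1 lc_h_rc_35_0 lc_h_rc_41_1) (@D3.rec (fun _ => (Cert rels S Gen.h)) lc_h_rc_13_3 lc_h_rc_20_1 lc_h_rc_31_1 lc_h_Cert_tree lc_h_rc_5_1 lc_h_Cert_tree lc_h_rc_5_1 lc_h_Cert_tree lc_h_rc_35_0 lc_h_rc_5_1 lc_h_Cert_tree lc_h_rc_35_0 lc_h_rc_20_3 lc_h_rc_5_1 lc_h_rc_13_1 lc_h_rc_13_1 lc_h_rc_13_3 lc_h_Cert_tree lc_h_rc_35_0 lc_h_rc_41_1 lc_h_rc_20_1 lc_h_rc_20_1 lc_h_rc_31_1 lc_h_Cert_tree lc_h_rc_37_1 lc_h_rc_31_1 lc_h_rc_20_1 lc_h_rc_41_1 lc_h_Cert_tree lc_h_rc_13_1 lc_h_rc_20_1 lc_h_Cert_tree)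
def ce_h_6 : D2 → D3 → (Cert rels S Gen.h) := @D2.rec (fun _ => D3 → (Cert rels S Gen.h)) (@D3.rec (fun _ => (Cert rels S Gen.h)) lc_h_rc_37_1 lc_h_Cert_tree lc_h_rc_35_0 lc_h_rc_37_1 lc_h_Cert_tree lc_h_rc_35_0 lc_h_rc_41_1 lc_h_Cert_tree lc_h_rc_35_0 lc_h_Cert_tree lc_h_rc_35_0 lc_h_rc_26_3 lc_h_rc_13_1 lc_h_rc_36_2 lc_h_rc_5_1 lc_h_rc_37_1 lc_h_rc_5_1 lc_h_rc_37_1 lc_h_rc_20_3 lc_h_Cert_tree lc_h_rc_35_0 lc_h_Cert_tree lc_h_rc_35_0 lc_h_rc_26_3 lc_h_rc_13_1 lc_h_rc_41_1 lc_h_rc_20_1 lc_h_rc_31_1 lc_h_rc_20_1 lc_h_rc_13_1 lc_h_rc_20_1 lc_h_rc_20_1) (@D3.rec (fun _ => (Cert rels S Gen.h)) lc_h_rc_31_1 lc_h_Cert_tree lc_h_rc_35_0 lc_h_rc_41_1 lc_h_rc_36_2 lc_h_rc_20_1 lc_h_rc_31_1 lc_h_rc_37_1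 lc_h_rc_20_1 lc_h_rc_41_1 lc_h_rc_13_1 lc_h_rc_20_1 lc_h_rc_13_1 lc_h_rc_5_1 lc_h_rc_35_0 lc_h_rc_5_1 lc_h_rc_20_1 lc_h_rc_41_1 lc_h_rc_26_1 lc_h_rc_13_1 lc_h_rc_20_1 lc_h_rc_20_1 lc_h_rc_31_1 lc_h_rc_5_1 lc_h_rc_5_1 lc_h_Cert_tree lc_h_rc_35_0 lc_h_rc_13_1 lc_h_rc_13_1 lc_h_rc_35_0 lc_h_rc_5_1 lc_h_rc_5_1) (@D3.rec (fun _ => (Cert rels S Gen.h)) lc_h_rc_36_2 lc_h_rc_35_0 lc_h_rc_5_1 lc_h_rc_5_1 lc_h_rc_5_1 lc_h_rc_20_1 lc_h_rc_36_2 lc_h_rc_35_0 lc_h_rc_13_1 lc_h_rc_13_1 lc_h_rc_20_1 lc_h_Cert_tree lc_h_rc_37_1 lc_h_rc_37_1 lc_h_Cert_tree lc_h_rc_13_1 lc_h_Cert_tree lc_h_rc_35_0 lc_h_Cert_tree lc_h_Cert_tree lc_h_rc_35_0 lc_h_rc_35_0 lc_h_rc_13_1 lc_h_rc_13_1 lc_h_rc_20_1 lc_h_rc_13_1 lc_h_Cert_tree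 lc_h_rc_35_0 lc_h_rc_35_0 lc_h_rc_26_3 lc_h_rc_5_1 lc_h_rc_5_1) (@D3.rec (fun _ => (Cert rels S Gen.h)) lc_h_rc_20_1 lc_h_rc_36_2 lc_h_rc_5_1 lc_h_Cert_tree lc_h_rc_35_0 lc_h_rc_5_1 lc_h_rc_5_1 lc_h_rc_5_1 lc_h_Cert_tree lc_h_rc_26_3 lc_h_rc_36_2 lc_h_rc_20_3 lc_h_rc_20_1 lc_h_rc_37_3 lc_h_rc_20_1 lc_h_Cert_tree lc_h_rc_36_2 lc_h_Cert_tree lc_h_rc_35_0 lc_h_rc_20_1 lc_h_Cert_tree lc_h_rc_13_1 lc_h_Cert_tree lc_h_rc_35_0 lc_h_rc_35_0 lc_h_rc_5_1 lc_h_Cert_tree lc_h_rc_35_0 lc_h_Cert_tree lc_h_Cert_tree lc_h_rc_35_0 lc_h_Cert_tree) (@D3.rec (fun _ => (Cert rels S Gen.h)) lc_h_rc_35_0 lc_h_rc_26_3 lc_h_rc_13_1 lc_h_rc_13_1 lc_h_rc_13_1 lc_h_rc_20_1 lc_h_rc_13_1 lc_h_Cert_tree lc_h_rc_20_1 lc_h_Cert_tree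 lc_h_rc_13_1 lc_h_Cert_tree lc_h_rc_35_0 lc_h_Cert_tree lc_h_rc_35_0 lc_h_rc_26_3 lc_h_rc_5_1 lc_h_rc_35_0 lc_h_rc_41_1 lc_h_rc_5_1 lc_h_rc_20_1 lc_h_rc_31_1 lc_h_Cert_tree lc_h_rc_5_1 lc_h_rc_26_1 lc_h_rc_5_1 lc_h_Cert_tree lc_h_rc_35_0 lc_h_rc_5_1 lc_h_Cert_tree lc_h_rc_35_0 lc_h_rc_20_3) (@D3.rec (fun _ => (Cert rels S Gen.h)) lc_h_rc_5_1 lc_h_Cert_tree lc_h_rc_13_1 lc_h_Cert_tree lc_h_rc_35_0 lc_h_rc_35_0 lc_h_rc_41_1 lc_h_rc_36_2 lc_h_rc_20_1 lc_h_rc_31_1 lc_h_Cert_tree lc_h_rc_37_1 lc_h_rc_37_1 lc_h_rc_20_1 lc_h_rc_37_3 lc_h_Cert_tree lc_h_rc_13_1 lc_h_rc_20_1 lc_h_Cert_tree lc_h_rc_37_1 lc_h_Cert_tree lc_h_rc_35_0 lc_h_rc_37_1 lc_h_rc_31_1 lc_h_rc_41_1 lc_h_Cert_tree lc_h_rc_35_0 lc_h_Cert_tree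 lc_h_rc_35_0 lc_h_rc_26_3 lc_h_Cert_tree lc_h_rc_35_0) (@D3.rec (fun _ => (Cert rels S Gen.h)) lc_h_rc_5_1 lc_h_Cert_tree lc_h_rc_35_0 lc_h_Cert_tree lc_h_rc_35_0 lc_h_Cert_tree lc_h_rc_20_3 lc_h_rc_35_0 lc_h_rc_35_0 lc_h_rc_26_3 lc_h_rc_13_1 lc_h_rc_5_1 lc_h_rc_13_1 lc_h_rc_20_1 lc_h_rc_13_1 lc_h_Cert_tree lc_h_rc_20_1 lc_h_Cert_tree lc_h_rc_13_1 lc_h_Cert_tree lc_h_rc_35_0 lc_h_rc_26_3 lc_h_rc_5_1 lc_h_rc_20_3 lc_h_rc_5_1 lc_h_rc_20_1 lc_h_rc_20_3 lc_h_Cert_tree lc_h_rc_31_1 lc_h_rc_5_1 lc_h_rc_36_2 lc_h_rc_35_0) (@D3.rec (fun _ => (Cert rels S Gen.h)) lc_h_rc_5_1 lc_h_Cert_tree lc_h_rc_35_0 lc_h_rc_5_1 lc_h_rc_13_3 lc_h_rc_20_1 lc_h_Cert_tree lc_h_Cert_tree lc_h_rc_41_1 lc_h_Cert_tree lc_h_rc_13_1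 lc_h_Cert_tree lc_h_rc_35_0 lc_h_rc_37_1 lc_h_Cert_tree lc_h_rc_35_0 lc_h_rc_26_3 lc_h_Cert_tree lc_h_rc_35_0 lc_h_Cert_tree lc_h_rc_35_0 lc_h_rc_26_3 lc_h_rc_13_1 lc_h_rc_41_1 lc_h_rc_13_1 lc_h_rc_20_1 lc_h_rc_31_1 lc_h_Cert_tree lc_h_rc_20_1 lc_h_rc_13_1 lc_h_Cert_tree lc_h_rc_20_1) (@D3.rec (fun _ => (Cert rels S Gen.h)) lc_h_Cert_tree lc_h_rc_13_1 lc_h_Cert_tree lc_h_rc_35_0 lc_h_Cert_tree lc_h_rc_20_1 lc_h_Cert_tree lc_h_rc_35_0 lc_h_rc_13_1 lc_h_Cert_tree lc_h_rc_35_0 lc_h_Cert_tree lc_h_rc_35_0 lc_h_rc_41_1 lc_h_rc_36_2 lc_h_rc_20_1 lc_h_rc_31_1 lc_h_Cert_tree lc_h_rc_41_1 lc_h_Cert_tree lc_h_rc_13_1 lc_h_rc_20_1 lc_h_Cert_tree lc_h_rc_37_1 lc_h_Cert_tree lc_h_rc_35_0 lc_h_rc_5_1 lc_h_Cert_tree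 lc_h_rc_35_0 lc_h_rc_5_1 lc_h_Cert_tree lc_h_rc_35_0) (@D3.rec (fun _ => (Cert rels S Gen.h)) lc_h_Cert_tree lc_h_rc_35_0 lc_h_rc_5_1 lc_h_rc_5_1 lc_h_rc_5_3 lc_h_rc_35_0 lc_h_rc_36_2 lc_h_rc_41_1 lc_h_Cert_tree lc_h_rc_13_1 lc_h_rc_20_1 lc_h_Cert_tree lc_h_rc_37_1 lc_h_Cert_tree lc_h_rc_35_0 lc_h_rc_37_1 lc_h_Cert_tree lc_h_rc_35_0 lc_h_rc_5_1 lc_h_rc_13_1 lc_h_Cert_tree lc_h_rc_20_1 lc_h_Cert_tree lc_h_rc_35_0 lc_h_rc_41_1 lc_h_Cert_tree lc_h_rc_35_0 lc_h_rc_41_1 lc_h_Cert_tree lc_h_rc_35_0 lc_h_Cert_tree lc_h_rc_35_0) (@D3.rec (fun _ => (Cert rels S Gen.h)) lc_h_rc_26_3 lc_h_rc_35_0 lc_h_rc_37_1 lc_h_rc_20_1 lc_h_rc_13_3 lc_h_Cert_tree lc_h_rc_35_0 lc_h_rc_35_0 lc_h_rc_26_3 lc_h_rc_13_1 lc_h_rc_20_1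 lc_h_rc_31_1 lc_h_rc_20_1 lc_h_rc_5_1 lc_h_rc_31_1 lc_h_rc_26_3 lc_h_rc_31_1 lc_h_rc_35_0 lc_h_rc_26_3 lc_h_rc_20_1 lc_h_rc_13_1 lc_h_rc_20_1 lc_h_rc_13_1 lc_h_rc_13_1 lc_h_rc_13_1 lc_h_rc_13_3 lc_h_rc_5_1 lc_h_rc_5_1 lc_h_rc_36_2 lc_h_rc_20_1 lc_h_rc_20_1 lc_h_Cert_tree) (@D3.rec (fun _ => (Cert rels S Gen.h)) lc_h_rc_13_1 lc_h_Cert_tree lc_h_rc_35_0 lc_h_rc_20_1 lc_h_Cert_tree lc_h_rc_13_1 lc_h_Cert_tree lc_h_rc_35_0 lc_h_Cert_tree lc_h_rc_20_1 lc_h_Cert_tree lc_h_rc_35_0 lc_h_rc_13_1 lc_h_Cert_tree lc_h_rc_35_0 lc_h_Cert_tree lc_h_rc_35_0 lc_h_Cert_tree lc_h_rc_20_1 lc_h_Cert_tree lc_h_rc_35_0 lc_h_rc_26_3 lc_h_Cert_tree lc_h_rc_35_0 lc_h_rc_13_1 lc_h_rc_5_1 lc_h_rc_13_1 lc_h_Cert_tree lc_h_rc_5_1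 lc_h_Cert_tree lc_h_rc_35_0 lc_h_rc_5_1) (@D3.rec (fun _ => (Cert rels S Gen.h)) lc_h_Cert_tree lc_h_rc_35_0 lc_h_rc_5_1 lc_h_Cert_tree lc_h_rc_35_0 lc_h_Cert_tree lc_h_rc_35_0 lc_h_rc_26_3 lc_h_rc_35_0 lc_h_rc_5_1 lc_h_rc_20_1 lc_h_rc_36_2 lc_h_rc_5_1 lc_h_Cert_tree lc_h_rc_13_1 lc_h_Cert_tree lc_h_rc_35_0 lc_h_rc_41_1 lc_h_Cert_tree lc_h_rc_35_0 lc_h_Cert_tree lc_h_rc_35_0 lc_h_rc_26_3 lc_h_Cert_tree lc_h_rc_35_0 lc_h_rc_26_3 lc_h_rc_35_0 lc_h_rc_26_3 lc_h_rc_20_1 lc_h_rc_20_1 lc_h_rc_13_1 lc_h_rc_20_1) (@D3.rec (fun _ => (Cert rels S Gen.h)) lc_h_rc_20_1 lc_h_rc_20_1 lc_h_Cert_tree lc_h_rc_13_1 lc_h_Cert_tree lc_h_rc_35_0 lc_h_rc_35_0 lc_h_rc_26_3 lc_h_Cert_tree lc_h_rc_35_0 lc_h_rc_35_0 lc_h_rc_26_3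 lc_h_rc_31_3 lc_h_rc_20_1 lc_h_rc_31_1 lc_h_rc_20_1 lc_h_rc_13_1 lc_h_rc_20_1 lc_h_Cert_tree lc_h_rc_13_1 lc_h_Cert_tree lc_h_rc_35_0 lc_h_Cert_tree lc_h_rc_20_1 lc_h_Cert_tree lc_h_rc_35_0 lc_h_rc_13_1 lc_h_Cert_tree lc_h_rc_35_0 lc_h_rc_31_1 lc_h_rc_37_1 lc_h_rc_5_1) (@D3.rec (fun _ => (Cert rels S Gen.h)) lc_h_rc_5_1 lc_h_Cert_tree lc_h_rc_35_0 lc_h_Cert_tree lc_h_rc_35_0 lc_h_rc_5_1 lc_h_rc_37_1 lc_h_rc_41_1 lc_h_rc_41_1 lc_h_Cert_tree lc_h_rc_35_0 lc_h_rc_35_0 lc_h_rc_37_1 lc_h_rc_20_1 lc_h_rc_35_0 lc_h_rc_13_1 lc_h_rc_20_1 lc_h_rc_13_1 lc_h_Cert_tree lc_h_rc_20_1 lc_h_Cert_tree lc_h_rc_35_0 lc_h_rc_13_1 lc_h_Cert_tree lc_h_rc_35_0 lc_h_Cert_tree lc_h_rc_35_0 lc_h_rc_5_1 lc_h_rc_35_0 lc_h_rc_37_1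 lc_h_rc_20_1 lc_h_rc_35_0) (@D3.rec (fun _ => (Cert rels S Gen.h)) lc_h_rc_13_1 lc_h_rc_20_1 lc_h_rc_36_2 lc_h_rc_20_1 lc_h_rc_31_1 lc_h_rc_26_1 lc_h_rc_20_1 lc_h_rc_37_1 lc_h_rc_20_1 lc_h_rc_13_1 lc_h_Cert_tree lc_h_rc_20_1 lc_h_Cert_tree lc_h_rc_35_0 lc_h_rc_13_1 lc_h_Cert_tree lc_h_rc_35_0 lc_h_Cert_tree lc_h_rc_35_0 lc_h_Cert_tree lc_h_rc_20_1 lc_h_Cert_tree lc_h_rc_35_0 lc_h_rc_26_3 lc_h_Cert_tree lc_h_rc_35_0 lc_h_rc_13_1 lc_h_rc_37_1 lc_h_rc_31_1 lc_h_rc_41_1 lc_h_rc_5_1 lc_h_Cert_tree) (@D3.rec (fun _ => (Cert rels S Gen.h)) lc_h_rc_35_0 lc_h_rc_37_3 lc_h_rc_35_0 lc_h_rc_5_1 lc_h_rc_20_1 lc_h_rc_41_1 lc_h_rc_36_2 lc_h_rc_35_0 lc_h_rc_20_3 lc_h_rc_37_3 lc_h_rc_35_0 lc_h_rc_26_3 lc_h_rc_20_1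 lc_h_rc_13_1 lc_h_rc_20_1 lc_h_rc_31_1 lc_h_rc_13_1 lc_h_rc_31_1 lc_h_rc_37_1 lc_h_rc_5_1 lc_h_rc_37_1 lc_h_rc_20_3 lc_h_rc_35_0 lc_h_rc_26_3 lc_h_rc_20_1 lc_h_rc_31_1 lc_h_Cert_tree lc_h_rc_35_0 lc_h_rc_36_2 lc_h_rc_36_2 lc_h_Cert_tree lc_h_rc_20_1) (@D3.rec (fun _ => (Cert rels S Gen.h)) lc_h_Cert_tree lc_h_rc_35_0 lc_h_rc_13_1 lc_h_Cert_tree lc_h_rc_35_0 lc_h_Cert_tree lc_h_rc_35_0 lc_h_Cert_tree lc_h_rc_20_1 lc_h_Cert_tree lc_h_rc_35_0 lc_h_rc_26_3 lc_h_Cert_tree lc_h_rc_35_0 lc_h_rc_13_1 lc_h_rc_20_1 lc_h_rc_20_1 lc_h_rc_35_0 lc_h_Cert_tree lc_h_Cert_tree lc_h_rc_35_0 lc_h_Cert_tree lc_h_rc_35_0 lc_h_rc_13_3 lc_h_rc_31_1 lc_h_rc_35_0 lc_h_rc_13_1 lc_h_rc_20_1 lc_h_Cert_tree lc_h_rc_35_0 lc_h_rc_5_1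 lc_h_rc_35_0) (@D3.rec (fun _ => (Cert rels S Gen.h)) lc_h_rc_5_1 lc_h_rc_20_1 lc_h_rc_13_1 lc_h_rc_35_0 lc_h_rc_37_1 lc_h_rc_20_1 lc_h_rc_26_1 lc_h_Cert_tree lc_h_Cert_tree lc_h_rc_35_0 lc_h_rc_35_0 lc_h_rc_35_0 lc_h_rc_31_1 lc_h_Cert_tree lc_h_rc_35_0 lc_h_rc_26_3 lc_h_rc_36_2 lc_h_rc_20_1 lc_h_rc_13_1 lc_h_Cert_tree lc_h_rc_20_1 lc_h_Cert_tree lc_h_rc_13_1 lc_h_Cert_tree lc_h_rc_35_0 lc_h_rc_26_3 lc_h_rc_36_2 lc_h_rc_20_1 lc_h_rc_31_1 lc_h_Cert_tree lc_h_rc_5_1 lc_h_Cert_tree) (@D3.rec (fun _ => (Cert rels S Gen.h)) lc_h_rc_35_0 lc_h_rc_5_1 lc_h_Cert_tree lc_h_rc_35_0 lc_h_rc_13_1 lc_h_Cert_tree lc_h_rc_35_0 lc_h_rc_20_1 lc_h_rc_31_1 lc_h_Cert_tree lc_h_rc_37_1 lc_h_Cert_tree lc_h_rc_41_1 lc_h_Cert_tree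 lc_h_rc_35_0 lc_h_rc_41_1 lc_h_Cert_tree lc_h_rc_35_0 lc_h_Cert_tree lc_h_rc_35_0 lc_h_rc_13_1 lc_h_rc_35_0 lc_h_rc_35_0 lc_h_rc_26_3 lc_h_rc_13_1 lc_h_rc_20_1 lc_h_rc_31_1 lc_h_Cert_tree lc_h_rc_20_1 lc_h_Cert_tree lc_h_rc_13_1 lc_h_Cert_tree) (@D3.rec (fun _ => (Cert rels S Gen.h)) lc_h_rc_35_0 lc_h_Cert_tree lc_h_rc_20_1 lc_h_Cert_tree lc_h_rc_35_0 lc_h_rc_13_1 lc_h_Cert_tree lc_h_rc_35_0 lc_h_rc_31_1 lc_h_Cert_tree lc_h_rc_37_1 lc_h_Cert_tree lc_h_rc_35_0 lc_h_rc_5_1 lc_h_Cert_tree lc_h_rc_35_0 lc_h_Cert_tree lc_h_rc_35_0 lc_h_rc_5_1 lc_h_rc_37_1 lc_h_Cert_tree lc_h_rc_35_0 lc_h_rc_41_1 lc_h_Cert_tree lc_h_rc_35_0 lc_h_Cert_tree lc_h_rc_35_0 lc_h_rc_26_3 lc_h_rc_35_0 lc_h_rc_37_1 lc_h_rc_20_1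 lc_h_rc_26_3) (@D3.rec (fun _ => (Cert rels S Gen.h)) lc_h_rc_20_1 lc_h_Cert_tree lc_h_rc_20_1 lc_h_Cert_tree lc_h_rc_35_0 lc_h_rc_13_1 lc_h_Cert_tree lc_h_rc_35_0 lc_h_Cert_tree lc_h_rc_35_0 lc_h_Cert_tree lc_h_rc_20_1 lc_h_Cert_tree lc_h_rc_35_0 lc_h_rc_26_3 lc_h_Cert_tree lc_h_rc_35_0 lc_h_rc_13_1 lc_h_Cert_tree lc_h_rc_35_0 lc_h_rc_26_3 lc_h_rc_35_0 lc_h_rc_5_1 lc_h_rc_20_1 lc_h_rc_35_0 lc_h_rc_26_3 lc_h_rc_20_1 lc_h_rc_41_1 lc_h_rc_20_1 lc_h_rc_31_1 lc_h_rc_13_1 lc_h_rc_35_0)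
def ce_h_7 : D2 → D3 → (Cert rels S Gen.h) := @D2.rec (fun _ => D3 → (Cert rels S Gen.h)) (@D3.rec (fun _ => (Cert rels S Gen.h)) lc_h_rc_13_1 lc_h_rc_13_1 lc_h_rc_20_1 lc_h_rc_13_1 lc_h_Cert_tree lc_h_rc_5_1 lc_h_rc_5_1 lc_h_rc_5_1 lc_h_rc_5_1 lc_h_Cert_tree lc_h_rc_5_1 lc_h_Cert_tree lc_h_rc_35_0 lc_h_rc_5_1 lc_h_rc_5_1 lc_h_rc_5_1 lc_h_Cert_tree lc_h_Cert_tree lc_h_rc_37_1 lc_h_Cert_tree lc_h_rc_35_0 lc_h_rc_41_1 lc_h_Cert_tree lc_h_rc_35_0 lc_h_Cert_tree lc_h_rc_13_1 lc_h_Cert_tree lc_h_rc_35_0 lc_h_rc_20_1 lc_h_rc_31_1 lc_h_Cert_tree lc_h_rc_13_1) (@D3.rec (fun _ => (Cert rels S Gen.h)) lc_h_Cert_tree lc_h_rc_35_0 lc_h_rc_5_1 lc_h_Cert_tree lc_h_rc_35_0 lc_h_Cert_tree lc_h_Cert_tree lc_h_rc_35_0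 lc_h_Cert_tree lc_h_rc_35_0 lc_h_rc_26_3 lc_h_rc_36_2 lc_h_rc_13_1 lc_h_rc_36_2 lc_h_rc_20_1 lc_h_rc_13_1 lc_h_Cert_tree lc_h_rc_20_1 lc_h_Cert_tree lc_h_rc_13_1 lc_h_Cert_tree lc_h_rc_35_0 lc_h_Cert_tree lc_h_rc_35_0 lc_h_rc_26_3 lc_h_rc_36_2 lc_h_rc_35_0 lc_h_rc_41_1 lc_h_rc_13_3 lc_h_rc_20_1 lc_h_rc_31_1 lc_h_Cert_tree) (@D3.rec (fun _ => (Cert rels S Gen.h)) lc_h_rc_5_1 lc_h_Cert_tree lc_h_rc_5_1 lc_h_Cert_tree lc_h_rc_35_0 lc_h_rc_5_1 lc_h_Cert_tree lc_h_rc_35_0 lc_h_rc_5_1 lc_h_rc_20_3 lc_h_rc_5_1 lc_h_Cert_tree lc_h_rc_13_1 lc_h_Cert_tree lc_h_rc_35_0 lc_h_rc_35_0 lc_h_rc_41_1 lc_h_rc_36_2 lc_h_rc_20_1 lc_h_rc_31_1 lc_h_Cert_tree lc_h_rc_37_1 lc_h_rc_37_1 lc_h_rc_20_1 lc_h_rc_41_1 lc_h_Cert_tree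 lc_h_rc_13_1 lc_h_rc_20_1 lc_h_Cert_tree lc_h_rc_37_1 lc_h_Cert_tree lc_h_rc_35_0) (@D3.rec (fun _ => (Cert rels S Gen.h)) lc_h_Cert_tree lc_h_rc_35_0 lc_h_rc_41_1 lc_h_Cert_tree lc_h_rc_35_0 lc_h_Cert_tree lc_h_rc_35_0 lc_h_rc_26_3 lc_h_rc_20_1 lc_h_rc_31_1 lc_h_Cert_tree lc_h_rc_13_1 lc_h_Cert_tree lc_h_rc_35_0 lc_h_rc_5_1 lc_h_Cert_tree lc_h_rc_35_0 lc_h_Cert_tree lc_h_rc_35_0 lc_h_rc_5_1 lc_h_Cert_tree lc_h_rc_35_0 lc_h_Cert_tree lc_h_rc_35_0 lc_h_Cert_tree lc_h_rc_35_0 lc_h_Cert_tree lc_h_rc_35_0 lc_h_rc_26_3 lc_h_rc_13_1 lc_h_rc_35_0 lc_h_rc_41_1) (@D3.rec (fun _ => (Cert rels S Gen.h)) lc_h_rc_5_3 lc_h_rc_20_1 lc_h_rc_31_1 lc_h_Cert_tree lc_h_rc_20_1 lc_h_rc_13_1 lc_h_Cert_tree lc_h_rc_20_1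 lc_h_Cert_tree lc_h_rc_13_1 lc_h_Cert_tree lc_h_rc_35_0 lc_h_Cert_tree lc_h_rc_20_1 lc_h_Cert_tree lc_h_rc_35_0 lc_h_rc_13_1 lc_h_Cert_tree lc_h_rc_35_0 lc_h_Cert_tree lc_h_rc_35_0 lc_h_rc_41_1 lc_h_rc_13_3 lc_h_rc_20_1 lc_h_rc_31_1 lc_h_Cert_tree lc_h_rc_37_1 lc_h_rc_13_3 lc_h_rc_20_1 lc_h_rc_41_1 lc_h_Cert_tree lc_h_rc_13_1) (@D3.rec (fun _ => (Cert rels S Gen.h)) lc_h_rc_20_1 lc_h_Cert_tree lc_h_rc_37_1 lc_h_Cert_tree lc_h_rc_35_0 lc_h_rc_5_1 lc_h_Cert_tree lc_h_rc_35_0 lc_h_rc_5_1 lc_h_Cert_tree lc_h_rc_35_0 lc_h_Cert_tree lc_h_rc_35_0 lc_h_rc_5_1 lc_h_rc_13_1 lc_h_rc_13_3 lc_h_rc_5_1 lc_h_rc_5_3 lc_h_rc_35_0 lc_h_rc_37_1 lc_h_rc_20_1 lc_h_rc_20_1 lc_h_rc_41_1 lc_h_Cert_tree lc_h_rc_13_1 lc_h_rc_20_1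 lc_h_Cert_tree lc_h_rc_37_1 lc_h_Cert_tree lc_h_rc_35_0 lc_h_rc_37_1 lc_h_Cert_tree) (@D3.rec (fun _ => (Cert rels S Gen.h)) lc_h_rc_46_27 lc_h_rc_41_1 lc_h_Cert_tree lc_h_rc_37_1 lc_h_Cert_tree lc_h_rc_35_0 lc_h_rc_5_1 lc_h_rc_41_1 lc_h_Cert_tree lc_h_rc_20_1 lc_h_Cert_tree lc_h_rc_35_0 lc_h_rc_41_1 lc_h_Cert_tree lc_h_rc_35_0 lc_h_rc_41_1 lc_h_Cert_tree lc_h_rc_35_0 lc_h_Cert_tree lc_h_rc_35_0 lc_h_rc_26_3 lc_h_rc_35_0 lc_h_rc_37_1 lc_h_rc_20_1 lc_h_rc_5_1 lc_h_rc_37_1 lc_h_rc_13_3 lc_h_rc_20_3 lc_h_Cert_tree lc_h_rc_35_0 lc_h_rc_26_3 lc_h_rc_20_1) (@D3.rec (fun _ => (Cert rels S Gen.h)) lc_h_Cert_tree lc_h_rc_35_0 lc_h_rc_41_1 lc_h_rc_13_1 lc_h_rc_20_1 lc_h_rc_31_1 lc_h_rc_13_3 lc_h_rc_20_1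 lc_h_rc_41_1 lc_h_rc_13_1 lc_h_rc_20_1 lc_h_rc_20_1 lc_h_rc_20_3 lc_h_rc_31_1 lc_h_rc_35_0 lc_h_rc_37_1 lc_h_rc_20_1 lc_h_rc_41_1 lc_h_rc_26_1 lc_h_rc_13_1 lc_h_rc_20_1 lc_h_rc_13_3 lc_h_rc_31_1 lc_h_rc_13_1 lc_h_rc_5_1 lc_h_rc_13_1 lc_h_rc_5_1 lc_h_rc_31_1 lc_h_rc_36_2 lc_h_rc_31_1 lc_h_rc_5_1 lc_h_rc_37_1) (@D3.rec (fun _ => (Cert rels S Gen.h)) lc_h_rc_31_1 lc_h_rc_35_0 lc_h_rc_13_1 lc_h_rc_20_1 lc_h_rc_13_1 lc_h_rc_36_2 lc_h_rc_5_1 lc_h_rc_36_2 lc_h_rc_5_1 lc_h_rc_5_1 lc_h_rc_5_1 lc_h_Cert_tree lc_h_rc_13_1 lc_h_rc_13_1 lc_h_rc_20_1 lc_h_Cert_tree lc_h_rc_13_1 lc_h_Cert_tree lc_h_rc_35_0 lc_h_Cert_tree lc_h_rc_35_0 lc_h_rc_5_1 lc_h_Cert_tree lc_h_rc_35_0 lc_h_Cert_tree lc_h_rc_35_0 lc_h_rc_35_0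 lc_h_rc_26_3 lc_h_rc_13_1 lc_h_rc_13_1 lc_h_rc_20_1 lc_h_rc_13_1) (@D3.rec (fun _ => (Cert rels S Gen.h)) lc_h_rc_36_2 lc_h_rc_20_1 lc_h_Cert_tree lc_h_rc_13_1 lc_h_Cert_tree lc_h_rc_35_0 lc_h_rc_26_3 lc_h_rc_5_1 lc_h_rc_20_3 lc_h_rc_5_1 lc_h_rc_37_3 lc_h_rc_20_1 lc_h_Cert_tree lc_h_rc_36_2 lc_h_Cert_tree lc_h_rc_35_0 lc_h_rc_5_1 lc_h_Cert_tree lc_h_rc_13_1 lc_h_Cert_tree lc_h_rc_35_0 lc_h_Cert_tree lc_h_rc_41_1 lc_h_Cert_tree lc_h_rc_37_3 lc_h_Cert_tree lc_h_Cert_tree lc_h_rc_35_0 lc_h_rc_35_0 lc_h_rc_13_1 lc_h_Cert_tree lc_h_rc_35_0) (@D3.rec (fun _ => (Cert rels S Gen.h)) lc_h_rc_5_1 lc_h_Cert_tree lc_h_rc_35_0 lc_h_Cert_tree lc_h_rc_35_0 lc_h_Cert_tree lc_h_rc_35_0 lc_h_Cert_tree lc_h_rc_35_0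 lc_h_rc_26_3 lc_h_rc_13_1 lc_h_rc_35_0 lc_h_rc_41_1 lc_h_rc_13_1 lc_h_rc_20_1 lc_h_rc_31_1 lc_h_Cert_tree lc_h_rc_20_1 lc_h_rc_13_1 lc_h_rc_35_0 lc_h_rc_20_1 lc_h_Cert_tree lc_h_rc_13_1 lc_h_Cert_tree lc_h_rc_35_0 lc_h_Cert_tree lc_h_rc_20_1 lc_h_Cert_tree lc_h_rc_35_0 lc_h_rc_13_1 lc_h_Cert_tree lc_h_rc_35_0) (@D3.rec (fun _ => (Cert rels S Gen.h)) lc_h_rc_35_0 lc_h_rc_41_1 lc_h_rc_36_2 lc_h_rc_20_1 lc_h_rc_31_1 lc_h_Cert_tree lc_h_rc_37_1 lc_h_rc_13_3 lc_h_rc_20_1 lc_h_rc_37_3 lc_h_Cert_tree lc_h_rc_13_1 lc_h_rc_20_1 lc_h_Cert_tree lc_h_rc_37_1 lc_h_Cert_tree lc_h_rc_35_0 lc_h_rc_5_1 lc_h_rc_31_1 lc_h_rc_5_1 lc_h_Cert_tree lc_h_rc_35_0 lc_h_Cert_tree lc_h_rc_35_0 lc_h_rc_5_1 lc_h_rc_13_1 lc_h_Cert_tree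 lc_h_rc_35_0 lc_h_rc_5_1 lc_h_Cert_tree lc_h_rc_35_0 lc_h_rc_37_1) (@D3.rec (fun _ => (Cert rels S Gen.h)) lc_h_rc_37_1 lc_h_rc_20_1 lc_h_Cert_tree lc_h_rc_13_1 lc_h_rc_20_1 lc_h_Cert_tree lc_h_rc_37_1 lc_h_Cert_tree lc_h_rc_35_0 lc_h_rc_37_1 lc_h_Cert_tree lc_h_rc_37_1 lc_h_Cert_tree lc_h_rc_20_1 lc_h_Cert_tree lc_h_rc_35_0 lc_h_rc_5_1 lc_h_rc_47_34 lc_h_Cert_tree lc_h_rc_37_1 lc_h_Cert_tree lc_h_rc_35_0 lc_h_rc_37_1 lc_h_Cert_tree lc_h_rc_35_0 lc_h_rc_41_1 lc_h_rc_36_2 lc_h_Cert_tree lc_h_rc_35_0 lc_h_rc_26_3 lc_h_rc_35_0 lc_h_rc_37_1) (@D3.rec (fun _ => (Cert rels S Gen.h)) lc_h_rc_20_1 lc_h_rc_35_0 lc_h_Cert_tree lc_h_rc_35_0 lc_h_rc_26_3 lc_h_rc_35_0 lc_h_rc_13_3 lc_h_rc_35_0 lc_h_rc_26_3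 lc_h_rc_13_1 lc_h_rc_20_3 lc_h_rc_13_1 lc_h_rc_20_1 lc_h_rc_26_3 lc_h_Cert_tree lc_h_rc_26_1 lc_h_rc_31_1 lc_h_rc_20_1 lc_h_Cert_tree lc_h_rc_13_1 lc_h_rc_36_2 lc_h_rc_35_0 lc_h_Cert_tree lc_h_rc_20_1 lc_h_Cert_tree lc_h_rc_35_0 lc_h_rc_13_1 lc_h_Cert_tree lc_h_rc_35_0 lc_h_rc_20_1 lc_h_Cert_tree lc_h_Cert_tree) (@D3.rec (fun _ => (Cert rels S Gen.h)) lc_h_rc_13_1 lc_h_rc_5_1 lc_h_Cert_tree lc_h_rc_5_1 lc_h_Cert_tree lc_h_rc_35_0 lc_h_rc_36_2 lc_h_Cert_tree lc_h_rc_35_0 lc_h_rc_5_1 lc_h_rc_5_3 lc_h_Cert_tree lc_h_rc_35_0 lc_h_rc_35_0 lc_h_rc_41_1 lc_h_Cert_tree lc_h_rc_35_0 lc_h_Cert_tree lc_h_rc_35_0 lc_h_rc_35_0 lc_h_rc_37_1 lc_h_rc_20_1 lc_h_Cert_tree lc_h_rc_35_0 lc_h_rc_26_3 lc_h_rc_20_1 lc_h_Cert_tree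 lc_h_rc_35_0 lc_h_rc_41_1 lc_h_rc_36_2 lc_h_rc_20_1 lc_h_rc_31_1) (@D3.rec (fun _ => (Cert rels S Gen.h)) lc_h_Cert_tree lc_h_rc_20_1 lc_h_rc_41_1 lc_h_Cert_tree lc_h_rc_13_1 lc_h_rc_20_1 lc_h_Cert_tree lc_h_rc_37_1 lc_h_Cert_tree lc_h_rc_35_0 lc_h_rc_20_1 lc_h_Cert_tree lc_h_rc_13_1 lc_h_Cert_tree lc_h_rc_35_0 lc_h_Cert_tree lc_h_rc_20_1 lc_h_Cert_tree lc_h_rc_35_0 lc_h_rc_13_1 lc_h_Cert_tree lc_h_rc_35_0 lc_h_Cert_tree lc_h_rc_35_0 lc_h_Cert_tree lc_h_rc_20_1 lc_h_Cert_tree lc_h_rc_35_0 lc_h_rc_26_3 lc_h_Cert_tree lc_h_rc_35_0 lc_h_rc_13_1) (@D3.rec (fun _ => (Cert rels S Gen.h)) lc_h_rc_35_0 lc_h_rc_36_2 lc_h_rc_41_1 lc_h_Cert_tree lc_h_rc_13_1 lc_h_rc_20_1 lc_h_Cert_tree lc_h_rc_37_1 lc_h_Cert_tree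 lc_h_rc_35_0 lc_h_rc_37_1 lc_h_Cert_tree lc_h_rc_35_0 lc_h_rc_5_1 lc_h_rc_13_1 lc_h_Cert_tree lc_h_rc_20_1 lc_h_Cert_tree lc_h_rc_35_0 lc_h_rc_41_1 lc_h_Cert_tree lc_h_rc_35_0 lc_h_rc_5_1 lc_h_Cert_tree lc_h_rc_35_0 lc_h_Cert_tree lc_h_rc_35_0 lc_h_rc_26_3 lc_h_rc_35_0 lc_h_rc_5_1 lc_h_rc_20_1 lc_h_rc_36_2) (@D3.rec (fun _ => (Cert rels S Gen.h)) lc_h_rc_37_1 lc_h_rc_35_0 lc_h_rc_5_1 lc_h_rc_13_1 lc_h_Cert_tree lc_h_rc_20_1 lc_h_Cert_tree lc_h_rc_35_0 lc_h_rc_41_1 lc_h_Cert_tree lc_h_rc_35_0 lc_h_rc_35_1 lc_h_Cert_tree lc_h_rc_35_0 lc_h_rc_5_1 lc_h_Cert_tree lc_h_rc_37_1 lc_h_Cert_tree lc_h_rc_35_0 lc_h_rc_13_1 lc_h_Cert_tree lc_h_rc_35_0 lc_h_Cert_tree lc_h_rc_35_0 lc_h_rc_26_3 lc_h_Cert_tree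 lc_h_rc_35_0 lc_h_rc_35_0 lc_h_rc_26_3 lc_h_rc_20_1 lc_h_rc_35_0 lc_h_rc_26_3) (@D3.rec (fun _ => (Cert rels S Gen.h)) lc_h_rc_20_1 lc_h_rc_13_1 lc_h_rc_20_1 lc_h_rc_31_1 lc_h_rc_26_3 lc_h_rc_20_1 lc_h_rc_31_1 lc_h_rc_20_1 lc_h_rc_20_1 lc_h_rc_20_1 lc_h_rc_31_1 lc_h_Cert_tree lc_h_rc_13_1 lc_h_rc_20_1 lc_h_rc_5_1 lc_h_rc_5_1 lc_h_rc_5_3 lc_h_rc_13_3 lc_h_rc_5_1 lc_h_rc_20_1 lc_h_Cert_tree lc_h_Cert_tree lc_h_rc_20_1 lc_h_Cert_tree lc_h_rc_35_0 lc_h_rc_13_1 lc_h_Cert_tree lc_h_rc_35_0 lc_h_Cert_tree lc_h_rc_20_1 lc_h_Cert_tree lc_h_rc_35_0) (@D3.rec (fun _ => (Cert rels S Gen.h)) lc_h_rc_13_1 lc_h_Cert_tree lc_h_rc_35_0 lc_h_Cert_tree lc_h_rc_35_0 lc_h_Cert_tree lc_h_rc_20_1 lc_h_Cert_tree lc_h_rc_35_0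 lc_h_rc_26_3 lc_h_Cert_tree lc_h_rc_35_0 lc_h_rc_26_3 lc_h_rc_26_1 lc_h_rc_26_3 lc_h_rc_35_0 lc_h_Cert_tree lc_h_Cert_tree lc_h_rc_35_0 lc_h_Cert_tree lc_h_rc_35_0 lc_h_rc_26_3 lc_h_rc_31_1 lc_h_rc_35_0 lc_h_rc_13_1 lc_h_rc_20_1 lc_h_rc_5_1 lc_h_Cert_tree lc_h_rc_13_1 lc_h_Cert_tree lc_h_rc_35_0 lc_h_rc_5_1) (@D3.rec (fun _ => (Cert rels S Gen.h)) lc_h_Cert_tree lc_h_rc_35_0 lc_h_Cert_tree lc_h_rc_35_0 lc_h_rc_26_3 lc_h_Cert_tree lc_h_rc_35_0 lc_h_rc_26_3 lc_h_rc_35_0 lc_h_rc_26_3 lc_h_rc_20_1 lc_h_rc_13_1 lc_h_rc_5_1 lc_h_Cert_tree lc_h_rc_35_0 lc_h_rc_13_1 lc_h_Cert_tree lc_h_rc_35_0 lc_h_Cert_tree lc_h_rc_35_0 lc_h_rc_26_3 lc_h_rc_35_0 lc_h_rc_26_3 lc_h_rc_20_1 lc_h_rc_35_0 lc_h_rc_26_3 lc_h_rc_20_1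 lc_h_rc_20_1 lc_h_rc_46_34 lc_h_rc_20_1 lc_h_rc_5_3 lc_h_rc_35_0) (@D3.rec (fun _ => (Cert rels S Gen.h)) lc_h_rc_35_0 lc_h_rc_5_1 lc_h_rc_35_0 lc_h_rc_26_3 lc_h_rc_36_2 lc_h_rc_20_1 lc_h_rc_31_1 lc_h_rc_20_1 lc_h_rc_37_1 lc_h_rc_20_1 lc_h_rc_13_1 lc_h_Cert_tree lc_h_rc_20_1 lc_h_Cert_tree lc_h_rc_35_0 lc_h_rc_13_1 lc_h_Cert_tree lc_h_rc_35_0 lc_h_Cert_tree lc_h_rc_35_0 lc_h_rc_5_3 lc_h_rc_20_1 lc_h_Cert_tree lc_h_rc_35_0 lc_h_rc_26_3 lc_h_Cert_tree lc_h_rc_35_0 lc_h_rc_13_1 lc_h_rc_37_1 lc_h_rc_41_1 lc_h_rc_5_1 lc_h_Cert_tree)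
def ce_h_8 : D2 → D3 → (Cert rels S Gen.h) := @D2.rec (fun _ => D3 → (Cert rels S Gen.h)) (@D3.rec (fun _ => (Cert rels S Gen.h)) lc_h_rc_35_0 lc_h_rc_35_0 lc_h_rc_5_1 lc_h_rc_20_1 lc_h_rc_41_1 lc_h_rc_35_0 lc_h_rc_13_1 lc_h_rc_20_1 lc_h_Cert_tree lc_h_rc_20_1 lc_h_Cert_tree lc_h_rc_35_0 lc_h_rc_5_1 lc_h_rc_20_1 lc_h_Cert_tree lc_h_rc_35_0 lc_h_rc_26_3 lc_h_Cert_tree lc_h_rc_35_0 lc_h_rc_13_1 lc_h_rc_35_0 lc_h_rc_5_1 lc_h_rc_20_1 lc_h_rc_13_1 lc_h_rc_36_2 lc_h_rc_20_1 lc_h_rc_13_1 lc_h_Cert_tree lc_h_rc_20_1 lc_h_rc_20_1 lc_h_rc_37_1 lc_h_rc_35_1) (@D3.rec (fun _ => (Cert rels S Gen.h)) lc_h_Cert_tree lc_h_rc_20_1 lc_h_rc_41_1 lc_h_Cert_tree lc_h_rc_20_1 lc_h_rc_13_1 lc_h_Cert_tree lc_h_rc_35_0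 lc_h_Cert_tree lc_h_rc_20_1 lc_h_Cert_tree lc_h_rc_35_0 lc_h_rc_26_3 lc_h_Cert_tree lc_h_rc_35_0 lc_h_rc_37_3 lc_h_rc_31_3 lc_h_rc_31_1 lc_h_rc_35_0 lc_h_Cert_tree lc_h_rc_5_1 lc_h_rc_35_0 lc_h_Cert_tree lc_h_rc_35_0 lc_h_rc_20_1 lc_h_rc_31_1 lc_h_rc_35_0 lc_h_rc_13_1 lc_h_rc_20_1 lc_h_rc_41_1 lc_h_rc_36_2 lc_h_rc_35_0) (@D3.rec (fun _ => (Cert rels S Gen.h)) lc_h_rc_20_3 lc_h_rc_37_3 lc_h_rc_13_1 lc_h_rc_36_2 lc_h_rc_26_3 lc_h_rc_20_1 lc_h_rc_26_3 lc_h_rc_31_1 lc_h_Cert_tree lc_h_rc_20_1 lc_h_rc_13_1 lc_h_rc_5_1 lc_h_rc_13_1 lc_h_rc_31_1 lc_h_Cert_tree lc_h_rc_37_1 lc_h_Cert_tree lc_h_rc_35_0 lc_h_rc_36_2 lc_h_Cert_tree lc_h_rc_35_0 lc_h_Cert_tree lc_h_rc_20_1 lc_h_Cert_tree lc_h_rc_35_0 lc_h_rc_26_3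 lc_h_Cert_tree lc_h_rc_35_0 lc_h_rc_13_1 lc_h_rc_26_1 lc_h_rc_26_3 lc_h_rc_35_0) (@D3.rec (fun _ => (Cert rels S Gen.h)) lc_h_Cert_tree lc_h_Cert_tree lc_h_rc_35_0 lc_h_Cert_tree lc_h_rc_35_0 lc_h_rc_26_3 lc_h_rc_31_1 lc_h_rc_35_0 lc_h_rc_13_1 lc_h_rc_20_1 lc_h_rc_13_3 lc_h_Cert_tree lc_h_Cert_tree lc_h_rc_35_0 lc_h_rc_35_0 lc_h_rc_35_0 lc_h_rc_20_1 lc_h_rc_35_0 lc_h_rc_5_1 lc_h_rc_20_1 lc_h_rc_13_1 lc_h_rc_35_0 lc_h_rc_35_0 lc_h_rc_35_0 lc_h_rc_26_3 lc_h_rc_36_2 lc_h_rc_20_1 lc_h_rc_31_1 lc_h_Cert_tree lc_h_rc_20_1 lc_h_Cert_tree lc_h_rc_13_1) (@D3.rec (fun _ => (Cert rels S Gen.h)) lc_h_Cert_tree lc_h_rc_35_0 lc_h_Cert_tree lc_h_rc_20_1 lc_h_Cert_tree lc_h_rc_35_0 lc_h_rc_13_1 lc_h_Cert_tree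 lc_h_rc_35_0 lc_h_rc_20_1 lc_h_rc_31_1 lc_h_Cert_tree lc_h_rc_13_1 lc_h_rc_37_1 lc_h_Cert_tree lc_h_rc_5_1 lc_h_Cert_tree lc_h_rc_35_0 lc_h_rc_5_1 lc_h_Cert_tree lc_h_rc_35_0 lc_h_Cert_tree lc_h_rc_35_0 lc_h_rc_5_1 lc_h_Cert_tree lc_h_rc_35_0 lc_h_Cert_tree lc_h_Cert_tree lc_h_rc_35_0 lc_h_Cert_tree lc_h_rc_35_0 lc_h_Cert_tree) (@D3.rec (fun _ => (Cert rels S Gen.h)) lc_h_rc_35_0 lc_h_Cert_tree lc_h_rc_35_0 lc_h_rc_26_3 lc_h_rc_35_0 lc_h_rc_13_1 lc_h_rc_45_61 lc_h_rc_26_3 lc_h_rc_26_3 lc_h_rc_20_1 lc_h_rc_20_1 lc_h_rc_31_1 lc_h_Cert_tree lc_h_rc_20_1 lc_h_Cert_tree lc_h_rc_37_1 lc_h_Cert_tree lc_h_rc_35_0 lc_h_Cert_tree lc_h_rc_20_1 lc_h_Cert_tree lc_h_rc_35_0 lc_h_rc_13_1 lc_h_Cert_tree lc_h_rc_35_0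 lc_h_Cert_tree lc_h_rc_35_0 lc_h_Cert_tree lc_h_rc_20_1 lc_h_Cert_tree lc_h_rc_35_0 lc_h_rc_26_3) (@D3.rec (fun _ => (Cert rels S Gen.h)) lc_h_Cert_tree lc_h_rc_35_0 lc_h_rc_13_1 lc_h_rc_37_1 lc_h_Cert_tree lc_h_rc_35_0 lc_h_rc_5_1 lc_h_Cert_tree lc_h_rc_35_0 lc_h_Cert_tree lc_h_rc_35_0 lc_h_rc_26_3 lc_h_rc_35_0 lc_h_rc_5_1 lc_h_rc_20_1 lc_h_Cert_tree lc_h_rc_35_0 lc_h_Cert_tree lc_h_rc_35_0 lc_h_rc_26_3 lc_h_rc_35_0 lc_h_rc_26_3 lc_h_rc_20_1 lc_h_rc_26_3 lc_h_rc_20_1 lc_h_rc_13_1 lc_h_rc_13_1 lc_h_rc_31_1 lc_h_Cert_tree lc_h_Cert_tree lc_h_rc_35_0 lc_h_Cert_tree) (@D3.rec (fun _ => (Cert rels S Gen.h)) lc_h_rc_20_1 lc_h_Cert_tree lc_h_rc_35_0 lc_h_rc_26_3 lc_h_Cert_tree lc_h_rc_35_0 lc_h_rc_13_1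 lc_h_rc_20_3 lc_h_rc_41_3 lc_h_rc_35_0 lc_h_Cert_tree lc_h_Cert_tree lc_h_rc_35_0 lc_h_Cert_tree lc_h_rc_35_0 lc_h_rc_26_3 lc_h_rc_31_1 lc_h_rc_35_0 lc_h_rc_13_1 lc_h_rc_20_1 lc_h_rc_35_0 lc_h_rc_26_3 lc_h_rc_20_1 lc_h_rc_5_1 lc_h_rc_20_1 lc_h_rc_31_1 lc_h_rc_13_1 lc_h_rc_20_1 lc_h_rc_20_1 lc_h_rc_31_1 lc_h_rc_47_34 lc_h_rc_20_1) (@D3.rec (fun _ => (Cert rels S Gen.h)) lc_h_rc_31_1 lc_h_rc_13_1 lc_h_rc_31_1 lc_h_rc_5_1 lc_h_rc_13_1 lc_h_rc_13_1 lc_h_Cert_tree lc_h_rc_20_1 lc_h_rc_35_1 lc_h_rc_13_1 lc_h_rc_13_3 lc_h_rc_35_0 lc_h_Cert_tree lc_h_rc_5_1 lc_h_Cert_tree lc_h_rc_35_0 lc_h_rc_5_1 lc_h_Cert_tree lc_h_rc_35_0 lc_h_Cert_tree lc_h_rc_13_1 lc_h_Cert_tree lc_h_rc_35_0 lc_h_rc_35_0 lc_h_rc_20_3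 lc_h_rc_35_0 lc_h_rc_31_1 lc_h_rc_35_0 lc_h_rc_26_3 lc_h_rc_35_0 lc_h_rc_5_1 lc_h_Cert_tree) (@D3.rec (fun _ => (Cert rels S Gen.h)) lc_h_rc_35_0 lc_h_rc_37_3 lc_h_rc_13_1 lc_h_rc_35_0 lc_h_rc_5_1 lc_h_Cert_tree lc_h_rc_35_0 lc_h_Cert_tree lc_h_rc_35_0 lc_h_rc_26_3 lc_h_rc_35_0 lc_h_Cert_tree lc_h_rc_35_0 lc_h_rc_26_3 lc_h_rc_36_2 lc_h_rc_35_0 lc_h_rc_41_1 lc_h_rc_36_2 lc_h_rc_20_1 lc_h_rc_31_1 lc_h_Cert_tree lc_h_rc_13_1 lc_h_Cert_tree lc_h_rc_20_1 lc_h_Cert_tree lc_h_rc_13_1 lc_h_Cert_tree lc_h_rc_35_0 lc_h_rc_5_3 lc_h_rc_20_1 lc_h_rc_37_3 lc_h_rc_35_0) (@D3.rec (fun _ => (Cert rels S Gen.h)) lc_h_rc_13_1 lc_h_Cert_tree lc_h_rc_35_0 lc_h_rc_35_0 lc_h_rc_41_1 lc_h_rc_13_3 lc_h_rc_20_1 lc_h_rc_31_1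 lc_h_Cert_tree lc_h_rc_37_1 lc_h_rc_13_3 lc_h_rc_20_1 lc_h_rc_41_1 lc_h_Cert_tree lc_h_rc_13_1 lc_h_rc_20_1 lc_h_Cert_tree lc_h_rc_37_1 lc_h_Cert_tree lc_h_rc_35_0 lc_h_Cert_tree lc_h_rc_35_0 lc_h_rc_5_1 lc_h_Cert_tree lc_h_rc_35_0 lc_h_Cert_tree lc_h_rc_35_0 lc_h_rc_5_1 lc_h_rc_5_1 lc_h_rc_5_1 lc_h_Cert_tree lc_h_rc_13_1) (@D3.rec (fun _ => (Cert rels S Gen.h)) lc_h_Cert_tree lc_h_rc_35_0 lc_h_rc_5_1 lc_h_Cert_tree lc_h_rc_35_0 lc_h_rc_37_1 lc_h_rc_37_1 lc_h_rc_20_1 lc_h_rc_41_1 lc_h_Cert_tree lc_h_rc_13_1 lc_h_rc_20_1 lc_h_Cert_tree lc_h_rc_37_1 lc_h_Cert_tree lc_h_rc_35_0 lc_h_rc_37_1 lc_h_rc_37_1 lc_h_Cert_tree lc_h_rc_41_1 lc_h_Cert_tree lc_h_Cert_tree lc_h_rc_35_0 lc_h_rc_5_1 lc_h_rc_47_34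 lc_h_Cert_tree lc_h_rc_37_1 lc_h_Cert_tree lc_h_rc_35_0 lc_h_rc_37_1 lc_h_Cert_tree lc_h_rc_35_0) (@D3.rec (fun _ => (Cert rels S Gen.h)) lc_h_rc_35_0 lc_h_rc_20_1 lc_h_rc_35_0 lc_h_rc_26_3 lc_h_rc_35_0 lc_h_rc_37_1 lc_h_rc_20_1 lc_h_rc_13_3 lc_h_rc_13_3 lc_h_rc_35_0 lc_h_rc_5_1 lc_h_rc_20_3 lc_h_rc_35_0 lc_h_Cert_tree lc_h_rc_35_0 lc_h_rc_26_3 lc_h_rc_35_0 lc_h_Cert_tree lc_h_rc_35_0 lc_h_rc_35_0 lc_h_Cert_tree lc_h_rc_35_0 lc_h_rc_26_3 lc_h_rc_20_1 lc_h_Cert_tree lc_h_rc_35_0 lc_h_rc_41_1 lc_h_rc_5_3 lc_h_rc_20_1 lc_h_rc_31_1 lc_h_Cert_tree lc_h_rc_37_1) (@D3.rec (fun _ => (Cert rels S Gen.h)) lc_h_rc_5_3 lc_h_rc_20_1 lc_h_rc_41_1 lc_h_Cert_tree lc_h_rc_13_1 lc_h_rc_20_1 lc_h_Cert_tree lc_h_rc_37_1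 lc_h_Cert_tree lc_h_rc_35_0 lc_h_rc_20_1 lc_h_Cert_tree lc_h_rc_13_1 lc_h_Cert_tree lc_h_rc_35_0 lc_h_Cert_tree lc_h_rc_20_1 lc_h_Cert_tree lc_h_rc_35_0 lc_h_rc_13_1 lc_h_Cert_tree lc_h_rc_35_0 lc_h_Cert_tree lc_h_rc_35_0 lc_h_rc_36_4 lc_h_rc_20_1 lc_h_Cert_tree lc_h_rc_35_0 lc_h_rc_20_1 lc_h_Cert_tree lc_h_rc_35_0 lc_h_rc_13_1) (@D3.rec (fun _ => (Cert rels S Gen.h)) lc_h_rc_35_0 lc_h_rc_37_1 lc_h_rc_13_3 lc_h_rc_20_1 lc_h_rc_41_1 lc_h_Cert_tree lc_h_rc_13_1 lc_h_rc_20_1 lc_h_Cert_tree lc_h_rc_37_1 lc_h_Cert_tree lc_h_rc_35_0 lc_h_rc_37_1 lc_h_Cert_tree lc_h_rc_13_1 lc_h_rc_41_1 lc_h_Cert_tree lc_h_rc_37_1 lc_h_Cert_tree lc_h_rc_35_0 lc_h_rc_5_1 lc_h_rc_13_1 lc_h_Cert_tree lc_h_rc_20_1 lc_h_Cert_tree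 lc_h_rc_35_0 lc_h_rc_41_1 lc_h_Cert_tree lc_h_rc_35_0 lc_h_rc_5_1 lc_h_Cert_tree lc_h_rc_35_0) (@D3.rec (fun _ => (Cert rels S Gen.h)) lc_h_Cert_tree lc_h_rc_35_0 lc_h_rc_26_3 lc_h_rc_35_0 lc_h_rc_5_1 lc_h_rc_20_1 lc_h_rc_5_1 lc_h_rc_5_3 lc_h_rc_37_1 lc_h_rc_31_1 lc_h_Cert_tree lc_h_Cert_tree lc_h_Cert_tree lc_h_rc_35_0 lc_h_rc_5_1 lc_h_Cert_tree lc_h_rc_20_1 lc_h_Cert_tree lc_h_rc_35_0 lc_h_rc_41_1 lc_h_Cert_tree lc_h_rc_35_0 lc_h_Cert_tree lc_h_rc_35_0 lc_h_rc_13_3 lc_h_Cert_tree lc_h_Cert_tree lc_h_rc_35_0 lc_h_rc_26_3 lc_h_Cert_tree lc_h_rc_35_0 lc_h_rc_5_1) (@D3.rec (fun _ => (Cert rels S Gen.h)) lc_h_Cert_tree lc_h_rc_13_1 lc_h_Cert_tree lc_h_rc_35_0 lc_h_rc_37_1 lc_h_Cert_tree lc_h_rc_35_0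 lc_h_Cert_tree lc_h_rc_35_0 lc_h_rc_26_3 lc_h_rc_20_1 lc_h_rc_35_0 lc_h_rc_26_3 lc_h_rc_35_0 lc_h_rc_26_3 lc_h_rc_20_1 lc_h_rc_13_3 lc_h_rc_20_3 lc_h_rc_35_0 lc_h_rc_26_3 lc_h_rc_20_1 lc_h_rc_26_3 lc_h_rc_31_1 lc_h_Cert_tree lc_h_rc_35_0 lc_h_rc_13_1 lc_h_rc_20_1 lc_h_rc_41_1 lc_h_rc_26_1 lc_h_rc_13_1 lc_h_rc_20_1 lc_h_rc_20_1) (@D3.rec (fun _ => (Cert rels S Gen.h)) lc_h_rc_31_1 lc_h_rc_13_1 lc_h_rc_20_1 lc_h_rc_5_1 lc_h_rc_13_1 lc_h_rc_26_3 lc_h_rc_31_1 lc_h_rc_13_1 lc_h_rc_36_2 lc_h_rc_31_1 lc_h_rc_5_1 lc_h_rc_13_1 lc_h_rc_5_3 lc_h_rc_31_1 lc_h_rc_13_3 lc_h_rc_13_1 lc_h_rc_20_1 lc_h_rc_20_1 lc_h_rc_36_2 lc_h_rc_5_1 lc_h_Cert_tree lc_h_rc_13_1 lc_h_Cert_tree lc_h_rc_35_0 lc_h_rc_13_3 lc_h_rc_13_1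 lc_h_rc_35_0 lc_h_rc_5_1 lc_h_rc_13_3 lc_h_rc_35_0 lc_h_rc_35_0 lc_h_Cert_tree) (@D3.rec (fun _ => (Cert rels S Gen.h)) lc_h_rc_35_0 lc_h_rc_26_3 lc_h_rc_35_0 lc_h_rc_26_3 lc_h_rc_13_1 lc_h_rc_20_3 lc_h_rc_13_1 lc_h_rc_20_1 lc_h_rc_20_3 lc_h_Cert_tree lc_h_rc_13_1 lc_h_rc_36_2 lc_h_rc_36_2 lc_h_rc_46_34 lc_h_rc_20_1 lc_h_rc_36_4 lc_h_rc_35_0 lc_h_Cert_tree lc_h_rc_35_0 lc_h_Cert_tree lc_h_rc_5_1 lc_h_Cert_tree lc_h_rc_37_3 lc_h_Cert_tree lc_h_Cert_tree lc_h_rc_35_0 lc_h_rc_35_0 lc_h_rc_5_1 lc_h_rc_13_1 lc_h_Cert_tree lc_h_rc_35_0 lc_h_rc_5_1) (@D3.rec (fun _ => (Cert rels S Gen.h)) lc_h_Cert_tree lc_h_rc_35_0 lc_h_rc_35_0 lc_h_Cert_tree lc_h_rc_35_0 lc_h_rc_37_3 lc_h_Cert_tree lc_h_rc_35_0 lc_h_rc_35_0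 lc_h_rc_35_0 lc_h_Cert_tree lc_h_rc_35_0 lc_h_rc_26_3 lc_h_rc_35_0 lc_h_Cert_tree lc_h_rc_35_0 lc_h_rc_26_3 lc_h_rc_20_1 lc_h_rc_35_0 lc_h_rc_41_1 lc_h_rc_36_2 lc_h_rc_20_1 lc_h_rc_31_1 lc_h_Cert_tree lc_h_rc_37_1 lc_h_rc_41_1 lc_h_rc_20_1 lc_h_rc_37_3 lc_h_Cert_tree lc_h_rc_13_1 lc_h_rc_20_1 lc_h_Cert_tree) (@D3.rec (fun _ => (Cert rels S Gen.h)) lc_h_rc_37_1 lc_h_Cert_tree lc_h_rc_35_0 lc_h_rc_20_1 lc_h_rc_20_1 lc_h_rc_13_1 lc_h_rc_31_1 lc_h_Cert_tree lc_h_rc_20_1 lc_h_Cert_tree lc_h_rc_35_0 lc_h_rc_13_1 lc_h_Cert_tree lc_h_rc_35_0 lc_h_Cert_tree lc_h_rc_35_0 lc_h_rc_36_4 lc_h_rc_20_1 lc_h_Cert_tree lc_h_rc_35_0 lc_h_rc_26_3 lc_h_Cert_tree lc_h_rc_35_0 lc_h_rc_37_3 lc_h_rc_37_1 lc_h_rc_36_2 lc_h_rc_20_1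 lc_h_Cert_tree lc_h_rc_13_1 lc_h_rc_20_1 lc_h_Cert_tree lc_h_rc_37_1) (@D3.rec (fun _ => (Cert rels S Gen.h)) lc_h_Cert_tree lc_h_rc_35_0 lc_h_rc_37_1 lc_h_Cert_tree lc_h_rc_13_1 lc_h_rc_37_1 lc_h_Cert_tree lc_h_rc_20_1 lc_h_Cert_tree lc_h_rc_35_0 lc_h_rc_5_1 lc_h_rc_13_1 lc_h_Cert_tree lc_h_rc_41_1 lc_h_Cert_tree lc_h_rc_35_0 lc_h_rc_5_1 lc_h_Cert_tree lc_h_rc_35_0 lc_h_rc_5_1 lc_h_rc_36_2 lc_h_Cert_tree lc_h_rc_35_0 lc_h_rc_26_3 lc_h_rc_35_0 lc_h_rc_5_1 lc_h_rc_5_1 lc_h_Cert_tree lc_h_rc_35_0 lc_h_Cert_tree lc_h_rc_35_0 lc_h_rc_26_3)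
def ce_h_9 : D2 → D3 → (Cert rels S Gen.h) := @D2.rec (fun _ => D3 → (Cert rels S Gen.h)) (@D3.rec (fun _ => (Cert rels S Gen.h)) lc_h_Cert_tree lc_h_Cert_tree lc_h_rc_35_0 lc_h_rc_5_1 lc_h_Cert_tree lc_h_Cert_tree lc_h_rc_35_0 lc_h_Cert_tree lc_h_rc_35_0 lc_h_Cert_tree lc_h_rc_35_0 lc_h_Cert_tree lc_h_rc_35_0 lc_h_Cert_tree lc_h_rc_35_0 lc_h_rc_26_1 lc_h_Cert_tree lc_h_Cert_tree lc_h_rc_35_0 lc_h_Cert_tree lc_h_rc_35_0 lc_h_rc_26_3 lc_h_Cert_tree lc_h_rc_35_0 lc_h_rc_26_3 lc_h_rc_36_2 lc_h_rc_35_0 lc_h_rc_26_3 lc_h_rc_26_3 lc_h_rc_35_0 lc_h_rc_13_1 lc_h_rc_31_1) (@D3.rec (fun _ => (Cert rels S Gen.h)) lc_h_rc_26_3 lc_h_rc_20_1 lc_h_rc_20_1 lc_h_Cert_tree lc_h_rc_13_3 lc_h_Cert_tree lc_h_rc_13_1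 lc_h_rc_13_3 lc_h_Cert_tree lc_h_rc_5_1 lc_h_Cert_tree lc_h_rc_35_0 lc_h_rc_36_2 lc_h_Cert_tree lc_h_rc_20_1 lc_h_rc_36_2 lc_h_rc_35_0 lc_h_rc_36_2 lc_h_Cert_tree lc_h_rc_35_0 lc_h_rc_36_4 lc_h_rc_20_1 lc_h_Cert_tree lc_h_rc_35_0 lc_h_rc_20_1 lc_h_Cert_tree lc_h_rc_35_0 lc_h_rc_13_1 lc_h_rc_13_1 lc_h_Cert_tree lc_h_rc_35_0 lc_h_rc_35_0) (@D3.rec (fun _ => (Cert rels S Gen.h)) lc_h_rc_13_1 lc_h_Cert_tree lc_h_rc_5_1 lc_h_Cert_tree lc_h_rc_35_0 lc_h_Cert_tree lc_h_rc_35_0 lc_h_rc_35_0 lc_h_rc_5_1 lc_h_rc_20_1 lc_h_rc_35_0 lc_h_Cert_tree lc_h_rc_35_0 lc_h_rc_35_0 lc_h_rc_20_3 lc_h_rc_35_0 lc_h_rc_20_3 lc_h_rc_36_2 lc_h_rc_26_3 lc_h_rc_31_1 lc_h_Cert_tree lc_h_rc_35_0 lc_h_rc_36_2 lc_h_rc_20_1 lc_h_rc_41_1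 lc_h_Cert_tree lc_h_rc_13_1 lc_h_rc_20_1 lc_h_Cert_tree lc_h_rc_37_1 lc_h_Cert_tree lc_h_rc_35_0) (@D3.rec (fun _ => (Cert rels S Gen.h)) lc_h_rc_20_1 lc_h_Cert_tree lc_h_rc_37_1 lc_h_Cert_tree lc_h_rc_35_0 lc_h_rc_5_1 lc_h_rc_13_1 lc_h_Cert_tree lc_h_Cert_tree lc_h_rc_20_1 lc_h_Cert_tree lc_h_rc_35_0 lc_h_rc_41_1 lc_h_Cert_tree lc_h_rc_35_0 lc_h_Cert_tree lc_h_rc_20_1 lc_h_Cert_tree lc_h_rc_35_0 lc_h_rc_13_1 lc_h_Cert_tree lc_h_rc_35_0 lc_h_Cert_tree lc_h_rc_35_0 lc_h_Cert_tree lc_h_rc_20_1 lc_h_Cert_tree lc_h_rc_35_0 lc_h_rc_26_3 lc_h_Cert_tree lc_h_rc_35_0 lc_h_rc_26_3) (@D3.rec (fun _ => (Cert rels S Gen.h)) lc_h_rc_26_1 lc_h_rc_41_3 lc_h_rc_35_0 lc_h_Cert_tree lc_h_rc_5_1 lc_h_rc_35_0 lc_h_Cert_tree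 lc_h_rc_35_0 lc_h_rc_36_2 lc_h_rc_31_1 lc_h_rc_35_0 lc_h_rc_13_1 lc_h_rc_37_3 lc_h_rc_37_1 lc_h_rc_35_0 lc_h_rc_5_1 lc_h_rc_13_1 lc_h_Cert_tree lc_h_rc_20_1 lc_h_Cert_tree lc_h_rc_35_0 lc_h_rc_41_1 lc_h_Cert_tree lc_h_rc_35_0 lc_h_rc_5_1 lc_h_Cert_tree lc_h_rc_35_0 lc_h_rc_5_1 lc_h_Cert_tree lc_h_rc_13_1 lc_h_Cert_tree lc_h_rc_35_0) (@D3.rec (fun _ => (Cert rels S Gen.h)) lc_h_rc_31_3 lc_h_Cert_tree lc_h_rc_35_0 lc_h_Cert_tree lc_h_rc_35_0 lc_h_rc_26_3 lc_h_Cert_tree lc_h_rc_35_0 lc_h_rc_35_0 lc_h_rc_26_3 lc_h_rc_20_1 lc_h_rc_20_1 lc_h_rc_5_1 lc_h_Cert_tree lc_h_Cert_tree lc_h_rc_35_0 lc_h_Cert_tree lc_h_rc_35_0 lc_h_Cert_tree lc_h_rc_35_0 lc_h_Cert_tree lc_h_rc_35_0 lc_h_rc_37_1 lc_h_Cert_tree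 lc_h_rc_35_0 lc_h_Cert_tree lc_h_rc_35_0 lc_h_Cert_tree lc_h_rc_35_0 lc_h_rc_26_3 lc_h_rc_35_0 lc_h_rc_26_3) (@D3.rec (fun _ => (Cert rels S Gen.h)) lc_h_rc_20_1 lc_h_rc_35_0 lc_h_rc_26_3 lc_h_rc_20_1 lc_h_rc_26_3 lc_h_rc_31_1 lc_h_Cert_tree lc_h_rc_36_2 lc_h_rc_31_1 lc_h_rc_20_1 lc_h_Cert_tree lc_h_rc_20_3 lc_h_rc_20_1 lc_h_Cert_tree lc_h_rc_37_1 lc_h_Cert_tree lc_h_rc_35_0 lc_h_rc_5_1 lc_h_rc_20_1 lc_h_rc_36_2 lc_h_rc_5_1 lc_h_Cert_tree lc_h_Cert_tree lc_h_rc_20_1 lc_h_Cert_tree lc_h_rc_35_0 lc_h_Cert_tree lc_h_rc_35_0 lc_h_Cert_tree lc_h_rc_20_1 lc_h_Cert_tree lc_h_rc_35_0) (@D3.rec (fun _ => (Cert rels S Gen.h)) lc_h_rc_13_3 lc_h_Cert_tree lc_h_rc_35_0 lc_h_rc_26_3 lc_h_Cert_tree lc_h_rc_35_0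 lc_h_Cert_tree lc_h_rc_20_1 lc_h_Cert_tree lc_h_rc_35_0 lc_h_rc_13_3 lc_h_Cert_tree lc_h_rc_35_0 lc_h_rc_13_1 lc_h_rc_5_3 lc_h_rc_46_34 lc_h_rc_35_0 lc_h_Cert_tree lc_h_Cert_tree lc_h_rc_35_0 lc_h_Cert_tree lc_h_rc_35_0 lc_h_rc_26_3 lc_h_rc_31_1 lc_h_rc_35_0 lc_h_rc_26_3 lc_h_rc_20_1 lc_h_Cert_tree lc_h_Cert_tree lc_h_Cert_tree lc_h_rc_35_0 lc_h_rc_35_0) (@D3.rec (fun _ => (Cert rels S Gen.h)) lc_h_rc_26_3 lc_h_rc_35_0 lc_h_rc_26_3 lc_h_rc_5_1 lc_h_Cert_tree lc_h_rc_35_0 lc_h_rc_13_1 lc_h_Cert_tree lc_h_rc_35_0 lc_h_Cert_tree lc_h_rc_35_0 lc_h_rc_26_3 lc_h_rc_35_0 lc_h_rc_26_3 lc_h_rc_20_1 lc_h_rc_35_0 lc_h_rc_26_3 lc_h_rc_20_1 lc_h_rc_13_1 lc_h_rc_5_1 lc_h_Cert_tree lc_h_rc_35_0 lc_h_Cert_tree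 lc_h_rc_35_0 lc_h_rc_13_1 lc_h_rc_35_0 lc_h_rc_26_3 lc_h_rc_26_3 lc_h_rc_13_1 lc_h_rc_26_3 lc_h_rc_26_3 lc_h_rc_26_5) (@D3.rec (fun _ => (Cert rels S Gen.h)) lc_h_Cert_tree lc_h_rc_20_1 lc_h_rc_37_1 lc_h_Cert_tree lc_h_rc_20_1 lc_h_rc_41_1 lc_h_Cert_tree lc_h_rc_20_1 lc_h_rc_13_1 lc_h_Cert_tree lc_h_rc_35_0 lc_h_Cert_tree lc_h_rc_20_1 lc_h_Cert_tree lc_h_rc_35_0 lc_h_rc_26_3 lc_h_Cert_tree lc_h_rc_35_0 lc_h_rc_31_3 lc_h_rc_31_1 lc_h_rc_35_0 lc_h_rc_5_3 lc_h_Cert_tree lc_h_rc_35_0 lc_h_rc_35_0 lc_h_rc_13_1 lc_h_rc_41_1 lc_h_rc_35_0 lc_h_rc_13_1 lc_h_Cert_tree lc_h_Cert_tree lc_h_rc_35_0) (@D3.rec (fun _ => (Cert rels S Gen.h)) lc_h_rc_26_1 lc_h_rc_13_3 lc_h_rc_35_0 lc_h_rc_5_1 lc_h_Cert_tree lc_h_rc_35_0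 lc_h_rc_35_0 lc_h_rc_13_1 lc_h_rc_13_1 lc_h_Cert_tree lc_h_rc_20_1 lc_h_Cert_tree lc_h_rc_36_0 lc_h_Cert_tree lc_h_rc_35_0 lc_h_Cert_tree lc_h_rc_20_1 lc_h_rc_20_1 lc_h_rc_41_1 lc_h_rc_36_2 lc_h_Cert_tree lc_h_rc_35_0 lc_h_rc_20_1 lc_h_Cert_tree lc_h_rc_35_0 lc_h_rc_20_1 lc_h_rc_41_1 lc_h_rc_26_3 lc_h_rc_35_0 lc_h_Cert_tree lc_h_Cert_tree lc_h_rc_35_0) (@D3.rec (fun _ => (Cert rels S Gen.h)) lc_h_Cert_tree lc_h_rc_35_0 lc_h_rc_26_3 lc_h_rc_31_1 lc_h_rc_35_0 lc_h_rc_31_3 lc_h_rc_37_3 lc_h_rc_20_3 lc_h_rc_13_3 lc_h_rc_13_3 lc_h_rc_35_0 lc_h_rc_35_0 lc_h_rc_20_1 lc_h_rc_20_1 lc_h_rc_36_2 lc_h_rc_37_3 lc_h_rc_31_1 lc_h_Cert_tree lc_h_Cert_tree lc_h_Cert_tree lc_h_rc_35_0 lc_h_Cert_tree lc_h_rc_35_0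 lc_h_rc_41_1 lc_h_Cert_tree lc_h_rc_35_0 lc_h_rc_41_1 lc_h_rc_13_3 lc_h_rc_35_0 lc_h_Cert_tree lc_h_Cert_tree lc_h_rc_35_0) (@D3.rec (fun _ => (Cert rels S Gen.h)) lc_h_Cert_tree lc_h_rc_35_0 lc_h_rc_26_3 lc_h_rc_31_1 lc_h_rc_35_0 lc_h_rc_13_1 lc_h_rc_20_1 lc_h_rc_13_3 lc_h_Cert_tree lc_h_Cert_tree lc_h_rc_35_0 lc_h_rc_35_0 lc_h_rc_26_3 lc_h_rc_35_0 lc_h_rc_13_3 lc_h_rc_46_27 lc_h_rc_20_1 lc_h_rc_13_1 lc_h_rc_35_0 lc_h_rc_35_0 lc_h_rc_20_1 lc_h_rc_13_1 lc_h_rc_26_3 lc_h_rc_5_1 lc_h_rc_20_1 lc_h_rc_31_1 lc_h_Cert_tree lc_h_rc_13_1 lc_h_rc_20_1 lc_h_Cert_tree lc_h_rc_41_1 lc_h_Cert_tree) (@D3.rec (fun _ => (Cert rels S Gen.h)) lc_h_rc_35_0 lc_h_Cert_tree lc_h_rc_20_1 lc_h_Cert_tree lc_h_rc_35_0 lc_h_rc_13_1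 lc_h_Cert_tree lc_h_rc_35_0 lc_h_Cert_tree lc_h_rc_35_0 lc_h_rc_36_4 lc_h_rc_20_1 lc_h_Cert_tree lc_h_rc_35_0 lc_h_rc_26_3 lc_h_Cert_tree lc_h_rc_35_0 lc_h_rc_37_3 lc_h_rc_13_1 lc_h_Cert_tree lc_h_Cert_tree lc_h_rc_35_0 lc_h_rc_37_1 lc_h_Cert_tree lc_h_Cert_tree lc_h_rc_35_0 lc_h_Cert_tree lc_h_rc_35_0 lc_h_Cert_tree lc_h_rc_35_0 lc_h_rc_26_3 lc_h_rc_35_0) (@D3.rec (fun _ => (Cert rels S Gen.h)) lc_h_rc_20_1 lc_h_rc_20_1 lc_h_rc_35_0 lc_h_rc_26_3 lc_h_rc_35_0 lc_h_rc_35_0 lc_h_rc_35_0 lc_h_rc_26_3 lc_h_rc_35_0 lc_h_rc_26_3 lc_h_rc_35_0 lc_h_rc_26_3 lc_h_rc_20_1 lc_h_rc_31_1 lc_h_rc_26_3 lc_h_rc_31_1 lc_h_Cert_tree lc_h_rc_20_1 lc_h_Cert_tree lc_h_rc_37_1 lc_h_Cert_tree lc_h_rc_35_0 lc_h_Cert_tree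 lc_h_rc_20_1 lc_h_Cert_tree lc_h_rc_35_0 lc_h_rc_5_1 lc_h_Cert_tree lc_h_rc_35_0 lc_h_Cert_tree lc_h_rc_35_0 lc_h_Cert_tree) (@D3.rec (fun _ => (Cert rels S Gen.h)) lc_h_rc_20_1 lc_h_Cert_tree lc_h_rc_35_0 lc_h_rc_26_3 lc_h_Cert_tree lc_h_rc_35_0 lc_h_rc_26_3 lc_h_rc_5_3 lc_h_rc_41_3 lc_h_rc_35_0 lc_h_Cert_tree lc_h_rc_13_3 lc_h_rc_35_0 lc_h_Cert_tree lc_h_rc_35_0 lc_h_rc_37_3 lc_h_rc_31_1 lc_h_rc_35_0 lc_h_rc_13_1 lc_h_rc_37_3 lc_h_Cert_tree lc_h_rc_35_0 lc_h_Cert_tree lc_h_rc_35_0 lc_h_rc_26_3 lc_h_rc_35_0 lc_h_rc_26_3 lc_h_rc_20_1 lc_h_rc_20_1 lc_h_rc_20_1 lc_h_rc_13_3 lc_h_rc_5_1) (@D3.rec (fun _ => (Cert rels S Gen.h)) lc_h_rc_35_0 lc_h_rc_26_3 lc_h_rc_35_0 lc_h_rc_26_3 lc_h_rc_20_1 lc_h_rc_26_3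 lc_h_rc_20_1 lc_h_rc_31_1 lc_h_rc_13_1 lc_h_rc_37_1 lc_h_rc_37_1 lc_h_Cert_tree lc_h_rc_35_0 lc_h_rc_5_3 lc_h_rc_41_3 lc_h_rc_35_0 lc_h_Cert_tree lc_h_Cert_tree lc_h_rc_35_0 lc_h_Cert_tree lc_h_rc_35_0 lc_h_rc_26_3 lc_h_rc_31_1 lc_h_rc_35_0 lc_h_rc_13_1 lc_h_rc_20_1 lc_h_Cert_tree lc_h_Cert_tree lc_h_Cert_tree lc_h_rc_35_0 lc_h_rc_35_0 lc_h_rc_26_3) (@D3.rec (fun _ => (Cert rels S Gen.h)) lc_h_rc_35_0 lc_h_rc_26_3 lc_h_rc_13_1 lc_h_rc_26_3 lc_h_rc_13_1 lc_h_rc_20_1 lc_h_rc_31_1 lc_h_rc_13_1 lc_h_rc_20_1 lc_h_rc_20_1 lc_h_rc_31_1 lc_h_rc_47_55 lc_h_rc_20_1 lc_h_rc_31_1 lc_h_rc_13_1 lc_h_rc_31_1 lc_h_rc_5_1 lc_h_rc_20_3 lc_h_rc_31_1 lc_h_rc_5_1 lc_h_rc_13_1 lc_h_Cert_tree lc_h_rc_35_0 lc_h_rc_20_1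 lc_h_rc_13_1 lc_h_rc_5_3 lc_h_rc_35_0 lc_h_rc_20_3 lc_h_rc_35_0 lc_h_rc_31_1 lc_h_rc_35_0 lc_h_rc_35_0) (@D3.rec (fun _ => (Cert rels S Gen.h)) lc_h_rc_5_1 lc_h_Cert_tree lc_h_rc_35_0 lc_h_Cert_tree lc_h_rc_35_0 lc_h_rc_5_3 lc_h_rc_35_0 lc_h_rc_35_0 lc_h_rc_5_1 lc_h_rc_5_1 lc_h_rc_35_0 lc_h_rc_41_1 lc_h_rc_36_2 lc_h_rc_20_1 lc_h_rc_31_1 lc_h_Cert_tree lc_h_rc_37_1 lc_h_rc_37_1 lc_h_rc_20_1 lc_h_rc_41_1 lc_h_Cert_tree lc_h_rc_13_1 lc_h_rc_20_1 lc_h_Cert_tree lc_h_rc_37_1 lc_h_Cert_tree lc_h_rc_35_0 lc_h_Cert_tree lc_h_rc_35_0 lc_h_Cert_tree lc_h_rc_20_1 lc_h_Cert_tree) (@D3.rec (fun _ => (Cert rels S Gen.h)) lc_h_rc_35_0 lc_h_rc_13_1 lc_h_Cert_tree lc_h_rc_35_0 lc_h_rc_20_3 lc_h_rc_20_1 lc_h_rc_26_3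 lc_h_Cert_tree lc_h_rc_35_0 lc_h_rc_37_1 lc_h_rc_13_3 lc_h_rc_20_1 lc_h_rc_41_1 lc_h_Cert_tree lc_h_rc_13_1 lc_h_rc_20_1 lc_h_Cert_tree lc_h_rc_37_1 lc_h_Cert_tree lc_h_rc_35_0 lc_h_rc_37_1 lc_h_rc_37_1 lc_h_Cert_tree lc_h_rc_13_1 lc_h_Cert_tree lc_h_Cert_tree lc_h_rc_35_0 lc_h_rc_5_1 lc_h_rc_13_1 lc_h_Cert_tree lc_h_rc_5_1 lc_h_Cert_tree) (@D3.rec (fun _ => (Cert rels S Gen.h)) lc_h_rc_35_0 lc_h_rc_41_1 lc_h_Cert_tree lc_h_rc_35_0 lc_h_rc_35_0 lc_h_rc_20_1 lc_h_rc_35_0 lc_h_rc_26_3 lc_h_rc_35_0 lc_h_rc_5_1 lc_h_rc_13_1 lc_h_rc_26_5 lc_h_rc_20_1 lc_h_rc_35_0 lc_h_rc_5_1 lc_h_Cert_tree lc_h_rc_35_0 lc_h_Cert_tree lc_h_rc_35_0 lc_h_rc_26_3 lc_h_Cert_tree lc_h_Cert_tree lc_h_Cert_tree lc_h_rc_35_0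 lc_h_rc_5_1 lc_h_Cert_tree lc_h_Cert_tree lc_h_rc_35_0 lc_h_Cert_tree lc_h_rc_35_0 lc_h_Cert_tree lc_h_Cert_tree) (@D3.rec (fun _ => (Cert rels S Gen.h)) lc_h_rc_35_0 lc_h_rc_5_1 lc_h_Cert_tree lc_h_rc_35_0 lc_h_rc_35_0 lc_h_rc_35_0 lc_h_Cert_tree lc_h_Cert_tree lc_h_rc_35_0 lc_h_Cert_tree lc_h_rc_35_0 lc_h_rc_26_3 lc_h_Cert_tree lc_h_rc_35_0 lc_h_rc_26_3 lc_h_rc_26_3 lc_h_rc_26_3 lc_h_rc_20_1 lc_h_rc_20_1 lc_h_rc_26_5 lc_h_rc_26_3 lc_h_rc_35_0 lc_h_rc_13_1 lc_h_rc_31_1 lc_h_rc_35_0 lc_h_rc_20_3 lc_h_rc_35_0 lc_h_rc_26_3 lc_h_rc_20_1 lc_h_rc_26_3 lc_h_rc_31_1 lc_h_Cert_tree)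
def ce_h_10 : D2 → D3 → (Cert rels S Gen.h) := @D2.rec (fun _ => D3 → (Cert rels S Gen.h)) (@D3.rec (fun _ => (Cert rels S Gen.h)) lc_h_rc_35_0 lc_h_rc_37_1 lc_h_rc_5_3 lc_h_rc_20_1 lc_h_rc_41_1 lc_h_Cert_tree lc_h_rc_13_1 lc_h_rc_20_1 lc_h_Cert_tree lc_h_rc_37_1 lc_h_Cert_tree lc_h_rc_35_0 lc_h_rc_37_1 lc_h_rc_37_1 lc_h_Cert_tree lc_h_rc_13_1 lc_h_rc_20_1 lc_h_Cert_tree lc_h_rc_37_1 lc_h_Cert_tree lc_h_rc_35_0 lc_h_rc_5_1 lc_h_rc_13_1 lc_h_Cert_tree lc_h_Cert_tree lc_h_rc_20_1 lc_h_Cert_tree lc_h_rc_35_0 lc_h_rc_41_1 lc_h_Cert_tree lc_h_rc_35_0 lc_h_rc_20_3) (@D3.rec (fun _ => (Cert rels S Gen.h)) lc_h_rc_20_1 lc_h_Cert_tree lc_h_rc_35_0 lc_h_rc_13_1 lc_h_Cert_tree lc_h_rc_35_0 lc_h_Cert_tree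 lc_h_rc_35_0 lc_h_Cert_tree lc_h_rc_20_1 lc_h_Cert_tree lc_h_rc_35_0 lc_h_rc_20_1 lc_h_Cert_tree lc_h_rc_35_0 lc_h_rc_26_3 lc_h_rc_31_3 lc_h_rc_41_3 lc_h_rc_35_0 lc_h_rc_36_4 lc_h_Cert_tree lc_h_rc_35_0 lc_h_rc_35_0 lc_h_rc_13_1 lc_h_rc_31_1 lc_h_Cert_tree lc_h_rc_13_1 lc_h_Cert_tree lc_h_Cert_tree lc_h_rc_35_0 lc_h_rc_5_1 lc_h_rc_13_1) (@D3.rec (fun _ => (Cert rels S Gen.h)) lc_h_Cert_tree lc_h_rc_20_1 lc_h_Cert_tree lc_h_rc_35_0 lc_h_rc_41_1 lc_h_Cert_tree lc_h_rc_35_0 lc_h_Cert_tree lc_h_rc_35_0 lc_h_rc_13_1 lc_h_rc_41_1 lc_h_Cert_tree lc_h_Cert_tree lc_h_rc_35_0 lc_h_rc_5_1 lc_h_Cert_tree lc_h_rc_35_0 lc_h_rc_13_1 lc_h_Cert_tree lc_h_rc_13_1 lc_h_Cert_tree lc_h_rc_35_0 lc_h_rc_37_1 lc_h_Cert_tree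 lc_h_rc_35_0 lc_h_Cert_tree lc_h_rc_35_0 lc_h_rc_26_3 lc_h_rc_5_1 lc_h_rc_35_0 lc_h_rc_26_3 lc_h_rc_35_0) (@D3.rec (fun _ => (Cert rels S Gen.h)) lc_h_rc_26_3 lc_h_rc_20_1 lc_h_rc_41_1 lc_h_rc_35_0 lc_h_rc_35_0 lc_h_rc_35_0 lc_h_Cert_tree lc_h_rc_35_0 lc_h_Cert_tree lc_h_rc_35_0 lc_h_Cert_tree lc_h_rc_35_0 lc_h_rc_26_3 lc_h_rc_35_0 lc_h_Cert_tree lc_h_rc_35_0 lc_h_rc_35_0 lc_h_Cert_tree lc_h_rc_35_0 lc_h_rc_26_3 lc_h_rc_31_1 lc_h_Cert_tree lc_h_rc_35_0 lc_h_Cert_tree lc_h_rc_35_0 lc_h_Cert_tree lc_h_rc_35_0 lc_h_rc_26_3 lc_h_rc_35_0 lc_h_rc_26_3 lc_h_rc_20_1 lc_h_rc_26_3) (@D3.rec (fun _ => (Cert rels S Gen.h)) lc_h_rc_20_1 lc_h_rc_20_1 lc_h_rc_13_1 lc_h_rc_20_1 lc_h_rc_20_1 lc_h_rc_26_3 lc_h_rc_31_1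 lc_h_Cert_tree lc_h_rc_20_3 lc_h_rc_20_1 lc_h_Cert_tree lc_h_rc_5_1 lc_h_Cert_tree lc_h_rc_35_0 lc_h_rc_31_1 lc_h_rc_13_1 lc_h_rc_20_1 lc_h_rc_36_2 lc_h_rc_31_1 lc_h_rc_5_1 lc_h_rc_13_1 lc_h_rc_20_1 lc_h_rc_20_1 lc_h_rc_20_1 lc_h_rc_46_34 lc_h_rc_36_2 lc_h_rc_37_1 lc_h_rc_31_1 lc_h_rc_20_3 lc_h_rc_35_0 lc_h_rc_5_1 lc_h_Cert_tree) (@D3.rec (fun _ => (Cert rels S Gen.h)) lc_h_rc_35_0 lc_h_rc_26_3 lc_h_rc_35_0 lc_h_rc_5_1 lc_h_rc_20_1 lc_h_rc_20_1 lc_h_Cert_tree lc_h_rc_26_5 lc_h_Cert_tree lc_h_rc_5_3 lc_h_rc_13_1 lc_h_Cert_tree lc_h_Cert_tree lc_h_rc_35_0 lc_h_rc_13_1 lc_h_rc_36_2 lc_h_rc_5_3 lc_h_rc_31_3 lc_h_rc_35_0 lc_h_rc_35_0 lc_h_rc_13_1 lc_h_Cert_tree lc_h_rc_35_0 lc_h_rc_37_3 lc_h_Cert_tree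 lc_h_rc_35_0 lc_h_rc_35_0 lc_h_Cert_tree lc_h_rc_35_0 lc_h_Cert_tree lc_h_rc_35_0 lc_h_rc_26_3) (@D3.rec (fun _ => (Cert rels S Gen.h)) lc_h_rc_35_0 lc_h_Cert_tree lc_h_rc_35_0 lc_h_rc_26_3 lc_h_rc_26_3 lc_h_rc_35_0 lc_h_rc_13_1 lc_h_rc_26_3 lc_h_rc_35_0 lc_h_rc_20_3 lc_h_rc_36_2 lc_h_rc_26_3 lc_h_rc_31_1 lc_h_Cert_tree lc_h_rc_37_1 lc_h_rc_36_2 lc_h_rc_20_1 lc_h_Cert_tree lc_h_rc_13_1 lc_h_rc_20_1 lc_h_Cert_tree lc_h_rc_37_1 lc_h_Cert_tree lc_h_rc_35_0 lc_h_rc_37_1 lc_h_rc_37_1 lc_h_Cert_tree lc_h_rc_13_1 lc_h_rc_37_3 lc_h_Cert_tree lc_h_rc_20_3 lc_h_Cert_tree) (@D3.rec (fun _ => (Cert rels S Gen.h)) lc_h_rc_35_0 lc_h_rc_5_1 lc_h_rc_13_1 lc_h_Cert_tree lc_h_Cert_tree lc_h_rc_20_1 lc_h_Cert_tree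 lc_h_rc_35_0 lc_h_rc_13_1 lc_h_Cert_tree lc_h_rc_35_0 lc_h_Cert_tree lc_h_rc_20_1 lc_h_rc_20_1 lc_h_rc_13_1 lc_h_rc_36_2 lc_h_Cert_tree lc_h_rc_35_0 lc_h_Cert_tree lc_h_rc_20_1 lc_h_Cert_tree lc_h_rc_35_0 lc_h_rc_26_3 lc_h_Cert_tree lc_h_rc_35_0 lc_h_rc_26_3 lc_h_rc_31_3 lc_h_rc_41_3 lc_h_rc_35_0 lc_h_rc_20_1 lc_h_Cert_tree lc_h_rc_35_0) (@D3.rec (fun _ => (Cert rels S Gen.h)) lc_h_rc_35_0 lc_h_rc_20_1 lc_h_Cert_tree lc_h_rc_13_1 lc_h_Cert_tree lc_h_rc_35_0 lc_h_rc_5_1 lc_h_rc_13_1 lc_h_Cert_tree lc_h_Cert_tree lc_h_rc_35_0 lc_h_Cert_tree lc_h_rc_35_0 lc_h_Cert_tree lc_h_rc_35_0 lc_h_rc_41_1 lc_h_Cert_tree lc_h_Cert_tree lc_h_rc_35_0 lc_h_Cert_tree lc_h_rc_35_0 lc_h_rc_13_1 lc_h_Cert_tree lc_h_rc_41_1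 lc_h_Cert_tree lc_h_rc_35_0 lc_h_Cert_tree lc_h_rc_35_0 lc_h_rc_26_3 lc_h_Cert_tree lc_h_rc_35_0 lc_h_rc_26_3) (@D3.rec (fun _ => (Cert rels S Gen.h)) lc_h_rc_36_2 lc_h_rc_35_0 lc_h_rc_26_3 lc_h_rc_35_0 lc_h_rc_26_3 lc_h_rc_35_0 lc_h_rc_13_1 lc_h_rc_31_1 lc_h_rc_35_0 lc_h_rc_35_0 lc_h_Cert_tree lc_h_rc_35_0 lc_h_rc_35_0 lc_h_rc_36_2 lc_h_rc_35_0 lc_h_rc_35_0 lc_h_rc_35_0 lc_h_rc_26_3 lc_h_rc_35_0 lc_h_Cert_tree lc_h_rc_35_0 lc_h_rc_35_0 lc_h_rc_13_1 lc_h_rc_35_0 lc_h_rc_26_3 lc_h_rc_31_1 lc_h_rc_35_0 lc_h_rc_26_3 lc_h_rc_31_1 lc_h_rc_5_1 lc_h_rc_26_3 lc_h_rc_31_1) (@D3.rec (fun _ => (Cert rels S Gen.h)) lc_h_Cert_tree lc_h_rc_13_1 lc_h_Cert_tree lc_h_rc_35_0 lc_h_Cert_tree lc_h_rc_35_0 lc_h_rc_20_1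 lc_h_Cert_tree lc_h_Cert_tree lc_h_rc_13_3 lc_h_Cert_tree lc_h_rc_35_0 lc_h_Cert_tree lc_h_rc_35_0 lc_h_Cert_tree lc_h_rc_35_0 lc_h_Cert_tree lc_h_rc_36_2 lc_h_rc_20_1 lc_h_Cert_tree lc_h_Cert_tree lc_h_rc_35_0 lc_h_rc_26_1 lc_h_Cert_tree lc_h_rc_35_0 lc_h_rc_35_0 lc_h_rc_13_1 lc_h_Cert_tree lc_h_rc_35_0 lc_h_rc_13_1 lc_h_Cert_tree lc_h_rc_35_0) (@D3.rec (fun _ => (Cert rels S Gen.h)) lc_h_Cert_tree lc_h_rc_35_0 lc_h_rc_35_0 lc_h_rc_35_0 lc_h_rc_26_3 lc_h_rc_13_1 lc_h_rc_36_2 lc_h_rc_5_3 lc_h_rc_20_3 lc_h_Cert_tree lc_h_rc_5_3 lc_h_rc_31_1 lc_h_Cert_tree lc_h_rc_37_1 lc_h_Cert_tree lc_h_rc_35_0 lc_h_rc_20_1 lc_h_Cert_tree lc_h_rc_37_1 lc_h_rc_35_0 lc_h_rc_5_1 lc_h_rc_13_1 lc_h_Cert_tree lc_h_Cert_tree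 lc_h_rc_20_1 lc_h_Cert_tree lc_h_rc_35_0 lc_h_rc_41_1 lc_h_Cert_tree lc_h_rc_35_0 lc_h_Cert_tree lc_h_rc_37_1) (@D3.rec (fun _ => (Cert rels S Gen.h)) lc_h_Cert_tree lc_h_rc_35_0 lc_h_rc_35_1 lc_h_Cert_tree lc_h_rc_35_0 lc_h_rc_5_1 lc_h_Cert_tree lc_h_Cert_tree lc_h_rc_13_1 lc_h_Cert_tree lc_h_rc_35_0 lc_h_Cert_tree lc_h_rc_35_0 lc_h_Cert_tree lc_h_rc_20_1 lc_h_Cert_tree lc_h_rc_35_0 lc_h_rc_26_3 lc_h_Cert_tree lc_h_rc_35_0 lc_h_rc_26_3 lc_h_Cert_tree lc_h_rc_35_0 lc_h_Cert_tree lc_h_rc_20_1 lc_h_Cert_tree lc_h_rc_35_0 lc_h_rc_26_3 lc_h_Cert_tree lc_h_rc_35_0 lc_h_rc_13_1 lc_h_rc_13_1) (@D3.rec (fun _ => (Cert rels S Gen.h)) lc_h_rc_35_0 lc_h_Cert_tree lc_h_Cert_tree lc_h_rc_35_0 lc_h_Cert_tree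 lc_h_rc_35_0 lc_h_rc_26_3 lc_h_rc_31_1 lc_h_rc_35_0 lc_h_rc_26_3 lc_h_rc_20_1 lc_h_Cert_tree lc_h_Cert_tree lc_h_rc_5_1 lc_h_rc_35_0 lc_h_rc_35_0 lc_h_rc_26_3 lc_h_rc_26_3 lc_h_rc_5_1 lc_h_Cert_tree lc_h_rc_13_1 lc_h_Cert_tree lc_h_rc_35_0 lc_h_Cert_tree lc_h_rc_35_0 lc_h_Cert_tree lc_h_rc_35_0 lc_h_Cert_tree lc_h_rc_35_0 lc_h_rc_13_1 lc_h_Cert_tree lc_h_rc_35_0) (@D3.rec (fun _ => (Cert rels S Gen.h)) lc_h_rc_31_1 lc_h_Cert_tree lc_h_rc_35_0 lc_h_Cert_tree lc_h_rc_35_0 lc_h_rc_26_3 lc_h_rc_35_0 lc_h_rc_26_3 lc_h_rc_20_1 lc_h_rc_35_0 lc_h_rc_13_1 lc_h_Cert_tree lc_h_rc_35_0 lc_h_rc_35_0 lc_h_rc_35_0 lc_h_rc_26_3 lc_h_rc_35_0 lc_h_rc_35_0 lc_h_Cert_tree lc_h_rc_35_0 lc_h_rc_35_0 lc_h_rc_13_1 lc_h_rc_35_0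 lc_h_rc_26_3 lc_h_rc_26_3 lc_h_rc_31_1 lc_h_Cert_tree lc_h_Cert_tree lc_h_Cert_tree lc_h_rc_35_0 lc_h_Cert_tree lc_h_rc_35_0) (@D3.rec (fun _ => (Cert rels S Gen.h)) lc_h_rc_20_3 lc_h_rc_20_3 lc_h_Cert_tree lc_h_rc_20_1 lc_h_Cert_tree lc_h_rc_35_0 lc_h_rc_41_1 lc_h_Cert_tree lc_h_rc_35_0 lc_h_rc_36_2 lc_h_Cert_tree lc_h_rc_5_1 lc_h_Cert_tree lc_h_rc_35_0 lc_h_Cert_tree lc_h_rc_35_0 lc_h_Cert_tree lc_h_rc_20_1 lc_h_Cert_tree lc_h_rc_35_0 lc_h_rc_26_3 lc_h_rc_20_1 lc_h_rc_20_1 lc_h_rc_35_0 lc_h_Cert_tree lc_h_Cert_tree lc_h_rc_35_0 lc_h_Cert_tree lc_h_rc_35_0 lc_h_rc_26_3 lc_h_rc_13_3 lc_h_rc_35_0) (@D3.rec (fun _ => (Cert rels S Gen.h)) lc_h_rc_26_3 lc_h_rc_20_1 lc_h_rc_41_1 lc_h_rc_46_34 lc_h_rc_35_0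 lc_h_Cert_tree lc_h_Cert_tree lc_h_rc_35_0 lc_h_Cert_tree lc_h_rc_35_0 lc_h_rc_26_3 lc_h_rc_13_3 lc_h_rc_35_0 lc_h_rc_13_1 lc_h_rc_20_1 lc_h_Cert_tree lc_h_Cert_tree lc_h_Cert_tree lc_h_rc_35_0 lc_h_rc_35_0 lc_h_rc_26_3 lc_h_rc_35_0 lc_h_rc_26_3 lc_h_rc_20_1 lc_h_rc_31_1 lc_h_rc_13_1 lc_h_rc_35_0 lc_h_rc_35_0 lc_h_rc_35_0 lc_h_rc_26_3 lc_h_rc_20_1 lc_h_rc_5_1) (@D3.rec (fun _ => (Cert rels S Gen.h)) lc_h_Cert_tree lc_h_rc_35_0 lc_h_Cert_tree lc_h_rc_35_0 lc_h_rc_13_1 lc_h_rc_35_0 lc_h_rc_26_3 lc_h_rc_26_3 lc_h_rc_13_1 lc_h_rc_5_3 lc_h_Cert_tree lc_h_rc_35_0 lc_h_rc_5_1 lc_h_rc_35_0 lc_h_rc_13_1 lc_h_rc_20_1 lc_h_rc_13_1 lc_h_rc_31_1 lc_h_rc_31_1 lc_h_rc_37_1 lc_h_Cert_tree lc_h_rc_35_0 lc_h_Cert_tree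 lc_h_rc_20_1 lc_h_rc_41_1 lc_h_Cert_tree lc_h_rc_35_0 lc_h_rc_20_1 lc_h_Cert_tree lc_h_rc_35_0 lc_h_rc_20_1 lc_h_rc_41_1) (@D3.rec (fun _ => (Cert rels S Gen.h)) lc_h_rc_31_1 lc_h_rc_35_0 lc_h_rc_20_3 lc_h_Cert_tree lc_h_rc_35_0 lc_h_Cert_tree lc_h_rc_35_0 lc_h_rc_26_3 lc_h_rc_31_1 lc_h_rc_35_0 lc_h_rc_5_1 lc_h_rc_26_1 lc_h_rc_35_0 lc_h_Cert_tree lc_h_rc_35_0 lc_h_rc_35_0 lc_h_rc_36_2 lc_h_rc_35_0 lc_h_Cert_tree lc_h_rc_35_0 lc_h_Cert_tree lc_h_rc_36_0 lc_h_Cert_tree lc_h_rc_35_0 lc_h_rc_41_1 lc_h_Cert_tree lc_h_rc_35_0 lc_h_Cert_tree lc_h_rc_35_0 lc_h_Cert_tree lc_h_rc_20_1 lc_h_rc_20_1) (@D3.rec (fun _ => (Cert rels S Gen.h)) lc_h_rc_36_2 lc_h_rc_41_1 lc_h_rc_31_1 lc_h_rc_35_0 lc_h_rc_36_2 lc_h_rc_41_1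 lc_h_rc_26_3 lc_h_rc_35_0 lc_h_rc_36_2 lc_h_rc_20_3 lc_h_rc_5_1 lc_h_Cert_tree lc_h_rc_35_0 lc_h_rc_35_0 lc_h_rc_26_3 lc_h_rc_35_0 lc_h_rc_20_3 lc_h_rc_20_1 lc_h_rc_20_3 lc_h_rc_13_3 lc_h_rc_41_1 lc_h_rc_20_1 lc_h_rc_37_1 lc_h_Cert_tree lc_h_rc_35_0 lc_h_rc_35_0 lc_h_rc_35_0 lc_h_rc_35_0 lc_h_rc_41_3 lc_h_rc_35_0 lc_h_rc_26_3 lc_h_Cert_tree) (@D3.rec (fun _ => (Cert rels S Gen.h)) lc_h_Cert_tree lc_h_Cert_tree lc_h_rc_35_0 lc_h_rc_35_0 lc_h_rc_26_3 lc_h_rc_35_0 lc_h_rc_26_3 lc_h_rc_13_3 lc_h_rc_37_3 lc_h_rc_20_1 lc_h_rc_13_1 lc_h_rc_35_0 lc_h_rc_35_0 lc_h_rc_36_2 lc_h_rc_13_3 lc_h_rc_5_3 lc_h_rc_26_3 lc_h_rc_31_1 lc_h_Cert_tree lc_h_rc_13_1 lc_h_rc_20_1 lc_h_Cert_tree lc_h_Cert_tree lc_h_rc_35_0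 lc_h_rc_41_3 lc_h_Cert_tree lc_h_Cert_tree lc_h_rc_41_1 lc_h_Cert_tree lc_h_rc_35_0 lc_h_Cert_tree lc_h_rc_35_0) (@D3.rec (fun _ => (Cert rels S Gen.h)) lc_h_Cert_tree lc_h_rc_35_0 lc_h_Cert_tree lc_h_rc_20_1 lc_h_Cert_tree lc_h_rc_35_0 lc_h_rc_26_3 lc_h_Cert_tree lc_h_rc_35_0 lc_h_rc_26_3 lc_h_rc_13_3 lc_h_rc_41_3 lc_h_rc_35_0 lc_h_rc_36_4 lc_h_Cert_tree lc_h_rc_35_0 lc_h_rc_35_0 lc_h_rc_26_3 lc_h_Cert_tree lc_h_rc_35_0 lc_h_rc_35_0 lc_h_Cert_tree lc_h_rc_35_0 lc_h_rc_35_0 lc_h_rc_26_3 lc_h_rc_35_0 lc_h_rc_26_3 lc_h_rc_35_0 lc_h_rc_26_3 lc_h_rc_20_1 lc_h_rc_13_1 lc_h_rc_31_1)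
def ce_h_11 : D2 → D3 → (Cert rels S Gen.h) := @D2.rec (fun _ => D3 → (Cert rels S Gen.h)) (@D3.rec (fun _ => (Cert rels S Gen.h)) lc_h_rc_36_2 lc_h_rc_26_3 lc_h_rc_26_3 lc_h_rc_31_1 lc_h_rc_26_3 lc_h_rc_20_1 lc_h_rc_37_1 lc_h_rc_31_1 lc_h_Cert_tree lc_h_rc_37_1 lc_h_Cert_tree lc_h_rc_35_0 lc_h_Cert_tree lc_h_rc_20_1 lc_h_Cert_tree lc_h_rc_35_0 lc_h_Cert_tree lc_h_rc_35_0 lc_h_Cert_tree lc_h_rc_35_0 lc_h_Cert_tree lc_h_rc_13_3 lc_h_Cert_tree lc_h_rc_35_0 lc_h_rc_26_3 lc_h_Cert_tree lc_h_rc_35_0 lc_h_rc_26_3 lc_h_rc_13_1 lc_h_rc_41_3 lc_h_rc_35_0 lc_h_Cert_tree) (@D3.rec (fun _ => (Cert rels S Gen.h)) lc_h_Cert_tree lc_h_rc_35_0 lc_h_Cert_tree lc_h_rc_35_0 lc_h_rc_26_3 lc_h_rc_31_1 lc_h_rc_35_0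 lc_h_rc_26_3 lc_h_rc_20_1 lc_h_Cert_tree lc_h_Cert_tree lc_h_rc_20_1 lc_h_rc_35_0 lc_h_rc_35_0 lc_h_rc_35_0 lc_h_rc_26_3 lc_h_rc_20_1 lc_h_rc_26_5 lc_h_rc_35_0 lc_h_rc_26_3 lc_h_rc_35_0 lc_h_rc_26_3 lc_h_rc_20_1 lc_h_rc_26_3 lc_h_rc_20_1 lc_h_rc_31_1 lc_h_rc_13_1 lc_h_rc_5_1 lc_h_rc_36_2 lc_h_rc_26_3 lc_h_rc_20_1 lc_h_rc_31_1) (@D3.rec (fun _ => (Cert rels S Gen.h)) lc_h_rc_13_1 lc_h_rc_5_1 lc_h_rc_41_1 lc_h_Cert_tree lc_h_rc_35_0 lc_h_Cert_tree lc_h_Cert_tree lc_h_Cert_tree lc_h_rc_35_0 lc_h_rc_35_0 lc_h_rc_26_3 lc_h_rc_35_0 lc_h_rc_26_3 lc_h_rc_20_1 lc_h_rc_31_1 lc_h_rc_26_3 lc_h_rc_20_1 lc_h_rc_31_1 lc_h_rc_45_52 lc_h_rc_35_0 lc_h_rc_35_0 lc_h_rc_35_0 lc_h_rc_26_3 lc_h_rc_26_3 lc_h_rc_45_16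 lc_h_rc_13_3 lc_h_rc_5_1 lc_h_rc_13_1 lc_h_rc_26_3 lc_h_rc_35_0 lc_h_rc_20_1 lc_h_rc_31_1) (@D3.rec (fun _ => (Cert rels S Gen.h)) lc_h_rc_31_3 lc_h_rc_35_0 lc_h_rc_35_0 lc_h_rc_26_3 lc_h_rc_26_1 lc_h_Cert_tree lc_h_rc_37_1 lc_h_rc_37_1 lc_h_rc_20_1 lc_h_rc_41_1 lc_h_Cert_tree lc_h_rc_13_1 lc_h_rc_20_1 lc_h_Cert_tree lc_h_rc_37_1 lc_h_Cert_tree lc_h_rc_35_0 lc_h_rc_37_1 lc_h_rc_37_1 lc_h_Cert_tree lc_h_rc_13_1 lc_h_rc_20_1 lc_h_Cert_tree lc_h_Cert_tree lc_h_rc_35_0 lc_h_rc_5_1 lc_h_rc_13_1 lc_h_Cert_tree lc_h_Cert_tree lc_h_rc_20_1 lc_h_Cert_tree lc_h_rc_35_0) (@D3.rec (fun _ => (Cert rels S Gen.h)) lc_h_rc_41_1 lc_h_Cert_tree lc_h_rc_35_0 lc_h_rc_35_0 lc_h_Cert_tree lc_h_rc_35_0 lc_h_Cert_tree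 lc_h_rc_20_1 lc_h_rc_35_1 lc_h_rc_35_0 lc_h_rc_5_3 lc_h_rc_35_0 lc_h_rc_26_3 lc_h_rc_5_1 lc_h_rc_5_1 lc_h_rc_41_1 lc_h_rc_35_0 lc_h_Cert_tree lc_h_rc_13_1 lc_h_Cert_tree lc_h_Cert_tree lc_h_rc_35_0 lc_h_rc_5_1 lc_h_rc_13_1 lc_h_Cert_tree lc_h_Cert_tree lc_h_rc_35_0 lc_h_Cert_tree lc_h_rc_35_0 lc_h_rc_37_1 lc_h_Cert_tree lc_h_Cert_tree) (@D3.rec (fun _ => (Cert rels S Gen.h)) lc_h_rc_35_0 lc_h_rc_13_1 lc_h_Cert_tree lc_h_rc_35_0 lc_h_rc_35_0 lc_h_rc_13_1 lc_h_Cert_tree lc_h_rc_13_1 lc_h_Cert_tree lc_h_rc_35_0 lc_h_Cert_tree lc_h_rc_35_0 lc_h_rc_26_3 lc_h_Cert_tree lc_h_rc_35_0 lc_h_rc_26_3 lc_h_rc_26_3 lc_h_rc_26_3 lc_h_rc_20_1 lc_h_rc_26_5 lc_h_rc_5_3 lc_h_rc_31_1 lc_h_rc_35_0 lc_h_rc_26_3 lc_h_rc_35_0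 lc_h_rc_13_1 lc_h_rc_31_1 lc_h_rc_35_0 lc_h_rc_35_0 lc_h_rc_35_0 lc_h_Cert_tree lc_h_rc_35_0) (@D3.rec (fun _ => (Cert rels S Gen.h)) lc_h_rc_35_0 lc_h_rc_36_2 lc_h_rc_35_0 lc_h_rc_26_3 lc_h_rc_35_0 lc_h_rc_35_0 lc_h_Cert_tree lc_h_rc_35_0 lc_h_rc_26_3 lc_h_rc_26_3 lc_h_Cert_tree lc_h_rc_35_0 lc_h_rc_35_0 lc_h_rc_13_1 lc_h_rc_35_0 lc_h_rc_31_1 lc_h_rc_35_0 lc_h_rc_26_3 lc_h_rc_20_1 lc_h_rc_26_3 lc_h_rc_13_1 lc_h_rc_5_1 lc_h_rc_26_3 lc_h_rc_20_1 lc_h_rc_20_1 lc_h_Cert_tree lc_h_rc_13_1 lc_h_rc_31_1 lc_h_Cert_tree lc_h_rc_5_3 lc_h_Cert_tree lc_h_rc_35_0) (@D3.rec (fun _ => (Cert rels S Gen.h)) lc_h_rc_31_1 lc_h_rc_37_1 lc_h_Cert_tree lc_h_rc_13_1 lc_h_rc_20_1 lc_h_Cert_tree lc_h_Cert_tree lc_h_rc_35_0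 lc_h_rc_5_1 lc_h_rc_13_1 lc_h_Cert_tree lc_h_Cert_tree lc_h_rc_20_1 lc_h_Cert_tree lc_h_rc_35_0 lc_h_rc_41_1 lc_h_Cert_tree lc_h_rc_35_0 lc_h_rc_37_1 lc_h_Cert_tree lc_h_Cert_tree lc_h_rc_35_0 lc_h_rc_5_1 lc_h_rc_41_1 lc_h_Cert_tree lc_h_rc_26_3 lc_h_rc_37_1 lc_h_Cert_tree lc_h_rc_35_0 lc_h_rc_35_0 lc_h_Cert_tree lc_h_rc_35_0) (@D3.rec (fun _ => (Cert rels S Gen.h)) lc_h_rc_5_1 lc_h_Cert_tree lc_h_Cert_tree lc_h_rc_13_1 lc_h_Cert_tree lc_h_rc_35_0 lc_h_Cert_tree lc_h_rc_35_0 lc_h_Cert_tree lc_h_rc_20_1 lc_h_Cert_tree lc_h_rc_35_0 lc_h_rc_20_1 lc_h_Cert_tree lc_h_rc_35_0 lc_h_rc_26_3 lc_h_rc_37_1 lc_h_Cert_tree lc_h_rc_20_1 lc_h_Cert_tree lc_h_rc_35_0 lc_h_rc_31_1 lc_h_rc_35_0 lc_h_rc_26_3 lc_h_rc_20_3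 lc_h_rc_20_3 lc_h_rc_35_0 lc_h_Cert_tree lc_h_Cert_tree lc_h_rc_35_0 lc_h_Cert_tree lc_h_rc_35_0) (@D3.rec (fun _ => (Cert rels S Gen.h)) lc_h_rc_26_3 lc_h_rc_20_1 lc_h_rc_35_0 lc_h_rc_26_3 lc_h_rc_20_1 lc_h_rc_36_4 lc_h_rc_36_4 lc_h_rc_35_0 lc_h_rc_35_0 lc_h_Cert_tree lc_h_rc_35_0 lc_h_rc_35_0 lc_h_Cert_tree lc_h_rc_13_1 lc_h_Cert_tree lc_h_rc_35_0 lc_h_Cert_tree lc_h_rc_35_0 lc_h_Cert_tree lc_h_rc_35_0 lc_h_rc_26_3 lc_h_rc_35_0 lc_h_Cert_tree lc_h_Cert_tree lc_h_rc_35_0 lc_h_rc_35_0 lc_h_Cert_tree lc_h_rc_35_0 lc_h_rc_26_3 lc_h_rc_31_3 lc_h_Cert_tree lc_h_rc_35_0) (@D3.rec (fun _ => (Cert rels S Gen.h)) lc_h_rc_13_1 lc_h_Cert_tree lc_h_rc_35_0 lc_h_Cert_tree lc_h_rc_35_0 lc_h_rc_26_3 lc_h_rc_35_0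 lc_h_rc_26_3 lc_h_rc_20_1 lc_h_rc_26_3 lc_h_rc_20_1 lc_h_rc_20_1 lc_h_rc_13_1 lc_h_rc_26_3 lc_h_rc_35_0 lc_h_rc_35_0 lc_h_rc_26_3 lc_h_rc_35_0 lc_h_rc_36_2 lc_h_rc_20_1 lc_h_rc_26_3 lc_h_rc_35_0 lc_h_rc_26_3 lc_h_rc_35_0 lc_h_rc_26_3 lc_h_rc_20_1 lc_h_Cert_tree lc_h_rc_35_0 lc_h_rc_35_0 lc_h_rc_26_3 lc_h_rc_35_0 lc_h_rc_26_3) (@D3.rec (fun _ => (Cert rels S Gen.h)) lc_h_rc_26_3 lc_h_rc_20_1 lc_h_rc_13_1 lc_h_rc_20_1 lc_h_rc_31_1 lc_h_rc_5_1 lc_h_Cert_tree lc_h_rc_26_3 lc_h_rc_13_3 lc_h_Cert_tree lc_h_rc_37_1 lc_h_Cert_tree lc_h_rc_35_0 lc_h_rc_20_3 lc_h_rc_41_3 lc_h_Cert_tree lc_h_Cert_tree lc_h_rc_35_0 lc_h_rc_13_3 lc_h_Cert_tree lc_h_rc_35_0 lc_h_rc_36_2 lc_h_rc_36_2 lc_h_rc_5_3 lc_h_rc_20_1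 lc_h_rc_26_3 lc_h_rc_35_0 lc_h_rc_26_3 lc_h_Cert_tree lc_h_Cert_tree lc_h_rc_35_0 lc_h_rc_5_3) (@D3.rec (fun _ => (Cert rels S Gen.h)) lc_h_Cert_tree lc_h_rc_35_0 lc_h_rc_37_3 lc_h_Cert_tree lc_h_rc_26_3 lc_h_Cert_tree lc_h_rc_35_0 lc_h_rc_35_0 lc_h_Cert_tree lc_h_rc_5_3 lc_h_Cert_tree lc_h_rc_35_0 lc_h_Cert_tree lc_h_rc_35_0 lc_h_rc_26_3 lc_h_rc_35_0 lc_h_rc_26_3 lc_h_rc_35_0 lc_h_rc_13_1 lc_h_rc_26_3 lc_h_rc_26_3 lc_h_rc_35_0 lc_h_rc_13_1 lc_h_rc_5_1 lc_h_rc_20_3 lc_h_rc_36_2 lc_h_rc_26_3 lc_h_rc_20_3 lc_h_Cert_tree lc_h_rc_13_1 lc_h_rc_31_1 lc_h_Cert_tree) (@D3.rec (fun _ => (Cert rels S Gen.h)) lc_h_rc_37_1 lc_h_Cert_tree lc_h_rc_35_0 lc_h_rc_37_1 lc_h_Cert_tree lc_h_rc_13_1 lc_h_Cert_tree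 lc_h_rc_35_0 lc_h_rc_5_1 lc_h_rc_13_1 lc_h_Cert_tree lc_h_Cert_tree lc_h_rc_20_1 lc_h_Cert_tree lc_h_rc_35_0 lc_h_Cert_tree lc_h_rc_35_0 lc_h_rc_37_1 lc_h_Cert_tree lc_h_Cert_tree lc_h_rc_35_0 lc_h_rc_37_1 lc_h_Cert_tree lc_h_Cert_tree lc_h_rc_31_1 lc_h_Cert_tree lc_h_rc_35_0 lc_h_Cert_tree lc_h_rc_35_0 lc_h_rc_35_1 lc_h_Cert_tree lc_h_Cert_tree) (@D3.rec (fun _ => (Cert rels S Gen.h)) lc_h_rc_41_1 lc_h_Cert_tree lc_h_rc_35_0 lc_h_Cert_tree lc_h_rc_35_0 lc_h_Cert_tree lc_h_rc_13_1 lc_h_Cert_tree lc_h_rc_35_0 lc_h_rc_26_3 lc_h_Cert_tree lc_h_rc_35_0 lc_h_rc_26_3 lc_h_Cert_tree lc_h_rc_35_0 lc_h_Cert_tree lc_h_rc_20_1 lc_h_rc_20_1 lc_h_rc_36_2 lc_h_rc_37_3 lc_h_rc_37_3 lc_h_rc_35_0 lc_h_Cert_tree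 lc_h_Cert_tree lc_h_rc_35_0 lc_h_Cert_tree lc_h_rc_35_0 lc_h_rc_26_3 lc_h_rc_31_1 lc_h_rc_35_0 lc_h_rc_26_3 lc_h_rc_20_1) (@D3.rec (fun _ => (Cert rels S Gen.h)) lc_h_rc_31_1 lc_h_rc_26_1 lc_h_rc_35_0 lc_h_rc_35_0 lc_h_Cert_tree lc_h_rc_35_0 lc_h_Cert_tree lc_h_Cert_tree lc_h_rc_35_0 lc_h_rc_35_0 lc_h_rc_5_1 lc_h_rc_35_0 lc_h_rc_35_0 lc_h_Cert_tree lc_h_rc_35_0 lc_h_rc_35_0 lc_h_rc_26_3 lc_h_rc_35_0 lc_h_Cert_tree lc_h_rc_35_0 lc_h_Cert_tree lc_h_rc_35_0 lc_h_rc_13_1 lc_h_rc_35_0 lc_h_rc_26_3 lc_h_rc_31_1 lc_h_rc_35_0 lc_h_rc_26_3 lc_h_rc_13_1 lc_h_rc_31_1 lc_h_rc_5_1 lc_h_rc_20_1) (@D3.rec (fun _ => (Cert rels S Gen.h)) lc_h_rc_13_1 lc_h_rc_36_2 lc_h_rc_35_0 lc_h_rc_13_1 lc_h_rc_26_3 lc_h_rc_26_3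 lc_h_rc_31_1 lc_h_rc_35_0 lc_h_rc_5_1 lc_h_rc_13_1 lc_h_rc_26_3 lc_h_rc_13_1 lc_h_rc_31_1 lc_h_Cert_tree lc_h_Cert_tree lc_h_rc_35_0 lc_h_Cert_tree lc_h_rc_35_0 lc_h_rc_35_0 lc_h_Cert_tree lc_h_rc_13_1 lc_h_Cert_tree lc_h_rc_35_0 lc_h_Cert_tree lc_h_rc_35_0 lc_h_Cert_tree lc_h_Cert_tree lc_h_rc_35_0 lc_h_rc_20_1 lc_h_rc_35_0 lc_h_Cert_tree lc_h_rc_35_0) (@D3.rec (fun _ => (Cert rels S Gen.h)) lc_h_Cert_tree lc_h_Cert_tree lc_h_rc_35_0 lc_h_rc_20_1 lc_h_rc_20_1 lc_h_rc_35_0 lc_h_rc_20_3 lc_h_rc_35_0 lc_h_rc_26_1 lc_h_rc_35_0 lc_h_rc_35_0 lc_h_Cert_tree lc_h_rc_35_0 lc_h_rc_35_0 lc_h_rc_26_3 lc_h_rc_26_3 lc_h_Cert_tree lc_h_rc_5_3 lc_h_Cert_tree lc_h_Cert_tree lc_h_rc_35_0 lc_h_rc_26_3 lc_h_rc_5_3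 lc_h_Cert_tree lc_h_Cert_tree lc_h_rc_37_1 lc_h_Cert_tree lc_h_rc_35_0 lc_h_rc_41_1 lc_h_Cert_tree lc_h_rc_35_0 lc_h_Cert_tree) (@D3.rec (fun _ => (Cert rels S Gen.h)) lc_h_rc_37_1 lc_h_rc_35_0 lc_h_rc_5_1 lc_h_Cert_tree lc_h_Cert_tree lc_h_rc_13_1 lc_h_Cert_tree lc_h_rc_35_0 lc_h_Cert_tree lc_h_rc_35_0 lc_h_Cert_tree lc_h_rc_20_1 lc_h_Cert_tree lc_h_rc_35_0 lc_h_rc_26_3 lc_h_Cert_tree lc_h_rc_35_0 lc_h_Cert_tree lc_h_rc_35_0 lc_h_Cert_tree lc_h_rc_20_1 lc_h_Cert_tree lc_h_rc_35_0 lc_h_rc_26_3 lc_h_Cert_tree lc_h_rc_35_0 lc_h_Cert_tree lc_h_rc_20_1 lc_h_Cert_tree lc_h_rc_35_0 lc_h_Cert_tree lc_h_rc_35_0) (@D3.rec (fun _ => (Cert rels S Gen.h)) lc_h_Cert_tree lc_h_rc_31_1 lc_h_Cert_tree lc_h_rc_35_0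 lc_h_rc_26_3 lc_h_rc_20_1 lc_h_rc_20_1 lc_h_rc_35_0 lc_h_Cert_tree lc_h_Cert_tree lc_h_rc_35_0 lc_h_Cert_tree lc_h_rc_35_0 lc_h_rc_26_3 lc_h_rc_31_1 lc_h_rc_35_0 lc_h_rc_26_3 lc_h_rc_20_1 lc_h_rc_41_1 lc_h_rc_13_1 lc_h_rc_35_0 lc_h_Cert_tree lc_h_Cert_tree lc_h_rc_35_0 lc_h_Cert_tree lc_h_rc_35_0 lc_h_rc_26_3 lc_h_rc_31_1 lc_h_rc_35_0 lc_h_Cert_tree lc_h_Cert_tree lc_h_Cert_tree) (@D3.rec (fun _ => (Cert rels S Gen.h)) lc_h_rc_35_0 lc_h_rc_35_0 lc_h_rc_26_3 lc_h_rc_35_0 lc_h_rc_26_3 lc_h_rc_20_1 lc_h_rc_31_1 lc_h_rc_20_1 lc_h_rc_13_1 lc_h_rc_35_0 lc_h_rc_35_0 lc_h_rc_20_1 lc_h_Cert_tree lc_h_rc_35_0 lc_h_Cert_tree lc_h_rc_35_0 lc_h_rc_35_0 lc_h_rc_26_3 lc_h_rc_35_0 lc_h_rc_35_0 lc_h_Cert_tree lc_h_rc_35_0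 lc_h_Cert_tree lc_h_rc_35_0 lc_h_rc_13_1 lc_h_rc_35_0 lc_h_rc_26_3 lc_h_rc_26_3 lc_h_rc_13_1 lc_h_rc_35_0 lc_h_rc_26_3 lc_h_rc_36_2) (@D3.rec (fun _ => (Cert rels S Gen.h)) lc_h_rc_35_0 lc_h_rc_5_1 lc_h_rc_13_1 lc_h_rc_20_1 lc_h_rc_37_1 lc_h_Cert_tree lc_h_rc_35_0 lc_h_rc_35_0 lc_h_rc_35_0 lc_h_rc_35_0 lc_h_rc_20_3 lc_h_Cert_tree lc_h_rc_20_3 lc_h_Cert_tree lc_h_rc_35_0 lc_h_rc_37_1 lc_h_Cert_tree lc_h_rc_35_0 lc_h_Cert_tree lc_h_rc_35_0 lc_h_rc_26_3 lc_h_Cert_tree lc_h_rc_35_0 lc_h_Cert_tree lc_h_rc_5_1 lc_h_Cert_tree lc_h_rc_35_0 lc_h_rc_13_1 lc_h_rc_13_1 lc_h_rc_35_0 lc_h_Cert_tree lc_h_Cert_tree)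
def ce_h_12 : D2 → D3 → (Cert rels S Gen.h) := @D2.rec (fun _ => D3 → (Cert rels S Gen.h)) (@D3.rec (fun _ => (Cert rels S Gen.h)) lc_h_rc_35_0 lc_h_Cert_tree lc_h_rc_35_0 lc_h_rc_26_3 lc_h_rc_31_1 lc_h_Cert_tree lc_h_Cert_tree lc_h_Cert_tree lc_h_rc_35_0 lc_h_rc_35_0 lc_h_rc_26_3 lc_h_rc_35_0 lc_h_rc_26_3 lc_h_rc_20_1 lc_h_rc_31_1 lc_h_rc_41_1 lc_h_rc_13_1 lc_h_Cert_tree lc_h_Cert_tree lc_h_Cert_tree lc_h_rc_35_0 lc_h_rc_35_0 lc_h_rc_26_3 lc_h_rc_35_0 lc_h_rc_26_3 lc_h_rc_20_1 lc_h_rc_31_1 lc_h_rc_20_1 lc_h_rc_5_3 lc_h_rc_35_0 lc_h_rc_35_0 lc_h_rc_35_0) (@D3.rec (fun _ => (Cert rels S Gen.h)) lc_h_rc_26_3 lc_h_rc_36_2 lc_h_rc_20_1 lc_h_rc_31_1 lc_h_rc_26_3 lc_h_rc_13_1 lc_h_rc_26_3 lc_h_Cert_tree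 lc_h_rc_35_0 lc_h_rc_5_1 lc_h_rc_35_0 lc_h_rc_13_1 lc_h_rc_20_1 lc_h_rc_31_1 lc_h_rc_13_1 lc_h_rc_35_0 lc_h_rc_5_1 lc_h_rc_37_3 lc_h_Cert_tree lc_h_rc_35_0 lc_h_Cert_tree lc_h_rc_35_0 lc_h_rc_20_1 lc_h_rc_5_1 lc_h_rc_5_1 lc_h_rc_35_0 lc_h_rc_36_2 lc_h_rc_41_1 lc_h_rc_46_34 lc_h_rc_35_0 lc_h_rc_36_2 lc_h_rc_31_1) (@D3.rec (fun _ => (Cert rels S Gen.h)) lc_h_rc_35_0 lc_h_rc_26_3 lc_h_rc_35_0 lc_h_rc_5_1 lc_h_rc_20_3 lc_h_rc_35_0 lc_h_rc_36_2 lc_h_rc_35_0 lc_h_Cert_tree lc_h_rc_35_0 lc_h_Cert_tree lc_h_Cert_tree lc_h_rc_35_0 lc_h_rc_37_1 lc_h_rc_35_0 lc_h_rc_26_3 lc_h_rc_20_3 lc_h_rc_20_3 lc_h_rc_35_0 lc_h_Cert_tree lc_h_Cert_tree lc_h_rc_35_0 lc_h_rc_20_1 lc_h_rc_36_2 lc_h_rc_36_2 lc_h_rc_35_0 lc_h_rc_36_2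 lc_h_rc_20_1 lc_h_rc_37_3 lc_h_rc_31_1 lc_h_rc_37_1 lc_h_rc_37_1) (@D3.rec (fun _ => (Cert rels S Gen.h)) lc_h_rc_13_3 lc_h_rc_35_0 lc_h_rc_26_3 lc_h_rc_26_3 lc_h_rc_37_1 lc_h_rc_20_1 lc_h_rc_35_0 lc_h_rc_35_0 lc_h_rc_35_0 lc_h_rc_26_3 lc_h_rc_36_2 lc_h_rc_13_3 lc_h_rc_13_3 lc_h_rc_13_3 lc_h_rc_5_3 lc_h_rc_13_1 lc_h_rc_31_1 lc_h_Cert_tree lc_h_rc_37_1 lc_h_Cert_tree lc_h_rc_35_0 lc_h_Cert_tree lc_h_Cert_tree lc_h_Cert_tree lc_h_rc_35_0 lc_h_rc_35_0 lc_h_Cert_tree lc_h_Cert_tree lc_h_rc_35_0 lc_h_Cert_tree lc_h_rc_35_0 lc_h_Cert_tree) (@D3.rec (fun _ => (Cert rels S Gen.h)) lc_h_Cert_tree lc_h_rc_35_0 lc_h_rc_26_3 lc_h_rc_35_0 lc_h_rc_26_3 lc_h_rc_26_1 lc_h_rc_41_3 lc_h_rc_35_0 lc_h_Cert_tree lc_h_Cert_tree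 lc_h_rc_35_0 lc_h_Cert_tree lc_h_rc_35_0 lc_h_rc_26_3 lc_h_rc_31_1 lc_h_rc_35_0 lc_h_rc_26_3 lc_h_rc_20_1 lc_h_rc_36_2 lc_h_rc_36_2 lc_h_rc_35_0 lc_h_rc_35_0 lc_h_rc_5_1 lc_h_rc_26_3 lc_h_rc_35_0 lc_h_rc_13_1 lc_h_rc_26_3 lc_h_rc_31_1 lc_h_rc_26_3 lc_h_rc_20_1 lc_h_rc_13_1 lc_h_rc_20_1) (@D3.rec (fun _ => (Cert rels S Gen.h)) lc_h_rc_13_1 lc_h_rc_37_1 lc_h_rc_36_2 lc_h_rc_20_1 lc_h_rc_26_3 lc_h_rc_26_3 lc_h_rc_37_1 lc_h_Cert_tree lc_h_rc_37_1 lc_h_Cert_tree lc_h_rc_35_0 lc_h_rc_41_1 lc_h_Cert_tree lc_h_rc_35_0 lc_h_Cert_tree lc_h_rc_35_0 lc_h_Cert_tree lc_h_Cert_tree lc_h_rc_35_0 lc_h_rc_26_3 lc_h_rc_35_0 lc_h_rc_26_3 lc_h_rc_20_1 lc_h_rc_41_3 lc_h_rc_35_0 lc_h_Cert_tree lc_h_Cert_tree lc_h_rc_35_0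 lc_h_Cert_tree lc_h_rc_35_0 lc_h_rc_26_3 lc_h_rc_31_1) (@D3.rec (fun _ => (Cert rels S Gen.h)) lc_h_rc_35_0 lc_h_rc_26_3 lc_h_rc_20_1 lc_h_Cert_tree lc_h_Cert_tree lc_h_Cert_tree lc_h_rc_35_0 lc_h_rc_35_0 lc_h_rc_26_3 lc_h_rc_35_0 lc_h_rc_26_3 lc_h_rc_20_1 lc_h_rc_31_1 lc_h_rc_26_3 lc_h_rc_20_1 lc_h_rc_31_1 lc_h_rc_13_1 lc_h_rc_35_0 lc_h_rc_35_0 lc_h_rc_41_1 lc_h_rc_31_1 lc_h_rc_31_1 lc_h_rc_20_1 lc_h_rc_36_2 lc_h_rc_26_3 lc_h_rc_20_1 lc_h_rc_31_1 lc_h_rc_13_1 lc_h_rc_13_1 lc_h_rc_5_1 lc_h_rc_5_1 lc_h_Cert_tree) (@D3.rec (fun _ => (Cert rels S Gen.h)) lc_h_rc_35_0 lc_h_rc_26_3 lc_h_rc_35_0 lc_h_rc_35_0 lc_h_rc_35_0 lc_h_rc_26_3 lc_h_rc_36_2 lc_h_rc_20_1 lc_h_rc_31_1 lc_h_rc_26_3 lc_h_rc_20_1 lc_h_rc_31_1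 lc_h_rc_13_1 lc_h_rc_20_1 lc_h_rc_5_1 lc_h_rc_31_3 lc_h_rc_26_3 lc_h_rc_26_3 lc_h_rc_37_1 lc_h_rc_5_1 lc_h_Cert_tree lc_h_rc_37_1 lc_h_Cert_tree lc_h_rc_35_0 lc_h_rc_37_1 lc_h_Cert_tree lc_h_rc_13_1 lc_h_rc_20_1 lc_h_Cert_tree lc_h_Cert_tree lc_h_rc_35_0 lc_h_rc_5_1) (@D3.rec (fun _ => (Cert rels S Gen.h)) lc_h_rc_13_1 lc_h_Cert_tree lc_h_Cert_tree lc_h_rc_20_1 lc_h_Cert_tree lc_h_rc_35_0 lc_h_Cert_tree lc_h_rc_35_0 lc_h_rc_37_1 lc_h_rc_37_1 lc_h_Cert_tree lc_h_Cert_tree lc_h_rc_35_0 lc_h_rc_46_41 lc_h_Cert_tree lc_h_Cert_tree lc_h_rc_35_0 lc_h_rc_35_0 lc_h_rc_35_0 lc_h_Cert_tree lc_h_Cert_tree lc_h_rc_13_1 lc_h_Cert_tree lc_h_rc_35_0 lc_h_Cert_tree lc_h_rc_35_0 lc_h_Cert_tree lc_h_rc_41_1 lc_h_Cert_tree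 lc_h_rc_35_0 lc_h_rc_5_1 lc_h_Cert_tree) (@D3.rec (fun _ => (Cert rels S Gen.h)) lc_h_rc_35_0 lc_h_rc_26_3 lc_h_rc_26_3 lc_h_rc_20_3 lc_h_rc_20_3 lc_h_rc_35_0 lc_h_Cert_tree lc_h_Cert_tree lc_h_rc_35_0 lc_h_rc_45_25 lc_h_rc_26_3 lc_h_rc_26_3 lc_h_rc_20_1 lc_h_rc_35_0 lc_h_Cert_tree lc_h_rc_35_0 lc_h_rc_35_0 lc_h_Cert_tree lc_h_Cert_tree lc_h_rc_35_0 lc_h_rc_35_0 lc_h_rc_5_1 lc_h_rc_35_0 lc_h_rc_26_3 lc_h_Cert_tree lc_h_rc_35_0 lc_h_rc_35_0 lc_h_Cert_tree lc_h_rc_35_0 lc_h_rc_26_3 lc_h_rc_26_3 lc_h_Cert_tree) (@D3.rec (fun _ => (Cert rels S Gen.h)) lc_h_rc_35_0 lc_h_Cert_tree lc_h_rc_35_0 lc_h_rc_13_1 lc_h_rc_35_0 lc_h_rc_31_1 lc_h_rc_35_0 lc_h_rc_26_3 lc_h_rc_20_1 lc_h_rc_31_1 lc_h_rc_13_1 lc_h_rc_13_1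 lc_h_rc_5_1 lc_h_rc_20_1 lc_h_rc_13_1 lc_h_rc_36_2 lc_h_rc_26_3 lc_h_rc_35_0 lc_h_rc_13_1 lc_h_rc_36_2 lc_h_rc_36_2 lc_h_rc_20_1 lc_h_rc_26_3 lc_h_rc_35_0 lc_h_rc_26_3 lc_h_rc_35_0 lc_h_rc_5_1 lc_h_rc_13_1 lc_h_rc_5_1 lc_h_rc_26_3 lc_h_Cert_tree lc_h_rc_26_3) (@D3.rec (fun _ => (Cert rels S Gen.h)) lc_h_Cert_tree lc_h_rc_35_0 lc_h_rc_37_1 lc_h_rc_26_1 lc_h_Cert_tree lc_h_rc_37_3 lc_h_rc_46_27 lc_h_Cert_tree lc_h_rc_35_0 lc_h_rc_5_3 lc_h_Cert_tree lc_h_rc_35_0 lc_h_Cert_tree lc_h_rc_35_0 lc_h_Cert_tree lc_h_rc_41_3 lc_h_Cert_tree lc_h_rc_35_0 lc_h_rc_35_0 lc_h_Cert_tree lc_h_Cert_tree lc_h_rc_13_1 lc_h_Cert_tree lc_h_rc_35_0 lc_h_Cert_tree lc_h_rc_35_0 lc_h_Cert_tree lc_h_rc_20_1 lc_h_Cert_tree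 lc_h_rc_35_0 lc_h_rc_26_3 lc_h_Cert_tree) (@D3.rec (fun _ => (Cert rels S Gen.h)) lc_h_rc_35_0 lc_h_rc_26_3 lc_h_rc_13_1 lc_h_Cert_tree lc_h_rc_35_0 lc_h_rc_35_0 lc_h_Cert_tree lc_h_rc_13_1 lc_h_Cert_tree lc_h_rc_35_0 lc_h_rc_26_3 lc_h_Cert_tree lc_h_rc_20_1 lc_h_Cert_tree lc_h_rc_35_0 lc_h_rc_26_3 lc_h_Cert_tree lc_h_rc_35_0 lc_h_rc_26_3 lc_h_Cert_tree lc_h_rc_31_3 lc_h_Cert_tree lc_h_rc_35_0 lc_h_Cert_tree lc_h_rc_35_0 lc_h_Cert_tree lc_h_rc_20_1 lc_h_Cert_tree lc_h_rc_35_0 lc_h_rc_13_1 lc_h_rc_26_1 lc_h_rc_41_3) (@D3.rec (fun _ => (Cert rels S Gen.h)) lc_h_rc_35_0 lc_h_Cert_tree lc_h_Cert_tree lc_h_rc_35_0 lc_h_Cert_tree lc_h_rc_35_0 lc_h_rc_26_3 lc_h_rc_20_1 lc_h_rc_35_0 lc_h_rc_26_3 lc_h_rc_20_1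 lc_h_rc_26_3 lc_h_Cert_tree lc_h_rc_35_0 lc_h_rc_20_1 lc_h_rc_35_0 lc_h_rc_26_3 lc_h_rc_26_3 lc_h_rc_20_1 lc_h_Cert_tree lc_h_Cert_tree lc_h_Cert_tree lc_h_rc_35_0 lc_h_rc_35_0 lc_h_rc_26_3 lc_h_rc_35_0 lc_h_rc_26_3 lc_h_rc_20_1 lc_h_rc_31_1 lc_h_rc_20_1 lc_h_rc_13_1 lc_h_rc_35_0) (@D3.rec (fun _ => (Cert rels S Gen.h)) lc_h_rc_26_3 lc_h_rc_35_0 lc_h_Cert_tree lc_h_rc_35_0 lc_h_rc_35_0 lc_h_rc_26_3 lc_h_rc_35_0 lc_h_rc_36_2 lc_h_rc_20_1 lc_h_rc_26_3 lc_h_rc_35_0 lc_h_rc_35_0 lc_h_rc_26_3 lc_h_rc_35_0 lc_h_rc_26_3 lc_h_rc_20_1 lc_h_Cert_tree lc_h_rc_35_0 lc_h_Cert_tree lc_h_rc_35_0 lc_h_rc_26_3 lc_h_rc_35_0 lc_h_rc_26_3 lc_h_rc_26_3 lc_h_rc_20_1 lc_h_rc_13_1 lc_h_rc_20_1 lc_h_rc_31_1 lc_h_rc_13_1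 lc_h_rc_13_1 lc_h_rc_5_1 lc_h_rc_20_1) (@D3.rec (fun _ => (Cert rels S Gen.h)) lc_h_rc_20_1 lc_h_rc_13_1 lc_h_rc_26_3 lc_h_rc_20_1 lc_h_rc_31_1 lc_h_rc_35_0 lc_h_rc_5_1 lc_h_rc_26_3 lc_h_rc_31_1 lc_h_rc_5_1 lc_h_rc_35_0 lc_h_rc_5_3 lc_h_Cert_tree lc_h_rc_13_3 lc_h_rc_35_0 lc_h_Cert_tree lc_h_rc_35_0 lc_h_rc_13_1 lc_h_Cert_tree lc_h_Cert_tree lc_h_rc_35_0 lc_h_rc_35_0 lc_h_Cert_tree lc_h_rc_35_0 lc_h_rc_26_3 lc_h_Cert_tree lc_h_rc_35_0 lc_h_rc_35_0 lc_h_Cert_tree lc_h_rc_35_0 lc_h_Cert_tree lc_h_rc_35_0) (@D3.rec (fun _ => (Cert rels S Gen.h)) lc_h_Cert_tree lc_h_rc_35_0 lc_h_rc_5_1 lc_h_rc_35_0 lc_h_rc_35_0 lc_h_rc_26_3 lc_h_rc_35_0 lc_h_rc_13_1 lc_h_rc_13_1 lc_h_rc_5_1 lc_h_rc_20_1 lc_h_rc_26_3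 lc_h_rc_5_1 lc_h_rc_37_1 lc_h_Cert_tree lc_h_rc_26_3 lc_h_rc_31_1 lc_h_Cert_tree lc_h_Cert_tree lc_h_rc_35_0 lc_h_rc_26_3 lc_h_rc_13_1 lc_h_Cert_tree lc_h_Cert_tree lc_h_rc_37_1 lc_h_Cert_tree lc_h_rc_35_0 lc_h_Cert_tree lc_h_rc_35_0 lc_h_Cert_tree lc_h_rc_35_0 lc_h_Cert_tree) (@D3.rec (fun _ => (Cert rels S Gen.h)) lc_h_rc_35_0 lc_h_Cert_tree lc_h_rc_46_34 lc_h_Cert_tree lc_h_rc_35_0 lc_h_Cert_tree lc_h_rc_35_0 lc_h_Cert_tree lc_h_Cert_tree lc_h_rc_35_0 lc_h_rc_26_3 lc_h_rc_35_0 lc_h_rc_26_1 lc_h_Cert_tree lc_h_rc_35_0 lc_h_rc_35_0 lc_h_rc_31_3 lc_h_Cert_tree lc_h_rc_35_0 lc_h_rc_37_3 lc_h_rc_35_0 lc_h_Cert_tree lc_h_Cert_tree lc_h_rc_35_0 lc_h_rc_26_3 lc_h_rc_35_0 lc_h_Cert_tree lc_h_Cert_tree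 lc_h_rc_35_0 lc_h_Cert_tree lc_h_rc_35_0 lc_h_Cert_tree) (@D3.rec (fun _ => (Cert rels S Gen.h)) lc_h_Cert_tree lc_h_rc_35_0 lc_h_rc_13_1 lc_h_rc_5_1 lc_h_rc_5_1 lc_h_rc_35_0 lc_h_Cert_tree lc_h_Cert_tree lc_h_rc_35_0 lc_h_Cert_tree lc_h_rc_35_0 lc_h_rc_26_3 lc_h_rc_31_1 lc_h_rc_35_0 lc_h_rc_26_3 lc_h_rc_20_1 lc_h_rc_41_1 lc_h_rc_26_3 lc_h_rc_35_0 lc_h_Cert_tree lc_h_Cert_tree lc_h_rc_35_0 lc_h_rc_20_1 lc_h_Cert_tree lc_h_Cert_tree lc_h_Cert_tree lc_h_rc_35_0 lc_h_rc_35_0 lc_h_rc_26_3 lc_h_rc_35_0 lc_h_rc_26_3 lc_h_rc_20_1) (@D3.rec (fun _ => (Cert rels S Gen.h)) lc_h_rc_31_1 lc_h_rc_20_1 lc_h_rc_35_0 lc_h_rc_5_1 lc_h_rc_35_0 lc_h_rc_35_0 lc_h_rc_13_1 lc_h_rc_26_3 lc_h_rc_35_0 lc_h_rc_13_1 lc_h_rc_26_3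 lc_h_rc_31_1 lc_h_rc_35_0 lc_h_rc_5_1 lc_h_rc_35_0 lc_h_rc_13_1 lc_h_rc_20_1 lc_h_rc_13_1 lc_h_rc_26_3 lc_h_rc_20_1 lc_h_rc_13_1 lc_h_rc_5_1 lc_h_rc_20_1 lc_h_rc_5_1 lc_h_rc_26_3 lc_h_Cert_tree lc_h_Cert_tree lc_h_rc_35_0 lc_h_rc_35_0 lc_h_rc_35_0 lc_h_rc_26_3 lc_h_rc_26_3) (@D3.rec (fun _ => (Cert rels S Gen.h)) lc_h_rc_26_1 lc_h_rc_35_0 lc_h_Cert_tree lc_h_Cert_tree lc_h_rc_35_0 lc_h_rc_13_1 lc_h_rc_26_1 lc_h_rc_35_0 lc_h_Cert_tree lc_h_Cert_tree lc_h_rc_35_0 lc_h_rc_35_0 lc_h_rc_26_3 lc_h_rc_20_1 lc_h_rc_35_0 lc_h_Cert_tree lc_h_Cert_tree lc_h_rc_35_0 lc_h_rc_35_0 lc_h_rc_31_1 lc_h_rc_35_0 lc_h_rc_13_1 lc_h_rc_26_3 lc_h_rc_35_0 lc_h_Cert_tree lc_h_Cert_tree lc_h_rc_35_0 lc_h_rc_35_0 lc_h_rc_31_1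 lc_h_Cert_tree lc_h_Cert_tree lc_h_rc_37_1) (@D3.rec (fun _ => (Cert rels S Gen.h)) lc_h_Cert_tree lc_h_rc_35_0 lc_h_Cert_tree lc_h_rc_35_0 lc_h_Cert_tree lc_h_rc_41_1 lc_h_Cert_tree lc_h_rc_35_0 lc_h_rc_26_3 lc_h_Cert_tree lc_h_rc_35_0 lc_h_rc_26_3 lc_h_rc_13_3 lc_h_rc_35_0 lc_h_rc_26_3 lc_h_Cert_tree lc_h_Cert_tree lc_h_rc_35_0 lc_h_Cert_tree lc_h_rc_35_0 lc_h_Cert_tree lc_h_Cert_tree lc_h_rc_35_0 lc_h_rc_13_1 lc_h_rc_41_1 lc_h_rc_26_3 lc_h_rc_35_0 lc_h_Cert_tree lc_h_Cert_tree lc_h_rc_35_0 lc_h_Cert_tree lc_h_rc_35_0)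
def ce_h_13 : D2 → D3 → (Cert rels S Gen.h) := @D2.rec (fun _ => D3 → (Cert rels S Gen.h)) (@D3.rec (fun _ => (Cert rels S Gen.h)) lc_h_rc_26_3 lc_h_rc_31_1 lc_h_rc_35_0 lc_h_rc_41_1 lc_h_rc_20_1 lc_h_rc_35_0 lc_h_Cert_tree lc_h_Cert_tree lc_h_rc_35_0 lc_h_Cert_tree lc_h_rc_35_0 lc_h_rc_26_3 lc_h_rc_31_1 lc_h_rc_35_0 lc_h_Cert_tree lc_h_rc_35_0 lc_h_Cert_tree lc_h_Cert_tree lc_h_rc_35_0 lc_h_rc_26_3 lc_h_rc_13_1 lc_h_rc_13_1 lc_h_rc_35_0 lc_h_Cert_tree lc_h_Cert_tree lc_h_rc_35_0 lc_h_Cert_tree lc_h_rc_35_0 lc_h_rc_26_3 lc_h_rc_31_1 lc_h_Cert_tree lc_h_Cert_tree) (@D3.rec (fun _ => (Cert rels S Gen.h)) lc_h_Cert_tree lc_h_rc_35_0 lc_h_rc_35_0 lc_h_rc_26_3 lc_h_rc_35_0 lc_h_rc_26_3 lc_h_rc_20_1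 lc_h_rc_31_1 lc_h_rc_37_1 lc_h_rc_20_1 lc_h_rc_13_1 lc_h_Cert_tree lc_h_Cert_tree lc_h_Cert_tree lc_h_rc_35_0 lc_h_rc_35_0 lc_h_rc_26_3 lc_h_rc_35_0 lc_h_rc_26_3 lc_h_rc_31_1 lc_h_rc_35_0 lc_h_rc_35_0 lc_h_rc_35_0 lc_h_rc_26_3 lc_h_rc_36_2 lc_h_rc_20_1 lc_h_rc_31_1 lc_h_rc_26_3 lc_h_rc_20_1 lc_h_rc_13_1 lc_h_rc_20_1 lc_h_rc_26_3) (@D3.rec (fun _ => (Cert rels S Gen.h)) lc_h_rc_35_0 lc_h_rc_35_0 lc_h_rc_26_3 lc_h_rc_36_2 lc_h_rc_35_0 lc_h_rc_5_1 lc_h_rc_35_0 lc_h_rc_13_1 lc_h_rc_20_1 lc_h_rc_31_1 lc_h_rc_13_1 lc_h_rc_5_1 lc_h_rc_20_1 lc_h_rc_5_1 lc_h_Cert_tree lc_h_rc_35_0 lc_h_rc_26_3 lc_h_rc_26_3 lc_h_rc_20_1 lc_h_Cert_tree lc_h_rc_35_0 lc_h_rc_37_1 lc_h_rc_36_2 lc_h_rc_35_0 lc_h_Cert_tree lc_h_rc_35_0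 lc_h_rc_26_3 lc_h_rc_35_0 lc_h_rc_37_1 lc_h_rc_20_1 lc_h_rc_20_3 lc_h_rc_20_3) (@D3.rec (fun _ => (Cert rels S Gen.h)) lc_h_rc_35_0 lc_h_Cert_tree lc_h_Cert_tree lc_h_rc_35_0 lc_h_Cert_tree lc_h_rc_35_0 lc_h_rc_26_3 lc_h_Cert_tree lc_h_Cert_tree lc_h_Cert_tree lc_h_rc_35_0 lc_h_rc_35_0 lc_h_rc_26_3 lc_h_rc_35_0 lc_h_rc_26_3 lc_h_rc_20_1 lc_h_rc_31_1 lc_h_rc_37_1 lc_h_rc_35_0 lc_h_rc_35_0 lc_h_rc_35_0 lc_h_rc_26_3 lc_h_rc_36_2 lc_h_rc_20_1 lc_h_rc_31_1 lc_h_rc_26_3 lc_h_rc_13_1 lc_h_rc_20_1 lc_h_rc_13_3 lc_h_rc_35_0 lc_h_rc_35_0 lc_h_rc_35_0) (@D3.rec (fun _ => (Cert rels S Gen.h)) lc_h_rc_26_3 lc_h_rc_36_2 lc_h_rc_20_1 lc_h_rc_31_1 lc_h_rc_26_3 lc_h_rc_20_1 lc_h_rc_31_1 lc_h_rc_13_1 lc_h_rc_26_3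 lc_h_rc_26_3 lc_h_rc_13_1 lc_h_rc_35_0 lc_h_rc_5_1 lc_h_rc_5_1 lc_h_rc_20_1 lc_h_rc_13_1 lc_h_rc_20_1 lc_h_rc_35_0 lc_h_rc_26_3 lc_h_rc_20_3 lc_h_rc_20_3 lc_h_rc_35_0 lc_h_rc_36_2 lc_h_rc_36_2 lc_h_rc_36_2 lc_h_rc_36_2 lc_h_rc_26_3 lc_h_rc_26_3 lc_h_rc_20_3 lc_h_rc_35_0 lc_h_Cert_tree lc_h_Cert_tree) (@D3.rec (fun _ => (Cert rels S Gen.h)) lc_h_rc_35_0 lc_h_rc_35_0 lc_h_rc_26_3 lc_h_rc_37_1 lc_h_rc_20_1 lc_h_Cert_tree lc_h_Cert_tree lc_h_Cert_tree lc_h_rc_35_0 lc_h_rc_35_0 lc_h_rc_20_1 lc_h_rc_26_3 lc_h_rc_20_1 lc_h_rc_20_1 lc_h_rc_31_1 lc_h_rc_13_1 lc_h_rc_36_2 lc_h_rc_13_1 lc_h_Cert_tree lc_h_rc_5_3 lc_h_rc_37_1 lc_h_Cert_tree lc_h_rc_35_0 lc_h_Cert_tree lc_h_rc_35_0 lc_h_rc_35_0 lc_h_rc_35_0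 lc_h_Cert_tree lc_h_rc_35_0 lc_h_rc_26_3 lc_h_rc_26_3 lc_h_rc_35_0) (@D3.rec (fun _ => (Cert rels S Gen.h)) lc_h_Cert_tree lc_h_rc_35_0 lc_h_rc_13_1 lc_h_rc_5_1 lc_h_rc_35_0 lc_h_Cert_tree lc_h_Cert_tree lc_h_rc_35_0 lc_h_rc_35_0 lc_h_rc_26_3 lc_h_rc_31_1 lc_h_rc_26_3 lc_h_rc_20_1 lc_h_Cert_tree lc_h_Cert_tree lc_h_Cert_tree lc_h_rc_35_0 lc_h_rc_35_0 lc_h_rc_26_3 lc_h_rc_35_0 lc_h_rc_26_3 lc_h_rc_20_1 lc_h_rc_31_1 lc_h_rc_20_1 lc_h_rc_13_1 lc_h_rc_13_1 lc_h_rc_5_1 lc_h_rc_20_1 lc_h_rc_13_1 lc_h_rc_20_1 lc_h_rc_13_1 lc_h_rc_26_3) (@D3.rec (fun _ => (Cert rels S Gen.h)) lc_h_rc_26_3 lc_h_rc_37_1 lc_h_rc_13_1 lc_h_rc_46_48 lc_h_rc_20_1 lc_h_rc_37_3 lc_h_rc_35_0 lc_h_Cert_tree lc_h_rc_41_1 lc_h_Cert_tree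 lc_h_rc_35_0 lc_h_rc_26_3 lc_h_Cert_tree lc_h_rc_35_0 lc_h_rc_26_3 lc_h_rc_31_3 lc_h_rc_35_0 lc_h_Cert_tree lc_h_Cert_tree lc_h_rc_35_0 lc_h_rc_35_0 lc_h_rc_26_3 lc_h_rc_31_1 lc_h_rc_36_2 lc_h_rc_20_1 lc_h_Cert_tree lc_h_Cert_tree lc_h_Cert_tree lc_h_rc_35_0 lc_h_rc_35_0 lc_h_rc_26_3 lc_h_rc_35_0) (@D3.rec (fun _ => (Cert rels S Gen.h)) lc_h_rc_26_3 lc_h_rc_20_1 lc_h_rc_31_1 lc_h_rc_37_1 lc_h_rc_26_3 lc_h_rc_20_1 lc_h_rc_31_1 lc_h_rc_13_1 lc_h_rc_35_0 lc_h_rc_35_0 lc_h_rc_35_0 lc_h_rc_26_3 lc_h_rc_36_2 lc_h_rc_20_1 lc_h_rc_31_1 lc_h_rc_26_3 lc_h_rc_20_1 lc_h_rc_31_1 lc_h_rc_13_1 lc_h_rc_20_1 lc_h_rc_20_1 lc_h_rc_13_1 lc_h_rc_20_1 lc_h_rc_5_1 lc_h_rc_26_3 lc_h_Cert_tree lc_h_rc_13_1 lc_h_rc_5_1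 lc_h_rc_35_0 lc_h_rc_37_1 lc_h_rc_20_1 lc_h_rc_26_3) (@D3.rec (fun _ => (Cert rels S Gen.h)) lc_h_rc_26_3 lc_h_rc_36_2 lc_h_rc_20_1 lc_h_rc_31_1 lc_h_rc_20_1 lc_h_rc_36_2 lc_h_rc_13_1 lc_h_rc_20_1 lc_h_rc_13_1 lc_h_rc_5_1 lc_h_rc_13_1 lc_h_rc_31_1 lc_h_rc_20_1 lc_h_Cert_tree lc_h_rc_37_1 lc_h_rc_26_1 lc_h_Cert_tree lc_h_rc_35_0 lc_h_Cert_tree lc_h_rc_35_0 lc_h_Cert_tree lc_h_rc_35_0 lc_h_Cert_tree lc_h_rc_37_3 lc_h_Cert_tree lc_h_rc_35_0 lc_h_rc_35_0 lc_h_Cert_tree lc_h_rc_5_1 lc_h_Cert_tree lc_h_rc_35_0 lc_h_rc_13_1) (@D3.rec (fun _ => (Cert rels S Gen.h)) lc_h_rc_35_0 lc_h_Cert_tree lc_h_Cert_tree lc_h_rc_35_0 lc_h_rc_26_3 lc_h_rc_35_0 lc_h_rc_26_3 lc_h_Cert_tree lc_h_Cert_tree lc_h_rc_35_0 lc_h_rc_35_0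 lc_h_Cert_tree lc_h_rc_35_0 lc_h_rc_35_0 lc_h_rc_5_1 lc_h_rc_26_3 lc_h_rc_26_3 lc_h_Cert_tree lc_h_rc_35_0 lc_h_rc_5_1 lc_h_rc_35_0 lc_h_Cert_tree lc_h_Cert_tree lc_h_rc_35_0 lc_h_rc_13_1 lc_h_rc_37_1 lc_h_rc_5_1 lc_h_rc_35_0 lc_h_Cert_tree lc_h_Cert_tree lc_h_rc_35_0 lc_h_Cert_tree) (@D3.rec (fun _ => (Cert rels S Gen.h)) lc_h_rc_35_0 lc_h_rc_26_3 lc_h_rc_5_1 lc_h_rc_35_0 lc_h_rc_26_3 lc_h_rc_20_1 lc_h_rc_20_1 lc_h_Cert_tree lc_h_Cert_tree lc_h_rc_35_0 lc_h_rc_35_0 lc_h_rc_26_3 lc_h_rc_20_1 lc_h_rc_20_1 lc_h_rc_13_1 lc_h_rc_35_0 lc_h_rc_5_1 lc_h_rc_26_3 lc_h_rc_35_0 lc_h_rc_35_0 lc_h_rc_13_1 lc_h_rc_5_1 lc_h_rc_36_2 lc_h_rc_20_1 lc_h_rc_35_0 lc_h_rc_26_3 lc_h_rc_35_0 lc_h_rc_13_1 lc_h_rc_35_0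 lc_h_rc_5_1 lc_h_rc_35_0 lc_h_rc_20_1) (@D3.rec (fun _ => (Cert rels S Gen.h)) lc_h_rc_13_1 lc_h_rc_31_1 lc_h_rc_13_1 lc_h_rc_5_1 lc_h_rc_20_1 lc_h_rc_5_1 lc_h_rc_20_1 lc_h_rc_5_1 lc_h_rc_5_1 lc_h_Cert_tree lc_h_rc_35_0 lc_h_Cert_tree lc_h_rc_35_0 lc_h_rc_13_1 lc_h_Cert_tree lc_h_rc_37_1 lc_h_Cert_tree lc_h_rc_35_0 lc_h_rc_31_1 lc_h_Cert_tree lc_h_rc_41_1 lc_h_Cert_tree lc_h_rc_35_0 lc_h_rc_26_3 lc_h_Cert_tree lc_h_rc_35_0 lc_h_rc_26_3 lc_h_rc_35_0 lc_h_rc_35_0 lc_h_Cert_tree lc_h_rc_35_0 lc_h_rc_26_3) (@D3.rec (fun _ => (Cert rels S Gen.h)) lc_h_rc_26_3 lc_h_rc_35_0 lc_h_rc_13_3 lc_h_rc_35_0 lc_h_Cert_tree lc_h_Cert_tree lc_h_rc_35_0 lc_h_rc_13_1 lc_h_rc_26_1 lc_h_rc_26_3 lc_h_rc_35_0 lc_h_Cert_tree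 lc_h_Cert_tree lc_h_rc_35_0 lc_h_Cert_tree lc_h_rc_35_0 lc_h_rc_26_3 lc_h_rc_31_1 lc_h_rc_35_0 lc_h_rc_36_2 lc_h_rc_20_1 lc_h_Cert_tree lc_h_rc_35_0 lc_h_rc_26_3 lc_h_rc_26_3 lc_h_rc_35_0 lc_h_Cert_tree lc_h_rc_35_0 lc_h_rc_26_3 lc_h_rc_46_34 lc_h_Cert_tree lc_h_rc_35_0) (@D3.rec (fun _ => (Cert rels S Gen.h)) lc_h_Cert_tree lc_h_rc_35_0 lc_h_rc_26_3 lc_h_rc_31_1 lc_h_rc_35_0 lc_h_rc_26_3 lc_h_rc_20_1 lc_h_rc_5_3 lc_h_rc_35_0 lc_h_Cert_tree lc_h_Cert_tree lc_h_rc_35_0 lc_h_rc_26_3 lc_h_rc_5_1 lc_h_rc_13_1 lc_h_rc_35_0 lc_h_Cert_tree lc_h_Cert_tree lc_h_rc_35_0 lc_h_Cert_tree lc_h_rc_35_0 lc_h_rc_26_3 lc_h_rc_13_1 lc_h_Cert_tree lc_h_Cert_tree lc_h_Cert_tree lc_h_rc_35_0 lc_h_rc_35_0 lc_h_rc_26_3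 lc_h_rc_35_0 lc_h_rc_26_3 lc_h_rc_20_1) (@D3.rec (fun _ => (Cert rels S Gen.h)) lc_h_rc_31_1 lc_h_rc_36_0 lc_h_rc_20_1 lc_h_rc_13_1 lc_h_Cert_tree lc_h_rc_35_0 lc_h_rc_26_3 lc_h_rc_26_3 lc_h_rc_20_1 lc_h_rc_20_1 lc_h_rc_31_1 lc_h_rc_13_1 lc_h_rc_35_0 lc_h_rc_35_0 lc_h_rc_35_0 lc_h_rc_26_3 lc_h_rc_36_2 lc_h_rc_20_1 lc_h_rc_31_1 lc_h_rc_26_3 lc_h_rc_20_1 lc_h_rc_13_1 lc_h_rc_20_1 lc_h_rc_13_1 lc_h_rc_5_1 lc_h_rc_20_1 lc_h_rc_35_0 lc_h_rc_26_3 lc_h_rc_20_1 lc_h_rc_13_1 lc_h_rc_26_3 lc_h_rc_26_3) (@D3.rec (fun _ => (Cert rels S Gen.h)) lc_h_rc_20_1 lc_h_rc_31_1 lc_h_rc_13_1 lc_h_rc_35_0 lc_h_rc_5_1 lc_h_rc_35_0 lc_h_rc_26_3 lc_h_rc_20_1 lc_h_rc_26_3 lc_h_rc_26_3 lc_h_rc_31_1 lc_h_rc_13_1 lc_h_rc_13_1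 lc_h_rc_5_1 lc_h_rc_13_1 lc_h_rc_35_0 lc_h_rc_35_0 lc_h_rc_26_3 lc_h_Cert_tree lc_h_rc_35_0 lc_h_rc_35_0 lc_h_rc_35_0 lc_h_rc_37_1 lc_h_rc_20_1 lc_h_rc_35_0 lc_h_rc_26_3 lc_h_rc_35_0 lc_h_rc_5_1 lc_h_rc_35_0 lc_h_rc_13_1 lc_h_rc_35_0 lc_h_rc_26_3) (@D3.rec (fun _ => (Cert rels S Gen.h)) lc_h_rc_5_1 lc_h_rc_13_1 lc_h_rc_5_1 lc_h_rc_20_1 lc_h_rc_20_1 lc_h_rc_5_1 lc_h_rc_41_3 lc_h_Cert_tree lc_h_rc_35_0 lc_h_Cert_tree lc_h_Cert_tree lc_h_rc_35_0 lc_h_rc_35_0 lc_h_rc_37_1 lc_h_Cert_tree lc_h_rc_5_1 lc_h_Cert_tree lc_h_rc_35_0 lc_h_rc_35_0 lc_h_Cert_tree lc_h_Cert_tree lc_h_rc_35_0 lc_h_rc_26_3 lc_h_rc_35_0 lc_h_rc_26_3 lc_h_rc_35_0 lc_h_rc_35_0 lc_h_rc_26_3 lc_h_rc_35_0 lc_h_Cert_tree lc_h_rc_35_0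 lc_h_rc_13_1) (@D3.rec (fun _ => (Cert rels S Gen.h)) lc_h_rc_5_1 lc_h_rc_35_0 lc_h_Cert_tree lc_h_Cert_tree lc_h_rc_35_0 lc_h_rc_35_0 lc_h_rc_26_3 lc_h_rc_31_1 lc_h_Cert_tree lc_h_rc_35_0 lc_h_rc_26_3 lc_h_rc_26_3 lc_h_Cert_tree lc_h_rc_35_0 lc_h_rc_26_3 lc_h_Cert_tree lc_h_Cert_tree lc_h_rc_35_0 lc_h_rc_35_0 lc_h_rc_26_3 lc_h_rc_31_1 lc_h_rc_35_0 lc_h_Cert_tree lc_h_rc_35_0 lc_h_rc_26_3 lc_h_rc_13_1 lc_h_rc_35_0 lc_h_Cert_tree lc_h_Cert_tree lc_h_rc_35_0 lc_h_rc_35_0 lc_h_rc_26_3) (@D3.rec (fun _ => (Cert rels S Gen.h)) lc_h_rc_20_1 lc_h_rc_13_1 lc_h_Cert_tree lc_h_Cert_tree lc_h_Cert_tree lc_h_rc_35_0 lc_h_rc_35_0 lc_h_rc_26_3 lc_h_rc_35_0 lc_h_rc_26_3 lc_h_rc_20_1 lc_h_rc_31_1 lc_h_rc_37_1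 lc_h_rc_20_1 lc_h_Cert_tree lc_h_Cert_tree lc_h_Cert_tree lc_h_rc_35_0 lc_h_rc_35_0 lc_h_rc_35_0 lc_h_rc_35_0 lc_h_rc_35_0 lc_h_rc_26_3 lc_h_rc_36_2 lc_h_rc_20_1 lc_h_rc_31_1 lc_h_rc_26_3 lc_h_rc_20_1 lc_h_rc_20_1 lc_h_rc_13_1 lc_h_rc_5_1 lc_h_rc_20_1) (@D3.rec (fun _ => (Cert rels S Gen.h)) lc_h_rc_13_1 lc_h_rc_20_1 lc_h_rc_13_1 lc_h_rc_5_1 lc_h_rc_5_1 lc_h_rc_13_1 lc_h_rc_20_1 lc_h_rc_20_1 lc_h_rc_20_1 lc_h_Cert_tree lc_h_rc_35_0 lc_h_rc_35_0 lc_h_rc_26_3 lc_h_rc_26_3 lc_h_rc_13_1 lc_h_rc_31_1 lc_h_rc_31_1 lc_h_Cert_tree lc_h_Cert_tree lc_h_rc_35_0 lc_h_rc_35_0 lc_h_rc_26_3 lc_h_rc_13_1 lc_h_Cert_tree lc_h_Cert_tree lc_h_rc_35_0 lc_h_rc_35_0 lc_h_rc_26_3 lc_h_rc_26_3 lc_h_rc_31_1 lc_h_rc_36_0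 lc_h_rc_35_0) (@D3.rec (fun _ => (Cert rels S Gen.h)) lc_h_rc_35_0 lc_h_rc_13_1 lc_h_rc_20_1 lc_h_rc_35_0 lc_h_rc_35_0 lc_h_rc_26_3 lc_h_rc_26_3 lc_h_rc_37_1 lc_h_Cert_tree lc_h_rc_35_0 lc_h_rc_37_3 lc_h_rc_35_0 lc_h_Cert_tree lc_h_Cert_tree lc_h_rc_35_0 lc_h_rc_13_1 lc_h_rc_35_0 lc_h_rc_35_0 lc_h_Cert_tree lc_h_Cert_tree lc_h_rc_35_0 lc_h_Cert_tree lc_h_rc_35_0 lc_h_rc_26_3 lc_h_rc_31_1 lc_h_rc_35_0 lc_h_rc_37_1 lc_h_rc_20_1 lc_h_rc_36_2 lc_h_rc_31_1 lc_h_rc_35_0 lc_h_Cert_tree)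
def ce_h_14 : D2 → D3 → (Cert rels S Gen.h) := @D2.rec (fun _ => D3 → (Cert rels S Gen.h)) (@D3.rec (fun _ => (Cert rels S Gen.h)) lc_h_rc_35_0 lc_h_rc_5_1 lc_h_rc_13_1 lc_h_rc_35_0 lc_h_Cert_tree lc_h_Cert_tree lc_h_rc_35_0 lc_h_rc_35_0 lc_h_rc_26_3 lc_h_rc_13_1 lc_h_Cert_tree lc_h_Cert_tree lc_h_Cert_tree lc_h_rc_35_0 lc_h_rc_35_0 lc_h_rc_26_3 lc_h_rc_35_0 lc_h_rc_26_3 lc_h_rc_31_1 lc_h_rc_37_1 lc_h_Cert_tree lc_h_Cert_tree lc_h_Cert_tree lc_h_rc_35_0 lc_h_rc_35_0 lc_h_rc_26_3 lc_h_rc_35_0 lc_h_rc_26_3 lc_h_rc_31_1 lc_h_rc_36_0 lc_h_rc_13_1 lc_h_rc_35_0) (@D3.rec (fun _ => (Cert rels S Gen.h)) lc_h_Cert_tree lc_h_Cert_tree lc_h_rc_35_0 lc_h_rc_35_0 lc_h_rc_26_3 lc_h_rc_31_1 lc_h_Cert_tree lc_h_Cert_tree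 lc_h_Cert_tree lc_h_rc_35_0 lc_h_rc_35_0 lc_h_rc_26_3 lc_h_rc_35_0 lc_h_rc_26_3 lc_h_rc_20_1 lc_h_rc_31_1 lc_h_rc_36_0 lc_h_rc_35_0 lc_h_rc_35_0 lc_h_rc_35_0 lc_h_rc_26_3 lc_h_rc_36_2 lc_h_rc_20_1 lc_h_rc_31_1 lc_h_rc_26_3 lc_h_rc_20_1 lc_h_rc_31_1 lc_h_rc_13_1 lc_h_rc_20_1 lc_h_rc_37_1 lc_h_rc_41_1 lc_h_rc_35_0) (@D3.rec (fun _ => (Cert rels S Gen.h)) lc_h_rc_35_0 lc_h_rc_35_0 lc_h_rc_26_3 lc_h_rc_36_2 lc_h_rc_31_1 lc_h_rc_26_3 lc_h_rc_31_1 lc_h_rc_26_3 lc_h_rc_26_3 lc_h_rc_20_1 lc_h_rc_20_1 lc_h_rc_36_2 lc_h_rc_13_1 lc_h_rc_20_1 lc_h_rc_20_1 lc_h_rc_5_1 lc_h_rc_36_2 lc_h_rc_20_1 lc_h_rc_36_2 lc_h_rc_5_1 lc_h_rc_5_1 lc_h_rc_20_1 lc_h_rc_13_1 lc_h_rc_20_1 lc_h_rc_35_0 lc_h_rc_26_3 lc_h_rc_20_1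 lc_h_rc_36_2 lc_h_rc_35_0 lc_h_rc_41_1 lc_h_rc_26_3 lc_h_rc_35_0) (@D3.rec (fun _ => (Cert rels S Gen.h)) lc_h_rc_20_1 lc_h_rc_13_3 lc_h_rc_20_1 lc_h_rc_31_1 lc_h_rc_13_1 lc_h_Cert_tree lc_h_Cert_tree lc_h_Cert_tree lc_h_rc_35_0 lc_h_rc_35_0 lc_h_rc_26_3 lc_h_rc_35_0 lc_h_rc_26_3 lc_h_rc_20_1 lc_h_rc_35_0 lc_h_rc_35_0 lc_h_rc_35_0 lc_h_rc_26_3 lc_h_rc_36_2 lc_h_rc_20_1 lc_h_rc_31_1 lc_h_rc_26_3 lc_h_rc_20_1 lc_h_rc_13_1 lc_h_rc_20_1 lc_h_rc_41_1 lc_h_rc_26_3 lc_h_rc_26_3 lc_h_rc_36_2 lc_h_rc_13_1 lc_h_rc_20_1 lc_h_rc_13_1) (@D3.rec (fun _ => (Cert rels S Gen.h)) lc_h_rc_26_3 lc_h_rc_26_3 lc_h_rc_36_2 lc_h_rc_20_1 lc_h_rc_31_1 lc_h_rc_13_1 lc_h_rc_5_1 lc_h_rc_13_1 lc_h_rc_37_1 lc_h_rc_20_1 lc_h_rc_36_2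 lc_h_rc_20_1 lc_h_rc_20_1 lc_h_Cert_tree lc_h_Cert_tree lc_h_rc_35_0 lc_h_rc_35_0 lc_h_rc_26_3 lc_h_rc_26_3 lc_h_rc_20_1 lc_h_rc_20_1 lc_h_rc_31_1 lc_h_rc_13_1 lc_h_rc_35_0 lc_h_rc_35_0 lc_h_rc_35_0 lc_h_rc_13_1 lc_h_rc_13_1 lc_h_rc_5_1 lc_h_Cert_tree lc_h_rc_35_0 lc_h_Cert_tree) (@D3.rec (fun _ => (Cert rels S Gen.h)) lc_h_Cert_tree lc_h_rc_35_0 lc_h_rc_26_3 lc_h_rc_35_0 lc_h_rc_26_3 lc_h_rc_13_1 lc_h_Cert_tree lc_h_rc_35_0 lc_h_rc_26_3 lc_h_rc_31_1 lc_h_rc_20_1 lc_h_Cert_tree lc_h_rc_35_0 lc_h_rc_26_3 lc_h_rc_20_1 lc_h_rc_13_1 lc_h_Cert_tree lc_h_Cert_tree lc_h_rc_35_0 lc_h_rc_35_0 lc_h_rc_26_3 lc_h_rc_26_3 lc_h_rc_20_1 lc_h_rc_31_1 lc_h_rc_37_1 lc_h_rc_20_1 lc_h_rc_13_1 lc_h_rc_35_0 lc_h_rc_35_0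 lc_h_rc_35_0 lc_h_rc_26_3 lc_h_rc_36_2) (@D3.rec (fun _ => (Cert rels S Gen.h)) lc_h_rc_20_1 lc_h_rc_31_1 lc_h_rc_26_3 lc_h_rc_20_1 lc_h_rc_13_1 lc_h_rc_20_1 lc_h_rc_5_1 lc_h_rc_20_1 lc_h_rc_13_1 lc_h_rc_13_1 lc_h_rc_20_1 lc_h_rc_13_1 lc_h_rc_20_1 lc_h_rc_5_1 lc_h_rc_13_1 lc_h_Cert_tree lc_h_Cert_tree lc_h_Cert_tree lc_h_rc_35_0 lc_h_Cert_tree lc_h_rc_35_0 lc_h_rc_26_3 lc_h_rc_31_1 lc_h_rc_35_0 lc_h_rc_36_2 lc_h_rc_20_1 lc_h_Cert_tree lc_h_Cert_tree lc_h_rc_35_0 lc_h_rc_35_0 lc_h_rc_26_3 lc_h_rc_26_3) (@D3.rec (fun _ => (Cert rels S Gen.h)) lc_h_rc_20_1 lc_h_rc_31_1 lc_h_rc_37_1 lc_h_rc_20_1 lc_h_rc_35_0 lc_h_rc_35_0 lc_h_rc_35_0 lc_h_rc_26_3 lc_h_rc_36_2 lc_h_rc_20_1 lc_h_rc_31_1 lc_h_rc_26_3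 lc_h_rc_20_1 lc_h_rc_31_1 lc_h_rc_13_1 lc_h_rc_20_1 lc_h_rc_37_1 lc_h_rc_41_1 lc_h_rc_20_1 lc_h_rc_13_1 lc_h_rc_20_1 lc_h_rc_5_1 lc_h_rc_26_3 lc_h_rc_26_3 lc_h_rc_36_2 lc_h_rc_20_1 lc_h_rc_31_1 lc_h_rc_20_1 lc_h_rc_36_2 lc_h_rc_13_1 lc_h_rc_20_1 lc_h_rc_20_1) (@D3.rec (fun _ => (Cert rels S Gen.h)) lc_h_rc_13_1 lc_h_rc_20_1 lc_h_rc_5_1 lc_h_rc_13_1 lc_h_Cert_tree lc_h_rc_20_1 lc_h_rc_35_0 lc_h_rc_41_1 lc_h_rc_20_1 lc_h_rc_31_1 lc_h_rc_13_1 lc_h_rc_20_1 lc_h_rc_36_2 lc_h_rc_13_1 lc_h_rc_13_1 lc_h_rc_20_1 lc_h_rc_5_1 lc_h_rc_13_1 lc_h_rc_5_1 lc_h_Cert_tree lc_h_Cert_tree lc_h_rc_35_0 lc_h_Cert_tree lc_h_Cert_tree lc_h_rc_35_0 lc_h_rc_26_3 lc_h_rc_35_0 lc_h_rc_26_3 lc_h_rc_35_0 lc_h_rc_35_0 lc_h_Cert_tree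 lc_h_rc_35_0) (@D3.rec (fun _ => (Cert rels S Gen.h)) lc_h_rc_26_3 lc_h_rc_26_3 lc_h_rc_35_0 lc_h_Cert_tree lc_h_rc_35_0 lc_h_rc_13_1 lc_h_Cert_tree lc_h_Cert_tree lc_h_rc_35_0 lc_h_rc_35_0 lc_h_rc_26_3 lc_h_rc_31_1 lc_h_rc_36_2 lc_h_rc_20_1 lc_h_rc_35_0 lc_h_rc_35_0 lc_h_rc_26_3 lc_h_rc_26_3 lc_h_rc_35_0 lc_h_rc_13_1 lc_h_rc_26_3 lc_h_rc_5_1 lc_h_rc_20_1 lc_h_Cert_tree lc_h_rc_35_0 lc_h_rc_5_1 lc_h_Cert_tree lc_h_rc_35_0 lc_h_rc_35_0 lc_h_rc_26_3 lc_h_rc_13_1 lc_h_rc_13_1) (@D3.rec (fun _ => (Cert rels S Gen.h)) lc_h_Cert_tree lc_h_Cert_tree lc_h_rc_35_0 lc_h_rc_35_0 lc_h_rc_26_3 lc_h_rc_35_0 lc_h_rc_26_3 lc_h_rc_20_1 lc_h_rc_31_1 lc_h_rc_5_1 lc_h_rc_20_1 lc_h_rc_13_1 lc_h_rc_35_0 lc_h_rc_35_0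 lc_h_rc_36_2 lc_h_rc_20_1 lc_h_rc_13_1 lc_h_rc_5_1 lc_h_rc_13_1 lc_h_rc_5_1 lc_h_rc_20_1 lc_h_rc_13_1 lc_h_rc_13_1 lc_h_rc_20_1 lc_h_rc_5_1 lc_h_rc_20_1 lc_h_rc_5_1 lc_h_Cert_tree lc_h_rc_35_0 lc_h_rc_35_0 lc_h_rc_26_3 lc_h_Cert_tree) (@D3.rec (fun _ => (Cert rels S Gen.h)) lc_h_rc_35_0 lc_h_Cert_tree lc_h_rc_35_0 lc_h_rc_13_1 lc_h_Cert_tree lc_h_rc_35_0 lc_h_Cert_tree lc_h_rc_35_0 lc_h_rc_26_3 lc_h_rc_31_1 lc_h_rc_35_0 lc_h_rc_37_1 lc_h_rc_20_1 lc_h_rc_26_3 lc_h_rc_13_1 lc_h_rc_35_0 lc_h_rc_26_3 lc_h_rc_31_1 lc_h_rc_20_1 lc_h_rc_5_1 lc_h_Cert_tree lc_h_Cert_tree lc_h_rc_35_0 lc_h_rc_35_0 lc_h_rc_26_3 lc_h_rc_13_1 lc_h_Cert_tree lc_h_Cert_tree lc_h_Cert_tree lc_h_rc_35_0 lc_h_rc_35_0 lc_h_rc_26_3)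 (@D3.rec (fun _ => (Cert rels S Gen.h)) lc_h_rc_35_0 lc_h_rc_26_3 lc_h_rc_20_1 lc_h_rc_31_1 lc_h_rc_37_1 lc_h_rc_20_1 lc_h_rc_13_1 lc_h_rc_35_0 lc_h_rc_26_3 lc_h_rc_31_1 lc_h_rc_20_1 lc_h_rc_26_3 lc_h_rc_35_0 lc_h_rc_26_3 lc_h_rc_31_1 lc_h_Cert_tree lc_h_rc_35_0 lc_h_rc_26_3 lc_h_rc_35_0 lc_h_rc_26_3 lc_h_rc_20_1 lc_h_rc_31_1 lc_h_rc_37_1 lc_h_rc_20_1 lc_h_rc_31_1 lc_h_rc_13_1 lc_h_Cert_tree lc_h_Cert_tree lc_h_rc_35_0 lc_h_rc_35_0 lc_h_rc_26_3 lc_h_rc_31_1) (@D3.rec (fun _ => (Cert rels S Gen.h)) lc_h_Cert_tree lc_h_Cert_tree lc_h_Cert_tree lc_h_rc_35_0 lc_h_rc_35_0 lc_h_rc_26_3 lc_h_rc_35_0 lc_h_rc_26_3 lc_h_rc_20_1 lc_h_rc_31_1 lc_h_rc_13_1 lc_h_rc_35_0 lc_h_rc_35_0 lc_h_rc_35_0 lc_h_rc_26_3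 lc_h_rc_36_2 lc_h_rc_20_1 lc_h_rc_31_1 lc_h_rc_26_3 lc_h_rc_20_1 lc_h_rc_31_1 lc_h_rc_13_1 lc_h_rc_20_1 lc_h_rc_37_1 lc_h_rc_36_0 lc_h_rc_13_1 lc_h_rc_5_1 lc_h_rc_35_0 lc_h_rc_26_3 lc_h_rc_20_1 lc_h_rc_20_1 lc_h_rc_31_1) (@D3.rec (fun _ => (Cert rels S Gen.h)) lc_h_rc_13_1 lc_h_rc_13_1 lc_h_rc_20_1 lc_h_rc_26_3 lc_h_rc_36_2 lc_h_rc_20_1 lc_h_rc_20_1 lc_h_rc_36_2 lc_h_rc_13_1 lc_h_rc_20_1 lc_h_rc_13_1 lc_h_rc_5_1 lc_h_rc_13_1 lc_h_rc_13_1 lc_h_rc_41_1 lc_h_rc_13_1 lc_h_rc_5_1 lc_h_rc_20_1 lc_h_rc_13_1 lc_h_rc_13_1 lc_h_rc_20_1 lc_h_rc_26_3 lc_h_rc_20_1 lc_h_rc_31_1 lc_h_rc_20_1 lc_h_rc_35_0 lc_h_rc_31_1 lc_h_rc_13_1 lc_h_rc_26_3 lc_h_rc_31_1 lc_h_rc_13_1 lc_h_rc_5_1) (@D3.rec (fun _ => (Cert rels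 S Gen.h)) lc_h_rc_5_1 lc_h_rc_13_1 lc_h_rc_13_1 lc_h_rc_26_3 lc_h_rc_31_1 lc_h_rc_5_1 lc_h_rc_20_1 lc_h_rc_5_1 lc_h_Cert_tree lc_h_rc_35_0 lc_h_rc_35_0 lc_h_rc_35_0 lc_h_rc_26_3 lc_h_Cert_tree lc_h_rc_35_0 lc_h_Cert_tree lc_h_rc_35_0 lc_h_rc_13_1 lc_h_Cert_tree lc_h_rc_35_0 lc_h_rc_35_0 lc_h_rc_26_3 lc_h_rc_31_1 lc_h_rc_37_1 lc_h_rc_20_1 lc_h_rc_26_3 lc_h_rc_13_1 lc_h_rc_31_1 lc_h_rc_5_1 lc_h_rc_35_0 lc_h_rc_26_3 lc_h_rc_20_1) (@D3.rec (fun _ => (Cert rels S Gen.h)) lc_h_rc_13_1 lc_h_Cert_tree lc_h_Cert_tree lc_h_rc_35_0 lc_h_rc_35_0 lc_h_rc_26_3 lc_h_rc_26_3 lc_h_rc_31_1 lc_h_rc_37_1 lc_h_rc_35_0 lc_h_rc_26_3 lc_h_rc_31_1 lc_h_rc_20_1 lc_h_rc_35_0 lc_h_rc_26_3 lc_h_rc_20_1 lc_h_rc_31_1 lc_h_rc_35_0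 lc_h_rc_35_0 lc_h_rc_26_3 lc_h_rc_26_3 lc_h_rc_31_1 lc_h_rc_37_1 lc_h_Cert_tree lc_h_rc_35_0 lc_h_rc_26_3 lc_h_rc_20_1 lc_h_rc_31_1 lc_h_Cert_tree lc_h_Cert_tree lc_h_rc_35_0 lc_h_rc_35_0) (@D3.rec (fun _ => (Cert rels S Gen.h)) lc_h_rc_26_3 lc_h_rc_26_3 lc_h_rc_20_1 lc_h_rc_31_1 lc_h_rc_20_1 lc_h_rc_13_1 lc_h_rc_35_0 lc_h_rc_35_0 lc_h_rc_35_0 lc_h_rc_26_3 lc_h_rc_36_2 lc_h_rc_20_1 lc_h_rc_31_1 lc_h_rc_26_3 lc_h_rc_20_1 lc_h_rc_31_1 lc_h_rc_20_1 lc_h_rc_37_1 lc_h_rc_41_1 lc_h_rc_35_0 lc_h_rc_35_0 lc_h_rc_35_0 lc_h_rc_26_3 lc_h_rc_20_1 lc_h_rc_36_2 lc_h_rc_36_2 lc_h_rc_20_1 lc_h_rc_20_1 lc_h_rc_5_1 lc_h_rc_20_1 lc_h_rc_20_1 lc_h_rc_5_1) (@D3.rec (fun _ => (Cert rels S Gen.h)) lc_h_rc_20_1 lc_h_Cert_tree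 lc_h_Cert_tree lc_h_rc_35_0 lc_h_rc_13_1 lc_h_rc_35_0 lc_h_rc_31_1 lc_h_rc_20_1 lc_h_rc_13_1 lc_h_rc_37_1 lc_h_rc_37_1 lc_h_rc_35_0 lc_h_rc_35_0 lc_h_rc_26_3 lc_h_rc_26_3 lc_h_rc_20_1 lc_h_rc_31_1 lc_h_rc_13_1 lc_h_rc_35_0 lc_h_rc_35_0 lc_h_rc_26_3 lc_h_rc_26_3 lc_h_rc_31_1 lc_h_rc_31_1 lc_h_rc_37_1 lc_h_rc_36_0 lc_h_rc_20_1 lc_h_rc_36_2 lc_h_rc_26_3 lc_h_rc_31_1 lc_h_rc_20_1 lc_h_Cert_tree) (@D3.rec (fun _ => (Cert rels S Gen.h)) lc_h_rc_35_0 lc_h_rc_5_1 lc_h_Cert_tree lc_h_Cert_tree lc_h_rc_35_0 lc_h_rc_35_0 lc_h_rc_26_3 lc_h_rc_13_1 lc_h_Cert_tree lc_h_Cert_tree lc_h_rc_35_0 lc_h_rc_35_0 lc_h_rc_26_3 lc_h_rc_35_0 lc_h_rc_26_3 lc_h_rc_20_1 lc_h_rc_31_1 lc_h_rc_37_1 lc_h_rc_37_1 lc_h_rc_20_1 lc_h_rc_31_1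 lc_h_rc_13_1 lc_h_rc_37_1 lc_h_Cert_tree lc_h_rc_35_0 lc_h_rc_26_3 lc_h_rc_5_1 lc_h_Cert_tree lc_h_Cert_tree lc_h_rc_35_0 lc_h_rc_35_0 lc_h_rc_26_3) (@D3.rec (fun _ => (Cert rels S Gen.h)) lc_h_rc_26_3 lc_h_rc_20_1 lc_h_rc_31_1 lc_h_rc_37_1 lc_h_rc_35_0 lc_h_rc_35_0 lc_h_rc_35_0 lc_h_rc_26_3 lc_h_rc_36_2 lc_h_rc_31_1 lc_h_rc_26_3 lc_h_rc_31_1 lc_h_rc_37_1 lc_h_rc_41_1 lc_h_rc_35_0 lc_h_rc_35_0 lc_h_rc_35_0 lc_h_rc_26_3 lc_h_rc_36_2 lc_h_rc_31_1 lc_h_rc_26_3 lc_h_rc_31_1 lc_h_rc_37_1 lc_h_rc_36_0 lc_h_Cert_tree lc_h_Cert_tree lc_h_rc_35_0 lc_h_rc_35_0 lc_h_rc_26_3 lc_h_rc_26_3 lc_h_rc_20_1 lc_h_rc_31_1) (@D3.rec (fun _ => (Cert rels S Gen.h)) lc_h_rc_37_1 lc_h_rc_35_0 lc_h_rc_35_0 lc_h_rc_35_0 lc_h_rc_26_3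 lc_h_rc_13_1 lc_h_rc_20_1 lc_h_rc_31_1 lc_h_rc_26_3 lc_h_rc_20_1 lc_h_rc_31_1 lc_h_rc_13_1 lc_h_rc_20_1 lc_h_rc_37_1 lc_h_rc_36_0 lc_h_rc_26_3 lc_h_rc_26_3 lc_h_rc_26_3 lc_h_rc_20_1 lc_h_rc_31_1 lc_h_rc_36_2 lc_h_rc_36_2 lc_h_rc_13_1 lc_h_rc_20_1 lc_h_rc_37_1 lc_h_rc_31_1 lc_h_rc_20_1 lc_h_rc_37_1 lc_h_rc_13_1 lc_h_rc_20_1 lc_h_rc_41_1 lc_h_rc_13_1)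
def ce_h_15 : D2 → D3 → (Cert rels S Gen.h) := @D2.rec (fun _ => D3 → (Cert rels S Gen.h)) (@D3.rec (fun _ => (Cert rels S Gen.h)) lc_h_rc_26_3 lc_h_rc_36_2 lc_h_rc_31_1 lc_h_rc_41_1 lc_h_rc_20_1 lc_h_rc_26_3 lc_h_rc_20_1 lc_h_rc_20_1 lc_h_rc_36_2 lc_h_rc_5_1 lc_h_rc_13_1 lc_h_rc_13_1 lc_h_rc_20_1 lc_h_rc_13_1 lc_h_rc_13_1 lc_h_rc_5_1 lc_h_rc_35_0 lc_h_rc_35_0 lc_h_rc_35_0 lc_h_rc_26_3 lc_h_rc_5_1 lc_h_rc_20_1 lc_h_rc_26_3 lc_h_rc_20_1 lc_h_rc_13_1 lc_h_rc_26_3 lc_h_rc_26_3 lc_h_rc_20_1 lc_h_rc_20_1 lc_h_rc_36_2 lc_h_rc_13_1 lc_h_rc_20_1) (@D3.rec (fun _ => (Cert rels S Gen.h)) lc_h_rc_13_1 lc_h_rc_13_3 lc_h_rc_13_1 lc_h_rc_20_1 lc_h_rc_31_1 lc_h_rc_13_1 lc_h_rc_13_1 lc_h_rc_35_0 lc_h_rc_35_0 lc_h_rc_26_3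 lc_h_rc_36_2 lc_h_rc_20_1 lc_h_rc_20_1 lc_h_rc_31_1 lc_h_rc_13_1 lc_h_rc_13_1 lc_h_rc_31_1 lc_h_rc_5_1 lc_h_rc_26_3 lc_h_rc_5_1 lc_h_rc_35_0 lc_h_rc_13_1 lc_h_rc_35_0 lc_h_rc_35_0 lc_h_rc_26_3 lc_h_rc_31_1 lc_h_rc_37_1 lc_h_rc_20_1 lc_h_rc_20_1 lc_h_rc_13_1 lc_h_rc_35_0 lc_h_rc_26_3) (@D3.rec (fun _ => (Cert rels S Gen.h)) lc_h_rc_20_1 lc_h_rc_31_1 lc_h_rc_37_1 lc_h_rc_13_1 lc_h_rc_35_0 lc_h_rc_26_3 lc_h_rc_20_1 lc_h_rc_31_1 lc_h_rc_20_1 lc_h_rc_13_1 lc_h_rc_35_0 lc_h_rc_35_0 lc_h_rc_26_3 lc_h_rc_36_2 lc_h_rc_20_1 lc_h_rc_31_1 lc_h_rc_20_1 lc_h_rc_31_1 lc_h_rc_13_1 lc_h_rc_20_1 lc_h_rc_37_1 lc_h_rc_41_1 lc_h_rc_5_1 lc_h_rc_26_3 lc_h_rc_36_2 lc_h_rc_20_1 lc_h_rc_20_1 lc_h_rc_36_2 lc_h_rc_13_1 lc_h_rc_20_1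 lc_h_rc_5_1 lc_h_rc_13_1) (@D3.rec (fun _ => (Cert rels S Gen.h)) lc_h_rc_20_1 lc_h_rc_20_1 lc_h_rc_20_1 lc_h_Cert_tree lc_h_rc_35_0 lc_h_rc_35_0 lc_h_rc_35_0 lc_h_rc_26_3 lc_h_rc_35_0 lc_h_rc_26_3 lc_h_rc_20_1 lc_h_rc_31_1 lc_h_rc_37_1 lc_h_rc_41_1 lc_h_rc_20_1 lc_h_rc_36_2 lc_h_rc_13_1 lc_h_rc_35_0 lc_h_rc_35_0 lc_h_rc_26_3 lc_h_rc_36_2 lc_h_rc_20_1 lc_h_rc_31_1 lc_h_rc_20_1 lc_h_rc_31_1 lc_h_rc_20_1 lc_h_rc_37_1 lc_h_rc_41_1 lc_h_rc_26_3 lc_h_rc_26_3 lc_h_rc_26_3 lc_h_rc_20_1) (@D3.rec (fun _ => (Cert rels S Gen.h)) lc_h_rc_31_1 lc_h_rc_20_1 lc_h_rc_36_2 lc_h_rc_13_1 lc_h_rc_20_1 lc_h_rc_37_1 lc_h_rc_20_1 lc_h_rc_31_1 lc_h_rc_13_1 lc_h_rc_20_1 lc_h_rc_37_1 lc_h_rc_5_1 lc_h_rc_13_1 lc_h_rc_20_1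 lc_h_rc_41_1 lc_h_Cert_tree lc_h_rc_20_1 lc_h_rc_20_1 lc_h_rc_20_1 lc_h_rc_36_2 lc_h_rc_13_1 lc_h_rc_20_1 lc_h_rc_13_1 lc_h_rc_20_1 lc_h_rc_5_1 lc_h_rc_13_1 lc_h_rc_26_3 lc_h_rc_5_1 lc_h_rc_35_0 lc_h_rc_13_1 lc_h_rc_5_1 lc_h_rc_13_1) (@D3.rec (fun _ => (Cert rels S Gen.h)) lc_h_rc_5_1 lc_h_rc_13_1 lc_h_rc_5_1 lc_h_rc_35_0 lc_h_rc_35_0 lc_h_rc_13_1 lc_h_rc_35_0 lc_h_rc_35_0 lc_h_rc_26_3 lc_h_rc_31_1 lc_h_rc_37_1 lc_h_rc_20_1 lc_h_rc_26_3 lc_h_rc_26_3 lc_h_rc_35_0 lc_h_rc_26_3 lc_h_rc_31_1 lc_h_rc_20_1 lc_h_rc_5_1 lc_h_rc_35_0 lc_h_rc_26_3 lc_h_rc_20_1 lc_h_rc_13_1 lc_h_rc_35_0 lc_h_rc_35_0 lc_h_rc_26_3 lc_h_rc_26_3 lc_h_rc_20_1 lc_h_rc_31_1 lc_h_rc_37_1 lc_h_rc_20_1 lc_h_rc_13_1) (@D3.rec (fun _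 => (Cert rels S Gen.h)) lc_h_rc_26_3 lc_h_rc_26_3 lc_h_rc_31_1 lc_h_rc_20_1 lc_h_rc_26_3 lc_h_rc_20_1 lc_h_rc_13_1 lc_h_rc_20_1 lc_h_rc_35_1 lc_h_rc_5_1 lc_h_rc_35_0 lc_h_rc_26_3 lc_h_rc_5_1 lc_h_rc_5_1 lc_h_rc_35_0 lc_h_rc_26_3 lc_h_rc_26_3 lc_h_rc_31_1 lc_h_rc_13_1 lc_h_rc_13_1 lc_h_rc_35_0 lc_h_rc_35_0 lc_h_rc_26_3 lc_h_rc_36_2 lc_h_rc_20_1 lc_h_rc_31_1 lc_h_rc_26_3 lc_h_rc_13_3 lc_h_rc_31_1 lc_h_rc_13_1 lc_h_rc_20_1 lc_h_rc_37_1) (@D3.rec (fun _ => (Cert rels S Gen.h)) lc_h_rc_5_1 lc_h_rc_5_1 lc_h_rc_20_1 lc_h_rc_13_1 lc_h_rc_5_1 lc_h_rc_20_1 lc_h_rc_5_1 lc_h_rc_20_1 lc_h_Cert_tree lc_h_rc_35_0 lc_h_rc_26_3 lc_h_rc_13_1 lc_h_rc_31_1 lc_h_rc_35_0 lc_h_rc_5_1 lc_h_rc_35_0 lc_h_rc_26_3 lc_h_rc_13_1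 lc_h_rc_35_0 lc_h_rc_26_3 lc_h_rc_35_0 lc_h_rc_26_3 lc_h_rc_20_1 lc_h_rc_31_1 lc_h_rc_37_1 lc_h_rc_20_1 lc_h_rc_31_1 lc_h_rc_13_1 lc_h_rc_31_1 lc_h_rc_13_1 lc_h_rc_26_3 lc_h_rc_20_1) (@D3.rec (fun _ => (Cert rels S Gen.h)) lc_h_rc_31_1 lc_h_rc_37_1 lc_h_rc_13_1 lc_h_rc_5_1 lc_h_rc_35_0 lc_h_rc_35_0 lc_h_rc_26_3 lc_h_rc_26_3 lc_h_rc_20_1 lc_h_rc_31_1 lc_h_rc_37_1 lc_h_rc_35_0 lc_h_rc_35_0 lc_h_rc_35_0 lc_h_rc_26_3 lc_h_rc_36_2 lc_h_rc_20_1 lc_h_rc_31_1 lc_h_rc_26_3 lc_h_rc_20_1 lc_h_rc_31_1 lc_h_rc_13_1 lc_h_rc_20_1 lc_h_rc_37_1 lc_h_rc_41_1 lc_h_rc_13_1 lc_h_rc_5_1 lc_h_rc_26_3 lc_h_rc_20_1 lc_h_rc_31_1 lc_h_rc_37_1 lc_h_rc_31_1) (@D3.rec (fun _ => (Cert rels S Gen.h)) lc_h_rc_26_3 lc_h_rc_20_1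 lc_h_rc_31_1 lc_h_rc_37_1 lc_h_rc_35_0 lc_h_rc_26_3 lc_h_rc_20_1 lc_h_rc_31_1 lc_h_rc_26_3 lc_h_rc_20_1 lc_h_rc_31_1 lc_h_rc_13_1 lc_h_rc_20_1 lc_h_rc_37_1 lc_h_rc_37_1 lc_h_rc_13_1 lc_h_rc_20_1 lc_h_rc_35_0 lc_h_rc_35_0 lc_h_rc_26_3 lc_h_rc_26_3 lc_h_rc_20_1 lc_h_rc_31_1 lc_h_rc_37_1 lc_h_rc_35_0 lc_h_rc_35_0 lc_h_rc_35_0 lc_h_rc_26_3 lc_h_rc_13_1 lc_h_rc_20_1 lc_h_rc_31_1 lc_h_rc_26_3) (@D3.rec (fun _ => (Cert rels S Gen.h)) lc_h_rc_20_1 lc_h_rc_31_1 lc_h_rc_13_1 lc_h_rc_20_1 lc_h_rc_37_1 lc_h_rc_13_1 lc_h_rc_26_3 lc_h_rc_26_3 lc_h_rc_26_3 lc_h_rc_20_1 lc_h_rc_31_1 lc_h_rc_20_1 lc_h_rc_36_2 lc_h_rc_13_1 lc_h_rc_20_1 lc_h_rc_37_1 lc_h_rc_31_1 lc_h_rc_13_1 lc_h_rc_20_1 lc_h_rc_37_1 lc_h_rc_5_1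 lc_h_rc_13_1 lc_h_rc_20_1 lc_h_rc_41_1 lc_h_rc_20_1 lc_h_rc_31_1 lc_h_rc_13_1 lc_h_rc_13_1 lc_h_rc_20_1 lc_h_rc_5_1 lc_h_rc_20_1 lc_h_rc_13_1) (@D3.rec (fun _ => (Cert rels S Gen.h)) lc_h_rc_13_1 lc_h_rc_20_1 lc_h_rc_5_1 lc_h_rc_13_1 lc_h_rc_26_3 lc_h_rc_5_1 lc_h_rc_20_1 lc_h_rc_20_1 lc_h_rc_20_1 lc_h_rc_5_1 lc_h_rc_31_1 lc_h_rc_37_1 lc_h_rc_20_1 lc_h_rc_13_1 lc_h_rc_5_1 lc_h_rc_5_1 lc_h_rc_5_1 lc_h_rc_13_1 lc_h_rc_13_1 lc_h_rc_31_1 lc_h_rc_37_1 lc_h_rc_5_1 lc_h_rc_35_0 lc_h_rc_26_3 lc_h_rc_13_1 lc_h_rc_26_3 lc_h_rc_31_1 lc_h_rc_35_0 lc_h_rc_5_1 lc_h_rc_35_0 lc_h_rc_41_1 lc_h_rc_20_1) (@D3.rec (fun _ => (Cert rels S Gen.h)) lc_h_rc_13_1 lc_h_rc_35_0 lc_h_rc_26_3 lc_h_rc_26_3 lc_h_rc_5_3 lc_h_rc_31_1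 lc_h_rc_37_1 lc_h_rc_20_1 lc_h_rc_31_1 lc_h_rc_13_1 lc_h_rc_31_1 lc_h_rc_20_1 lc_h_rc_13_1 lc_h_rc_37_1 lc_h_rc_5_1 lc_h_rc_5_1 lc_h_rc_26_3 lc_h_rc_31_1 lc_h_rc_20_1 lc_h_rc_37_1 lc_h_rc_35_0 lc_h_rc_35_0 lc_h_rc_26_3 lc_h_rc_36_2 lc_h_rc_31_1 lc_h_rc_31_1 lc_h_rc_37_1 lc_h_rc_41_1 lc_h_rc_26_3 lc_h_rc_20_1 lc_h_rc_31_1 lc_h_rc_37_1) (@D3.rec (fun _ => (Cert rels S Gen.h)) lc_h_rc_26_3 lc_h_rc_20_1 lc_h_rc_31_1 lc_h_rc_20_1 lc_h_rc_36_0 lc_h_rc_26_3 lc_h_rc_36_2 lc_h_rc_31_1 lc_h_rc_31_1 lc_h_rc_37_1 lc_h_rc_41_1 lc_h_rc_35_0 lc_h_rc_26_3 lc_h_rc_20_1 lc_h_rc_31_1 lc_h_rc_20_1 lc_h_rc_36_0 lc_h_rc_35_0 lc_h_rc_35_0 lc_h_rc_26_3 lc_h_rc_41_1 lc_h_rc_20_1 lc_h_rc_31_1 lc_h_rc_20_1 lc_h_rc_31_1 lc_h_rc_20_1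 lc_h_rc_37_1 lc_h_Cert_tree lc_h_rc_20_1 lc_h_rc_13_1 lc_h_rc_26_3 lc_h_rc_26_3) (@D3.rec (fun _ => (Cert rels S Gen.h)) lc_h_rc_26_3 lc_h_rc_20_1 lc_h_rc_31_1 lc_h_rc_36_2 lc_h_rc_36_2 lc_h_rc_20_1 lc_h_rc_37_1 lc_h_rc_31_1 lc_h_rc_20_1 lc_h_rc_37_1 lc_h_rc_20_1 lc_h_rc_41_1 lc_h_rc_26_3 lc_h_rc_36_2 lc_h_rc_26_3 lc_h_Cert_tree lc_h_rc_35_0 lc_h_rc_35_0 lc_h_rc_36_2 lc_h_rc_13_1 lc_h_rc_20_1 lc_h_rc_31_1 lc_h_rc_37_1 lc_h_rc_37_1 lc_h_rc_41_1 lc_h_rc_37_1 lc_h_rc_26_3 lc_h_rc_26_3 lc_h_rc_20_1 lc_h_rc_31_1 lc_h_rc_20_1 lc_h_rc_31_1) (@D3.rec (fun _ => (Cert rels S Gen.h)) lc_h_rc_20_1 lc_h_rc_37_1 lc_h_rc_13_1 lc_h_rc_26_3 lc_h_rc_26_3 lc_h_rc_31_1 lc_h_rc_31_1 lc_h_rc_37_1 lc_h_rc_37_1 lc_h_rc_41_1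 lc_h_rc_41_3 lc_h_rc_31_1 lc_h_rc_37_1 lc_h_rc_13_1 lc_h_rc_35_0 lc_h_rc_26_3 lc_h_rc_5_1 lc_h_rc_35_0 lc_h_rc_35_0 lc_h_rc_26_3 lc_h_rc_26_3 lc_h_rc_20_1 lc_h_rc_31_1 lc_h_rc_37_1 lc_h_rc_35_0 lc_h_rc_35_0 lc_h_rc_26_3 lc_h_rc_26_3 lc_h_rc_20_1 lc_h_rc_31_1 lc_h_rc_26_3 lc_h_rc_20_1) (@D3.rec (fun _ => (Cert rels S Gen.h)) lc_h_rc_31_1 lc_h_rc_13_1 lc_h_rc_20_1 lc_h_rc_37_1 lc_h_rc_41_1 lc_h_rc_13_1 lc_h_rc_13_1 lc_h_rc_31_1 lc_h_rc_5_1 lc_h_rc_41_1 lc_h_rc_35_0 lc_h_rc_26_3 lc_h_rc_20_1 lc_h_rc_31_1 lc_h_rc_5_1 lc_h_rc_35_0 lc_h_rc_35_0 lc_h_rc_26_3 lc_h_rc_13_1 lc_h_rc_20_1 lc_h_rc_31_1 lc_h_rc_20_1 lc_h_rc_31_1 lc_h_rc_20_1 lc_h_rc_37_1 lc_h_rc_41_1 lc_h_rc_26_3 lc_h_rc_26_3 lc_h_rc_26_3 lc_h_rc_31_1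 lc_h_rc_36_2 lc_h_rc_37_1) (@D3.rec (fun _ => (Cert rels S Gen.h)) lc_h_rc_31_1 lc_h_rc_37_1 lc_h_rc_41_1 lc_h_rc_26_3 lc_h_rc_26_3 lc_h_rc_26_3 lc_h_rc_31_1 lc_h_rc_36_2 lc_h_rc_37_1 lc_h_rc_31_1 lc_h_rc_37_1 lc_h_rc_41_1 lc_h_rc_35_0 lc_h_rc_35_0 lc_h_rc_26_3 lc_h_rc_5_1 lc_h_rc_20_1 lc_h_rc_31_1 lc_h_rc_20_1 lc_h_rc_31_1 lc_h_rc_13_1 lc_h_rc_20_1 lc_h_rc_37_1 lc_h_rc_41_1 lc_h_rc_13_1 lc_h_rc_26_3 lc_h_rc_26_3 lc_h_rc_20_1 lc_h_rc_31_1 lc_h_rc_20_1 lc_h_rc_13_1 lc_h_rc_13_1) (@D3.rec (fun _ => (Cert rels S Gen.h)) lc_h_rc_20_1 lc_h_rc_37_1 lc_h_rc_31_1 lc_h_rc_20_1 lc_h_rc_37_1 lc_h_rc_13_1 lc_h_rc_20_1 lc_h_rc_41_1 lc_h_rc_31_3 lc_h_rc_31_1 lc_h_rc_31_1 lc_h_rc_31_1 lc_h_rc_20_1 lc_h_rc_37_1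 lc_h_rc_36_2 lc_h_rc_37_1 lc_h_rc_13_1 lc_h_rc_31_1 lc_h_rc_20_1 lc_h_rc_41_1 lc_h_rc_37_1 lc_h_rc_20_1 lc_h_rc_41_1 lc_h_rc_13_1 lc_h_rc_20_1 lc_h_rc_20_1 lc_h_rc_13_1 lc_h_rc_5_1 lc_h_rc_13_1 lc_h_rc_5_1 lc_h_rc_31_1 lc_h_rc_5_1) (@D3.rec (fun _ => (Cert rels S Gen.h)) lc_h_rc_26_3 lc_h_rc_20_1 lc_h_rc_20_1 lc_h_rc_13_1 lc_h_rc_20_1 lc_h_rc_20_1 lc_h_rc_13_1 lc_h_rc_5_1 lc_h_rc_13_1 lc_h_rc_31_1 lc_h_rc_5_1 lc_h_rc_5_1 lc_h_rc_36_2 lc_h_rc_20_1 lc_h_rc_20_1 lc_h_rc_13_1 lc_h_rc_13_1 lc_h_rc_31_1 lc_h_rc_5_1 lc_h_rc_20_1 lc_h_rc_5_1 lc_h_rc_20_1 lc_h_rc_13_1 lc_h_rc_26_3 lc_h_rc_5_3 lc_h_rc_20_1 lc_h_rc_31_1 lc_h_rc_37_1 lc_h_rc_20_1 lc_h_rc_5_1 lc_h_rc_13_1 lc_h_rc_20_1) (@D3.rec (fun _ => (Cert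 rels S Gen.h)) lc_h_rc_37_1 lc_h_rc_36_2 lc_h_rc_20_1 lc_h_rc_31_1 lc_h_rc_13_1 lc_h_rc_20_1 lc_h_rc_37_1 lc_h_rc_41_1 lc_h_rc_37_1 lc_h_rc_20_1 lc_h_rc_31_1 lc_h_rc_13_1 lc_h_rc_20_1 lc_h_rc_37_1 lc_h_Cert_tree lc_h_rc_20_1 lc_h_rc_13_1 lc_h_rc_26_3 lc_h_rc_26_3 lc_h_rc_20_1 lc_h_rc_31_1 lc_h_rc_20_1 lc_h_rc_36_2 lc_h_rc_13_1 lc_h_rc_20_1 lc_h_rc_37_1 lc_h_rc_20_1 lc_h_rc_37_1 lc_h_rc_5_1 lc_h_rc_13_1 lc_h_rc_20_1 lc_h_rc_41_1) (@D3.rec (fun _ => (Cert rels S Gen.h)) lc_h_rc_20_1 lc_h_rc_13_1 lc_h_rc_20_1 lc_h_rc_5_1 lc_h_rc_13_1 lc_h_rc_41_1 lc_h_rc_5_1 lc_h_Cert_tree lc_h_Cert_tree lc_h_rc_35_0 lc_h_rc_36_2 lc_h_rc_26_3 lc_h_rc_26_3 lc_h_rc_20_1 lc_h_rc_31_1 lc_h_rc_41_1 lc_h_rc_20_1 lc_h_rc_31_1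 lc_h_rc_13_1 lc_h_rc_20_1 lc_h_rc_37_1 lc_h_rc_41_1 lc_h_rc_20_1 lc_h_rc_13_1 lc_h_rc_20_1 lc_h_rc_5_1 lc_h_rc_26_3 lc_h_rc_26_3 lc_h_rc_20_1 lc_h_rc_31_1 lc_h_rc_20_1 lc_h_rc_36_2)
def ce_h_16 : D2 → D3 → (Cert rels S Gen.h) := @D2.rec (fun _ => D3 → (Cert rels S Gen.h)) (@D3.rec (fun _ => (Cert rels S Gen.h)) lc_h_rc_20_1 lc_h_rc_37_1 lc_h_rc_20_1 lc_h_rc_37_1 lc_h_rc_20_1 lc_h_rc_41_1 lc_h_rc_26_3 lc_h_rc_26_3 lc_h_rc_20_1 lc_h_rc_31_1 lc_h_rc_20_1 lc_h_rc_31_1 lc_h_rc_13_1 lc_h_rc_20_1 lc_h_rc_37_1 lc_h_rc_13_1 lc_h_rc_20_1 lc_h_rc_37_1 lc_h_rc_5_1 lc_h_rc_13_1 lc_h_rc_26_3 lc_h_rc_20_1 lc_h_rc_41_1 lc_h_rc_20_1 lc_h_rc_37_1 lc_h_rc_13_1 lc_h_Cert_tree lc_h_rc_20_1 lc_h_rc_41_1 lc_h_rc_5_1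 lc_h_rc_13_1 lc_h_rc_20_1) (@D3.rec (fun _ => (Cert rels S Gen.h)) lc_h_rc_35_0 lc_h_rc_13_1 lc_h_rc_20_1 lc_h_rc_13_1 lc_h_rc_5_1 lc_h_rc_13_1 lc_h_Cert_tree lc_h_rc_5_1 lc_h_rc_13_1 lc_h_rc_5_1 lc_h_rc_5_1 lc_h_rc_5_1 lc_h_rc_26_3 lc_h_rc_20_1 lc_h_rc_13_1 lc_h_rc_26_3 lc_h_rc_37_1 lc_h_rc_20_1 lc_h_rc_31_1 lc_h_rc_37_1 lc_h_rc_20_1 lc_h_rc_31_1 lc_h_rc_13_1 lc_h_rc_31_1 lc_h_rc_20_1 lc_h_rc_31_1 lc_h_rc_26_3 lc_h_rc_20_1 lc_h_rc_31_1 lc_h_rc_37_1 lc_h_rc_5_1 lc_h_rc_5_1) (@D3.rec (fun _ => (Cert rels S Gen.h)) lc_h_rc_26_3 lc_h_rc_31_1 lc_h_rc_20_1 lc_h_rc_37_1 lc_h_rc_26_3 lc_h_rc_36_2 lc_h_rc_20_1 lc_h_rc_31_1 lc_h_rc_20_1 lc_h_rc_31_1 lc_h_rc_13_1 lc_h_rc_20_1 lc_h_rc_37_1 lc_h_rc_41_1 lc_h_rc_31_1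 lc_h_rc_20_1 lc_h_rc_31_1 lc_h_rc_37_1 lc_h_rc_31_1 lc_h_rc_20_1 lc_h_rc_13_1 lc_h_rc_20_1 lc_h_rc_37_1 lc_h_rc_5_1 lc_h_rc_26_3 lc_h_rc_31_1 lc_h_rc_5_1 lc_h_rc_5_1 lc_h_rc_26_3 lc_h_rc_31_1 lc_h_rc_31_1 lc_h_rc_37_1) (@D3.rec (fun _ => (Cert rels S Gen.h)) lc_h_Cert_tree lc_h_rc_13_1 lc_h_rc_13_1 lc_h_rc_26_3 lc_h_rc_26_3 lc_h_rc_31_1 lc_h_rc_20_1 lc_h_rc_36_2 lc_h_rc_13_1 lc_h_rc_20_1 lc_h_rc_37_1 lc_h_rc_31_1 lc_h_rc_13_3 lc_h_rc_37_1 lc_h_rc_5_1 lc_h_rc_13_1 lc_h_rc_20_1 lc_h_rc_41_1 lc_h_rc_5_1 lc_h_Cert_tree lc_h_rc_35_0 lc_h_rc_31_1 lc_h_rc_13_1 lc_h_rc_37_1 lc_h_rc_26_3 lc_h_rc_5_1 lc_h_rc_26_3 lc_h_rc_31_1 lc_h_rc_37_1 lc_h_rc_26_3 lc_h_rc_20_1 lc_h_rc_31_1) (@D3.rec (fun _ => (Cert rels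 S Gen.h)) lc_h_rc_41_1 lc_h_rc_20_1 lc_h_rc_31_1 lc_h_rc_13_1 lc_h_rc_20_1 lc_h_rc_37_1 lc_h_rc_41_1 lc_h_rc_31_1 lc_h_rc_5_1 lc_h_rc_37_1 lc_h_rc_37_1 lc_h_rc_20_1 lc_h_rc_31_1 lc_h_rc_13_1 lc_h_rc_20_1 lc_h_rc_37_1 lc_h_rc_41_1 lc_h_rc_5_1 lc_h_rc_26_3 lc_h_rc_13_1 lc_h_rc_20_1 lc_h_rc_31_1 lc_h_rc_31_1 lc_h_rc_20_1 lc_h_rc_37_1 lc_h_rc_41_1 lc_h_rc_26_3 lc_h_rc_26_3 lc_h_rc_26_3 lc_h_rc_20_1 lc_h_rc_31_1 lc_h_rc_20_1) (@D3.rec (fun _ => (Cert rels S Gen.h)) lc_h_rc_36_2 lc_h_rc_13_1 lc_h_rc_20_1 lc_h_rc_37_1 lc_h_rc_31_1 lc_h_rc_13_1 lc_h_rc_20_1 lc_h_rc_37_1 lc_h_rc_5_1 lc_h_rc_13_1 lc_h_rc_20_1 lc_h_rc_41_1 lc_h_rc_20_1 lc_h_rc_31_1 lc_h_rc_20_1 lc_h_rc_37_1 lc_h_rc_41_1 lc_h_rc_37_1 lc_h_rc_20_1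 lc_h_rc_31_1 lc_h_rc_13_1 lc_h_rc_20_1 lc_h_rc_37_1 lc_h_rc_41_1 lc_h_rc_26_3 lc_h_rc_20_1 lc_h_rc_31_1 lc_h_rc_13_1 lc_h_rc_20_1 lc_h_rc_37_1 lc_h_rc_31_1 lc_h_rc_13_1) (@D3.rec (fun _ => (Cert rels S Gen.h)) lc_h_rc_20_1 lc_h_rc_37_1 lc_h_rc_5_1 lc_h_rc_13_1 lc_h_rc_20_1 lc_h_rc_41_1 lc_h_rc_26_3 lc_h_rc_26_3 lc_h_rc_20_1 lc_h_rc_31_1 lc_h_rc_31_1 lc_h_rc_20_1 lc_h_rc_37_1 lc_h_rc_41_1 lc_h_rc_13_1 lc_h_rc_26_3 lc_h_rc_26_3 lc_h_rc_20_1 lc_h_rc_31_1 lc_h_rc_20_1 lc_h_rc_13_1 lc_h_rc_13_1 lc_h_rc_20_1 lc_h_rc_37_1 lc_h_rc_20_1 lc_h_rc_31_1 lc_h_rc_20_1 lc_h_rc_37_1 lc_h_rc_13_1 lc_h_rc_20_1 lc_h_rc_41_1 lc_h_rc_31_1) (@D3.rec (fun _ => (Cert rels S Gen.h)) lc_h_rc_31_1 lc_h_rc_20_1 lc_h_rc_31_1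 lc_h_rc_13_1 lc_h_rc_20_1 lc_h_rc_37_1 lc_h_rc_13_1 lc_h_rc_20_1 lc_h_rc_37_1 lc_h_rc_5_1 lc_h_rc_13_1 lc_h_rc_26_3 lc_h_rc_20_1 lc_h_rc_41_1 lc_h_rc_37_1 lc_h_rc_13_1 lc_h_rc_20_1 lc_h_rc_41_1 lc_h_rc_5_1 lc_h_rc_13_1 lc_h_rc_20_1 lc_h_rc_13_1 lc_h_rc_20_1 lc_h_rc_5_1 lc_h_rc_13_1 lc_h_rc_5_1 lc_h_rc_13_1 lc_h_Cert_tree lc_h_rc_5_1 lc_h_rc_13_1 lc_h_Cert_tree lc_h_rc_37_1) (@D3.rec (fun _ => (Cert rels S Gen.h)) lc_h_rc_41_1 lc_h_rc_20_1 lc_h_rc_13_1 lc_h_rc_5_1 lc_h_rc_5_1 lc_h_rc_5_1 lc_h_rc_13_1 lc_h_rc_13_1 lc_h_rc_37_1 lc_h_rc_41_1 lc_h_rc_36_2 lc_h_rc_31_1 lc_h_rc_20_1 lc_h_rc_13_1 lc_h_rc_31_1 lc_h_rc_37_1 lc_h_rc_26_3 lc_h_rc_5_1 lc_h_rc_5_1 lc_h_rc_26_3 lc_h_rc_20_1 lc_h_rc_41_1 lc_h_rc_20_1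 lc_h_rc_37_1 lc_h_rc_26_3 lc_h_rc_31_1 lc_h_rc_36_2 lc_h_rc_26_5 lc_h_rc_13_1 lc_h_rc_5_3 lc_h_rc_37_1 lc_h_rc_41_1) (@D3.rec (fun _ => (Cert rels S Gen.h)) lc_h_rc_13_1 lc_h_rc_31_1 lc_h_rc_5_1 lc_h_rc_37_1 lc_h_rc_20_1 lc_h_rc_37_1 lc_h_rc_41_1 lc_h_rc_5_1 lc_h_rc_5_1 lc_h_rc_31_1 lc_h_rc_37_1 lc_h_rc_37_1 lc_h_rc_41_1 lc_h_rc_26_3 lc_h_rc_26_3 lc_h_rc_31_1 lc_h_rc_36_2 lc_h_rc_37_1 lc_h_rc_37_1 lc_h_rc_41_1 lc_h_rc_20_1 lc_h_rc_31_1 lc_h_rc_20_1 lc_h_rc_37_1 lc_h_rc_41_1 lc_h_rc_20_1 lc_h_rc_31_1 lc_h_rc_20_1 lc_h_rc_37_1 lc_h_Cert_tree lc_h_rc_20_1 lc_h_rc_36_0) (@D3.rec (fun _ => (Cert rels S Gen.h)) lc_h_rc_31_1 lc_h_rc_36_2 lc_h_rc_37_1 lc_h_rc_37_1 lc_h_rc_41_1 lc_h_rc_26_3 lc_h_rc_20_1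 lc_h_rc_31_1 lc_h_rc_20_1 lc_h_rc_37_1 lc_h_rc_20_1 lc_h_rc_36_0 lc_h_rc_26_3 lc_h_rc_26_3 lc_h_rc_20_1 lc_h_rc_31_1 lc_h_rc_13_1 lc_h_rc_41_1 lc_h_rc_20_1 lc_h_rc_37_1 lc_h_rc_20_1 lc_h_rc_37_1 lc_h_rc_20_1 lc_h_rc_41_1 lc_h_Cert_tree lc_h_rc_35_0 lc_h_rc_20_1 lc_h_rc_31_1 lc_h_rc_31_1 lc_h_rc_31_1 lc_h_rc_20_1 lc_h_rc_37_1) (@D3.rec (fun _ => (Cert rels S Gen.h)) lc_h_rc_36_2 lc_h_rc_37_1 lc_h_rc_31_1 lc_h_rc_20_1 lc_h_rc_41_1 lc_h_rc_37_1 lc_h_rc_20_1 lc_h_rc_41_1 lc_h_rc_20_1 lc_h_rc_36_2 lc_h_rc_35_0 lc_h_rc_36_2 lc_h_rc_36_2 lc_h_rc_37_1 lc_h_rc_20_1 lc_h_rc_37_1 lc_h_rc_41_1 lc_h_rc_41_1 lc_h_rc_20_1 lc_h_rc_31_1 lc_h_rc_20_1 lc_h_rc_31_1 lc_h_rc_20_1 lc_h_rc_37_1 lc_h_rc_20_1 lc_h_rc_37_1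 lc_h_rc_20_1 lc_h_rc_41_1 lc_h_rc_26_3 lc_h_rc_31_1 lc_h_rc_37_1 lc_h_rc_37_1) (@D3.rec (fun _ => (Cert rels S Gen.h)) lc_h_rc_41_1 lc_h_rc_41_1 lc_h_rc_13_1 lc_h_rc_41_3 lc_h_rc_37_1 lc_h_rc_41_1 lc_h_rc_5_1 lc_h_rc_26_3 lc_h_rc_31_1 lc_h_rc_5_1 lc_h_rc_26_3 lc_h_rc_36_2 lc_h_rc_20_1 lc_h_rc_31_1 lc_h_rc_31_1 lc_h_rc_13_1 lc_h_rc_20_1 lc_h_rc_37_1 lc_h_rc_41_1 lc_h_rc_26_3 lc_h_rc_26_3 lc_h_rc_20_1 lc_h_rc_31_1 lc_h_rc_20_1 lc_h_rc_26_3 lc_h_rc_13_1 lc_h_rc_20_1 lc_h_rc_37_1 lc_h_rc_36_0 lc_h_rc_26_3 lc_h_rc_13_1 lc_h_rc_20_1) (@D3.rec (fun _ => (Cert rels S Gen.h)) lc_h_rc_37_1 lc_h_rc_5_1 lc_h_rc_13_1 lc_h_rc_20_1 lc_h_rc_41_1 lc_h_rc_31_1 lc_h_rc_13_1 lc_h_rc_5_1 lc_h_rc_20_1 lc_h_rc_31_1 lc_h_rc_13_1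 lc_h_rc_20_1 lc_h_rc_37_1 lc_h_rc_5_1 lc_h_rc_26_3 lc_h_rc_26_3 lc_h_rc_20_1 lc_h_rc_31_1 lc_h_rc_20_1 lc_h_rc_13_1 lc_h_rc_20_1 lc_h_rc_37_1 lc_h_rc_20_1 lc_h_rc_37_1 lc_h_rc_20_1 lc_h_rc_41_1 lc_h_rc_20_1 lc_h_rc_26_3 lc_h_rc_31_1 lc_h_rc_31_1 lc_h_rc_37_1 lc_h_rc_37_1) (@D3.rec (fun _ => (Cert rels S Gen.h)) lc_h_rc_41_1 lc_h_rc_37_1 lc_h_rc_41_1 lc_h_rc_20_1 lc_h_rc_31_1 lc_h_rc_31_1 lc_h_rc_31_1 lc_h_rc_37_1 lc_h_rc_36_2 lc_h_rc_41_1 lc_h_rc_37_1 lc_h_rc_41_1 lc_h_rc_26_3 lc_h_rc_26_3 lc_h_rc_20_1 lc_h_rc_31_1 lc_h_rc_5_1 lc_h_rc_5_1 lc_h_rc_13_1 lc_h_rc_20_1 lc_h_rc_37_1 lc_h_rc_20_1 lc_h_rc_37_1 lc_h_rc_13_1 lc_h_rc_20_1 lc_h_rc_41_1 lc_h_rc_20_1 lc_h_rc_13_1 lc_h_rc_31_1 lc_h_rc_31_1 lc_h_rc_20_1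 lc_h_rc_37_1) (@D3.rec (fun _ => (Cert rels S Gen.h)) lc_h_rc_20_1 lc_h_rc_36_2 lc_h_rc_13_1 lc_h_rc_5_1 lc_h_rc_20_1 lc_h_rc_41_1 lc_h_rc_37_1 lc_h_rc_20_1 lc_h_rc_41_1 lc_h_rc_13_1 lc_h_rc_20_1 lc_h_rc_26_3 lc_h_rc_37_1 lc_h_rc_37_1 lc_h_rc_36_2 lc_h_rc_20_1 lc_h_rc_41_1 lc_h_rc_37_1 lc_h_rc_41_1 lc_h_rc_13_1 lc_h_rc_36_0 lc_h_rc_20_1 lc_h_rc_41_1 lc_h_rc_20_1 lc_h_rc_13_1 lc_h_rc_5_1 lc_h_rc_20_1 lc_h_rc_13_1 lc_h_rc_5_3 lc_h_rc_13_1 lc_h_rc_5_1 lc_h_rc_13_1) (@D3.rec (fun _ => (Cert rels S Gen.h)) lc_h_rc_20_1 lc_h_rc_13_1 lc_h_rc_13_1 lc_h_rc_5_1 lc_h_rc_20_1 lc_h_rc_5_1 lc_h_rc_20_1 lc_h_rc_37_1 lc_h_rc_20_1 lc_h_rc_31_1 lc_h_rc_20_1 lc_h_rc_5_3 lc_h_rc_13_1 lc_h_rc_20_1 lc_h_rc_37_1 lc_h_rc_41_1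 lc_h_rc_13_1 lc_h_rc_20_1 lc_h_rc_5_1 lc_h_Cert_tree lc_h_rc_37_1 lc_h_rc_41_1 lc_h_rc_20_1 lc_h_rc_36_2 lc_h_rc_13_1 lc_h_rc_20_1 lc_h_rc_37_1 lc_h_rc_13_1 lc_h_rc_20_1 lc_h_rc_41_1 lc_h_rc_20_1 lc_h_rc_31_1) (@D3.rec (fun _ => (Cert rels S Gen.h)) lc_h_rc_13_1 lc_h_rc_20_1 lc_h_rc_37_1 lc_h_rc_13_1 lc_h_Cert_tree lc_h_rc_20_1 lc_h_rc_41_1 lc_h_Cert_tree lc_h_rc_35_0 lc_h_rc_20_1 lc_h_rc_26_3 lc_h_rc_20_1 lc_h_rc_31_1 lc_h_rc_20_1 lc_h_rc_37_1 lc_h_rc_13_1 lc_h_rc_20_1 lc_h_rc_37_1 lc_h_rc_5_1 lc_h_rc_13_1 lc_h_rc_41_1 lc_h_rc_20_1 lc_h_rc_41_1 lc_h_rc_20_1 lc_h_rc_41_1 lc_h_rc_5_1 lc_h_rc_13_1 lc_h_rc_20_1 lc_h_rc_5_1 lc_h_rc_13_1 lc_h_rc_20_1 lc_h_rc_5_1) (@D3.rec (fun _ => (Cert rels S Gen.h))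 lc_h_rc_13_1 lc_h_rc_35_0 lc_h_rc_35_0 lc_h_rc_36_2 lc_h_rc_20_1 lc_h_rc_31_1 lc_h_rc_20_1 lc_h_rc_26_3 lc_h_rc_13_1 lc_h_rc_20_1 lc_h_rc_37_1 lc_h_rc_20_1 lc_h_rc_41_1 lc_h_rc_13_1 lc_h_rc_20_1 lc_h_rc_37_1 lc_h_rc_5_1 lc_h_rc_13_1 lc_h_rc_20_1 lc_h_rc_41_1 lc_h_rc_5_1 lc_h_rc_13_1 lc_h_rc_20_1 lc_h_rc_31_1 lc_h_rc_20_1 lc_h_rc_31_1 lc_h_rc_20_1 lc_h_rc_37_1 lc_h_rc_20_1 lc_h_rc_37_1 lc_h_rc_26_3 lc_h_rc_20_1) (@D3.rec (fun _ => (Cert rels S Gen.h)) lc_h_rc_41_1 lc_h_rc_20_1 lc_h_rc_41_1 lc_h_rc_20_1 lc_h_rc_31_1 lc_h_rc_37_1 lc_h_rc_20_1 lc_h_rc_37_1 lc_h_rc_13_1 lc_h_rc_20_1 lc_h_rc_36_2 lc_h_rc_13_1 lc_h_rc_13_1 lc_h_rc_20_1 lc_h_rc_41_1 lc_h_rc_20_1 lc_h_rc_13_1 lc_h_Cert_tree lc_h_rc_20_1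 lc_h_rc_41_1 lc_h_rc_5_1 lc_h_rc_13_1 lc_h_rc_13_1 lc_h_rc_26_3 lc_h_rc_20_1 lc_h_rc_20_1 lc_h_rc_41_1 lc_h_rc_13_1 lc_h_Cert_tree lc_h_rc_35_0 lc_h_rc_20_1 lc_h_rc_5_1) (@D3.rec (fun _ => (Cert rels S Gen.h)) lc_h_rc_13_1 lc_h_rc_20_1 lc_h_rc_5_1 lc_h_Cert_tree lc_h_rc_35_0 lc_h_rc_5_1 lc_h_rc_5_1 lc_h_rc_5_1 lc_h_rc_20_1 lc_h_rc_31_1 lc_h_rc_20_1 lc_h_rc_37_1 lc_h_rc_20_1 lc_h_rc_31_1 lc_h_rc_20_1 lc_h_rc_31_1 lc_h_rc_13_1 lc_h_rc_20_1 lc_h_rc_37_1 lc_h_rc_41_1 lc_h_rc_13_1 lc_h_rc_31_1 lc_h_rc_5_1 lc_h_rc_37_1 lc_h_rc_20_1 lc_h_rc_37_1 lc_h_rc_20_1 lc_h_rc_31_1 lc_h_rc_20_1 lc_h_rc_37_1 lc_h_rc_41_1 lc_h_rc_5_1) (@D3.rec (fun _ => (Cert rels S Gen.h)) lc_h_rc_5_1 lc_h_rc_31_1 lc_h_rc_37_1 lc_h_Cert_tree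 lc_h_rc_37_1 lc_h_rc_41_1 lc_h_rc_20_1 lc_h_rc_31_1 lc_h_rc_20_1 lc_h_rc_36_2 lc_h_rc_13_1 lc_h_rc_20_1 lc_h_rc_37_1 lc_h_rc_20_1 lc_h_rc_37_1 lc_h_rc_13_1 lc_h_rc_20_1 lc_h_rc_41_1 lc_h_rc_37_1 lc_h_rc_20_1 lc_h_rc_36_4 lc_h_rc_41_1 lc_h_rc_37_1 lc_h_rc_20_1 lc_h_rc_13_1 lc_h_rc_20_1 lc_h_rc_41_1 lc_h_rc_31_1 lc_h_rc_37_1 lc_h_rc_5_1 lc_h_rc_5_1 lc_h_rc_31_1)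
def ce_h_17 : D2 → D3 → (Cert rels S Gen.h) := @D2.rec (fun _ => D3 → (Cert rels S Gen.h)) (@D3.rec (fun _ => (Cert rels S Gen.h)) lc_h_rc_37_1 lc_h_rc_37_1 lc_h_rc_41_1 lc_h_Cert_tree lc_h_rc_35_0 lc_h_rc_13_1 lc_h_rc_31_1 lc_h_rc_31_1 lc_h_rc_37_1 lc_h_rc_20_1 lc_h_rc_37_1 lc_h_rc_5_1 lc_h_rc_13_1 lc_h_rc_20_1 lc_h_rc_41_1 lc_h_rc_37_1 lc_h_rc_13_3 lc_h_rc_41_1 lc_h_rc_5_1 lc_h_rc_13_1 lc_h_rc_20_1 lc_h_rc_35_0 lc_h_rc_37_1 lc_h_rc_37_1 lc_h_rc_41_1 lc_h_rc_31_1 lc_h_rc_5_1 lc_h_rc_31_1 lc_h_rc_37_1 lc_h_rc_41_1 lc_h_rc_20_1 lc_h_rc_31_1) (@D3.rec (fun _ => (Cert rels S Gen.h)) lc_h_rc_13_1 lc_h_rc_20_1 lc_h_rc_37_1 lc_h_rc_41_1 lc_h_rc_20_1 lc_h_rc_37_1 lc_h_rc_20_1 lc_h_rc_13_1 lc_h_rc_20_1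 lc_h_rc_41_1 lc_h_Cert_tree lc_h_rc_41_1 lc_h_rc_41_1 lc_h_rc_13_1 lc_h_rc_20_1 lc_h_rc_37_1 lc_h_rc_13_1 lc_h_rc_20_1 lc_h_rc_41_1 lc_h_rc_5_1 lc_h_rc_31_1 lc_h_rc_20_1 lc_h_rc_13_1 lc_h_rc_20_1 lc_h_rc_37_1 lc_h_rc_37_1 lc_h_rc_20_1 lc_h_rc_41_1 lc_h_rc_20_1 lc_h_rc_26_3 lc_h_rc_31_1 lc_h_rc_20_1) (@D3.rec (fun _ => (Cert rels S Gen.h)) lc_h_rc_31_1 lc_h_rc_13_1 lc_h_rc_20_1 lc_h_rc_37_1 lc_h_rc_13_1 lc_h_rc_20_1 lc_h_rc_37_1 lc_h_rc_5_1 lc_h_rc_13_1 lc_h_rc_26_3 lc_h_rc_20_1 lc_h_rc_41_1 lc_h_rc_37_1 lc_h_rc_13_1 lc_h_rc_20_1 lc_h_rc_41_1 lc_h_rc_5_1 lc_h_rc_13_1 lc_h_rc_20_1 lc_h_rc_20_1 lc_h_rc_37_1 lc_h_rc_20_1 lc_h_rc_41_1 lc_h_rc_41_1 lc_h_rc_13_1 lc_h_rc_20_1 lc_h_rc_37_1 lc_h_rc_13_1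 lc_h_rc_20_1 lc_h_rc_41_1 lc_h_rc_31_1 lc_h_rc_13_1) (@D3.rec (fun _ => (Cert rels S Gen.h)) lc_h_rc_20_1 lc_h_rc_37_1 lc_h_rc_5_1 lc_h_rc_13_1 lc_h_rc_20_1 lc_h_rc_41_1 lc_h_rc_37_1 lc_h_rc_13_1 lc_h_rc_31_1 lc_h_rc_20_1 lc_h_rc_41_1 lc_h_rc_13_1 lc_h_rc_20_1 lc_h_rc_31_1 lc_h_rc_20_1 lc_h_rc_31_1 lc_h_rc_20_1 lc_h_rc_37_1 lc_h_rc_37_1 lc_h_rc_20_1 lc_h_rc_41_1 lc_h_rc_20_1 lc_h_rc_13_1 lc_h_rc_20_1 lc_h_rc_31_1 lc_h_rc_20_1 lc_h_rc_31_1 lc_h_rc_20_1 lc_h_rc_37_1 lc_h_rc_36_2 lc_h_rc_20_1 lc_h_rc_36_2) (@D3.rec (fun _ => (Cert rels S Gen.h)) lc_h_rc_13_1 lc_h_rc_26_3 lc_h_rc_20_1 lc_h_rc_41_1 lc_h_rc_20_1 lc_h_rc_37_1 lc_h_Cert_tree lc_h_rc_20_1 lc_h_rc_41_1 lc_h_rc_13_1 lc_h_rc_20_1 lc_h_rc_37_1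 lc_h_rc_37_1 lc_h_rc_13_1 lc_h_rc_20_1 lc_h_rc_36_2 lc_h_rc_13_1 lc_h_rc_20_1 lc_h_rc_41_1 lc_h_rc_5_1 lc_h_rc_13_1 lc_h_Cert_tree lc_h_rc_20_1 lc_h_rc_41_1 lc_h_rc_5_1 lc_h_rc_13_1 lc_h_rc_13_1 lc_h_rc_26_3 lc_h_rc_20_1 lc_h_rc_41_1 lc_h_rc_13_1 lc_h_rc_20_1) (@D3.rec (fun _ => (Cert rels S Gen.h)) lc_h_rc_5_1 lc_h_rc_13_1 lc_h_rc_35_1 lc_h_rc_5_1 lc_h_Cert_tree lc_h_rc_35_0 lc_h_rc_5_1 lc_h_rc_26_1 lc_h_rc_35_0 lc_h_rc_41_1 lc_h_rc_20_1 lc_h_rc_13_1 lc_h_rc_5_1 lc_h_rc_5_1 lc_h_rc_13_1 lc_h_rc_41_1 lc_h_rc_37_1 lc_h_rc_20_1 lc_h_rc_37_1 lc_h_rc_37_1 lc_h_rc_41_1 lc_h_rc_20_1 lc_h_rc_26_3 lc_h_rc_5_1 lc_h_rc_5_1 lc_h_rc_5_1 lc_h_rc_31_1 lc_h_rc_13_1 lc_h_rc_20_1 lc_h_rc_37_1 lc_h_rc_26_3 lc_h_rc_37_1)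 (@D3.rec (fun _ => (Cert rels S Gen.h)) lc_h_rc_41_1 lc_h_rc_31_1 lc_h_rc_37_1 lc_h_rc_13_1 lc_h_rc_36_2 lc_h_rc_37_1 lc_h_rc_31_3 lc_h_rc_13_1 lc_h_rc_5_3 lc_h_rc_41_1 lc_h_rc_5_1 lc_h_rc_13_1 lc_h_rc_31_3 lc_h_rc_41_1 lc_h_rc_37_1 lc_h_rc_41_1 lc_h_rc_5_1 lc_h_rc_5_1 lc_h_rc_37_1 lc_h_rc_41_1 lc_h_rc_41_1 lc_h_rc_31_1 lc_h_rc_31_1 lc_h_rc_37_1 lc_h_rc_37_1 lc_h_rc_41_1 lc_h_rc_41_1 lc_h_rc_20_1 lc_h_rc_37_1 lc_h_rc_20_1 lc_h_rc_41_1 lc_h_rc_20_1) (@D3.rec (fun _ => (Cert rels S Gen.h)) lc_h_rc_37_1 lc_h_rc_20_1 lc_h_rc_41_1 lc_h_Cert_tree lc_h_rc_35_0 lc_h_rc_20_1 lc_h_rc_37_1 lc_h_rc_36_2 lc_h_rc_41_1 lc_h_rc_41_1 lc_h_rc_20_1 lc_h_rc_31_1 lc_h_rc_20_1 lc_h_rc_37_1 lc_h_rc_20_1 lc_h_rc_41_1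 lc_h_rc_20_1 lc_h_rc_20_1 lc_h_rc_31_1 lc_h_rc_13_1 lc_h_rc_31_1 lc_h_rc_20_1 lc_h_rc_37_1 lc_h_rc_13_1 lc_h_rc_36_2 lc_h_rc_13_1 lc_h_rc_20_1 lc_h_rc_41_1 lc_h_rc_20_1 lc_h_rc_41_1 lc_h_rc_20_1 lc_h_Cert_tree) (@D3.rec (fun _ => (Cert rels S Gen.h)) lc_h_rc_35_0 lc_h_rc_36_2 lc_h_rc_36_2 lc_h_rc_37_1 lc_h_rc_36_2 lc_h_rc_20_1 lc_h_rc_41_1 lc_h_rc_36_2 lc_h_rc_36_2 lc_h_rc_41_1 lc_h_rc_37_1 lc_h_rc_20_1 lc_h_rc_41_1 lc_h_rc_20_1 lc_h_rc_36_2 lc_h_rc_41_1 lc_h_rc_20_1 lc_h_rc_41_1 lc_h_rc_20_1 lc_h_rc_37_1 lc_h_rc_20_1 lc_h_rc_37_1 lc_h_rc_26_3 lc_h_rc_20_1 lc_h_rc_41_1 lc_h_rc_20_1 lc_h_rc_41_1 lc_h_rc_20_1 lc_h_rc_37_1 lc_h_rc_37_1 lc_h_rc_41_1 lc_h_rc_41_1) (@D3.rec (fun _ => (Cert rels S Gen.h))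 lc_h_rc_41_3 lc_h_rc_13_1 lc_h_rc_5_1 lc_h_rc_41_1 lc_h_rc_31_1 lc_h_rc_37_1 lc_h_rc_5_1 lc_h_rc_31_1 lc_h_rc_20_1 lc_h_rc_36_2 lc_h_rc_13_1 lc_h_rc_20_1 lc_h_rc_37_1 lc_h_rc_37_1 lc_h_rc_5_1 lc_h_rc_13_1 lc_h_rc_20_1 lc_h_rc_41_1 lc_h_rc_31_1 lc_h_rc_20_1 lc_h_rc_26_3 lc_h_rc_13_1 lc_h_rc_20_1 lc_h_rc_37_1 lc_h_rc_13_1 lc_h_rc_20_1 lc_h_rc_36_2 lc_h_rc_5_1 lc_h_rc_13_1 lc_h_rc_20_1 lc_h_rc_41_1 lc_h_rc_36_0) (@D3.rec (fun _ => (Cert rels S Gen.h)) lc_h_rc_37_1 lc_h_rc_31_3 lc_h_rc_13_1 lc_h_rc_5_3 lc_h_rc_20_1 lc_h_rc_41_1 lc_h_rc_5_1 lc_h_rc_13_1 lc_h_rc_20_1 lc_h_rc_5_1 lc_h_rc_5_1 lc_h_rc_13_1 lc_h_rc_20_1 lc_h_rc_37_1 lc_h_rc_13_1 lc_h_rc_20_1 lc_h_rc_41_1 lc_h_rc_20_1 lc_h_rc_26_3 lc_h_rc_31_1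 lc_h_rc_20_1 lc_h_rc_37_1 lc_h_rc_20_1 lc_h_rc_36_2 lc_h_rc_26_3 lc_h_rc_20_1 lc_h_rc_41_1 lc_h_rc_20_1 lc_h_rc_41_1 lc_h_rc_20_1 lc_h_rc_20_1 lc_h_rc_26_3) (@D3.rec (fun _ => (Cert rels S Gen.h)) lc_h_rc_37_1 lc_h_rc_36_2 lc_h_rc_41_1 lc_h_rc_41_1 lc_h_rc_41_1 lc_h_rc_20_1 lc_h_rc_36_2 lc_h_rc_37_1 lc_h_rc_37_1 lc_h_rc_41_1 lc_h_rc_36_2 lc_h_rc_41_1 lc_h_rc_20_1 lc_h_rc_31_1 lc_h_rc_26_3 lc_h_rc_20_1 lc_h_rc_37_1 lc_h_rc_13_1 lc_h_rc_5_1 lc_h_rc_5_1 lc_h_rc_13_1 lc_h_rc_20_1 lc_h_rc_41_1 lc_h_rc_20_1 lc_h_rc_41_1 lc_h_rc_13_1 lc_h_rc_20_1 lc_h_rc_20_1 lc_h_rc_13_1 lc_h_rc_37_1 lc_h_rc_36_2 lc_h_rc_20_1) (@D3.rec (fun _ => (Cert rels S Gen.h)) lc_h_rc_41_1 lc_h_rc_5_3 lc_h_rc_36_2 lc_h_rc_36_2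 lc_h_rc_13_1 lc_h_rc_13_1 lc_h_rc_5_1 lc_h_rc_20_1 lc_h_rc_41_1 lc_h_rc_20_1 lc_h_rc_13_1 lc_h_rc_36_2 lc_h_rc_41_1 lc_h_rc_41_1 lc_h_rc_36_2 lc_h_rc_20_1 lc_h_rc_36_2 lc_h_rc_13_1 lc_h_rc_41_1 lc_h_rc_13_1 lc_h_rc_5_1 lc_h_rc_13_1 lc_h_rc_20_1 lc_h_rc_37_1 lc_h_Cert_tree lc_h_rc_37_1 lc_h_rc_41_1 lc_h_rc_13_1 lc_h_rc_20_1 lc_h_rc_37_1 lc_h_rc_13_1 lc_h_rc_20_1) (@D3.rec (fun _ => (Cert rels S Gen.h)) lc_h_rc_37_1 lc_h_rc_5_1 lc_h_rc_13_1 lc_h_rc_20_1 lc_h_rc_41_1 lc_h_rc_5_1 lc_h_rc_13_1 lc_h_rc_31_3 lc_h_Cert_tree lc_h_rc_35_0 lc_h_rc_41_1 lc_h_rc_13_1 lc_h_rc_20_1 lc_h_rc_37_1 lc_h_rc_13_1 lc_h_rc_26_3 lc_h_rc_20_1 lc_h_rc_41_1 lc_h_rc_13_1 lc_h_rc_20_1 lc_h_rc_13_1 lc_h_rc_31_1 lc_h_rc_5_1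 lc_h_rc_13_1 lc_h_Cert_tree lc_h_rc_20_1 lc_h_rc_41_1 lc_h_rc_13_1 lc_h_Cert_tree lc_h_rc_35_0 lc_h_rc_20_1 lc_h_Cert_tree) (@D3.rec (fun _ => (Cert rels S Gen.h)) lc_h_Cert_tree lc_h_rc_35_0 lc_h_rc_36_2 lc_h_rc_36_2 lc_h_rc_20_1 lc_h_rc_37_1 lc_h_rc_20_1 lc_h_rc_41_1 lc_h_rc_36_2 lc_h_rc_13_1 lc_h_rc_20_1 lc_h_rc_20_1 lc_h_rc_41_1 lc_h_rc_5_1 lc_h_rc_13_1 lc_h_rc_13_1 lc_h_rc_5_1 lc_h_rc_20_1 lc_h_rc_20_1 lc_h_rc_13_1 lc_h_rc_5_1 lc_h_rc_31_3 lc_h_rc_41_1 lc_h_rc_36_2 lc_h_rc_45_34 lc_h_rc_20_1 lc_h_rc_37_1 lc_h_rc_13_1 lc_h_rc_20_1 lc_h_rc_36_2 lc_h_rc_5_1 lc_h_rc_13_1) (@D3.rec (fun _ => (Cert rels S Gen.h)) lc_h_rc_26_3 lc_h_rc_20_1 lc_h_rc_41_1 lc_h_rc_20_1 lc_h_rc_37_1 lc_h_rc_41_3 lc_h_rc_31_1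 lc_h_rc_5_3 lc_h_rc_20_1 lc_h_rc_41_1 lc_h_rc_5_1 lc_h_rc_13_1 lc_h_rc_20_1 lc_h_rc_20_1 lc_h_rc_36_2 lc_h_rc_20_1 lc_h_rc_36_2 lc_h_rc_13_3 lc_h_rc_20_1 lc_h_rc_41_1 lc_h_Cert_tree lc_h_rc_20_1 lc_h_rc_41_1 lc_h_rc_26_3 lc_h_rc_20_1 lc_h_rc_20_1 lc_h_rc_36_2 lc_h_rc_41_1 lc_h_rc_20_1 lc_h_rc_41_1 lc_h_rc_13_1 lc_h_rc_20_1) (@D3.rec (fun _ => (Cert rels S Gen.h)) lc_h_rc_20_1 lc_h_rc_36_2 lc_h_rc_13_1 lc_h_rc_13_1 lc_h_rc_20_1 lc_h_rc_20_1 lc_h_Cert_tree lc_h_rc_13_1 lc_h_Cert_tree lc_h_rc_35_0 lc_h_rc_20_1 lc_h_rc_5_1 lc_h_rc_5_1 lc_h_rc_13_1 lc_h_rc_13_1 lc_h_rc_26_3 lc_h_rc_20_1 lc_h_rc_13_1 lc_h_Cert_tree lc_h_rc_35_0 lc_h_rc_5_1 lc_h_Cert_tree lc_h_rc_35_0 lc_h_rc_5_1 lc_h_rc_5_1 lc_h_rc_36_2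 lc_h_rc_20_1 lc_h_rc_37_1 lc_h_Cert_tree lc_h_rc_37_1 lc_h_rc_41_1 lc_h_rc_13_1) (@D3.rec (fun _ => (Cert rels S Gen.h)) lc_h_rc_20_1 lc_h_rc_37_1 lc_h_rc_13_1 lc_h_rc_31_1 lc_h_rc_5_3 lc_h_rc_46_27 lc_h_rc_13_1 lc_h_rc_20_1 lc_h_rc_41_1 lc_h_Cert_tree lc_h_rc_41_1 lc_h_rc_20_1 lc_h_rc_41_1 lc_h_rc_20_1 lc_h_rc_37_1 lc_h_rc_20_1 lc_h_rc_41_1 lc_h_rc_5_1 lc_h_rc_5_1 lc_h_rc_37_1 lc_h_rc_41_1 lc_h_Cert_tree lc_h_rc_35_0 lc_h_rc_41_1 lc_h_rc_20_1 lc_h_rc_37_1 lc_h_rc_20_1 lc_h_rc_37_1 lc_h_rc_13_1 lc_h_rc_26_3 lc_h_rc_20_1 lc_h_rc_41_1) (@D3.rec (fun _ => (Cert rels S Gen.h)) lc_h_rc_20_1 lc_h_rc_41_1 lc_h_rc_13_1 lc_h_rc_20_1 lc_h_rc_41_1 lc_h_rc_20_1 lc_h_rc_36_4 lc_h_rc_41_1 lc_h_rc_20_1 lc_h_rc_20_1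 lc_h_rc_37_1 lc_h_rc_41_1 lc_h_rc_5_1 lc_h_rc_37_1 lc_h_rc_41_1 lc_h_rc_41_1 lc_h_Cert_tree lc_h_rc_35_0 lc_h_rc_37_1 lc_h_rc_37_1 lc_h_rc_41_1 lc_h_rc_20_1 lc_h_rc_41_1 lc_h_rc_5_1 lc_h_rc_13_1 lc_h_rc_20_1 lc_h_rc_41_1 lc_h_rc_31_1 lc_h_rc_5_1 lc_h_rc_13_1 lc_h_rc_41_1 lc_h_rc_41_1) (@D3.rec (fun _ => (Cert rels S Gen.h)) lc_h_rc_37_1 lc_h_rc_5_1 lc_h_rc_37_1 lc_h_rc_41_1 lc_h_rc_20_1 lc_h_rc_37_1 lc_h_rc_13_1 lc_h_rc_26_3 lc_h_rc_20_1 lc_h_rc_41_1 lc_h_rc_36_2 lc_h_Cert_tree lc_h_rc_20_1 lc_h_rc_41_1 lc_h_rc_20_1 lc_h_rc_13_1 lc_h_rc_20_1 lc_h_rc_35_0 lc_h_rc_13_1 lc_h_rc_26_3 lc_h_rc_20_1 lc_h_rc_41_1 lc_h_rc_13_1 lc_h_rc_20_1 lc_h_rc_37_1 lc_h_rc_20_1 lc_h_rc_36_2 lc_h_rc_20_1 lc_h_rc_41_1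 lc_h_rc_41_1 lc_h_rc_20_1 lc_h_rc_20_1) (@D3.rec (fun _ => (Cert rels S Gen.h)) lc_h_rc_26_3 lc_h_rc_37_1 lc_h_rc_13_1 lc_h_rc_20_1 lc_h_rc_36_2 lc_h_rc_13_1 lc_h_rc_5_3 lc_h_rc_20_1 lc_h_rc_41_1 lc_h_rc_5_1 lc_h_rc_13_1 lc_h_Cert_tree lc_h_rc_20_1 lc_h_rc_41_1 lc_h_rc_5_1 lc_h_rc_13_1 lc_h_rc_13_1 lc_h_rc_26_3 lc_h_rc_20_1 lc_h_rc_41_1 lc_h_rc_13_1 lc_h_rc_20_1 lc_h_rc_5_1 lc_h_rc_13_1 lc_h_rc_26_3 lc_h_rc_20_1 lc_h_rc_41_1 lc_h_rc_20_1 lc_h_rc_13_1 lc_h_rc_26_3 lc_h_rc_20_1 lc_h_rc_41_1) (@D3.rec (fun _ => (Cert rels S Gen.h)) lc_h_rc_13_1 lc_h_rc_20_1 lc_h_rc_37_1 lc_h_rc_13_1 lc_h_rc_20_3 lc_h_rc_20_1 lc_h_rc_41_1 lc_h_rc_31_1 lc_h_rc_13_1 lc_h_rc_20_1 lc_h_rc_41_1 lc_h_rc_13_1 lc_h_rc_13_3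 lc_h_rc_20_1 lc_h_rc_13_1 lc_h_rc_37_1 lc_h_rc_20_1 lc_h_rc_36_2 lc_h_rc_13_3 lc_h_rc_20_1 lc_h_rc_41_1 lc_h_rc_41_1 lc_h_rc_20_1 lc_h_rc_20_1 lc_h_rc_13_1 lc_h_rc_20_1 lc_h_rc_37_1 lc_h_rc_20_1 lc_h_rc_37_1 lc_h_Cert_tree lc_h_rc_20_1 lc_h_rc_41_1)
def ce_h_18 : D2 → D3 → (Cert rels S Gen.h) := @D2.rec (fun _ => D3 → (Cert rels S Gen.h)) (@D3.rec (fun _ => (Cert rels S Gen.h)) lc_h_rc_36_2 lc_h_rc_20_1 lc_h_rc_36_2 lc_h_rc_36_2 lc_h_rc_26_3 lc_h_rc_13_1 lc_h_rc_26_3 lc_h_rc_20_1 lc_h_rc_20_1 lc_h_rc_41_1 lc_h_Cert_tree lc_h_rc_35_0 lc_h_rc_20_1 lc_h_rc_13_1 lc_h_rc_41_1 lc_h_rc_41_1 lc_h_rc_13_1 lc_h_rc_20_1 lc_h_rc_36_2 lc_h_rc_13_1 lc_h_rc_20_1 lc_h_rc_5_1 lc_h_Cert_tree lc_h_rc_13_1 lc_h_Cert_tree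 lc_h_rc_35_0 lc_h_rc_20_1 lc_h_rc_5_1 lc_h_rc_5_1 lc_h_rc_13_1 lc_h_rc_13_1 lc_h_rc_13_1) (@D3.rec (fun _ => (Cert rels S Gen.h)) lc_h_rc_26_3 lc_h_rc_13_1 lc_h_rc_5_1 lc_h_Cert_tree lc_h_rc_26_1 lc_h_rc_35_0 lc_h_rc_46_41 lc_h_rc_36_2 lc_h_rc_20_1 lc_h_rc_5_1 lc_h_rc_41_1 lc_h_rc_26_3 lc_h_rc_37_1 lc_h_rc_41_1 lc_h_rc_36_0 lc_h_rc_20_1 lc_h_rc_36_2 lc_h_rc_13_1 lc_h_rc_5_1 lc_h_rc_5_1 lc_h_rc_5_1 lc_h_rc_37_1 lc_h_rc_35_0 lc_h_rc_13_1 lc_h_rc_26_3 lc_h_rc_37_1 lc_h_rc_37_1 lc_h_rc_26_3 lc_h_rc_41_1 lc_h_rc_37_1 lc_h_rc_41_1 lc_h_rc_31_3) (@D3.rec (fun _ => (Cert rels S Gen.h)) lc_h_rc_13_1 lc_h_rc_26_3 lc_h_rc_37_1 lc_h_rc_37_1 lc_h_rc_35_0 lc_h_rc_13_1 lc_h_rc_5_3 lc_h_rc_31_3 lc_h_rc_41_1 lc_h_rc_5_1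 lc_h_rc_41_1 lc_h_rc_37_1 lc_h_rc_36_2 lc_h_rc_41_1 lc_h_rc_41_1 lc_h_rc_13_3 lc_h_rc_20_1 lc_h_rc_41_1 lc_h_rc_20_1 lc_h_rc_13_1 lc_h_rc_20_1 lc_h_rc_41_1 lc_h_rc_20_1 lc_h_Cert_tree lc_h_rc_35_0 lc_h_rc_36_2 lc_h_rc_41_1 lc_h_rc_41_1 lc_h_rc_20_1 lc_h_rc_36_2 lc_h_rc_26_3 lc_h_rc_20_1) (@D3.rec (fun _ => (Cert rels S Gen.h)) lc_h_rc_41_1 lc_h_rc_20_1 lc_h_rc_20_1 lc_h_rc_37_1 lc_h_rc_13_1 lc_h_rc_37_1 lc_h_rc_26_3 lc_h_rc_20_1 lc_h_rc_41_1 lc_h_Cert_tree lc_h_rc_20_1 lc_h_rc_36_2 lc_h_rc_26_3 lc_h_rc_20_1 lc_h_rc_20_1 lc_h_rc_35_0 lc_h_rc_36_2 lc_h_rc_36_2 lc_h_rc_41_1 lc_h_rc_36_2 lc_h_rc_20_1 lc_h_rc_37_1 lc_h_rc_36_2 lc_h_rc_41_1 lc_h_rc_20_1 lc_h_rc_41_1 lc_h_rc_20_1 lc_h_rc_41_1 lc_h_rc_5_3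 lc_h_rc_20_1 lc_h_rc_41_1 lc_h_rc_26_3) (@D3.rec (fun _ => (Cert rels S Gen.h)) lc_h_rc_20_1 lc_h_rc_20_1 lc_h_rc_41_1 lc_h_rc_41_1 lc_h_rc_41_3 lc_h_rc_13_1 lc_h_rc_5_1 lc_h_rc_37_1 lc_h_rc_41_1 lc_h_rc_37_1 lc_h_rc_31_3 lc_h_rc_20_1 lc_h_rc_37_1 lc_h_rc_5_1 lc_h_rc_13_1 lc_h_rc_41_1 lc_h_rc_20_1 lc_h_rc_41_1 lc_h_rc_41_1 lc_h_rc_5_1 lc_h_rc_13_1 lc_h_rc_20_1 lc_h_rc_36_2 lc_h_rc_13_1 lc_h_rc_20_1 lc_h_rc_36_2 lc_h_rc_13_1 lc_h_rc_26_3 lc_h_rc_20_1 lc_h_rc_41_1 lc_h_rc_5_1 lc_h_rc_13_1) (@D3.rec (fun _ => (Cert rels S Gen.h)) lc_h_rc_20_1 lc_h_rc_36_2 lc_h_rc_5_1 lc_h_rc_13_1 lc_h_rc_20_1 lc_h_rc_37_1 lc_h_rc_37_1 lc_h_rc_13_1 lc_h_rc_13_1 lc_h_rc_20_1 lc_h_rc_5_1 lc_h_rc_13_1 lc_h_rc_13_1 lc_h_rc_5_1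 lc_h_rc_5_1 lc_h_rc_13_1 lc_h_rc_26_3 lc_h_rc_20_1 lc_h_rc_41_1 lc_h_rc_13_1 lc_h_rc_20_1 lc_h_rc_20_1 lc_h_rc_36_2 lc_h_rc_36_2 lc_h_rc_13_1 lc_h_rc_20_1 lc_h_rc_41_1 lc_h_rc_36_4 lc_h_rc_36_2 lc_h_rc_36_2 lc_h_rc_37_1 lc_h_rc_20_1) (@D3.rec (fun _ => (Cert rels S Gen.h)) lc_h_rc_20_1 lc_h_rc_20_1 lc_h_rc_26_3 lc_h_rc_41_1 lc_h_rc_36_2 lc_h_rc_20_1 lc_h_rc_36_2 lc_h_rc_41_1 lc_h_rc_41_1 lc_h_rc_20_1 lc_h_rc_37_1 lc_h_rc_36_2 lc_h_rc_20_1 lc_h_rc_41_1 lc_h_rc_13_1 lc_h_rc_5_1 lc_h_rc_5_1 lc_h_rc_13_1 lc_h_rc_20_1 lc_h_rc_20_1 lc_h_rc_13_1 lc_h_rc_20_1 lc_h_rc_13_1 lc_h_rc_41_1 lc_h_rc_36_2 lc_h_rc_20_1 lc_h_rc_5_3 lc_h_rc_36_2 lc_h_rc_13_1 lc_h_rc_13_1 lc_h_rc_5_1 lc_h_rc_36_2) (@D3.rec (fun _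 => (Cert rels S Gen.h)) lc_h_rc_5_1 lc_h_rc_13_1 lc_h_Cert_tree lc_h_rc_37_1 lc_h_rc_41_1 lc_h_Cert_tree lc_h_rc_35_0 lc_h_rc_41_1 lc_h_rc_5_1 lc_h_rc_13_1 lc_h_rc_26_3 lc_h_rc_20_1 lc_h_rc_41_1 lc_h_rc_5_1 lc_h_rc_13_1 lc_h_rc_35_1 lc_h_rc_37_1 lc_h_rc_41_1 lc_h_rc_5_1 lc_h_rc_13_1 lc_h_rc_20_1 lc_h_rc_47_34 lc_h_Cert_tree lc_h_rc_35_0 lc_h_rc_36_2 lc_h_rc_13_1 lc_h_rc_41_3 lc_h_rc_20_1 lc_h_rc_41_1 lc_h_rc_13_1 lc_h_rc_13_1 lc_h_rc_26_3) (@D3.rec (fun _ => (Cert rels S Gen.h)) lc_h_rc_20_1 lc_h_rc_13_1 lc_h_rc_13_1 lc_h_Cert_tree lc_h_rc_20_1 lc_h_rc_5_1 lc_h_rc_26_3 lc_h_rc_13_1 lc_h_Cert_tree lc_h_rc_35_0 lc_h_rc_20_1 lc_h_rc_13_1 lc_h_Cert_tree lc_h_rc_35_0 lc_h_rc_45_61 lc_h_Cert_tree lc_h_rc_35_0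 lc_h_rc_35_0 lc_h_rc_36_2 lc_h_rc_36_2 lc_h_rc_20_1 lc_h_rc_41_1 lc_h_rc_20_1 lc_h_rc_36_2 lc_h_rc_26_3 lc_h_rc_13_1 lc_h_rc_20_1 lc_h_rc_20_1 lc_h_rc_41_1 lc_h_rc_13_1 lc_h_rc_13_1 lc_h_rc_5_1) (@D3.rec (fun _ => (Cert rels S Gen.h)) lc_h_rc_45_43 lc_h_rc_26_3 lc_h_rc_20_1 lc_h_rc_41_1 lc_h_rc_5_1 lc_h_rc_13_1 lc_h_rc_36_4 lc_h_rc_20_1 lc_h_rc_36_2 lc_h_rc_5_1 lc_h_rc_13_1 lc_h_rc_13_1 lc_h_rc_26_3 lc_h_rc_20_1 lc_h_rc_37_1 lc_h_rc_37_1 lc_h_rc_5_1 lc_h_rc_20_1 lc_h_rc_20_1 lc_h_rc_20_1 lc_h_rc_5_1 lc_h_rc_13_1 lc_h_rc_13_3 lc_h_rc_20_1 lc_h_rc_36_2 lc_h_rc_20_1 lc_h_rc_20_1 lc_h_rc_36_2 lc_h_rc_13_3 lc_h_rc_20_1 lc_h_Cert_tree lc_h_rc_35_0) (@D3.rec (fun _ => (Cert rels S Gen.h)) lc_h_rc_20_1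 lc_h_rc_31_1 lc_h_rc_26_3 lc_h_rc_36_2 lc_h_rc_20_1 lc_h_rc_20_1 lc_h_rc_20_1 lc_h_rc_20_1 lc_h_rc_13_1 lc_h_rc_31_1 lc_h_Cert_tree lc_h_rc_36_2 lc_h_Cert_tree lc_h_rc_35_0 lc_h_rc_20_1 lc_h_Cert_tree lc_h_rc_35_0 lc_h_rc_5_1 lc_h_rc_5_1 lc_h_rc_13_1 lc_h_rc_35_0 lc_h_rc_35_0 lc_h_rc_26_3 lc_h_rc_5_1 lc_h_rc_5_1 lc_h_rc_36_2 lc_h_rc_20_3 lc_h_rc_20_1 lc_h_rc_41_1 lc_h_Cert_tree lc_h_rc_35_0 lc_h_rc_41_1) (@D3.rec (fun _ => (Cert rels S Gen.h)) lc_h_rc_13_1 lc_h_rc_26_3 lc_h_rc_20_1 lc_h_rc_41_1 lc_h_rc_13_1 lc_h_Cert_tree lc_h_rc_20_1 lc_h_rc_5_3 lc_h_rc_46_34 lc_h_rc_13_1 lc_h_rc_20_1 lc_h_rc_35_0 lc_h_rc_20_1 lc_h_rc_26_3 lc_h_rc_20_1 lc_h_rc_41_1 lc_h_rc_20_1 lc_h_rc_5_1 lc_h_rc_41_1 lc_h_Cert_tree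 lc_h_rc_35_0 lc_h_rc_41_1 lc_h_rc_20_1 lc_h_rc_41_1 lc_h_rc_41_1 lc_h_rc_20_1 lc_h_rc_41_1 lc_h_rc_13_1 lc_h_rc_13_1 lc_h_rc_26_3 lc_h_rc_20_1 lc_h_rc_20_1) (@D3.rec (fun _ => (Cert rels S Gen.h)) lc_h_rc_13_1 lc_h_rc_20_1 lc_h_rc_41_1 lc_h_rc_41_1 lc_h_rc_35_0 lc_h_rc_41_1 lc_h_rc_41_1 lc_h_rc_20_1 lc_h_rc_5_1 lc_h_rc_13_1 lc_h_rc_5_1 lc_h_rc_41_1 lc_h_rc_41_1 lc_h_Cert_tree lc_h_rc_20_1 lc_h_rc_41_1 lc_h_rc_13_1 lc_h_rc_13_1 lc_h_rc_26_3 lc_h_rc_20_1 lc_h_rc_36_2 lc_h_Cert_tree lc_h_rc_35_0 lc_h_rc_20_1 lc_h_rc_36_2 lc_h_rc_13_1 lc_h_rc_13_1 lc_h_rc_13_1 lc_h_rc_37_1 lc_h_rc_20_1 lc_h_rc_13_1 lc_h_rc_41_1) (@D3.rec (fun _ => (Cert rels S Gen.h)) lc_h_rc_36_2 lc_h_rc_36_2 lc_h_rc_20_1 lc_h_rc_20_1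 lc_h_rc_20_1 lc_h_rc_26_3 lc_h_rc_41_1 lc_h_rc_13_1 lc_h_rc_20_1 lc_h_rc_20_1 lc_h_rc_36_2 lc_h_rc_13_1 lc_h_rc_13_1 lc_h_rc_26_3 lc_h_rc_20_1 lc_h_rc_5_1 lc_h_Cert_tree lc_h_rc_13_1 lc_h_Cert_tree lc_h_rc_35_0 lc_h_rc_20_1 lc_h_rc_26_3 lc_h_rc_5_1 lc_h_rc_26_3 lc_h_rc_13_1 lc_h_rc_31_1 lc_h_rc_26_3 lc_h_rc_13_1 lc_h_rc_5_1 lc_h_rc_26_3 lc_h_rc_20_1 lc_h_rc_26_3) (@D3.rec (fun _ => (Cert rels S Gen.h)) lc_h_rc_13_1 lc_h_rc_26_3 lc_h_rc_20_1 lc_h_rc_13_1 lc_h_rc_41_1 lc_h_rc_13_1 lc_h_rc_36_0 lc_h_rc_20_1 lc_h_rc_13_1 lc_h_rc_13_1 lc_h_rc_13_1 lc_h_rc_31_3 lc_h_rc_41_1 lc_h_rc_20_1 lc_h_rc_20_1 lc_h_rc_36_2 lc_h_rc_20_1 lc_h_rc_20_1 lc_h_rc_13_1 lc_h_rc_20_1 lc_h_rc_13_1 lc_h_rc_26_3 lc_h_rc_20_1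 lc_h_rc_41_1 lc_h_rc_20_1 lc_h_rc_20_1 lc_h_rc_41_1 lc_h_Cert_tree lc_h_rc_35_0 lc_h_rc_20_1 lc_h_rc_36_2 lc_h_rc_36_2) (@D3.rec (fun _ => (Cert rels S Gen.h)) lc_h_rc_26_3 lc_h_rc_36_2 lc_h_rc_31_1 lc_h_rc_26_3 lc_h_rc_13_1 lc_h_rc_31_1 lc_h_rc_26_3 lc_h_rc_20_1 lc_h_Cert_tree lc_h_rc_35_0 lc_h_rc_36_2 lc_h_rc_13_1 lc_h_rc_20_1 lc_h_rc_13_1 lc_h_Cert_tree lc_h_rc_5_1 lc_h_rc_13_1 lc_h_Cert_tree lc_h_rc_35_0 lc_h_rc_13_1 lc_h_Cert_tree lc_h_rc_35_0 lc_h_rc_41_1 lc_h_rc_5_1 lc_h_rc_5_1 lc_h_rc_35_0 lc_h_rc_13_1 lc_h_rc_46_27 lc_h_rc_35_0 lc_h_rc_26_3 lc_h_rc_41_1 lc_h_rc_20_1) (@D3.rec (fun _ => (Cert rels S Gen.h)) lc_h_rc_20_1 lc_h_rc_36_2 lc_h_rc_26_3 lc_h_rc_5_1 lc_h_rc_36_2 lc_h_rc_5_1 lc_h_rc_41_1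 lc_h_rc_46_34 lc_h_rc_26_1 lc_h_rc_20_1 lc_h_rc_35_1 lc_h_rc_37_1 lc_h_rc_31_1 lc_h_rc_26_3 lc_h_rc_41_1 lc_h_rc_46_27 lc_h_rc_26_1 lc_h_rc_13_1 lc_h_rc_37_1 lc_h_rc_41_1 lc_h_rc_36_0 lc_h_rc_13_1 lc_h_rc_41_1 lc_h_rc_36_2 lc_h_rc_13_3 lc_h_rc_20_1 lc_h_rc_13_1 lc_h_rc_20_1 lc_h_rc_35_0 lc_h_rc_36_2 lc_h_Cert_tree lc_h_rc_36_2) (@D3.rec (fun _ => (Cert rels S Gen.h)) lc_h_rc_36_2 lc_h_rc_26_3 lc_h_rc_20_1 lc_h_rc_20_1 lc_h_rc_5_1 lc_h_rc_41_1 lc_h_rc_20_1 lc_h_rc_13_1 lc_h_rc_41_1 lc_h_rc_37_1 lc_h_rc_20_1 lc_h_Cert_tree lc_h_rc_35_0 lc_h_rc_13_1 lc_h_rc_31_1 lc_h_rc_26_3 lc_h_rc_36_2 lc_h_rc_41_1 lc_h_rc_26_3 lc_h_rc_20_1 lc_h_rc_26_3 lc_h_rc_20_1 lc_h_rc_31_1 lc_h_rc_26_3 lc_h_rc_46_27 lc_h_rc_13_1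 lc_h_rc_41_1 lc_h_rc_41_1 lc_h_rc_45_43 lc_h_rc_26_1 lc_h_rc_41_3 lc_h_rc_20_1) (@D3.rec (fun _ => (Cert rels S Gen.h)) lc_h_rc_41_1 lc_h_rc_5_1 lc_h_rc_13_1 lc_h_rc_13_1 lc_h_rc_20_1 lc_h_rc_20_1 lc_h_rc_5_1 lc_h_rc_13_1 lc_h_rc_36_2 lc_h_rc_31_1 lc_h_rc_20_1 lc_h_rc_36_2 lc_h_rc_13_1 lc_h_rc_26_3 lc_h_rc_20_1 lc_h_rc_5_1 lc_h_rc_13_1 lc_h_rc_20_1 lc_h_rc_5_1 lc_h_rc_13_1 lc_h_rc_41_1 lc_h_rc_13_1 lc_h_rc_13_1 lc_h_rc_5_1 lc_h_rc_13_1 lc_h_rc_36_2 lc_h_rc_5_1 lc_h_rc_5_1 lc_h_rc_13_1 lc_h_rc_13_1 lc_h_rc_37_1 lc_h_rc_20_1) (@D3.rec (fun _ => (Cert rels S Gen.h)) lc_h_rc_13_1 lc_h_rc_26_3 lc_h_rc_36_2 lc_h_rc_36_2 lc_h_rc_36_2 lc_h_rc_13_1 lc_h_rc_20_1 lc_h_rc_37_1 lc_h_rc_36_2 lc_h_rc_31_1 lc_h_rc_41_1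 lc_h_rc_20_1 lc_h_rc_20_1 lc_h_rc_20_1 lc_h_rc_41_1 lc_h_rc_36_2 lc_h_rc_20_1 lc_h_rc_13_1 lc_h_rc_5_1 lc_h_rc_13_1 lc_h_rc_20_1 lc_h_rc_5_3 lc_h_rc_13_1 lc_h_rc_5_1 lc_h_Cert_tree lc_h_rc_13_1 lc_h_Cert_tree lc_h_rc_35_0 lc_h_rc_41_1 lc_h_Cert_tree lc_h_Cert_tree lc_h_rc_35_0) (@D3.rec (fun _ => (Cert rels S Gen.h)) lc_h_rc_36_2 lc_h_rc_5_1 lc_h_rc_13_1 lc_h_rc_13_1 lc_h_rc_26_3 lc_h_rc_20_1 lc_h_rc_5_1 lc_h_rc_47_34 lc_h_rc_13_1 lc_h_rc_37_1 lc_h_rc_41_1 lc_h_rc_5_1 lc_h_rc_13_1 lc_h_rc_35_0 lc_h_rc_36_2 lc_h_rc_13_1 lc_h_rc_13_1 lc_h_rc_20_1 lc_h_rc_20_1 lc_h_rc_20_1 lc_h_rc_13_1 lc_h_rc_13_1 lc_h_rc_31_1 lc_h_rc_26_3 lc_h_Cert_tree lc_h_rc_13_1 lc_h_Cert_tree lc_h_rc_35_0 lc_h_rc_20_1 lc_h_rc_26_3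 lc_h_rc_13_1 lc_h_Cert_tree) (@D3.rec (fun _ => (Cert rels S Gen.h)) lc_h_Cert_tree lc_h_rc_35_0 lc_h_rc_36_2 lc_h_rc_35_0 lc_h_rc_5_1 lc_h_rc_35_0 lc_h_rc_5_1 lc_h_rc_36_2 lc_h_rc_36_2 lc_h_rc_20_1 lc_h_rc_45_61 lc_h_rc_20_1 lc_h_rc_13_1 lc_h_rc_20_1 lc_h_rc_13_1 lc_h_rc_26_3 lc_h_rc_20_1 lc_h_rc_5_1 lc_h_rc_13_1 lc_h_rc_13_1 lc_h_rc_37_1 lc_h_rc_20_1 lc_h_rc_26_3 lc_h_rc_5_1 lc_h_rc_13_1 lc_h_rc_13_1 lc_h_rc_31_1 lc_h_rc_26_3 lc_h_rc_37_1 lc_h_rc_5_1 lc_h_rc_37_3 lc_h_rc_20_1)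
def ce_h_19 : D2 → D3 → (Cert rels S Gen.h) := @D2.rec (fun _ => D3 → (Cert rels S Gen.h)) (@D3.rec (fun _ => (Cert rels S Gen.h)) lc_h_rc_5_1 lc_h_rc_20_1 lc_h_rc_20_1 lc_h_rc_20_1 lc_h_rc_20_1 lc_h_rc_31_1 lc_h_rc_13_3 lc_h_Cert_tree lc_h_Cert_tree lc_h_rc_35_0 lc_h_rc_31_1 lc_h_rc_13_1 lc_h_rc_26_3 lc_h_Cert_tree lc_h_rc_35_0 lc_h_rc_36_2 lc_h_Cert_tree lc_h_rc_35_0 lc_h_rc_35_0 lc_h_rc_5_1 lc_h_rc_37_1 lc_h_rc_5_1 lc_h_rc_36_2 lc_h_rc_36_2 lc_h_rc_26_3 lc_h_rc_20_1 lc_h_Cert_tree lc_h_Cert_tree lc_h_rc_35_0 lc_h_rc_13_1 lc_h_rc_13_1 lc_h_rc_26_3) (@D3.rec (fun _ => (Cert rels S Gen.h)) lc_h_rc_20_1 lc_h_rc_13_1 lc_h_Cert_tree lc_h_rc_35_0 lc_h_rc_20_1 lc_h_rc_47_34 lc_h_rc_13_1 lc_h_rc_37_1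 lc_h_rc_20_1 lc_h_rc_35_0 lc_h_rc_26_3 lc_h_rc_20_1 lc_h_rc_20_1 lc_h_rc_20_1 lc_h_rc_13_1 lc_h_rc_13_1 lc_h_rc_31_1 lc_h_rc_26_3 lc_h_rc_5_1 lc_h_Cert_tree lc_h_rc_35_0 lc_h_rc_20_1 lc_h_rc_13_1 lc_h_rc_13_1 lc_h_rc_31_1 lc_h_rc_26_3 lc_h_Cert_tree lc_h_rc_35_0 lc_h_rc_36_2 lc_h_rc_13_1 lc_h_rc_13_1 lc_h_rc_31_1) (@D3.rec (fun _ => (Cert rels S Gen.h)) lc_h_rc_41_1 lc_h_rc_36_2 lc_h_rc_26_1 lc_h_rc_20_1 lc_h_rc_36_2 lc_h_rc_13_1 lc_h_rc_26_3 lc_h_rc_20_1 lc_h_rc_20_1 lc_h_rc_26_3 lc_h_rc_13_1 lc_h_rc_31_1 lc_h_rc_26_3 lc_h_rc_36_4 lc_h_rc_5_1 lc_h_Cert_tree lc_h_rc_35_0 lc_h_rc_13_1 lc_h_Cert_tree lc_h_Cert_tree lc_h_rc_35_0 lc_h_rc_26_3 lc_h_rc_5_1 lc_h_rc_31_1 lc_h_rc_26_3 lc_h_rc_31_1 lc_h_rc_31_1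 lc_h_rc_26_3 lc_h_rc_26_3 lc_h_rc_13_1 lc_h_rc_31_1 lc_h_rc_26_3) (@D3.rec (fun _ => (Cert rels S Gen.h)) lc_h_rc_13_1 lc_h_rc_36_0 lc_h_rc_31_1 lc_h_rc_26_3 lc_h_rc_20_1 lc_h_rc_31_1 lc_h_rc_20_1 lc_h_rc_26_3 lc_h_rc_20_1 lc_h_rc_45_25 lc_h_rc_20_1 lc_h_rc_20_1 lc_h_rc_20_1 lc_h_Cert_tree lc_h_Cert_tree lc_h_rc_35_0 lc_h_rc_36_2 lc_h_rc_36_2 lc_h_rc_36_2 lc_h_rc_36_2 lc_h_rc_31_1 lc_h_rc_26_3 lc_h_rc_26_1 lc_h_rc_31_1 lc_h_rc_26_3 lc_h_rc_31_1 lc_h_rc_35_0 lc_h_rc_36_2 lc_h_rc_13_1 lc_h_rc_45_43 lc_h_Cert_tree lc_h_rc_35_0) (@D3.rec (fun _ => (Cert rels S Gen.h)) lc_h_rc_5_1 lc_h_rc_36_2 lc_h_Cert_tree lc_h_rc_35_0 lc_h_rc_35_0 lc_h_rc_46_20 lc_h_rc_5_1 lc_h_rc_37_1 lc_h_rc_31_1 lc_h_rc_26_3 lc_h_rc_37_1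 lc_h_rc_20_1 lc_h_rc_31_1 lc_h_rc_26_3 lc_h_rc_37_1 lc_h_rc_5_1 lc_h_rc_37_1 lc_h_rc_26_1 lc_h_rc_20_1 lc_h_rc_31_1 lc_h_rc_37_3 lc_h_rc_31_1 lc_h_rc_37_1 lc_h_rc_26_1 lc_h_rc_13_1 lc_h_rc_41_1 lc_h_rc_36_0 lc_h_rc_31_1 lc_h_rc_13_3 lc_h_rc_31_1 lc_h_rc_26_3 lc_h_rc_36_2) (@D3.rec (fun _ => (Cert rels S Gen.h)) lc_h_Cert_tree lc_h_rc_35_0 lc_h_rc_36_2 lc_h_rc_31_1 lc_h_rc_26_3 lc_h_rc_20_1 lc_h_rc_26_1 lc_h_rc_26_3 lc_h_rc_20_1 lc_h_rc_31_1 lc_h_rc_41_1 lc_h_Cert_tree lc_h_Cert_tree lc_h_rc_35_0 lc_h_rc_31_1 lc_h_rc_31_1 lc_h_rc_26_3 lc_h_rc_31_1 lc_h_rc_26_3 lc_h_rc_31_1 lc_h_rc_5_1 lc_h_rc_47_27 lc_h_rc_13_1 lc_h_rc_20_1 lc_h_rc_20_1 lc_h_rc_20_1 lc_h_rc_5_1 lc_h_rc_26_3 lc_h_rc_13_1 lc_h_rc_31_1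 lc_h_rc_20_1 lc_h_rc_5_1) (@D3.rec (fun _ => (Cert rels S Gen.h)) lc_h_rc_36_2 lc_h_rc_20_1 lc_h_rc_13_1 lc_h_rc_26_3 lc_h_rc_5_1 lc_h_rc_13_1 lc_h_rc_5_1 lc_h_rc_13_1 lc_h_rc_13_1 lc_h_rc_37_1 lc_h_rc_5_1 lc_h_rc_13_1 lc_h_rc_13_1 lc_h_rc_31_1 lc_h_rc_41_1 lc_h_rc_36_4 lc_h_rc_36_2 lc_h_rc_31_1 lc_h_rc_13_1 lc_h_rc_31_1 lc_h_rc_41_1 lc_h_rc_31_1 lc_h_rc_20_1 lc_h_rc_13_1 lc_h_rc_36_2 lc_h_rc_5_1 lc_h_Cert_tree lc_h_rc_35_0 lc_h_rc_13_1 lc_h_Cert_tree lc_h_Cert_tree lc_h_rc_35_0) (@D3.rec (fun _ => (Cert rels S Gen.h)) lc_h_Cert_tree lc_h_rc_35_0 lc_h_rc_35_0 lc_h_rc_36_2 lc_h_rc_36_2 lc_h_rc_5_1 lc_h_rc_36_2 lc_h_rc_13_1 lc_h_rc_13_1 lc_h_rc_31_1 lc_h_rc_26_3 lc_h_rc_5_1 lc_h_rc_5_1 lc_h_rc_13_1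 lc_h_rc_41_1 lc_h_rc_5_1 lc_h_rc_36_2 lc_h_rc_36_2 lc_h_rc_26_3 lc_h_rc_13_1 lc_h_rc_31_1 lc_h_rc_20_1 lc_h_rc_20_1 lc_h_rc_13_1 lc_h_rc_13_1 lc_h_rc_31_1 lc_h_Cert_tree lc_h_rc_35_0 lc_h_rc_13_1 lc_h_Cert_tree lc_h_Cert_tree lc_h_rc_35_0) (@D3.rec (fun _ => (Cert rels S Gen.h)) lc_h_rc_31_1 lc_h_rc_26_3 lc_h_Cert_tree lc_h_rc_35_0 lc_h_rc_35_0 lc_h_rc_36_2 lc_h_rc_47_48 lc_h_rc_5_1 lc_h_rc_36_2 lc_h_rc_5_1 lc_h_rc_36_2 lc_h_rc_31_1 lc_h_rc_26_3 lc_h_rc_5_1 lc_h_rc_13_1 lc_h_rc_13_1 lc_h_rc_31_1 lc_h_rc_41_1 lc_h_rc_36_2 lc_h_rc_5_1 lc_h_rc_13_1 lc_h_rc_13_1 lc_h_rc_31_1 lc_h_rc_46_55 lc_h_rc_31_1 lc_h_rc_20_1 lc_h_rc_31_1 lc_h_rc_20_1 lc_h_rc_31_1 lc_h_Cert_tree lc_h_rc_35_0 lc_h_rc_35_0) (@D3.rec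 (fun _ => (Cert rels S Gen.h)) lc_h_rc_37_1 lc_h_Cert_tree lc_h_rc_35_0 lc_h_rc_35_0 lc_h_rc_31_1 lc_h_rc_41_1 lc_h_rc_36_2 lc_h_rc_36_2 lc_h_rc_31_1 lc_h_rc_26_3 lc_h_Cert_tree lc_h_rc_35_0 lc_h_rc_35_0 lc_h_rc_13_1 lc_h_rc_13_1 lc_h_rc_31_1 lc_h_rc_26_3 lc_h_rc_13_1 lc_h_Cert_tree lc_h_rc_35_0 lc_h_rc_5_1 lc_h_rc_31_1 lc_h_rc_37_1 lc_h_rc_31_1 lc_h_rc_26_3 lc_h_rc_31_1 lc_h_rc_20_1 lc_h_rc_13_1 lc_h_rc_13_1 lc_h_rc_31_1 lc_h_Cert_tree lc_h_Cert_tree) (@D3.rec (fun _ => (Cert rels S Gen.h)) lc_h_rc_35_0 lc_h_rc_13_1 lc_h_rc_13_1 lc_h_rc_31_1 lc_h_rc_35_0 lc_h_rc_31_1 lc_h_rc_13_1 lc_h_rc_31_1 lc_h_rc_31_1 lc_h_rc_26_1 lc_h_rc_36_2 lc_h_rc_13_1 lc_h_rc_31_1 lc_h_rc_26_3 lc_h_rc_37_1 lc_h_rc_31_1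 lc_h_rc_26_3 lc_h_rc_31_1 lc_h_rc_36_4 lc_h_rc_5_1 lc_h_Cert_tree lc_h_Cert_tree lc_h_rc_35_0 lc_h_Cert_tree lc_h_rc_35_0 lc_h_rc_35_0 lc_h_rc_31_1 lc_h_rc_26_3 lc_h_rc_31_1 lc_h_rc_37_1 lc_h_rc_31_1 lc_h_rc_31_1) (@D3.rec (fun _ => (Cert rels S Gen.h)) lc_h_rc_26_3 lc_h_rc_31_1 lc_h_rc_31_1 lc_h_rc_26_3 lc_h_rc_31_1 lc_h_rc_31_1 lc_h_rc_26_3 lc_h_rc_31_1 lc_h_rc_26_3 lc_h_rc_20_1 lc_h_rc_20_1 lc_h_Cert_tree lc_h_rc_35_0 lc_h_rc_35_0 lc_h_rc_36_2 lc_h_rc_37_1 lc_h_rc_36_2 lc_h_rc_36_2 lc_h_rc_31_1 lc_h_rc_35_0 lc_h_rc_37_1 lc_h_rc_31_1 lc_h_rc_37_1 lc_h_rc_36_2 lc_h_rc_45_25 lc_h_Cert_tree lc_h_rc_35_0 lc_h_rc_37_1 lc_h_rc_35_0 lc_h_rc_5_1 lc_h_rc_31_1 lc_h_rc_5_1) (@D3.rec (fun _ => (Cert rels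 S Gen.h)) lc_h_rc_37_3 lc_h_rc_31_1 lc_h_rc_31_1 lc_h_rc_41_1 lc_h_rc_41_1 lc_h_rc_31_1 lc_h_rc_26_1 lc_h_rc_41_1 lc_h_rc_37_1 lc_h_rc_41_1 lc_h_rc_26_1 lc_h_rc_31_1 lc_h_rc_31_1 lc_h_Cert_tree lc_h_Cert_tree lc_h_rc_35_0 lc_h_rc_31_1 lc_h_rc_31_1 lc_h_rc_20_1 lc_h_rc_31_1 lc_h_rc_26_3 lc_h_rc_31_1 lc_h_Cert_tree lc_h_rc_35_0 lc_h_rc_35_0 lc_h_rc_37_1 lc_h_rc_31_1 lc_h_rc_31_1 lc_h_rc_37_1 lc_h_rc_46_34 lc_h_rc_26_1 lc_h_rc_36_2) (@D3.rec (fun _ => (Cert rels S Gen.h)) lc_h_rc_31_1 lc_h_rc_20_1 lc_h_rc_5_1 lc_h_rc_31_1 lc_h_rc_26_3 lc_h_rc_31_1 lc_h_rc_37_1 lc_h_rc_5_1 lc_h_rc_13_1 lc_h_rc_13_1 lc_h_rc_31_1 lc_h_rc_41_1 lc_h_rc_31_1 lc_h_rc_13_1 lc_h_rc_31_1 lc_h_rc_36_4 lc_h_rc_36_4 lc_h_rc_31_1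 lc_h_rc_31_1 lc_h_rc_31_1 lc_h_rc_36_2 lc_h_rc_5_1 lc_h_Cert_tree lc_h_Cert_tree lc_h_rc_35_0 lc_h_Cert_tree lc_h_rc_35_0 lc_h_rc_35_0 lc_h_Cert_tree lc_h_rc_35_0 lc_h_rc_36_2 lc_h_rc_36_2) (@D3.rec (fun _ => (Cert rels S Gen.h)) lc_h_rc_36_2 lc_h_rc_5_1 lc_h_rc_36_2 lc_h_rc_13_1 lc_h_rc_13_1 lc_h_rc_31_1 lc_h_rc_5_1 lc_h_rc_5_1 lc_h_rc_36_2 lc_h_rc_31_1 lc_h_rc_36_4 lc_h_rc_31_1 lc_h_rc_20_1 lc_h_rc_20_1 lc_h_rc_13_1 lc_h_rc_37_1 lc_h_Cert_tree lc_h_Cert_tree lc_h_rc_35_0 lc_h_Cert_tree lc_h_rc_35_0 lc_h_rc_35_0 lc_h_rc_31_1 lc_h_Cert_tree lc_h_rc_35_0 lc_h_rc_36_2 lc_h_rc_36_2 lc_h_rc_5_1 lc_h_rc_31_1 lc_h_rc_5_1 lc_h_rc_31_1 lc_h_rc_13_1) (@D3.rec (fun _ => (Cert rels S Gen.h)) lc_h_rc_31_1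 lc_h_rc_36_2 lc_h_rc_36_2 lc_h_rc_13_1 lc_h_rc_37_1 lc_h_rc_31_1 lc_h_rc_31_1 lc_h_rc_37_1 lc_h_Cert_tree lc_h_rc_35_0 lc_h_rc_35_0 lc_h_rc_31_1 lc_h_rc_36_2 lc_h_rc_36_2 lc_h_rc_31_1 lc_h_Cert_tree lc_h_rc_35_0 lc_h_rc_13_1 lc_h_rc_13_1 lc_h_rc_31_1 lc_h_rc_35_0 lc_h_rc_31_1 lc_h_rc_31_1 lc_h_rc_31_1 lc_h_rc_13_1 lc_h_rc_37_1 lc_h_Cert_tree lc_h_rc_35_0 lc_h_rc_35_0 lc_h_rc_13_1 lc_h_rc_37_1 lc_h_rc_31_1) (@D3.rec (fun _ => (Cert rels S Gen.h)) lc_h_rc_31_1 lc_h_rc_31_1 lc_h_rc_36_2 lc_h_rc_36_2 lc_h_rc_31_1 lc_h_rc_5_1 lc_h_rc_37_1 lc_h_rc_31_1 lc_h_rc_37_1 lc_h_rc_36_4 lc_h_rc_36_4 lc_h_Cert_tree lc_h_rc_35_0 lc_h_rc_35_0 lc_h_Cert_tree lc_h_rc_35_0 lc_h_rc_31_1 lc_h_rc_37_1 lc_h_rc_37_1 lc_h_rc_31_1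 lc_h_rc_37_1 lc_h_rc_31_1 lc_h_rc_37_1 lc_h_rc_31_1 lc_h_rc_31_1 lc_h_rc_20_1 lc_h_Cert_tree lc_h_rc_35_0 lc_h_rc_36_2 lc_h_rc_36_2 lc_h_rc_36_2 lc_h_rc_41_1) (@D3.rec (fun _ => (Cert rels S Gen.h)) lc_h_rc_36_2 lc_h_rc_37_1 lc_h_rc_41_1 lc_h_rc_37_1 lc_h_rc_5_1 lc_h_rc_35_0 lc_h_rc_37_1 lc_h_rc_5_1 lc_h_rc_37_1 lc_h_rc_31_1 lc_h_rc_31_1 lc_h_rc_47_27 lc_h_rc_37_1 lc_h_rc_37_1 lc_h_Cert_tree lc_h_rc_35_0 lc_h_rc_35_0 lc_h_rc_37_1 lc_h_rc_31_1 lc_h_rc_31_1 lc_h_rc_37_1 lc_h_Cert_tree lc_h_rc_35_0 lc_h_rc_37_1 lc_h_rc_37_1 lc_h_rc_5_1 lc_h_rc_31_1 lc_h_rc_36_2 lc_h_rc_31_1 lc_h_rc_31_1 lc_h_rc_31_1 lc_h_rc_31_1) (@D3.rec (fun _ => (Cert rels S Gen.h)) lc_h_rc_13_1 lc_h_rc_31_1 lc_h_rc_31_1 lc_h_rc_31_1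 lc_h_rc_36_4 lc_h_rc_37_1 lc_h_rc_36_4 lc_h_rc_37_1 lc_h_rc_41_1 lc_h_Cert_tree lc_h_rc_35_0 lc_h_rc_35_0 lc_h_Cert_tree lc_h_rc_35_0 lc_h_rc_35_0 lc_h_rc_36_2 lc_h_rc_36_2 lc_h_rc_36_2 lc_h_rc_36_2 lc_h_rc_36_2 lc_h_rc_13_1 lc_h_rc_37_1 lc_h_rc_36_2 lc_h_rc_36_2 lc_h_rc_36_4 lc_h_rc_36_4 lc_h_rc_20_1 lc_h_rc_13_1 lc_h_Cert_tree lc_h_rc_35_0 lc_h_rc_35_0 lc_h_Cert_tree) (@D3.rec (fun _ => (Cert rels S Gen.h)) lc_h_rc_35_0 lc_h_rc_37_1 lc_h_rc_35_0 lc_h_rc_36_2 lc_h_rc_37_1 lc_h_rc_31_1 lc_h_rc_36_4 lc_h_rc_36_2 lc_h_rc_13_1 lc_h_rc_37_1 lc_h_rc_37_1 lc_h_rc_35_0 lc_h_rc_37_1 lc_h_rc_36_2 lc_h_rc_37_1 lc_h_rc_35_0 lc_h_rc_13_1 lc_h_rc_37_1 lc_h_rc_31_1 lc_h_rc_37_1 lc_h_rc_31_1 lc_h_rc_13_1 lc_h_Cert_tree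 lc_h_rc_35_0 lc_h_rc_13_1 lc_h_rc_37_1 lc_h_rc_37_1 lc_h_rc_36_2 lc_h_rc_37_1 lc_h_rc_5_1 lc_h_rc_37_1 lc_h_rc_36_4) (@D3.rec (fun _ => (Cert rels S Gen.h)) lc_h_Cert_tree lc_h_rc_35_0 lc_h_rc_35_0 lc_h_rc_37_1 lc_h_rc_37_1 lc_h_rc_37_1 lc_h_rc_37_1 lc_h_rc_37_1 lc_h_rc_37_1 lc_h_rc_35_0 lc_h_rc_36_2 lc_h_rc_41_1 lc_h_rc_37_1 lc_h_rc_13_3 lc_h_rc_20_1 lc_h_rc_36_2 lc_h_rc_37_1 lc_h_Cert_tree lc_h_rc_35_0 lc_h_rc_37_1 lc_h_rc_37_1 lc_h_rc_35_0 lc_h_rc_36_2 lc_h_rc_36_2 lc_h_rc_37_1 lc_h_rc_31_1 lc_h_rc_36_2 lc_h_rc_37_1 lc_h_rc_37_1 lc_h_rc_41_1 lc_h_Cert_tree lc_h_rc_35_0) (@D3.rec (fun _ => (Cert rels S Gen.h)) lc_h_rc_35_0 lc_h_rc_37_1 lc_h_rc_36_2 lc_h_rc_36_2 lc_h_rc_13_1 lc_h_rc_36_2 lc_h_rc_37_1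 lc_h_rc_37_1 lc_h_Cert_tree lc_h_rc_35_0 lc_h_rc_35_0 lc_h_rc_37_1 lc_h_rc_37_1 lc_h_rc_37_1 lc_h_rc_37_1 lc_h_rc_13_1 lc_h_rc_35_0 lc_h_rc_37_1 lc_h_rc_5_1 lc_h_rc_37_1 lc_h_rc_35_0 lc_h_rc_37_1 lc_h_rc_5_1 lc_h_rc_35_0 lc_h_rc_37_1 lc_h_rc_37_1 lc_h_rc_20_1 lc_h_rc_35_0 lc_h_rc_37_1 lc_h_rc_37_1 lc_h_rc_37_1 lc_h_rc_35_0)
def ce_h : Pt → (Cert rels S Gen.h) := @Pt.rec (fun _ => (Cert rels S Gen.h)) (@D1.rec (fun _ => D2 → D3 → (Cert rels S Gen.h)) ce_h_0 ce_h_1 ce_h_2 ce_h_3 ce_h_4 ce_h_5 ce_h_6 ce_h_7 ce_h_8 ce_h_9 ce_h_10 ce_h_11 ce_h_12 ce_h_13 ce_h_14 ce_h_15 ce_h_16 ce_h_17 ce_h_18 ce_h_19)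
def isSeed_h (p : Pt) : Bool := orB (beqPt p (Pt.mk D1.c3 D2.c17 D3.c10)) (false)

end

end Cfsg.Agent.Helper28.S1685
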