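import Cfsg.Agent.Lib.Helper28.S1685.Tree

set_option autoImplicit false
set_option maxRecDepth 100000
set_option linter.all false

namespace Cfsg.Agent.Helper28.S1685

open Cfsg.Agent.Helper28
open Cfsg.Spor.Fi22 (Gen)

noncomputable section

def lv_i_0 : D2 → D3 → Nat := @D2.rec (fun _ => D3 → Nat) (@D3.rec (fun _ => Nat) 1 2 3 4 5 6 0 7 0 1 8 0 0 1 0 0 1 0 1 0 1 0 0 1 0 1 7 0 0 1 0 0) (@D3.rec (fun _ => Nat) 1 1 8 0 1 8 0 0 1 0 1 9 0 0 1 0 1 9 9 1 9 9 0 0 1 0 0 1 10 1 10 0) (@D3.rec (fun _ => Nat) 1 0 1 10 0 1 10 10 10 10 10 10 0 1 0 0 1 11 0 0 1 1 11 11 11 11 0 1 11 0 0 1) (@D3.rec (fun _ => Nat) 11 11 1 2 11 11 11 11 11 11 11 0 0 1 12 0 0 0 1 1 12 12 0 0 1 1 2 12 12 12 12 12) (@D3.rec (fun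 _ => Nat) 1 12 12 1 1 2 12 12 12 2 3 12 12 12 12 12 12 0 1 1 13 13 0 1 0 0 1 1 2 13 13 13) (@D3.rec (fun _ => Nat) 13 0 1 1 2 2 3 13 13 13 13 13 13 13 16 13 13 17 2 3 13 13 13 13 3 4 4 13 13 13 13 13) (@D3.rec (fun _ => Nat) 13 0 1 18 14 14 14 0 1 17 0 1 1 2 2 3 14 14 14 14 14 0 1 2 2 3 3 4 4 14 14 14) (@D3.rec (fun _ => Nat) 14 14 14 14 14 14 18 14 14 17 3 4 4 14 14 14 14 14 4 4 5 5 5 14 14 14 14 1 20 18 15 15) (@D3.rec (fun _ => Nat) 15 15 0 1 19 19 0 1 2 2 3 3 4 4 15 15 15 15 15 15 15 15 0 1 2 3 3 4 4 4 4 5) (@D3.rec (fun _ => Nat) 5 5 15 15 15 15 15 15 15 15 15 15 18 18 15 15 19 19 4 4 5 5 5 15 15 15 15 15 59 5 5 5) (@D3.rec (fun _ => Nat) 6 6 6 6 6 15 15 15 20 20 20 20 16 16 16 16 16 1 21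 21 19 19 1 2 3 3 4 4 4 4 5 5) (@D3.rec (fun _ => Nat) 5 16 16 16 16 16 16 16 16 16 0 1 14 3 4 4 4 4 5 5 5 5 5 5 6 6 6 6 6 16 16 16) (@D3.rec (fun _ => Nat) 16 16 16 16 16 16 16 0 20 20 16 16 19 19 58 5 5 5 6 6 6 6 6 16 16 16 59 16 6 6 6 6) (@D3.rec (fun _ => Nat) 6 7 7 7 7 7 16 16 22 22 22 20 20 20 17 17 17 17 17 17 18 21 21 21 21 21 21 15 3 4 4 4) (@D3.rec (fun _ => Nat) 4 5 5 5 5 5 5 6 6 6 6 6 17 17 17 17 17 17 17 17 17 0 17 17 61 1 15 15 4 4 5 5) (@D3.rec (fun _ => Nat) 5 5 5 5 6 6 6 6 6 6 6 6 6 6 7 7 7 7 7 17 17 17 17 0 17 17 17 17 17 0 1 20) (@D3.rec (fun _ => Nat) 20 20 17 21 21 21 60 6 6 6 6 6 7 7 7 7 61 7 17 17 61 17 7 7 7 7 14 7 8 8 8 8) (@D3.rec (fun _ => Nat) 8 8 8 17 22 22 22 22 22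 22 22 22 22 18 18 18 18 18 18 19 23 23 23 23 23 21 21 21 21 60 16 4) (@D3.rec (fun _ => Nat) 4 5 5 5 5 5 5 6 6 6 6 6 6 6 6 6 6 7 7 7 7 0 7 18 18 18 18 0 18 18 18 18) (@D3.rec (fun _ => Nat) 0 18 18 61 1 61 16 16 16 5 5 5 6 6 6 6 6 6 6 6 6 6 7 7 7 7 0 7 7 7 7 7) (@D3.rec (fun _ => Nat) 15 7 8 8 8 8 8 8 8 18 18 18 18 0 18 18 0 1 18 18 0 0 1 22 22 21 21 60 60 61 7 7) (@D3.rec (fun _ => Nat) 7 7 62 7 8 8 8 8 61 8 8 61 18 8 8 8 8 15 8 8 8 15 9 9 9 9 9 9 9 24 24 24)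
def lv_i_1 : D2 → D3 → Nat := @D2.rec (fun _ => D3 → Nat) (@D3.rec (fun _ => Nat) 24 24 24 24 22 22 22 22 19 19 19 19 0 19 20 20 23 23 23 23 23 23 23 62 23 23 23 23 0 62 17 17) (@D3.rec (fun _ => Nat) 5 5 5 6 6 6 6 6 6 6 6 6 6 7 7 7 7 0 7 7 7 7 7 0 7 8 8 8 8 0 8 8) (@D3.rec (fun _ => Nat) 8 63 1 19 19 19 19 0 19 19 19 0 1 19 0 19 19 63 1 63 63 17 17 17 17 17 6 6 6 6 6 7) (@D3.rec (fun _ => Nat) 7 7 7 0 7 7 7 7 7 0 7 8 8 8 8 0 8 8 8 0 1 8 8 8 8 16 8 8 8 16 9 9) (@D3.rec (fun _ => Nat) 9 9 9 9 9 19 19 0 19 19 0 19 0 1 0 1 19 0 1 0 1 22 22 23 62 23 62 63 62 63 8 8) (@D3.rec (fun _ => Nat) 8 8 64 8 8 9 9 63 9 9 63 9 9 9 16 9 9 16 9 9 16 9 16 16 10 10 10 10 10 10 10 10) (@D3.rec (fun _ => Nat) 40 24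 24 24 24 24 24 24 0 24 24 24 24 24 20 20 20 20 0 0 1 21 21 25 39 25 25 25 62 25 25 25) (@D3.rec (fun _ => Nat) 25 0 62 23 23 23 23 0 62 23 62 0 1 18 18 18 6 6 6 6 6 7 7 7 7 0 7 7 7 7 7 0) (@D3.rec (fun _ => Nat) 7 8 8 8 8 0 8 8 8 0 1 8 8 8 8 0 8 8 8 63 1 9 9 0 9 9 0 9 9 63 1 9) (@D3.rec (fun _ => Nat) 63 20 20 0 20 20 0 20 20 0 1 0 0 1 20 63 1 63 67 71 18 18 18 18 18 18 18 18 7 7 7 7) (@D3.rec (fun _ => Nat) 0 7 8 8 8 8 0 8 8 8 0 1 8 8 8 8 0 8 8 8 69 1 9 9 0 9 9 0 9 9 0 1) (@D3.rec (fun _ => Nat) 71 73 74 1 9 9 17 9 9 17 9 9 17 9 17 17 10 10 10 10 10 10 10 68 20 20 0 20 0 1 20 0) (@D3.rec (fun _ => Nat) 0 1 0 1 1 0 0 1 0 1 24 23 62 63 62 63 62 63 9 9 64 9 9 64 9 10 10 63 10 10 10 10) (@D3.rec (fun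 _ => Nat) 17 10 10 17 10 10 17 17 10 17 17 10 17 17 11 11 11 11 11 11 11 38 26 26 26 0 26 26 26 26 0 26) (@D3.rec (fun _ => Nat) 0 1 24 24 24 24 21 21 0 21 0 0 1 1 41 22 22 26 26 39 25 25 25 0 69 25 25 25 25 0 64 25) (@D3.rec (fun _ => Nat) 68 0 1 25 25 0 64 25 0 25 64 0 1 64 65 64 1 19 19 19 19 19 7 7 7 7 0 7 8 8 8 8) (@D3.rec (fun _ => Nat) 0 8 8 8 0 1 8 8 8 8 0 8 8 8 0 1 9 9 0 9 9 0 9 9 0 1 9 0 0 1 9 9) (@D3.rec (fun _ => Nat) 0 9 9 0 9 9 65 1 9 65 10 10 0 10 10 65 1 10 10 65 1 10 65 69 21 21 0 21 21 0 1 21) (@D3.rec (fun _ => Nat) 21 0 0 1 0 0 1 0 1 1 65 68 68 68 19 19 19 19 19 19 19 19 19 69 19 8 8 8 8 0 8 8) (@D3.rec (fun _ => Nat) 8 70 1 9 9 0 9 9 0 9 9 0 1 68 69 70 1 9 9 0 9 9 0 9 9 69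 1 10 10 0 10 10) (@D3.rec (fun _ => Nat) 0 1 10 10 0 0 1 72 67 68 1 10 10 18 10 10 18 10 10 18 18 10 18 18 11 11 11 11 11 11 68 21) (@D3.rec (fun _ => Nat) 0 21 0 0 1 0 1 0 0 1 0 1 1 0 1 0 1 0 1 19 24 25 64 65 64 65 64 65 65 10 10 66)
def lv_i_2 : D2 → D3 → Nat := @D2.rec (fun _ => D3 → Nat) (@D3.rec (fun _ => Nat) 10 10 64 11 65 11 11 18 11 11 18 18 11 18 18 11 11 18 18 18 18 11 18 18 12 12 12 12 12 12 12 38) (@D3.rec (fun _ => Nat) 38 26 26 0 26 0 1 26 26 0 26 0 26 0 1 0 1 26 26 26 26 22 22 0 0 1 0 0 1 1 40 23) (@D3.rec (fun _ => Nat) 27 27 0 27 37 37 27 27 0 70 27 70 0 1 27 27 0 64 27 0 27 68 0 1 70 0 0 1 25 25 0 25) (@D3.rec (fun _ => Nat) 64 0 1 25 64 0 0 1 64 65 64 1 64 64 69 20 20 20 20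 0 20 8 8 8 8 0 8 8 8 0 1 9) (@D3.rec (fun _ => Nat) 9 0 9 9 0 9 9 0 1 9 0 0 1 9 9 0 9 9 0 9 9 0 1 9 0 0 1 10 10 0 10 10) (@D3.rec (fun _ => Nat) 0 1 10 10 0 0 1 10 0 0 1 68 0 0 1 1 10 10 0 10 10 65 1 10 10 65 0 1 10 65 11 0) (@D3.rec (fun _ => Nat) 11 11 65 1 11 65 11 11 65 69 67 22 0 22 22 0 0 1 0 0 1 0 0 0 1 0 1 0 1 1 0 1) (@D3.rec (fun _ => Nat) 67 69 69 72 20 20 20 20 20 20 20 67 20 9 9 0 9 9 0 9 9 66 1 10 10 0 10 10 0 1 10 10) (@D3.rec (fun _ => Nat) 0 0 1 61 69 72 1 10 10 0 10 10 62 1 10 10 69 0 1 11 0 11 11 0 0 1 67 71 70 1 11 69) (@D3.rec (fun _ => Nat) 73 73 0 1 0 1 11 19 11 11 19 19 11 19 19 11 11 19 19 19 19 12 12 12 12 68 12 0 68 22 0 0) (@D3.rec (fun _ => Nat) 1 0 0 1 0 1 1 0 1 0 1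 0 1 11 0 0 1 0 1 20 0 1 22 64 65 64 65 65 64 65 11 66) (@D3.rec (fun _ => Nat) 11 66 12 12 12 19 19 12 12 19 19 19 19 12 19 19 12 12 19 19 13 13 13 13 13 38 36 0 28 0 28 0) (@D3.rec (fun _ => Nat) 1 0 1 28 28 0 28 0 1 28 0 0 1 0 1 1 26 26 26 23 0 0 0 1 1 0 1 0 1 24 39 24) (@D3.rec (fun _ => Nat) 28 0 28 28 28 0 1 39 37 0 73 27 0 27 67 0 1 66 0 0 1 27 27 0 27 66 0 1 27 67 0 0) (@D3.rec (fun _ => Nat) 1 68 0 0 1 70 0 0 1 1 27 0 27 66 0 0 1 64 65 66 1 27 66 67 66 0 1 1 66 66 69 69) (@D3.rec (fun _ => Nat) 71 21 21 21 21 0 21 21 21 0 1 9 9 0 9 9 0 9 9 0 1 9 0 0 1 10 10 0 10 10 0 1) (@D3.rec (fun _ => Nat) 10 10 0 0 1 10 0 0 1 70 0 0 1 1 10 10 0 10 10 0 1 10 10 0 0 1 10 0 0 1 0 0) (@D3.rec (fun _ =>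 Nat) 1 1 11 0 11 11 0 0 1 11 0 0 1 11 11 0 0 0 1 0 1 68 0 0 1 1 1 0 1 11 0 11) (@D3.rec (fun _ => Nat) 11 67 0 1 11 65 11 11 67 68 1 12 12 67 1 12 12 65 65 12 0 69 66 66 23 23 0 0 1 0 0 0) (@D3.rec (fun _ => Nat) 1 0 1 0 1 1 0 1 0 1 0 1 0 1 11 0 1 0 1 68 66 68 21 21 21 21 21 69 21 21 69 10) (@D3.rec (fun _ => Nat) 10 0 10 10 71 1 10 10 70 0 1 11 0 11 11 0 0 1 63 69 72 1 11 68 69 72 0 1 0 1 11 0) (@D3.rec (fun _ => Nat) 11 11 69 0 1 11 73 0 1 12 12 0 0 1 12 71 73 70 0 1 0 1 69 0 75 77 0 1 0 1 12 12)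
def lv_i_3 : D2 → D3 → Nat := @D2.rec (fun _ => D3 → Nat) (@D3.rec (fun _ => Nat) 12 20 20 12 12 20 20 20 20 12 0 20 20 20 20 13 13 13 0 70 70 0 1 0 0 1 0 0 1 0 1 0) (@D3.rec (fun _ => Nat) 1 0 1 12 0 1 0 1 12 0 1 12 0 1 0 1 21 0 1 23 1 23 23 66 67 67 66 65 12 66 13 13) (@D3.rec (fun _ => Nat) 20 20 20 20 20 13 13 20 20 13 14 14 14 14 14 36 38 0 36 0 1 28 0 0 1 0 1 0 1 28 0 28) (@D3.rec (fun _ => Nat) 0 0 1 0 1 28 0 0 1 0 1 1 28 28 0 0 0 1 0 1 0 1 0 1 0 1 21 25 29 0 40 29) (@D3.rec (fun _ => Nat) 0 29 29 0 1 29 0 0 1 37 37 0 35 72 0 1 29 68 0 0 1 68 0 0 1 70 0 0 1 1 29 0) (@D3.rec (fun _ => Nat) 29 70 0 0 1 66 0 0 1 29 68 0 0 0 1 0 1 68 0 0 1 1 0 0 1 0 1 27 66 0 0 1) (@D3.rec (fun _ => Nat) 27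 66 67 66 0 1 1 66 66 70 70 0 66 66 69 69 0 1 67 69 69 69 22 22 0 22 22 0 22 22 0 1) (@D3.rec (fun _ => Nat) 22 0 0 1 10 10 0 10 10 0 1 10 10 0 0 1 10 0 0 1 0 0 1 1 11 0 11 11 0 0 1 11) (@D3.rec (fun _ => Nat) 0 0 1 11 11 0 0 0 1 0 1 67 0 0 1 1 0 0 1 0 1 11 0 11 11 0 0 1 11 0 0 1) (@D3.rec (fun _ => Nat) 11 11 0 0 0 1 0 1 0 0 1 1 1 1 12 12 0 0 1 12 12 0 0 0 1 0 1 69 0 0 1 1) (@D3.rec (fun _ => Nat) 12 0 68 0 0 1 0 1 0 1 0 1 12 1 0 1 0 1 12 12 67 0 1 12 12 67 70 1 12 0 68 70) (@D3.rec (fun _ => Nat) 13 13 67 13 0 67 69 0 0 1 69 67 71 0 0 0 1 0 0 1 0 1 0 1 0 1 0 1 12 0 1 0) (@D3.rec (fun _ => Nat) 0 1 0 1 0 1 12 0 1 12 0 1 0 1 72 68 22 22 22 69 69 11 0 11 11 70 0 1 11 68 0 1) (@D3.rec (fun _ => Nat)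 12 12 0 0 1 12 63 71 72 0 1 0 1 72 0 76 76 0 1 0 1 13 12 12 71 0 1 12 71 0 1 0) (@D3.rec (fun _ => Nat) 71 0 1 13 13 73 72 72 0 1 0 0 1 69 0 77 77 0 1 0 1 13 0 0 1 75 73 0 1 13 0 1) (@D3.rec (fun _ => Nat) 13 13 13 21 21 21 21 21 13 0 21 21 21 21 0 0 1 21 21 21 14 14 0 70 70 0 1 70 0 1 0 1) (@D3.rec (fun _ => Nat) 0 0 1 0 1 0 1 13 0 1 0 1 13 0 1 13 0 1 13 0 1 13 1 13 13 0 0 1 22 0 1 24) (@D3.rec (fun _ => Nat) 1 24 24 24 24 24 66 67 67 68 14 14 14 21 21 21 21 14 14 15 15 15 36 0 36 0 0 1 0 1 30 0) (@D3.rec (fun _ => Nat) 0 1 0 1 0 1 1 30 0 0 1 30 0 0 1 0 1 1 0 0 1 0 1 0 1 22 28 0 1 0 1 0) (@D3.rec (fun _ => Nat) 0 1 0 1 0 1 22 0 1 22 0 1 22 26 30 0 30 30 0 1 30 30 0 0 1 30 0 0 1 30 0 0) (@D3.rec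 (fun _ => Nat) 1 1 35 0 39 67 0 0 1 67 0 0 1 29 65 0 0 0 1 0 1 67 0 0 1 1 0 0 1 0 1 29) (@D3.rec (fun _ => Nat) 71 0 0 1 29 67 0 0 0 1 0 1 66 0 0 1 1 68 0 70 0 0 1 0 1 0 1 0 1 20 0 0)
def lv_i_4 : D2 → D3 → Nat := @D2.rec (fun _ => D3 → Nat) (@D3.rec (fun _ => Nat) 1 0 1 1 0 1 0 1 29 68 67 68 0 1 0 1 66 0 66 66 67 69 0 1 68 72 70 0 0 1 69 71) (@D3.rec (fun _ => Nat) 67 69 1 69 66 69 72 23 23 0 23 23 0 1 23 0 0 1 23 0 0 1 23 0 0 1 1 11 0 11 11 0) (@D3.rec (fun _ => Nat) 0 1 11 0 0 1 11 11 0 0 0 1 0 1 0 0 1 1 0 1 0 1 12 12 0 0 1 12 12 0 0 0) (@D3.rec (fun _ => Nat) 1 0 1 73 0 0 1 1 72 0 75 0 0 1 0 1 0 1 0 1 13 0 0 1 0 1 1 1 0 1 20 12) (@D3.rec (fun _ => Nat) 12 0 0 1 12 12 0 0 0 1 0 1 0 0 1 1 12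 0 0 0 1 0 1 0 1 0 1 13 1 0 1 13) (@D3.rec (fun _ => Nat) 13 0 0 0 1 0 0 1 13 0 73 0 0 1 0 1 0 1 0 1 13 1 0 1 70 0 0 1 0 1 0 0) (@D3.rec (fun _ => Nat) 1 0 1 0 1 13 0 1 13 0 1 0 1 13 13 69 70 0 1 13 0 69 70 0 0 1 70 14 14 0 67 0) (@D3.rec (fun _ => Nat) 0 1 69 70 1 0 1 69 66 0 1 0 1 0 0 1 0 1 0 1 13 0 0 1 0 1 0 1 13 0 1 13) (@D3.rec (fun _ => Nat) 0 1 0 0 1 0 1 20 0 1 13 0 1 13 1 13 13 0 1 1 70 23 23 71 71 69 12 12 72 0 1 12) (@D3.rec (fun _ => Nat) 70 0 1 73 1 14 13 70 71 70 0 1 0 0 1 65 0 78 76 0 1 0 1 14 74 78 1 72 74 0 1 14) (@D3.rec (fun _ => Nat) 0 1 14 13 73 0 0 1 0 64 0 1 14 1 73 0 1 14 14 71 0 77 79 0 0 1 0 1 0 1 14 0) (@D3.rec (fun _ => Nat) 0 1 75 77 0 1 14 0 1 14 1 0 1 73 71 0 1 14 1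 14 14 14 14 0 22 22 22 22 22 22 0 0) (@D3.rec (fun _ => Nat) 1 22 22 22 1 0 1 22 15 0 72 0 1 70 0 1 0 1 0 0 1 0 1 0 1 14 0 0 1 14 0 1) (@D3.rec (fun _ => Nat) 14 0 1 14 0 1 14 1 14 14 0 1 14 1 14 14 14 14 14 0 0 1 0 1 25 23 1 25 25 25 25 25) (@D3.rec (fun _ => Nat) 68 67 15 15 22 22 15 16 16 34 0 0 1 38 0 0 1 0 1 0 1 0 0 1 0 1 0 1 23 0 1 21) (@D3.rec (fun _ => Nat) 30 0 0 1 0 0 1 0 0 1 0 1 0 1 23 0 1 0 1 0 1 23 0 1 23 30 0 1 0 0 1 0) (@D3.rec (fun _ => Nat) 1 0 1 23 0 1 23 0 1 23 0 1 23 1 23 23 31 0 31 31 0 0 1 31 0 0 1 0 0 0 1 0) (@D3.rec (fun _ => Nat) 1 0 0 1 1 0 0 1 0 1 35 71 0 0 1 37 67 0 0 0 1 0 1 75 0 0 1 1 68 0 68 0) (@D3.rec (fun _ => Nat) 0 1 0 1 0 1 0 1 21 0 0 1 0 1 0 1 0 1 0 1 21 31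 73 0 0 0 1 0 0 1 70 0) (@D3.rec (fun _ => Nat) 75 0 0 1 0 1 0 1 0 1 21 0 0 1 0 1 70 0 0 1 0 0 1 0 0 1 0 1 0 1 21 0) (@D3.rec (fun _ => Nat) 1 21 1 0 1 0 1 0 1 0 1 29 68 0 66 68 69 71 0 0 1 1 68 0 0 1 69 74 67 71 1 76) (@D3.rec (fun _ => Nat) 74 68 0 0 1 0 0 1 72 69 69 71 74 74 76 24 0 24 0 0 1 24 0 0 1 0 1 0 1 24 0 0)
def lv_i_5 : D2 → D3 → Nat := @D2.rec (fun _ => D3 → Nat) (@D3.rec (fun _ => Nat) 1 1 0 0 1 0 1 12 12 0 0 1 12 12 0 0 0 1 0 1 0 0 1 1 0 0 0 1 1 0 1 0) (@D3.rec (fun _ => Nat) 1 14 0 1 0 1 1 0 1 21 13 13 0 0 0 1 0 0 1 70 0 75 0 0 1 0 1 0 1 0 1 14) (@D3.rec (fun _ => Nat) 0 0 1 0 1 72 0 0 1 0 0 1 0 0 1 0 1 0 1 14 0 1 14 1 0 1 0 1 21 21 0 1) (@D3.rec (fun _ => Nat) 21 13 13 0 0 0 1 0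 0 1 13 0 0 0 1 0 1 0 1 0 1 14 1 0 1 0 1 0 1 0 0 1) (@D3.rec (fun _ => Nat) 1 0 1 73 0 1 14 1 14 14 0 75 0 0 1 0 1 0 0 1 0 1 0 1 14 70 0 0 1 0 1 0) (@D3.rec (fun _ => Nat) 0 1 0 1 0 1 14 0 1 14 0 1 73 0 0 1 0 0 1 0 1 0 0 1 0 1 3 0 1 77 0 1) (@D3.rec (fun _ => Nat) 14 1 14 14 0 1 1 14 14 0 70 72 72 1 0 0 1 70 1 0 1 15 0 0 0 1 69 1 0 1 72 72) (@D3.rec (fun _ => Nat) 0 1 71 0 0 1 0 0 1 0 1 0 1 14 0 0 1 14 0 1 14 0 0 1 0 1 21 0 1 14 0 1) (@D3.rec (fun _ => Nat) 14 1 14 14 0 1 0 0 1 0 1 21 0 1 21 0 1 14 1 14 14 14 14 14 1 71 71 13 72 0 0 1) (@D3.rec (fun _ => Nat) 71 1 15 15 14 72 0 80 78 0 0 1 0 1 0 1 15 72 78 1 76 76 0 1 15 0 1 15 74 72 74 0) (@D3.rec (fun _ => Nat) 1 15 1 15 15 14 0 77 71 0 1 0 1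 15 1 76 0 1 15 1 15 15 71 0 0 0 1 79 77 76 74 0) (@D3.rec (fun _ => Nat) 1 0 1 15 0 0 1 15 0 1 15 1 0 1 75 72 0 1 15 1 15 15 0 1 70 71 1 15 15 15 15 15) (@D3.rec (fun _ => Nat) 15 0 0 0 1 23 23 23 23 23 23 23 23 1 0 1 23 0 1 71 0 0 1 72 0 1 0 1 1 0 1 0) (@D3.rec (fun _ => Nat) 1 15 0 0 1 15 0 1 15 0 0 1 0 1 15 15 1 15 15 0 1 15 1 15 15 15 15 15 1 15 15 15) (@D3.rec (fun _ => Nat) 15 15 0 0 0 1 1 2 1 26 26 24 26 26 26 26 16 16 17 36 0 0 1 0 0 1 0 0 1 0 1 0) (@D3.rec (fun _ => Nat) 1 24 0 1 0 1 0 0 1 0 1 24 0 1 24 1 22 32 0 0 1 0 0 1 0 1 0 1 24 0 1 0) (@D3.rec (fun _ => Nat) 1 0 1 24 0 1 24 0 1 0 1 3 0 1 24 1 24 24 0 1 0 1 0 1 24 0 0 1 24 0 1 24) (@D3.rec (fun _ => Nat) 0 1 24 1 24 24 1 24 24 24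 24 24 32 0 0 1 0 0 0 1 0 1 0 0 1 1 1 0 1 0 1 0) (@D3.rec (fun _ => Nat) 1 22 0 1 0 1 0 1 0 1 0 1 22 35 69 0 0 0 1 0 0 1 70 0 71 0 0 1 0 1 0 1) (@D3.rec (fun _ => Nat) 0 1 22 0 0 1 0 1 70 0 0 1 0 0 1 0 0 1 0 1 0 1 22 0 1 22 0 1 0 1 0 1) (@D3.rec (fun _ => Nat) 22 0 1 0 1 22 0 1 22 31 71 0 71 0 0 1 0 1 0 0 1 0 1 0 1 22 73 0 0 1 0 0) (@D3.rec (fun _ => Nat) 1 0 0 1 0 1 0 1 22 0 1 22 1 0 1 0 1 72 0 0 1 0 0 1 0 1 0 0 1 0 0 1)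
def lv_i_6 : D2 → D3 → Nat := @D2.rec (fun _ => D3 → Nat) (@D3.rec (fun _ => Nat) 0 1 3 0 1 22 0 1 22 1 22 22 0 1 0 1 0 1 1 68 0 68 0 0 1 70 69 67 71 71 0 1) (@D3.rec (fun _ => Nat) 1 68 0 0 1 0 0 1 70 70 72 74 72 70 0 1 0 0 1 0 0 1 1 72 72 25 0 0 1 0 1 0) (@D3.rec (fun _ => Nat) 1 0 0 1 1 1 1 0 0 1 0 1 0 1 1 0 1 22 13 13 0 0 0 1 0 0 1 0 0 0 1 1) (@D3.rec (fun _ => Nat) 0 1 0 1 15 0 1 0 1 0 1 0 1 0 0 1 1 1 15 0 1 0 1 22 22 0 1 22 14 72 0 71) (@D3.rec (fun _ => Nat) 0 0 1 0 1 0 0 1 0 1 0 1 15 74 0 0 1 0 0 1 0 0 1 0 1 0 1 15 0 1 15 1) (@D3.rec (fun _ => Nat) 0 1 0 1 22 0 0 1 0 0 1 0 1 0 0 1 0 0 1 0 1 3 0 1 0 1 15 1 15 15 1 22) (@D3.rec (fun _ => Nat) 0 1 22 1 22 14 14 0 0 0 1 0 1 0 0 1 0 1 0 1 15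 0 1 0 1 0 0 1 1 0 1 66) (@D3.rec (fun _ => Nat) 0 1 15 0 1 0 1 1 0 1 0 1 3 1 1 15 15 15 0 73 0 0 1 0 1 0 0 1 0 0 1 0) (@D3.rec (fun _ => Nat) 1 0 1 15 0 0 1 15 0 1 15 74 0 0 1 0 0 1 0 1 0 0 1 0 1 3 0 1 79 0 1 15) (@D3.rec (fun _ => Nat) 1 15 15 0 1 74 1 71 1 0 0 1 0 1 3 0 1 6 0 0 1 0 1 4 0 1 4 0 1 73 1 15) (@D3.rec (fun _ => Nat) 15 15 15 15 1 15 0 0 0 1 71 71 72 1 0 1 1 0 0 1 1 0 1 72 0 1 70 0 1 0 0 1) (@D3.rec (fun _ => Nat) 0 1 22 0 1 0 1 15 0 0 1 15 0 1 15 0 0 1 0 1 15 15 1 15 15 0 0 1 0 1 22 0) (@D3.rec (fun _ => Nat) 1 22 0 1 15 1 15 15 15 15 15 1 0 1 0 1 22 0 1 22 1 22 22 1 15 15 15 15 15 72 71 14) (@D3.rec (fun _ => Nat) 70 0 1 74 1 16 16 16 76 0 74 80 1 78 78 78 78 0 1 0 1 16 0 0 1 16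 0 1 16 71 73 74) (@D3.rec (fun _ => Nat) 0 1 16 1 16 16 72 70 69 1 16 16 16 16 0 1 75 73 0 0 1 16 0 1 16 1 16 16 16 16 16 0) (@D3.rec (fun _ => Nat) 0 1 1 0 0 1 77 72 76 74 0 0 1 16 0 1 16 0 0 1 0 1 16 16 1 16 16 0 1 70 72 1) (@D3.rec (fun _ => Nat) 16 16 16 16 16 0 1 16 16 16 0 0 1 1 0 0 1 24 0 1 1 76 0 0 1 0 1 0 1 1 0 0) (@D3.rec (fun _ => Nat) 1 16 0 1 16 0 0 1 0 1 16 16 1 16 16 0 0 0 1 1 2 1 16 16 16 16 16 16 1 16 16 16) (@D3.rec (fun _ => Nat) 16 16 16 16 16 16 1 1 1 2 2 27 17 32 0 0 1 0 0 1 0 1 0 1 25 0 1 0 0 1 0 1) (@D3.rec (fun _ => Nat) 25 0 1 25 0 1 23 0 0 1 0 1 0 1 3 0 1 25 1 25 25 23 0 0 1 0 0 1 0 1 0 1) (@D3.rec (fun _ => Nat) 25 0 0 1 25 0 1 25 0 1 0 1 3 0 1 25 1 25 25 0 1 3 0 1 4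 1 25 25 25 25 25 0) (@D3.rec (fun _ => Nat) 1 0 0 1 25 0 1 25 0 0 1 0 1 25 25 1 25 25 1 25 25 25 25 25 25 25 25 25 25 25 25 0)
def lv_i_7 : D2 → D3 → Nat := @D2.rec (fun _ => D3 → Nat) (@D3.rec (fun _ => Nat) 0 1 0 0 1 1 0 1 0 1 0 1 23 0 1 0 1 1 0 1 23 0 1 23 1 0 1 23 0 0 1 0) (@D3.rec (fun _ => Nat) 1 23 0 1 23 33 71 0 73 0 0 1 0 1 0 0 1 0 1 0 1 23 73 0 0 1 0 0 1 0 0 1) (@D3.rec (fun _ => Nat) 0 1 0 1 23 0 1 23 0 1 0 1 0 1 23 0 0 1 0 0 1 0 1 0 0 1 0 0 1 0 1 3) (@D3.rec (fun _ => Nat) 1 23 0 1 23 1 23 23 0 0 1 0 1 23 0 1 23 1 23 0 1 23 1 23 73 0 73 0 0 1 0 0) (@D3.rec (fun _ => Nat) 1 0 0 1 0 0 1 0 1 0 1 23 0 0 1 23 0 1 23 75 0 0 1 0 0 1 0 1 0 0 1 0) (@D3.rec (fun _ => Nat) 0 1 0 1 3 0 1 23 0 1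 23 1 23 23 0 1 0 1 0 0 1 0 0 1 0 0 1 0 1 3 0 1) (@D3.rec (fun _ => Nat) 0 0 1 0 1 6 0 0 1 0 1 4 0 1 4 0 1 23 1 23 23 23 23 23 0 1 1 1 70 0 0 1) (@D3.rec (fun _ => Nat) 68 0 0 1 0 0 1 71 71 74 71 73 77 1 0 1 0 0 1 0 0 1 1 76 72 74 74 1 1 1 0 1) (@D3.rec (fun _ => Nat) 1 0 1 0 0 1 1 1 0 1 0 1 0 1 0 1 0 1 23 1 23 0 1 23 14 0 0 0 1 1 0 0) (@D3.rec (fun _ => Nat) 1 0 1 0 1 16 0 1 0 1 0 0 1 1 1 16 0 1 0 1 23 1 0 1 0 1 1 3 74 16 1 23) (@D3.rec (fun _ => Nat) 0 1 23 1 23 76 0 75 0 0 1 0 0 1 0 0 1 0 0 1 0 1 0 1 16 0 0 1 16 0 1 16) (@D3.rec (fun _ => Nat) 0 0 1 0 0 1 0 1 0 0 1 0 0 1 0 1 3 0 1 0 1 16 1 16 16 0 1 23 0 1 23 0) (@D3.rec (fun _ => Nat) 1 0 1 0 0 1 0 1 3 0 1 0 1 0 1 6 0 0 1 0 1 4 0 1 4 0 1 1 16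 72 16 16) (@D3.rec (fun _ => Nat) 16 23 1 23 23 23 15 0 0 1 0 1 0 0 1 0 1 0 1 0 1 73 0 0 1 16 0 1 16 0 1 1) (@D3.rec (fun _ => Nat) 0 0 1 0 1 3 1 1 16 16 1 1 3 69 0 1 4 1 74 16 16 16 74 0 0 1 77 0 0 1 0 0) (@D3.rec (fun _ => Nat) 1 0 0 1 0 0 1 0 1 3 0 1 0 1 81 0 0 1 16 0 1 16 0 0 1 0 1 16 16 1 16 16) (@D3.rec (fun _ => Nat) 72 1 73 1 0 0 1 0 1 3 0 1 6 0 0 1 0 1 4 0 1 4 0 1 72 1 16 16 16 16 16 1) (@D3.rec (fun _ => Nat) 71 6 0 0 1 0 1 4 0 1 4 0 1 73 0 1 0 1 5 0 1 5 1 5 73 1 73 16 16 16 0 0) (@D3.rec (fun _ => Nat) 1 1 0 0 1 72 1 0 1 0 0 1 0 1 74 0 1 1 0 0 1 0 0 1 23 0 1 23 0 0 1 16) (@D3.rec (fun _ => Nat) 0 1 16 0 0 1 0 1 16 16 1 16 16 0 0 0 1 1 2 1 16 16 16 16 16 16 0 1 0 1 23 0) (@D3.rec (fun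 _ => Nat) 1 23 1 23 23 1 16 16 16 16 16 16 0 1 23 0 1 23 1 23 23 23 23 23 16 16 16 75 79 75 1 17) (@D3.rec (fun _ => Nat) 17 17 78 0 1 81 73 75 73 76 76 0 0 1 17 0 1 17 0 76 1 0 1 17 17 1 17 17 71 71 71 1)
def lv_i_8 : D2 → D3 → Nat := @D2.rec (fun _ => D3 → Nat) (@D3.rec (fun _ => Nat) 17 17 17 17 72 17 0 1 75 75 0 75 1 0 1 17 17 1 17 17 17 17 17 0 1 0 0 1 0 1 0 1) (@D3.rec (fun _ => Nat) 79 77 72 81 76 72 0 0 1 0 1 17 17 1 17 17 0 0 0 1 1 78 1 17 17 17 17 17 17 0 1 17) (@D3.rec (fun _ => Nat) 17 17 17 1 0 1 0 0 1 1 1 1 1 0 1 0 1 25 1 0 0 1 0 1 17 17 1 17 17 0 0 0) (@D3.rec (fun _ => Nat) 1 1 2 1 17 17 17 17 17 17 1 1 1 2 2 17 17 17 17 17 17 77 2 0 0 1 0 0 1 0 1 0) (@D3.rec (fun _ => Nat) 1 26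 0 0 1 26 0 1 26 0 0 1 0 0 1 0 1 3 0 1 26 1 26 26 1 24 1 1 3 1 4 1) (@D3.rec (fun _ => Nat) 4 1 26 26 26 26 26 24 0 1 0 0 1 0 1 0 1 3 0 0 1 26 0 1 26 0 0 1 0 1 26 26) (@D3.rec (fun _ => Nat) 1 26 26 0 1 3 0 1 4 1 26 26 26 26 26 1 4 1 5 5 26 26 26 26 26 26 26 0 1 0 0 1) (@D3.rec (fun _ => Nat) 0 1 26 26 1 26 26 0 0 0 1 1 2 1 26 26 26 26 26 26 26 26 26 26 26 26 26 26 26 26 26 26) (@D3.rec (fun _ => Nat) 26 26 26 26 1 0 1 73 1 0 1 24 1 0 1 24 0 1 24 1 0 1 24 24 1 24 1 24 24 24 0 1) (@D3.rec (fun _ => Nat) 24 1 1 24 0 1 24 1 24 24 0 71 0 0 1 0 0 1 0 0 1 0 1 0 1 0 1 24 73 0 1 24) (@D3.rec (fun _ => Nat) 0 1 24 0 0 1 0 0 1 0 1 0 0 1 0 0 1 0 1 3 1 24 0 1 24 1 24 24 0 0 1 0) (@D3.rec (fun _ => Nat) 1 24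 0 1 24 0 1 0 0 1 0 0 1 0 1 3 0 0 1 0 1 1 6 0 0 1 0 1 4 0 1 4) (@D3.rec (fun _ => Nat) 24 1 24 24 24 24 24 1 1 24 0 1 24 1 24 24 24 1 24 24 73 0 0 1 73 0 0 1 0 0 1 0) (@D3.rec (fun _ => Nat) 1 0 0 1 0 0 1 0 1 3 0 1 0 1 24 0 0 1 24 0 1 24 0 75 1 0 1 24 24 1 24 24) (@D3.rec (fun _ => Nat) 0 0 1 0 0 1 0 0 1 0 1 3 0 1 0 0 1 0 1 6 0 0 1 0 1 4 0 1 4 0 1 24) (@D3.rec (fun _ => Nat) 1 24 24 24 24 24 0 1 1 1 1 1 1 6 0 1 0 1 4 0 1 4 1 7 0 1 1 7 0 1 7 0) (@D3.rec (fun _ => Nat) 1 0 1 5 0 1 5 1 5 5 1 24 24 24 24 24 1 70 0 0 1 0 0 1 0 1 0 0 1 0 0 1) (@D3.rec (fun _ => Nat) 1 75 72 74 74 76 1 0 1 1 0 0 1 1 1 1 80 1 1 0 1 0 1 24 1 1 24 0 1 24 24 1) (@D3.rec (fun _ => Nat) 24 24 0 0 1 0 1 0 0 1 0 1 1 75 0 1 17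 1 17 1 0 1 0 1 1 3 75 17 0 1 24 0) (@D3.rec (fun _ => Nat) 1 24 3 1 73 0 1 68 71 24 1 24 24 24 74 0 0 1 0 0 1 0 0 1 0 1 0 0 1 0 0 1) (@D3.rec (fun _ => Nat) 0 1 3 0 1 0 1 0 0 1 17 0 1 17 0 74 1 0 1 17 17 1 17 17 0 1 0 1 0 0 1 0) (@D3.rec (fun _ => Nat) 1 3 0 1 0 0 1 0 1 6 0 0 1 0 1 4 0 1 4 0 1 1 17 72 17 17 17 1 24 1 24 24)
def lv_i_9 : D2 → D3 → Nat := @D2.rec (fun _ => D3 → Nat) (@D3.rec (fun _ => Nat) 1 1 6 0 1 1 4 1 4 1 7 1 7 1 74 0 1 1 5 1 5 5 1 5 72 1 17 70 24 24 24 24) (@D3.rec (fun _ => Nat) 0 1 0 1 0 1 0 0 1 0 1 3 1 0 0 1 77 1 0 71 1 0 1 17 17 1 17 17 0 1 3 76) (@D3.rec (fun _ => Nat) 0 1 0 1 4 1 76 17 17 17 4 1 72 72 76 0 0 1 0 0 1 75 1 0 76 1 0 0 1 0 1 3) (@D3.rec (fun _ => Nat) 0 1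 0 1 6 0 0 1 0 0 1 4 0 1 4 0 0 1 76 0 1 72 0 0 1 0 1 17 17 1 17 17) (@D3.rec (fun _ => Nat) 0 0 0 1 1 74 1 17 17 17 17 17 17 71 6 0 0 1 0 1 4 0 1 4 0 1 73 0 1 0 1 5) (@D3.rec (fun _ => Nat) 0 1 5 1 5 75 1 72 17 17 17 17 0 1 1 5 1 5 1 5 1 71 0 1 6 1 6 1 6 6 6 73) (@D3.rec (fun _ => Nat) 76 71 0 1 0 0 1 1 1 0 1 0 0 1 0 1 16 0 1 1 0 1 0 0 1 24 0 0 1 0 1 24) (@D3.rec (fun _ => Nat) 24 1 24 24 0 0 1 0 1 17 17 1 17 17 0 0 0 1 1 2 1 17 17 17 17 17 17 1 1 1 2 2) (@D3.rec (fun _ => Nat) 79 17 17 0 1 24 0 1 24 1 24 24 24 24 24 17 17 17 17 0 1 24 1 24 24 24 24 24 79 76 77 0) (@D3.rec (fun _ => Nat) 1 75 73 80 75 73 80 76 71 0 0 1 0 1 18 18 1 18 0 0 76 1 1 18 18 18 71 18 0 1 73 0) (@D3.rec (fun _ => Nat) 76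 76 77 1 1 18 18 18 0 1 0 1 0 1 26 0 0 1 0 1 77 0 75 80 0 74 0 0 0 1 1 2) (@D3.rec (fun _ => Nat) 1 18 18 18 18 18 18 1 1 1 78 18 18 18 1 18 0 1 1 1 26 1 26 0 1 26 0 0 0 1 1 2) (@D3.rec (fun _ => Nat) 1 18 18 18 18 18 18 1 1 1 2 2 3 18 18 18 18 18 76 2 18 18 0 1 0 0 1 0 0 1 0 1) (@D3.rec (fun _ => Nat) 3 0 0 1 27 0 1 27 0 76 1 0 1 27 27 1 27 27 0 1 1 3 0 1 1 4 1 4 1 27 27 27) (@D3.rec (fun _ => Nat) 27 27 25 25 4 4 70 5 72 5 27 27 27 25 0 0 1 0 1 0 1 3 0 0 1 4 0 1 4 0 0 1) (@D3.rec (fun _ => Nat) 0 1 27 27 1 27 27 0 0 0 1 1 72 1 27 27 27 27 27 27 1 4 1 5 5 27 27 27 27 27 27 27) (@D3.rec (fun _ => Nat) 5 5 70 6 74 27 27 27 27 27 0 1 16 0 0 0 1 1 2 1 27 27 27 27 27 27 1 1 1 2 2 74) (@D3.rec (fun _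 => Nat) 27 27 27 27 27 27 27 27 27 27 27 27 27 27 27 27 27 27 27 27 0 1 25 75 0 1 25 1 25 1 25 25) (@D3.rec (fun _ => Nat) 0 1 25 1 25 1 25 25 0 1 0 0 1 0 0 1 0 1 0 0 1 0 0 1 0 1 3 1 25 0 0 1) (@D3.rec (fun _ => Nat) 25 0 1 25 73 0 1 1 25 0 1 0 0 1 0 0 1 0 1 3 0 0 1 0 1 1 6 0 0 1 0 1) (@D3.rec (fun _ => Nat) 4 0 1 4 25 1 25 25 25 25 0 1 1 25 0 1 25 1 25 25 1 1 1 6 0 1 1 4 1 4 1 1) (@D3.rec (fun _ => Nat) 7 0 1 7 7 0 1 1 5 1 5 5 1 5 5 25 25 25 25 1 25 25 25 25 25 75 0 0 1 0 0 1)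
def lv_i_10 : D2 → D3 → Nat := @D2.rec (fun _ => D3 → Nat) (@D3.rec (fun _ => Nat) 0 0 1 0 0 1 0 0 1 0 1 3 0 0 1 0 0 1 0 1 6 0 0 1 0 0 1 4 0 1 4 0) (@D3.rec (fun _ => Nat) 0 1 25 0 1 25 0 0 1 0 1 25 25 1 25 25 0 0 77 1 1 25 25 25 1 1 0 1 1 6 0 0) (@D3.rec (fun _ => Nat) 1 0 1 4 0 1 4 1 7 0 0 1 1 7 0 1 7 0 1 0 1 5 0 1 5 1 5 5 1 25 25 25) (@D3.rec (fun _ => Nat) 25 25 1 7 7 7 1 5 1 5 1 5 5 69 1 71 73 1 69 8 0 1 6 1 71 1 6 6 6 6 6 25) (@D3.rec (fun _ => Nat) 25 25 25 0 1 0 0 1 0 0 1 0 1 33 1 0 78 1 1 0 0 1 86 1 76 1 1 1 1 25 0 1) (@D3.rec (fun _ => Nat) 25 1 25 0 1 0 1 0 1 0 0 1 1 3 0 1 80 1 78 3 0 1 73 0 1 70 72 1 25 1 25 25) (@D3.rec (fun _ => Nat) 73 1 68 70 25 25 25 25 0 0 1 0 0 1 0 1 0 1 0 0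 1 0 1 3 0 0 1 0 0 1 0 1) (@D3.rec (fun _ => Nat) 6 0 0 1 0 0 1 4 0 1 4 0 0 1 0 1 0 0 1 0 1 18 18 1 18 78 0 0 74 1 1 18) (@D3.rec (fun _ => Nat) 18 18 1 0 1 6 0 0 1 1 4 1 4 1 7 0 1 1 7 1 74 0 1 0 1 5 1 5 5 1 5 74) (@D3.rec (fun _ => Nat) 1 18 72 25 25 25 25 25 7 7 1 5 5 5 5 29 75 8 72 1 6 26 6 27 75 79 29 72 25 25 0 0) (@D3.rec (fun _ => Nat) 1 0 1 3 1 74 0 1 0 0 1 4 1 76 0 0 1 1 77 0 0 75 1 1 18 18 18 1 4 0 1 5) (@D3.rec (fun _ => Nat) 1 72 72 70 74 0 1 0 0 1 0 0 1 0 1 17 79 1 74 6 0 0 1 0 0 1 4 0 1 4 0 0) (@D3.rec (fun _ => Nat) 1 7 0 1 78 0 1 0 0 1 5 0 0 1 0 1 5 5 1 5 77 0 0 1 0 1 74 82 1 72 0 0) (@D3.rec (fun _ => Nat) 0 1 1 2 1 18 18 18 18 18 18 1 1 1 79 18 18 18 0 1 0 1 5 1 5 1 5 1 73 0 1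 6) (@D3.rec (fun _ => Nat) 0 1 6 1 6 6 6 73 75 70 18 1 6 6 6 6 6 25 1 7 31 7 31 7 69 0 1 1 1 32 1 72) (@D3.rec (fun _ => Nat) 0 0 1 0 1 71 0 1 17 1 0 0 1 25 0 0 1 0 1 25 25 0 0 0 1 1 2 1 25 25 25 25) (@D3.rec (fun _ => Nat) 25 25 0 0 0 1 1 2 1 18 18 18 18 18 18 1 1 1 2 2 3 18 18 18 18 18 32 85 2 77 18 0) (@D3.rec (fun _ => Nat) 1 25 1 25 25 25 25 25 25 18 1 25 25 25 25 25 75 78 83 0 1 27 73 75 71 79 0 75 73 0 76 77) (@D3.rec (fun _ => Nat) 74 0 1 1 2 1 19 19 19 19 1 1 19 1 27 0 1 19 1 27 0 0 1 27 0 1 27 0 0 1 0 1) (@D3.rec (fun _ => Nat) 1 74 74 0 1 80 72 0 1 1 1 1 2 2 3 19 19 19 19 19 19 19 0 1 27 27 27 27 1 27 27 1) (@D3.rec (fun _ => Nat) 1 1 2 2 3 19 19 19 19 19 19 31 2 3 19 19 0 0 1 0 0 1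 1 3 0 1 0 0 1 4 1 4) (@D3.rec (fun _ => Nat) 0 0 1 0 1 28 28 1 28 28 0 0 76 1 1 28 28 28 1 4 4 1 5 72 5 70 5 28 28 28 26 26)
def lv_i_11 : D2 → D3 → Nat := @D2.rec (fun _ => D3 → Nat) (@D3.rec (fun _ => Nat) 5 5 70 6 74 6 28 0 1 0 1 17 0 0 1 4 1 4 0 0 1 0 1 5 5 1 5 5 0 0 0 1) (@D3.rec (fun _ => Nat) 1 2 1 28 28 28 28 28 28 1 1 1 74 28 28 28 28 28 5 5 70 6 76 28 28 28 28 28 6 72 74 78) (@D3.rec (fun _ => Nat) 75 28 0 1 17 1 1 1 2 2 3 28 28 28 28 28 28 28 28 31 35 2 74 28 28 28 28 28 1 26 75 1) (@D3.rec (fun _ => Nat) 1 26 26 0 0 1 0 1 0 0 1 0 0 1 0 1 3 0 0 1 0 0 1 1 6 0 0 1 0 0 1 4) (@D3.rec (fun _ => Nat) 0 1 4 26 0 0 1 0 1 26 1 26 26 73 81 1 26 1 0 1 1 6 0 0 1 1 4 1 4 0 1 1) (@D3.rec (fun _ =>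 Nat) 7 0 1 7 7 0 1 0 1 5 1 5 5 1 5 5 26 26 26 26 1 1 26 26 26 26 26 7 7 7 1 5) (@D3.rec (fun _ => Nat) 5 5 5 5 30 67 1 69 8 8 1 6 26 6 28 6 29 6 6 26 26 26 0 1 0 1 0 0 1 0 1 35) (@D3.rec (fun _ => Nat) 1 0 1 0 0 1 1 6 0 0 1 0 0 1 4 0 1 4 0 1 1 7 0 0 1 0 0 1 7 0 1 7) (@D3.rec (fun _ => Nat) 0 1 0 0 1 5 0 0 1 0 1 5 5 1 5 5 0 1 0 1 26 1 26 26 0 0 0 1 1 2 1 26) (@D3.rec (fun _ => Nat) 26 26 26 26 26 1 1 26 7 1 7 7 1 0 1 5 1 5 1 5 5 69 1 1 8 69 1 71 8 0 1 6) (@D3.rec (fun _ => Nat) 0 1 6 1 6 6 6 6 6 26 26 26 26 8 6 6 6 6 6 6 69 75 73 24 71 9 1 75 31 71 30 79) (@D3.rec (fun _ => Nat) 78 7 7 26 26 26 1 0 79 1 0 1 29 0 0 1 1 29 0 1 33 1 1 78 1 1 26 0 1 1 3 0) (@D3.rec (fun _ => Nat) 1 74 0 1 0 1 4 75 1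 80 1 73 1 72 70 26 26 26 26 26 73 68 68 26 0 1 0 0 1 0 0 1) (@D3.rec (fun _ => Nat) 0 1 18 0 1 0 1 6 0 0 1 0 0 1 4 1 4 0 1 1 7 0 1 0 0 1 7 1 76 0 1 0) (@D3.rec (fun _ => Nat) 0 1 5 0 0 1 0 1 5 5 1 5 77 0 0 1 0 1 1 0 0 0 1 1 2 1 19 19 19 19 75 77) (@D3.rec (fun _ => Nat) 1 1 19 7 1 7 1 1 5 5 5 5 31 1 8 77 8 74 1 6 1 6 6 31 75 79 31 72 26 26 26 26) (@D3.rec (fun _ => Nat) 26 8 6 6 77 75 77 25 7 76 73 0 0 1 1 34 1 4 74 0 0 1 5 0 0 1 1 73 5 74 0 0) (@D3.rec (fun _ => Nat) 1 1 2 76 0 73 1 76 1 19 5 1 73 74 76 70 1 0 1 1 71 0 0 1 0 0 1 18 0 1 18 78) (@D3.rec (fun _ => Nat) 74 7 0 1 0 0 1 5 0 0 1 0 1 5 5 1 5 0 0 1 0 1 76 8 1 76 0 0 1 6 0 0) (@D3.rec (fun _ => Nat) 1 0 1 6 6 0 0 0 1 1 2 1 6 6 6 6 75 75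 0 0 0 1 1 2 1 74 74 78 72 1 1 1) (@D3.rec (fun _ => Nat) 2 2 3 19 19 19 19 19 19 81 77 19 1 6 1 6 6 6 6 27 1 7 1 7 7 29 7 76 76 7 7 7) (@D3.rec (fun _ => Nat) 30 8 31 8 0 1 30 30 34 72 0 1 0 1 70 0 1 73 1 18 18 0 0 1 0 1 26 0 0 0 1 1)
def lv_i_12 : D2 → D3 → Nat := @D2.rec (fun _ => D3 → Nat) (@D3.rec (fun _ => Nat) 2 1 26 26 26 1 1 1 2 2 3 26 26 26 26 26 26 1 1 1 2 2 3 19 19 19 19 19 19 30 31 2) (@D3.rec (fun _ => Nat) 77 3 79 77 19 19 79 1 26 26 26 26 26 26 26 26 26 80 1 30 73 0 73 81 71 0 1 78 75 0 1 1) (@D3.rec (fun _ => Nat) 2 3 20 20 20 28 1 28 0 0 1 1 28 1 28 28 0 0 0 1 1 2 1 1 1 2 3 4 20 20 20 20) (@D3.rec (fun _ => Nat) 1 28 28 28 28 28 34 32 2 3 3 20 20 20 20 0 0 1 0 1 18 1 0 1 4 4 0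 1 5 0 0 1) (@D3.rec (fun _ => Nat) 1 5 5 72 5 0 0 0 1 1 2 1 29 29 29 29 29 29 1 1 29 5 5 5 72 6 72 6 70 6 29 27) (@D3.rec (fun _ => Nat) 27 27 6 6 72 72 80 0 0 1 18 0 1 18 0 0 1 1 5 5 5 5 0 0 0 1 1 2 1 6 6 6) (@D3.rec (fun _ => Nat) 74 6 6 1 1 1 2 2 3 29 29 29 29 29 29 29 29 72 82 29 29 29 29 6 76 74 76 79 29 29 77 1) (@D3.rec (fun _ => Nat) 18 18 31 35 2 3 3 4 4 29 29 29 29 29 29 29 80 76 0 0 1 0 1 35 0 1 0 0 1 1 6 0) (@D3.rec (fun _ => Nat) 0 1 0 0 1 4 1 4 0 0 1 1 7 0 1 1 7 7 0 1 0 0 1 5 0 0 1 0 1 5 5 1) (@D3.rec (fun _ => Nat) 5 5 27 79 0 0 1 1 2 1 27 27 27 7 1 7 7 1 1 5 5 5 5 5 1 30 69 1 8 8 8 1) (@D3.rec (fun _ => Nat) 6 1 6 6 32 6 30 6 6 27 27 27 27 27 27 8 8 6 6 6 6 6 69 69 71 26 7 78 27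 0 1 0) (@D3.rec (fun _ => Nat) 1 71 0 0 1 0 0 1 37 0 1 35 1 7 1 0 1 7 7 1 0 0 1 5 0 0 1 0 1 5 5 1) (@D3.rec (fun _ => Nat) 5 5 0 1 8 71 1 0 1 8 0 1 0 1 8 8 1 69 8 0 0 1 6 0 0 1 0 1 6 6 0 0) (@D3.rec (fun _ => Nat) 0 1 1 2 1 6 6 6 6 6 6 0 1 71 1 27 27 27 27 1 1 1 2 2 3 27 27 27 27 27 27 8) (@D3.rec (fun _ => Nat) 8 6 1 6 6 6 6 6 6 71 75 71 71 27 73 9 1 73 1 7 7 28 79 80 7 7 27 27 27 27 27 9) (@D3.rec (fun _ => Nat) 7 7 78 71 71 30 71 32 79 81 71 82 1 80 73 1 31 0 1 1 74 78 1 80 35 1 36 4 1 74 1 70) (@D3.rec (fun _ => Nat) 1 73 5 72 73 75 70 72 27 27 27 27 70 0 1 0 0 1 1 69 0 0 1 0 0 1 19 1 19 1 7 1) (@D3.rec (fun _ => Nat) 7 1 0 1 5 0 0 1 1 5 5 5 0 1 8 33 0 1 8 0 0 1 1 76 8 76 0 1 6 0 0 1) (@D3.rec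 (fun _ => Nat) 1 6 6 0 0 0 1 1 2 1 6 6 6 31 77 77 0 0 0 1 1 2 1 1 1 1 2 2 3 20 20 77) (@D3.rec (fun _ => Nat) 20 75 8 8 6 6 6 79 78 9 70 79 27 7 29 78 7 85 75 27 27 27 27 7 76 1 1 36 36 5 5 74) (@D3.rec (fun _ => Nat) 0 0 1 1 73 6 0 0 1 1 2 74 72 6 77 1 1 2 2 1 74 75 76 73 78 1 69 71 0 1 0 0) (@D3.rec (fun _ => Nat) 1 70 0 0 1 0 1 19 19 1 19 19 76 0 8 0 1 6 0 0 1 1 6 6 0 0 0 1 1 2 1 6)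
def lv_i_13 : D2 → D3 → Nat := @D2.rec (fun _ => D3 → Nat) (@D3.rec (fun _ => Nat) 6 6 6 0 0 0 1 1 2 1 76 76 9 27 0 0 1 1 7 7 0 0 0 1 1 2 1 7 7 7 1 1) (@D3.rec (fun _ => Nat) 1 2 2 3 7 7 79 7 7 75 77 1 1 1 2 2 3 74 74 80 32 31 2 77 3 4 4 20 20 20 20 78) (@D3.rec (fun _ => Nat) 7 7 7 7 31 8 33 8 8 8 75 8 8 29 1 30 34 73 0 1 70 0 1 72 1 78 74 19 19 19 0 0) (@D3.rec (fun _ => Nat) 0 1 1 2 1 27 27 1 1 1 2 2 3 27 27 27 27 27 32 31 2 82 3 79 4 27 27 27 27 34 32 2) (@D3.rec (fun _ => Nat) 3 3 81 81 20 20 20 20 32 31 79 27 27 27 27 27 27 31 31 80 73 0 1 1 1 3 29 29 0 0 1 1) (@D3.rec (fun _ => Nat) 2 29 29 29 29 1 1 1 2 2 4 29 29 29 29 29 3 0 1 0 0 1 19 1 19 5 0 1 5 5 5 0) (@D3.rec (fun _ => Nat) 1 70 6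 0 0 1 1 2 70 6 6 72 6 1 1 1 2 2 3 30 30 30 30 30 30 6 6 6 74 7 7 74) (@D3.rec (fun _ => Nat) 74 77 7 30 28 0 0 1 0 1 19 19 1 19 19 0 0 1 1 2 6 6 6 6 6 1 1 1 2 2 3 72) (@D3.rec (fun _ => Nat) 7 7 7 7 74 7 78 87 33 35 2 3 3 4 4 30 30 30 30 30 30 30 30 30 74 30 80 77 19 19 19 33) (@D3.rec (fun _ => Nat) 35 3 4 4 4 4 5 5 30 30 30 0 0 1 0 0 1 35 1 70 1 7 1 0 1 7 7 1 0 1 5 0) (@D3.rec (fun _ => Nat) 0 1 1 5 5 5 5 1 1 8 71 1 8 8 8 8 0 1 6 0 77 1 1 6 6 75 0 0 1 1 2 1) (@D3.rec (fun _ => Nat) 6 6 6 30 6 6 28 1 1 2 2 3 28 28 28 8 8 8 6 6 6 6 6 6 32 69 73 9 28 7 30 7) (@D3.rec (fun _ => Nat) 7 75 7 28 28 28 28 7 80 1 77 1 73 0 1 0 1 37 0 1 0 1 37 35 1 80 37 8 8 1 8 8) (@D3.rec (fun _ => Nat) 8 6 0 0 1 1 6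 6 0 0 0 1 1 2 1 6 6 6 6 6 6 1 71 9 73 73 1 71 9 0 1 76) (@D3.rec (fun _ => Nat) 1 71 9 9 26 73 9 0 0 1 1 71 7 0 0 0 1 1 2 1 7 7 7 1 1 1 2 2 3 7 7 7) (@D3.rec (fun _ => Nat) 7 7 7 7 1 71 71 28 28 28 28 28 34 39 2 3 3 4 4 28 28 28 28 28 28 9 7 7 7 7 73 78) (@D3.rec (fun _ => Nat) 73 73 10 32 75 32 82 8 31 80 80 82 8 8 28 78 31 31 1 70 76 80 80 83 36 5 72 74 70 72 72 75) (@D3.rec (fun _ => Nat) 6 74 72 74 28 28 28 1 71 1 1 69 71 0 1 0 1 20 0 1 1 20 20 20 20 8 8 8 6 1 6 6) (@D3.rec (fun _ => Nat) 0 0 1 1 2 6 6 6 1 31 9 75 1 78 9 1 1 2 74 76 9 0 1 27 7 0 0 1 1 2 31 7) (@D3.rec (fun _ => Nat) 7 7 1 1 1 2 2 3 31 7 78 7 7 75 1 1 1 2 2 31 32 2 77 3 4 4 76 82 76 9 7 7) (@D3.rec (fun _ => Nat) 75 10 78 78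 8 81 86 83 28 28 38 38 36 36 6 6 76 1 1 2 72 73 7 1 1 2 2 3 74 75 7 79) (@D3.rec (fun _ => Nat) 2 77 81 0 71 71 73 0 1 68 0 0 1 1 70 70 0 0 1 1 2 1 20 20 20 20 20 20 1 9 0 1)
def lv_i_14 : D2 → D3 → Nat := @D2.rec (fun _ => D3 → Nat) (@D3.rec (fun _ => Nat) 7 7 0 0 1 1 2 7 7 7 1 1 1 2 2 3 7 7 7 7 1 1 1 2 2 3 29 77 79 10 0 0) (@D3.rec (fun _ => Nat) 1 1 2 31 8 8 1 1 1 2 2 3 31 8 8 8 8 32 33 2 3 3 4 4 8 75 8 79 77 8 8 36) (@D3.rec (fun _ => Nat) 32 2 3 3 4 72 81 32 33 75 4 4 79 79 76 8 8 8 8 33 9 9 9 76 32 32 75 1 70 1 72 80) (@D3.rec (fun _ => Nat) 74 20 20 20 20 1 1 1 2 2 3 28 28 28 32 33 2 84 3 4 4 28 28 28 28 28 32 33 4 81 81 28) (@D3.rec (fun _ => Nat) 36 32 3 80 79 81 28 28 32 32 1 30 30 1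 1 2 2 3 30 30 30 30 30 38 35 2 30 30 30 1 20 1) (@D3.rec (fun _ => Nat) 1 20 20 20 20 6 1 2 6 6 6 1 2 72 7 7 1 1 2 2 3 72 7 7 7 74 7 31 33 2 3 3) (@D3.rec (fun _ => Nat) 4 4 31 31 31 31 31 7 7 7 74 74 8 79 81 29 1 1 2 1 20 20 20 20 20 20 1 1 2 2 3 7) (@D3.rec (fun _ => Nat) 7 7 7 7 33 37 2 3 3 4 4 72 8 8 77 8 8 8 76 82 76 86 33 37 3 4 4 4 4 5 5 31) (@D3.rec (fun _ => Nat) 31 31 31 31 31 76 76 20 20 20 20 4 4 5 5 5 6 6 31 1 1 72 1 1 75 37 72 72 8 8 1 8) (@D3.rec (fun _ => Nat) 8 8 6 1 6 6 1 1 2 6 6 6 6 6 32 69 9 71 73 9 9 9 9 1 28 7 1 73 32 7 7 7) (@D3.rec (fun _ => Nat) 1 1 2 2 3 30 7 7 7 7 7 7 80 2 3 4 29 29 9 7 7 7 7 10 8 8 81 29 71 72 76 1) (@D3.rec (fun _ => Nat) 70 1 76 37 1 70 1 78 39 37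 80 80 41 9 9 71 9 9 9 7 1 1 2 7 7 7 1 1 1 2 2 3) (@D3.rec (fun _ => Nat) 7 7 7 7 7 7 7 71 71 10 73 75 74 71 10 1 71 73 28 71 10 10 10 75 75 10 1 1 2 32 73 8) (@D3.rec (fun _ => Nat) 1 1 1 2 2 3 30 8 8 8 8 34 37 2 3 3 4 4 8 8 8 8 8 8 8 8 8 39 73 75 29 29) (@D3.rec (fun _ => Nat) 29 29 29 39 3 4 4 4 5 5 29 29 29 10 8 8 8 73 85 82 75 32 82 76 86 78 80 85 36 6 73 73) (@D3.rec (fun _ => Nat) 70 72 72 75 75 7 80 72 29 69 67 69 69 1 68 1 21 21 1 2 21 21 21 21 21 9 9 9 7 74 7 7) (@D3.rec (fun _ => Nat) 7 1 1 2 2 3 7 7 7 71 33 10 77 69 78 10 10 71 2 3 80 80 10 1 2 29 8 8 1 1 2 2) (@D3.rec (fun _ => Nat) 3 31 76 8 8 8 34 33 2 3 3 4 4 33 75 8 82 8 8 34 30 2 80 77 4 4 5 10 8 76 80 85) (@D3.rec (fun _ => Nat)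 81 87 29 0 36 38 36 40 7 7 76 72 2 3 74 81 74 8 35 2 3 3 4 76 74 8 81 1 71 71 73 1) (@D3.rec (fun _ => Nat) 70 70 1 1 2 78 72 72 1 1 2 2 3 21 21 21 21 21 21 21 21 21 10 1 2 8 8 1 1 2 2 3) (@D3.rec (fun _ => Nat) 8 8 8 8 36 33 2 3 3 4 8 8 8 8 36 34 2 3 3 4 29 76 78 11 1 1 2 2 3 31 9 9) (@D3.rec (fun _ => Nat) 9 34 33 2 3 3 4 4 33 9 9 77 9 9 9 34 33 3 77 4 4 4 79 5 5 9 81 9 79 81 9 36)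
def lv_i_15 : D2 → D3 → Nat := @D2.rec (fun _ => D3 → Nat) (@D3.rec (fun _ => Nat) 34 3 80 4 78 79 9 9 9 33 10 75 74 76 21 21 35 36 2 81 3 4 29 29 29 34 33 84 4 4 80 5) (@D3.rec (fun _ => Nat) 29 29 81 33 31 33 31 40 2 3 3 4 31 31 31 31 31 31 40 31 21 21 41 21 21 21 21 21 7 7 2 3) (@D3.rec (fun _ => Nat) 7 7 7 7 2 3 72 72 8 8 35 2 3 3 4 4 72 72 8 8 8 8 84 35 3 4 4 4 5 5 32 32) (@D3.rec (fun _ => Nat) 8 76 76 9 0 39 2 3 21 21 21 21 21 21 21 21 21 37 2 3 3 4 4 8 8 8 8 8 35 37 3 4) (@D3.rec (fun _ => Nat) 4 4 4 5 5 5 74 74 83 9 9 86 83 9 9 76 74 37 4 4 5 5 5 5 6 6 6 32 77 21 21 5) (@D3.rec (fun _ => Nat) 6 6 7 38 73 72 70 72 72 37 72 74 9 9 69 9 9 9 7 34 7 7 7 36 2 3 7 7 7 7 7 7) (@D3.rec (fun _ =>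 Nat) 32 71 10 73 73 10 10 10 10 10 34 30 8 8 77 79 32 8 8 8 37 2 3 3 4 4 32 8 8 8 8 8) (@D3.rec (fun _ => Nat) 8 83 4 76 30 10 8 8 9 82 73 72 76 76 70 70 76 37 68 70 75 80 39 37 37 79 82 83 10 10 71 10) (@D3.rec (fun _ => Nat) 10 10 10 8 34 2 3 8 8 8 8 38 37 2 3 3 4 4 8 8 8 8 8 8 8 8 8 73 73 73 11 75) (@D3.rec (fun _ => Nat) 73 73 73 11 37 73 73 73 28 73 73 11 11 11 11 75 75 35 2 3 32 73 73 9 34 37 2 3 3 4 4 32) (@D3.rec (fun _ => Nat) 81 9 84 9 9 9 34 40 3 4 4 4 4 5 5 5 9 9 9 9 9 9 9 9 75 73 75 30 30 30 4 5) (@D3.rec (fun _ => Nat) 5 5 6 6 6 30 79 34 85 82 38 7 74 74 76 72 72 74 72 77 77 8 0 71 69 71 71 38 68 42 22 22) (@D3.rec (fun _ => Nat) 22 2 3 22 22 22 22 22 22 22 10 10 10 10 8 8 73 8 8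 8 38 2 3 3 4 8 8 8 75 77 33 11) (@D3.rec (fun _ => Nat) 69 77 79 11 11 71 3 4 76 78 11 2 3 87 29 9 9 34 2 3 3 4 4 80 33 84 9 85 9 9 34 35) (@D3.rec (fun _ => Nat) 3 77 4 4 4 5 5 33 78 9 80 9 34 5 6 80 0 0 1 38 40 38 38 8 8 78 74 3 4 4 77 74) (@D3.rec (fun _ => Nat) 75 75 9 37 3 4 4 5 76 76 73 73 75 75 39 70 70 38 2 3 80 72 72 74 38 2 3 3 4 4 22 22) (@D3.rec (fun _ => Nat) 22 22 22 22 22 22 22 22 22 11 2 3 9 9 9 38 2 3 3 4 4 9 9 9 9 9 39 35 3 4 4 5) (@D3.rec (fun _ => Nat) 9 9 9 38 34 3 4 4 5 31 79 81 35 2 3 3 4 4 33 33 10 10 10 10 34 35 3 82 4 4 4 78) (@D3.rec (fun _ => Nat) 5 5 33 10 10 78 10 10 79 34 35 4 77 5 5 5 80 81 6 6 10 81 10 80 81 38 10 87 74 87 22 34) (@D3.rec (fun _ => Nat) 35 79 4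 5 76 5 80 6 34 32 34 32 3 4 4 5 32 32 32 83 22 22 22 43 22 22 22 22 22 22 22 8) (@D3.rec (fun _ => Nat) 8 3 4 4 8 8 8 8 3 4 4 74 74 72 9 9 9 35 3 4 4 4 4 5 5 5 74 74 86 9 9 9) (@D3.rec (fun _ => Nat) 4 5 5 6 6 6 33 9 79 0 1 39 3 4 4 22 22 22 22 22 22 22 22 22 22 22 39 3 4 4 4 4)
def lv_i_16 : D2 → D3 → Nat := @D2.rec (fun _ => D3 → Nat) (@D3.rec (fun _ => Nat) 5 5 9 9 9 9 74 35 39 37 4 4 5 5 5 5 5 5 6 6 6 6 6 74 74 84 78 10 10 84 80 10) (@D3.rec (fun _ => Nat) 78 5 5 6 6 6 6 7 7 22 7 38 72 74 74 72 74 74 74 39 76 74 76 10 10 10 71 10 10 10 8 8) (@D3.rec (fun _ => Nat) 36 8 8 8 35 3 4 4 8 8 8 8 8 8 34 71 71 11 75 11 11 11 11 11 38 30 9 9 80 80 34 9) (@D3.rec (fun _ => Nat) 9 9 9 38 3 4 4 4 77 5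 5 32 9 9 77 9 9 9 77 9 84 73 74 78 76 72 72 82 39 70 72 72) (@D3.rec (fun _ => Nat) 74 78 80 83 39 39 39 81 80 11 11 73 73 11 11 11 11 9 38 3 4 4 9 9 9 9 39 40 3 4 4 4) (@D3.rec (fun _ => Nat) 4 5 5 5 9 9 9 9 9 9 9 9 73 73 73 71 12 77 73 73 78 73 73 12 39 75 73 75 75 73 30 73) (@D3.rec (fun _ => Nat) 73 71 86 12 12 12 35 3 4 4 34 75 75 10 36 40 3 4 4 4 4 5 5 5 32 32 77 10 88 10 10 36) (@D3.rec (fun _ => Nat) 40 4 4 5 5 5 5 5 5 6 6 6 6 6 10 10 10 10 10 10 10 77 77 85 5 6 6 6 7 7 85 38) (@D3.rec (fun _ => Nat) 8 75 75 77 72 70 72 72 77 77 1 71 69 69 71 71 40 70 70 42 23 23 23 23 3 4 23 23 23 23 23 23) (@D3.rec (fun _ => Nat) 23 23 23 11 11 11 11 9 9 75 9 9 9 39 3 4 4 5 9 9 75 75 77 35 12 71 71 78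 78 81 12 12) (@D3.rec (fun _ => Nat) 73 4 5 82 82 3 4 4 84 31 10 10 37 3 4 4 4 4 5 5 83 36 81 10 89 0 10 36 35 4 77 5) (@D3.rec (fun _ => Nat) 5 5 6 6 6 33 77 10 79 6 0 1 1 38 38 38 38 9 76 76 4 4 5 5 79 76 76 76 37 4 5 5) (@D3.rec (fun _ => Nat) 6 78 73 73 73 75 86 39 72 72 40 3 4 4 80 74 74 74 76 38 3 4 4 4 4 5 5 5 23 23 23 23) (@D3.rec (fun _ => Nat) 23 23 23 23 23 23 23 3 4 4 10 10 10 10 41 3 80 4 4 4 5 5 10 10 10 10 85 41 35 4 5 5) (@D3.rec (fun _ => Nat) 6 10 10 38 38 36 4 5 5 6 33 78 39 3 79 4 4 4 5 5 5 33 36 11 11 11 75 36 35 4 80 5) (@D3.rec (fun _ => Nat) 5 5 79 6 6 6 35 11 11 79 11 81 36 35 5 79 6 6 6 79 81 7 11 83 79 87 77 5 6 79 35 33) (@D3.rec (fun _ => Nat) 4 5 5 6 23 23 23 23 43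 43 23 23 23 23 23 23 23 23 23 9 9 9 4 4 5 5 5 9 9 9 4 4) (@D3.rec (fun _ => Nat) 5 5 5 74 74 72 72 10 0 10 37 4 4 5 5 5 5 5 6 6 6 6 6 74 74 78 10 10 6 6 6 7) (@D3.rec (fun _ => Nat) 7 0 0 1 41 41 4 4 5 5 5 23 23 23 23 23 23 23 23 23 23 23 39 39 4 4 5 5 5 5 6 6) (@D3.rec (fun _ => Nat) 6 10 10 10 81 37 39 39 5 5 5 6 6 6 6 6 6 6 6 6 7 7 7 7 7 76 76 84 80 78 11 85) (@D3.rec (fun _ => Nat) 80 6 7 7 36 8 40 38 74 74 74 74 72 72 74 74 74 74 74 39 76 76 86 11 11 11 71 71 11 11 11 9) (@D3.rec (fun _ => Nat) 9 36 9 9 9 9 38 38 4 4 77 5 5 9 9 9 9 9 34 73 71 12 75 12 12 12 12 38 32 10 10 80)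
def lv_i_17 : D2 → D3 → Nat := @D2.rec (fun _ => D3 → Nat) (@D3.rec (fun _ => Nat) 82 38 10 10 83 10 40 4 5 5 5 76 76 6 6 32 10 10 82 10 10 80 75 74 78 78 72 72 80 39 70 70) (@D3.rec (fun _ => Nat) 82 72 72 74 79 81 78 81 39 39 80 12 12 73 73 73 12 12 12 10 40 4 4 5 5 10 10 10 83 41 40 4) (@D3.rec (fun _ => Nat) 4 5 5 5 5 5 5 6 6 6 6 6 10 10 10 10 10 10 10 75 75 73 73 77 75 75 75 81 75 75 39 75) (@D3.rec (fun _ => Nat) 75 73 75 75 75 75 32 75 75 73 73 13 13 37 4 4 5 5 34 75 75 81 36 42 42 4 4 5 5 5 5 5) (@D3.rec (fun _ => Nat) 6 6 6 6 34 32 83 83 11 86 11 36 42 5 5 5 6 6 6 6 6 6 6 6 7 7 7 7 7 11 11 11) (@D3.rec (fun _ => Nat) 11 11 77 7 7 35 8 8 0 40 76 75 72 72 74 79 73 71 71 73 73 40 40 70 72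 44 44 24 24 24 24 24) (@D3.rec (fun _ => Nat) 24 4 5 24 24 24 24 24 24 24 24 24 24 12 12 12 10 10 75 10 10 39 4 5 5 6 10 77 77 79 35 71) (@D3.rec (fun _ => Nat) 71 79 81 82 0 13 75 5 6 82 4 4 5 5 86 33 11 36 36 4 4 5 5 5 5 6 6 6 85 33 81 87) (@D3.rec (fun _ => Nat) 0 1 36 37 5 81 6 6 6 6 7 7 39 80 1 40 40 40 76 76 5 5 6 6 6 81 76 76 39 5 6 6) (@D3.rec (fun _ => Nat) 88 75 75 75 41 72 74 40 4 4 5 5 5 82 87 74 74 76 38 4 4 5 5 5 5 5 5 6 6 6 6 24) (@D3.rec (fun _ => Nat) 24 24 24 24 24 24 24 24 24 4 4 5 5 5 11 11 11 41 41 4 83 5 5 5 6 6 6 11 11 11 81 41) (@D3.rec (fun _ => Nat) 37 5 6 6 11 38 38 36 5 6 6 33 78 39 4 79 5 5 5 5 6 6 6 33 33 12 12 78 36 37 5 82) (@D3.rec (fun _ => Nat) 6 6 6 6 80 80 7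 7 35 12 80 81 38 37 6 81 7 82 83 5 6 24 24 24 24 24 24 81 45 45 24 24) (@D3.rec (fun _ => Nat) 24 24 24 24 24 24 24 24 10 0 10 5 5 5 6 6 6 6 10 10 5 5 5 6 6 6 6 74 74 0 74 84) (@D3.rec (fun _ => Nat) 11 0 1 37 5 5 6 6 6 6 6 6 6 7 7 7 7 7 76 11 7 7 8 1 1 41 41 5 5 5 6 6) (@D3.rec (fun _ => Nat) 6 6 6 24 24 24 24 24 24 24 24 24 24 39 39 5 5 6 6 6 6 6 6 7 7 11 83 39 39 39 6 6) (@D3.rec (fun _ => Nat) 6 6 7 7 7 7 7 7 7 36 7 8 8 8 8 8 76 86 78 80 82 8 36 40 40 74 74 74 76 76 76 74) (@D3.rec (fun _ => Nat) 74 72 76 74 72 76 76 74 74 76 12 12 12 73 73 12 12 10 10 38 10 10 82 10 37 37 5 5 82 6 6 6) (@D3.rec (fun _ => Nat) 10 10 10 10 36 71 71 77 13 13 38 34 11 82 82 34 11 82 40 5 6 6 6 79 79 7 37 11 78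 11 77 78) (@D3.rec (fun _ => Nat) 78 74 76 80 72 72 81 74 74 74 76 81 80 80 80 81 41 82 75 75 73 73 13 13 40 5 5 6 6 11 11 81) (@D3.rec (fun _ => Nat) 41 42 5 5 5 6 6 6 6 6 6 6 6 6 7 7 7 7 7 11 11 11 11 11 75 75 75 73 75 75 75 75) (@D3.rec (fun _ => Nat) 82 75 39 75 75 73 73 77 75 75 32 73 73 73 14 37 5 5 6 6 6 36 77 78 38 42 42 5 5 6 6 6)
def lv_i_18 : D2 → D3 → Nat := @D2.rec (fun _ => D3 → Nat) (@D3.rec (fun _ => Nat) 6 6 6 6 7 7 7 7 37 37 80 0 79 90 38 42 6 6 6 7 7 7 7 7 7 37 7 8 8 8 8 8) (@D3.rec (fun _ => Nat) 8 12 12 8 8 37 9 1 77 72 73 71 73 73 75 42 40 72 72 72 44 44 25 25 25 25 25 25 25 5 6 25) (@D3.rec (fun _ => Nat) 25 25 25 25 25 25 25 25 13 11 77 41 5 6 6 77 77 77 79 73 73 73 80 83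 0 1 77 6 5 5 6 6) (@D3.rec (fun _ => Nat) 6 86 39 39 5 5 6 6 6 6 6 6 7 7 85 0 1 38 39 6 79 7 7 8 40 78 78 78 6 6 6 7) (@D3.rec (fun _ => Nat) 7 79 39 6 90 75 77 41 74 40 5 5 5 6 6 6 6 6 86 89 76 76 40 5 5 5 6 82 6 6 6 6) (@D3.rec (fun _ => Nat) 6 6 7 7 7 25 25 25 25 25 25 25 5 5 5 6 6 6 6 12 12 43 43 5 82 84 6 6 6 6 7 7) (@D3.rec (fun _ => Nat) 12 79 43 39 6 40 40 38 6 77 41 5 81 6 6 6 6 7 7 38 13 77 38 39 6 82 7 7 82 81 8 83) (@D3.rec (fun _ => Nat) 25 25 25 25 25 25 0 25 83 81 47 45 45 25 25 25 25 25 25 25 25 25 11 0 1 6 6 6 6 7 7 7) (@D3.rec (fun _ => Nat) 7 11 6 6 6 6 7 7 7 0 7 74 74 0 1 81 0 0 1 39 6 6 7 7 7 7 7 7 8 8 8 8) (@D3.rec (fun _ => Nat) 8 43 41 41 6 6 6 6 6 7 7 7 7 7 25 25 84 25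 25 25 25 25 39 41 41 6 6 6 7 7 7 38) (@D3.rec (fun _ => Nat) 7 8 8 83 41 7 7 7 8 8 8 8 8 38 8 8 38 9 9 9 80 38 40 40 40 76 76 76 76 76 84 76) (@D3.rec (fun _ => Nat) 74 74 74 74 76 76 74 74 76 76 76 82 13 73 73 75 13 11 38 11 82 40 40 40 6 6 6 84 77 7 7 11) (@D3.rec (fun _ => Nat) 11 73 40 84 80 42 6 7 78 78 84 82 76 72 72 74 84 84 74 76 76 81 80 81 80 83 75 75 75 75 14 42) (@D3.rec (fun _ => Nat) 6 6 7 83 77 43 42 6 6 6 6 7 7 7 7 7 7 7 7 37 7 8 8 8 8 8 8 12 12 77 77 77) (@D3.rec (fun _ => Nat) 77 77 77 83 41 75 75 75 77 77 75 75 39 6 6 6 7 7 83 83 40 44 44 44 6 6 6 7 0 7 7 7) (@D3.rec (fun _ => Nat) 7 7 8 8 8 8 8 34 85 0 1 7 7 8 8 8 8 8 37 8 8 37 9 9 9 9 9 9 37 73 73 42) (@D3.rec (fun _ => Nat)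 42 42 74 74 48 46 46 26 26 26 26 26 26 26 6 26 26 26 26 26 26 26 41 6 79 79 73 75 0 1 6 6) (@D3.rec (fun _ => Nat) 6 7 7 38 38 40 6 6 6 7 7 7 82 7 8 8 1 8 78 78 7 7 8 8 88 77 41 42 6 6 6 6) (@D3.rec (fun _ => Nat) 6 7 7 7 7 7 89 78 40 6 6 6 7 85 7 7 7 7 8 8 26 26 26 26 6 6 6 6 7 7 7 7) (@D3.rec (fun _ => Nat) 13 43 43 43 6 85 85 7 7 8 8 83 40 80 41 6 81 7 7 8 80 8 82 26 26 26 26 79 26 26 26 0) (@D3.rec (fun _ => Nat) 1 81 81 81 47 47 26 26 26 26 26 26 26 0 1 7 7 7 7 8 8 8 8 8 7 7 7 82 7 8 8 8) (@D3.rec (fun _ => Nat) 8 0 1 0 1 0 0 1 1 7 8 8 8 8 9 43 43 7 7 7 7 7 83 8 8 8 8 8 26 83 26 26)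
def lv_i_19 : D2 → D3 → Nat := @D2.rec (fun _ => D3 → Nat) (@D3.rec (fun _ => Nat) 26 41 41 7 7 8 8 8 8 38 9 8 8 9 38 9 9 38 38 10 40 42 76 76 76 76 76 78 82 76 74 74) (@D3.rec (fun _ => Nat) 74 74 74 82 74 76 76 75 75 78 39 41 7 7 84 84 8 8 81 74 82 74 85 83 76 76 83 82 82 75 75 75) (@D3.rec (fun _ => Nat) 75 7 77 83 7 7 7 7 83 8 8 8 8 8 8 8 83 8 8 8 39 9 9 9 9 9 77 77 77 77 77 77) (@D3.rec (fun _ => Nat) 75 75 77 7 7 8 8 85 78 44 44 7 7 8 8 0 1 8 8 8 8 8 9 9 9 9 0 1 8 9 9 39) (@D3.rec (fun _ => Nat) 9 9 9 39 39 10 10 10 73 75 42 42 74 74 46 46 27 27 27 27 27 27 27 27 27 27 27 79 79 75 75 1) (@D3.rec (fun _ => Nat) 7 82 7 8 8 41 41 7 7 8 8 8 8 85 9 80 80 8 8 9 90 7 7 7 7 7 8 8 8 8 8 89) (@D3.rec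 (fun _ => Nat) 7 7 8 84 8 8 9 7 7 7 7 8 8 8 8 45 45 86 84 8 8 9 79 8 78 27 27 87 27 27 27 79) (@D3.rec (fun _ => Nat) 27 0 0 1 83 83 83 83 83 47 47 27 27 27 27 27 1 8 8 8 8 8 9 9 9 9 8 82 8 8 8 84) (@D3.rec (fun _ => Nat) 9 9 9 0 0 1 1 0 1 1 9 43 43 8 8 8 8 8 83 9 9 9 9 86 41 41 8 8 9 9 40 40) (@D3.rec (fun _ => Nat) 10 10 40 40 42 42 78 78 78 78 78 78 78 76 76 74 76 76 76 82 78 75 77 42 42 8 8 86 86 9 74 76) (@D3.rec (fun _ => Nat) 86 86 86 78 82 75 77 75 83 83 8 8 8 8 88 9 9 9 9 9 9 9 89 9 39 39 10 10 10 10 77 79) (@D3.rec (fun _ => Nat) 79 79 8 8 9 85 85 46 46 8 8 9 0 0 1 9 9 9 9 10 10 10 10 1 10 10 39 10 39 11 75 42) (@D3.rec (fun _ => Nat) 44 74 48 48 28 28 28 28 28 28 28 81 77 8 8 84 9 40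 42 8 8 9 9 90 88 10 80 9 10 8 8 8) (@D3.rec (fun _ => Nat) 8 8 9 9 9 9 8 9 8 8 8 8 9 9 9 45 45 87 9 10 80 28 28 28 84 28 81 81 28 0 1 1) (@D3.rec (fun _ => Nat) 83 83 87 87 87 49 28 28 9 9 9 9 10 10 10 10 9 9 84 9 84 84 10 10 0 1 1 1 43 9 9 9) (@D3.rec (fun _ => Nat) 9 85 85 10 10 43 9 10 10 40 40 42 78 78 78 78 84 76 76 76 84 77 43 9 86 10 76 84 84 85 78 77) (@D3.rec (fun _ => Nat) 77 79 9 9 9 92 85 10 10 10 10 10 86 88 10 41 11 11 79 79 81 9 10 87 46 9 10 0 1 1 10 10) (@D3.rec (fun _ => Nat) 10 10 11 11 11 41 75 44 76 48 29 29 83 77 9 88 88 10 43 9 10 10 89 84 10 9 9 9 9 10 10 9) (@D3.rec (fun _ => Nat) 9 9 10 10 47 86 10 80 80 29 93 89 29 81 0 1 85 85 85 85 85 49 10 10 10 10 11 11 10 84 84 10)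 (@D3.rec (fun _ => Nat) 86 11 0 1 45 10 10 85 11 43 10 42 44 80 82 80 76 76 77 43 10 88 76 88 88 77 85 10 10 94 11 11) (@D3.rec (fun _ => Nat) 11 89 41 12 83 10 87 48 10 0 1 11 11 12 44 50 30 10 86 43 10 90 10 10 11 10 10 11 47 82 30 92) (@D3.rec (fun _ => Nat) 83 1 85 89 89 11 11 12 11 86 86 1 11 87 82 78 86 11 86 12 90 1 12 90 11 11 82 93 87 87 12 86)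
def lv_i : Pt → Nat := @Pt.rec (fun _ => Nat) (@D1.rec (fun _ => D2 → D3 → Nat) lv_i_0 lv_i_1 lv_i_2 lv_i_3 lv_i_4 lv_i_5 lv_i_6 lv_i_7 lv_i_8 lv_i_9 lv_i_10 lv_i_11 lv_i_12 lv_i_13 lv_i_14 lv_i_15 lv_i_16 lv_i_17 lv_i_18 lv_i_19)
abbrev lc_i_Cert_tree : Cert rels S Gen.i := Cert.tree
abbrev lc_i_rc_16_1 : Cert rels S Gen.i := rc_16_1
abbrev lc_i_rc_16_3 : Cert rels S Gen.i := rc_16_3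
abbrev lc_i_rc_23_1 : Cert rels S Gen.i := rc_23_1
abbrev lc_i_rc_23_3 : Cert rels S Gen.i := rc_23_3
abbrev lc_i_rc_29_1 : Cert rels S Gen.i := rc_29_1
abbrev lc_i_rc_29_3 : Cert rels S Gen.i := rc_29_3
abbrev lc_i_rc_34_1 : Cert rels S Gen.i := rc_34_1
abbrev lc_i_rc_34_3 : Cert rels S Gen.i := rc_34_3
abbrev lc_i_rc_36_1 : Cert rels S Gen.i := rc_36_1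
abbrev lc_i_rc_36_3 : Cert rels S Gen.i := rc_36_3
abbrev lc_i_rc_36_5 : Cert rels S Gen.i := rc_36_5
abbrev lc_i_rc_40_1 : Cert rels S Gen.i := rc_40_1
abbrev lc_i_rc_40_3 : Cert rels S Gen.i := rc_40_3
abbrev lc_i_rc_43_1 : Cert rels S Gen.i := rc_43_1
abbrev lc_i_rc_43_3 : Cert rels S Gen.i := rc_43_3
abbrev lc_i_rc_44_0 : Cert rels S Gen.i := rc_44_0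
abbrev lc_i_rc_44_1 : Cert rels S Gen.i := rc_44_1
abbrev lc_i_rc_45_26 : Cert rels S Gen.i := rc_45_26
abbrev lc_i_rc_45_35 : Cert rels S Gen.i := rc_45_35
abbrev lc_i_rc_45_62 : Cert rels S Gen.i := rc_45_62
abbrev lc_i_rc_8_1 : Cert rels S Gen.i := rc_8_1
abbrev lc_i_rc_8_3 : Cert rels S Gen.i := rc_8_3
abbrev lc_i_sc_7_0 : Cert rels S Gen.i := sc_7_0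
def ce_i_0 : D2 → D3 → (Cert rels S Gen.i) := @D2.rec (fun _ => D3 → (Cert rels S Gen.i)) (@D3.rec (fun _ => (Cert rels S Gen.i)) lc_i_sc_7_0 lc_i_rc_8_1 lc_i_rc_16_1 lc_i_rc_23_1 lc_i_rc_29_1 lc_i_rc_34_1 lc_i_Cert_tree lc_i_rc_40_1 lc_i_Cert_tree lc_i_rc_44_0 lc_i_rc_43_1 lc_i_Cert_tree lc_i_Cert_tree lc_i_rc_44_0 lc_i_Cert_tree lc_i_Cert_tree lc_i_rc_44_0 lc_i_Cert_tree lc_i_rc_44_0 lc_i_Cert_tree lc_i_rc_44_0 lc_i_Cert_tree lc_i_Cert_tree lc_i_rc_44_0 lc_i_Cert_tree lc_i_rc_44_0 lc_i_rc_36_3 lc_i_Cert_tree lc_i_Cert_tree lc_i_rc_44_0 lc_i_Cert_tree lc_i_Cert_tree) (@D3.rec (fun _ => (Cert rels S Gen.i)) lc_i_rc_44_0 lc_i_rc_44_0 lc_i_rc_36_3 lc_i_Cert_tree lc_i_rc_44_0 lc_i_rc_23_1 lc_i_Cert_tree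 lc_i_Cert_tree lc_i_rc_44_0 lc_i_Cert_tree lc_i_rc_44_0 lc_i_rc_36_3 lc_i_Cert_tree lc_i_Cert_tree lc_i_rc_44_0 lc_i_Cert_tree lc_i_rc_44_0 lc_i_rc_36_3 lc_i_rc_36_3 lc_i_rc_44_0 lc_i_rc_16_1 lc_i_rc_29_1 lc_i_Cert_tree lc_i_Cert_tree lc_i_rc_44_0 lc_i_Cert_tree lc_i_Cert_tree lc_i_rc_44_0 lc_i_rc_36_3 lc_i_rc_44_0 lc_i_rc_36_3 lc_i_Cert_tree) (@D3.rec (fun _ => (Cert rels S Gen.i)) lc_i_rc_44_0 lc_i_Cert_tree lc_i_rc_44_0 lc_i_rc_16_1 lc_i_Cert_tree lc_i_rc_44_0 lc_i_rc_36_3 lc_i_rc_29_1 lc_i_rc_29_1 lc_i_rc_8_1 lc_i_rc_16_1 lc_i_rc_34_1 lc_i_Cert_tree lc_i_rc_44_0 lc_i_Cert_tree lc_i_Cert_tree lc_i_rc_44_0 lc_i_rc_16_1 lc_i_Cert_tree lc_i_Cert_tree lc_i_rc_44_0 lc_i_rc_44_0 lc_i_rc_36_3 lc_i_rc_29_1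 lc_i_rc_40_1 lc_i_rc_29_1 lc_i_Cert_tree lc_i_rc_44_0 lc_i_rc_8_1 lc_i_Cert_tree lc_i_Cert_tree lc_i_rc_44_0) (@D3.rec (fun _ => (Cert rels S Gen.i)) lc_i_rc_16_1 lc_i_rc_29_1 lc_i_rc_44_0 lc_i_rc_36_3 lc_i_rc_29_1 lc_i_rc_34_1 lc_i_rc_23_1 lc_i_rc_8_1 lc_i_rc_23_1 lc_i_rc_16_1 lc_i_rc_40_1 lc_i_Cert_tree lc_i_Cert_tree lc_i_rc_44_0 lc_i_rc_8_1 lc_i_Cert_tree lc_i_Cert_tree lc_i_Cert_tree lc_i_rc_44_0 lc_i_rc_44_0 lc_i_rc_16_1 lc_i_rc_29_1 lc_i_Cert_tree lc_i_Cert_tree lc_i_rc_44_0 lc_i_rc_44_0 lc_i_rc_36_3 lc_i_rc_40_1 lc_i_rc_29_1 lc_i_rc_34_1 lc_i_rc_29_1 lc_i_rc_23_1) (@D3.rec (fun _ => (Cert rels S Gen.i)) lc_i_rc_44_0 lc_i_rc_8_1 lc_i_rc_8_1 lc_i_rc_44_0 lc_i_rc_44_0 lc_i_rc_36_3 lc_i_rc_29_1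 lc_i_rc_23_1 lc_i_rc_34_1 lc_i_rc_36_3 lc_i_rc_29_1 lc_i_rc_23_1 lc_i_rc_34_1 lc_i_rc_34_1 lc_i_rc_16_1 lc_i_rc_16_1 lc_i_rc_43_1 lc_i_Cert_tree lc_i_rc_44_0 lc_i_rc_44_0 lc_i_rc_8_1 lc_i_rc_8_1 lc_i_Cert_tree lc_i_rc_44_0 lc_i_Cert_tree lc_i_Cert_tree lc_i_rc_44_0 lc_i_rc_44_0 lc_i_rc_36_3 lc_i_rc_16_1 lc_i_rc_29_1 lc_i_rc_23_1) (@D3.rec (fun _ => (Cert rels S Gen.i)) lc_i_rc_34_1 lc_i_Cert_tree lc_i_rc_44_0 lc_i_rc_44_0 lc_i_rc_36_3 lc_i_rc_36_3 lc_i_rc_29_1 lc_i_rc_29_1 lc_i_rc_23_1 lc_i_rc_34_1 lc_i_rc_40_1 lc_i_rc_23_1 lc_i_rc_34_1 lc_i_rc_16_1 lc_i_rc_36_3 lc_i_rc_8_1 lc_i_rc_8_1 lc_i_rc_36_3 lc_i_rc_36_3 lc_i_rc_29_1 lc_i_rc_23_1 lc_i_rc_34_1 lc_i_rc_23_1 lc_i_rc_34_1 lc_i_rc_29_1 lc_i_rc_23_1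 lc_i_rc_34_1 lc_i_rc_16_1 lc_i_rc_23_1 lc_i_rc_40_1 lc_i_rc_34_1 lc_i_rc_8_1) (@D3.rec (fun _ => (Cert rels S Gen.i)) lc_i_rc_16_1 lc_i_Cert_tree lc_i_rc_44_0 lc_i_rc_43_1 lc_i_rc_8_1 lc_i_rc_8_1 lc_i_rc_8_1 lc_i_Cert_tree lc_i_rc_44_0 lc_i_rc_43_1 lc_i_Cert_tree lc_i_rc_44_0 lc_i_rc_44_0 lc_i_rc_36_3 lc_i_rc_36_3 lc_i_rc_29_1 lc_i_rc_29_1 lc_i_rc_23_1 lc_i_rc_34_1 lc_i_rc_23_1 lc_i_rc_40_1 lc_i_Cert_tree lc_i_rc_44_0 lc_i_rc_36_3 lc_i_rc_36_3 lc_i_rc_29_1 lc_i_rc_29_1 lc_i_rc_23_1 lc_i_rc_34_1 lc_i_rc_23_1 lc_i_rc_34_1 lc_i_rc_16_1) (@D3.rec (fun _ => (Cert rels S Gen.i)) lc_i_rc_23_1 lc_i_rc_40_1 lc_i_rc_40_1 lc_i_rc_16_1 lc_i_rc_23_1 lc_i_rc_8_1 lc_i_rc_29_1 lc_i_rc_23_1 lc_i_rc_8_1 lc_i_rc_29_1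 lc_i_rc_29_1 lc_i_rc_23_1 lc_i_rc_34_1 lc_i_rc_16_1 lc_i_rc_23_1 lc_i_rc_40_1 lc_i_rc_29_1 lc_i_rc_34_1 lc_i_rc_23_1 lc_i_rc_34_1 lc_i_rc_16_1 lc_i_rc_23_1 lc_i_rc_40_1 lc_i_rc_8_1 lc_i_rc_16_1 lc_i_rc_23_1 lc_i_rc_43_1 lc_i_rc_44_0 lc_i_rc_8_3 lc_i_rc_29_1 lc_i_rc_8_1 lc_i_rc_23_1) (@D3.rec (fun _ => (Cert rels S Gen.i)) lc_i_rc_8_1 lc_i_rc_8_1 lc_i_Cert_tree lc_i_rc_44_0 lc_i_rc_8_1 lc_i_rc_29_1 lc_i_Cert_tree lc_i_rc_44_0 lc_i_rc_36_3 lc_i_rc_36_3 lc_i_rc_29_1 lc_i_rc_29_1 lc_i_rc_23_1 lc_i_rc_34_1 lc_i_rc_23_1 lc_i_rc_34_1 lc_i_rc_16_1 lc_i_rc_23_1 lc_i_rc_40_1 lc_i_rc_29_1 lc_i_rc_23_1 lc_i_rc_40_1 lc_i_Cert_tree lc_i_rc_44_0 lc_i_rc_36_3 lc_i_rc_29_1 lc_i_rc_29_1 lc_i_rc_23_1 lc_i_rc_34_1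 lc_i_rc_23_1 lc_i_rc_34_1 lc_i_rc_16_1) (@D3.rec (fun _ => (Cert rels S Gen.i)) lc_i_rc_23_1 lc_i_rc_40_1 lc_i_rc_16_1 lc_i_rc_23_1 lc_i_rc_40_1 lc_i_rc_8_1 lc_i_rc_16_1 lc_i_rc_23_1 lc_i_rc_43_1 lc_i_rc_8_1 lc_i_rc_16_1 lc_i_rc_29_1 lc_i_rc_23_1 lc_i_rc_34_1 lc_i_rc_16_1 lc_i_rc_23_1 lc_i_rc_23_1 lc_i_rc_34_1 lc_i_rc_23_1 lc_i_rc_34_1 lc_i_rc_16_1 lc_i_rc_23_1 lc_i_rc_40_1 lc_i_rc_8_1 lc_i_rc_16_1 lc_i_rc_29_1 lc_i_rc_23_1 lc_i_rc_43_1 lc_i_rc_8_3 lc_i_rc_16_1 lc_i_rc_23_1 lc_i_rc_40_1) (@D3.rec (fun _ => (Cert rels S Gen.i)) lc_i_rc_8_1 lc_i_rc_16_1 lc_i_rc_29_1 lc_i_rc_23_1 lc_i_rc_43_1 lc_i_rc_8_1 lc_i_rc_16_1 lc_i_rc_23_1 lc_i_rc_34_1 lc_i_rc_29_1 lc_i_rc_23_1 lc_i_rc_34_1 lc_i_rc_23_1 lc_i_rc_8_1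 lc_i_rc_16_1 lc_i_rc_23_1 lc_i_rc_8_1 lc_i_rc_44_0 lc_i_rc_34_1 lc_i_rc_29_1 lc_i_rc_23_1 lc_i_rc_34_1 lc_i_rc_44_0 lc_i_rc_36_3 lc_i_rc_29_1 lc_i_rc_29_1 lc_i_rc_23_1 lc_i_rc_34_1 lc_i_rc_23_1 lc_i_rc_34_1 lc_i_rc_16_1 lc_i_rc_23_1) (@D3.rec (fun _ => (Cert rels S Gen.i)) lc_i_rc_40_1 lc_i_rc_16_1 lc_i_rc_23_1 lc_i_rc_40_1 lc_i_rc_8_1 lc_i_rc_16_1 lc_i_rc_29_1 lc_i_rc_23_1 lc_i_rc_43_1 lc_i_rc_29_1 lc_i_Cert_tree lc_i_rc_44_0 lc_i_rc_36_3 lc_i_rc_29_1 lc_i_rc_23_1 lc_i_rc_34_1 lc_i_rc_23_1 lc_i_rc_34_1 lc_i_rc_16_1 lc_i_rc_23_1 lc_i_rc_40_1 lc_i_rc_16_1 lc_i_rc_23_1 lc_i_rc_40_1 lc_i_rc_8_1 lc_i_rc_16_1 lc_i_rc_29_1 lc_i_rc_23_1 lc_i_rc_43_1 lc_i_rc_8_1 lc_i_rc_16_1 lc_i_rc_29_1) (@D3.rec (fun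 _ => (Cert rels S Gen.i)) lc_i_rc_23_1 lc_i_rc_43_1 lc_i_rc_8_1 lc_i_rc_16_1 lc_i_rc_23_1 lc_i_rc_8_1 lc_i_rc_16_1 lc_i_Cert_tree lc_i_rc_16_1 lc_i_rc_23_1 lc_i_rc_8_1 lc_i_rc_16_1 lc_i_rc_16_1 lc_i_rc_23_1 lc_i_rc_8_1 lc_i_rc_16_1 lc_i_rc_23_1 lc_i_rc_40_1 lc_i_rc_8_1 lc_i_rc_16_1 lc_i_rc_29_1 lc_i_rc_23_1 lc_i_rc_43_1 lc_i_rc_8_1 lc_i_rc_16_1 lc_i_rc_16_1 lc_i_rc_8_3 lc_i_rc_23_1 lc_i_rc_8_1 lc_i_rc_16_1 lc_i_rc_29_1 lc_i_rc_23_1) (@D3.rec (fun _ => (Cert rels S Gen.i)) lc_i_rc_43_1 lc_i_rc_8_1 lc_i_rc_16_1 lc_i_rc_16_1 lc_i_rc_29_1 lc_i_rc_23_1 lc_i_rc_8_1 lc_i_rc_16_1 lc_i_rc_29_1 lc_i_rc_23_1 lc_i_rc_34_1 lc_i_rc_16_1 lc_i_rc_23_1 lc_i_rc_40_1 lc_i_rc_16_1 lc_i_rc_23_1 lc_i_rc_8_1 lc_i_rc_8_1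 lc_i_rc_16_1 lc_i_rc_23_1 lc_i_rc_36_3 lc_i_rc_29_1 lc_i_rc_23_1 lc_i_rc_34_1 lc_i_rc_16_1 lc_i_rc_23_1 lc_i_rc_40_1 lc_i_rc_36_3 lc_i_rc_29_1 lc_i_rc_23_1 lc_i_rc_34_1 lc_i_rc_23_1) (@D3.rec (fun _ => (Cert rels S Gen.i)) lc_i_rc_34_1 lc_i_rc_16_1 lc_i_rc_23_1 lc_i_rc_40_1 lc_i_rc_16_1 lc_i_rc_23_1 lc_i_rc_40_1 lc_i_rc_8_1 lc_i_rc_16_1 lc_i_rc_29_1 lc_i_rc_23_1 lc_i_rc_43_1 lc_i_rc_8_1 lc_i_rc_16_1 lc_i_rc_29_1 lc_i_rc_23_1 lc_i_rc_43_1 lc_i_rc_8_1 lc_i_rc_16_1 lc_i_rc_16_1 lc_i_rc_29_1 lc_i_Cert_tree lc_i_rc_23_1 lc_i_rc_34_1 lc_i_rc_43_1 lc_i_rc_44_0 lc_i_rc_23_1 lc_i_rc_36_3 lc_i_rc_23_1 lc_i_rc_34_1 lc_i_rc_16_1 lc_i_rc_23_1) (@D3.rec (fun _ => (Cert rels S Gen.i)) lc_i_rc_40_1 lc_i_rc_16_1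 lc_i_rc_23_1 lc_i_rc_40_1 lc_i_rc_8_1 lc_i_rc_16_1 lc_i_rc_29_1 lc_i_rc_23_1 lc_i_rc_43_1 lc_i_rc_8_1 lc_i_rc_16_1 lc_i_rc_29_1 lc_i_rc_23_1 lc_i_rc_43_1 lc_i_rc_8_1 lc_i_rc_16_1 lc_i_rc_16_1 lc_i_rc_29_1 lc_i_rc_23_1 lc_i_rc_8_1 lc_i_rc_16_1 lc_i_rc_16_1 lc_i_rc_29_1 lc_i_Cert_tree lc_i_rc_23_1 lc_i_rc_8_1 lc_i_rc_16_1 lc_i_rc_8_1 lc_i_rc_23_1 lc_i_Cert_tree lc_i_rc_44_0 lc_i_rc_8_1) (@D3.rec (fun _ => (Cert rels S Gen.i)) lc_i_rc_16_1 lc_i_rc_29_1 lc_i_rc_8_1 lc_i_rc_8_1 lc_i_rc_16_1 lc_i_rc_29_1 lc_i_rc_8_1 lc_i_rc_8_1 lc_i_rc_16_1 lc_i_rc_29_1 lc_i_rc_23_1 lc_i_rc_43_1 lc_i_rc_8_1 lc_i_rc_16_1 lc_i_rc_16_1 lc_i_rc_29_1 lc_i_rc_8_3 lc_i_rc_23_1 lc_i_rc_8_1 lc_i_rc_8_1 lc_i_rc_16_1 lc_i_rc_16_1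 lc_i_rc_8_1 lc_i_rc_16_1 lc_i_rc_16_1 lc_i_rc_29_1 lc_i_rc_36_3 lc_i_rc_23_1 lc_i_rc_8_1 lc_i_rc_8_1 lc_i_rc_23_1 lc_i_rc_16_1) (@D3.rec (fun _ => (Cert rels S Gen.i)) lc_i_rc_16_1 lc_i_rc_34_1 lc_i_rc_29_1 lc_i_rc_8_1 lc_i_rc_23_1 lc_i_rc_29_1 lc_i_rc_16_1 lc_i_rc_23_1 lc_i_rc_40_1 lc_i_rc_8_1 lc_i_rc_16_1 lc_i_rc_29_1 lc_i_rc_23_1 lc_i_rc_8_1 lc_i_rc_16_1 lc_i_rc_29_1 lc_i_rc_23_1 lc_i_rc_8_1 lc_i_rc_16_1 lc_i_rc_29_1 lc_i_rc_23_1 lc_i_rc_29_1 lc_i_rc_16_1 lc_i_rc_23_1 lc_i_rc_40_1 lc_i_rc_8_1 lc_i_rc_16_1 lc_i_rc_29_1 lc_i_rc_23_1 lc_i_rc_43_1 lc_i_rc_36_3 lc_i_rc_23_1) (@D3.rec (fun _ => (Cert rels S Gen.i)) lc_i_rc_34_1 lc_i_rc_16_1 lc_i_rc_23_1 lc_i_rc_40_1 lc_i_rc_16_1 lc_i_rc_23_1 lc_i_rc_40_1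 lc_i_rc_8_1 lc_i_rc_16_1 lc_i_rc_29_1 lc_i_rc_23_1 lc_i_rc_43_1 lc_i_rc_8_1 lc_i_rc_16_1 lc_i_rc_29_1 lc_i_rc_23_1 lc_i_rc_43_1 lc_i_rc_8_1 lc_i_rc_16_1 lc_i_rc_16_1 lc_i_rc_29_1 lc_i_Cert_tree lc_i_rc_23_1 lc_i_rc_8_1 lc_i_rc_16_1 lc_i_rc_16_1 lc_i_rc_29_1 lc_i_Cert_tree lc_i_rc_23_1 lc_i_rc_8_1 lc_i_rc_8_1 lc_i_rc_16_1) (@D3.rec (fun _ => (Cert rels S Gen.i)) lc_i_Cert_tree lc_i_rc_16_1 lc_i_rc_34_1 lc_i_rc_43_1 lc_i_rc_44_0 lc_i_rc_34_1 lc_i_rc_29_1 lc_i_rc_23_1 lc_i_rc_36_3 lc_i_rc_16_1 lc_i_rc_23_1 lc_i_rc_40_1 lc_i_rc_8_1 lc_i_rc_16_1 lc_i_rc_29_1 lc_i_rc_23_1 lc_i_rc_43_1 lc_i_rc_8_1 lc_i_rc_16_1 lc_i_rc_29_1 lc_i_rc_23_1 lc_i_rc_43_1 lc_i_rc_8_1 lc_i_rc_16_1 lc_i_rc_16_1 lc_i_rc_29_1 lc_i_Cert_tree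 lc_i_rc_23_1 lc_i_rc_8_1 lc_i_rc_16_1 lc_i_rc_16_1 lc_i_rc_29_1) (@D3.rec (fun _ => (Cert rels S Gen.i)) lc_i_rc_36_3 lc_i_rc_23_1 lc_i_rc_8_1 lc_i_rc_8_1 lc_i_rc_23_1 lc_i_rc_16_1 lc_i_rc_16_1 lc_i_rc_34_1 lc_i_rc_29_1 lc_i_rc_8_1 lc_i_rc_8_1 lc_i_rc_23_1 lc_i_rc_16_1 lc_i_Cert_tree lc_i_rc_16_1 lc_i_rc_29_1 lc_i_Cert_tree lc_i_rc_44_0 lc_i_rc_8_1 lc_i_rc_8_1 lc_i_Cert_tree lc_i_Cert_tree lc_i_rc_44_0 lc_i_rc_8_1 lc_i_rc_16_1 lc_i_rc_8_1 lc_i_rc_16_1 lc_i_rc_16_1 lc_i_rc_8_1 lc_i_rc_34_1 lc_i_rc_8_1 lc_i_rc_16_1) (@D3.rec (fun _ => (Cert rels S Gen.i)) lc_i_rc_16_1 lc_i_rc_29_1 lc_i_rc_34_1 lc_i_rc_23_1 lc_i_rc_8_1 lc_i_rc_8_1 lc_i_rc_23_1 lc_i_rc_16_1 lc_i_rc_16_1 lc_i_rc_16_1 lc_i_rc_29_1 lc_i_rc_8_1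 lc_i_rc_8_1 lc_i_rc_8_1 lc_i_rc_8_1 lc_i_rc_23_1 lc_i_rc_16_1 lc_i_rc_16_1 lc_i_rc_16_1 lc_i_rc_34_1 lc_i_rc_29_1 lc_i_rc_36_3 lc_i_rc_8_1 lc_i_rc_8_1 lc_i_rc_8_1 lc_i_rc_23_1 lc_i_rc_16_1 lc_i_rc_16_1 lc_i_rc_34_1 lc_i_rc_16_1 lc_i_rc_23_1 lc_i_rc_29_1)
def ce_i_1 : D2 → D3 → (Cert rels S Gen.i) := @D2.rec (fun _ => D3 → (Cert rels S Gen.i)) (@D3.rec (fun _ => (Cert rels S Gen.i)) lc_i_rc_8_1 lc_i_rc_16_1 lc_i_rc_29_1 lc_i_rc_23_1 lc_i_rc_8_1 lc_i_rc_16_1 lc_i_rc_16_1 lc_i_rc_29_1 lc_i_rc_8_1 lc_i_rc_16_1 lc_i_rc_16_1 lc_i_rc_29_1 lc_i_Cert_tree lc_i_rc_8_1 lc_i_rc_23_1 lc_i_rc_34_1 lc_i_rc_16_1 lc_i_rc_23_1 lc_i_rc_29_1 lc_i_rc_8_1 lc_i_rc_16_1 lc_i_rc_29_1 lc_i_rc_23_1 lc_i_rc_34_1 lc_i_rc_8_1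 lc_i_rc_16_1 lc_i_rc_16_1 lc_i_rc_29_1 lc_i_Cert_tree lc_i_rc_43_1 lc_i_rc_23_1 lc_i_rc_36_3) (@D3.rec (fun _ => (Cert rels S Gen.i)) lc_i_rc_16_1 lc_i_rc_23_1 lc_i_rc_40_1 lc_i_rc_8_1 lc_i_rc_16_1 lc_i_rc_29_1 lc_i_rc_23_1 lc_i_rc_43_1 lc_i_rc_8_1 lc_i_rc_16_1 lc_i_rc_29_1 lc_i_rc_23_1 lc_i_rc_43_1 lc_i_rc_8_1 lc_i_rc_16_1 lc_i_rc_16_1 lc_i_rc_29_1 lc_i_Cert_tree lc_i_rc_23_1 lc_i_rc_8_1 lc_i_rc_16_1 lc_i_rc_16_1 lc_i_rc_29_1 lc_i_Cert_tree lc_i_rc_23_1 lc_i_rc_8_1 lc_i_rc_8_1 lc_i_rc_23_1 lc_i_rc_16_1 lc_i_Cert_tree lc_i_rc_16_1 lc_i_rc_34_1) (@D3.rec (fun _ => (Cert rels S Gen.i)) lc_i_rc_29_1 lc_i_rc_43_1 lc_i_rc_44_0 lc_i_rc_8_1 lc_i_rc_8_1 lc_i_rc_23_1 lc_i_rc_16_1 lc_i_Cert_tree lc_i_rc_16_1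 lc_i_rc_34_1 lc_i_rc_29_1 lc_i_Cert_tree lc_i_rc_44_0 lc_i_rc_8_1 lc_i_Cert_tree lc_i_rc_8_1 lc_i_rc_16_1 lc_i_rc_43_1 lc_i_rc_44_0 lc_i_rc_34_1 lc_i_rc_29_1 lc_i_rc_29_1 lc_i_rc_34_1 lc_i_rc_16_1 lc_i_rc_23_1 lc_i_rc_40_1 lc_i_rc_8_1 lc_i_rc_16_1 lc_i_rc_29_1 lc_i_rc_23_1 lc_i_rc_43_1 lc_i_rc_8_1) (@D3.rec (fun _ => (Cert rels S Gen.i)) lc_i_rc_16_1 lc_i_rc_16_1 lc_i_rc_29_1 lc_i_Cert_tree lc_i_rc_23_1 lc_i_rc_8_1 lc_i_rc_16_1 lc_i_rc_16_1 lc_i_rc_29_1 lc_i_Cert_tree lc_i_rc_23_1 lc_i_rc_8_1 lc_i_rc_8_1 lc_i_rc_23_1 lc_i_rc_16_1 lc_i_Cert_tree lc_i_rc_16_1 lc_i_rc_34_1 lc_i_rc_29_1 lc_i_Cert_tree lc_i_rc_44_0 lc_i_rc_8_1 lc_i_rc_8_1 lc_i_rc_23_1 lc_i_rc_16_1 lc_i_rc_16_1 lc_i_rc_16_1 lc_i_rc_34_1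 lc_i_rc_29_1 lc_i_rc_36_3 lc_i_rc_8_1 lc_i_rc_8_1) (@D3.rec (fun _ => (Cert rels S Gen.i)) lc_i_rc_8_1 lc_i_rc_23_1 lc_i_rc_16_1 lc_i_rc_16_1 lc_i_rc_34_1 lc_i_rc_8_1 lc_i_rc_8_1 lc_i_Cert_tree lc_i_rc_8_1 lc_i_rc_23_1 lc_i_Cert_tree lc_i_rc_16_1 lc_i_Cert_tree lc_i_rc_44_0 lc_i_Cert_tree lc_i_rc_44_0 lc_i_rc_16_1 lc_i_Cert_tree lc_i_rc_44_0 lc_i_Cert_tree lc_i_rc_44_0 lc_i_rc_8_1 lc_i_rc_23_1 lc_i_rc_8_1 lc_i_rc_8_1 lc_i_rc_23_1 lc_i_rc_16_1 lc_i_rc_34_1 lc_i_rc_34_1 lc_i_rc_34_1 lc_i_rc_8_1 lc_i_rc_8_1) (@D3.rec (fun _ => (Cert rels S Gen.i)) lc_i_rc_23_1 lc_i_rc_16_1 lc_i_rc_34_1 lc_i_rc_16_1 lc_i_rc_29_1 lc_i_rc_8_1 lc_i_rc_8_1 lc_i_rc_8_1 lc_i_rc_8_1 lc_i_rc_23_1 lc_i_rc_23_1 lc_i_rc_16_1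 lc_i_rc_8_1 lc_i_rc_8_1 lc_i_rc_8_1 lc_i_rc_8_1 lc_i_rc_23_1 lc_i_rc_23_1 lc_i_rc_16_1 lc_i_rc_16_1 lc_i_rc_16_1 lc_i_rc_34_1 lc_i_rc_36_3 lc_i_rc_36_3 lc_i_rc_16_1 lc_i_rc_8_1 lc_i_rc_8_1 lc_i_rc_8_1 lc_i_rc_23_1 lc_i_rc_23_1 lc_i_rc_16_1 lc_i_rc_40_1) (@D3.rec (fun _ => (Cert rels S Gen.i)) lc_i_rc_34_3 lc_i_rc_16_1 lc_i_rc_23_1 lc_i_rc_23_1 lc_i_rc_8_1 lc_i_rc_16_1 lc_i_rc_16_1 lc_i_rc_29_1 lc_i_Cert_tree lc_i_rc_8_1 lc_i_rc_8_1 lc_i_rc_23_1 lc_i_rc_16_1 lc_i_rc_34_1 lc_i_rc_8_1 lc_i_rc_8_1 lc_i_rc_23_1 lc_i_rc_16_1 lc_i_Cert_tree lc_i_Cert_tree lc_i_rc_44_0 lc_i_rc_16_1 lc_i_rc_23_1 lc_i_rc_36_3 lc_i_rc_34_3 lc_i_rc_16_1 lc_i_rc_23_1 lc_i_rc_23_1 lc_i_rc_29_1 lc_i_rc_8_1 lc_i_rc_16_1 lc_i_rc_16_1)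 (@D3.rec (fun _ => (Cert rels S Gen.i)) lc_i_rc_29_1 lc_i_Cert_tree lc_i_rc_34_1 lc_i_rc_8_1 lc_i_rc_8_1 lc_i_rc_23_1 lc_i_rc_16_1 lc_i_Cert_tree lc_i_rc_43_1 lc_i_rc_34_1 lc_i_rc_43_1 lc_i_Cert_tree lc_i_rc_44_0 lc_i_rc_16_1 lc_i_rc_23_1 lc_i_rc_40_1 lc_i_rc_8_1 lc_i_rc_16_1 lc_i_rc_29_1 lc_i_rc_23_1 lc_i_rc_43_1 lc_i_rc_8_1 lc_i_rc_16_1 lc_i_rc_16_1 lc_i_rc_29_1 lc_i_Cert_tree lc_i_rc_23_1 lc_i_rc_8_1 lc_i_rc_16_1 lc_i_rc_16_1 lc_i_rc_29_1 lc_i_Cert_tree) (@D3.rec (fun _ => (Cert rels S Gen.i)) lc_i_rc_23_1 lc_i_rc_8_1 lc_i_rc_8_1 lc_i_rc_23_1 lc_i_rc_16_1 lc_i_Cert_tree lc_i_rc_16_1 lc_i_rc_34_1 lc_i_rc_29_1 lc_i_Cert_tree lc_i_rc_44_0 lc_i_rc_8_1 lc_i_rc_8_1 lc_i_rc_23_1 lc_i_rc_16_1 lc_i_Cert_tree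 lc_i_rc_16_1 lc_i_rc_34_1 lc_i_rc_29_1 lc_i_rc_36_3 lc_i_rc_44_0 lc_i_rc_8_1 lc_i_rc_8_1 lc_i_Cert_tree lc_i_rc_8_1 lc_i_rc_23_1 lc_i_Cert_tree lc_i_rc_16_1 lc_i_rc_16_1 lc_i_rc_43_1 lc_i_rc_44_0 lc_i_rc_34_1) (@D3.rec (fun _ => (Cert rels S Gen.i)) lc_i_rc_34_1 lc_i_rc_8_1 lc_i_rc_8_1 lc_i_Cert_tree lc_i_rc_8_1 lc_i_rc_23_1 lc_i_Cert_tree lc_i_rc_16_1 lc_i_rc_16_1 lc_i_Cert_tree lc_i_rc_44_0 lc_i_Cert_tree lc_i_Cert_tree lc_i_rc_44_0 lc_i_rc_8_1 lc_i_rc_8_1 lc_i_rc_44_0 lc_i_rc_34_1 lc_i_rc_8_3 lc_i_rc_29_3 lc_i_rc_16_1 lc_i_rc_34_1 lc_i_rc_40_1 lc_i_rc_8_1 lc_i_rc_16_1 lc_i_rc_29_1 lc_i_rc_23_1 lc_i_rc_43_1 lc_i_rc_8_1 lc_i_rc_16_1 lc_i_rc_16_1 lc_i_rc_29_1) (@D3.rec (fun _ => (Cert rels S Gen.i))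 lc_i_Cert_tree lc_i_rc_23_1 lc_i_rc_8_1 lc_i_rc_8_1 lc_i_rc_23_1 lc_i_rc_16_1 lc_i_Cert_tree lc_i_rc_16_1 lc_i_rc_34_1 lc_i_rc_29_1 lc_i_Cert_tree lc_i_rc_44_0 lc_i_rc_8_1 lc_i_rc_8_1 lc_i_rc_23_1 lc_i_rc_16_1 lc_i_Cert_tree lc_i_rc_16_1 lc_i_rc_34_1 lc_i_rc_29_1 lc_i_rc_34_1 lc_i_rc_44_0 lc_i_rc_8_1 lc_i_rc_8_1 lc_i_Cert_tree lc_i_rc_8_1 lc_i_rc_23_1 lc_i_Cert_tree lc_i_rc_16_1 lc_i_rc_16_1 lc_i_Cert_tree lc_i_rc_44_0) (@D3.rec (fun _ => (Cert rels S Gen.i)) lc_i_rc_29_3 lc_i_rc_36_1 lc_i_rc_36_1 lc_i_rc_44_0 lc_i_rc_8_1 lc_i_rc_8_1 lc_i_rc_8_1 lc_i_rc_8_1 lc_i_rc_23_1 lc_i_rc_23_1 lc_i_rc_16_1 lc_i_rc_16_1 lc_i_rc_16_1 lc_i_rc_34_1 lc_i_rc_36_3 lc_i_rc_36_3 lc_i_rc_16_1 lc_i_rc_8_1 lc_i_rc_8_1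 lc_i_rc_8_1 lc_i_rc_23_1 lc_i_rc_23_1 lc_i_rc_16_1 lc_i_rc_34_3 lc_i_rc_16_1 lc_i_rc_8_1 lc_i_Cert_tree lc_i_rc_8_1 lc_i_Cert_tree lc_i_rc_44_0 lc_i_rc_23_1 lc_i_Cert_tree) (@D3.rec (fun _ => (Cert rels S Gen.i)) lc_i_Cert_tree lc_i_rc_44_0 lc_i_Cert_tree lc_i_rc_44_0 lc_i_rc_44_0 lc_i_Cert_tree lc_i_Cert_tree lc_i_rc_44_0 lc_i_Cert_tree lc_i_rc_44_0 lc_i_rc_8_1 lc_i_rc_8_1 lc_i_rc_8_1 lc_i_rc_8_3 lc_i_rc_23_1 lc_i_rc_34_1 lc_i_rc_34_1 lc_i_rc_34_1 lc_i_rc_8_1 lc_i_rc_8_1 lc_i_rc_8_1 lc_i_rc_8_1 lc_i_rc_23_1 lc_i_rc_34_1 lc_i_rc_16_1 lc_i_rc_16_1 lc_i_rc_8_1 lc_i_rc_8_1 lc_i_rc_8_1 lc_i_rc_23_1 lc_i_rc_16_1 lc_i_rc_8_1) (@D3.rec (fun _ => (Cert rels S Gen.i)) lc_i_rc_8_1 lc_i_rc_8_1 lc_i_rc_8_1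 lc_i_rc_8_1 lc_i_rc_23_1 lc_i_rc_23_1 lc_i_rc_23_1 lc_i_rc_29_1 lc_i_rc_16_1 lc_i_rc_16_1 lc_i_rc_16_1 lc_i_rc_40_1 lc_i_rc_36_3 lc_i_rc_29_1 lc_i_rc_16_1 lc_i_rc_8_1 lc_i_rc_8_1 lc_i_rc_8_1 lc_i_rc_29_1 lc_i_rc_23_1 lc_i_rc_16_1 lc_i_rc_29_3 lc_i_rc_16_1 lc_i_rc_16_1 lc_i_rc_23_1 lc_i_Cert_tree lc_i_rc_8_1 lc_i_rc_8_1 lc_i_rc_23_1 lc_i_rc_16_1 lc_i_Cert_tree lc_i_rc_34_1) (@D3.rec (fun _ => (Cert rels S Gen.i)) lc_i_Cert_tree lc_i_rc_44_0 lc_i_rc_8_1 lc_i_rc_8_1 lc_i_rc_23_1 lc_i_rc_16_1 lc_i_rc_8_1 lc_i_rc_8_1 lc_i_Cert_tree lc_i_rc_23_1 lc_i_Cert_tree lc_i_Cert_tree lc_i_rc_44_0 lc_i_rc_44_0 lc_i_rc_36_3 lc_i_rc_16_1 lc_i_rc_29_1 lc_i_rc_23_1 lc_i_rc_43_1 lc_i_rc_29_3 lc_i_rc_16_1 lc_i_rc_16_1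 lc_i_rc_23_1 lc_i_Cert_tree lc_i_rc_29_3 lc_i_rc_8_1 lc_i_rc_8_1 lc_i_rc_23_1 lc_i_rc_16_1 lc_i_Cert_tree lc_i_rc_34_1 lc_i_rc_34_1) (@D3.rec (fun _ => (Cert rels S Gen.i)) lc_i_rc_8_1 lc_i_Cert_tree lc_i_rc_44_0 lc_i_rc_8_1 lc_i_rc_8_1 lc_i_Cert_tree lc_i_rc_8_1 lc_i_rc_23_1 lc_i_Cert_tree lc_i_rc_16_1 lc_i_rc_43_1 lc_i_Cert_tree lc_i_rc_44_0 lc_i_rc_34_1 lc_i_rc_34_3 lc_i_rc_36_1 lc_i_rc_44_0 lc_i_rc_8_1 lc_i_rc_16_1 lc_i_rc_29_1 lc_i_rc_23_1 lc_i_rc_43_1 lc_i_rc_8_1 lc_i_rc_16_1 lc_i_rc_16_1 lc_i_rc_29_1 lc_i_Cert_tree lc_i_rc_23_1 lc_i_rc_8_1 lc_i_rc_8_1 lc_i_rc_23_1 lc_i_rc_16_1) (@D3.rec (fun _ => (Cert rels S Gen.i)) lc_i_Cert_tree lc_i_rc_16_1 lc_i_rc_34_1 lc_i_rc_29_1 lc_i_Cert_tree lc_i_rc_44_0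 lc_i_rc_8_1 lc_i_rc_8_1 lc_i_rc_23_1 lc_i_rc_16_1 lc_i_Cert_tree lc_i_rc_16_1 lc_i_rc_34_1 lc_i_rc_29_1 lc_i_Cert_tree lc_i_rc_44_0 lc_i_rc_8_1 lc_i_rc_8_1 lc_i_Cert_tree lc_i_rc_8_1 lc_i_rc_23_1 lc_i_Cert_tree lc_i_rc_16_1 lc_i_rc_16_1 lc_i_Cert_tree lc_i_rc_44_0 lc_i_rc_34_1 lc_i_Cert_tree lc_i_Cert_tree lc_i_rc_44_0 lc_i_rc_8_1 lc_i_rc_8_1) (@D3.rec (fun _ => (Cert rels S Gen.i)) lc_i_Cert_tree lc_i_rc_8_1 lc_i_rc_23_1 lc_i_Cert_tree lc_i_rc_16_1 lc_i_rc_16_1 lc_i_rc_36_3 lc_i_rc_44_0 lc_i_rc_34_1 lc_i_rc_36_3 lc_i_rc_16_1 lc_i_rc_8_1 lc_i_Cert_tree lc_i_rc_8_1 lc_i_rc_8_1 lc_i_rc_8_1 lc_i_rc_44_0 lc_i_rc_23_1 lc_i_rc_23_1 lc_i_rc_43_1 lc_i_rc_44_0 lc_i_rc_16_1 lc_i_rc_34_1 lc_i_rc_43_1 lc_i_rc_16_1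 lc_i_rc_8_1 lc_i_Cert_tree lc_i_rc_8_1 lc_i_rc_8_1 lc_i_Cert_tree lc_i_rc_44_0 lc_i_rc_23_1) (@D3.rec (fun _ => (Cert rels S Gen.i)) lc_i_rc_23_1 lc_i_Cert_tree lc_i_Cert_tree lc_i_rc_44_0 lc_i_Cert_tree lc_i_Cert_tree lc_i_rc_44_0 lc_i_Cert_tree lc_i_rc_44_0 lc_i_rc_44_0 lc_i_rc_34_1 lc_i_rc_43_1 lc_i_rc_16_3 lc_i_rc_29_3 lc_i_rc_8_1 lc_i_rc_16_1 lc_i_rc_34_1 lc_i_rc_40_1 lc_i_rc_43_1 lc_i_rc_8_1 lc_i_rc_16_1 lc_i_rc_16_1 lc_i_rc_29_1 lc_i_rc_34_1 lc_i_rc_23_1 lc_i_rc_8_1 lc_i_rc_8_1 lc_i_rc_23_1 lc_i_rc_16_1 lc_i_Cert_tree lc_i_rc_16_1 lc_i_rc_34_1) (@D3.rec (fun _ => (Cert rels S Gen.i)) lc_i_rc_29_1 lc_i_rc_29_1 lc_i_rc_44_0 lc_i_rc_8_1 lc_i_rc_8_1 lc_i_Cert_tree lc_i_rc_8_1 lc_i_rc_23_1 lc_i_Cert_tree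 lc_i_rc_16_1 lc_i_rc_16_1 lc_i_Cert_tree lc_i_rc_44_0 lc_i_rc_34_1 lc_i_rc_36_1 lc_i_rc_36_1 lc_i_rc_44_0 lc_i_rc_8_1 lc_i_rc_8_1 lc_i_Cert_tree lc_i_rc_8_1 lc_i_rc_23_1 lc_i_Cert_tree lc_i_rc_16_1 lc_i_rc_16_1 lc_i_rc_34_1 lc_i_rc_44_0 lc_i_rc_16_1 lc_i_rc_8_1 lc_i_Cert_tree lc_i_rc_8_1 lc_i_rc_8_1) (@D3.rec (fun _ => (Cert rels S Gen.i)) lc_i_Cert_tree lc_i_rc_44_0 lc_i_rc_23_1 lc_i_rc_23_1 lc_i_Cert_tree lc_i_Cert_tree lc_i_rc_44_0 lc_i_rc_29_3 lc_i_rc_36_1 lc_i_rc_36_1 lc_i_rc_44_0 lc_i_rc_16_1 lc_i_rc_8_1 lc_i_rc_8_1 lc_i_rc_8_1 lc_i_rc_8_1 lc_i_rc_8_1 lc_i_rc_23_1 lc_i_rc_23_1 lc_i_rc_23_1 lc_i_rc_29_1 lc_i_rc_16_1 lc_i_rc_16_1 lc_i_rc_16_1 lc_i_rc_16_1 lc_i_rc_8_1 lc_i_rc_8_1 lc_i_rc_8_1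 lc_i_rc_29_1 lc_i_rc_23_1 lc_i_rc_34_3 lc_i_rc_16_1) (@D3.rec (fun _ => (Cert rels S Gen.i)) lc_i_Cert_tree lc_i_rc_8_1 lc_i_Cert_tree lc_i_Cert_tree lc_i_rc_44_0 lc_i_Cert_tree lc_i_rc_44_0 lc_i_Cert_tree lc_i_Cert_tree lc_i_rc_44_0 lc_i_Cert_tree lc_i_rc_44_0 lc_i_rc_44_0 lc_i_Cert_tree lc_i_rc_44_0 lc_i_Cert_tree lc_i_rc_44_0 lc_i_Cert_tree lc_i_rc_44_0 lc_i_rc_36_3 lc_i_rc_16_1 lc_i_rc_16_1 lc_i_rc_8_1 lc_i_rc_8_3 lc_i_rc_8_1 lc_i_rc_8_1 lc_i_rc_34_1 lc_i_rc_34_1 lc_i_rc_16_3 lc_i_rc_16_1 lc_i_rc_8_1 lc_i_rc_8_1)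
def ce_i_2 : D2 → D3 → (Cert rels S Gen.i) := @D2.rec (fun _ => D3 → (Cert rels S Gen.i)) (@D3.rec (fun _ => (Cert rels S Gen.i)) lc_i_rc_8_1 lc_i_rc_23_1 lc_i_rc_45_62 lc_i_rc_16_1 lc_i_rc_16_1 lc_i_rc_8_1 lc_i_rc_16_1 lc_i_rc_16_1 lc_i_rc_8_1 lc_i_rc_8_1 lc_i_rc_8_1 lc_i_rc_8_1 lc_i_rc_8_1 lc_i_rc_8_1 lc_i_rc_8_1 lc_i_rc_29_1 lc_i_rc_23_1 lc_i_rc_23_1 lc_i_rc_23_1 lc_i_rc_29_1 lc_i_rc_34_1 lc_i_rc_16_1 lc_i_rc_16_1 lc_i_rc_29_1 lc_i_rc_16_1 lc_i_rc_16_1 lc_i_rc_8_1 lc_i_rc_8_1 lc_i_rc_8_1 lc_i_rc_29_1 lc_i_rc_23_1 lc_i_rc_16_3) (@D3.rec (fun _ => (Cert rels S Gen.i)) lc_i_rc_34_3 lc_i_rc_16_1 lc_i_rc_16_1 lc_i_Cert_tree lc_i_rc_23_1 lc_i_Cert_tree lc_i_rc_44_0 lc_i_rc_8_1 lc_i_rc_8_1 lc_i_Cert_tree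 lc_i_rc_23_1 lc_i_Cert_tree lc_i_rc_16_1 lc_i_Cert_tree lc_i_rc_44_0 lc_i_Cert_tree lc_i_rc_44_0 lc_i_rc_16_1 lc_i_rc_8_1 lc_i_rc_8_1 lc_i_rc_23_1 lc_i_rc_16_1 lc_i_rc_8_1 lc_i_Cert_tree lc_i_Cert_tree lc_i_rc_44_0 lc_i_Cert_tree lc_i_Cert_tree lc_i_rc_44_0 lc_i_rc_44_0 lc_i_rc_36_3 lc_i_rc_16_1) (@D3.rec (fun _ => (Cert rels S Gen.i)) lc_i_rc_16_1 lc_i_rc_29_1 lc_i_Cert_tree lc_i_rc_23_1 lc_i_rc_16_1 lc_i_rc_29_3 lc_i_rc_16_1 lc_i_rc_16_1 lc_i_Cert_tree lc_i_rc_29_3 lc_i_rc_23_1 lc_i_rc_16_3 lc_i_Cert_tree lc_i_rc_44_0 lc_i_rc_8_1 lc_i_rc_8_1 lc_i_Cert_tree lc_i_rc_34_1 lc_i_rc_23_1 lc_i_Cert_tree lc_i_rc_16_1 lc_i_rc_43_1 lc_i_Cert_tree lc_i_rc_44_0 lc_i_rc_43_1 lc_i_Cert_tree lc_i_Cert_tree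 lc_i_rc_44_0 lc_i_rc_16_1 lc_i_rc_8_1 lc_i_Cert_tree lc_i_rc_8_1) (@D3.rec (fun _ => (Cert rels S Gen.i)) lc_i_rc_8_1 lc_i_Cert_tree lc_i_rc_44_0 lc_i_rc_23_1 lc_i_rc_43_1 lc_i_Cert_tree lc_i_Cert_tree lc_i_rc_44_0 lc_i_rc_34_1 lc_i_rc_34_3 lc_i_rc_36_1 lc_i_rc_44_0 lc_i_rc_34_1 lc_i_rc_36_1 lc_i_rc_43_3 lc_i_rc_8_1 lc_i_rc_16_1 lc_i_rc_16_1 lc_i_rc_29_1 lc_i_Cert_tree lc_i_rc_23_1 lc_i_rc_8_1 lc_i_rc_8_1 lc_i_rc_23_1 lc_i_rc_16_1 lc_i_Cert_tree lc_i_rc_16_1 lc_i_rc_34_1 lc_i_rc_29_1 lc_i_Cert_tree lc_i_rc_44_0 lc_i_rc_8_1) (@D3.rec (fun _ => (Cert rels S Gen.i)) lc_i_rc_8_1 lc_i_Cert_tree lc_i_rc_8_1 lc_i_rc_23_1 lc_i_Cert_tree lc_i_rc_16_1 lc_i_rc_16_1 lc_i_Cert_tree lc_i_rc_44_0 lc_i_rc_34_1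 lc_i_Cert_tree lc_i_Cert_tree lc_i_rc_44_0 lc_i_rc_8_1 lc_i_rc_8_1 lc_i_Cert_tree lc_i_rc_8_1 lc_i_rc_23_1 lc_i_Cert_tree lc_i_rc_16_1 lc_i_rc_16_1 lc_i_Cert_tree lc_i_rc_44_0 lc_i_rc_34_1 lc_i_Cert_tree lc_i_Cert_tree lc_i_rc_44_0 lc_i_rc_16_1 lc_i_rc_8_1 lc_i_Cert_tree lc_i_rc_8_1 lc_i_rc_8_1) (@D3.rec (fun _ => (Cert rels S Gen.i)) lc_i_Cert_tree lc_i_rc_44_0 lc_i_rc_23_1 lc_i_rc_23_1 lc_i_Cert_tree lc_i_Cert_tree lc_i_rc_44_0 lc_i_rc_16_1 lc_i_Cert_tree lc_i_Cert_tree lc_i_rc_44_0 lc_i_rc_40_1 lc_i_Cert_tree lc_i_Cert_tree lc_i_rc_44_0 lc_i_rc_44_0 lc_i_rc_16_1 lc_i_rc_8_1 lc_i_Cert_tree lc_i_rc_8_1 lc_i_rc_8_1 lc_i_rc_36_3 lc_i_rc_44_0 lc_i_rc_23_1 lc_i_rc_23_1 lc_i_rc_36_3 lc_i_Cert_tree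 lc_i_rc_44_0 lc_i_rc_16_1 lc_i_rc_36_3 lc_i_rc_16_1 lc_i_Cert_tree) (@D3.rec (fun _ => (Cert rels S Gen.i)) lc_i_rc_8_1 lc_i_rc_8_1 lc_i_rc_8_1 lc_i_rc_44_0 lc_i_rc_8_1 lc_i_rc_34_1 lc_i_rc_29_1 lc_i_rc_23_1 lc_i_rc_34_1 lc_i_rc_43_1 lc_i_rc_8_3 lc_i_rc_16_1 lc_i_Cert_tree lc_i_rc_8_1 lc_i_rc_8_1 lc_i_Cert_tree lc_i_Cert_tree lc_i_rc_44_0 lc_i_Cert_tree lc_i_Cert_tree lc_i_rc_44_0 lc_i_Cert_tree lc_i_Cert_tree lc_i_Cert_tree lc_i_rc_44_0 lc_i_Cert_tree lc_i_rc_44_0 lc_i_Cert_tree lc_i_rc_44_0 lc_i_rc_44_0 lc_i_Cert_tree lc_i_rc_44_0) (@D3.rec (fun _ => (Cert rels S Gen.i)) lc_i_rc_40_3 lc_i_rc_43_1 lc_i_rc_43_1 lc_i_rc_16_3 lc_i_rc_8_1 lc_i_rc_16_1 lc_i_rc_16_1 lc_i_rc_8_1 lc_i_rc_8_1 lc_i_rc_23_1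 lc_i_rc_16_1 lc_i_rc_34_1 lc_i_rc_16_1 lc_i_rc_8_1 lc_i_rc_8_1 lc_i_Cert_tree lc_i_rc_8_1 lc_i_rc_23_1 lc_i_Cert_tree lc_i_rc_16_1 lc_i_rc_16_1 lc_i_rc_29_1 lc_i_rc_44_0 lc_i_rc_16_1 lc_i_rc_8_1 lc_i_Cert_tree lc_i_rc_8_1 lc_i_rc_8_1 lc_i_Cert_tree lc_i_rc_44_0 lc_i_rc_23_1 lc_i_rc_23_1) (@D3.rec (fun _ => (Cert rels S Gen.i)) lc_i_Cert_tree lc_i_Cert_tree lc_i_rc_44_0 lc_i_rc_34_1 lc_i_rc_36_1 lc_i_rc_36_1 lc_i_rc_44_0 lc_i_rc_16_1 lc_i_rc_8_1 lc_i_Cert_tree lc_i_rc_8_1 lc_i_rc_8_1 lc_i_rc_34_1 lc_i_rc_44_0 lc_i_rc_23_1 lc_i_rc_23_1 lc_i_rc_34_1 lc_i_Cert_tree lc_i_rc_44_0 lc_i_rc_16_1 lc_i_Cert_tree lc_i_rc_8_1 lc_i_rc_8_1 lc_i_Cert_tree lc_i_Cert_tree lc_i_rc_44_0 lc_i_rc_29_3 lc_i_rc_36_1 lc_i_rc_36_1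 lc_i_rc_44_0 lc_i_rc_29_1 lc_i_rc_29_3) (@D3.rec (fun _ => (Cert rels S Gen.i)) lc_i_rc_36_1 lc_i_rc_36_1 lc_i_Cert_tree lc_i_rc_44_0 lc_i_Cert_tree lc_i_rc_44_0 lc_i_rc_16_1 lc_i_rc_16_1 lc_i_rc_8_1 lc_i_rc_8_1 lc_i_rc_8_1 lc_i_rc_8_1 lc_i_rc_8_1 lc_i_rc_8_1 lc_i_rc_8_1 lc_i_rc_29_1 lc_i_rc_23_1 lc_i_rc_23_1 lc_i_rc_23_1 lc_i_rc_29_1 lc_i_rc_34_1 lc_i_rc_16_1 lc_i_rc_16_1 lc_i_rc_8_1 lc_i_rc_8_1 lc_i_rc_34_3 lc_i_rc_29_1 lc_i_Cert_tree lc_i_rc_34_3 lc_i_rc_16_1 lc_i_Cert_tree lc_i_Cert_tree) (@D3.rec (fun _ => (Cert rels S Gen.i)) lc_i_rc_44_0 lc_i_Cert_tree lc_i_Cert_tree lc_i_rc_44_0 lc_i_Cert_tree lc_i_rc_44_0 lc_i_rc_44_0 lc_i_Cert_tree lc_i_rc_44_0 lc_i_Cert_tree lc_i_rc_44_0 lc_i_Cert_tree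 lc_i_rc_44_0 lc_i_rc_36_3 lc_i_Cert_tree lc_i_Cert_tree lc_i_rc_44_0 lc_i_Cert_tree lc_i_rc_44_0 lc_i_rc_8_1 lc_i_Cert_tree lc_i_rc_44_0 lc_i_rc_36_3 lc_i_rc_16_1 lc_i_rc_16_3 lc_i_rc_8_1 lc_i_rc_8_1 lc_i_rc_8_3 lc_i_rc_45_35 lc_i_rc_16_1 lc_i_rc_16_1 lc_i_rc_16_1) (@D3.rec (fun _ => (Cert rels S Gen.i)) lc_i_rc_8_1 lc_i_rc_23_3 lc_i_rc_16_1 lc_i_rc_16_1 lc_i_rc_16_1 lc_i_rc_16_1 lc_i_rc_16_1 lc_i_rc_8_1 lc_i_rc_8_1 lc_i_rc_8_1 lc_i_rc_8_1 lc_i_rc_8_1 lc_i_rc_8_1 lc_i_rc_8_1 lc_i_rc_8_1 lc_i_rc_8_1 lc_i_rc_29_1 lc_i_rc_23_1 lc_i_rc_23_1 lc_i_rc_29_1 lc_i_rc_16_1 lc_i_rc_16_1 lc_i_rc_8_1 lc_i_rc_8_1 lc_i_rc_29_1 lc_i_rc_23_1 lc_i_rc_16_3 lc_i_Cert_tree lc_i_rc_16_1 lc_i_Cert_tree lc_i_rc_16_1 lc_i_Cert_tree)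 (@D3.rec (fun _ => (Cert rels S Gen.i)) lc_i_rc_44_0 lc_i_Cert_tree lc_i_rc_44_0 lc_i_rc_16_1 lc_i_rc_8_1 lc_i_Cert_tree lc_i_rc_8_1 lc_i_Cert_tree lc_i_rc_44_0 lc_i_rc_23_1 lc_i_Cert_tree lc_i_Cert_tree lc_i_rc_44_0 lc_i_Cert_tree lc_i_rc_44_0 lc_i_rc_44_0 lc_i_rc_16_1 lc_i_rc_8_1 lc_i_rc_29_1 lc_i_rc_16_1 lc_i_Cert_tree lc_i_Cert_tree lc_i_Cert_tree lc_i_rc_44_0 lc_i_rc_44_0 lc_i_Cert_tree lc_i_rc_44_0 lc_i_Cert_tree lc_i_rc_44_0 lc_i_rc_8_1 lc_i_rc_36_3 lc_i_rc_23_1) (@D3.rec (fun _ => (Cert rels S Gen.i)) lc_i_rc_16_1 lc_i_Cert_tree lc_i_rc_16_1 lc_i_rc_34_1 lc_i_rc_29_1 lc_i_Cert_tree lc_i_rc_44_0 lc_i_rc_23_1 lc_i_rc_34_3 lc_i_Cert_tree lc_i_rc_16_1 lc_i_rc_16_1 lc_i_Cert_tree lc_i_rc_16_1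 lc_i_rc_43_1 lc_i_Cert_tree lc_i_rc_44_0 lc_i_rc_8_1 lc_i_Cert_tree lc_i_Cert_tree lc_i_rc_44_0 lc_i_rc_16_1 lc_i_rc_8_1 lc_i_Cert_tree lc_i_rc_8_1 lc_i_rc_34_3 lc_i_Cert_tree lc_i_rc_44_0 lc_i_rc_23_1 lc_i_rc_43_1 lc_i_Cert_tree lc_i_Cert_tree) (@D3.rec (fun _ => (Cert rels S Gen.i)) lc_i_rc_44_0 lc_i_rc_43_1 lc_i_Cert_tree lc_i_Cert_tree lc_i_rc_44_0 lc_i_rc_43_3 lc_i_Cert_tree lc_i_Cert_tree lc_i_rc_44_0 lc_i_rc_44_0 lc_i_rc_16_1 lc_i_Cert_tree lc_i_rc_8_1 lc_i_rc_8_1 lc_i_Cert_tree lc_i_Cert_tree lc_i_rc_44_0 lc_i_rc_16_1 lc_i_rc_34_3 lc_i_rc_36_1 lc_i_rc_44_0 lc_i_rc_29_1 lc_i_rc_34_1 lc_i_rc_34_3 lc_i_rc_36_1 lc_i_Cert_tree lc_i_rc_44_0 lc_i_rc_44_0 lc_i_rc_34_1 lc_i_rc_36_1 lc_i_rc_43_3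 lc_i_rc_40_1) (@D3.rec (fun _ => (Cert rels S Gen.i)) lc_i_rc_23_1 lc_i_rc_8_1 lc_i_rc_8_1 lc_i_rc_23_1 lc_i_rc_16_1 lc_i_Cert_tree lc_i_rc_16_1 lc_i_rc_34_1 lc_i_rc_29_1 lc_i_Cert_tree lc_i_rc_44_0 lc_i_rc_8_1 lc_i_rc_8_1 lc_i_Cert_tree lc_i_rc_8_1 lc_i_rc_23_1 lc_i_Cert_tree lc_i_rc_16_1 lc_i_rc_16_1 lc_i_Cert_tree lc_i_rc_44_0 lc_i_rc_34_1 lc_i_Cert_tree lc_i_Cert_tree lc_i_rc_44_0 lc_i_rc_16_1 lc_i_rc_8_1 lc_i_Cert_tree lc_i_rc_8_1 lc_i_rc_8_1 lc_i_Cert_tree lc_i_rc_44_0) (@D3.rec (fun _ => (Cert rels S Gen.i)) lc_i_rc_23_1 lc_i_rc_23_1 lc_i_Cert_tree lc_i_Cert_tree lc_i_rc_44_0 lc_i_rc_16_1 lc_i_Cert_tree lc_i_Cert_tree lc_i_rc_44_0 lc_i_rc_23_1 lc_i_Cert_tree lc_i_Cert_tree lc_i_rc_44_0 lc_i_rc_44_0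 lc_i_rc_16_1 lc_i_rc_8_1 lc_i_Cert_tree lc_i_rc_8_1 lc_i_rc_8_1 lc_i_Cert_tree lc_i_rc_44_0 lc_i_rc_23_1 lc_i_rc_23_1 lc_i_Cert_tree lc_i_Cert_tree lc_i_rc_44_0 lc_i_rc_16_1 lc_i_Cert_tree lc_i_Cert_tree lc_i_rc_44_0 lc_i_Cert_tree lc_i_Cert_tree) (@D3.rec (fun _ => (Cert rels S Gen.i)) lc_i_rc_44_0 lc_i_rc_44_0 lc_i_rc_16_1 lc_i_Cert_tree lc_i_rc_8_1 lc_i_rc_8_1 lc_i_Cert_tree lc_i_Cert_tree lc_i_rc_44_0 lc_i_rc_8_1 lc_i_Cert_tree lc_i_Cert_tree lc_i_rc_44_0 lc_i_rc_29_1 lc_i_rc_23_1 lc_i_Cert_tree lc_i_Cert_tree lc_i_Cert_tree lc_i_rc_44_0 lc_i_Cert_tree lc_i_rc_44_0 lc_i_rc_40_1 lc_i_Cert_tree lc_i_Cert_tree lc_i_rc_44_0 lc_i_rc_44_0 lc_i_rc_44_0 lc_i_Cert_tree lc_i_rc_44_0 lc_i_rc_16_1 lc_i_Cert_tree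 lc_i_rc_8_1) (@D3.rec (fun _ => (Cert rels S Gen.i)) lc_i_rc_8_1 lc_i_rc_36_3 lc_i_Cert_tree lc_i_rc_44_0 lc_i_rc_8_1 lc_i_rc_36_3 lc_i_rc_29_1 lc_i_rc_23_1 lc_i_rc_36_3 lc_i_rc_40_3 lc_i_rc_44_0 lc_i_rc_16_1 lc_i_rc_16_1 lc_i_rc_16_1 lc_i_rc_44_0 lc_i_rc_8_1 lc_i_rc_8_1 lc_i_rc_23_1 lc_i_rc_29_1 lc_i_rc_29_1 lc_i_Cert_tree lc_i_rc_43_1 lc_i_rc_43_1 lc_i_rc_43_1 lc_i_rc_16_1 lc_i_rc_16_1 lc_i_Cert_tree lc_i_Cert_tree lc_i_rc_44_0 lc_i_Cert_tree lc_i_Cert_tree lc_i_Cert_tree) (@D3.rec (fun _ => (Cert rels S Gen.i)) lc_i_rc_44_0 lc_i_Cert_tree lc_i_rc_44_0 lc_i_Cert_tree lc_i_rc_44_0 lc_i_rc_44_0 lc_i_Cert_tree lc_i_rc_44_0 lc_i_Cert_tree lc_i_rc_44_0 lc_i_Cert_tree lc_i_rc_44_0 lc_i_Cert_tree lc_i_rc_44_0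 lc_i_rc_36_3 lc_i_Cert_tree lc_i_rc_44_0 lc_i_Cert_tree lc_i_rc_44_0 lc_i_rc_8_1 lc_i_rc_43_1 lc_i_rc_43_1 lc_i_rc_8_1 lc_i_rc_8_1 lc_i_rc_23_1 lc_i_rc_8_1 lc_i_rc_8_1 lc_i_rc_34_1 lc_i_rc_8_1 lc_i_rc_23_1 lc_i_rc_34_1 lc_i_rc_16_1) (@D3.rec (fun _ => (Cert rels S Gen.i)) lc_i_rc_8_1 lc_i_Cert_tree lc_i_rc_8_1 lc_i_rc_8_1 lc_i_rc_29_1 lc_i_rc_44_0 lc_i_rc_23_1 lc_i_rc_23_1 lc_i_rc_29_3 lc_i_Cert_tree lc_i_rc_44_0 lc_i_rc_16_1 lc_i_Cert_tree lc_i_rc_8_1 lc_i_rc_8_1 lc_i_Cert_tree lc_i_Cert_tree lc_i_rc_44_0 lc_i_rc_34_1 lc_i_rc_36_1 lc_i_rc_36_1 lc_i_rc_44_0 lc_i_rc_29_1 lc_i_rc_34_1 lc_i_rc_36_1 lc_i_rc_36_1 lc_i_Cert_tree lc_i_rc_44_0 lc_i_Cert_tree lc_i_rc_44_0 lc_i_rc_16_1 lc_i_Cert_tree) (@D3.rec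 (fun _ => (Cert rels S Gen.i)) lc_i_rc_8_1 lc_i_rc_8_1 lc_i_rc_34_1 lc_i_Cert_tree lc_i_rc_44_0 lc_i_rc_29_1 lc_i_rc_34_3 lc_i_Cert_tree lc_i_rc_44_0 lc_i_rc_16_1 lc_i_rc_16_1 lc_i_Cert_tree lc_i_Cert_tree lc_i_rc_44_0 lc_i_rc_8_1 lc_i_rc_29_3 lc_i_rc_36_1 lc_i_rc_36_1 lc_i_Cert_tree lc_i_rc_44_0 lc_i_Cert_tree lc_i_rc_44_0 lc_i_rc_23_3 lc_i_Cert_tree lc_i_rc_34_3 lc_i_rc_43_3 lc_i_Cert_tree lc_i_rc_44_0 lc_i_Cert_tree lc_i_rc_44_0 lc_i_rc_36_3 lc_i_rc_16_1)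
def ce_i_3 : D2 → D3 → (Cert rels S Gen.i) := @D2.rec (fun _ => D3 → (Cert rels S Gen.i)) (@D3.rec (fun _ => (Cert rels S Gen.i)) lc_i_rc_16_1 lc_i_rc_16_1 lc_i_rc_16_1 lc_i_rc_8_1 lc_i_rc_8_1 lc_i_rc_8_1 lc_i_rc_8_1 lc_i_rc_8_1 lc_i_rc_8_1 lc_i_rc_29_1 lc_i_Cert_tree lc_i_rc_29_1 lc_i_rc_29_1 lc_i_rc_34_1 lc_i_rc_40_1 lc_i_rc_16_1 lc_i_rc_16_1 lc_i_rc_8_1 lc_i_Cert_tree lc_i_rc_34_3 lc_i_rc_29_1 lc_i_Cert_tree lc_i_rc_44_0 lc_i_Cert_tree lc_i_Cert_tree lc_i_rc_44_0 lc_i_Cert_tree lc_i_Cert_tree lc_i_rc_44_0 lc_i_Cert_tree lc_i_rc_44_0 lc_i_Cert_tree) (@D3.rec (fun _ => (Cert rels S Gen.i)) lc_i_rc_44_0 lc_i_Cert_tree lc_i_rc_44_0 lc_i_rc_8_1 lc_i_Cert_tree lc_i_rc_44_0 lc_i_Cert_tree lc_i_rc_44_0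 lc_i_rc_36_3 lc_i_Cert_tree lc_i_rc_44_0 lc_i_rc_36_3 lc_i_Cert_tree lc_i_rc_44_0 lc_i_Cert_tree lc_i_rc_44_0 lc_i_rc_16_1 lc_i_Cert_tree lc_i_rc_44_0 lc_i_rc_8_1 lc_i_rc_44_0 lc_i_rc_40_1 lc_i_rc_36_5 lc_i_rc_16_1 lc_i_rc_16_1 lc_i_rc_29_1 lc_i_rc_23_1 lc_i_rc_8_1 lc_i_rc_16_1 lc_i_rc_16_1 lc_i_rc_16_1 lc_i_rc_16_1) (@D3.rec (fun _ => (Cert rels S Gen.i)) lc_i_rc_16_1 lc_i_rc_16_1 lc_i_rc_16_1 lc_i_rc_23_1 lc_i_rc_16_1 lc_i_rc_8_1 lc_i_rc_8_1 lc_i_rc_8_1 lc_i_rc_8_1 lc_i_rc_29_1 lc_i_rc_23_1 lc_i_rc_16_1 lc_i_rc_16_1 lc_i_rc_8_1 lc_i_rc_34_1 lc_i_rc_23_3 lc_i_rc_29_3 lc_i_Cert_tree lc_i_rc_29_3 lc_i_Cert_tree lc_i_rc_44_0 lc_i_rc_16_1 lc_i_Cert_tree lc_i_Cert_tree lc_i_rc_44_0 lc_i_Cert_tree lc_i_rc_44_0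 lc_i_Cert_tree lc_i_rc_44_0 lc_i_rc_16_1 lc_i_Cert_tree lc_i_rc_8_1) (@D3.rec (fun _ => (Cert rels S Gen.i)) lc_i_Cert_tree lc_i_Cert_tree lc_i_rc_44_0 lc_i_Cert_tree lc_i_rc_44_0 lc_i_rc_29_1 lc_i_Cert_tree lc_i_Cert_tree lc_i_rc_44_0 lc_i_Cert_tree lc_i_rc_44_0 lc_i_rc_44_0 lc_i_rc_16_1 lc_i_rc_8_1 lc_i_Cert_tree lc_i_Cert_tree lc_i_Cert_tree lc_i_rc_44_0 lc_i_Cert_tree lc_i_rc_44_0 lc_i_Cert_tree lc_i_rc_44_0 lc_i_Cert_tree lc_i_rc_44_0 lc_i_Cert_tree lc_i_rc_44_0 lc_i_rc_36_3 lc_i_rc_8_1 lc_i_rc_8_1 lc_i_Cert_tree lc_i_rc_43_1 lc_i_rc_23_1) (@D3.rec (fun _ => (Cert rels S Gen.i)) lc_i_Cert_tree lc_i_rc_16_1 lc_i_rc_16_1 lc_i_Cert_tree lc_i_rc_44_0 lc_i_rc_34_1 lc_i_Cert_tree lc_i_Cert_tree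 lc_i_rc_44_0 lc_i_rc_23_1 lc_i_rc_23_1 lc_i_Cert_tree lc_i_rc_16_1 lc_i_rc_43_1 lc_i_Cert_tree lc_i_rc_44_0 lc_i_rc_16_1 lc_i_rc_43_1 lc_i_Cert_tree lc_i_Cert_tree lc_i_rc_44_0 lc_i_rc_43_1 lc_i_Cert_tree lc_i_Cert_tree lc_i_rc_44_0 lc_i_rc_23_1 lc_i_Cert_tree lc_i_Cert_tree lc_i_rc_44_0 lc_i_rc_44_0 lc_i_rc_16_1 lc_i_Cert_tree) (@D3.rec (fun _ => (Cert rels S Gen.i)) lc_i_rc_8_1 lc_i_rc_8_1 lc_i_Cert_tree lc_i_Cert_tree lc_i_rc_44_0 lc_i_rc_43_1 lc_i_Cert_tree lc_i_Cert_tree lc_i_rc_44_0 lc_i_rc_29_1 lc_i_rc_43_1 lc_i_Cert_tree lc_i_Cert_tree lc_i_Cert_tree lc_i_rc_44_0 lc_i_Cert_tree lc_i_rc_44_0 lc_i_rc_43_3 lc_i_Cert_tree lc_i_Cert_tree lc_i_rc_44_0 lc_i_rc_44_0 lc_i_Cert_tree lc_i_Cert_tree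 lc_i_rc_44_0 lc_i_Cert_tree lc_i_rc_44_0 lc_i_rc_16_1 lc_i_rc_16_1 lc_i_Cert_tree lc_i_Cert_tree lc_i_rc_44_0) (@D3.rec (fun _ => (Cert rels S Gen.i)) lc_i_rc_8_1 lc_i_rc_34_1 lc_i_rc_34_3 lc_i_rc_36_1 lc_i_Cert_tree lc_i_rc_44_0 lc_i_rc_44_0 lc_i_rc_34_1 lc_i_rc_36_1 lc_i_rc_43_3 lc_i_rc_43_1 lc_i_Cert_tree lc_i_rc_34_1 lc_i_rc_36_1 lc_i_rc_43_3 lc_i_rc_40_1 lc_i_Cert_tree lc_i_rc_44_0 lc_i_rc_40_1 lc_i_rc_23_1 lc_i_rc_23_1 lc_i_rc_40_1 lc_i_rc_8_1 lc_i_rc_8_1 lc_i_Cert_tree lc_i_rc_8_1 lc_i_rc_23_1 lc_i_Cert_tree lc_i_rc_16_1 lc_i_rc_16_1 lc_i_Cert_tree lc_i_rc_44_0) (@D3.rec (fun _ => (Cert rels S Gen.i)) lc_i_rc_34_1 lc_i_Cert_tree lc_i_Cert_tree lc_i_rc_44_0 lc_i_rc_16_1 lc_i_rc_8_1 lc_i_Cert_tree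 lc_i_rc_8_1 lc_i_rc_8_1 lc_i_Cert_tree lc_i_rc_44_0 lc_i_rc_23_1 lc_i_rc_23_1 lc_i_Cert_tree lc_i_Cert_tree lc_i_rc_44_0 lc_i_rc_16_1 lc_i_Cert_tree lc_i_Cert_tree lc_i_rc_44_0 lc_i_Cert_tree lc_i_Cert_tree lc_i_rc_44_0 lc_i_rc_44_0 lc_i_rc_16_1 lc_i_Cert_tree lc_i_rc_8_1 lc_i_rc_8_1 lc_i_Cert_tree lc_i_Cert_tree lc_i_rc_44_0 lc_i_rc_8_1) (@D3.rec (fun _ => (Cert rels S Gen.i)) lc_i_Cert_tree lc_i_Cert_tree lc_i_rc_44_0 lc_i_rc_29_1 lc_i_rc_23_1 lc_i_Cert_tree lc_i_Cert_tree lc_i_Cert_tree lc_i_rc_44_0 lc_i_Cert_tree lc_i_rc_44_0 lc_i_rc_40_1 lc_i_Cert_tree lc_i_Cert_tree lc_i_rc_44_0 lc_i_rc_44_0 lc_i_Cert_tree lc_i_Cert_tree lc_i_rc_44_0 lc_i_Cert_tree lc_i_rc_44_0 lc_i_rc_16_1 lc_i_Cert_tree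 lc_i_rc_8_1 lc_i_rc_8_1 lc_i_Cert_tree lc_i_Cert_tree lc_i_rc_44_0 lc_i_rc_8_1 lc_i_Cert_tree lc_i_Cert_tree lc_i_rc_44_0) (@D3.rec (fun _ => (Cert rels S Gen.i)) lc_i_rc_29_1 lc_i_rc_23_1 lc_i_Cert_tree lc_i_Cert_tree lc_i_Cert_tree lc_i_rc_44_0 lc_i_Cert_tree lc_i_rc_44_0 lc_i_Cert_tree lc_i_Cert_tree lc_i_rc_44_0 lc_i_rc_44_0 lc_i_rc_44_0 lc_i_rc_44_0 lc_i_rc_16_1 lc_i_rc_16_1 lc_i_Cert_tree lc_i_Cert_tree lc_i_rc_44_0 lc_i_rc_8_1 lc_i_rc_8_1 lc_i_Cert_tree lc_i_Cert_tree lc_i_Cert_tree lc_i_rc_44_0 lc_i_Cert_tree lc_i_rc_44_0 lc_i_rc_40_1 lc_i_Cert_tree lc_i_Cert_tree lc_i_rc_44_0 lc_i_rc_44_0) (@D3.rec (fun _ => (Cert rels S Gen.i)) lc_i_rc_29_1 lc_i_Cert_tree lc_i_rc_23_1 lc_i_Cert_tree lc_i_Cert_tree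 lc_i_rc_44_0 lc_i_Cert_tree lc_i_rc_44_0 lc_i_Cert_tree lc_i_rc_44_0 lc_i_Cert_tree lc_i_rc_44_0 lc_i_rc_36_3 lc_i_rc_44_0 lc_i_Cert_tree lc_i_rc_44_0 lc_i_Cert_tree lc_i_rc_44_0 lc_i_rc_16_1 lc_i_rc_16_1 lc_i_rc_36_3 lc_i_Cert_tree lc_i_rc_44_0 lc_i_rc_8_1 lc_i_rc_8_1 lc_i_rc_36_3 lc_i_rc_40_3 lc_i_rc_44_0 lc_i_rc_29_1 lc_i_Cert_tree lc_i_rc_40_1 lc_i_rc_34_1) (@D3.rec (fun _ => (Cert rels S Gen.i)) lc_i_rc_16_1 lc_i_rc_16_1 lc_i_rc_34_1 lc_i_rc_8_1 lc_i_Cert_tree lc_i_rc_34_3 lc_i_rc_8_1 lc_i_Cert_tree lc_i_Cert_tree lc_i_rc_44_0 lc_i_rc_43_1 lc_i_rc_43_1 lc_i_rc_43_1 lc_i_Cert_tree lc_i_Cert_tree lc_i_Cert_tree lc_i_rc_44_0 lc_i_Cert_tree lc_i_Cert_tree lc_i_rc_44_0 lc_i_Cert_tree lc_i_rc_44_0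 lc_i_Cert_tree lc_i_rc_44_0 lc_i_Cert_tree lc_i_rc_44_0 lc_i_Cert_tree lc_i_rc_44_0 lc_i_rc_8_1 lc_i_Cert_tree lc_i_rc_44_0 lc_i_Cert_tree) (@D3.rec (fun _ => (Cert rels S Gen.i)) lc_i_Cert_tree lc_i_rc_44_0 lc_i_Cert_tree lc_i_rc_44_0 lc_i_Cert_tree lc_i_rc_44_0 lc_i_rc_36_3 lc_i_Cert_tree lc_i_rc_44_0 lc_i_rc_36_3 lc_i_Cert_tree lc_i_rc_44_0 lc_i_Cert_tree lc_i_rc_44_0 lc_i_rc_8_3 lc_i_rc_43_1 lc_i_rc_8_1 lc_i_rc_16_1 lc_i_rc_8_1 lc_i_rc_34_1 lc_i_rc_29_1 lc_i_rc_16_1 lc_i_Cert_tree lc_i_rc_8_1 lc_i_rc_8_1 lc_i_rc_29_3 lc_i_Cert_tree lc_i_rc_44_0 lc_i_rc_29_1 lc_i_rc_23_1 lc_i_Cert_tree lc_i_rc_44_0) (@D3.rec (fun _ => (Cert rels S Gen.i)) lc_i_rc_16_1 lc_i_rc_16_1 lc_i_Cert_tree lc_i_Cert_tree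 lc_i_rc_44_0 lc_i_rc_8_1 lc_i_rc_34_1 lc_i_rc_36_1 lc_i_rc_36_1 lc_i_Cert_tree lc_i_rc_44_0 lc_i_Cert_tree lc_i_rc_44_0 lc_i_rc_34_3 lc_i_Cert_tree lc_i_rc_43_1 lc_i_rc_34_3 lc_i_Cert_tree lc_i_rc_44_0 lc_i_Cert_tree lc_i_rc_44_0 lc_i_rc_36_3 lc_i_rc_16_1 lc_i_rc_16_1 lc_i_rc_34_1 lc_i_Cert_tree lc_i_rc_44_0 lc_i_rc_8_1 lc_i_rc_34_3 lc_i_Cert_tree lc_i_rc_44_0 lc_i_Cert_tree) (@D3.rec (fun _ => (Cert rels S Gen.i)) lc_i_rc_16_1 lc_i_Cert_tree lc_i_rc_44_0 lc_i_rc_36_3 lc_i_rc_16_1 lc_i_rc_29_3 lc_i_rc_36_1 lc_i_rc_36_1 lc_i_Cert_tree lc_i_rc_44_0 lc_i_Cert_tree lc_i_Cert_tree lc_i_rc_44_0 lc_i_rc_23_3 lc_i_Cert_tree lc_i_rc_34_3 lc_i_rc_43_3 lc_i_Cert_tree lc_i_rc_44_0 lc_i_Cert_tree lc_i_rc_44_0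 lc_i_rc_8_1 lc_i_Cert_tree lc_i_Cert_tree lc_i_rc_44_0 lc_i_rc_29_3 lc_i_rc_40_3 lc_i_Cert_tree lc_i_rc_44_0 lc_i_rc_36_3 lc_i_Cert_tree lc_i_rc_44_0) (@D3.rec (fun _ => (Cert rels S Gen.i)) lc_i_rc_36_3 lc_i_rc_16_1 lc_i_rc_16_1 lc_i_rc_16_1 lc_i_rc_16_1 lc_i_rc_16_1 lc_i_rc_23_1 lc_i_rc_16_1 lc_i_rc_8_1 lc_i_Cert_tree lc_i_rc_8_1 lc_i_rc_8_1 lc_i_rc_8_1 lc_i_rc_8_1 lc_i_Cert_tree lc_i_Cert_tree lc_i_rc_44_0 lc_i_rc_34_1 lc_i_rc_34_1 lc_i_rc_40_1 lc_i_rc_23_1 lc_i_rc_16_1 lc_i_Cert_tree lc_i_rc_16_1 lc_i_rc_29_1 lc_i_Cert_tree lc_i_rc_44_0 lc_i_rc_29_3 lc_i_Cert_tree lc_i_rc_44_0 lc_i_Cert_tree lc_i_rc_44_0) (@D3.rec (fun _ => (Cert rels S Gen.i)) lc_i_Cert_tree lc_i_Cert_tree lc_i_rc_44_0 lc_i_Cert_tree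 lc_i_rc_44_0 lc_i_Cert_tree lc_i_rc_44_0 lc_i_rc_16_1 lc_i_Cert_tree lc_i_rc_44_0 lc_i_Cert_tree lc_i_rc_44_0 lc_i_rc_8_1 lc_i_Cert_tree lc_i_rc_44_0 lc_i_rc_8_1 lc_i_Cert_tree lc_i_rc_44_0 lc_i_rc_36_3 lc_i_Cert_tree lc_i_rc_44_0 lc_i_rc_36_3 lc_i_rc_44_0 lc_i_rc_40_1 lc_i_rc_29_1 lc_i_Cert_tree lc_i_Cert_tree lc_i_rc_44_0 lc_i_rc_23_1 lc_i_Cert_tree lc_i_rc_44_0 lc_i_rc_16_1) (@D3.rec (fun _ => (Cert rels S Gen.i)) lc_i_rc_44_0 lc_i_rc_8_1 lc_i_rc_8_1 lc_i_rc_43_1 lc_i_rc_40_1 lc_i_rc_23_1 lc_i_rc_16_1 lc_i_rc_29_1 lc_i_rc_23_1 lc_i_rc_36_3 lc_i_rc_23_1 lc_i_rc_16_1 lc_i_rc_16_1 lc_i_rc_16_1 lc_i_rc_16_1 lc_i_rc_23_1 lc_i_rc_23_1 lc_i_rc_8_1 lc_i_rc_34_1 lc_i_rc_23_1 lc_i_rc_16_1 lc_i_rc_8_1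 lc_i_rc_23_3 lc_i_Cert_tree lc_i_rc_23_1 lc_i_Cert_tree lc_i_Cert_tree lc_i_rc_44_0 lc_i_Cert_tree lc_i_rc_44_0 lc_i_rc_16_1 lc_i_Cert_tree) (@D3.rec (fun _ => (Cert rels S Gen.i)) lc_i_Cert_tree lc_i_rc_44_0 lc_i_Cert_tree lc_i_rc_44_0 lc_i_Cert_tree lc_i_rc_44_0 lc_i_rc_44_0 lc_i_rc_16_1 lc_i_Cert_tree lc_i_Cert_tree lc_i_rc_44_0 lc_i_rc_8_1 lc_i_Cert_tree lc_i_Cert_tree lc_i_rc_44_0 lc_i_Cert_tree lc_i_rc_44_0 lc_i_rc_44_0 lc_i_Cert_tree lc_i_Cert_tree lc_i_rc_44_0 lc_i_Cert_tree lc_i_rc_44_0 lc_i_Cert_tree lc_i_rc_44_0 lc_i_rc_36_3 lc_i_rc_16_1 lc_i_Cert_tree lc_i_rc_44_0 lc_i_Cert_tree lc_i_rc_44_0 lc_i_Cert_tree) (@D3.rec (fun _ => (Cert rels S Gen.i)) lc_i_Cert_tree lc_i_rc_44_0 lc_i_Cert_tree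 lc_i_rc_44_0 lc_i_Cert_tree lc_i_rc_44_0 lc_i_rc_8_1 lc_i_Cert_tree lc_i_rc_44_0 lc_i_rc_36_3 lc_i_Cert_tree lc_i_rc_44_0 lc_i_rc_36_3 lc_i_rc_16_1 lc_i_rc_8_1 lc_i_Cert_tree lc_i_rc_8_1 lc_i_rc_8_1 lc_i_Cert_tree lc_i_rc_44_0 lc_i_rc_23_1 lc_i_rc_23_1 lc_i_Cert_tree lc_i_Cert_tree lc_i_rc_44_0 lc_i_rc_16_1 lc_i_Cert_tree lc_i_Cert_tree lc_i_rc_44_0 lc_i_rc_40_1 lc_i_Cert_tree lc_i_Cert_tree) (@D3.rec (fun _ => (Cert rels S Gen.i)) lc_i_rc_44_0 lc_i_rc_44_0 lc_i_rc_23_1 lc_i_Cert_tree lc_i_rc_34_1 lc_i_rc_43_1 lc_i_Cert_tree lc_i_Cert_tree lc_i_rc_44_0 lc_i_rc_43_1 lc_i_Cert_tree lc_i_Cert_tree lc_i_rc_44_0 lc_i_rc_16_1 lc_i_rc_43_1 lc_i_Cert_tree lc_i_Cert_tree lc_i_Cert_tree lc_i_rc_44_0 lc_i_Cert_tree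 lc_i_rc_44_0 lc_i_rc_40_1 lc_i_Cert_tree lc_i_Cert_tree lc_i_rc_44_0 lc_i_rc_44_0 lc_i_Cert_tree lc_i_Cert_tree lc_i_rc_44_0 lc_i_Cert_tree lc_i_rc_44_0 lc_i_rc_16_1) (@D3.rec (fun _ => (Cert rels S Gen.i)) lc_i_rc_8_3 lc_i_Cert_tree lc_i_Cert_tree lc_i_rc_44_0 lc_i_rc_8_1 lc_i_rc_8_1 lc_i_Cert_tree lc_i_Cert_tree lc_i_Cert_tree lc_i_rc_44_0 lc_i_Cert_tree lc_i_rc_44_0 lc_i_rc_40_1 lc_i_Cert_tree lc_i_Cert_tree lc_i_rc_44_0 lc_i_rc_44_0 lc_i_rc_43_1 lc_i_Cert_tree lc_i_rc_23_1 lc_i_Cert_tree lc_i_Cert_tree lc_i_rc_44_0 lc_i_Cert_tree lc_i_rc_44_0 lc_i_Cert_tree lc_i_rc_44_0 lc_i_Cert_tree lc_i_rc_44_0 lc_i_rc_36_3 lc_i_Cert_tree lc_i_Cert_tree)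
def ce_i_4 : D2 → D3 → (Cert rels S Gen.i) := @D2.rec (fun _ => D3 → (Cert rels S Gen.i)) (@D3.rec (fun _ => (Cert rels S Gen.i)) lc_i_rc_44_0 lc_i_Cert_tree lc_i_rc_44_0 lc_i_rc_44_0 lc_i_Cert_tree lc_i_rc_44_0 lc_i_Cert_tree lc_i_rc_44_0 lc_i_rc_16_1 lc_i_rc_34_1 lc_i_rc_34_3 lc_i_rc_36_1 lc_i_Cert_tree lc_i_rc_44_0 lc_i_Cert_tree lc_i_rc_44_0 lc_i_rc_29_1 lc_i_Cert_tree lc_i_rc_34_1 lc_i_rc_36_1 lc_i_rc_40_1 lc_i_rc_40_1 lc_i_Cert_tree lc_i_rc_44_0 lc_i_rc_40_1 lc_i_rc_16_3 lc_i_rc_43_3 lc_i_Cert_tree lc_i_Cert_tree lc_i_rc_44_0 lc_i_rc_40_1 lc_i_rc_23_1) (@D3.rec (fun _ => (Cert rels S Gen.i)) lc_i_rc_29_3 lc_i_rc_34_1 lc_i_rc_44_0 lc_i_rc_23_1 lc_i_rc_40_1 lc_i_rc_40_1 lc_i_rc_23_3 lc_i_rc_16_1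 lc_i_rc_8_1 lc_i_Cert_tree lc_i_rc_8_1 lc_i_rc_8_1 lc_i_Cert_tree lc_i_rc_44_0 lc_i_rc_23_1 lc_i_Cert_tree lc_i_Cert_tree lc_i_rc_44_0 lc_i_rc_16_1 lc_i_Cert_tree lc_i_Cert_tree lc_i_rc_44_0 lc_i_rc_40_1 lc_i_Cert_tree lc_i_Cert_tree lc_i_rc_44_0 lc_i_rc_44_0 lc_i_rc_16_1 lc_i_Cert_tree lc_i_rc_8_1 lc_i_rc_8_1 lc_i_Cert_tree) (@D3.rec (fun _ => (Cert rels S Gen.i)) lc_i_Cert_tree lc_i_rc_44_0 lc_i_rc_8_1 lc_i_Cert_tree lc_i_Cert_tree lc_i_rc_44_0 lc_i_rc_29_1 lc_i_rc_23_1 lc_i_Cert_tree lc_i_Cert_tree lc_i_Cert_tree lc_i_rc_44_0 lc_i_Cert_tree lc_i_rc_44_0 lc_i_Cert_tree lc_i_Cert_tree lc_i_rc_44_0 lc_i_rc_44_0 lc_i_Cert_tree lc_i_rc_44_0 lc_i_Cert_tree lc_i_rc_44_0 lc_i_rc_16_1 lc_i_rc_16_1 lc_i_Cert_tree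 lc_i_Cert_tree lc_i_rc_44_0 lc_i_rc_8_1 lc_i_rc_8_1 lc_i_Cert_tree lc_i_Cert_tree lc_i_Cert_tree) (@D3.rec (fun _ => (Cert rels S Gen.i)) lc_i_rc_44_0 lc_i_Cert_tree lc_i_rc_44_0 lc_i_rc_23_3 lc_i_Cert_tree lc_i_Cert_tree lc_i_rc_44_0 lc_i_rc_44_0 lc_i_rc_23_1 lc_i_Cert_tree lc_i_rc_40_1 lc_i_Cert_tree lc_i_Cert_tree lc_i_rc_44_0 lc_i_Cert_tree lc_i_rc_44_0 lc_i_Cert_tree lc_i_rc_44_0 lc_i_Cert_tree lc_i_rc_44_0 lc_i_rc_36_3 lc_i_Cert_tree lc_i_Cert_tree lc_i_rc_44_0 lc_i_Cert_tree lc_i_rc_44_0 lc_i_rc_44_0 lc_i_rc_44_0 lc_i_Cert_tree lc_i_rc_44_0 lc_i_rc_36_3 lc_i_rc_16_1) (@D3.rec (fun _ => (Cert rels S Gen.i)) lc_i_rc_16_1 lc_i_Cert_tree lc_i_Cert_tree lc_i_rc_44_0 lc_i_rc_8_1 lc_i_rc_8_1 lc_i_Cert_tree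 lc_i_Cert_tree lc_i_Cert_tree lc_i_rc_44_0 lc_i_Cert_tree lc_i_rc_44_0 lc_i_Cert_tree lc_i_Cert_tree lc_i_rc_44_0 lc_i_rc_44_0 lc_i_rc_29_1 lc_i_Cert_tree lc_i_Cert_tree lc_i_Cert_tree lc_i_rc_44_0 lc_i_Cert_tree lc_i_rc_44_0 lc_i_Cert_tree lc_i_rc_44_0 lc_i_Cert_tree lc_i_rc_44_0 lc_i_rc_36_3 lc_i_rc_44_0 lc_i_Cert_tree lc_i_rc_44_0 lc_i_rc_16_1) (@D3.rec (fun _ => (Cert rels S Gen.i)) lc_i_rc_16_1 lc_i_Cert_tree lc_i_Cert_tree lc_i_Cert_tree lc_i_rc_44_0 lc_i_Cert_tree lc_i_Cert_tree lc_i_rc_44_0 lc_i_rc_8_1 lc_i_Cert_tree lc_i_rc_16_3 lc_i_Cert_tree lc_i_Cert_tree lc_i_rc_44_0 lc_i_Cert_tree lc_i_rc_44_0 lc_i_Cert_tree lc_i_rc_44_0 lc_i_Cert_tree lc_i_rc_44_0 lc_i_rc_8_1 lc_i_rc_44_0 lc_i_Cert_tree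 lc_i_rc_44_0 lc_i_rc_23_1 lc_i_Cert_tree lc_i_Cert_tree lc_i_rc_44_0 lc_i_Cert_tree lc_i_rc_44_0 lc_i_Cert_tree lc_i_Cert_tree) (@D3.rec (fun _ => (Cert rels S Gen.i)) lc_i_rc_44_0 lc_i_Cert_tree lc_i_rc_44_0 lc_i_Cert_tree lc_i_rc_44_0 lc_i_rc_36_3 lc_i_Cert_tree lc_i_rc_44_0 lc_i_rc_36_3 lc_i_Cert_tree lc_i_rc_44_0 lc_i_Cert_tree lc_i_rc_44_0 lc_i_rc_16_1 lc_i_rc_16_1 lc_i_rc_36_3 lc_i_rc_40_3 lc_i_Cert_tree lc_i_rc_44_0 lc_i_rc_8_1 lc_i_Cert_tree lc_i_rc_40_1 lc_i_rc_34_1 lc_i_Cert_tree lc_i_Cert_tree lc_i_rc_44_0 lc_i_rc_34_1 lc_i_rc_23_1 lc_i_rc_16_1 lc_i_Cert_tree lc_i_rc_16_1 lc_i_Cert_tree) (@D3.rec (fun _ => (Cert rels S Gen.i)) lc_i_Cert_tree lc_i_rc_44_0 lc_i_rc_8_1 lc_i_rc_8_3 lc_i_rc_44_0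 lc_i_Cert_tree lc_i_rc_44_0 lc_i_rc_43_1 lc_i_rc_43_1 lc_i_Cert_tree lc_i_rc_44_0 lc_i_Cert_tree lc_i_rc_44_0 lc_i_Cert_tree lc_i_Cert_tree lc_i_rc_44_0 lc_i_Cert_tree lc_i_rc_44_0 lc_i_Cert_tree lc_i_rc_44_0 lc_i_rc_16_1 lc_i_Cert_tree lc_i_Cert_tree lc_i_rc_44_0 lc_i_Cert_tree lc_i_rc_44_0 lc_i_Cert_tree lc_i_rc_44_0 lc_i_rc_8_1 lc_i_Cert_tree lc_i_rc_44_0 lc_i_rc_8_1) (@D3.rec (fun _ => (Cert rels S Gen.i)) lc_i_Cert_tree lc_i_rc_44_0 lc_i_Cert_tree lc_i_Cert_tree lc_i_rc_44_0 lc_i_Cert_tree lc_i_rc_44_0 lc_i_rc_36_3 lc_i_Cert_tree lc_i_rc_44_0 lc_i_rc_36_3 lc_i_Cert_tree lc_i_rc_44_0 lc_i_rc_36_3 lc_i_rc_44_0 lc_i_rc_40_1 lc_i_rc_29_1 lc_i_Cert_tree lc_i_rc_44_0 lc_i_rc_44_0 lc_i_rc_23_3 lc_i_rc_16_1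 lc_i_rc_16_1 lc_i_rc_16_1 lc_i_rc_29_1 lc_i_rc_29_1 lc_i_rc_16_1 lc_i_rc_16_1 lc_i_rc_29_3 lc_i_Cert_tree lc_i_rc_44_0 lc_i_rc_8_1) (@D3.rec (fun _ => (Cert rels S Gen.i)) lc_i_rc_23_1 lc_i_Cert_tree lc_i_rc_44_0 lc_i_rc_34_1 lc_i_rc_44_0 lc_i_rc_36_3 lc_i_rc_16_1 lc_i_rc_34_1 lc_i_rc_36_1 lc_i_rc_36_1 lc_i_Cert_tree lc_i_rc_44_0 lc_i_Cert_tree lc_i_Cert_tree lc_i_rc_44_0 lc_i_rc_34_3 lc_i_Cert_tree lc_i_rc_43_1 lc_i_rc_34_3 lc_i_Cert_tree lc_i_rc_44_0 lc_i_Cert_tree lc_i_rc_44_0 lc_i_rc_8_1 lc_i_rc_36_3 lc_i_rc_43_1 lc_i_rc_44_0 lc_i_rc_40_3 lc_i_rc_29_1 lc_i_Cert_tree lc_i_rc_44_0 lc_i_rc_36_3) (@D3.rec (fun _ => (Cert rels S Gen.i)) lc_i_Cert_tree lc_i_rc_44_0 lc_i_rc_36_3 lc_i_rc_16_1 lc_i_rc_34_3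 lc_i_Cert_tree lc_i_Cert_tree lc_i_rc_44_0 lc_i_Cert_tree lc_i_rc_29_1 lc_i_Cert_tree lc_i_rc_44_0 lc_i_rc_8_1 lc_i_rc_44_0 lc_i_rc_40_1 lc_i_Cert_tree lc_i_rc_44_0 lc_i_rc_36_3 lc_i_rc_23_1 lc_i_rc_23_3 lc_i_Cert_tree lc_i_rc_36_5 lc_i_rc_43_3 lc_i_Cert_tree lc_i_Cert_tree lc_i_rc_44_0 lc_i_Cert_tree lc_i_rc_44_0 lc_i_Cert_tree lc_i_rc_44_0 lc_i_rc_16_1 lc_i_Cert_tree) (@D3.rec (fun _ => (Cert rels S Gen.i)) lc_i_Cert_tree lc_i_rc_44_0 lc_i_rc_29_3 lc_i_rc_43_3 lc_i_Cert_tree lc_i_rc_44_0 lc_i_rc_8_1 lc_i_Cert_tree lc_i_rc_44_0 lc_i_rc_8_1 lc_i_rc_44_0 lc_i_Cert_tree lc_i_rc_44_0 lc_i_rc_29_3 lc_i_rc_29_1 lc_i_Cert_tree lc_i_rc_44_0 lc_i_rc_36_3 lc_i_rc_44_0 lc_i_rc_40_1 lc_i_rc_29_1 lc_i_rc_23_1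 lc_i_rc_16_1 lc_i_Cert_tree lc_i_rc_16_1 lc_i_rc_16_1 lc_i_rc_23_1 lc_i_rc_16_1 lc_i_rc_23_1 lc_i_rc_16_1 lc_i_Cert_tree lc_i_Cert_tree) (@D3.rec (fun _ => (Cert rels S Gen.i)) lc_i_rc_44_0 lc_i_rc_8_1 lc_i_rc_8_1 lc_i_rc_8_1 lc_i_rc_44_0 lc_i_Cert_tree lc_i_rc_44_0 lc_i_rc_40_1 lc_i_rc_23_1 lc_i_Cert_tree lc_i_rc_29_1 lc_i_Cert_tree lc_i_rc_44_0 lc_i_rc_29_3 lc_i_Cert_tree lc_i_rc_44_0 lc_i_Cert_tree lc_i_rc_44_0 lc_i_Cert_tree lc_i_Cert_tree lc_i_rc_44_0 lc_i_Cert_tree lc_i_rc_44_0 lc_i_Cert_tree lc_i_rc_44_0 lc_i_rc_16_1 lc_i_Cert_tree lc_i_Cert_tree lc_i_rc_44_0 lc_i_rc_23_1 lc_i_Cert_tree lc_i_rc_44_0) (@D3.rec (fun _ => (Cert rels S Gen.i)) lc_i_rc_16_1 lc_i_Cert_tree lc_i_rc_44_0 lc_i_rc_8_1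 lc_i_Cert_tree lc_i_rc_44_0 lc_i_rc_8_1 lc_i_rc_44_0 lc_i_rc_8_1 lc_i_rc_29_1 lc_i_Cert_tree lc_i_rc_44_0 lc_i_rc_36_3 lc_i_rc_44_0 lc_i_rc_40_1 lc_i_rc_29_1 lc_i_rc_43_1 lc_i_rc_29_1 lc_i_rc_23_1 lc_i_Cert_tree lc_i_Cert_tree lc_i_rc_44_0 lc_i_Cert_tree lc_i_rc_44_0 lc_i_rc_23_1 lc_i_rc_29_1 lc_i_rc_44_0 lc_i_rc_16_1 lc_i_rc_16_1 lc_i_rc_8_1 lc_i_rc_8_1 lc_i_rc_23_1) (@D3.rec (fun _ => (Cert rels S Gen.i)) lc_i_rc_34_1 lc_i_rc_23_1 lc_i_rc_23_1 lc_i_rc_16_1 lc_i_rc_23_1 lc_i_rc_29_1 lc_i_rc_8_1 lc_i_rc_23_1 lc_i_rc_16_1 lc_i_rc_23_3 lc_i_Cert_tree lc_i_Cert_tree lc_i_rc_44_0 lc_i_rc_34_3 lc_i_Cert_tree lc_i_Cert_tree lc_i_rc_44_0 lc_i_Cert_tree lc_i_rc_44_0 lc_i_Cert_tree lc_i_rc_44_0 lc_i_Cert_tree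 lc_i_Cert_tree lc_i_rc_44_0 lc_i_Cert_tree lc_i_rc_44_0 lc_i_Cert_tree lc_i_rc_44_0 lc_i_rc_36_3 lc_i_Cert_tree lc_i_rc_44_0 lc_i_rc_36_3) (@D3.rec (fun _ => (Cert rels S Gen.i)) lc_i_rc_16_1 lc_i_Cert_tree lc_i_Cert_tree lc_i_rc_44_0 lc_i_Cert_tree lc_i_Cert_tree lc_i_rc_44_0 lc_i_Cert_tree lc_i_Cert_tree lc_i_rc_44_0 lc_i_Cert_tree lc_i_rc_44_0 lc_i_Cert_tree lc_i_rc_44_0 lc_i_rc_8_1 lc_i_Cert_tree lc_i_rc_44_0 lc_i_Cert_tree lc_i_rc_44_0 lc_i_Cert_tree lc_i_rc_44_0 lc_i_rc_36_3 lc_i_Cert_tree lc_i_rc_44_0 lc_i_rc_36_3 lc_i_rc_23_1 lc_i_Cert_tree lc_i_rc_44_0 lc_i_Cert_tree lc_i_Cert_tree lc_i_rc_44_0 lc_i_Cert_tree) (@D3.rec (fun _ => (Cert rels S Gen.i)) lc_i_rc_44_0 lc_i_Cert_tree lc_i_rc_44_0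 lc_i_rc_16_1 lc_i_Cert_tree lc_i_rc_44_0 lc_i_rc_8_1 lc_i_Cert_tree lc_i_rc_44_0 lc_i_rc_8_1 lc_i_Cert_tree lc_i_rc_44_0 lc_i_rc_36_3 lc_i_rc_44_0 lc_i_rc_40_1 lc_i_rc_29_1 lc_i_rc_16_1 lc_i_Cert_tree lc_i_rc_8_1 lc_i_rc_8_1 lc_i_Cert_tree lc_i_Cert_tree lc_i_rc_44_0 lc_i_rc_8_1 lc_i_Cert_tree lc_i_Cert_tree lc_i_rc_44_0 lc_i_Cert_tree lc_i_Cert_tree lc_i_Cert_tree lc_i_rc_44_0 lc_i_Cert_tree) (@D3.rec (fun _ => (Cert rels S Gen.i)) lc_i_rc_44_0 lc_i_Cert_tree lc_i_Cert_tree lc_i_rc_44_0 lc_i_rc_44_0 lc_i_Cert_tree lc_i_Cert_tree lc_i_rc_44_0 lc_i_Cert_tree lc_i_rc_44_0 lc_i_rc_23_1 lc_i_rc_23_1 lc_i_Cert_tree lc_i_Cert_tree lc_i_rc_44_0 lc_i_rc_29_1 lc_i_rc_43_1 lc_i_Cert_tree lc_i_Cert_tree lc_i_Cert_tree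 lc_i_rc_44_0 lc_i_Cert_tree lc_i_rc_44_0 lc_i_rc_23_3 lc_i_Cert_tree lc_i_Cert_tree lc_i_rc_44_0 lc_i_rc_44_0 lc_i_rc_43_1 lc_i_Cert_tree lc_i_rc_40_1 lc_i_Cert_tree) (@D3.rec (fun _ => (Cert rels S Gen.i)) lc_i_Cert_tree lc_i_rc_44_0 lc_i_Cert_tree lc_i_rc_44_0 lc_i_Cert_tree lc_i_rc_44_0 lc_i_Cert_tree lc_i_rc_44_0 lc_i_rc_36_3 lc_i_Cert_tree lc_i_Cert_tree lc_i_rc_44_0 lc_i_Cert_tree lc_i_rc_44_0 lc_i_Cert_tree lc_i_rc_44_0 lc_i_Cert_tree lc_i_rc_44_0 lc_i_Cert_tree lc_i_rc_44_0 lc_i_rc_36_3 lc_i_rc_16_1 lc_i_rc_8_3 lc_i_Cert_tree lc_i_Cert_tree lc_i_Cert_tree lc_i_rc_44_0 lc_i_Cert_tree lc_i_Cert_tree lc_i_rc_44_0 lc_i_rc_8_1 lc_i_Cert_tree) (@D3.rec (fun _ => (Cert rels S Gen.i)) lc_i_rc_16_3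 lc_i_Cert_tree lc_i_Cert_tree lc_i_rc_44_0 lc_i_Cert_tree lc_i_rc_44_0 lc_i_Cert_tree lc_i_rc_44_0 lc_i_Cert_tree lc_i_rc_44_0 lc_i_rc_8_1 lc_i_Cert_tree lc_i_Cert_tree lc_i_rc_44_0 lc_i_Cert_tree lc_i_rc_44_0 lc_i_rc_23_1 lc_i_Cert_tree lc_i_Cert_tree lc_i_rc_44_0 lc_i_Cert_tree lc_i_Cert_tree lc_i_rc_44_0 lc_i_Cert_tree lc_i_Cert_tree lc_i_rc_44_0 lc_i_Cert_tree lc_i_rc_44_0 lc_i_Cert_tree lc_i_rc_44_0 lc_i_rc_36_3 lc_i_Cert_tree) (@D3.rec (fun _ => (Cert rels S Gen.i)) lc_i_rc_44_0 lc_i_rc_36_3 lc_i_rc_44_0 lc_i_Cert_tree lc_i_rc_44_0 lc_i_Cert_tree lc_i_rc_44_0 lc_i_Cert_tree lc_i_rc_44_0 lc_i_Cert_tree lc_i_rc_44_0 lc_i_rc_23_1 lc_i_rc_16_1 lc_i_Cert_tree lc_i_rc_34_1 lc_i_rc_36_1 lc_i_rc_16_3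 lc_i_rc_40_1 lc_i_Cert_tree lc_i_Cert_tree lc_i_rc_44_0 lc_i_rc_44_0 lc_i_rc_40_1 lc_i_Cert_tree lc_i_Cert_tree lc_i_rc_44_0 lc_i_rc_40_1 lc_i_rc_16_3 lc_i_rc_29_3 lc_i_rc_34_1 lc_i_rc_44_0 lc_i_rc_16_3) (@D3.rec (fun _ => (Cert rels S Gen.i)) lc_i_rc_8_3 lc_i_rc_29_1 lc_i_Cert_tree lc_i_Cert_tree lc_i_rc_44_0 lc_i_Cert_tree lc_i_Cert_tree lc_i_rc_44_0 lc_i_rc_23_1 lc_i_rc_34_1 lc_i_rc_40_1 lc_i_rc_34_1 lc_i_rc_40_1 lc_i_rc_16_3 lc_i_rc_23_3 lc_i_rc_16_1 lc_i_Cert_tree lc_i_rc_8_1 lc_i_Cert_tree lc_i_Cert_tree lc_i_rc_44_0 lc_i_rc_8_1 lc_i_Cert_tree lc_i_Cert_tree lc_i_rc_44_0 lc_i_Cert_tree lc_i_rc_44_0 lc_i_Cert_tree lc_i_rc_44_0 lc_i_rc_16_1 lc_i_Cert_tree lc_i_Cert_tree)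
def ce_i_5 : D2 → D3 → (Cert rels S Gen.i) := @D2.rec (fun _ => D3 → (Cert rels S Gen.i)) (@D3.rec (fun _ => (Cert rels S Gen.i)) lc_i_rc_44_0 lc_i_rc_44_0 lc_i_Cert_tree lc_i_Cert_tree lc_i_rc_44_0 lc_i_Cert_tree lc_i_rc_44_0 lc_i_rc_16_1 lc_i_rc_16_1 lc_i_Cert_tree lc_i_Cert_tree lc_i_rc_44_0 lc_i_rc_8_1 lc_i_rc_8_1 lc_i_Cert_tree lc_i_Cert_tree lc_i_Cert_tree lc_i_rc_44_0 lc_i_Cert_tree lc_i_rc_44_0 lc_i_Cert_tree lc_i_Cert_tree lc_i_rc_44_0 lc_i_rc_44_0 lc_i_Cert_tree lc_i_Cert_tree lc_i_Cert_tree lc_i_rc_44_0 lc_i_rc_44_0 lc_i_Cert_tree lc_i_rc_44_0 lc_i_Cert_tree) (@D3.rec (fun _ => (Cert rels S Gen.i)) lc_i_rc_44_0 lc_i_rc_36_3 lc_i_Cert_tree lc_i_rc_44_0 lc_i_Cert_tree lc_i_rc_44_0 lc_i_rc_44_0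 lc_i_Cert_tree lc_i_rc_44_0 lc_i_rc_36_3 lc_i_rc_16_1 lc_i_rc_16_1 lc_i_Cert_tree lc_i_Cert_tree lc_i_Cert_tree lc_i_rc_44_0 lc_i_Cert_tree lc_i_Cert_tree lc_i_rc_44_0 lc_i_rc_29_1 lc_i_Cert_tree lc_i_rc_16_3 lc_i_Cert_tree lc_i_Cert_tree lc_i_rc_44_0 lc_i_Cert_tree lc_i_rc_44_0 lc_i_Cert_tree lc_i_rc_44_0 lc_i_Cert_tree lc_i_rc_44_0 lc_i_rc_8_1) (@D3.rec (fun _ => (Cert rels S Gen.i)) lc_i_Cert_tree lc_i_Cert_tree lc_i_rc_44_0 lc_i_Cert_tree lc_i_rc_44_0 lc_i_rc_40_1 lc_i_Cert_tree lc_i_Cert_tree lc_i_rc_44_0 lc_i_Cert_tree lc_i_Cert_tree lc_i_rc_44_0 lc_i_Cert_tree lc_i_Cert_tree lc_i_rc_44_0 lc_i_Cert_tree lc_i_rc_44_0 lc_i_Cert_tree lc_i_rc_44_0 lc_i_rc_36_3 lc_i_Cert_tree lc_i_rc_44_0 lc_i_rc_36_3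 lc_i_rc_44_0 lc_i_Cert_tree lc_i_rc_44_0 lc_i_Cert_tree lc_i_rc_44_0 lc_i_rc_16_1 lc_i_rc_36_3 lc_i_Cert_tree lc_i_rc_44_0) (@D3.rec (fun _ => (Cert rels S Gen.i)) lc_i_rc_23_1 lc_i_rc_16_1 lc_i_rc_16_1 lc_i_Cert_tree lc_i_Cert_tree lc_i_Cert_tree lc_i_rc_44_0 lc_i_Cert_tree lc_i_Cert_tree lc_i_rc_44_0 lc_i_rc_8_1 lc_i_Cert_tree lc_i_Cert_tree lc_i_Cert_tree lc_i_rc_44_0 lc_i_Cert_tree lc_i_rc_44_0 lc_i_Cert_tree lc_i_rc_44_0 lc_i_Cert_tree lc_i_rc_44_0 lc_i_rc_8_1 lc_i_rc_44_0 lc_i_Cert_tree lc_i_rc_44_0 lc_i_Cert_tree lc_i_rc_44_0 lc_i_Cert_tree lc_i_rc_44_0 lc_i_Cert_tree lc_i_Cert_tree lc_i_rc_44_0) (@D3.rec (fun _ => (Cert rels S Gen.i)) lc_i_rc_44_0 lc_i_Cert_tree lc_i_rc_44_0 lc_i_rc_36_3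 lc_i_Cert_tree lc_i_rc_44_0 lc_i_rc_36_3 lc_i_rc_44_0 lc_i_rc_23_1 lc_i_rc_16_1 lc_i_Cert_tree lc_i_rc_8_3 lc_i_Cert_tree lc_i_Cert_tree lc_i_rc_44_0 lc_i_Cert_tree lc_i_rc_44_0 lc_i_Cert_tree lc_i_Cert_tree lc_i_rc_44_0 lc_i_Cert_tree lc_i_rc_44_0 lc_i_Cert_tree lc_i_rc_44_0 lc_i_rc_16_1 lc_i_rc_23_1 lc_i_Cert_tree lc_i_Cert_tree lc_i_rc_44_0 lc_i_Cert_tree lc_i_rc_44_0 lc_i_Cert_tree) (@D3.rec (fun _ => (Cert rels S Gen.i)) lc_i_Cert_tree lc_i_rc_44_0 lc_i_Cert_tree lc_i_rc_44_0 lc_i_Cert_tree lc_i_rc_44_0 lc_i_rc_8_1 lc_i_Cert_tree lc_i_rc_44_0 lc_i_rc_8_1 lc_i_Cert_tree lc_i_rc_44_0 lc_i_rc_34_1 lc_i_Cert_tree lc_i_Cert_tree lc_i_rc_44_0 lc_i_Cert_tree lc_i_Cert_tree lc_i_rc_44_0 lc_i_Cert_tree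 lc_i_rc_44_0 lc_i_Cert_tree lc_i_Cert_tree lc_i_rc_44_0 lc_i_Cert_tree lc_i_rc_44_0 lc_i_rc_36_3 lc_i_Cert_tree lc_i_rc_44_0 lc_i_rc_43_1 lc_i_Cert_tree lc_i_rc_44_0) (@D3.rec (fun _ => (Cert rels S Gen.i)) lc_i_rc_36_3 lc_i_rc_44_0 lc_i_rc_40_1 lc_i_rc_29_1 lc_i_Cert_tree lc_i_rc_44_0 lc_i_rc_44_0 lc_i_rc_23_1 lc_i_rc_16_1 lc_i_Cert_tree lc_i_rc_16_1 lc_i_rc_23_1 lc_i_rc_34_1 lc_i_rc_44_0 lc_i_Cert_tree lc_i_Cert_tree lc_i_rc_44_0 lc_i_rc_34_1 lc_i_rc_44_0 lc_i_Cert_tree lc_i_rc_44_0 lc_i_rc_23_1 lc_i_Cert_tree lc_i_Cert_tree lc_i_Cert_tree lc_i_rc_44_0 lc_i_rc_23_1 lc_i_rc_44_0 lc_i_Cert_tree lc_i_rc_44_0 lc_i_rc_8_3 lc_i_rc_34_1) (@D3.rec (fun _ => (Cert rels S Gen.i)) lc_i_Cert_tree lc_i_rc_44_0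 lc_i_rc_43_1 lc_i_Cert_tree lc_i_Cert_tree lc_i_rc_44_0 lc_i_Cert_tree lc_i_Cert_tree lc_i_rc_44_0 lc_i_Cert_tree lc_i_rc_44_0 lc_i_Cert_tree lc_i_rc_44_0 lc_i_rc_16_1 lc_i_Cert_tree lc_i_Cert_tree lc_i_rc_44_0 lc_i_rc_23_1 lc_i_Cert_tree lc_i_rc_44_0 lc_i_rc_16_1 lc_i_Cert_tree lc_i_Cert_tree lc_i_rc_44_0 lc_i_Cert_tree lc_i_rc_44_0 lc_i_rc_8_1 lc_i_Cert_tree lc_i_rc_44_0 lc_i_rc_8_1 lc_i_Cert_tree lc_i_rc_44_0) (@D3.rec (fun _ => (Cert rels S Gen.i)) lc_i_rc_8_1 lc_i_rc_44_0 lc_i_rc_8_1 lc_i_rc_29_1 lc_i_Cert_tree lc_i_rc_44_0 lc_i_Cert_tree lc_i_Cert_tree lc_i_rc_44_0 lc_i_Cert_tree lc_i_rc_44_0 lc_i_rc_36_3 lc_i_Cert_tree lc_i_rc_44_0 lc_i_rc_36_3 lc_i_Cert_tree lc_i_rc_44_0 lc_i_rc_36_3 lc_i_rc_44_0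 lc_i_rc_40_1 lc_i_rc_29_1 lc_i_rc_43_1 lc_i_rc_29_1 lc_i_rc_23_1 lc_i_rc_44_0 lc_i_rc_29_1 lc_i_rc_29_1 lc_i_rc_16_1 lc_i_rc_23_3 lc_i_Cert_tree lc_i_Cert_tree lc_i_rc_44_0) (@D3.rec (fun _ => (Cert rels S Gen.i)) lc_i_rc_34_1 lc_i_rc_44_0 lc_i_rc_8_1 lc_i_rc_36_3 lc_i_rc_23_1 lc_i_rc_34_3 lc_i_Cert_tree lc_i_rc_43_1 lc_i_rc_34_3 lc_i_Cert_tree lc_i_Cert_tree lc_i_rc_44_0 lc_i_Cert_tree lc_i_rc_44_0 lc_i_Cert_tree lc_i_rc_44_0 lc_i_rc_16_1 lc_i_rc_36_3 lc_i_rc_43_1 lc_i_rc_44_0 lc_i_rc_43_1 lc_i_rc_29_1 lc_i_Cert_tree lc_i_rc_44_0 lc_i_rc_8_1 lc_i_Cert_tree lc_i_rc_44_0 lc_i_rc_8_1 lc_i_rc_40_3 lc_i_rc_29_3 lc_i_rc_29_1 lc_i_Cert_tree) (@D3.rec (fun _ => (Cert rels S Gen.i)) lc_i_rc_44_0 lc_i_rc_36_3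 lc_i_rc_44_0 lc_i_rc_40_1 lc_i_rc_29_1 lc_i_rc_23_1 lc_i_Cert_tree lc_i_rc_34_3 lc_i_rc_29_1 lc_i_Cert_tree lc_i_rc_44_0 lc_i_Cert_tree lc_i_rc_44_0 lc_i_rc_16_1 lc_i_rc_44_0 lc_i_rc_29_1 lc_i_Cert_tree lc_i_rc_44_0 lc_i_rc_8_1 lc_i_rc_44_0 lc_i_rc_40_1 lc_i_rc_29_1 lc_i_rc_16_3 lc_i_Cert_tree lc_i_Cert_tree lc_i_Cert_tree lc_i_rc_44_0 lc_i_rc_23_1 lc_i_rc_29_3 lc_i_rc_16_3 lc_i_rc_43_3 lc_i_Cert_tree) (@D3.rec (fun _ => (Cert rels S Gen.i)) lc_i_rc_44_0 lc_i_Cert_tree lc_i_rc_44_0 lc_i_rc_16_1 lc_i_Cert_tree lc_i_Cert_tree lc_i_rc_44_0 lc_i_rc_23_1 lc_i_Cert_tree lc_i_rc_44_0 lc_i_rc_16_1 lc_i_rc_44_0 lc_i_Cert_tree lc_i_rc_44_0 lc_i_rc_29_3 lc_i_rc_43_3 lc_i_Cert_tree lc_i_rc_44_0 lc_i_rc_8_1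 lc_i_rc_44_0 lc_i_rc_8_1 lc_i_rc_29_1 lc_i_Cert_tree lc_i_rc_44_0 lc_i_rc_29_3 lc_i_rc_29_1 lc_i_rc_44_0 lc_i_rc_40_1 lc_i_rc_29_1 lc_i_rc_43_1 lc_i_rc_29_1 lc_i_rc_23_1) (@D3.rec (fun _ => (Cert rels S Gen.i)) lc_i_rc_23_1 lc_i_Cert_tree lc_i_Cert_tree lc_i_Cert_tree lc_i_rc_44_0 lc_i_rc_23_1 lc_i_rc_16_1 lc_i_rc_23_1 lc_i_rc_16_1 lc_i_rc_23_1 lc_i_rc_16_1 lc_i_rc_29_1 lc_i_rc_23_1 lc_i_rc_44_0 lc_i_Cert_tree lc_i_rc_44_0 lc_i_rc_8_1 lc_i_Cert_tree lc_i_rc_44_0 lc_i_rc_40_1 lc_i_Cert_tree lc_i_Cert_tree lc_i_rc_44_0 lc_i_rc_29_3 lc_i_Cert_tree lc_i_rc_44_0 lc_i_Cert_tree lc_i_rc_44_0 lc_i_rc_44_0 lc_i_Cert_tree lc_i_rc_44_0 lc_i_Cert_tree) (@D3.rec (fun _ => (Cert rels S Gen.i)) lc_i_rc_44_0 lc_i_rc_16_1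 lc_i_Cert_tree lc_i_Cert_tree lc_i_rc_44_0 lc_i_rc_23_1 lc_i_Cert_tree lc_i_rc_44_0 lc_i_rc_16_1 lc_i_Cert_tree lc_i_Cert_tree lc_i_rc_44_0 lc_i_Cert_tree lc_i_rc_44_0 lc_i_rc_23_1 lc_i_rc_29_1 lc_i_rc_44_0 lc_i_rc_16_1 lc_i_rc_29_1 lc_i_Cert_tree lc_i_rc_44_0 lc_i_rc_8_1 lc_i_rc_44_0 lc_i_rc_8_1 lc_i_rc_29_1 lc_i_rc_8_1 lc_i_rc_29_1 lc_i_rc_23_1 lc_i_rc_44_0 lc_i_rc_40_1 lc_i_rc_29_1 lc_i_rc_43_1) (@D3.rec (fun _ => (Cert rels S Gen.i)) lc_i_rc_29_1 lc_i_rc_23_1 lc_i_Cert_tree lc_i_Cert_tree lc_i_Cert_tree lc_i_rc_44_0 lc_i_rc_44_0 lc_i_rc_36_3 lc_i_rc_44_0 lc_i_rc_23_1 lc_i_rc_29_1 lc_i_rc_34_1 lc_i_rc_16_1 lc_i_rc_16_1 lc_i_rc_23_1 lc_i_rc_16_1 lc_i_rc_23_1 lc_i_rc_16_1 lc_i_rc_23_1 lc_i_rc_29_1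 lc_i_Cert_tree lc_i_Cert_tree lc_i_rc_44_0 lc_i_Cert_tree lc_i_Cert_tree lc_i_rc_44_0 lc_i_Cert_tree lc_i_Cert_tree lc_i_rc_44_0 lc_i_Cert_tree lc_i_rc_44_0 lc_i_Cert_tree) (@D3.rec (fun _ => (Cert rels S Gen.i)) lc_i_rc_44_0 lc_i_rc_8_1 lc_i_Cert_tree lc_i_rc_44_0 lc_i_Cert_tree lc_i_rc_44_0 lc_i_Cert_tree lc_i_Cert_tree lc_i_rc_44_0 lc_i_Cert_tree lc_i_rc_44_0 lc_i_rc_36_3 lc_i_Cert_tree lc_i_rc_44_0 lc_i_rc_36_3 lc_i_rc_44_0 lc_i_rc_16_1 lc_i_rc_23_1 lc_i_Cert_tree lc_i_Cert_tree lc_i_rc_44_0 lc_i_Cert_tree lc_i_Cert_tree lc_i_rc_44_0 lc_i_Cert_tree lc_i_rc_44_0 lc_i_Cert_tree lc_i_rc_44_0 lc_i_rc_16_1 lc_i_Cert_tree lc_i_rc_44_0 lc_i_Cert_tree) (@D3.rec (fun _ => (Cert rels S Gen.i)) lc_i_rc_44_0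 lc_i_Cert_tree lc_i_rc_44_0 lc_i_rc_8_1 lc_i_Cert_tree lc_i_rc_44_0 lc_i_rc_8_1 lc_i_Cert_tree lc_i_rc_44_0 lc_i_Cert_tree lc_i_rc_44_0 lc_i_rc_36_3 lc_i_Cert_tree lc_i_rc_44_0 lc_i_rc_36_3 lc_i_rc_44_0 lc_i_rc_40_1 lc_i_rc_29_1 lc_i_Cert_tree lc_i_rc_44_0 lc_i_Cert_tree lc_i_rc_44_0 lc_i_Cert_tree lc_i_rc_44_0 lc_i_rc_16_1 lc_i_Cert_tree lc_i_Cert_tree lc_i_rc_44_0 lc_i_rc_23_1 lc_i_Cert_tree lc_i_rc_44_0 lc_i_rc_16_1) (@D3.rec (fun _ => (Cert rels S Gen.i)) lc_i_Cert_tree lc_i_rc_44_0 lc_i_rc_8_1 lc_i_rc_44_0 lc_i_rc_8_1 lc_i_rc_29_1 lc_i_rc_44_0 lc_i_rc_40_1 lc_i_rc_29_1 lc_i_rc_43_1 lc_i_rc_29_1 lc_i_rc_23_1 lc_i_rc_16_1 lc_i_Cert_tree lc_i_Cert_tree lc_i_rc_44_0 lc_i_Cert_tree lc_i_Cert_tree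 lc_i_Cert_tree lc_i_rc_44_0 lc_i_Cert_tree lc_i_rc_44_0 lc_i_Cert_tree lc_i_Cert_tree lc_i_rc_44_0 lc_i_rc_44_0 lc_i_rc_44_0 lc_i_Cert_tree lc_i_rc_44_0 lc_i_Cert_tree lc_i_rc_44_0 lc_i_Cert_tree) (@D3.rec (fun _ => (Cert rels S Gen.i)) lc_i_rc_44_0 lc_i_rc_36_3 lc_i_Cert_tree lc_i_rc_44_0 lc_i_Cert_tree lc_i_rc_44_0 lc_i_Cert_tree lc_i_rc_44_0 lc_i_Cert_tree lc_i_rc_44_0 lc_i_Cert_tree lc_i_rc_44_0 lc_i_rc_36_3 lc_i_rc_29_1 lc_i_rc_23_1 lc_i_Cert_tree lc_i_Cert_tree lc_i_Cert_tree lc_i_rc_44_0 lc_i_Cert_tree lc_i_Cert_tree lc_i_rc_44_0 lc_i_rc_43_1 lc_i_Cert_tree lc_i_rc_16_3 lc_i_Cert_tree lc_i_Cert_tree lc_i_rc_44_0 lc_i_Cert_tree lc_i_rc_44_0 lc_i_Cert_tree lc_i_rc_44_0) (@D3.rec (fun _ =>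 (Cert rels S Gen.i)) lc_i_Cert_tree lc_i_rc_44_0 lc_i_rc_8_1 lc_i_Cert_tree lc_i_Cert_tree lc_i_rc_44_0 lc_i_Cert_tree lc_i_rc_44_0 lc_i_rc_40_1 lc_i_Cert_tree lc_i_Cert_tree lc_i_rc_44_0 lc_i_Cert_tree lc_i_Cert_tree lc_i_rc_44_0 lc_i_Cert_tree lc_i_Cert_tree lc_i_rc_44_0 lc_i_Cert_tree lc_i_rc_44_0 lc_i_Cert_tree lc_i_rc_44_0 lc_i_rc_36_3 lc_i_Cert_tree lc_i_rc_44_0 lc_i_rc_36_3 lc_i_Cert_tree lc_i_rc_44_0 lc_i_Cert_tree lc_i_rc_44_0 lc_i_Cert_tree lc_i_rc_44_0) (@D3.rec (fun _ => (Cert rels S Gen.i)) lc_i_rc_16_1 lc_i_Cert_tree lc_i_rc_44_0 lc_i_Cert_tree lc_i_rc_44_0 lc_i_rc_36_3 lc_i_Cert_tree lc_i_rc_44_0 lc_i_rc_23_1 lc_i_rc_23_1 lc_i_rc_8_3 lc_i_Cert_tree lc_i_rc_8_3 lc_i_Cert_tree lc_i_Cert_tree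 lc_i_rc_44_0 lc_i_Cert_tree lc_i_rc_44_0 lc_i_Cert_tree lc_i_Cert_tree lc_i_rc_44_0 lc_i_Cert_tree lc_i_rc_44_0 lc_i_Cert_tree lc_i_rc_44_0 lc_i_rc_16_1 lc_i_rc_16_3 lc_i_Cert_tree lc_i_Cert_tree lc_i_rc_44_0 lc_i_Cert_tree lc_i_Cert_tree) (@D3.rec (fun _ => (Cert rels S Gen.i)) lc_i_rc_44_0 lc_i_Cert_tree lc_i_Cert_tree lc_i_rc_44_0 lc_i_Cert_tree lc_i_rc_44_0 lc_i_Cert_tree lc_i_rc_44_0 lc_i_rc_8_1 lc_i_Cert_tree lc_i_rc_44_0 lc_i_rc_8_1 lc_i_rc_44_0 lc_i_Cert_tree lc_i_rc_44_0 lc_i_Cert_tree lc_i_rc_44_0 lc_i_rc_34_1 lc_i_Cert_tree lc_i_Cert_tree lc_i_rc_44_0 lc_i_Cert_tree lc_i_Cert_tree lc_i_rc_44_0 lc_i_Cert_tree lc_i_rc_44_0 lc_i_Cert_tree lc_i_Cert_tree lc_i_rc_44_0 lc_i_Cert_tree lc_i_Cert_tree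 lc_i_rc_44_0)
def ce_i_6 : D2 → D3 → (Cert rels S Gen.i) := @D2.rec (fun _ => D3 → (Cert rels S Gen.i)) (@D3.rec (fun _ => (Cert rels S Gen.i)) lc_i_Cert_tree lc_i_rc_44_0 lc_i_rc_36_3 lc_i_Cert_tree lc_i_rc_44_0 lc_i_rc_36_3 lc_i_Cert_tree lc_i_rc_44_0 lc_i_rc_36_3 lc_i_rc_44_0 lc_i_rc_40_1 lc_i_rc_36_3 lc_i_Cert_tree lc_i_rc_44_0 lc_i_Cert_tree lc_i_rc_44_0 lc_i_Cert_tree lc_i_rc_44_0 lc_i_rc_44_0 lc_i_rc_23_1 lc_i_Cert_tree lc_i_rc_16_1 lc_i_Cert_tree lc_i_Cert_tree lc_i_rc_44_0 lc_i_rc_16_1 lc_i_rc_23_1 lc_i_rc_29_3 lc_i_rc_23_1 lc_i_rc_34_1 lc_i_Cert_tree lc_i_rc_44_0) (@D3.rec (fun _ => (Cert rels S Gen.i)) lc_i_rc_44_0 lc_i_rc_29_1 lc_i_Cert_tree lc_i_Cert_tree lc_i_rc_44_0 lc_i_Cert_tree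 lc_i_Cert_tree lc_i_rc_44_0 lc_i_rc_23_1 lc_i_rc_34_1 lc_i_rc_8_3 lc_i_rc_34_1 lc_i_rc_8_3 lc_i_rc_40_1 lc_i_Cert_tree lc_i_rc_44_0 lc_i_Cert_tree lc_i_Cert_tree lc_i_rc_44_0 lc_i_Cert_tree lc_i_Cert_tree lc_i_rc_44_0 lc_i_rc_44_0 lc_i_rc_16_3 lc_i_rc_16_3 lc_i_rc_16_1 lc_i_Cert_tree lc_i_Cert_tree lc_i_rc_44_0 lc_i_Cert_tree lc_i_rc_44_0 lc_i_Cert_tree) (@D3.rec (fun _ => (Cert rels S Gen.i)) lc_i_rc_44_0 lc_i_Cert_tree lc_i_Cert_tree lc_i_rc_44_0 lc_i_rc_44_0 lc_i_rc_44_0 lc_i_rc_44_0 lc_i_Cert_tree lc_i_Cert_tree lc_i_rc_44_0 lc_i_Cert_tree lc_i_rc_44_0 lc_i_Cert_tree lc_i_rc_44_0 lc_i_rc_44_0 lc_i_Cert_tree lc_i_rc_44_0 lc_i_rc_36_3 lc_i_rc_16_1 lc_i_rc_16_1 lc_i_Cert_tree lc_i_Cert_tree lc_i_Cert_tree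 lc_i_rc_44_0 lc_i_Cert_tree lc_i_Cert_tree lc_i_rc_44_0 lc_i_Cert_tree lc_i_Cert_tree lc_i_Cert_tree lc_i_rc_44_0 lc_i_rc_44_0) (@D3.rec (fun _ => (Cert rels S Gen.i)) lc_i_Cert_tree lc_i_rc_44_0 lc_i_Cert_tree lc_i_rc_44_0 lc_i_rc_8_1 lc_i_Cert_tree lc_i_rc_44_0 lc_i_Cert_tree lc_i_rc_44_0 lc_i_Cert_tree lc_i_rc_44_0 lc_i_Cert_tree lc_i_rc_44_0 lc_i_Cert_tree lc_i_Cert_tree lc_i_rc_44_0 lc_i_rc_44_0 lc_i_rc_44_0 lc_i_rc_36_3 lc_i_Cert_tree lc_i_rc_44_0 lc_i_Cert_tree lc_i_rc_44_0 lc_i_rc_16_1 lc_i_rc_36_3 lc_i_Cert_tree lc_i_rc_44_0 lc_i_rc_23_1 lc_i_rc_23_1 lc_i_rc_29_1 lc_i_Cert_tree lc_i_rc_40_1) (@D3.rec (fun _ => (Cert rels S Gen.i)) lc_i_Cert_tree lc_i_Cert_tree lc_i_rc_44_0 lc_i_Cert_tree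 lc_i_rc_44_0 lc_i_Cert_tree lc_i_Cert_tree lc_i_rc_44_0 lc_i_Cert_tree lc_i_rc_44_0 lc_i_Cert_tree lc_i_rc_44_0 lc_i_rc_16_1 lc_i_rc_29_1 lc_i_Cert_tree lc_i_Cert_tree lc_i_rc_44_0 lc_i_Cert_tree lc_i_Cert_tree lc_i_rc_44_0 lc_i_Cert_tree lc_i_Cert_tree lc_i_rc_44_0 lc_i_Cert_tree lc_i_rc_44_0 lc_i_Cert_tree lc_i_rc_44_0 lc_i_rc_8_1 lc_i_Cert_tree lc_i_rc_44_0 lc_i_rc_8_1 lc_i_rc_44_0) (@D3.rec (fun _ => (Cert rels S Gen.i)) lc_i_Cert_tree lc_i_rc_44_0 lc_i_Cert_tree lc_i_rc_44_0 lc_i_rc_8_1 lc_i_Cert_tree lc_i_Cert_tree lc_i_rc_44_0 lc_i_Cert_tree lc_i_Cert_tree lc_i_rc_44_0 lc_i_Cert_tree lc_i_rc_44_0 lc_i_Cert_tree lc_i_Cert_tree lc_i_rc_44_0 lc_i_Cert_tree lc_i_Cert_tree lc_i_rc_44_0 lc_i_Cert_tree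 lc_i_rc_44_0 lc_i_rc_36_3 lc_i_Cert_tree lc_i_rc_44_0 lc_i_Cert_tree lc_i_rc_44_0 lc_i_rc_36_3 lc_i_rc_44_0 lc_i_rc_40_1 lc_i_rc_29_1 lc_i_rc_44_0 lc_i_rc_16_1) (@D3.rec (fun _ => (Cert rels S Gen.i)) lc_i_Cert_tree lc_i_rc_44_0 lc_i_rc_23_1 lc_i_rc_44_0 lc_i_rc_16_1 lc_i_rc_23_1 lc_i_rc_16_1 lc_i_Cert_tree lc_i_Cert_tree lc_i_Cert_tree lc_i_rc_44_0 lc_i_Cert_tree lc_i_rc_44_0 lc_i_Cert_tree lc_i_Cert_tree lc_i_rc_44_0 lc_i_Cert_tree lc_i_rc_44_0 lc_i_Cert_tree lc_i_rc_44_0 lc_i_rc_16_1 lc_i_Cert_tree lc_i_rc_44_0 lc_i_Cert_tree lc_i_rc_44_0 lc_i_Cert_tree lc_i_Cert_tree lc_i_rc_44_0 lc_i_rc_44_0 lc_i_Cert_tree lc_i_rc_44_0 lc_i_rc_36_3) (@D3.rec (fun _ => (Cert rels S Gen.i)) lc_i_Cert_tree lc_i_rc_44_0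 lc_i_rc_8_1 lc_i_Cert_tree lc_i_rc_44_0 lc_i_Cert_tree lc_i_rc_44_0 lc_i_rc_44_0 lc_i_Cert_tree lc_i_rc_44_0 lc_i_Cert_tree lc_i_rc_44_0 lc_i_rc_36_3 lc_i_rc_44_0 lc_i_rc_44_0 lc_i_rc_40_1 lc_i_rc_29_1 lc_i_rc_23_1 lc_i_Cert_tree lc_i_rc_29_1 lc_i_Cert_tree lc_i_Cert_tree lc_i_rc_44_0 lc_i_Cert_tree lc_i_rc_44_0 lc_i_Cert_tree lc_i_Cert_tree lc_i_rc_44_0 lc_i_Cert_tree lc_i_Cert_tree lc_i_rc_44_0 lc_i_Cert_tree) (@D3.rec (fun _ => (Cert rels S Gen.i)) lc_i_rc_44_0 lc_i_Cert_tree lc_i_rc_44_0 lc_i_rc_16_1 lc_i_Cert_tree lc_i_Cert_tree lc_i_rc_44_0 lc_i_rc_23_1 lc_i_Cert_tree lc_i_rc_44_0 lc_i_rc_16_1 lc_i_rc_34_1 lc_i_Cert_tree lc_i_Cert_tree lc_i_rc_44_0 lc_i_Cert_tree lc_i_Cert_tree lc_i_rc_44_0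 lc_i_Cert_tree lc_i_rc_44_0 lc_i_Cert_tree lc_i_Cert_tree lc_i_rc_44_0 lc_i_Cert_tree lc_i_rc_44_0 lc_i_rc_36_3 lc_i_Cert_tree lc_i_rc_44_0 lc_i_rc_43_1 lc_i_Cert_tree lc_i_rc_44_0 lc_i_rc_8_1) (@D3.rec (fun _ => (Cert rels S Gen.i)) lc_i_rc_44_0 lc_i_rc_8_1 lc_i_rc_29_1 lc_i_Cert_tree lc_i_rc_44_0 lc_i_rc_36_3 lc_i_rc_44_0 lc_i_rc_40_3 lc_i_rc_44_0 lc_i_Cert_tree lc_i_Cert_tree lc_i_rc_44_0 lc_i_Cert_tree lc_i_rc_44_0 lc_i_rc_36_3 lc_i_Cert_tree lc_i_rc_44_0 lc_i_rc_36_3 lc_i_Cert_tree lc_i_Cert_tree lc_i_rc_44_0 lc_i_Cert_tree lc_i_rc_44_0 lc_i_rc_23_1 lc_i_Cert_tree lc_i_rc_44_0 lc_i_rc_36_3 lc_i_Cert_tree lc_i_rc_44_0 lc_i_rc_40_3 lc_i_rc_44_0 lc_i_rc_40_1) (@D3.rec (fun _ => (Cert rels S Gen.i))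 lc_i_rc_29_1 lc_i_rc_43_1 lc_i_rc_29_1 lc_i_rc_23_1 lc_i_rc_44_0 lc_i_rc_23_1 lc_i_Cert_tree lc_i_Cert_tree lc_i_Cert_tree lc_i_rc_44_0 lc_i_rc_23_1 lc_i_rc_34_1 lc_i_rc_34_1 lc_i_rc_44_0 lc_i_Cert_tree lc_i_rc_44_0 lc_i_rc_44_0 lc_i_Cert_tree lc_i_Cert_tree lc_i_rc_44_0 lc_i_rc_44_0 lc_i_Cert_tree lc_i_rc_44_0 lc_i_rc_23_1 lc_i_Cert_tree lc_i_rc_44_0 lc_i_rc_29_1 lc_i_Cert_tree lc_i_rc_44_0 lc_i_Cert_tree lc_i_Cert_tree lc_i_rc_44_0) (@D3.rec (fun _ => (Cert rels S Gen.i)) lc_i_Cert_tree lc_i_rc_44_0 lc_i_rc_16_1 lc_i_Cert_tree lc_i_rc_44_0 lc_i_Cert_tree lc_i_rc_44_0 lc_i_rc_16_1 lc_i_Cert_tree lc_i_Cert_tree lc_i_rc_44_0 lc_i_rc_23_1 lc_i_Cert_tree lc_i_rc_44_0 lc_i_rc_16_1 lc_i_Cert_tree lc_i_Cert_tree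 lc_i_rc_44_0 lc_i_Cert_tree lc_i_rc_44_0 lc_i_rc_23_1 lc_i_rc_29_1 lc_i_rc_44_0 lc_i_rc_16_1 lc_i_rc_29_1 lc_i_Cert_tree lc_i_Cert_tree lc_i_rc_44_0 lc_i_Cert_tree lc_i_rc_44_0 lc_i_rc_8_1 lc_i_Cert_tree) (@D3.rec (fun _ => (Cert rels S Gen.i)) lc_i_rc_44_0 lc_i_rc_8_1 lc_i_Cert_tree lc_i_rc_44_0 lc_i_rc_8_1 lc_i_rc_44_0 lc_i_rc_8_1 lc_i_rc_29_1 lc_i_rc_8_1 lc_i_rc_29_1 lc_i_rc_23_1 lc_i_rc_44_0 lc_i_Cert_tree lc_i_rc_44_0 lc_i_Cert_tree lc_i_rc_44_0 lc_i_rc_16_1 lc_i_Cert_tree lc_i_rc_44_0 lc_i_rc_36_3 lc_i_rc_44_0 lc_i_rc_40_1 lc_i_rc_36_3 lc_i_rc_44_0 lc_i_rc_40_1 lc_i_rc_29_1 lc_i_rc_43_1 lc_i_rc_29_1 lc_i_rc_23_1 lc_i_rc_40_1 lc_i_rc_29_1 lc_i_rc_23_1) (@D3.rec (fun _ => (Cert rels S Gen.i))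 lc_i_rc_16_1 lc_i_Cert_tree lc_i_rc_44_0 lc_i_rc_34_1 lc_i_rc_44_0 lc_i_rc_16_1 lc_i_rc_8_1 lc_i_rc_29_1 lc_i_rc_34_3 lc_i_Cert_tree lc_i_rc_36_3 lc_i_rc_43_1 lc_i_rc_44_0 lc_i_rc_16_1 lc_i_rc_43_1 lc_i_rc_23_1 lc_i_rc_36_5 lc_i_Cert_tree lc_i_rc_44_0 lc_i_Cert_tree lc_i_rc_44_0 lc_i_rc_16_1 lc_i_Cert_tree lc_i_Cert_tree lc_i_rc_44_0 lc_i_rc_23_1 lc_i_Cert_tree lc_i_rc_44_0 lc_i_rc_16_1 lc_i_rc_43_1 lc_i_rc_43_3 lc_i_rc_29_1) (@D3.rec (fun _ => (Cert rels S Gen.i)) lc_i_Cert_tree lc_i_rc_44_0 lc_i_rc_8_1 lc_i_rc_44_0 lc_i_rc_8_1 lc_i_rc_29_1 lc_i_rc_36_3 lc_i_rc_29_3 lc_i_rc_29_1 lc_i_rc_44_0 lc_i_rc_40_1 lc_i_rc_43_1 lc_i_rc_29_1 lc_i_rc_23_1 lc_i_Cert_tree lc_i_rc_44_0 lc_i_rc_29_3 lc_i_rc_29_1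 lc_i_Cert_tree lc_i_Cert_tree lc_i_rc_44_0 lc_i_rc_23_1 lc_i_Cert_tree lc_i_rc_44_0 lc_i_rc_16_1 lc_i_rc_44_0 lc_i_rc_8_1 lc_i_rc_29_1 lc_i_rc_43_1 lc_i_rc_29_1 lc_i_rc_23_1 lc_i_Cert_tree) (@D3.rec (fun _ => (Cert rels S Gen.i)) lc_i_Cert_tree lc_i_rc_44_0 lc_i_rc_44_0 lc_i_Cert_tree lc_i_Cert_tree lc_i_rc_44_0 lc_i_rc_8_3 lc_i_rc_29_3 lc_i_rc_43_3 lc_i_rc_43_3 lc_i_Cert_tree lc_i_Cert_tree lc_i_rc_44_0 lc_i_rc_23_1 lc_i_Cert_tree lc_i_rc_44_0 lc_i_rc_16_1 lc_i_Cert_tree lc_i_Cert_tree lc_i_rc_44_0 lc_i_Cert_tree lc_i_rc_44_0 lc_i_rc_23_1 lc_i_rc_29_1 lc_i_rc_44_0 lc_i_rc_16_1 lc_i_rc_29_1 lc_i_Cert_tree lc_i_rc_44_0 lc_i_rc_29_3 lc_i_rc_40_3 lc_i_rc_44_0) (@D3.rec (fun _ => (Cert rels S Gen.i))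 lc_i_rc_8_1 lc_i_rc_29_1 lc_i_rc_8_1 lc_i_rc_29_1 lc_i_rc_23_1 lc_i_Cert_tree lc_i_rc_44_0 lc_i_rc_43_1 lc_i_rc_29_1 lc_i_rc_23_1 lc_i_Cert_tree lc_i_Cert_tree lc_i_rc_44_0 lc_i_rc_44_0 lc_i_Cert_tree lc_i_Cert_tree lc_i_rc_44_0 lc_i_rc_23_1 lc_i_Cert_tree lc_i_rc_44_0 lc_i_rc_44_0 lc_i_rc_40_3 lc_i_Cert_tree lc_i_Cert_tree lc_i_rc_44_0 lc_i_Cert_tree lc_i_rc_44_0 lc_i_Cert_tree lc_i_rc_44_0 lc_i_rc_44_0 lc_i_Cert_tree lc_i_Cert_tree) (@D3.rec (fun _ => (Cert rels S Gen.i)) lc_i_rc_44_0 lc_i_rc_23_1 lc_i_Cert_tree lc_i_rc_44_0 lc_i_rc_16_1 lc_i_Cert_tree lc_i_Cert_tree lc_i_rc_44_0 lc_i_Cert_tree lc_i_rc_44_0 lc_i_rc_23_1 lc_i_rc_29_1 lc_i_rc_44_0 lc_i_rc_16_1 lc_i_rc_29_1 lc_i_Cert_tree lc_i_Cert_tree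 lc_i_Cert_tree lc_i_rc_44_0 lc_i_rc_44_0 lc_i_rc_36_3 lc_i_rc_44_0 lc_i_rc_23_1 lc_i_rc_29_1 lc_i_rc_34_1 lc_i_rc_16_1 lc_i_rc_29_1 lc_i_rc_23_1 lc_i_rc_44_0 lc_i_rc_8_1 lc_i_rc_29_1 lc_i_rc_8_1) (@D3.rec (fun _ => (Cert rels S Gen.i)) lc_i_rc_29_1 lc_i_rc_23_1 lc_i_rc_16_1 lc_i_rc_43_1 lc_i_rc_29_1 lc_i_rc_23_1 lc_i_rc_44_0 lc_i_rc_44_0 lc_i_rc_44_0 lc_i_rc_36_3 lc_i_rc_36_3 lc_i_rc_23_1 lc_i_rc_23_1 lc_i_rc_8_1 lc_i_Cert_tree lc_i_Cert_tree lc_i_rc_44_0 lc_i_Cert_tree lc_i_Cert_tree lc_i_rc_44_0 lc_i_Cert_tree lc_i_rc_44_0 lc_i_Cert_tree lc_i_rc_44_0 lc_i_rc_16_1 lc_i_Cert_tree lc_i_rc_44_0 lc_i_Cert_tree lc_i_Cert_tree lc_i_rc_44_0 lc_i_Cert_tree lc_i_rc_44_0) (@D3.rec (fun _ => (Cert rels S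 Gen.i)) lc_i_rc_8_1 lc_i_Cert_tree lc_i_rc_44_0 lc_i_rc_8_1 lc_i_Cert_tree lc_i_rc_44_0 lc_i_rc_8_1 lc_i_Cert_tree lc_i_Cert_tree lc_i_rc_44_0 lc_i_Cert_tree lc_i_rc_44_0 lc_i_Cert_tree lc_i_rc_44_0 lc_i_rc_36_3 lc_i_Cert_tree lc_i_rc_44_0 lc_i_rc_36_3 lc_i_rc_44_0 lc_i_rc_40_1 lc_i_rc_29_1 lc_i_rc_23_1 lc_i_Cert_tree lc_i_Cert_tree lc_i_rc_44_0 lc_i_Cert_tree lc_i_Cert_tree lc_i_rc_44_0 lc_i_Cert_tree lc_i_rc_44_0 lc_i_Cert_tree lc_i_rc_44_0) (@D3.rec (fun _ => (Cert rels S Gen.i)) lc_i_rc_16_1 lc_i_Cert_tree lc_i_Cert_tree lc_i_rc_44_0 lc_i_rc_23_1 lc_i_Cert_tree lc_i_rc_44_0 lc_i_rc_16_1 lc_i_Cert_tree lc_i_rc_44_0 lc_i_Cert_tree lc_i_rc_44_0 lc_i_rc_36_3 lc_i_Cert_tree lc_i_rc_44_0 lc_i_rc_8_1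 lc_i_rc_44_0 lc_i_rc_8_1 lc_i_rc_29_1 lc_i_Cert_tree lc_i_rc_44_0 lc_i_rc_36_3 lc_i_Cert_tree lc_i_rc_44_0 lc_i_rc_36_3 lc_i_rc_44_0 lc_i_rc_40_1 lc_i_rc_29_1 lc_i_rc_43_1 lc_i_rc_29_1 lc_i_rc_23_1 lc_i_Cert_tree) (@D3.rec (fun _ => (Cert rels S Gen.i)) lc_i_rc_44_0 lc_i_Cert_tree lc_i_Cert_tree lc_i_rc_44_0 lc_i_rc_23_1 lc_i_Cert_tree lc_i_rc_44_0 lc_i_rc_16_1 lc_i_Cert_tree lc_i_Cert_tree lc_i_rc_44_0 lc_i_Cert_tree lc_i_rc_44_0 lc_i_rc_23_1 lc_i_rc_29_1 lc_i_rc_44_0 lc_i_rc_16_1 lc_i_rc_29_1 lc_i_rc_44_0 lc_i_rc_8_1 lc_i_rc_29_1 lc_i_rc_8_1 lc_i_rc_29_1 lc_i_rc_23_1 lc_i_rc_43_1 lc_i_rc_29_1 lc_i_rc_23_1 lc_i_rc_29_1 lc_i_rc_23_1 lc_i_rc_34_1 lc_i_rc_16_1 lc_i_Cert_tree)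
def ce_i_7 : D2 → D3 → (Cert rels S Gen.i) := @D2.rec (fun _ => D3 → (Cert rels S Gen.i)) (@D3.rec (fun _ => (Cert rels S Gen.i)) lc_i_Cert_tree lc_i_rc_44_0 lc_i_Cert_tree lc_i_Cert_tree lc_i_rc_44_0 lc_i_rc_44_0 lc_i_Cert_tree lc_i_rc_44_0 lc_i_Cert_tree lc_i_rc_44_0 lc_i_Cert_tree lc_i_rc_44_0 lc_i_rc_8_1 lc_i_Cert_tree lc_i_rc_44_0 lc_i_Cert_tree lc_i_rc_44_0 lc_i_rc_44_0 lc_i_Cert_tree lc_i_rc_44_0 lc_i_rc_36_3 lc_i_Cert_tree lc_i_rc_44_0 lc_i_rc_36_3 lc_i_rc_44_0 lc_i_Cert_tree lc_i_rc_44_0 lc_i_rc_16_1 lc_i_Cert_tree lc_i_Cert_tree lc_i_rc_44_0 lc_i_Cert_tree) (@D3.rec (fun _ => (Cert rels S Gen.i)) lc_i_rc_44_0 lc_i_rc_36_3 lc_i_Cert_tree lc_i_rc_44_0 lc_i_rc_23_1 lc_i_rc_8_1 lc_i_rc_34_1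 lc_i_Cert_tree lc_i_rc_40_1 lc_i_Cert_tree lc_i_Cert_tree lc_i_rc_44_0 lc_i_Cert_tree lc_i_rc_44_0 lc_i_Cert_tree lc_i_Cert_tree lc_i_rc_44_0 lc_i_Cert_tree lc_i_rc_44_0 lc_i_Cert_tree lc_i_rc_44_0 lc_i_rc_16_1 lc_i_rc_16_3 lc_i_Cert_tree lc_i_Cert_tree lc_i_rc_44_0 lc_i_Cert_tree lc_i_Cert_tree lc_i_rc_44_0 lc_i_Cert_tree lc_i_Cert_tree lc_i_rc_44_0) (@D3.rec (fun _ => (Cert rels S Gen.i)) lc_i_Cert_tree lc_i_rc_44_0 lc_i_Cert_tree lc_i_rc_44_0 lc_i_rc_8_1 lc_i_Cert_tree lc_i_rc_44_0 lc_i_rc_8_1 lc_i_Cert_tree lc_i_rc_44_0 lc_i_Cert_tree lc_i_rc_44_0 lc_i_Cert_tree lc_i_rc_44_0 lc_i_rc_8_1 lc_i_Cert_tree lc_i_Cert_tree lc_i_rc_44_0 lc_i_Cert_tree lc_i_Cert_tree lc_i_rc_44_0 lc_i_Cert_tree lc_i_rc_44_0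 lc_i_Cert_tree lc_i_Cert_tree lc_i_rc_44_0 lc_i_Cert_tree lc_i_Cert_tree lc_i_rc_44_0 lc_i_Cert_tree lc_i_rc_44_0 lc_i_rc_36_3) (@D3.rec (fun _ => (Cert rels S Gen.i)) lc_i_rc_44_0 lc_i_rc_36_3 lc_i_Cert_tree lc_i_rc_44_0 lc_i_rc_36_3 lc_i_rc_44_0 lc_i_rc_40_1 lc_i_rc_36_3 lc_i_Cert_tree lc_i_Cert_tree lc_i_rc_44_0 lc_i_Cert_tree lc_i_rc_44_0 lc_i_rc_16_1 lc_i_Cert_tree lc_i_rc_44_0 lc_i_rc_23_1 lc_i_rc_44_0 lc_i_rc_40_1 lc_i_Cert_tree lc_i_rc_44_0 lc_i_rc_23_1 lc_i_rc_44_0 lc_i_rc_16_1 lc_i_rc_23_1 lc_i_Cert_tree lc_i_rc_8_3 lc_i_Cert_tree lc_i_Cert_tree lc_i_rc_44_0 lc_i_Cert_tree lc_i_Cert_tree) (@D3.rec (fun _ => (Cert rels S Gen.i)) lc_i_rc_44_0 lc_i_Cert_tree lc_i_Cert_tree lc_i_rc_44_0 lc_i_Cert_tree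 lc_i_Cert_tree lc_i_rc_44_0 lc_i_Cert_tree lc_i_rc_44_0 lc_i_Cert_tree lc_i_rc_44_0 lc_i_rc_16_1 lc_i_Cert_tree lc_i_Cert_tree lc_i_rc_44_0 lc_i_rc_23_1 lc_i_Cert_tree lc_i_rc_44_0 lc_i_rc_16_1 lc_i_rc_34_1 lc_i_Cert_tree lc_i_Cert_tree lc_i_rc_44_0 lc_i_Cert_tree lc_i_Cert_tree lc_i_rc_44_0 lc_i_Cert_tree lc_i_rc_44_0 lc_i_Cert_tree lc_i_Cert_tree lc_i_rc_44_0 lc_i_Cert_tree) (@D3.rec (fun _ => (Cert rels S Gen.i)) lc_i_Cert_tree lc_i_rc_44_0 lc_i_Cert_tree lc_i_rc_44_0 lc_i_rc_36_3 lc_i_Cert_tree lc_i_rc_44_0 lc_i_rc_8_1 lc_i_Cert_tree lc_i_rc_44_0 lc_i_rc_8_1 lc_i_rc_44_0 lc_i_rc_8_1 lc_i_rc_8_1 lc_i_Cert_tree lc_i_rc_44_0 lc_i_Cert_tree lc_i_rc_44_0 lc_i_Cert_tree lc_i_Cert_tree lc_i_rc_44_0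 lc_i_Cert_tree lc_i_Cert_tree lc_i_rc_44_0 lc_i_Cert_tree lc_i_Cert_tree lc_i_rc_44_0 lc_i_Cert_tree lc_i_rc_44_0 lc_i_rc_36_3 lc_i_Cert_tree lc_i_rc_44_0) (@D3.rec (fun _ => (Cert rels S Gen.i)) lc_i_Cert_tree lc_i_Cert_tree lc_i_rc_44_0 lc_i_Cert_tree lc_i_rc_44_0 lc_i_rc_36_3 lc_i_Cert_tree lc_i_Cert_tree lc_i_rc_44_0 lc_i_Cert_tree lc_i_rc_44_0 lc_i_rc_23_1 lc_i_Cert_tree lc_i_rc_44_0 lc_i_rc_36_3 lc_i_Cert_tree lc_i_rc_44_0 lc_i_rc_36_3 lc_i_rc_44_0 lc_i_rc_40_1 lc_i_rc_29_1 lc_i_rc_43_1 lc_i_rc_40_1 lc_i_rc_23_1 lc_i_Cert_tree lc_i_rc_44_0 lc_i_rc_44_0 lc_i_rc_44_0 lc_i_rc_23_1 lc_i_Cert_tree lc_i_Cert_tree lc_i_rc_44_0) (@D3.rec (fun _ => (Cert rels S Gen.i)) lc_i_rc_29_1 lc_i_Cert_tree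 lc_i_Cert_tree lc_i_rc_44_0 lc_i_Cert_tree lc_i_Cert_tree lc_i_rc_44_0 lc_i_rc_23_1 lc_i_rc_34_1 lc_i_rc_23_1 lc_i_rc_34_1 lc_i_rc_34_1 lc_i_rc_29_3 lc_i_rc_44_0 lc_i_Cert_tree lc_i_rc_44_0 lc_i_Cert_tree lc_i_Cert_tree lc_i_rc_44_0 lc_i_Cert_tree lc_i_Cert_tree lc_i_rc_44_0 lc_i_rc_44_0 lc_i_rc_29_1 lc_i_rc_40_1 lc_i_rc_34_1 lc_i_rc_40_1 lc_i_rc_44_0 lc_i_rc_44_0 lc_i_rc_44_0 lc_i_Cert_tree lc_i_rc_44_0) (@D3.rec (fun _ => (Cert rels S Gen.i)) lc_i_rc_44_0 lc_i_Cert_tree lc_i_rc_44_0 lc_i_Cert_tree lc_i_Cert_tree lc_i_rc_44_0 lc_i_rc_44_0 lc_i_rc_44_0 lc_i_Cert_tree lc_i_rc_44_0 lc_i_Cert_tree lc_i_rc_44_0 lc_i_Cert_tree lc_i_rc_44_0 lc_i_Cert_tree lc_i_rc_44_0 lc_i_Cert_tree lc_i_rc_44_0 lc_i_rc_16_1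 lc_i_rc_44_0 lc_i_rc_36_3 lc_i_Cert_tree lc_i_rc_44_0 lc_i_rc_23_1 lc_i_rc_23_1 lc_i_Cert_tree lc_i_Cert_tree lc_i_Cert_tree lc_i_rc_44_0 lc_i_rc_44_0 lc_i_Cert_tree lc_i_Cert_tree) (@D3.rec (fun _ => (Cert rels S Gen.i)) lc_i_rc_44_0 lc_i_Cert_tree lc_i_rc_44_0 lc_i_Cert_tree lc_i_rc_44_0 lc_i_rc_16_1 lc_i_Cert_tree lc_i_rc_44_0 lc_i_Cert_tree lc_i_rc_44_0 lc_i_Cert_tree lc_i_Cert_tree lc_i_rc_44_0 lc_i_rc_44_0 lc_i_rc_44_0 lc_i_rc_8_1 lc_i_Cert_tree lc_i_rc_44_0 lc_i_Cert_tree lc_i_rc_44_0 lc_i_rc_8_1 lc_i_rc_44_0 lc_i_Cert_tree lc_i_rc_44_0 lc_i_Cert_tree lc_i_rc_44_0 lc_i_rc_44_0 lc_i_rc_36_3 lc_i_rc_36_3 lc_i_rc_29_1 lc_i_rc_44_0 lc_i_rc_16_1) (@D3.rec (fun _ => (Cert rels S Gen.i)) lc_i_Cert_tree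 lc_i_rc_44_0 lc_i_rc_23_1 lc_i_rc_44_0 lc_i_rc_16_1 lc_i_rc_29_3 lc_i_Cert_tree lc_i_rc_29_1 lc_i_Cert_tree lc_i_Cert_tree lc_i_rc_44_0 lc_i_Cert_tree lc_i_Cert_tree lc_i_rc_44_0 lc_i_Cert_tree lc_i_Cert_tree lc_i_rc_44_0 lc_i_Cert_tree lc_i_Cert_tree lc_i_rc_44_0 lc_i_Cert_tree lc_i_rc_44_0 lc_i_Cert_tree lc_i_rc_44_0 lc_i_rc_16_1 lc_i_Cert_tree lc_i_Cert_tree lc_i_rc_44_0 lc_i_rc_23_1 lc_i_Cert_tree lc_i_rc_44_0 lc_i_rc_16_1) (@D3.rec (fun _ => (Cert rels S Gen.i)) lc_i_Cert_tree lc_i_Cert_tree lc_i_rc_44_0 lc_i_Cert_tree lc_i_Cert_tree lc_i_rc_44_0 lc_i_Cert_tree lc_i_rc_44_0 lc_i_Cert_tree lc_i_Cert_tree lc_i_rc_44_0 lc_i_Cert_tree lc_i_Cert_tree lc_i_rc_44_0 lc_i_Cert_tree lc_i_rc_44_0 lc_i_rc_36_3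 lc_i_Cert_tree lc_i_rc_44_0 lc_i_Cert_tree lc_i_rc_44_0 lc_i_rc_8_1 lc_i_rc_44_0 lc_i_rc_8_1 lc_i_rc_29_1 lc_i_Cert_tree lc_i_rc_44_0 lc_i_rc_8_1 lc_i_Cert_tree lc_i_rc_44_0 lc_i_rc_8_1 lc_i_Cert_tree) (@D3.rec (fun _ => (Cert rels S Gen.i)) lc_i_rc_44_0 lc_i_Cert_tree lc_i_rc_44_0 lc_i_Cert_tree lc_i_Cert_tree lc_i_rc_44_0 lc_i_Cert_tree lc_i_rc_44_0 lc_i_rc_36_3 lc_i_Cert_tree lc_i_rc_44_0 lc_i_Cert_tree lc_i_rc_44_0 lc_i_Cert_tree lc_i_rc_44_0 lc_i_rc_36_3 lc_i_Cert_tree lc_i_Cert_tree lc_i_rc_44_0 lc_i_Cert_tree lc_i_rc_44_0 lc_i_rc_23_1 lc_i_Cert_tree lc_i_rc_44_0 lc_i_rc_36_3 lc_i_Cert_tree lc_i_rc_44_0 lc_i_rc_44_0 lc_i_rc_40_1 lc_i_rc_40_3 lc_i_rc_43_1 lc_i_rc_29_1) (@D3.rec (fun _ => (Cert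 rels S Gen.i)) lc_i_rc_23_1 lc_i_rc_23_1 lc_i_rc_44_0 lc_i_rc_16_1 lc_i_rc_29_1 lc_i_rc_8_1 lc_i_rc_23_1 lc_i_Cert_tree lc_i_Cert_tree lc_i_rc_44_0 lc_i_Cert_tree lc_i_rc_44_0 lc_i_Cert_tree lc_i_Cert_tree lc_i_rc_44_0 lc_i_Cert_tree lc_i_rc_44_0 lc_i_Cert_tree lc_i_rc_44_0 lc_i_Cert_tree lc_i_rc_44_0 lc_i_rc_36_3 lc_i_Cert_tree lc_i_Cert_tree lc_i_rc_44_0 lc_i_rc_23_1 lc_i_Cert_tree lc_i_rc_44_0 lc_i_rc_16_1 lc_i_Cert_tree lc_i_rc_44_0 lc_i_rc_44_0) (@D3.rec (fun _ => (Cert rels S Gen.i)) lc_i_Cert_tree lc_i_Cert_tree lc_i_rc_44_0 lc_i_Cert_tree lc_i_rc_44_0 lc_i_rc_36_3 lc_i_rc_44_0 lc_i_rc_44_0 lc_i_rc_8_1 lc_i_rc_29_1 lc_i_rc_44_0 lc_i_rc_44_0 lc_i_rc_36_3 lc_i_rc_23_3 lc_i_Cert_tree lc_i_rc_44_0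 lc_i_rc_23_1 lc_i_rc_44_0 lc_i_rc_23_3 lc_i_rc_43_1 lc_i_rc_29_1 lc_i_rc_23_1 lc_i_rc_29_3 lc_i_Cert_tree lc_i_Cert_tree lc_i_rc_44_0 lc_i_rc_34_1 lc_i_Cert_tree lc_i_Cert_tree lc_i_rc_44_0 lc_i_Cert_tree lc_i_Cert_tree) (@D3.rec (fun _ => (Cert rels S Gen.i)) lc_i_rc_44_0 lc_i_Cert_tree lc_i_Cert_tree lc_i_rc_44_0 lc_i_Cert_tree lc_i_Cert_tree lc_i_rc_44_0 lc_i_Cert_tree lc_i_rc_44_0 lc_i_rc_36_3 lc_i_Cert_tree lc_i_rc_44_0 lc_i_Cert_tree lc_i_rc_44_0 lc_i_rc_43_1 lc_i_Cert_tree lc_i_Cert_tree lc_i_rc_44_0 lc_i_rc_23_1 lc_i_Cert_tree lc_i_rc_44_0 lc_i_rc_16_1 lc_i_Cert_tree lc_i_Cert_tree lc_i_rc_44_0 lc_i_Cert_tree lc_i_rc_44_0 lc_i_rc_23_1 lc_i_rc_29_1 lc_i_rc_44_0 lc_i_rc_16_1 lc_i_rc_29_1)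 (@D3.rec (fun _ => (Cert rels S Gen.i)) lc_i_rc_36_3 lc_i_rc_44_0 lc_i_rc_8_1 lc_i_rc_44_0 lc_i_Cert_tree lc_i_Cert_tree lc_i_rc_44_0 lc_i_Cert_tree lc_i_rc_44_0 lc_i_rc_36_3 lc_i_Cert_tree lc_i_rc_44_0 lc_i_rc_36_3 lc_i_Cert_tree lc_i_Cert_tree lc_i_rc_44_0 lc_i_Cert_tree lc_i_rc_44_0 lc_i_rc_23_1 lc_i_Cert_tree lc_i_rc_44_0 lc_i_rc_36_3 lc_i_Cert_tree lc_i_rc_44_0 lc_i_rc_43_1 lc_i_rc_44_0 lc_i_rc_8_1 lc_i_rc_29_1 lc_i_rc_8_1 lc_i_rc_29_1 lc_i_rc_23_1 lc_i_rc_44_0) (@D3.rec (fun _ => (Cert rels S Gen.i)) lc_i_rc_29_1 lc_i_rc_36_3 lc_i_Cert_tree lc_i_Cert_tree lc_i_rc_44_0 lc_i_Cert_tree lc_i_rc_44_0 lc_i_rc_23_1 lc_i_Cert_tree lc_i_rc_44_0 lc_i_rc_36_3 lc_i_Cert_tree lc_i_rc_44_0 lc_i_rc_40_3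 lc_i_Cert_tree lc_i_rc_44_0 lc_i_Cert_tree lc_i_rc_44_0 lc_i_rc_16_1 lc_i_Cert_tree lc_i_rc_44_0 lc_i_rc_23_1 lc_i_rc_44_0 lc_i_rc_36_3 lc_i_rc_40_3 lc_i_rc_44_0 lc_i_rc_36_3 lc_i_rc_43_1 lc_i_rc_29_1 lc_i_rc_23_1 lc_i_Cert_tree lc_i_Cert_tree) (@D3.rec (fun _ => (Cert rels S Gen.i)) lc_i_rc_44_0 lc_i_rc_44_0 lc_i_Cert_tree lc_i_Cert_tree lc_i_rc_44_0 lc_i_rc_34_1 lc_i_rc_44_0 lc_i_Cert_tree lc_i_rc_44_0 lc_i_Cert_tree lc_i_Cert_tree lc_i_rc_44_0 lc_i_Cert_tree lc_i_rc_44_0 lc_i_rc_23_1 lc_i_Cert_tree lc_i_rc_44_0 lc_i_rc_44_0 lc_i_Cert_tree lc_i_Cert_tree lc_i_rc_44_0 lc_i_Cert_tree lc_i_Cert_tree lc_i_rc_44_0 lc_i_rc_23_1 lc_i_Cert_tree lc_i_rc_44_0 lc_i_rc_16_1 lc_i_Cert_tree lc_i_Cert_tree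 lc_i_rc_44_0 lc_i_rc_23_1) (@D3.rec (fun _ => (Cert rels S Gen.i)) lc_i_Cert_tree lc_i_rc_44_0 lc_i_rc_16_1 lc_i_Cert_tree lc_i_Cert_tree lc_i_rc_44_0 lc_i_Cert_tree lc_i_rc_44_0 lc_i_rc_23_1 lc_i_rc_29_1 lc_i_rc_44_0 lc_i_rc_16_1 lc_i_rc_29_1 lc_i_Cert_tree lc_i_Cert_tree lc_i_Cert_tree lc_i_rc_44_0 lc_i_rc_44_0 lc_i_rc_36_3 lc_i_rc_44_0 lc_i_rc_23_1 lc_i_rc_29_1 lc_i_rc_34_1 lc_i_rc_16_1 lc_i_rc_29_1 lc_i_rc_23_1 lc_i_Cert_tree lc_i_rc_44_0 lc_i_Cert_tree lc_i_rc_44_0 lc_i_rc_16_1 lc_i_Cert_tree) (@D3.rec (fun _ => (Cert rels S Gen.i)) lc_i_rc_44_0 lc_i_rc_8_1 lc_i_rc_44_0 lc_i_rc_8_1 lc_i_rc_8_1 lc_i_rc_44_0 lc_i_rc_8_1 lc_i_rc_29_1 lc_i_rc_8_1 lc_i_rc_29_1 lc_i_rc_23_1 lc_i_rc_16_1 lc_i_Cert_tree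 lc_i_rc_44_0 lc_i_rc_8_1 lc_i_Cert_tree lc_i_rc_44_0 lc_i_rc_16_1 lc_i_rc_44_0 lc_i_rc_40_1 lc_i_rc_29_1 lc_i_rc_43_1 lc_i_rc_40_1 lc_i_rc_23_1 lc_i_rc_43_1 lc_i_rc_29_1 lc_i_rc_23_1 lc_i_rc_40_1 lc_i_rc_8_3 lc_i_rc_34_1 lc_i_rc_44_0 lc_i_rc_23_1) (@D3.rec (fun _ => (Cert rels S Gen.i)) lc_i_rc_16_1 lc_i_rc_29_1 lc_i_rc_36_3 lc_i_Cert_tree lc_i_rc_44_0 lc_i_rc_16_1 lc_i_rc_43_1 lc_i_rc_43_1 lc_i_rc_43_3 lc_i_rc_8_1 lc_i_rc_29_1 lc_i_Cert_tree lc_i_Cert_tree lc_i_rc_44_0 lc_i_rc_23_1 lc_i_Cert_tree lc_i_rc_44_0 lc_i_rc_16_1 lc_i_Cert_tree lc_i_rc_8_3 lc_i_rc_44_0 lc_i_Cert_tree lc_i_rc_44_0 lc_i_rc_23_1 lc_i_rc_29_1 lc_i_rc_44_0 lc_i_rc_16_1 lc_i_rc_29_1 lc_i_rc_43_3 lc_i_rc_40_1 lc_i_rc_29_1 lc_i_rc_44_0)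
def ce_i_8 : D2 → D3 → (Cert rels S Gen.i) := @D2.rec (fun _ => D3 → (Cert rels S Gen.i)) (@D3.rec (fun _ => (Cert rels S Gen.i)) lc_i_rc_8_1 lc_i_rc_8_1 lc_i_rc_29_1 lc_i_rc_23_1 lc_i_rc_36_3 lc_i_rc_43_1 lc_i_Cert_tree lc_i_rc_44_0 lc_i_rc_23_1 lc_i_rc_29_3 lc_i_Cert_tree lc_i_rc_8_1 lc_i_rc_44_0 lc_i_Cert_tree lc_i_rc_44_0 lc_i_rc_23_1 lc_i_rc_29_1 lc_i_rc_44_0 lc_i_rc_16_1 lc_i_rc_29_1 lc_i_rc_8_1 lc_i_rc_29_1 lc_i_rc_23_1 lc_i_Cert_tree lc_i_rc_44_0 lc_i_Cert_tree lc_i_Cert_tree lc_i_rc_44_0 lc_i_Cert_tree lc_i_rc_44_0 lc_i_Cert_tree lc_i_rc_44_0) (@D3.rec (fun _ => (Cert rels S Gen.i)) lc_i_rc_23_3 lc_i_rc_8_3 lc_i_rc_29_3 lc_i_rc_16_3 lc_i_rc_43_3 lc_i_rc_40_3 lc_i_Cert_tree lc_i_Cert_tree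 lc_i_rc_44_0 lc_i_Cert_tree lc_i_rc_44_0 lc_i_rc_23_1 lc_i_rc_29_1 lc_i_rc_44_0 lc_i_rc_16_1 lc_i_rc_29_1 lc_i_Cert_tree lc_i_Cert_tree lc_i_Cert_tree lc_i_rc_44_0 lc_i_rc_44_0 lc_i_rc_8_1 lc_i_rc_44_0 lc_i_rc_23_1 lc_i_rc_29_1 lc_i_rc_34_1 lc_i_rc_16_1 lc_i_rc_29_1 lc_i_rc_23_1 lc_i_Cert_tree lc_i_rc_44_0 lc_i_rc_8_1) (@D3.rec (fun _ => (Cert rels S Gen.i)) lc_i_rc_29_1 lc_i_rc_23_1 lc_i_rc_16_1 lc_i_rc_44_0 lc_i_Cert_tree lc_i_rc_44_0 lc_i_Cert_tree lc_i_Cert_tree lc_i_rc_44_0 lc_i_rc_44_0 lc_i_rc_44_0 lc_i_rc_44_0 lc_i_rc_44_0 lc_i_Cert_tree lc_i_rc_44_0 lc_i_Cert_tree lc_i_rc_44_0 lc_i_rc_36_3 lc_i_rc_44_0 lc_i_Cert_tree lc_i_Cert_tree lc_i_rc_44_0 lc_i_Cert_tree lc_i_rc_44_0 lc_i_rc_23_1 lc_i_rc_29_1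 lc_i_rc_44_0 lc_i_rc_16_1 lc_i_rc_29_1 lc_i_Cert_tree lc_i_Cert_tree lc_i_Cert_tree) (@D3.rec (fun _ => (Cert rels S Gen.i)) lc_i_rc_44_0 lc_i_rc_44_0 lc_i_rc_36_3 lc_i_rc_44_0 lc_i_rc_23_1 lc_i_rc_29_1 lc_i_rc_34_1 lc_i_rc_16_1 lc_i_rc_29_1 lc_i_rc_23_1 lc_i_rc_44_0 lc_i_rc_44_0 lc_i_rc_44_0 lc_i_rc_36_3 lc_i_rc_36_3 lc_i_rc_23_1 lc_i_rc_29_1 lc_i_rc_8_1 lc_i_rc_29_1 lc_i_rc_23_1 lc_i_rc_16_1 lc_i_rc_29_1 lc_i_rc_36_3 lc_i_Cert_tree lc_i_Cert_tree lc_i_rc_44_0 lc_i_Cert_tree lc_i_Cert_tree lc_i_rc_44_0 lc_i_Cert_tree lc_i_rc_44_0 lc_i_Cert_tree) (@D3.rec (fun _ => (Cert rels S Gen.i)) lc_i_rc_44_0 lc_i_rc_16_1 lc_i_Cert_tree lc_i_Cert_tree lc_i_rc_44_0 lc_i_rc_23_1 lc_i_Cert_tree lc_i_rc_44_0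 lc_i_rc_16_1 lc_i_Cert_tree lc_i_Cert_tree lc_i_rc_44_0 lc_i_Cert_tree lc_i_Cert_tree lc_i_rc_44_0 lc_i_Cert_tree lc_i_rc_44_0 lc_i_rc_36_3 lc_i_Cert_tree lc_i_rc_44_0 lc_i_rc_8_1 lc_i_rc_44_0 lc_i_rc_8_1 lc_i_rc_29_1 lc_i_rc_44_0 lc_i_rc_8_1 lc_i_rc_44_0 lc_i_rc_44_0 lc_i_rc_36_3 lc_i_rc_44_0 lc_i_rc_23_1 lc_i_rc_44_0) (@D3.rec (fun _ => (Cert rels S Gen.i)) lc_i_rc_36_3 lc_i_rc_44_0 lc_i_rc_40_1 lc_i_rc_29_1 lc_i_rc_43_1 lc_i_rc_29_1 lc_i_rc_23_1 lc_i_rc_29_1 lc_i_Cert_tree lc_i_rc_44_0 lc_i_Cert_tree lc_i_Cert_tree lc_i_rc_44_0 lc_i_Cert_tree lc_i_rc_44_0 lc_i_Cert_tree lc_i_rc_44_0 lc_i_rc_36_3 lc_i_Cert_tree lc_i_Cert_tree lc_i_rc_44_0 lc_i_rc_23_1 lc_i_Cert_tree lc_i_rc_44_0 lc_i_rc_16_1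 lc_i_Cert_tree lc_i_Cert_tree lc_i_rc_44_0 lc_i_Cert_tree lc_i_rc_44_0 lc_i_rc_23_1 lc_i_rc_29_1) (@D3.rec (fun _ => (Cert rels S Gen.i)) lc_i_rc_44_0 lc_i_rc_16_1 lc_i_rc_29_1 lc_i_Cert_tree lc_i_rc_44_0 lc_i_rc_36_3 lc_i_Cert_tree lc_i_rc_44_0 lc_i_rc_36_3 lc_i_rc_44_0 lc_i_rc_8_1 lc_i_rc_29_1 lc_i_rc_8_1 lc_i_rc_29_1 lc_i_rc_23_1 lc_i_rc_44_0 lc_i_rc_36_3 lc_i_rc_44_0 lc_i_rc_36_3 lc_i_rc_29_1 lc_i_rc_43_1 lc_i_rc_29_1 lc_i_rc_23_1 lc_i_rc_29_1 lc_i_rc_23_1 lc_i_rc_34_1 lc_i_rc_16_1 lc_i_Cert_tree lc_i_rc_44_0 lc_i_Cert_tree lc_i_Cert_tree lc_i_rc_44_0) (@D3.rec (fun _ => (Cert rels S Gen.i)) lc_i_Cert_tree lc_i_rc_44_0 lc_i_rc_23_1 lc_i_rc_29_1 lc_i_rc_44_0 lc_i_rc_16_1 lc_i_rc_29_1 lc_i_Cert_tree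 lc_i_Cert_tree lc_i_Cert_tree lc_i_rc_44_0 lc_i_rc_44_0 lc_i_rc_36_3 lc_i_rc_44_0 lc_i_rc_23_1 lc_i_rc_29_1 lc_i_rc_34_1 lc_i_rc_16_1 lc_i_rc_29_1 lc_i_rc_23_1 lc_i_rc_8_1 lc_i_rc_29_1 lc_i_rc_23_1 lc_i_rc_29_1 lc_i_rc_23_1 lc_i_rc_34_1 lc_i_rc_16_1 lc_i_rc_29_1 lc_i_rc_23_1 lc_i_rc_34_1 lc_i_rc_16_1 lc_i_rc_23_1) (@D3.rec (fun _ => (Cert rels S Gen.i)) lc_i_rc_34_1 lc_i_rc_16_1 lc_i_rc_23_1 lc_i_rc_8_1 lc_i_rc_44_0 lc_i_Cert_tree lc_i_rc_44_0 lc_i_rc_29_1 lc_i_rc_44_0 lc_i_Cert_tree lc_i_rc_44_0 lc_i_rc_16_1 lc_i_rc_44_0 lc_i_Cert_tree lc_i_rc_44_0 lc_i_rc_8_1 lc_i_Cert_tree lc_i_rc_44_0 lc_i_rc_8_1 lc_i_rc_44_0 lc_i_Cert_tree lc_i_rc_44_0 lc_i_rc_8_1 lc_i_rc_36_3 lc_i_rc_44_0 lc_i_rc_36_3 lc_i_rc_44_0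 lc_i_rc_40_1 lc_i_rc_29_1 lc_i_rc_16_1 lc_i_Cert_tree lc_i_rc_44_0) (@D3.rec (fun _ => (Cert rels S Gen.i)) lc_i_rc_23_1 lc_i_rc_44_0 lc_i_rc_44_0 lc_i_rc_40_1 lc_i_Cert_tree lc_i_rc_44_0 lc_i_rc_23_1 lc_i_rc_44_0 lc_i_rc_16_1 lc_i_rc_29_1 lc_i_Cert_tree lc_i_rc_40_1 lc_i_Cert_tree lc_i_Cert_tree lc_i_rc_44_0 lc_i_Cert_tree lc_i_Cert_tree lc_i_rc_44_0 lc_i_Cert_tree lc_i_Cert_tree lc_i_rc_44_0 lc_i_Cert_tree lc_i_rc_44_0 lc_i_Cert_tree lc_i_rc_44_0 lc_i_Cert_tree lc_i_rc_44_0 lc_i_rc_16_1 lc_i_rc_16_1 lc_i_Cert_tree lc_i_rc_44_0 lc_i_rc_23_1) (@D3.rec (fun _ => (Cert rels S Gen.i)) lc_i_Cert_tree lc_i_rc_44_0 lc_i_rc_16_1 lc_i_Cert_tree lc_i_Cert_tree lc_i_rc_44_0 lc_i_Cert_tree lc_i_Cert_tree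 lc_i_rc_44_0 lc_i_Cert_tree lc_i_rc_44_0 lc_i_Cert_tree lc_i_Cert_tree lc_i_rc_44_0 lc_i_Cert_tree lc_i_Cert_tree lc_i_rc_44_0 lc_i_Cert_tree lc_i_rc_44_0 lc_i_rc_36_3 lc_i_rc_44_0 lc_i_rc_8_1 lc_i_Cert_tree lc_i_rc_44_0 lc_i_rc_8_1 lc_i_rc_44_0 lc_i_rc_8_1 lc_i_rc_8_1 lc_i_Cert_tree lc_i_Cert_tree lc_i_rc_44_0 lc_i_Cert_tree) (@D3.rec (fun _ => (Cert rels S Gen.i)) lc_i_rc_44_0 lc_i_rc_8_1 lc_i_Cert_tree lc_i_rc_44_0 lc_i_rc_8_1 lc_i_Cert_tree lc_i_rc_44_0 lc_i_Cert_tree lc_i_Cert_tree lc_i_rc_44_0 lc_i_Cert_tree lc_i_Cert_tree lc_i_rc_44_0 lc_i_Cert_tree lc_i_rc_44_0 lc_i_rc_36_3 lc_i_Cert_tree lc_i_Cert_tree lc_i_rc_44_0 lc_i_Cert_tree lc_i_rc_44_0 lc_i_rc_44_0 lc_i_rc_36_3 lc_i_Cert_tree lc_i_Cert_tree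 lc_i_rc_44_0 lc_i_Cert_tree lc_i_rc_44_0 lc_i_rc_23_1 lc_i_Cert_tree lc_i_rc_44_0 lc_i_rc_36_3) (@D3.rec (fun _ => (Cert rels S Gen.i)) lc_i_rc_36_3 lc_i_rc_44_0 lc_i_rc_40_1 lc_i_rc_29_1 lc_i_rc_43_1 lc_i_rc_40_1 lc_i_rc_23_1 lc_i_rc_44_0 lc_i_rc_44_0 lc_i_rc_16_1 lc_i_Cert_tree lc_i_rc_44_0 lc_i_rc_23_1 lc_i_rc_44_0 lc_i_rc_16_1 lc_i_rc_29_1 lc_i_rc_34_1 lc_i_rc_44_0 lc_i_rc_16_1 lc_i_rc_8_1 lc_i_rc_23_1 lc_i_Cert_tree lc_i_Cert_tree lc_i_rc_44_0 lc_i_rc_34_1 lc_i_Cert_tree lc_i_Cert_tree lc_i_rc_44_0 lc_i_Cert_tree lc_i_Cert_tree lc_i_rc_44_0 lc_i_Cert_tree) (@D3.rec (fun _ => (Cert rels S Gen.i)) lc_i_rc_44_0 lc_i_Cert_tree lc_i_Cert_tree lc_i_rc_44_0 lc_i_Cert_tree lc_i_Cert_tree lc_i_rc_44_0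 lc_i_Cert_tree lc_i_rc_44_0 lc_i_rc_36_3 lc_i_Cert_tree lc_i_rc_44_0 lc_i_Cert_tree lc_i_rc_44_0 lc_i_rc_16_1 lc_i_Cert_tree lc_i_Cert_tree lc_i_rc_44_0 lc_i_rc_23_1 lc_i_Cert_tree lc_i_rc_44_0 lc_i_rc_16_1 lc_i_Cert_tree lc_i_rc_8_1 lc_i_rc_44_0 lc_i_Cert_tree lc_i_rc_44_0 lc_i_rc_23_1 lc_i_rc_29_1 lc_i_rc_44_0 lc_i_rc_16_1 lc_i_rc_16_1) (@D3.rec (fun _ => (Cert rels S Gen.i)) lc_i_Cert_tree lc_i_Cert_tree lc_i_rc_44_0 lc_i_Cert_tree lc_i_Cert_tree lc_i_rc_44_0 lc_i_Cert_tree lc_i_Cert_tree lc_i_rc_44_0 lc_i_Cert_tree lc_i_rc_44_0 lc_i_rc_36_3 lc_i_Cert_tree lc_i_rc_44_0 lc_i_Cert_tree lc_i_Cert_tree lc_i_rc_44_0 lc_i_Cert_tree lc_i_rc_44_0 lc_i_rc_36_3 lc_i_Cert_tree lc_i_Cert_tree lc_i_rc_44_0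 lc_i_Cert_tree lc_i_rc_44_0 lc_i_rc_23_1 lc_i_Cert_tree lc_i_rc_44_0 lc_i_rc_36_3 lc_i_Cert_tree lc_i_rc_44_0 lc_i_rc_8_1) (@D3.rec (fun _ => (Cert rels S Gen.i)) lc_i_rc_44_0 lc_i_rc_8_1 lc_i_rc_29_1 lc_i_rc_8_1 lc_i_rc_8_1 lc_i_rc_23_1 lc_i_Cert_tree lc_i_rc_44_0 lc_i_rc_44_0 lc_i_rc_44_0 lc_i_rc_44_0 lc_i_rc_44_0 lc_i_rc_44_0 lc_i_rc_36_3 lc_i_Cert_tree lc_i_rc_44_0 lc_i_Cert_tree lc_i_rc_44_0 lc_i_rc_23_1 lc_i_Cert_tree lc_i_rc_44_0 lc_i_rc_36_3 lc_i_rc_44_0 lc_i_rc_40_1 lc_i_Cert_tree lc_i_rc_44_0 lc_i_rc_44_0 lc_i_rc_36_3 lc_i_Cert_tree lc_i_rc_44_0 lc_i_rc_36_3 lc_i_Cert_tree) (@D3.rec (fun _ => (Cert rels S Gen.i)) lc_i_rc_44_0 lc_i_Cert_tree lc_i_rc_44_0 lc_i_rc_16_1 lc_i_Cert_tree lc_i_rc_44_0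 lc_i_rc_23_1 lc_i_rc_44_0 lc_i_rc_36_3 lc_i_rc_29_1 lc_i_rc_44_0 lc_i_rc_40_1 lc_i_rc_29_1 lc_i_rc_43_1 lc_i_rc_29_1 lc_i_rc_23_1 lc_i_rc_44_0 lc_i_rc_34_1 lc_i_Cert_tree lc_i_Cert_tree lc_i_rc_44_0 lc_i_Cert_tree lc_i_Cert_tree lc_i_rc_44_0 lc_i_Cert_tree lc_i_rc_44_0 lc_i_Cert_tree lc_i_Cert_tree lc_i_rc_44_0 lc_i_Cert_tree lc_i_Cert_tree lc_i_rc_44_0) (@D3.rec (fun _ => (Cert rels S Gen.i)) lc_i_rc_44_0 lc_i_rc_29_1 lc_i_rc_34_1 lc_i_rc_23_1 lc_i_rc_34_1 lc_i_rc_29_1 lc_i_rc_44_0 lc_i_Cert_tree lc_i_rc_44_0 lc_i_rc_44_0 lc_i_Cert_tree lc_i_Cert_tree lc_i_rc_44_0 lc_i_rc_44_0 lc_i_rc_44_0 lc_i_rc_44_0 lc_i_rc_23_3 lc_i_rc_44_0 lc_i_rc_44_0 lc_i_Cert_tree lc_i_rc_44_0 lc_i_Cert_tree lc_i_rc_44_0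 lc_i_rc_8_1 lc_i_rc_44_0 lc_i_rc_44_0 lc_i_rc_16_1 lc_i_Cert_tree lc_i_rc_44_0 lc_i_rc_23_1 lc_i_rc_40_1 lc_i_rc_44_0) (@D3.rec (fun _ => (Cert rels S Gen.i)) lc_i_rc_16_1 lc_i_rc_29_1 lc_i_Cert_tree lc_i_Cert_tree lc_i_rc_44_0 lc_i_Cert_tree lc_i_rc_44_0 lc_i_Cert_tree lc_i_Cert_tree lc_i_rc_44_0 lc_i_Cert_tree lc_i_rc_44_0 lc_i_rc_44_0 lc_i_rc_16_1 lc_i_Cert_tree lc_i_rc_44_0 lc_i_rc_23_1 lc_i_rc_44_0 lc_i_rc_16_1 lc_i_rc_44_0 lc_i_Cert_tree lc_i_rc_44_0 lc_i_Cert_tree lc_i_rc_44_0 lc_i_rc_44_0 lc_i_rc_36_3 lc_i_rc_36_3 lc_i_rc_29_1 lc_i_Cert_tree lc_i_rc_44_0 lc_i_rc_8_1 lc_i_Cert_tree) (@D3.rec (fun _ => (Cert rels S Gen.i)) lc_i_rc_44_0 lc_i_rc_8_1 lc_i_rc_36_3 lc_i_rc_44_0 lc_i_rc_23_3 lc_i_Cert_tree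 lc_i_rc_44_0 lc_i_rc_23_1 lc_i_rc_23_1 lc_i_rc_23_1 lc_i_rc_44_0 lc_i_rc_16_1 lc_i_rc_29_1 lc_i_rc_8_1 lc_i_rc_29_3 lc_i_Cert_tree lc_i_Cert_tree lc_i_rc_44_0 lc_i_Cert_tree lc_i_Cert_tree lc_i_rc_44_0 lc_i_Cert_tree lc_i_Cert_tree lc_i_rc_44_0 lc_i_Cert_tree lc_i_rc_44_0 lc_i_Cert_tree lc_i_Cert_tree lc_i_rc_44_0 lc_i_Cert_tree lc_i_Cert_tree lc_i_rc_44_0) (@D3.rec (fun _ => (Cert rels S Gen.i)) lc_i_Cert_tree lc_i_rc_44_0 lc_i_rc_36_3 lc_i_Cert_tree lc_i_rc_44_0 lc_i_Cert_tree lc_i_rc_44_0 lc_i_Cert_tree lc_i_Cert_tree lc_i_rc_44_0 lc_i_rc_23_1 lc_i_Cert_tree lc_i_rc_44_0 lc_i_rc_16_1 lc_i_Cert_tree lc_i_rc_8_3 lc_i_rc_44_0 lc_i_Cert_tree lc_i_rc_44_0 lc_i_rc_23_1 lc_i_rc_29_1 lc_i_rc_44_0 lc_i_rc_16_1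 lc_i_rc_29_1 lc_i_Cert_tree lc_i_rc_44_0 lc_i_Cert_tree lc_i_rc_44_0 lc_i_Cert_tree lc_i_Cert_tree lc_i_rc_44_0 lc_i_Cert_tree) (@D3.rec (fun _ => (Cert rels S Gen.i)) lc_i_rc_44_0 lc_i_rc_36_3 lc_i_Cert_tree lc_i_rc_44_0 lc_i_Cert_tree lc_i_Cert_tree lc_i_rc_44_0 lc_i_Cert_tree lc_i_rc_44_0 lc_i_rc_36_3 lc_i_Cert_tree lc_i_Cert_tree lc_i_rc_44_0 lc_i_Cert_tree lc_i_rc_44_0 lc_i_rc_23_1 lc_i_Cert_tree lc_i_rc_44_0 lc_i_rc_36_3 lc_i_Cert_tree lc_i_rc_44_0 lc_i_rc_44_0 lc_i_rc_8_1 lc_i_rc_8_1 lc_i_rc_8_1 lc_i_rc_29_1 lc_i_rc_23_1 lc_i_rc_44_0 lc_i_rc_8_1 lc_i_rc_44_0 lc_i_rc_16_1 lc_i_rc_8_1)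
def ce_i_9 : D2 → D3 → (Cert rels S Gen.i) := @D2.rec (fun _ => D3 → (Cert rels S Gen.i)) (@D3.rec (fun _ => (Cert rels S Gen.i)) lc_i_rc_44_0 lc_i_rc_44_0 lc_i_rc_36_3 lc_i_Cert_tree lc_i_rc_44_0 lc_i_rc_44_0 lc_i_rc_23_1 lc_i_rc_44_0 lc_i_rc_36_3 lc_i_rc_44_0 lc_i_rc_40_1 lc_i_rc_44_0 lc_i_rc_36_3 lc_i_rc_44_0 lc_i_rc_40_3 lc_i_Cert_tree lc_i_rc_44_0 lc_i_rc_44_0 lc_i_rc_16_1 lc_i_rc_44_0 lc_i_rc_23_1 lc_i_rc_29_1 lc_i_rc_44_0 lc_i_rc_36_3 lc_i_rc_40_3 lc_i_rc_44_0 lc_i_rc_43_1 lc_i_rc_29_1 lc_i_rc_29_1 lc_i_rc_8_1 lc_i_rc_16_1 lc_i_rc_34_1) (@D3.rec (fun _ => (Cert rels S Gen.i)) lc_i_Cert_tree lc_i_rc_44_0 lc_i_Cert_tree lc_i_rc_44_0 lc_i_Cert_tree lc_i_rc_44_0 lc_i_Cert_tree lc_i_Cert_tree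 lc_i_rc_44_0 lc_i_Cert_tree lc_i_rc_44_0 lc_i_rc_36_3 lc_i_rc_44_0 lc_i_Cert_tree lc_i_Cert_tree lc_i_rc_44_0 lc_i_rc_36_3 lc_i_rc_44_0 lc_i_Cert_tree lc_i_rc_8_1 lc_i_rc_44_0 lc_i_Cert_tree lc_i_rc_44_0 lc_i_rc_23_1 lc_i_rc_29_1 lc_i_rc_44_0 lc_i_rc_16_1 lc_i_rc_29_1 lc_i_Cert_tree lc_i_rc_44_0 lc_i_rc_36_3 lc_i_rc_23_3) (@D3.rec (fun _ => (Cert rels S Gen.i)) lc_i_Cert_tree lc_i_rc_44_0 lc_i_Cert_tree lc_i_rc_44_0 lc_i_rc_23_1 lc_i_rc_44_0 lc_i_rc_29_1 lc_i_rc_8_1 lc_i_rc_29_1 lc_i_rc_23_1 lc_i_rc_23_1 lc_i_rc_44_0 lc_i_rc_16_3 lc_i_rc_16_1 lc_i_rc_34_1 lc_i_Cert_tree lc_i_Cert_tree lc_i_rc_44_0 lc_i_Cert_tree lc_i_Cert_tree lc_i_rc_44_0 lc_i_rc_36_3 lc_i_rc_44_0 lc_i_Cert_tree lc_i_rc_8_3 lc_i_rc_44_0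 lc_i_Cert_tree lc_i_Cert_tree lc_i_rc_44_0 lc_i_Cert_tree lc_i_rc_44_0 lc_i_rc_36_3) (@D3.rec (fun _ => (Cert rels S Gen.i)) lc_i_Cert_tree lc_i_rc_44_0 lc_i_Cert_tree lc_i_rc_44_0 lc_i_rc_36_3 lc_i_Cert_tree lc_i_Cert_tree lc_i_rc_44_0 lc_i_Cert_tree lc_i_Cert_tree lc_i_rc_44_0 lc_i_rc_23_1 lc_i_Cert_tree lc_i_rc_44_0 lc_i_rc_36_3 lc_i_Cert_tree lc_i_Cert_tree lc_i_rc_44_0 lc_i_rc_16_1 lc_i_Cert_tree lc_i_rc_44_0 lc_i_rc_43_1 lc_i_Cert_tree lc_i_Cert_tree lc_i_rc_44_0 lc_i_Cert_tree lc_i_rc_44_0 lc_i_rc_23_1 lc_i_rc_29_1 lc_i_rc_44_0 lc_i_rc_16_1 lc_i_rc_29_1) (@D3.rec (fun _ => (Cert rels S Gen.i)) lc_i_Cert_tree lc_i_Cert_tree lc_i_Cert_tree lc_i_rc_44_0 lc_i_rc_44_0 lc_i_rc_16_3 lc_i_rc_44_0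 lc_i_rc_23_1 lc_i_rc_29_1 lc_i_rc_34_1 lc_i_rc_16_1 lc_i_rc_29_1 lc_i_rc_23_1 lc_i_rc_8_1 lc_i_rc_36_3 lc_i_Cert_tree lc_i_Cert_tree lc_i_rc_44_0 lc_i_Cert_tree lc_i_rc_44_0 lc_i_rc_23_1 lc_i_Cert_tree lc_i_rc_44_0 lc_i_rc_36_3 lc_i_Cert_tree lc_i_rc_44_0 lc_i_rc_8_1 lc_i_Cert_tree lc_i_rc_44_0 lc_i_Cert_tree lc_i_rc_44_0 lc_i_rc_16_1) (@D3.rec (fun _ => (Cert rels S Gen.i)) lc_i_Cert_tree lc_i_rc_44_0 lc_i_rc_23_1 lc_i_rc_44_0 lc_i_rc_36_3 lc_i_rc_40_3 lc_i_rc_44_0 lc_i_rc_43_3 lc_i_rc_8_1 lc_i_rc_29_1 lc_i_rc_23_1 lc_i_rc_16_1 lc_i_Cert_tree lc_i_rc_44_0 lc_i_rc_44_0 lc_i_rc_16_1 lc_i_rc_44_0 lc_i_rc_23_1 lc_i_rc_44_0 lc_i_rc_36_3 lc_i_rc_44_0 lc_i_rc_36_3 lc_i_Cert_tree lc_i_rc_44_0 lc_i_rc_8_1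 lc_i_rc_44_0 lc_i_rc_16_1 lc_i_rc_44_0 lc_i_rc_36_3 lc_i_rc_29_1 lc_i_rc_36_3 lc_i_rc_36_3) (@D3.rec (fun _ => (Cert rels S Gen.i)) lc_i_rc_16_3 lc_i_rc_36_3 lc_i_Cert_tree lc_i_rc_44_0 lc_i_Cert_tree lc_i_Cert_tree lc_i_rc_44_0 lc_i_rc_44_0 lc_i_rc_44_0 lc_i_Cert_tree lc_i_rc_44_0 lc_i_Cert_tree lc_i_Cert_tree lc_i_rc_44_0 lc_i_Cert_tree lc_i_rc_44_0 lc_i_rc_36_3 lc_i_Cert_tree lc_i_rc_44_0 lc_i_rc_44_0 lc_i_Cert_tree lc_i_rc_44_0 lc_i_Cert_tree lc_i_Cert_tree lc_i_rc_44_0 lc_i_rc_23_1 lc_i_Cert_tree lc_i_Cert_tree lc_i_rc_44_0 lc_i_Cert_tree lc_i_rc_44_0 lc_i_rc_23_1) (@D3.rec (fun _ => (Cert rels S Gen.i)) lc_i_rc_29_1 lc_i_rc_44_0 lc_i_rc_16_1 lc_i_rc_16_1 lc_i_Cert_tree lc_i_Cert_tree lc_i_rc_44_0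 lc_i_Cert_tree lc_i_rc_44_0 lc_i_rc_23_1 lc_i_rc_29_1 lc_i_rc_44_0 lc_i_rc_16_1 lc_i_rc_29_1 lc_i_Cert_tree lc_i_Cert_tree lc_i_Cert_tree lc_i_rc_44_0 lc_i_rc_44_0 lc_i_rc_36_3 lc_i_rc_44_0 lc_i_rc_23_1 lc_i_rc_29_1 lc_i_rc_34_1 lc_i_rc_16_1 lc_i_rc_29_1 lc_i_rc_23_1 lc_i_rc_44_0 lc_i_rc_44_0 lc_i_rc_44_0 lc_i_rc_36_3 lc_i_rc_36_3) (@D3.rec (fun _ => (Cert rels S Gen.i)) lc_i_rc_23_1 lc_i_rc_23_1 lc_i_rc_29_1 lc_i_Cert_tree lc_i_rc_44_0 lc_i_rc_8_1 lc_i_Cert_tree lc_i_rc_44_0 lc_i_rc_16_1 lc_i_rc_44_0 lc_i_rc_8_1 lc_i_rc_29_1 lc_i_rc_8_1 lc_i_rc_8_1 lc_i_rc_23_1 lc_i_rc_8_1 lc_i_rc_29_1 lc_i_rc_23_1 lc_i_rc_16_1 lc_i_Cert_tree lc_i_rc_44_0 lc_i_rc_8_1 lc_i_rc_44_0 lc_i_rc_16_1 lc_i_rc_29_1 lc_i_rc_43_1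 lc_i_rc_29_1 lc_i_rc_29_1 lc_i_rc_8_3 lc_i_rc_23_1 lc_i_rc_16_1 lc_i_Cert_tree) (@D3.rec (fun _ => (Cert rels S Gen.i)) lc_i_rc_44_0 lc_i_rc_43_1 lc_i_rc_43_3 lc_i_rc_16_1 lc_i_rc_43_3 lc_i_rc_40_1 lc_i_rc_23_1 lc_i_rc_8_1 lc_i_rc_29_1 lc_i_Cert_tree lc_i_Cert_tree lc_i_rc_44_0 lc_i_Cert_tree lc_i_rc_44_0 lc_i_rc_23_1 lc_i_rc_29_1 lc_i_rc_44_0 lc_i_rc_16_1 lc_i_Cert_tree lc_i_Cert_tree lc_i_rc_8_3 lc_i_rc_44_0 lc_i_rc_44_0 lc_i_rc_23_1 lc_i_rc_16_1 lc_i_rc_29_1 lc_i_rc_40_1 lc_i_rc_8_1 lc_i_Cert_tree lc_i_rc_44_0 lc_i_rc_23_1 lc_i_Cert_tree) (@D3.rec (fun _ => (Cert rels S Gen.i)) lc_i_rc_29_1 lc_i_rc_29_3 lc_i_rc_8_1 lc_i_rc_44_0 lc_i_rc_44_0 lc_i_rc_23_1 lc_i_rc_16_1 lc_i_rc_29_1 lc_i_Cert_tree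 lc_i_rc_44_0 lc_i_Cert_tree lc_i_rc_44_0 lc_i_Cert_tree lc_i_rc_44_0 lc_i_rc_16_1 lc_i_Cert_tree lc_i_Cert_tree lc_i_rc_44_0 lc_i_Cert_tree lc_i_rc_44_0 lc_i_rc_23_3 lc_i_Cert_tree lc_i_rc_8_3 lc_i_rc_16_3 lc_i_Cert_tree lc_i_rc_40_3 lc_i_Cert_tree lc_i_Cert_tree lc_i_Cert_tree lc_i_rc_44_0 lc_i_rc_44_0 lc_i_rc_36_3) (@D3.rec (fun _ => (Cert rels S Gen.i)) lc_i_rc_44_0 lc_i_rc_23_1 lc_i_rc_29_1 lc_i_rc_34_1 lc_i_rc_16_1 lc_i_rc_29_1 lc_i_rc_23_1 lc_i_rc_44_0 lc_i_rc_44_0 lc_i_rc_44_0 lc_i_rc_8_1 lc_i_rc_23_1 lc_i_rc_29_1 lc_i_rc_23_1 lc_i_rc_44_0 lc_i_rc_16_1 lc_i_Cert_tree lc_i_rc_44_0 lc_i_rc_44_0 lc_i_rc_44_0 lc_i_rc_36_3 lc_i_rc_44_0 lc_i_rc_36_3 lc_i_Cert_tree lc_i_rc_44_0 lc_i_rc_36_3 lc_i_Cert_tree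 lc_i_Cert_tree lc_i_Cert_tree lc_i_rc_44_0 lc_i_rc_44_0 lc_i_rc_36_3) (@D3.rec (fun _ => (Cert rels S Gen.i)) lc_i_rc_44_0 lc_i_rc_23_1 lc_i_rc_29_1 lc_i_rc_34_1 lc_i_rc_16_1 lc_i_rc_29_1 lc_i_rc_23_1 lc_i_rc_44_0 lc_i_rc_44_0 lc_i_rc_44_0 lc_i_rc_36_3 lc_i_rc_36_3 lc_i_rc_29_1 lc_i_rc_23_1 lc_i_rc_29_1 lc_i_rc_23_1 lc_i_rc_34_1 lc_i_rc_16_1 lc_i_rc_29_1 lc_i_rc_36_3 lc_i_rc_29_1 lc_i_rc_16_1 lc_i_Cert_tree lc_i_rc_44_0 lc_i_Cert_tree lc_i_Cert_tree lc_i_rc_44_0 lc_i_Cert_tree lc_i_Cert_tree lc_i_rc_44_0 lc_i_Cert_tree lc_i_rc_44_0) (@D3.rec (fun _ => (Cert rels S Gen.i)) lc_i_rc_36_3 lc_i_Cert_tree lc_i_Cert_tree lc_i_rc_44_0 lc_i_rc_23_1 lc_i_Cert_tree lc_i_rc_44_0 lc_i_rc_16_1 lc_i_Cert_tree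 lc_i_rc_8_3 lc_i_rc_44_0 lc_i_Cert_tree lc_i_rc_44_0 lc_i_rc_23_1 lc_i_rc_29_1 lc_i_rc_44_0 lc_i_rc_16_1 lc_i_rc_29_1 lc_i_Cert_tree lc_i_rc_44_0 lc_i_rc_44_0 lc_i_rc_36_3 lc_i_Cert_tree lc_i_rc_44_0 lc_i_rc_44_0 lc_i_rc_23_1 lc_i_rc_44_0 lc_i_rc_36_3 lc_i_rc_44_0 lc_i_rc_8_1 lc_i_rc_29_1 lc_i_rc_8_1) (@D3.rec (fun _ => (Cert rels S Gen.i)) lc_i_rc_29_1 lc_i_rc_23_1 lc_i_rc_16_1 lc_i_rc_8_1 lc_i_rc_23_1 lc_i_rc_36_3 lc_i_rc_23_1 lc_i_rc_29_1 lc_i_rc_16_3 lc_i_rc_29_1 lc_i_rc_43_1 lc_i_rc_29_1 lc_i_rc_23_1 lc_i_rc_34_1 lc_i_Cert_tree lc_i_Cert_tree lc_i_rc_44_0 lc_i_Cert_tree lc_i_rc_44_0 lc_i_Cert_tree lc_i_rc_44_0 lc_i_rc_36_3 lc_i_Cert_tree lc_i_Cert_tree lc_i_rc_44_0 lc_i_rc_23_1 lc_i_Cert_tree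 lc_i_rc_44_0 lc_i_rc_36_3 lc_i_Cert_tree lc_i_Cert_tree lc_i_rc_44_0) (@D3.rec (fun _ => (Cert rels S Gen.i)) lc_i_Cert_tree lc_i_rc_44_0 lc_i_rc_23_1 lc_i_rc_29_1 lc_i_rc_44_0 lc_i_rc_16_1 lc_i_rc_29_1 lc_i_Cert_tree lc_i_Cert_tree lc_i_Cert_tree lc_i_rc_44_0 lc_i_rc_44_0 lc_i_rc_16_3 lc_i_rc_44_0 lc_i_rc_23_1 lc_i_rc_29_1 lc_i_rc_34_1 lc_i_rc_16_1 lc_i_rc_29_1 lc_i_rc_23_1 lc_i_rc_44_0 lc_i_rc_36_3 lc_i_rc_44_0 lc_i_rc_36_3 lc_i_rc_29_1 lc_i_rc_8_1 lc_i_rc_29_1 lc_i_rc_23_1 lc_i_rc_29_1 lc_i_rc_23_1 lc_i_rc_34_1 lc_i_rc_16_1) (@D3.rec (fun _ => (Cert rels S Gen.i)) lc_i_rc_36_3 lc_i_rc_29_1 lc_i_rc_16_1 lc_i_rc_29_1 lc_i_rc_23_1 lc_i_rc_29_1 lc_i_rc_23_1 lc_i_rc_34_1 lc_i_rc_16_1 lc_i_rc_8_1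 lc_i_Cert_tree lc_i_rc_44_0 lc_i_rc_36_3 lc_i_Cert_tree lc_i_Cert_tree lc_i_Cert_tree lc_i_rc_44_0 lc_i_rc_44_0 lc_i_rc_36_3 lc_i_rc_44_0 lc_i_rc_23_1 lc_i_rc_29_1 lc_i_rc_34_1 lc_i_rc_16_1 lc_i_rc_29_1 lc_i_rc_23_1 lc_i_rc_44_0 lc_i_rc_44_0 lc_i_rc_44_0 lc_i_rc_36_3 lc_i_rc_36_3 lc_i_rc_29_1) (@D3.rec (fun _ => (Cert rels S Gen.i)) lc_i_rc_23_1 lc_i_rc_29_1 lc_i_rc_23_1 lc_i_rc_34_1 lc_i_rc_29_1 lc_i_rc_23_1 lc_i_rc_34_1 lc_i_rc_16_1 lc_i_rc_29_1 lc_i_rc_23_1 lc_i_rc_34_1 lc_i_rc_16_1 lc_i_rc_23_1 lc_i_rc_34_1 lc_i_rc_16_1 lc_i_rc_23_1 lc_i_rc_8_1 lc_i_rc_8_1 lc_i_rc_23_1 lc_i_rc_8_1 lc_i_Cert_tree lc_i_rc_44_0 lc_i_rc_16_1 lc_i_rc_29_1 lc_i_Cert_tree lc_i_rc_44_0 lc_i_rc_8_1 lc_i_rc_44_0 lc_i_rc_8_1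 lc_i_rc_44_0 lc_i_rc_8_1 lc_i_rc_8_1) (@D3.rec (fun _ => (Cert rels S Gen.i)) lc_i_Cert_tree lc_i_rc_44_0 lc_i_rc_8_1 lc_i_rc_44_0 lc_i_rc_16_1 lc_i_rc_44_0 lc_i_rc_16_1 lc_i_rc_8_1 lc_i_Cert_tree lc_i_rc_44_0 lc_i_Cert_tree lc_i_Cert_tree lc_i_rc_44_0 lc_i_Cert_tree lc_i_Cert_tree lc_i_rc_44_0 lc_i_Cert_tree lc_i_rc_44_0 lc_i_Cert_tree lc_i_Cert_tree lc_i_rc_44_0 lc_i_Cert_tree lc_i_Cert_tree lc_i_rc_44_0 lc_i_Cert_tree lc_i_rc_44_0 lc_i_rc_36_3 lc_i_rc_44_0 lc_i_rc_16_1 lc_i_Cert_tree lc_i_Cert_tree lc_i_rc_44_0) (@D3.rec (fun _ => (Cert rels S Gen.i)) lc_i_rc_23_1 lc_i_Cert_tree lc_i_rc_44_0 lc_i_rc_16_1 lc_i_rc_16_1 lc_i_Cert_tree lc_i_rc_44_0 lc_i_rc_44_0 lc_i_rc_16_1 lc_i_Cert_tree lc_i_rc_44_0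 lc_i_Cert_tree lc_i_Cert_tree lc_i_rc_44_0 lc_i_Cert_tree lc_i_Cert_tree lc_i_rc_44_0 lc_i_Cert_tree lc_i_rc_44_0 lc_i_rc_36_3 lc_i_Cert_tree lc_i_Cert_tree lc_i_rc_44_0 lc_i_Cert_tree lc_i_rc_44_0 lc_i_rc_44_0 lc_i_rc_36_3 lc_i_Cert_tree lc_i_Cert_tree lc_i_rc_44_0 lc_i_Cert_tree lc_i_rc_44_0) (@D3.rec (fun _ => (Cert rels S Gen.i)) lc_i_rc_23_1 lc_i_Cert_tree lc_i_rc_44_0 lc_i_rc_36_3 lc_i_rc_8_1 lc_i_rc_44_0 lc_i_rc_8_1 lc_i_rc_29_1 lc_i_rc_8_1 lc_i_rc_8_1 lc_i_Cert_tree lc_i_rc_44_0 lc_i_rc_44_0 lc_i_rc_8_1 lc_i_Cert_tree lc_i_rc_44_0 lc_i_rc_8_1 lc_i_rc_44_0 lc_i_rc_16_1 lc_i_rc_8_1 lc_i_rc_44_0 lc_i_rc_44_0 lc_i_rc_44_0 lc_i_rc_36_3 lc_i_Cert_tree lc_i_rc_44_0 lc_i_rc_44_0 lc_i_rc_23_1 lc_i_rc_44_0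 lc_i_rc_36_3 lc_i_rc_44_0 lc_i_rc_44_0) (@D3.rec (fun _ => (Cert rels S Gen.i)) lc_i_rc_40_1 lc_i_Cert_tree lc_i_rc_44_0 lc_i_rc_36_3 lc_i_rc_36_3 lc_i_Cert_tree lc_i_rc_44_0 lc_i_rc_44_0 lc_i_rc_16_1 lc_i_rc_44_0 lc_i_rc_23_1 lc_i_rc_29_1 lc_i_rc_44_0 lc_i_rc_36_3 lc_i_rc_29_1 lc_i_rc_29_1 lc_i_rc_29_1 lc_i_rc_23_1 lc_i_rc_34_1 lc_i_rc_44_0 lc_i_rc_29_1 lc_i_rc_8_1 lc_i_rc_16_1 lc_i_rc_34_1 lc_i_rc_8_1 lc_i_rc_34_1 lc_i_Cert_tree lc_i_Cert_tree lc_i_rc_44_0 lc_i_Cert_tree lc_i_Cert_tree lc_i_rc_44_0)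
def ce_i_10 : D2 → D3 → (Cert rels S Gen.i) := @D2.rec (fun _ => D3 → (Cert rels S Gen.i)) (@D3.rec (fun _ => (Cert rels S Gen.i)) lc_i_Cert_tree lc_i_Cert_tree lc_i_rc_44_0 lc_i_Cert_tree lc_i_Cert_tree lc_i_rc_44_0 lc_i_Cert_tree lc_i_Cert_tree lc_i_rc_44_0 lc_i_Cert_tree lc_i_rc_44_0 lc_i_rc_36_3 lc_i_Cert_tree lc_i_Cert_tree lc_i_rc_44_0 lc_i_Cert_tree lc_i_Cert_tree lc_i_rc_44_0 lc_i_Cert_tree lc_i_rc_44_0 lc_i_rc_36_3 lc_i_Cert_tree lc_i_Cert_tree lc_i_rc_44_0 lc_i_Cert_tree lc_i_Cert_tree lc_i_rc_44_0 lc_i_rc_23_1 lc_i_Cert_tree lc_i_rc_44_0 lc_i_rc_36_3 lc_i_Cert_tree) (@D3.rec (fun _ => (Cert rels S Gen.i)) lc_i_Cert_tree lc_i_rc_44_0 lc_i_rc_23_1 lc_i_Cert_tree lc_i_rc_44_0 lc_i_rc_16_1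 lc_i_Cert_tree lc_i_Cert_tree lc_i_rc_44_0 lc_i_Cert_tree lc_i_rc_44_0 lc_i_rc_23_1 lc_i_rc_29_1 lc_i_rc_44_0 lc_i_rc_16_1 lc_i_rc_29_1 lc_i_Cert_tree lc_i_Cert_tree lc_i_rc_16_3 lc_i_rc_44_0 lc_i_rc_44_0 lc_i_rc_23_1 lc_i_rc_16_1 lc_i_rc_16_1 lc_i_rc_44_0 lc_i_rc_44_0 lc_i_Cert_tree lc_i_rc_44_0 lc_i_rc_44_0 lc_i_rc_36_3 lc_i_Cert_tree lc_i_Cert_tree) (@D3.rec (fun _ => (Cert rels S Gen.i)) lc_i_rc_44_0 lc_i_Cert_tree lc_i_rc_44_0 lc_i_rc_23_1 lc_i_Cert_tree lc_i_rc_44_0 lc_i_rc_36_3 lc_i_rc_44_0 lc_i_rc_40_1 lc_i_Cert_tree lc_i_Cert_tree lc_i_rc_44_0 lc_i_rc_44_0 lc_i_rc_36_3 lc_i_Cert_tree lc_i_rc_44_0 lc_i_rc_36_3 lc_i_Cert_tree lc_i_rc_44_0 lc_i_Cert_tree lc_i_rc_44_0 lc_i_rc_16_1 lc_i_Cert_tree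 lc_i_rc_44_0 lc_i_rc_23_1 lc_i_rc_44_0 lc_i_rc_36_3 lc_i_rc_29_1 lc_i_rc_44_0 lc_i_rc_8_1 lc_i_rc_29_1 lc_i_rc_8_1) (@D3.rec (fun _ => (Cert rels S Gen.i)) lc_i_rc_29_1 lc_i_rc_23_1 lc_i_rc_44_0 lc_i_rc_40_1 lc_i_rc_36_3 lc_i_rc_36_3 lc_i_rc_44_0 lc_i_rc_16_1 lc_i_rc_44_0 lc_i_rc_23_1 lc_i_rc_44_0 lc_i_rc_36_3 lc_i_rc_29_1 lc_i_rc_23_1 lc_i_rc_44_0 lc_i_rc_16_1 lc_i_rc_16_1 lc_i_rc_44_0 lc_i_rc_23_1 lc_i_rc_29_1 lc_i_Cert_tree lc_i_rc_44_0 lc_i_rc_8_1 lc_i_rc_44_0 lc_i_rc_16_1 lc_i_rc_44_0 lc_i_rc_36_3 lc_i_rc_29_1 lc_i_rc_36_3 lc_i_rc_29_1 lc_i_rc_23_1 lc_i_rc_29_1) (@D3.rec (fun _ => (Cert rels S Gen.i)) lc_i_rc_23_1 lc_i_rc_23_1 lc_i_rc_16_1 lc_i_Cert_tree lc_i_rc_44_0 lc_i_Cert_tree lc_i_Cert_tree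 lc_i_rc_44_0 lc_i_Cert_tree lc_i_Cert_tree lc_i_rc_44_0 lc_i_Cert_tree lc_i_rc_44_0 lc_i_rc_29_1 lc_i_rc_44_0 lc_i_Cert_tree lc_i_rc_23_3 lc_i_rc_44_0 lc_i_rc_44_0 lc_i_Cert_tree lc_i_Cert_tree lc_i_rc_44_0 lc_i_rc_29_3 lc_i_rc_44_0 lc_i_rc_29_1 lc_i_rc_44_0 lc_i_rc_44_0 lc_i_rc_44_0 lc_i_rc_44_0 lc_i_rc_8_1 lc_i_Cert_tree lc_i_rc_44_0) (@D3.rec (fun _ => (Cert rels S Gen.i)) lc_i_rc_8_1 lc_i_rc_44_0 lc_i_rc_8_1 lc_i_Cert_tree lc_i_rc_44_0 lc_i_Cert_tree lc_i_rc_44_0 lc_i_Cert_tree lc_i_rc_44_0 lc_i_Cert_tree lc_i_Cert_tree lc_i_rc_44_0 lc_i_rc_44_0 lc_i_rc_36_3 lc_i_Cert_tree lc_i_rc_44_0 lc_i_rc_16_1 lc_i_rc_44_0 lc_i_rc_36_3 lc_i_rc_36_3 lc_i_Cert_tree lc_i_rc_44_0 lc_i_rc_34_1 lc_i_Cert_tree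 lc_i_rc_44_0 lc_i_rc_23_1 lc_i_rc_23_1 lc_i_rc_44_0 lc_i_rc_8_1 lc_i_rc_44_0 lc_i_rc_16_1 lc_i_rc_8_1) (@D3.rec (fun _ => (Cert rels S Gen.i)) lc_i_rc_16_3 lc_i_rc_44_0 lc_i_rc_23_3 lc_i_rc_29_1 lc_i_rc_29_1 lc_i_rc_8_1 lc_i_rc_16_1 lc_i_rc_34_1 lc_i_Cert_tree lc_i_Cert_tree lc_i_rc_44_0 lc_i_Cert_tree lc_i_Cert_tree lc_i_rc_44_0 lc_i_Cert_tree lc_i_rc_44_0 lc_i_Cert_tree lc_i_rc_44_0 lc_i_Cert_tree lc_i_Cert_tree lc_i_rc_44_0 lc_i_Cert_tree lc_i_rc_44_0 lc_i_rc_36_3 lc_i_Cert_tree lc_i_Cert_tree lc_i_rc_44_0 lc_i_Cert_tree lc_i_Cert_tree lc_i_rc_44_0 lc_i_Cert_tree lc_i_rc_44_0) (@D3.rec (fun _ => (Cert rels S Gen.i)) lc_i_rc_36_3 lc_i_Cert_tree lc_i_Cert_tree lc_i_rc_44_0 lc_i_Cert_tree lc_i_Cert_tree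 lc_i_rc_44_0 lc_i_rc_23_1 lc_i_Cert_tree lc_i_rc_44_0 lc_i_rc_36_3 lc_i_Cert_tree lc_i_Cert_tree lc_i_rc_44_0 lc_i_Cert_tree lc_i_rc_44_0 lc_i_Cert_tree lc_i_Cert_tree lc_i_rc_44_0 lc_i_Cert_tree lc_i_rc_44_0 lc_i_rc_23_1 lc_i_rc_29_1 lc_i_rc_44_0 lc_i_rc_16_1 lc_i_rc_8_1 lc_i_Cert_tree lc_i_Cert_tree lc_i_rc_8_3 lc_i_rc_44_0 lc_i_rc_44_0 lc_i_rc_23_1) (@D3.rec (fun _ => (Cert rels S Gen.i)) lc_i_rc_16_1 lc_i_rc_29_1 lc_i_rc_44_0 lc_i_Cert_tree lc_i_rc_44_0 lc_i_rc_36_3 lc_i_Cert_tree lc_i_Cert_tree lc_i_rc_44_0 lc_i_rc_44_0 lc_i_rc_23_1 lc_i_rc_44_0 lc_i_rc_36_3 lc_i_rc_44_0 lc_i_rc_40_1 lc_i_Cert_tree lc_i_rc_44_0 lc_i_rc_44_0 lc_i_rc_36_3 lc_i_rc_44_0 lc_i_rc_40_3 lc_i_Cert_tree lc_i_rc_44_0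 lc_i_Cert_tree lc_i_rc_44_0 lc_i_rc_16_1 lc_i_rc_44_0 lc_i_rc_23_1 lc_i_rc_29_1 lc_i_rc_44_0 lc_i_rc_36_3 lc_i_rc_8_1) (@D3.rec (fun _ => (Cert rels S Gen.i)) lc_i_rc_44_0 lc_i_rc_8_1 lc_i_rc_8_1 lc_i_rc_16_1 lc_i_rc_8_1 lc_i_rc_8_1 lc_i_rc_16_1 lc_i_rc_8_1 lc_i_rc_40_1 lc_i_rc_36_3 lc_i_rc_44_0 lc_i_rc_16_1 lc_i_rc_23_1 lc_i_rc_29_1 lc_i_rc_36_3 lc_i_rc_36_3 lc_i_rc_16_1 lc_i_rc_29_1 lc_i_rc_36_3 lc_i_rc_44_0 lc_i_rc_8_1 lc_i_rc_36_3 lc_i_rc_16_1 lc_i_rc_16_1 lc_i_rc_23_1 lc_i_rc_23_1 lc_i_rc_16_3 lc_i_rc_36_3 lc_i_rc_34_1 lc_i_rc_8_1 lc_i_Cert_tree lc_i_Cert_tree) (@D3.rec (fun _ => (Cert rels S Gen.i)) lc_i_rc_44_0 lc_i_Cert_tree lc_i_rc_44_0 lc_i_rc_36_3 lc_i_rc_44_0 lc_i_rc_23_3 lc_i_Cert_tree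 lc_i_rc_44_0 lc_i_Cert_tree lc_i_Cert_tree lc_i_rc_44_0 lc_i_rc_23_1 lc_i_rc_44_0 lc_i_rc_29_1 lc_i_Cert_tree lc_i_Cert_tree lc_i_rc_44_0 lc_i_rc_44_0 lc_i_rc_23_1 lc_i_Cert_tree lc_i_Cert_tree lc_i_rc_8_1 lc_i_rc_44_0 lc_i_rc_44_0 lc_i_rc_23_1 lc_i_rc_16_1 lc_i_rc_29_1 lc_i_rc_44_0 lc_i_rc_23_1 lc_i_Cert_tree lc_i_rc_44_0 lc_i_rc_16_1) (@D3.rec (fun _ => (Cert rels S Gen.i)) lc_i_rc_44_0 lc_i_rc_34_1 lc_i_rc_34_3 lc_i_rc_16_1 lc_i_rc_29_1 lc_i_Cert_tree lc_i_rc_44_0 lc_i_Cert_tree lc_i_Cert_tree lc_i_rc_44_0 lc_i_Cert_tree lc_i_Cert_tree lc_i_rc_44_0 lc_i_Cert_tree lc_i_rc_44_0 lc_i_rc_36_3 lc_i_rc_8_3 lc_i_rc_44_0 lc_i_rc_8_3 lc_i_rc_36_3 lc_i_Cert_tree lc_i_Cert_tree lc_i_rc_44_0 lc_i_Cert_tree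 lc_i_Cert_tree lc_i_rc_44_0 lc_i_rc_23_1 lc_i_Cert_tree lc_i_rc_44_0 lc_i_rc_36_3 lc_i_Cert_tree lc_i_Cert_tree) (@D3.rec (fun _ => (Cert rels S Gen.i)) lc_i_rc_44_0 lc_i_rc_36_3 lc_i_Cert_tree lc_i_rc_44_0 lc_i_rc_8_3 lc_i_Cert_tree lc_i_rc_44_0 lc_i_Cert_tree lc_i_Cert_tree lc_i_rc_44_0 lc_i_rc_16_1 lc_i_Cert_tree lc_i_Cert_tree lc_i_rc_44_0 lc_i_Cert_tree lc_i_rc_44_0 lc_i_rc_23_1 lc_i_rc_29_1 lc_i_rc_44_0 lc_i_rc_36_3 lc_i_rc_40_3 lc_i_Cert_tree lc_i_Cert_tree lc_i_rc_44_0 lc_i_Cert_tree lc_i_rc_44_0 lc_i_rc_43_1 lc_i_rc_16_1 lc_i_rc_44_0 lc_i_rc_43_3 lc_i_Cert_tree lc_i_Cert_tree) (@D3.rec (fun _ => (Cert rels S Gen.i)) lc_i_Cert_tree lc_i_rc_44_0 lc_i_rc_44_0 lc_i_rc_36_3 lc_i_rc_44_0 lc_i_rc_23_1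 lc_i_rc_29_1 lc_i_rc_34_1 lc_i_rc_16_1 lc_i_rc_29_1 lc_i_rc_23_1 lc_i_rc_44_0 lc_i_rc_44_0 lc_i_rc_44_0 lc_i_rc_16_3 lc_i_rc_23_1 lc_i_rc_29_1 lc_i_rc_23_1 lc_i_Cert_tree lc_i_rc_44_0 lc_i_Cert_tree lc_i_rc_44_0 lc_i_rc_16_1 lc_i_rc_44_0 lc_i_rc_23_1 lc_i_rc_44_0 lc_i_rc_36_3 lc_i_rc_44_0 lc_i_rc_8_1 lc_i_Cert_tree lc_i_rc_44_0 lc_i_rc_8_1) (@D3.rec (fun _ => (Cert rels S Gen.i)) lc_i_Cert_tree lc_i_rc_44_0 lc_i_rc_16_1 lc_i_rc_44_0 lc_i_rc_36_3 lc_i_rc_29_1 lc_i_rc_36_3 lc_i_rc_36_3 lc_i_rc_23_1 lc_i_rc_40_1 lc_i_rc_16_1 lc_i_rc_44_0 lc_i_rc_8_1 lc_i_rc_16_1 lc_i_rc_36_3 lc_i_rc_29_1 lc_i_rc_36_3 lc_i_rc_36_3 lc_i_rc_44_0 lc_i_rc_8_1 lc_i_rc_16_1 lc_i_rc_16_1 lc_i_rc_16_1 lc_i_rc_29_1 lc_i_rc_45_35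 lc_i_Cert_tree lc_i_rc_44_0 lc_i_rc_44_0 lc_i_rc_44_0 lc_i_rc_29_1 lc_i_rc_44_0 lc_i_rc_29_3) (@D3.rec (fun _ => (Cert rels S Gen.i)) lc_i_Cert_tree lc_i_Cert_tree lc_i_rc_44_0 lc_i_Cert_tree lc_i_rc_44_0 lc_i_rc_29_3 lc_i_Cert_tree lc_i_rc_44_0 lc_i_rc_36_3 lc_i_rc_44_0 lc_i_Cert_tree lc_i_Cert_tree lc_i_rc_44_0 lc_i_rc_8_1 lc_i_Cert_tree lc_i_Cert_tree lc_i_rc_44_0 lc_i_Cert_tree lc_i_rc_44_0 lc_i_rc_23_1 lc_i_rc_29_1 lc_i_Cert_tree lc_i_Cert_tree lc_i_Cert_tree lc_i_rc_44_0 lc_i_rc_44_0 lc_i_rc_36_3 lc_i_rc_44_0 lc_i_rc_23_1 lc_i_rc_29_1 lc_i_rc_34_1 lc_i_rc_16_1) (@D3.rec (fun _ => (Cert rels S Gen.i)) lc_i_rc_16_1 lc_i_rc_23_1 lc_i_Cert_tree lc_i_Cert_tree lc_i_Cert_tree lc_i_rc_44_0 lc_i_rc_44_0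 lc_i_rc_36_3 lc_i_rc_44_0 lc_i_rc_23_1 lc_i_rc_29_1 lc_i_rc_34_1 lc_i_rc_16_1 lc_i_rc_29_1 lc_i_rc_23_1 lc_i_rc_44_0 lc_i_rc_44_0 lc_i_rc_44_0 lc_i_rc_36_3 lc_i_rc_36_3 lc_i_rc_29_1 lc_i_rc_23_1 lc_i_rc_29_1 lc_i_rc_23_1 lc_i_rc_34_1 lc_i_rc_16_1 lc_i_rc_36_3 lc_i_rc_29_1 lc_i_rc_36_3 lc_i_rc_23_1 lc_i_rc_29_1 lc_i_Cert_tree) (@D3.rec (fun _ => (Cert rels S Gen.i)) lc_i_rc_44_0 lc_i_rc_8_1 lc_i_rc_44_0 lc_i_rc_16_1 lc_i_rc_29_1 lc_i_rc_8_1 lc_i_rc_29_1 lc_i_rc_29_1 lc_i_rc_16_1 lc_i_rc_16_1 lc_i_rc_44_0 lc_i_rc_8_1 lc_i_rc_8_1 lc_i_rc_16_1 lc_i_rc_29_1 lc_i_rc_23_1 lc_i_rc_29_1 lc_i_rc_23_1 lc_i_rc_16_1 lc_i_Cert_tree lc_i_rc_44_0 lc_i_rc_36_3 lc_i_rc_43_1 lc_i_rc_43_3 lc_i_rc_40_1 lc_i_rc_16_1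 lc_i_Cert_tree lc_i_rc_40_1 lc_i_rc_23_1 lc_i_Cert_tree lc_i_rc_8_1 lc_i_rc_8_3) (@D3.rec (fun _ => (Cert rels S Gen.i)) lc_i_rc_8_3 lc_i_Cert_tree lc_i_rc_44_0 lc_i_rc_44_0 lc_i_rc_36_3 lc_i_rc_44_0 lc_i_rc_23_1 lc_i_rc_29_1 lc_i_rc_34_1 lc_i_rc_16_1 lc_i_rc_44_0 lc_i_rc_44_0 lc_i_rc_23_1 lc_i_rc_44_0 lc_i_rc_16_1 lc_i_Cert_tree lc_i_rc_44_0 lc_i_rc_23_1 lc_i_rc_44_0 lc_i_rc_16_1 lc_i_Cert_tree lc_i_Cert_tree lc_i_rc_44_0 lc_i_rc_23_1 lc_i_Cert_tree lc_i_rc_44_0 lc_i_rc_16_1 lc_i_Cert_tree lc_i_Cert_tree lc_i_rc_44_0 lc_i_Cert_tree lc_i_rc_44_0) (@D3.rec (fun _ => (Cert rels S Gen.i)) lc_i_rc_44_0 lc_i_rc_23_3 lc_i_rc_23_3 lc_i_Cert_tree lc_i_rc_44_0 lc_i_rc_16_3 lc_i_rc_16_3 lc_i_Cert_tree lc_i_rc_44_0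 lc_i_rc_44_0 lc_i_rc_44_0 lc_i_rc_44_0 lc_i_rc_36_3 lc_i_rc_36_3 lc_i_rc_29_1 lc_i_rc_23_1 lc_i_rc_29_1 lc_i_rc_23_1 lc_i_rc_34_1 lc_i_rc_23_1 lc_i_rc_16_1 lc_i_rc_29_1 lc_i_Cert_tree lc_i_rc_44_0 lc_i_rc_36_3 lc_i_rc_36_3 lc_i_rc_36_3 lc_i_rc_36_3 lc_i_rc_44_0 lc_i_rc_40_1 lc_i_rc_29_1 lc_i_rc_44_0) (@D3.rec (fun _ => (Cert rels S Gen.i)) lc_i_rc_44_0 lc_i_rc_44_0 lc_i_rc_36_3 lc_i_rc_36_3 lc_i_rc_29_1 lc_i_rc_23_1 lc_i_rc_29_1 lc_i_rc_23_1 lc_i_rc_34_1 lc_i_rc_23_1 lc_i_rc_16_1 lc_i_rc_36_3 lc_i_rc_36_3 lc_i_rc_29_1 lc_i_rc_29_1 lc_i_rc_16_1 lc_i_Cert_tree lc_i_Cert_tree lc_i_rc_44_0 lc_i_Cert_tree lc_i_Cert_tree lc_i_rc_44_0 lc_i_rc_44_0 lc_i_rc_36_3 lc_i_Cert_tree lc_i_rc_44_0 lc_i_Cert_tree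 lc_i_Cert_tree lc_i_rc_44_0 lc_i_rc_23_1 lc_i_rc_44_0 lc_i_rc_36_3) (@D3.rec (fun _ => (Cert rels S Gen.i)) lc_i_Cert_tree lc_i_Cert_tree lc_i_rc_44_0 lc_i_Cert_tree lc_i_rc_44_0 lc_i_rc_23_1 lc_i_rc_29_1 lc_i_rc_44_0 lc_i_rc_16_1 lc_i_rc_29_1 lc_i_Cert_tree lc_i_Cert_tree lc_i_rc_8_3 lc_i_rc_44_0 lc_i_rc_44_0 lc_i_rc_23_1 lc_i_rc_16_1 lc_i_rc_29_1 lc_i_rc_44_0 lc_i_rc_23_1 lc_i_rc_36_3 lc_i_rc_44_0 lc_i_rc_16_1 lc_i_rc_23_1 lc_i_rc_29_1 lc_i_rc_23_1 lc_i_rc_29_1 lc_i_rc_8_1 lc_i_rc_29_1 lc_i_rc_23_1 lc_i_rc_16_1 lc_i_rc_8_1)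
def ce_i_11 : D2 → D3 → (Cert rels S Gen.i) := @D2.rec (fun _ => D3 → (Cert rels S Gen.i)) (@D3.rec (fun _ => (Cert rels S Gen.i)) lc_i_rc_29_1 lc_i_rc_29_1 lc_i_rc_29_1 lc_i_rc_34_1 lc_i_rc_29_1 lc_i_rc_23_1 lc_i_rc_16_1 lc_i_Cert_tree lc_i_rc_44_0 lc_i_Cert_tree lc_i_rc_44_0 lc_i_rc_36_3 lc_i_Cert_tree lc_i_Cert_tree lc_i_rc_44_0 lc_i_rc_23_1 lc_i_rc_44_0 lc_i_rc_36_3 lc_i_Cert_tree lc_i_Cert_tree lc_i_rc_44_0 lc_i_Cert_tree lc_i_rc_44_0 lc_i_rc_23_1 lc_i_rc_29_1 lc_i_rc_44_0 lc_i_rc_36_3 lc_i_rc_29_1 lc_i_Cert_tree lc_i_Cert_tree lc_i_Cert_tree lc_i_rc_44_0) (@D3.rec (fun _ => (Cert rels S Gen.i)) lc_i_rc_44_0 lc_i_rc_36_3 lc_i_rc_44_0 lc_i_rc_23_1 lc_i_rc_29_1 lc_i_rc_34_1 lc_i_rc_16_1 lc_i_rc_29_1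 lc_i_rc_23_1 lc_i_rc_44_0 lc_i_rc_44_0 lc_i_rc_44_0 lc_i_rc_16_3 lc_i_rc_23_1 lc_i_rc_29_1 lc_i_rc_29_1 lc_i_rc_23_1 lc_i_rc_34_1 lc_i_rc_36_3 lc_i_rc_29_1 lc_i_rc_23_3 lc_i_rc_29_1 lc_i_rc_23_1 lc_i_rc_29_1 lc_i_rc_23_1 lc_i_rc_34_1 lc_i_rc_16_1 lc_i_rc_16_1 lc_i_rc_29_1 lc_i_rc_29_1 lc_i_rc_23_1 lc_i_rc_16_1) (@D3.rec (fun _ => (Cert rels S Gen.i)) lc_i_rc_29_1 lc_i_rc_8_1 lc_i_Cert_tree lc_i_rc_44_0 lc_i_rc_36_3 lc_i_rc_44_0 lc_i_rc_44_0 lc_i_rc_44_0 lc_i_rc_36_3 lc_i_rc_36_3 lc_i_rc_29_1 lc_i_rc_23_1 lc_i_rc_29_1 lc_i_rc_23_1 lc_i_rc_34_1 lc_i_rc_29_1 lc_i_rc_23_1 lc_i_rc_34_1 lc_i_rc_16_1 lc_i_rc_36_3 lc_i_rc_34_1 lc_i_rc_36_3 lc_i_rc_29_1 lc_i_rc_29_1 lc_i_rc_23_1 lc_i_rc_34_1 lc_i_rc_16_1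 lc_i_rc_8_1 lc_i_rc_44_0 lc_i_rc_16_1 lc_i_rc_29_1 lc_i_rc_44_0) (@D3.rec (fun _ => (Cert rels S Gen.i)) lc_i_rc_44_0 lc_i_rc_16_1 lc_i_rc_8_1 lc_i_Cert_tree lc_i_Cert_tree lc_i_rc_44_0 lc_i_Cert_tree lc_i_rc_44_0 lc_i_Cert_tree lc_i_Cert_tree lc_i_rc_44_0 lc_i_Cert_tree lc_i_Cert_tree lc_i_rc_44_0 lc_i_Cert_tree lc_i_rc_44_0 lc_i_rc_36_3 lc_i_Cert_tree lc_i_Cert_tree lc_i_rc_44_0 lc_i_Cert_tree lc_i_Cert_tree lc_i_rc_44_0 lc_i_rc_44_0 lc_i_rc_36_3 lc_i_Cert_tree lc_i_Cert_tree lc_i_rc_44_0 lc_i_Cert_tree lc_i_Cert_tree lc_i_rc_44_0 lc_i_rc_23_1) (@D3.rec (fun _ => (Cert rels S Gen.i)) lc_i_Cert_tree lc_i_rc_44_0 lc_i_rc_36_3 lc_i_rc_16_1 lc_i_Cert_tree lc_i_Cert_tree lc_i_rc_44_0 lc_i_Cert_tree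 lc_i_rc_44_0 lc_i_rc_23_1 lc_i_rc_44_0 lc_i_rc_16_1 lc_i_rc_29_1 lc_i_rc_16_1 lc_i_rc_16_1 lc_i_rc_44_0 lc_i_rc_16_1 lc_i_rc_44_0 lc_i_Cert_tree lc_i_rc_44_0 lc_i_rc_44_0 lc_i_rc_36_3 lc_i_Cert_tree lc_i_Cert_tree lc_i_rc_44_0 lc_i_rc_44_0 lc_i_rc_23_1 lc_i_rc_44_0 lc_i_rc_36_3 lc_i_Cert_tree lc_i_rc_44_0 lc_i_rc_44_0) (@D3.rec (fun _ => (Cert rels S Gen.i)) lc_i_rc_40_1 lc_i_Cert_tree lc_i_rc_44_0 lc_i_rc_36_3 lc_i_rc_36_3 lc_i_Cert_tree lc_i_rc_44_0 lc_i_Cert_tree lc_i_rc_44_0 lc_i_rc_16_1 lc_i_rc_44_0 lc_i_rc_23_1 lc_i_rc_29_1 lc_i_rc_44_0 lc_i_rc_36_3 lc_i_rc_29_1 lc_i_rc_29_1 lc_i_rc_29_1 lc_i_rc_23_1 lc_i_rc_34_1 lc_i_rc_44_0 lc_i_rc_44_0 lc_i_rc_16_1 lc_i_rc_8_1 lc_i_rc_8_1 lc_i_rc_16_1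 lc_i_rc_8_1 lc_i_rc_40_1 lc_i_rc_36_3 lc_i_rc_36_3 lc_i_rc_44_0 lc_i_rc_16_1) (@D3.rec (fun _ => (Cert rels S Gen.i)) lc_i_rc_23_1 lc_i_rc_29_1 lc_i_rc_36_3 lc_i_rc_29_1 lc_i_rc_36_3 lc_i_rc_23_1 lc_i_rc_44_0 lc_i_rc_16_1 lc_i_rc_29_1 lc_i_rc_29_1 lc_i_rc_44_0 lc_i_rc_8_1 lc_i_rc_36_3 lc_i_rc_16_1 lc_i_rc_16_1 lc_i_rc_34_1 lc_i_rc_16_3 lc_i_rc_29_1 lc_i_rc_23_1 lc_i_rc_34_1 lc_i_rc_16_1 lc_i_rc_8_1 lc_i_Cert_tree lc_i_rc_44_0 lc_i_Cert_tree lc_i_rc_44_0 lc_i_Cert_tree lc_i_Cert_tree lc_i_rc_44_0 lc_i_Cert_tree lc_i_rc_44_0 lc_i_rc_29_1) (@D3.rec (fun _ => (Cert rels S Gen.i)) lc_i_rc_44_0 lc_i_Cert_tree lc_i_rc_44_0 lc_i_Cert_tree lc_i_Cert_tree lc_i_rc_44_0 lc_i_rc_44_0 lc_i_rc_36_3 lc_i_Cert_tree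 lc_i_Cert_tree lc_i_rc_44_0 lc_i_Cert_tree lc_i_Cert_tree lc_i_rc_44_0 lc_i_rc_23_1 lc_i_Cert_tree lc_i_rc_44_0 lc_i_rc_36_3 lc_i_Cert_tree lc_i_rc_44_0 lc_i_rc_44_0 lc_i_rc_40_1 lc_i_Cert_tree lc_i_Cert_tree lc_i_rc_44_0 lc_i_Cert_tree lc_i_Cert_tree lc_i_rc_44_0 lc_i_rc_36_3 lc_i_Cert_tree lc_i_rc_44_0 lc_i_rc_36_3) (@D3.rec (fun _ => (Cert rels S Gen.i)) lc_i_Cert_tree lc_i_rc_44_0 lc_i_Cert_tree lc_i_Cert_tree lc_i_rc_44_0 lc_i_rc_16_1 lc_i_Cert_tree lc_i_Cert_tree lc_i_rc_44_0 lc_i_Cert_tree lc_i_rc_44_0 lc_i_rc_23_1 lc_i_rc_29_1 lc_i_rc_44_0 lc_i_rc_36_3 lc_i_rc_29_1 lc_i_Cert_tree lc_i_rc_44_0 lc_i_Cert_tree lc_i_rc_44_0 lc_i_rc_23_1 lc_i_rc_44_0 lc_i_rc_16_1 lc_i_rc_29_1 lc_i_Cert_tree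 lc_i_Cert_tree lc_i_Cert_tree lc_i_rc_44_0 lc_i_rc_44_0 lc_i_rc_36_3 lc_i_rc_44_0 lc_i_rc_23_1) (@D3.rec (fun _ => (Cert rels S Gen.i)) lc_i_rc_29_1 lc_i_rc_34_1 lc_i_rc_16_1 lc_i_rc_29_1 lc_i_rc_23_1 lc_i_rc_44_0 lc_i_rc_44_0 lc_i_rc_23_1 lc_i_rc_40_1 lc_i_rc_44_0 lc_i_rc_36_3 lc_i_rc_36_3 lc_i_rc_44_0 lc_i_Cert_tree lc_i_rc_44_0 lc_i_rc_16_1 lc_i_rc_44_0 lc_i_rc_23_1 lc_i_rc_44_0 lc_i_rc_36_3 lc_i_rc_29_1 lc_i_rc_23_1 lc_i_rc_44_0 lc_i_rc_44_0 lc_i_rc_16_1 lc_i_rc_23_1 lc_i_rc_44_0 lc_i_rc_23_1 lc_i_rc_29_1 lc_i_Cert_tree lc_i_rc_44_0 lc_i_rc_8_1) (@D3.rec (fun _ => (Cert rels S Gen.i)) lc_i_Cert_tree lc_i_rc_44_0 lc_i_rc_16_1 lc_i_rc_44_0 lc_i_rc_36_3 lc_i_rc_29_1 lc_i_rc_36_3 lc_i_rc_29_1 lc_i_rc_23_1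 lc_i_rc_29_1 lc_i_rc_23_1 lc_i_rc_23_1 lc_i_rc_16_1 lc_i_rc_29_1 lc_i_rc_8_1 lc_i_rc_36_3 lc_i_rc_29_1 lc_i_rc_36_3 lc_i_rc_29_1 lc_i_rc_23_1 lc_i_rc_29_1 lc_i_rc_16_3 lc_i_rc_29_1 lc_i_rc_36_3 lc_i_rc_29_1 lc_i_rc_23_1 lc_i_rc_44_0 lc_i_rc_16_3 lc_i_rc_16_1 lc_i_rc_29_1 lc_i_rc_16_1 lc_i_rc_16_1) (@D3.rec (fun _ => (Cert rels S Gen.i)) lc_i_rc_23_1 lc_i_rc_23_1 lc_i_rc_16_1 lc_i_rc_23_1 lc_i_rc_34_1 lc_i_rc_8_1 lc_i_rc_44_0 lc_i_Cert_tree lc_i_rc_16_3 lc_i_rc_44_0 lc_i_Cert_tree lc_i_rc_44_0 lc_i_rc_36_3 lc_i_Cert_tree lc_i_Cert_tree lc_i_rc_44_0 lc_i_rc_44_0 lc_i_rc_36_3 lc_i_Cert_tree lc_i_rc_44_0 lc_i_rc_34_1 lc_i_rc_44_0 lc_i_rc_44_0 lc_i_rc_29_3 lc_i_rc_44_0 lc_i_rc_44_0 lc_i_rc_16_1 lc_i_Cert_tree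 lc_i_rc_44_0 lc_i_rc_44_0 lc_i_rc_36_3 lc_i_Cert_tree) (@D3.rec (fun _ => (Cert rels S Gen.i)) lc_i_rc_44_0 lc_i_rc_23_3 lc_i_Cert_tree lc_i_rc_44_0 lc_i_Cert_tree lc_i_rc_44_0 lc_i_rc_23_1 lc_i_rc_23_3 lc_i_rc_44_0 lc_i_rc_16_1 lc_i_rc_44_0 lc_i_rc_34_1 lc_i_rc_44_0 lc_i_rc_23_3 lc_i_rc_29_1 lc_i_rc_16_1 lc_i_rc_8_1 lc_i_rc_8_1 lc_i_rc_16_1 lc_i_rc_8_1 lc_i_rc_29_1 lc_i_rc_23_3 lc_i_rc_29_1 lc_i_rc_8_1 lc_i_Cert_tree lc_i_rc_44_0 lc_i_Cert_tree lc_i_Cert_tree lc_i_rc_44_0 lc_i_Cert_tree lc_i_Cert_tree lc_i_rc_44_0) (@D3.rec (fun _ => (Cert rels S Gen.i)) lc_i_Cert_tree lc_i_rc_44_0 lc_i_rc_36_3 lc_i_Cert_tree lc_i_rc_44_0 lc_i_Cert_tree lc_i_rc_44_0 lc_i_rc_36_3 lc_i_Cert_tree lc_i_Cert_tree lc_i_rc_44_0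 lc_i_Cert_tree lc_i_Cert_tree lc_i_rc_44_0 lc_i_rc_23_1 lc_i_rc_44_0 lc_i_rc_36_3 lc_i_Cert_tree lc_i_rc_44_0 lc_i_rc_44_0 lc_i_rc_40_1 lc_i_Cert_tree lc_i_rc_44_0 lc_i_Cert_tree lc_i_Cert_tree lc_i_rc_44_0 lc_i_rc_36_3 lc_i_rc_44_0 lc_i_rc_40_3 lc_i_Cert_tree lc_i_rc_44_0 lc_i_Cert_tree) (@D3.rec (fun _ => (Cert rels S Gen.i)) lc_i_Cert_tree lc_i_rc_44_0 lc_i_rc_16_1 lc_i_Cert_tree lc_i_Cert_tree lc_i_rc_44_0 lc_i_Cert_tree lc_i_rc_44_0 lc_i_rc_23_1 lc_i_rc_29_1 lc_i_rc_44_0 lc_i_rc_36_3 lc_i_rc_8_1 lc_i_Cert_tree lc_i_Cert_tree lc_i_rc_44_0 lc_i_Cert_tree lc_i_rc_44_0 lc_i_rc_44_0 lc_i_Cert_tree lc_i_Cert_tree lc_i_Cert_tree lc_i_rc_44_0 lc_i_rc_44_0 lc_i_rc_36_3 lc_i_rc_44_0 lc_i_rc_23_1 lc_i_rc_29_1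 lc_i_rc_34_1 lc_i_rc_16_1 lc_i_rc_8_1 lc_i_rc_8_1) (@D3.rec (fun _ => (Cert rels S Gen.i)) lc_i_rc_44_0 lc_i_rc_44_0 lc_i_rc_23_1 lc_i_rc_40_1 lc_i_rc_44_0 lc_i_rc_36_3 lc_i_rc_44_0 lc_i_rc_44_0 lc_i_rc_16_1 lc_i_rc_23_1 lc_i_rc_29_1 lc_i_rc_36_3 lc_i_rc_36_3 lc_i_rc_44_0 lc_i_rc_16_1 lc_i_rc_16_3 lc_i_rc_29_1 lc_i_rc_36_3 lc_i_rc_44_0 lc_i_rc_8_1 lc_i_rc_44_0 lc_i_rc_16_1 lc_i_rc_16_1 lc_i_rc_16_3 lc_i_rc_23_1 lc_i_rc_23_1 lc_i_rc_16_3 lc_i_rc_8_1 lc_i_rc_16_1 lc_i_rc_8_1 lc_i_rc_8_1 lc_i_rc_23_1) (@D3.rec (fun _ => (Cert rels S Gen.i)) lc_i_rc_16_1 lc_i_rc_29_1 lc_i_rc_8_1 lc_i_rc_16_1 lc_i_rc_16_1 lc_i_rc_16_1 lc_i_rc_23_1 lc_i_rc_36_3 lc_i_rc_8_1 lc_i_rc_29_1 lc_i_rc_23_1 lc_i_Cert_tree lc_i_Cert_tree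 lc_i_rc_44_0 lc_i_rc_44_0 lc_i_rc_29_1 lc_i_rc_44_0 lc_i_rc_23_1 lc_i_rc_16_3 lc_i_Cert_tree lc_i_Cert_tree lc_i_rc_44_0 lc_i_rc_16_1 lc_i_Cert_tree lc_i_Cert_tree lc_i_rc_44_0 lc_i_rc_44_0 lc_i_rc_16_3 lc_i_rc_29_1 lc_i_rc_8_1 lc_i_Cert_tree lc_i_Cert_tree) (@D3.rec (fun _ => (Cert rels S Gen.i)) lc_i_rc_44_0 lc_i_rc_44_0 lc_i_rc_36_3 lc_i_rc_23_1 lc_i_Cert_tree lc_i_rc_8_1 lc_i_rc_44_0 lc_i_rc_8_1 lc_i_rc_44_0 lc_i_rc_23_1 lc_i_rc_16_1 lc_i_rc_44_0 lc_i_rc_23_3 lc_i_rc_16_3 lc_i_rc_43_1 lc_i_rc_29_1 lc_i_rc_44_0 lc_i_Cert_tree lc_i_rc_44_0 lc_i_rc_44_0 lc_i_rc_23_3 lc_i_Cert_tree lc_i_Cert_tree lc_i_rc_44_0 lc_i_Cert_tree lc_i_Cert_tree lc_i_rc_44_0 lc_i_rc_36_3 lc_i_Cert_tree lc_i_rc_44_0 lc_i_rc_36_3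 lc_i_rc_8_3) (@D3.rec (fun _ => (Cert rels S Gen.i)) lc_i_rc_8_3 lc_i_rc_36_3 lc_i_Cert_tree lc_i_rc_44_0 lc_i_Cert_tree lc_i_Cert_tree lc_i_rc_44_0 lc_i_rc_16_1 lc_i_Cert_tree lc_i_Cert_tree lc_i_rc_44_0 lc_i_Cert_tree lc_i_rc_44_0 lc_i_rc_23_1 lc_i_rc_29_1 lc_i_rc_44_0 lc_i_rc_36_3 lc_i_Cert_tree lc_i_Cert_tree lc_i_rc_44_0 lc_i_Cert_tree lc_i_rc_44_0 lc_i_rc_8_3 lc_i_rc_29_1 lc_i_rc_44_0 lc_i_rc_8_3 lc_i_Cert_tree lc_i_Cert_tree lc_i_rc_44_0 lc_i_rc_8_1 lc_i_Cert_tree lc_i_Cert_tree) (@D3.rec (fun _ => (Cert rels S Gen.i)) lc_i_rc_44_0 lc_i_Cert_tree lc_i_rc_44_0 lc_i_rc_16_1 lc_i_rc_16_1 lc_i_Cert_tree lc_i_Cert_tree lc_i_Cert_tree lc_i_rc_44_0 lc_i_rc_44_0 lc_i_rc_36_3 lc_i_rc_44_0 lc_i_rc_36_3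 lc_i_rc_29_1 lc_i_rc_34_1 lc_i_rc_36_3 lc_i_rc_36_3 lc_i_rc_40_3 lc_i_Cert_tree lc_i_Cert_tree lc_i_Cert_tree lc_i_rc_44_0 lc_i_rc_44_0 lc_i_rc_36_3 lc_i_rc_44_0 lc_i_rc_43_3 lc_i_rc_43_1 lc_i_rc_16_1 lc_i_rc_40_1 lc_i_rc_44_0 lc_i_rc_44_0 lc_i_rc_44_0) (@D3.rec (fun _ => (Cert rels S Gen.i)) lc_i_rc_36_3 lc_i_rc_36_3 lc_i_rc_29_1 lc_i_rc_23_1 lc_i_rc_29_1 lc_i_rc_23_1 lc_i_rc_34_1 lc_i_rc_23_1 lc_i_rc_16_1 lc_i_rc_16_1 lc_i_rc_29_1 lc_i_rc_29_1 lc_i_rc_44_0 lc_i_rc_8_1 lc_i_rc_44_0 lc_i_rc_16_1 lc_i_rc_36_3 lc_i_rc_29_1 lc_i_rc_36_3 lc_i_rc_36_3 lc_i_rc_44_0 lc_i_rc_8_1 lc_i_rc_44_0 lc_i_rc_16_1 lc_i_rc_16_1 lc_i_rc_23_1 lc_i_rc_29_1 lc_i_rc_16_3 lc_i_rc_8_3 lc_i_rc_8_1 lc_i_rc_16_1 lc_i_rc_29_1)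 (@D3.rec (fun _ => (Cert rels S Gen.i)) lc_i_rc_23_1 lc_i_rc_8_1 lc_i_rc_29_1 lc_i_rc_23_1 lc_i_Cert_tree lc_i_rc_44_0 lc_i_rc_36_3 lc_i_rc_36_3 lc_i_rc_34_1 lc_i_rc_34_1 lc_i_Cert_tree lc_i_rc_44_0 lc_i_Cert_tree lc_i_rc_44_0 lc_i_rc_23_3 lc_i_Cert_tree lc_i_rc_44_0 lc_i_rc_34_1 lc_i_rc_44_0 lc_i_rc_40_1 lc_i_rc_29_1 lc_i_Cert_tree lc_i_Cert_tree lc_i_rc_44_0 lc_i_Cert_tree lc_i_rc_44_0 lc_i_rc_8_1 lc_i_Cert_tree lc_i_Cert_tree lc_i_Cert_tree lc_i_rc_44_0 lc_i_rc_44_0)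
def ce_i_12 : D2 → D3 → (Cert rels S Gen.i) := @D2.rec (fun _ => D3 → (Cert rels S Gen.i)) (@D3.rec (fun _ => (Cert rels S Gen.i)) lc_i_rc_36_3 lc_i_rc_44_0 lc_i_rc_23_1 lc_i_rc_29_1 lc_i_rc_34_1 lc_i_rc_44_0 lc_i_rc_44_0 lc_i_rc_44_0 lc_i_rc_36_3 lc_i_rc_36_3 lc_i_rc_29_1 lc_i_rc_23_1 lc_i_rc_29_1 lc_i_rc_29_1 lc_i_rc_34_1 lc_i_rc_40_1 lc_i_rc_16_1 lc_i_rc_44_0 lc_i_rc_44_0 lc_i_rc_44_0 lc_i_rc_36_3 lc_i_rc_36_3 lc_i_rc_29_1 lc_i_rc_23_1 lc_i_rc_29_1 lc_i_rc_23_1 lc_i_rc_34_1 lc_i_rc_23_1 lc_i_rc_16_1 lc_i_rc_36_3 lc_i_rc_36_3 lc_i_rc_36_3) (@D3.rec (fun _ => (Cert rels S Gen.i)) lc_i_rc_23_1 lc_i_rc_29_1 lc_i_rc_34_1 lc_i_rc_36_3 lc_i_rc_29_1 lc_i_rc_16_1 lc_i_rc_23_1 lc_i_rc_44_0 lc_i_rc_8_1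 lc_i_rc_8_1 lc_i_rc_16_1 lc_i_rc_29_1 lc_i_rc_23_1 lc_i_rc_34_1 lc_i_rc_16_1 lc_i_rc_8_1 lc_i_rc_8_1 lc_i_rc_23_3 lc_i_rc_44_0 lc_i_rc_36_3 lc_i_rc_43_3 lc_i_Cert_tree lc_i_rc_40_1 lc_i_rc_16_1 lc_i_rc_16_1 lc_i_Cert_tree lc_i_rc_44_0 lc_i_rc_23_1 lc_i_rc_23_1 lc_i_Cert_tree lc_i_rc_44_0 lc_i_rc_44_0) (@D3.rec (fun _ => (Cert rels S Gen.i)) lc_i_rc_36_3 lc_i_rc_29_1 lc_i_rc_23_1 lc_i_rc_29_1 lc_i_rc_34_1 lc_i_rc_16_1 lc_i_rc_44_0 lc_i_rc_16_1 lc_i_Cert_tree lc_i_Cert_tree lc_i_rc_44_0 lc_i_rc_44_0 lc_i_rc_23_1 lc_i_rc_44_0 lc_i_rc_16_1 lc_i_rc_29_1 lc_i_Cert_tree lc_i_Cert_tree lc_i_Cert_tree lc_i_rc_44_0 lc_i_rc_44_0 lc_i_rc_36_3 lc_i_rc_44_0 lc_i_rc_44_0 lc_i_rc_44_0 lc_i_rc_36_3 lc_i_rc_29_1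 lc_i_rc_23_1 lc_i_rc_29_1 lc_i_rc_23_1 lc_i_rc_16_1 lc_i_rc_23_1) (@D3.rec (fun _ => (Cert rels S Gen.i)) lc_i_rc_44_0 lc_i_rc_36_3 lc_i_rc_29_1 lc_i_rc_29_1 lc_i_rc_29_1 lc_i_rc_23_1 lc_i_rc_34_3 lc_i_rc_36_3 lc_i_rc_36_3 lc_i_rc_29_1 lc_i_rc_29_1 lc_i_rc_29_1 lc_i_rc_23_1 lc_i_rc_34_1 lc_i_rc_16_1 lc_i_Cert_tree lc_i_Cert_tree lc_i_rc_44_0 lc_i_Cert_tree lc_i_rc_44_0 lc_i_rc_36_3 lc_i_rc_44_0 lc_i_Cert_tree lc_i_rc_44_0 lc_i_rc_23_1 lc_i_rc_36_3 lc_i_Cert_tree lc_i_rc_44_0 lc_i_rc_16_1 lc_i_Cert_tree lc_i_Cert_tree lc_i_rc_44_0) (@D3.rec (fun _ => (Cert rels S Gen.i)) lc_i_rc_44_0 lc_i_rc_23_1 lc_i_rc_29_1 lc_i_rc_23_3 lc_i_rc_29_1 lc_i_Cert_tree lc_i_Cert_tree lc_i_Cert_tree lc_i_rc_44_0 lc_i_rc_44_0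 lc_i_rc_36_3 lc_i_rc_44_0 lc_i_rc_23_1 lc_i_rc_29_1 lc_i_rc_34_1 lc_i_rc_16_1 lc_i_rc_29_1 lc_i_rc_23_1 lc_i_rc_44_0 lc_i_rc_44_0 lc_i_rc_23_1 lc_i_rc_16_1 lc_i_rc_29_1 lc_i_rc_29_1 lc_i_rc_23_3 lc_i_rc_16_1 lc_i_rc_29_1 lc_i_rc_34_1 lc_i_rc_29_1 lc_i_rc_23_1 lc_i_rc_16_1 lc_i_rc_23_1) (@D3.rec (fun _ => (Cert rels S Gen.i)) lc_i_rc_16_1 lc_i_rc_40_1 lc_i_rc_34_1 lc_i_rc_23_1 lc_i_rc_23_1 lc_i_rc_34_1 lc_i_rc_34_1 lc_i_Cert_tree lc_i_Cert_tree lc_i_rc_44_0 lc_i_rc_36_3 lc_i_Cert_tree lc_i_rc_44_0 lc_i_rc_36_3 lc_i_Cert_tree lc_i_Cert_tree lc_i_rc_44_0 lc_i_rc_44_0 lc_i_rc_23_1 lc_i_rc_29_1 lc_i_rc_36_3 lc_i_rc_29_1 lc_i_Cert_tree lc_i_Cert_tree lc_i_Cert_tree lc_i_rc_44_0 lc_i_rc_44_0 lc_i_rc_36_3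 lc_i_rc_44_0 lc_i_rc_36_3 lc_i_rc_29_1 lc_i_rc_34_1) (@D3.rec (fun _ => (Cert rels S Gen.i)) lc_i_rc_8_1 lc_i_rc_29_1 lc_i_rc_23_1 lc_i_rc_44_0 lc_i_rc_44_0 lc_i_rc_44_0 lc_i_rc_36_3 lc_i_rc_36_3 lc_i_rc_29_1 lc_i_rc_23_1 lc_i_rc_29_1 lc_i_rc_23_1 lc_i_rc_34_1 lc_i_rc_29_1 lc_i_rc_23_1 lc_i_rc_34_1 lc_i_rc_16_1 lc_i_rc_16_1 lc_i_rc_16_1 lc_i_rc_29_1 lc_i_rc_34_1 lc_i_rc_23_1 lc_i_rc_23_1 lc_i_rc_29_1 lc_i_rc_29_1 lc_i_rc_23_1 lc_i_rc_16_3 lc_i_rc_8_3 lc_i_rc_16_1 lc_i_rc_8_1 lc_i_rc_29_1 lc_i_rc_44_0) (@D3.rec (fun _ => (Cert rels S Gen.i)) lc_i_rc_40_1 lc_i_rc_29_1 lc_i_rc_36_3 lc_i_rc_34_1 lc_i_rc_36_3 lc_i_rc_29_1 lc_i_rc_29_1 lc_i_rc_23_1 lc_i_rc_34_1 lc_i_rc_29_1 lc_i_rc_23_1 lc_i_rc_34_1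 lc_i_rc_16_1 lc_i_rc_23_1 lc_i_rc_16_1 lc_i_rc_8_1 lc_i_rc_16_3 lc_i_rc_29_1 lc_i_Cert_tree lc_i_Cert_tree lc_i_rc_44_0 lc_i_Cert_tree lc_i_rc_44_0 lc_i_rc_8_1 lc_i_Cert_tree lc_i_rc_44_0 lc_i_Cert_tree lc_i_Cert_tree lc_i_rc_44_0 lc_i_rc_44_0 lc_i_rc_36_3 lc_i_Cert_tree) (@D3.rec (fun _ => (Cert rels S Gen.i)) lc_i_Cert_tree lc_i_rc_44_0 lc_i_Cert_tree lc_i_Cert_tree lc_i_rc_44_0 lc_i_rc_23_1 lc_i_rc_44_0 lc_i_rc_36_3 lc_i_Cert_tree lc_i_Cert_tree lc_i_rc_44_0 lc_i_rc_44_0 lc_i_rc_40_1 lc_i_Cert_tree lc_i_rc_44_0 lc_i_rc_44_0 lc_i_rc_36_3 lc_i_rc_36_3 lc_i_Cert_tree lc_i_rc_44_0 lc_i_Cert_tree lc_i_Cert_tree lc_i_rc_44_0 lc_i_rc_16_1 lc_i_Cert_tree lc_i_Cert_tree lc_i_rc_44_0 lc_i_Cert_tree lc_i_rc_44_0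 lc_i_rc_23_1 lc_i_rc_29_1 lc_i_rc_44_0) (@D3.rec (fun _ => (Cert rels S Gen.i)) lc_i_rc_36_3 lc_i_rc_29_1 lc_i_rc_29_1 lc_i_rc_8_3 lc_i_Cert_tree lc_i_Cert_tree lc_i_rc_44_0 lc_i_rc_44_0 lc_i_rc_36_3 lc_i_rc_44_0 lc_i_rc_29_1 lc_i_rc_29_1 lc_i_rc_23_1 lc_i_rc_40_1 lc_i_rc_44_0 lc_i_rc_36_3 lc_i_rc_36_3 lc_i_rc_44_0 lc_i_rc_44_0 lc_i_rc_16_1 lc_i_rc_23_1 lc_i_rc_29_1 lc_i_rc_36_3 lc_i_rc_29_1 lc_i_rc_44_0 lc_i_rc_36_3 lc_i_rc_23_1 lc_i_rc_44_0 lc_i_rc_16_1 lc_i_rc_29_1 lc_i_rc_29_1 lc_i_rc_44_0) (@D3.rec (fun _ => (Cert rels S Gen.i)) lc_i_rc_8_1 lc_i_rc_44_0 lc_i_rc_16_1 lc_i_rc_16_1 lc_i_rc_16_3 lc_i_rc_34_1 lc_i_rc_16_3 lc_i_rc_29_1 lc_i_rc_23_1 lc_i_rc_34_1 lc_i_rc_16_1 lc_i_rc_16_1 lc_i_rc_8_1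 lc_i_rc_23_1 lc_i_rc_16_1 lc_i_rc_29_1 lc_i_rc_29_1 lc_i_rc_8_1 lc_i_rc_16_1 lc_i_rc_34_1 lc_i_rc_29_1 lc_i_rc_23_1 lc_i_rc_29_1 lc_i_rc_36_3 lc_i_rc_29_1 lc_i_rc_36_3 lc_i_rc_8_1 lc_i_rc_16_1 lc_i_rc_8_1 lc_i_Cert_tree lc_i_rc_44_0 lc_i_Cert_tree) (@D3.rec (fun _ => (Cert rels S Gen.i)) lc_i_rc_44_0 lc_i_rc_36_3 lc_i_Cert_tree lc_i_Cert_tree lc_i_rc_44_0 lc_i_Cert_tree lc_i_Cert_tree lc_i_rc_44_0 lc_i_rc_29_3 lc_i_Cert_tree lc_i_rc_44_0 lc_i_rc_34_1 lc_i_rc_44_0 lc_i_rc_40_1 lc_i_rc_44_0 lc_i_Cert_tree lc_i_rc_44_0 lc_i_rc_36_3 lc_i_rc_36_3 lc_i_rc_44_0 lc_i_Cert_tree lc_i_Cert_tree lc_i_rc_44_0 lc_i_rc_16_1 lc_i_Cert_tree lc_i_Cert_tree lc_i_rc_44_0 lc_i_Cert_tree lc_i_rc_44_0 lc_i_rc_23_1 lc_i_rc_29_1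 lc_i_rc_44_0) (@D3.rec (fun _ => (Cert rels S Gen.i)) lc_i_rc_36_3 lc_i_rc_29_1 lc_i_Cert_tree lc_i_rc_44_0 lc_i_rc_40_1 lc_i_rc_23_3 lc_i_rc_44_0 lc_i_Cert_tree lc_i_rc_44_0 lc_i_rc_16_1 lc_i_Cert_tree lc_i_rc_44_0 lc_i_Cert_tree lc_i_rc_44_0 lc_i_rc_36_3 lc_i_rc_29_1 lc_i_rc_44_0 lc_i_rc_34_1 lc_i_rc_29_1 lc_i_Cert_tree lc_i_Cert_tree lc_i_rc_44_0 lc_i_rc_8_1 lc_i_Cert_tree lc_i_Cert_tree lc_i_rc_44_0 lc_i_Cert_tree lc_i_rc_44_0 lc_i_rc_16_1 lc_i_rc_16_1 lc_i_Cert_tree lc_i_Cert_tree) (@D3.rec (fun _ => (Cert rels S Gen.i)) lc_i_Cert_tree lc_i_rc_44_0 lc_i_rc_44_0 lc_i_rc_36_3 lc_i_rc_44_0 lc_i_rc_36_3 lc_i_rc_29_1 lc_i_rc_34_1 lc_i_rc_36_3 lc_i_rc_29_1 lc_i_rc_23_1 lc_i_Cert_tree lc_i_rc_44_0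 lc_i_rc_36_3 lc_i_rc_44_0 lc_i_rc_23_1 lc_i_rc_29_1 lc_i_rc_29_1 lc_i_rc_23_1 lc_i_rc_44_0 lc_i_rc_44_0 lc_i_rc_44_0 lc_i_rc_36_3 lc_i_rc_36_3 lc_i_rc_29_1 lc_i_rc_23_1 lc_i_rc_29_1 lc_i_rc_23_1 lc_i_rc_34_1 lc_i_rc_23_1 lc_i_rc_16_1 lc_i_rc_16_1) (@D3.rec (fun _ => (Cert rels S Gen.i)) lc_i_rc_29_1 lc_i_rc_8_1 lc_i_rc_44_0 lc_i_rc_16_1 lc_i_rc_36_3 lc_i_rc_29_1 lc_i_rc_36_3 lc_i_rc_29_1 lc_i_rc_23_1 lc_i_rc_29_1 lc_i_rc_23_3 lc_i_rc_23_3 lc_i_rc_29_1 lc_i_rc_36_3 lc_i_rc_29_1 lc_i_rc_23_1 lc_i_rc_44_0 lc_i_rc_23_3 lc_i_rc_44_0 lc_i_rc_16_1 lc_i_rc_16_1 lc_i_rc_23_1 lc_i_rc_8_1 lc_i_rc_23_1 lc_i_rc_23_1 lc_i_rc_16_1 lc_i_rc_23_1 lc_i_rc_34_1 lc_i_rc_16_1 lc_i_rc_16_1 lc_i_rc_8_1 lc_i_rc_23_1) (@D3.rec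 (fun _ => (Cert rels S Gen.i)) lc_i_rc_23_1 lc_i_rc_16_1 lc_i_rc_23_1 lc_i_rc_23_1 lc_i_rc_34_1 lc_i_rc_23_1 lc_i_rc_29_1 lc_i_rc_29_1 lc_i_rc_34_1 lc_i_rc_40_1 lc_i_rc_23_1 lc_i_rc_29_1 lc_i_rc_44_0 lc_i_rc_23_3 lc_i_rc_29_1 lc_i_rc_44_0 lc_i_rc_36_3 lc_i_Cert_tree lc_i_rc_44_0 lc_i_rc_44_0 lc_i_rc_23_3 lc_i_rc_23_1 lc_i_rc_44_0 lc_i_rc_34_1 lc_i_rc_29_1 lc_i_rc_44_0 lc_i_rc_8_1 lc_i_rc_23_1 lc_i_rc_44_0 lc_i_rc_34_1 lc_i_rc_44_0 lc_i_rc_16_1) (@D3.rec (fun _ => (Cert rels S Gen.i)) lc_i_rc_44_0 lc_i_rc_16_1 lc_i_rc_29_1 lc_i_rc_36_3 lc_i_rc_34_1 lc_i_rc_43_1 lc_i_rc_23_3 lc_i_rc_29_1 lc_i_rc_16_1 lc_i_rc_8_1 lc_i_rc_23_1 lc_i_rc_16_1 lc_i_rc_29_1 lc_i_Cert_tree lc_i_rc_44_0 lc_i_Cert_tree lc_i_Cert_tree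 lc_i_rc_44_0 lc_i_rc_44_0 lc_i_rc_23_3 lc_i_Cert_tree lc_i_Cert_tree lc_i_rc_44_0 lc_i_Cert_tree lc_i_Cert_tree lc_i_rc_44_0 lc_i_rc_36_3 lc_i_rc_44_0 lc_i_rc_36_3 lc_i_rc_44_0 lc_i_rc_40_1 lc_i_rc_44_0) (@D3.rec (fun _ => (Cert rels S Gen.i)) lc_i_rc_36_3 lc_i_rc_44_0 lc_i_Cert_tree lc_i_rc_44_0 lc_i_rc_16_1 lc_i_Cert_tree lc_i_Cert_tree lc_i_rc_44_0 lc_i_rc_44_0 lc_i_rc_23_1 lc_i_rc_29_1 lc_i_rc_36_3 lc_i_Cert_tree lc_i_rc_44_0 lc_i_rc_40_1 lc_i_rc_36_3 lc_i_Cert_tree lc_i_rc_44_0 lc_i_rc_16_1 lc_i_Cert_tree lc_i_Cert_tree lc_i_rc_44_0 lc_i_rc_44_0 lc_i_rc_40_3 lc_i_rc_29_1 lc_i_rc_36_3 lc_i_Cert_tree lc_i_rc_44_0 lc_i_rc_8_1 lc_i_Cert_tree lc_i_Cert_tree lc_i_rc_44_0) (@D3.rec (fun _ => (Cert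 rels S Gen.i)) lc_i_rc_44_0 lc_i_rc_16_1 lc_i_rc_16_1 lc_i_Cert_tree lc_i_Cert_tree lc_i_Cert_tree lc_i_rc_44_0 lc_i_rc_44_0 lc_i_rc_36_3 lc_i_rc_44_0 lc_i_rc_36_3 lc_i_rc_29_1 lc_i_rc_34_1 lc_i_rc_8_3 lc_i_rc_8_1 lc_i_rc_8_1 lc_i_Cert_tree lc_i_Cert_tree lc_i_Cert_tree lc_i_rc_44_0 lc_i_rc_44_0 lc_i_rc_36_3 lc_i_rc_44_0 lc_i_rc_44_0 lc_i_rc_44_0 lc_i_rc_44_0 lc_i_rc_36_3 lc_i_rc_36_3 lc_i_rc_29_1 lc_i_rc_23_1 lc_i_rc_29_1 lc_i_rc_8_1) (@D3.rec (fun _ => (Cert rels S Gen.i)) lc_i_rc_34_1 lc_i_rc_8_1 lc_i_rc_16_1 lc_i_rc_29_1 lc_i_rc_8_1 lc_i_rc_16_1 lc_i_rc_16_1 lc_i_rc_29_1 lc_i_rc_23_3 lc_i_rc_29_1 lc_i_rc_8_1 lc_i_rc_23_1 lc_i_rc_36_3 lc_i_rc_8_1 lc_i_rc_8_1 lc_i_rc_8_3 lc_i_rc_23_1 lc_i_rc_8_3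 lc_i_rc_23_1 lc_i_rc_23_1 lc_i_rc_16_1 lc_i_rc_8_1 lc_i_rc_23_1 lc_i_rc_8_1 lc_i_rc_29_1 lc_i_rc_44_0 lc_i_rc_44_0 lc_i_rc_29_3 lc_i_rc_34_1 lc_i_rc_16_1 lc_i_rc_29_1 lc_i_rc_29_1) (@D3.rec (fun _ => (Cert rels S Gen.i)) lc_i_Cert_tree lc_i_Cert_tree lc_i_rc_44_0 lc_i_rc_44_0 lc_i_rc_34_1 lc_i_rc_16_1 lc_i_Cert_tree lc_i_Cert_tree lc_i_rc_44_0 lc_i_rc_44_0 lc_i_rc_36_3 lc_i_rc_16_3 lc_i_rc_36_5 lc_i_rc_34_1 lc_i_rc_8_3 lc_i_rc_44_0 lc_i_rc_44_0 lc_i_rc_36_3 lc_i_rc_36_3 lc_i_rc_44_0 lc_i_rc_23_3 lc_i_rc_36_1 lc_i_rc_29_1 lc_i_rc_23_3 lc_i_rc_8_3 lc_i_rc_44_0 lc_i_rc_8_3 lc_i_rc_23_3 lc_i_Cert_tree lc_i_rc_44_0 lc_i_Cert_tree lc_i_Cert_tree) (@D3.rec (fun _ => (Cert rels S Gen.i)) lc_i_rc_44_0 lc_i_rc_8_3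 lc_i_Cert_tree lc_i_Cert_tree lc_i_rc_44_0 lc_i_Cert_tree lc_i_rc_44_0 lc_i_rc_36_3 lc_i_rc_36_3 lc_i_rc_44_0 lc_i_rc_40_1 lc_i_rc_29_1 lc_i_rc_8_3 lc_i_Cert_tree lc_i_rc_29_1 lc_i_Cert_tree lc_i_rc_44_0 lc_i_rc_8_1 lc_i_Cert_tree lc_i_Cert_tree lc_i_rc_44_0 lc_i_rc_44_0 lc_i_rc_16_1 lc_i_rc_16_1 lc_i_Cert_tree lc_i_Cert_tree lc_i_Cert_tree lc_i_rc_44_0 lc_i_rc_44_0 lc_i_rc_36_3 lc_i_rc_44_0 lc_i_rc_36_3)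
def ce_i_13 : D2 → D3 → (Cert rels S Gen.i) := @D2.rec (fun _ => D3 → (Cert rels S Gen.i)) (@D3.rec (fun _ => (Cert rels S Gen.i)) lc_i_rc_29_1 lc_i_rc_34_1 lc_i_rc_36_3 lc_i_Cert_tree lc_i_Cert_tree lc_i_Cert_tree lc_i_rc_44_0 lc_i_rc_44_0 lc_i_rc_36_3 lc_i_rc_44_0 lc_i_rc_8_3 lc_i_rc_16_3 lc_i_rc_34_1 lc_i_rc_36_3 lc_i_Cert_tree lc_i_Cert_tree lc_i_rc_44_0 lc_i_rc_44_0 lc_i_rc_8_1 lc_i_rc_8_1 lc_i_Cert_tree lc_i_Cert_tree lc_i_Cert_tree lc_i_rc_44_0 lc_i_rc_44_0 lc_i_rc_36_3 lc_i_rc_44_0 lc_i_rc_16_1 lc_i_rc_16_1 lc_i_rc_16_1 lc_i_rc_44_0 lc_i_rc_44_0) (@D3.rec (fun _ => (Cert rels S Gen.i)) lc_i_rc_44_0 lc_i_rc_36_3 lc_i_rc_36_3 lc_i_rc_29_1 lc_i_rc_36_3 lc_i_rc_29_1 lc_i_rc_23_1 lc_i_rc_34_1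 lc_i_rc_40_1 lc_i_rc_36_3 lc_i_rc_16_1 lc_i_rc_44_0 lc_i_rc_44_0 lc_i_rc_44_0 lc_i_rc_36_3 lc_i_rc_36_3 lc_i_rc_29_1 lc_i_rc_40_1 lc_i_rc_43_3 lc_i_rc_16_1 lc_i_rc_36_3 lc_i_rc_36_3 lc_i_rc_36_3 lc_i_rc_23_3 lc_i_rc_29_1 lc_i_rc_23_1 lc_i_rc_34_1 lc_i_rc_29_1 lc_i_rc_23_1 lc_i_rc_16_1 lc_i_rc_23_1 lc_i_rc_8_1) (@D3.rec (fun _ => (Cert rels S Gen.i)) lc_i_rc_8_1 lc_i_rc_16_1 lc_i_rc_16_1 lc_i_rc_29_1 lc_i_rc_23_3 lc_i_rc_8_1 lc_i_rc_23_3 lc_i_rc_29_1 lc_i_rc_23_1 lc_i_rc_34_1 lc_i_rc_8_3 lc_i_rc_8_1 lc_i_rc_23_1 lc_i_rc_29_1 lc_i_rc_44_0 lc_i_rc_36_3 lc_i_rc_29_1 lc_i_rc_16_3 lc_i_Cert_tree lc_i_rc_44_0 lc_i_rc_23_3 lc_i_Cert_tree lc_i_rc_44_0 lc_i_rc_23_3 lc_i_rc_44_0 lc_i_rc_36_3 lc_i_rc_16_3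 lc_i_rc_43_1 lc_i_rc_29_1 lc_i_rc_23_1 lc_i_Cert_tree lc_i_Cert_tree) (@D3.rec (fun _ => (Cert rels S Gen.i)) lc_i_Cert_tree lc_i_rc_44_0 lc_i_rc_44_0 lc_i_rc_36_3 lc_i_rc_44_0 lc_i_rc_8_1 lc_i_rc_8_1 lc_i_rc_44_0 lc_i_rc_44_0 lc_i_rc_44_0 lc_i_rc_36_3 lc_i_rc_36_3 lc_i_rc_29_1 lc_i_rc_23_1 lc_i_rc_29_1 lc_i_rc_23_1 lc_i_rc_34_1 lc_i_rc_40_1 lc_i_rc_36_3 lc_i_rc_36_3 lc_i_rc_36_3 lc_i_rc_23_1 lc_i_rc_29_1 lc_i_rc_40_1 lc_i_rc_34_1 lc_i_rc_29_1 lc_i_rc_16_1 lc_i_rc_34_1 lc_i_rc_40_1 lc_i_rc_34_3 lc_i_rc_36_3 lc_i_rc_36_3) (@D3.rec (fun _ => (Cert rels S Gen.i)) lc_i_rc_29_1 lc_i_rc_29_1 lc_i_rc_34_1 lc_i_rc_40_3 lc_i_rc_29_1 lc_i_rc_23_1 lc_i_rc_34_1 lc_i_rc_16_1 lc_i_rc_29_1 lc_i_rc_29_1 lc_i_rc_23_3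 lc_i_rc_8_1 lc_i_rc_8_1 lc_i_rc_23_1 lc_i_rc_23_1 lc_i_rc_34_1 lc_i_rc_23_1 lc_i_rc_40_1 lc_i_rc_36_5 lc_i_rc_16_1 lc_i_rc_40_1 lc_i_Cert_tree lc_i_rc_44_0 lc_i_rc_44_0 lc_i_rc_44_0 lc_i_rc_29_1 lc_i_rc_29_1 lc_i_rc_29_1 lc_i_Cert_tree lc_i_Cert_tree lc_i_rc_44_0 lc_i_rc_44_0) (@D3.rec (fun _ => (Cert rels S Gen.i)) lc_i_rc_36_3 lc_i_rc_23_1 lc_i_rc_29_1 lc_i_rc_29_1 lc_i_rc_23_1 lc_i_rc_44_0 lc_i_rc_44_0 lc_i_rc_44_0 lc_i_rc_36_3 lc_i_rc_36_3 lc_i_rc_23_1 lc_i_rc_29_1 lc_i_rc_23_1 lc_i_rc_23_1 lc_i_rc_34_1 lc_i_rc_16_1 lc_i_rc_29_1 lc_i_Cert_tree lc_i_rc_44_0 lc_i_Cert_tree lc_i_Cert_tree lc_i_rc_44_0 lc_i_rc_36_3 lc_i_rc_44_0 lc_i_rc_36_3 lc_i_rc_16_1 lc_i_Cert_tree lc_i_rc_44_0 lc_i_rc_23_1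 lc_i_rc_29_1 lc_i_rc_29_1 lc_i_Cert_tree) (@D3.rec (fun _ => (Cert rels S Gen.i)) lc_i_rc_44_0 lc_i_rc_34_1 lc_i_rc_16_1 lc_i_Cert_tree lc_i_Cert_tree lc_i_rc_44_0 lc_i_rc_44_0 lc_i_rc_36_3 lc_i_rc_16_1 lc_i_rc_29_1 lc_i_rc_34_1 lc_i_rc_29_1 lc_i_rc_23_1 lc_i_rc_44_0 lc_i_rc_44_0 lc_i_rc_44_0 lc_i_rc_36_3 lc_i_rc_36_3 lc_i_rc_29_1 lc_i_rc_23_1 lc_i_rc_29_1 lc_i_rc_23_1 lc_i_rc_34_1 lc_i_rc_23_1 lc_i_rc_16_1 lc_i_rc_16_1 lc_i_rc_34_1 lc_i_rc_23_1 lc_i_rc_36_1 lc_i_rc_23_1 lc_i_rc_16_1 lc_i_rc_23_1) (@D3.rec (fun _ => (Cert rels S Gen.i)) lc_i_rc_34_1 lc_i_rc_40_1 lc_i_rc_16_1 lc_i_rc_8_1 lc_i_rc_23_1 lc_i_Cert_tree lc_i_Cert_tree lc_i_rc_44_0 lc_i_Cert_tree lc_i_rc_44_0 lc_i_rc_36_3 lc_i_rc_36_3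 lc_i_rc_44_0 lc_i_rc_40_1 lc_i_rc_29_1 lc_i_Cert_tree lc_i_Cert_tree lc_i_rc_44_0 lc_i_rc_44_0 lc_i_rc_36_3 lc_i_rc_36_3 lc_i_rc_29_1 lc_i_rc_34_1 lc_i_rc_29_1 lc_i_rc_23_1 lc_i_rc_44_0 lc_i_rc_44_0 lc_i_rc_44_0 lc_i_rc_36_3 lc_i_rc_36_3 lc_i_rc_29_1 lc_i_rc_16_3) (@D3.rec (fun _ => (Cert rels S Gen.i)) lc_i_rc_29_1 lc_i_rc_23_1 lc_i_rc_34_1 lc_i_rc_40_1 lc_i_rc_29_1 lc_i_rc_23_1 lc_i_rc_29_1 lc_i_rc_16_1 lc_i_rc_36_3 lc_i_rc_34_1 lc_i_rc_36_3 lc_i_rc_29_1 lc_i_rc_29_1 lc_i_rc_23_1 lc_i_rc_34_1 lc_i_rc_29_1 lc_i_rc_23_1 lc_i_rc_34_1 lc_i_rc_16_1 lc_i_rc_23_1 lc_i_rc_23_1 lc_i_rc_16_1 lc_i_rc_23_1 lc_i_rc_8_1 lc_i_rc_29_1 lc_i_rc_29_1 lc_i_rc_8_3 lc_i_rc_29_1 lc_i_rc_43_1 lc_i_rc_29_1 lc_i_rc_23_1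 lc_i_rc_29_1) (@D3.rec (fun _ => (Cert rels S Gen.i)) lc_i_rc_29_1 lc_i_rc_29_1 lc_i_rc_23_1 lc_i_rc_34_1 lc_i_rc_23_1 lc_i_rc_34_1 lc_i_rc_16_1 lc_i_rc_23_1 lc_i_rc_16_1 lc_i_rc_8_1 lc_i_rc_16_1 lc_i_Cert_tree lc_i_Cert_tree lc_i_rc_44_0 lc_i_Cert_tree lc_i_Cert_tree lc_i_rc_44_0 lc_i_rc_36_3 lc_i_rc_44_0 lc_i_rc_36_3 lc_i_rc_44_0 lc_i_rc_40_1 lc_i_rc_44_0 lc_i_Cert_tree lc_i_rc_44_0 lc_i_rc_36_3 lc_i_rc_36_3 lc_i_rc_44_0 lc_i_Cert_tree lc_i_rc_44_0 lc_i_rc_16_1 lc_i_Cert_tree) (@D3.rec (fun _ => (Cert rels S Gen.i)) lc_i_Cert_tree lc_i_rc_44_0 lc_i_rc_44_0 lc_i_rc_23_1 lc_i_rc_29_1 lc_i_rc_36_3 lc_i_rc_29_1 lc_i_rc_44_0 lc_i_rc_44_0 lc_i_rc_40_1 lc_i_rc_23_3 lc_i_rc_44_0 lc_i_rc_16_1 lc_i_rc_36_3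 lc_i_rc_29_1 lc_i_rc_29_1 lc_i_Cert_tree lc_i_rc_44_0 lc_i_rc_8_1 lc_i_Cert_tree lc_i_rc_8_3 lc_i_rc_44_0 lc_i_rc_44_0 lc_i_rc_16_1 lc_i_rc_16_1 lc_i_rc_29_3 lc_i_Cert_tree lc_i_Cert_tree lc_i_rc_44_0 lc_i_rc_44_0 lc_i_rc_36_3 lc_i_rc_44_0) (@D3.rec (fun _ => (Cert rels S Gen.i)) lc_i_rc_36_3 lc_i_rc_29_1 lc_i_rc_34_1 lc_i_rc_8_3 lc_i_rc_29_1 lc_i_rc_23_1 lc_i_rc_23_1 lc_i_rc_44_0 lc_i_rc_44_0 lc_i_rc_36_3 lc_i_rc_36_3 lc_i_rc_29_1 lc_i_rc_23_1 lc_i_rc_23_1 lc_i_rc_16_1 lc_i_rc_16_1 lc_i_rc_29_1 lc_i_rc_29_1 lc_i_rc_8_1 lc_i_rc_16_1 lc_i_rc_16_1 lc_i_rc_34_1 lc_i_rc_29_1 lc_i_rc_23_1 lc_i_rc_36_3 lc_i_rc_29_1 lc_i_rc_8_1 lc_i_rc_29_1 lc_i_rc_36_3 lc_i_rc_8_1 lc_i_rc_8_1 lc_i_rc_23_1) (@D3.rec (fun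 _ => (Cert rels S Gen.i)) lc_i_rc_16_1 lc_i_rc_29_1 lc_i_rc_16_1 lc_i_rc_8_1 lc_i_rc_23_1 lc_i_rc_8_1 lc_i_rc_23_1 lc_i_rc_8_1 lc_i_rc_8_1 lc_i_rc_44_0 lc_i_rc_29_1 lc_i_rc_44_0 lc_i_rc_34_1 lc_i_Cert_tree lc_i_rc_44_0 lc_i_Cert_tree lc_i_rc_44_0 lc_i_rc_16_1 lc_i_Cert_tree lc_i_rc_44_0 lc_i_Cert_tree lc_i_rc_44_0 lc_i_rc_34_1 lc_i_rc_23_1 lc_i_rc_44_0 lc_i_rc_23_3 lc_i_rc_29_1 lc_i_rc_40_1 lc_i_rc_16_1 lc_i_rc_44_0 lc_i_rc_36_3 lc_i_rc_29_1) (@D3.rec (fun _ => (Cert rels S Gen.i)) lc_i_rc_29_1 lc_i_rc_8_1 lc_i_Cert_tree lc_i_Cert_tree lc_i_rc_44_0 lc_i_rc_44_0 lc_i_rc_16_1 lc_i_rc_16_1 lc_i_Cert_tree lc_i_Cert_tree lc_i_Cert_tree lc_i_rc_44_0 lc_i_rc_44_0 lc_i_rc_36_3 lc_i_rc_44_0 lc_i_rc_36_3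 lc_i_rc_29_1 lc_i_rc_34_1 lc_i_rc_36_3 lc_i_rc_29_1 lc_i_rc_23_1 lc_i_rc_44_0 lc_i_rc_16_1 lc_i_rc_29_1 lc_i_rc_29_1 lc_i_rc_8_1 lc_i_rc_44_0 lc_i_rc_16_1 lc_i_rc_29_1 lc_i_Cert_tree lc_i_rc_44_0 lc_i_rc_34_1) (@D3.rec (fun _ => (Cert rels S Gen.i)) lc_i_rc_44_0 lc_i_rc_16_1 lc_i_rc_29_1 lc_i_rc_34_1 lc_i_rc_36_3 lc_i_rc_29_1 lc_i_rc_23_1 lc_i_Cert_tree lc_i_Cert_tree lc_i_rc_44_0 lc_i_rc_44_0 lc_i_rc_16_3 lc_i_rc_8_1 lc_i_Cert_tree lc_i_Cert_tree lc_i_Cert_tree lc_i_rc_44_0 lc_i_rc_44_0 lc_i_rc_36_3 lc_i_rc_44_0 lc_i_rc_16_1 lc_i_rc_16_1 lc_i_rc_16_1 lc_i_rc_44_0 lc_i_rc_44_0 lc_i_rc_44_0 lc_i_rc_36_3 lc_i_rc_36_3 lc_i_rc_29_1 lc_i_rc_36_3 lc_i_rc_29_1 lc_i_rc_23_1) (@D3.rec (fun _ => (Cert rels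 S Gen.i)) lc_i_rc_34_1 lc_i_rc_40_1 lc_i_rc_23_1 lc_i_rc_16_1 lc_i_rc_44_0 lc_i_rc_40_1 lc_i_rc_29_1 lc_i_rc_29_1 lc_i_rc_23_1 lc_i_rc_23_1 lc_i_rc_34_1 lc_i_rc_16_1 lc_i_rc_23_3 lc_i_rc_34_1 lc_i_rc_36_3 lc_i_rc_29_1 lc_i_rc_29_1 lc_i_rc_23_1 lc_i_rc_34_1 lc_i_rc_29_1 lc_i_rc_23_1 lc_i_rc_16_1 lc_i_rc_23_1 lc_i_rc_16_1 lc_i_rc_8_1 lc_i_rc_23_1 lc_i_rc_16_1 lc_i_rc_16_1 lc_i_rc_23_1 lc_i_rc_16_1 lc_i_rc_29_1 lc_i_rc_23_1) (@D3.rec (fun _ => (Cert rels S Gen.i)) lc_i_rc_23_1 lc_i_rc_34_1 lc_i_rc_16_1 lc_i_rc_23_3 lc_i_rc_29_1 lc_i_rc_23_3 lc_i_rc_8_1 lc_i_rc_23_1 lc_i_rc_29_1 lc_i_rc_40_1 lc_i_rc_40_1 lc_i_rc_8_3 lc_i_rc_16_1 lc_i_rc_8_1 lc_i_rc_16_1 lc_i_rc_29_1 lc_i_rc_40_1 lc_i_rc_29_1 lc_i_rc_44_0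 lc_i_rc_23_3 lc_i_rc_23_3 lc_i_rc_34_1 lc_i_rc_40_1 lc_i_rc_23_1 lc_i_rc_36_3 lc_i_rc_29_1 lc_i_rc_8_3 lc_i_rc_29_1 lc_i_rc_16_3 lc_i_rc_29_1 lc_i_rc_34_3 lc_i_rc_29_1) (@D3.rec (fun _ => (Cert rels S Gen.i)) lc_i_rc_34_1 lc_i_rc_29_1 lc_i_rc_29_1 lc_i_rc_23_1 lc_i_rc_23_1 lc_i_rc_8_1 lc_i_rc_23_1 lc_i_rc_44_0 lc_i_rc_23_3 lc_i_rc_44_0 lc_i_rc_44_0 lc_i_rc_36_3 lc_i_rc_23_3 lc_i_Cert_tree lc_i_rc_44_0 lc_i_Cert_tree lc_i_rc_44_0 lc_i_rc_16_1 lc_i_Cert_tree lc_i_rc_44_0 lc_i_rc_44_0 lc_i_rc_36_3 lc_i_rc_36_3 lc_i_rc_40_1 lc_i_rc_29_1 lc_i_rc_40_1 lc_i_rc_16_1 lc_i_rc_29_1 lc_i_rc_8_1 lc_i_rc_44_0 lc_i_rc_16_1 lc_i_rc_16_1) (@D3.rec (fun _ => (Cert rels S Gen.i)) lc_i_Cert_tree lc_i_Cert_tree lc_i_rc_44_0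 lc_i_rc_44_0 lc_i_rc_36_3 lc_i_rc_36_3 lc_i_rc_29_1 lc_i_rc_34_1 lc_i_rc_44_0 lc_i_rc_36_3 lc_i_rc_29_1 lc_i_rc_8_1 lc_i_rc_44_0 lc_i_rc_8_1 lc_i_rc_29_1 lc_i_rc_44_0 lc_i_rc_44_0 lc_i_rc_36_3 lc_i_rc_36_3 lc_i_rc_29_1 lc_i_rc_34_1 lc_i_Cert_tree lc_i_rc_44_0 lc_i_rc_36_3 lc_i_rc_8_1 lc_i_Cert_tree lc_i_Cert_tree lc_i_rc_44_0 lc_i_rc_44_0 lc_i_rc_36_3 lc_i_rc_8_1 lc_i_rc_16_1) (@D3.rec (fun _ => (Cert rels S Gen.i)) lc_i_rc_23_1 lc_i_rc_16_1 lc_i_rc_44_0 lc_i_rc_44_0 lc_i_rc_44_0 lc_i_rc_36_3 lc_i_rc_36_3 lc_i_rc_29_1 lc_i_rc_8_3 lc_i_rc_29_1 lc_i_rc_23_1 lc_i_rc_34_1 lc_i_rc_40_1 lc_i_rc_8_1 lc_i_rc_44_0 lc_i_rc_44_0 lc_i_rc_44_0 lc_i_rc_36_3 lc_i_rc_36_3 lc_i_rc_40_3 lc_i_rc_40_3 lc_i_rc_36_3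 lc_i_rc_23_3 lc_i_rc_29_1 lc_i_rc_23_1 lc_i_rc_34_1 lc_i_rc_8_1 lc_i_rc_8_1 lc_i_rc_8_1 lc_i_rc_29_1 lc_i_rc_8_1 lc_i_rc_23_1) (@D3.rec (fun _ => (Cert rels S Gen.i)) lc_i_rc_8_1 lc_i_rc_23_1 lc_i_rc_8_3 lc_i_rc_36_1 lc_i_rc_8_1 lc_i_rc_8_1 lc_i_rc_16_1 lc_i_rc_8_3 lc_i_rc_23_1 lc_i_rc_29_1 lc_i_rc_16_1 lc_i_rc_34_1 lc_i_rc_23_1 lc_i_rc_29_1 lc_i_rc_16_1 lc_i_rc_34_1 lc_i_rc_34_1 lc_i_rc_44_0 lc_i_rc_44_0 lc_i_rc_36_3 lc_i_rc_8_1 lc_i_rc_29_1 lc_i_rc_16_1 lc_i_rc_44_0 lc_i_rc_44_0 lc_i_rc_36_3 lc_i_rc_36_3 lc_i_rc_29_1 lc_i_rc_29_1 lc_i_rc_34_1 lc_i_rc_40_1 lc_i_rc_8_3) (@D3.rec (fun _ => (Cert rels S Gen.i)) lc_i_rc_36_3 lc_i_rc_36_1 lc_i_rc_16_1 lc_i_Cert_tree lc_i_rc_8_3 lc_i_rc_29_1 lc_i_rc_29_1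 lc_i_Cert_tree lc_i_rc_44_0 lc_i_rc_36_3 lc_i_Cert_tree lc_i_Cert_tree lc_i_rc_44_0 lc_i_rc_44_0 lc_i_rc_8_3 lc_i_rc_29_1 lc_i_Cert_tree lc_i_Cert_tree lc_i_rc_44_0 lc_i_rc_44_0 lc_i_rc_36_3 lc_i_rc_44_0 lc_i_rc_40_1 lc_i_rc_29_1 lc_i_rc_36_3 lc_i_rc_43_1 lc_i_rc_29_1 lc_i_rc_23_1 lc_i_rc_44_0 lc_i_rc_34_1 lc_i_Cert_tree lc_i_rc_44_0)
def ce_i_14 : D2 → D3 → (Cert rels S Gen.i) := @D2.rec (fun _ => D3 → (Cert rels S Gen.i)) (@D3.rec (fun _ => (Cert rels S Gen.i)) lc_i_rc_8_1 lc_i_rc_8_1 lc_i_Cert_tree lc_i_Cert_tree lc_i_rc_44_0 lc_i_rc_44_0 lc_i_rc_36_3 lc_i_rc_16_1 lc_i_rc_16_1 lc_i_rc_16_1 lc_i_rc_44_0 lc_i_rc_44_0 lc_i_rc_44_0 lc_i_rc_36_3 lc_i_rc_36_3 lc_i_rc_29_1 lc_i_rc_36_3 lc_i_rc_29_1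 lc_i_rc_34_1 lc_i_rc_40_1 lc_i_rc_44_0 lc_i_rc_44_0 lc_i_rc_44_0 lc_i_rc_36_3 lc_i_rc_36_3 lc_i_rc_29_1 lc_i_rc_36_3 lc_i_rc_23_1 lc_i_rc_34_1 lc_i_rc_40_1 lc_i_Cert_tree lc_i_Cert_tree) (@D3.rec (fun _ => (Cert rels S Gen.i)) lc_i_rc_44_0 lc_i_rc_44_0 lc_i_rc_36_3 lc_i_rc_16_1 lc_i_rc_8_1 lc_i_rc_8_1 lc_i_rc_44_0 lc_i_rc_44_0 lc_i_rc_44_0 lc_i_rc_36_3 lc_i_rc_36_3 lc_i_rc_29_1 lc_i_rc_16_1 lc_i_rc_29_1 lc_i_rc_23_1 lc_i_rc_16_1 lc_i_rc_16_1 lc_i_rc_36_3 lc_i_rc_36_3 lc_i_rc_36_3 lc_i_rc_29_1 lc_i_rc_29_1 lc_i_rc_23_1 lc_i_rc_34_1 lc_i_rc_29_1 lc_i_rc_29_1 lc_i_rc_34_1 lc_i_rc_29_1 lc_i_rc_34_1 lc_i_rc_40_1 lc_i_rc_43_1 lc_i_rc_34_3) (@D3.rec (fun _ => (Cert rels S Gen.i)) lc_i_rc_36_3 lc_i_rc_36_3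 lc_i_rc_29_1 lc_i_rc_29_1 lc_i_rc_34_1 lc_i_rc_40_1 lc_i_rc_16_1 lc_i_rc_29_1 lc_i_rc_29_1 lc_i_rc_36_3 lc_i_rc_23_1 lc_i_rc_34_1 lc_i_rc_8_3 lc_i_rc_16_1 lc_i_rc_29_1 lc_i_rc_8_1 lc_i_rc_29_1 lc_i_rc_23_1 lc_i_rc_34_1 lc_i_rc_29_1 lc_i_rc_8_1 lc_i_rc_23_1 lc_i_rc_34_1 lc_i_rc_23_1 lc_i_rc_40_1 lc_i_rc_29_1 lc_i_rc_23_1 lc_i_rc_44_0 lc_i_rc_23_3 lc_i_rc_44_0 lc_i_rc_29_1 lc_i_rc_40_1) (@D3.rec (fun _ => (Cert rels S Gen.i)) lc_i_rc_23_1 lc_i_rc_29_1 lc_i_rc_23_1 lc_i_rc_34_1 lc_i_rc_16_1 lc_i_rc_44_0 lc_i_rc_44_0 lc_i_rc_44_0 lc_i_rc_36_3 lc_i_rc_36_3 lc_i_rc_29_1 lc_i_rc_8_1 lc_i_rc_8_1 lc_i_rc_23_1 lc_i_rc_16_1 lc_i_rc_16_1 lc_i_rc_36_3 lc_i_rc_23_3 lc_i_rc_29_1 lc_i_rc_23_1 lc_i_rc_34_1 lc_i_rc_29_1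 lc_i_rc_23_1 lc_i_rc_23_1 lc_i_rc_23_1 lc_i_rc_40_1 lc_i_rc_29_1 lc_i_rc_29_1 lc_i_rc_34_1 lc_i_rc_29_1 lc_i_rc_40_3 lc_i_rc_16_1) (@D3.rec (fun _ => (Cert rels S Gen.i)) lc_i_rc_29_1 lc_i_rc_29_1 lc_i_rc_29_1 lc_i_rc_34_1 lc_i_rc_34_1 lc_i_rc_23_3 lc_i_rc_23_1 lc_i_rc_16_1 lc_i_rc_40_1 lc_i_rc_23_1 lc_i_rc_44_0 lc_i_rc_23_1 lc_i_rc_23_1 lc_i_rc_44_0 lc_i_rc_44_0 lc_i_rc_36_3 lc_i_rc_36_3 lc_i_rc_29_1 lc_i_rc_29_1 lc_i_rc_23_1 lc_i_rc_23_1 lc_i_rc_34_1 lc_i_rc_16_1 lc_i_rc_34_3 lc_i_rc_23_3 lc_i_rc_36_3 lc_i_rc_16_1 lc_i_rc_16_1 lc_i_rc_8_1 lc_i_rc_44_0 lc_i_rc_16_1 lc_i_rc_44_0) (@D3.rec (fun _ => (Cert rels S Gen.i)) lc_i_rc_44_0 lc_i_rc_36_3 lc_i_rc_36_3 lc_i_rc_40_1 lc_i_rc_29_1 lc_i_rc_16_1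 lc_i_rc_44_0 lc_i_rc_36_3 lc_i_rc_29_1 lc_i_rc_34_1 lc_i_rc_23_1 lc_i_rc_44_0 lc_i_rc_36_3 lc_i_rc_29_1 lc_i_rc_23_1 lc_i_rc_16_1 lc_i_rc_44_0 lc_i_rc_44_0 lc_i_rc_36_3 lc_i_rc_36_3 lc_i_rc_29_1 lc_i_rc_29_1 lc_i_rc_23_1 lc_i_rc_34_1 lc_i_rc_40_1 lc_i_rc_23_1 lc_i_rc_16_1 lc_i_rc_36_3 lc_i_rc_34_1 lc_i_rc_36_3 lc_i_rc_29_1 lc_i_rc_29_1) (@D3.rec (fun _ => (Cert rels S Gen.i)) lc_i_rc_23_1 lc_i_rc_34_1 lc_i_rc_29_1 lc_i_rc_23_1 lc_i_rc_16_1 lc_i_rc_23_1 lc_i_rc_8_1 lc_i_rc_23_1 lc_i_rc_16_1 lc_i_rc_16_1 lc_i_rc_23_1 lc_i_rc_34_1 lc_i_rc_23_1 lc_i_rc_40_1 lc_i_rc_8_1 lc_i_rc_29_1 lc_i_rc_44_0 lc_i_rc_44_0 lc_i_rc_36_3 lc_i_rc_44_0 lc_i_rc_40_1 lc_i_rc_29_1 lc_i_rc_36_3 lc_i_rc_43_1 lc_i_rc_29_1 lc_i_rc_23_1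 lc_i_rc_44_0 lc_i_rc_44_0 lc_i_rc_36_3 lc_i_rc_36_3 lc_i_rc_29_1 lc_i_rc_29_1) (@D3.rec (fun _ => (Cert rels S Gen.i)) lc_i_rc_23_1 lc_i_rc_34_1 lc_i_rc_40_1 lc_i_rc_23_1 lc_i_rc_36_3 lc_i_rc_34_1 lc_i_rc_36_3 lc_i_rc_29_1 lc_i_rc_29_1 lc_i_rc_23_1 lc_i_rc_34_1 lc_i_rc_29_1 lc_i_rc_23_1 lc_i_rc_34_1 lc_i_rc_16_1 lc_i_rc_23_1 lc_i_rc_40_1 lc_i_rc_43_1 lc_i_rc_23_1 lc_i_rc_8_3 lc_i_rc_23_1 lc_i_rc_16_3 lc_i_rc_29_1 lc_i_rc_29_1 lc_i_rc_29_1 lc_i_rc_23_1 lc_i_rc_34_1 lc_i_rc_23_1 lc_i_rc_34_1 lc_i_rc_16_1 lc_i_rc_23_1 lc_i_rc_23_1) (@D3.rec (fun _ => (Cert rels S Gen.i)) lc_i_rc_16_1 lc_i_rc_23_1 lc_i_rc_8_1 lc_i_rc_16_1 lc_i_rc_29_1 lc_i_rc_8_1 lc_i_rc_29_1 lc_i_rc_29_1 lc_i_rc_23_1 lc_i_rc_34_1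 lc_i_rc_16_1 lc_i_rc_23_1 lc_i_rc_34_1 lc_i_rc_16_1 lc_i_rc_16_1 lc_i_rc_23_1 lc_i_rc_8_1 lc_i_rc_16_1 lc_i_rc_8_1 lc_i_rc_44_0 lc_i_rc_44_0 lc_i_rc_16_1 lc_i_rc_44_0 lc_i_rc_44_0 lc_i_rc_34_1 lc_i_rc_8_1 lc_i_rc_40_1 lc_i_rc_29_1 lc_i_rc_40_1 lc_i_rc_16_1 lc_i_rc_44_0 lc_i_rc_36_3) (@D3.rec (fun _ => (Cert rels S Gen.i)) lc_i_rc_29_1 lc_i_rc_29_1 lc_i_rc_8_1 lc_i_rc_44_0 lc_i_rc_16_1 lc_i_rc_16_1 lc_i_rc_44_0 lc_i_rc_44_0 lc_i_rc_36_3 lc_i_rc_36_3 lc_i_rc_29_1 lc_i_rc_34_1 lc_i_rc_29_1 lc_i_rc_23_1 lc_i_rc_36_3 lc_i_rc_16_1 lc_i_rc_29_1 lc_i_rc_29_1 lc_i_rc_8_1 lc_i_rc_29_1 lc_i_rc_29_1 lc_i_rc_34_1 lc_i_rc_23_1 lc_i_rc_44_0 lc_i_rc_36_3 lc_i_rc_8_1 lc_i_rc_44_0 lc_i_rc_23_1 lc_i_rc_8_1 lc_i_rc_16_1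 lc_i_rc_23_1 lc_i_rc_16_1) (@D3.rec (fun _ => (Cert rels S Gen.i)) lc_i_rc_44_0 lc_i_rc_44_0 lc_i_rc_36_3 lc_i_rc_36_3 lc_i_rc_29_1 lc_i_rc_8_3 lc_i_rc_29_1 lc_i_rc_23_1 lc_i_rc_34_1 lc_i_rc_40_1 lc_i_rc_23_1 lc_i_rc_16_1 lc_i_rc_23_3 lc_i_rc_36_3 lc_i_rc_29_1 lc_i_rc_23_1 lc_i_rc_16_1 lc_i_rc_8_1 lc_i_rc_29_1 lc_i_rc_8_1 lc_i_rc_23_1 lc_i_rc_16_1 lc_i_rc_16_1 lc_i_rc_23_1 lc_i_rc_8_1 lc_i_rc_23_1 lc_i_rc_8_1 lc_i_rc_29_1 lc_i_rc_36_3 lc_i_rc_36_3 lc_i_rc_36_3 lc_i_rc_44_0) (@D3.rec (fun _ => (Cert rels S Gen.i)) lc_i_rc_40_1 lc_i_rc_44_0 lc_i_rc_36_3 lc_i_rc_16_1 lc_i_rc_44_0 lc_i_rc_40_3 lc_i_rc_44_0 lc_i_rc_16_1 lc_i_rc_34_3 lc_i_rc_23_1 lc_i_rc_34_1 lc_i_rc_29_1 lc_i_rc_29_3 lc_i_rc_29_1 lc_i_rc_29_1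 lc_i_rc_8_1 lc_i_rc_29_1 lc_i_rc_34_1 lc_i_rc_23_1 lc_i_rc_8_1 lc_i_rc_44_0 lc_i_rc_44_0 lc_i_rc_36_3 lc_i_rc_16_1 lc_i_rc_16_1 lc_i_rc_16_1 lc_i_rc_44_0 lc_i_rc_44_0 lc_i_rc_44_0 lc_i_rc_36_3 lc_i_rc_36_3 lc_i_rc_29_1) (@D3.rec (fun _ => (Cert rels S Gen.i)) lc_i_rc_36_3 lc_i_rc_29_1 lc_i_rc_23_1 lc_i_rc_34_1 lc_i_rc_40_1 lc_i_rc_23_1 lc_i_rc_16_1 lc_i_rc_16_1 lc_i_rc_29_1 lc_i_rc_34_1 lc_i_rc_23_1 lc_i_rc_29_1 lc_i_rc_34_1 lc_i_rc_29_1 lc_i_rc_34_1 lc_i_rc_44_0 lc_i_rc_34_3 lc_i_rc_36_3 lc_i_rc_36_3 lc_i_rc_40_1 lc_i_rc_23_1 lc_i_rc_34_1 lc_i_rc_40_1 lc_i_rc_23_1 lc_i_rc_36_3 lc_i_rc_16_1 lc_i_rc_44_0 lc_i_rc_44_0 lc_i_rc_36_3 lc_i_rc_16_1 lc_i_rc_29_1 lc_i_rc_8_1) (@D3.rec (fun _ => (Cert rels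 S Gen.i)) lc_i_rc_44_0 lc_i_rc_44_0 lc_i_rc_44_0 lc_i_rc_36_3 lc_i_rc_36_3 lc_i_rc_29_1 lc_i_rc_16_1 lc_i_rc_29_1 lc_i_rc_23_1 lc_i_rc_16_1 lc_i_rc_16_1 lc_i_rc_36_3 lc_i_rc_34_1 lc_i_rc_36_3 lc_i_rc_29_1 lc_i_rc_29_1 lc_i_rc_23_1 lc_i_rc_34_1 lc_i_rc_29_1 lc_i_rc_23_1 lc_i_rc_34_1 lc_i_rc_16_1 lc_i_rc_23_1 lc_i_rc_40_1 lc_i_rc_43_1 lc_i_rc_16_1 lc_i_rc_8_1 lc_i_rc_34_1 lc_i_rc_29_1 lc_i_rc_29_3 lc_i_rc_23_1 lc_i_rc_34_1) (@D3.rec (fun _ => (Cert rels S Gen.i)) lc_i_rc_16_1 lc_i_rc_16_1 lc_i_rc_23_1 lc_i_rc_29_1 lc_i_rc_29_1 lc_i_rc_23_1 lc_i_rc_23_1 lc_i_rc_34_1 lc_i_rc_16_1 lc_i_rc_23_1 lc_i_rc_16_1 lc_i_rc_8_1 lc_i_rc_16_1 lc_i_rc_16_1 lc_i_rc_23_1 lc_i_rc_16_1 lc_i_rc_8_1 lc_i_rc_23_1 lc_i_rc_8_1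 lc_i_rc_8_3 lc_i_rc_23_1 lc_i_rc_29_1 lc_i_rc_8_1 lc_i_rc_40_1 lc_i_rc_8_1 lc_i_rc_23_3 lc_i_rc_40_1 lc_i_rc_23_3 lc_i_rc_8_1 lc_i_rc_34_1 lc_i_rc_36_5 lc_i_rc_36_5) (@D3.rec (fun _ => (Cert rels S Gen.i)) lc_i_rc_29_1 lc_i_rc_23_1 lc_i_rc_34_1 lc_i_rc_36_3 lc_i_rc_34_1 lc_i_rc_40_1 lc_i_rc_16_3 lc_i_rc_23_1 lc_i_rc_29_1 lc_i_rc_40_1 lc_i_rc_36_3 lc_i_rc_36_3 lc_i_rc_29_1 lc_i_rc_44_0 lc_i_rc_36_3 lc_i_rc_44_0 lc_i_rc_16_1 lc_i_rc_16_1 lc_i_rc_44_0 lc_i_rc_36_3 lc_i_rc_40_1 lc_i_rc_29_1 lc_i_rc_36_3 lc_i_rc_29_1 lc_i_rc_23_1 lc_i_rc_29_1 lc_i_rc_29_1 lc_i_rc_34_1 lc_i_rc_8_1 lc_i_rc_40_3 lc_i_rc_16_1 lc_i_rc_23_1) (@D3.rec (fun _ => (Cert rels S Gen.i)) lc_i_rc_16_1 lc_i_rc_44_0 lc_i_rc_44_0 lc_i_rc_36_3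 lc_i_rc_36_3 lc_i_rc_29_1 lc_i_rc_29_1 lc_i_rc_34_1 lc_i_rc_40_1 lc_i_rc_34_3 lc_i_rc_29_1 lc_i_rc_34_1 lc_i_rc_36_1 lc_i_rc_36_3 lc_i_rc_29_1 lc_i_rc_23_1 lc_i_rc_34_1 lc_i_rc_16_1 lc_i_rc_36_3 lc_i_rc_29_1 lc_i_rc_23_1 lc_i_rc_23_1 lc_i_rc_40_1 lc_i_rc_44_0 lc_i_rc_36_3 lc_i_rc_29_1 lc_i_rc_8_1 lc_i_rc_8_1 lc_i_rc_44_0 lc_i_rc_44_0 lc_i_rc_36_3 lc_i_rc_36_3) (@D3.rec (fun _ => (Cert rels S Gen.i)) lc_i_rc_29_1 lc_i_rc_29_1 lc_i_rc_16_1 lc_i_rc_16_1 lc_i_rc_23_1 lc_i_rc_16_1 lc_i_rc_8_1 lc_i_rc_8_1 lc_i_rc_36_3 lc_i_rc_29_1 lc_i_rc_29_1 lc_i_rc_23_1 lc_i_rc_34_1 lc_i_rc_29_1 lc_i_rc_16_1 lc_i_rc_34_1 lc_i_rc_29_1 lc_i_rc_40_1 lc_i_rc_43_1 lc_i_rc_34_3 lc_i_rc_36_3 lc_i_rc_36_3 lc_i_rc_16_1 lc_i_rc_8_1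 lc_i_rc_23_1 lc_i_rc_34_1 lc_i_rc_23_1 lc_i_rc_23_1 lc_i_rc_8_1 lc_i_rc_23_1 lc_i_rc_8_3 lc_i_rc_16_3) (@D3.rec (fun _ => (Cert rels S Gen.i)) lc_i_rc_8_1 lc_i_rc_8_3 lc_i_rc_29_1 lc_i_Cert_tree lc_i_rc_16_1 lc_i_rc_34_3 lc_i_rc_23_1 lc_i_rc_29_3 lc_i_rc_16_1 lc_i_rc_40_1 lc_i_rc_34_3 lc_i_rc_34_1 lc_i_rc_36_3 lc_i_rc_29_1 lc_i_rc_29_1 lc_i_rc_16_1 lc_i_rc_36_5 lc_i_rc_16_1 lc_i_rc_36_3 lc_i_rc_36_3 lc_i_rc_29_1 lc_i_rc_29_1 lc_i_rc_34_1 lc_i_rc_34_1 lc_i_rc_40_1 lc_i_rc_43_1 lc_i_rc_40_1 lc_i_rc_44_0 lc_i_rc_29_1 lc_i_rc_34_1 lc_i_rc_23_1 lc_i_rc_44_0) (@D3.rec (fun _ => (Cert rels S Gen.i)) lc_i_rc_36_3 lc_i_rc_29_1 lc_i_rc_44_0 lc_i_rc_44_0 lc_i_rc_36_3 lc_i_rc_34_1 lc_i_rc_29_1 lc_i_rc_34_1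 lc_i_rc_44_0 lc_i_rc_44_0 lc_i_rc_36_3 lc_i_rc_36_3 lc_i_rc_29_1 lc_i_rc_43_1 lc_i_rc_29_1 lc_i_rc_23_1 lc_i_rc_29_1 lc_i_rc_40_1 lc_i_rc_29_1 lc_i_rc_23_1 lc_i_rc_34_1 lc_i_rc_16_1 lc_i_rc_40_1 lc_i_rc_44_0 lc_i_rc_36_3 lc_i_rc_8_1 lc_i_rc_8_1 lc_i_rc_44_0 lc_i_rc_44_0 lc_i_rc_36_3 lc_i_rc_36_3 lc_i_rc_29_1) (@D3.rec (fun _ => (Cert rels S Gen.i)) lc_i_rc_29_1 lc_i_rc_23_1 lc_i_rc_16_1 lc_i_rc_16_1 lc_i_rc_34_3 lc_i_rc_36_3 lc_i_rc_36_3 lc_i_rc_29_1 lc_i_rc_29_1 lc_i_rc_34_1 lc_i_rc_29_1 lc_i_rc_34_1 lc_i_rc_40_1 lc_i_rc_43_1 lc_i_rc_34_3 lc_i_rc_36_3 lc_i_rc_36_3 lc_i_rc_29_1 lc_i_rc_29_1 lc_i_rc_34_1 lc_i_rc_29_1 lc_i_rc_16_3 lc_i_rc_34_3 lc_i_rc_40_1 lc_i_rc_44_0 lc_i_rc_44_0 lc_i_rc_36_3 lc_i_rc_36_3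 lc_i_rc_29_1 lc_i_rc_29_1 lc_i_rc_8_1 lc_i_rc_8_1) (@D3.rec (fun _ => (Cert rels S Gen.i)) lc_i_rc_8_1 lc_i_rc_16_1 lc_i_rc_16_1 lc_i_rc_36_3 lc_i_rc_29_1 lc_i_rc_29_1 lc_i_rc_23_1 lc_i_rc_34_1 lc_i_rc_29_1 lc_i_rc_23_1 lc_i_rc_34_1 lc_i_rc_29_1 lc_i_rc_23_1 lc_i_rc_16_1 lc_i_rc_16_1 lc_i_rc_29_1 lc_i_rc_29_1 lc_i_rc_29_1 lc_i_rc_29_1 lc_i_rc_34_1 lc_i_rc_23_1 lc_i_rc_34_1 lc_i_rc_29_1 lc_i_rc_23_1 lc_i_rc_40_1 lc_i_rc_34_1 lc_i_rc_23_1 lc_i_rc_34_1 lc_i_rc_34_1 lc_i_rc_23_1 lc_i_rc_43_1 lc_i_rc_29_1)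
def ce_i_15 : D2 → D3 → (Cert rels S Gen.i) := @D2.rec (fun _ => D3 → (Cert rels S Gen.i)) (@D3.rec (fun _ => (Cert rels S Gen.i)) lc_i_rc_29_1 lc_i_rc_29_1 lc_i_rc_34_1 lc_i_rc_34_1 lc_i_rc_8_3 lc_i_rc_36_5 lc_i_rc_8_1 lc_i_rc_23_1 lc_i_rc_34_1 lc_i_rc_23_1 lc_i_rc_16_1 lc_i_rc_16_1 lc_i_rc_23_1 lc_i_rc_16_1 lc_i_rc_16_1 lc_i_rc_8_1 lc_i_rc_36_3 lc_i_rc_36_3 lc_i_rc_36_3 lc_i_rc_29_1 lc_i_rc_29_1 lc_i_rc_23_1 lc_i_rc_8_1 lc_i_rc_23_1 lc_i_rc_16_1 lc_i_rc_29_1 lc_i_rc_29_1 lc_i_rc_16_1 lc_i_rc_23_1 lc_i_rc_34_1 lc_i_rc_40_1 lc_i_rc_23_1) (@D3.rec (fun _ => (Cert rels S Gen.i)) lc_i_rc_23_1 lc_i_rc_23_1 lc_i_rc_34_1 lc_i_rc_23_1 lc_i_rc_8_1 lc_i_rc_16_1 lc_i_rc_16_1 lc_i_rc_34_3 lc_i_rc_36_3 lc_i_rc_29_1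 lc_i_rc_29_1 lc_i_rc_23_1 lc_i_rc_23_1 lc_i_rc_34_1 lc_i_rc_16_1 lc_i_rc_16_1 lc_i_rc_23_1 lc_i_rc_8_1 lc_i_rc_29_1 lc_i_rc_8_1 lc_i_rc_16_1 lc_i_rc_16_1 lc_i_rc_8_3 lc_i_rc_40_1 lc_i_rc_29_1 lc_i_rc_36_3 lc_i_rc_29_1 lc_i_rc_23_1 lc_i_rc_23_1 lc_i_rc_16_1 lc_i_rc_36_3 lc_i_rc_29_1) (@D3.rec (fun _ => (Cert rels S Gen.i)) lc_i_rc_23_1 lc_i_rc_34_1 lc_i_rc_40_1 lc_i_rc_16_1 lc_i_rc_36_3 lc_i_rc_29_1 lc_i_rc_23_1 lc_i_rc_40_3 lc_i_rc_23_1 lc_i_rc_16_1 lc_i_rc_8_1 lc_i_rc_36_3 lc_i_rc_29_1 lc_i_rc_29_1 lc_i_rc_23_1 lc_i_rc_34_1 lc_i_rc_23_1 lc_i_rc_34_1 lc_i_rc_16_1 lc_i_rc_23_1 lc_i_rc_40_1 lc_i_rc_43_1 lc_i_rc_8_1 lc_i_rc_29_1 lc_i_rc_29_1 lc_i_rc_23_1 lc_i_rc_23_1 lc_i_rc_34_1 lc_i_rc_16_1 lc_i_rc_23_1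 lc_i_rc_8_1 lc_i_rc_16_1) (@D3.rec (fun _ => (Cert rels S Gen.i)) lc_i_rc_23_1 lc_i_rc_16_1 lc_i_rc_23_1 lc_i_rc_29_1 lc_i_Cert_tree lc_i_rc_40_3 lc_i_rc_36_3 lc_i_rc_29_1 lc_i_rc_43_1 lc_i_rc_29_1 lc_i_rc_23_1 lc_i_rc_29_1 lc_i_rc_40_1 lc_i_rc_29_1 lc_i_rc_23_1 lc_i_rc_34_1 lc_i_rc_16_1 lc_i_rc_34_3 lc_i_rc_36_3 lc_i_rc_29_1 lc_i_rc_29_1 lc_i_rc_23_1 lc_i_rc_34_1 lc_i_rc_23_1 lc_i_rc_34_1 lc_i_rc_23_1 lc_i_rc_40_1 lc_i_rc_43_1 lc_i_rc_29_1 lc_i_rc_29_1 lc_i_rc_29_1 lc_i_rc_23_1) (@D3.rec (fun _ => (Cert rels S Gen.i)) lc_i_rc_34_1 lc_i_rc_23_1 lc_i_rc_34_1 lc_i_rc_16_1 lc_i_rc_23_1 lc_i_rc_40_1 lc_i_rc_23_1 lc_i_rc_34_1 lc_i_rc_8_3 lc_i_rc_23_1 lc_i_rc_34_1 lc_i_rc_16_3 lc_i_rc_16_1 lc_i_rc_23_1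 lc_i_rc_43_1 lc_i_rc_43_3 lc_i_rc_23_1 lc_i_rc_23_1 lc_i_rc_23_1 lc_i_rc_34_1 lc_i_rc_16_1 lc_i_rc_23_1 lc_i_rc_16_1 lc_i_rc_23_1 lc_i_rc_8_1 lc_i_rc_16_1 lc_i_rc_29_1 lc_i_rc_8_1 lc_i_rc_43_3 lc_i_rc_16_1 lc_i_rc_8_1 lc_i_rc_16_1) (@D3.rec (fun _ => (Cert rels S Gen.i)) lc_i_rc_8_1 lc_i_rc_16_1 lc_i_rc_8_1 lc_i_rc_34_1 lc_i_rc_34_1 lc_i_rc_29_1 lc_i_rc_8_3 lc_i_rc_34_1 lc_i_rc_36_1 lc_i_rc_8_1 lc_i_rc_29_1 lc_i_rc_29_3 lc_i_rc_29_1 lc_i_rc_29_1 lc_i_rc_40_3 lc_i_rc_29_1 lc_i_rc_34_1 lc_i_rc_23_1 lc_i_rc_8_1 lc_i_rc_8_1 lc_i_rc_16_1 lc_i_rc_23_1 lc_i_rc_16_1 lc_i_rc_16_1 lc_i_rc_36_3 lc_i_rc_29_1 lc_i_rc_29_1 lc_i_rc_23_1 lc_i_rc_34_1 lc_i_rc_40_1 lc_i_rc_23_1 lc_i_rc_16_1) (@D3.rec (fun _ => (Cert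 rels S Gen.i)) lc_i_rc_29_1 lc_i_rc_29_1 lc_i_rc_34_1 lc_i_rc_23_1 lc_i_rc_29_1 lc_i_rc_23_1 lc_i_rc_34_1 lc_i_rc_23_1 lc_i_rc_34_1 lc_i_rc_40_1 lc_i_rc_36_3 lc_i_rc_29_1 lc_i_rc_8_1 lc_i_rc_8_1 lc_i_rc_8_1 lc_i_rc_29_1 lc_i_rc_29_1 lc_i_rc_16_1 lc_i_rc_23_1 lc_i_rc_16_1 lc_i_rc_34_1 lc_i_rc_36_3 lc_i_rc_29_1 lc_i_rc_29_1 lc_i_rc_23_1 lc_i_rc_34_1 lc_i_rc_29_1 lc_i_rc_23_1 lc_i_rc_34_1 lc_i_rc_16_1 lc_i_rc_23_1 lc_i_rc_40_1) (@D3.rec (fun _ => (Cert rels S Gen.i)) lc_i_rc_43_1 lc_i_rc_8_1 lc_i_rc_23_1 lc_i_rc_29_3 lc_i_rc_8_1 lc_i_rc_23_1 lc_i_rc_8_1 lc_i_rc_23_1 lc_i_rc_29_1 lc_i_rc_23_1 lc_i_rc_36_3 lc_i_rc_36_3 lc_i_rc_36_3 lc_i_rc_8_1 lc_i_rc_29_1 lc_i_rc_16_1 lc_i_rc_29_1 lc_i_rc_16_1 lc_i_rc_36_3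 lc_i_rc_29_1 lc_i_rc_40_1 lc_i_rc_29_1 lc_i_rc_23_1 lc_i_rc_29_1 lc_i_rc_23_1 lc_i_rc_40_1 lc_i_rc_34_1 lc_i_rc_16_1 lc_i_rc_34_1 lc_i_rc_34_1 lc_i_rc_29_1 lc_i_rc_23_1) (@D3.rec (fun _ => (Cert rels S Gen.i)) lc_i_rc_34_1 lc_i_rc_40_1 lc_i_rc_16_1 lc_i_rc_8_1 lc_i_rc_36_3 lc_i_rc_36_3 lc_i_rc_29_1 lc_i_rc_29_1 lc_i_rc_23_1 lc_i_rc_16_1 lc_i_rc_16_1 lc_i_rc_34_3 lc_i_rc_34_1 lc_i_rc_36_3 lc_i_rc_29_1 lc_i_rc_29_1 lc_i_rc_23_1 lc_i_rc_34_1 lc_i_rc_29_1 lc_i_rc_23_1 lc_i_rc_34_1 lc_i_rc_16_1 lc_i_rc_23_1 lc_i_rc_40_1 lc_i_rc_43_1 lc_i_rc_16_1 lc_i_rc_8_1 lc_i_rc_29_1 lc_i_rc_23_1 lc_i_rc_34_1 lc_i_rc_40_1 lc_i_rc_34_1) (@D3.rec (fun _ => (Cert rels S Gen.i)) lc_i_rc_36_3 lc_i_rc_23_1 lc_i_rc_34_1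 lc_i_rc_40_1 lc_i_rc_34_1 lc_i_rc_36_3 lc_i_rc_23_1 lc_i_rc_36_3 lc_i_rc_29_1 lc_i_rc_23_1 lc_i_rc_34_1 lc_i_rc_16_1 lc_i_rc_23_1 lc_i_rc_40_1 lc_i_rc_40_1 lc_i_rc_16_1 lc_i_rc_23_1 lc_i_rc_16_1 lc_i_rc_36_3 lc_i_rc_29_1 lc_i_rc_29_1 lc_i_rc_23_1 lc_i_rc_34_1 lc_i_rc_8_1 lc_i_rc_16_1 lc_i_rc_34_1 lc_i_rc_36_3 lc_i_rc_29_1 lc_i_rc_29_1 lc_i_rc_23_1 lc_i_rc_34_1 lc_i_rc_29_1) (@D3.rec (fun _ => (Cert rels S Gen.i)) lc_i_rc_8_1 lc_i_rc_34_1 lc_i_rc_8_3 lc_i_rc_23_1 lc_i_rc_16_1 lc_i_rc_16_1 lc_i_rc_29_1 lc_i_rc_8_3 lc_i_rc_29_1 lc_i_rc_23_1 lc_i_rc_34_1 lc_i_rc_23_1 lc_i_rc_34_1 lc_i_rc_16_1 lc_i_rc_23_1 lc_i_rc_40_1 lc_i_rc_34_1 lc_i_rc_16_1 lc_i_rc_23_1 lc_i_rc_34_1 lc_i_rc_8_1 lc_i_rc_16_1 lc_i_rc_23_1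 lc_i_rc_43_1 lc_i_rc_29_3 lc_i_rc_29_3 lc_i_rc_16_1 lc_i_rc_16_1 lc_i_rc_23_1 lc_i_rc_8_1 lc_i_rc_23_1 lc_i_rc_16_1) (@D3.rec (fun _ => (Cert rels S Gen.i)) lc_i_rc_16_1 lc_i_rc_23_1 lc_i_rc_8_1 lc_i_rc_16_1 lc_i_rc_29_1 lc_i_rc_8_1 lc_i_rc_8_1 lc_i_rc_23_1 lc_i_rc_8_1 lc_i_rc_29_1 lc_i_rc_8_1 lc_i_rc_40_1 lc_i_rc_23_1 lc_i_rc_34_1 lc_i_rc_40_1 lc_i_rc_23_1 lc_i_rc_34_1 lc_i_rc_23_1 lc_i_rc_34_3 lc_i_rc_36_3 lc_i_rc_34_1 lc_i_rc_43_1 lc_i_Cert_tree lc_i_rc_29_1 lc_i_rc_29_1 lc_i_rc_29_1 lc_i_rc_34_1 lc_i_rc_40_1 lc_i_rc_29_1 lc_i_rc_8_1 lc_i_rc_29_1 lc_i_rc_23_1) (@D3.rec (fun _ => (Cert rels S Gen.i)) lc_i_rc_16_1 lc_i_rc_36_3 lc_i_rc_29_1 lc_i_rc_29_1 lc_i_rc_23_1 lc_i_rc_29_1 lc_i_rc_40_1 lc_i_rc_23_1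 lc_i_rc_34_1 lc_i_rc_16_1 lc_i_rc_34_1 lc_i_rc_23_1 lc_i_rc_34_1 lc_i_rc_40_1 lc_i_rc_8_1 lc_i_rc_8_1 lc_i_rc_8_3 lc_i_rc_16_1 lc_i_rc_23_1 lc_i_rc_16_1 lc_i_rc_34_3 lc_i_rc_36_3 lc_i_rc_29_1 lc_i_rc_29_1 lc_i_rc_34_1 lc_i_rc_34_1 lc_i_rc_40_1 lc_i_rc_43_1 lc_i_rc_36_1 lc_i_rc_29_1 lc_i_rc_34_1 lc_i_rc_40_1) (@D3.rec (fun _ => (Cert rels S Gen.i)) lc_i_rc_29_1 lc_i_rc_29_1 lc_i_rc_29_1 lc_i_rc_23_1 lc_i_rc_40_1 lc_i_rc_29_1 lc_i_rc_29_1 lc_i_rc_34_1 lc_i_rc_34_1 lc_i_rc_40_1 lc_i_rc_40_1 lc_i_rc_36_3 lc_i_rc_29_1 lc_i_rc_16_3 lc_i_rc_34_1 lc_i_rc_8_1 lc_i_rc_8_1 lc_i_rc_16_1 lc_i_rc_36_3 lc_i_rc_29_1 lc_i_rc_29_1 lc_i_rc_23_1 lc_i_rc_34_1 lc_i_rc_45_26 lc_i_rc_34_1 lc_i_rc_16_1 lc_i_rc_16_1 lc_i_rc_8_3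 lc_i_rc_23_1 lc_i_rc_16_1 lc_i_rc_29_1 lc_i_rc_29_1) (@D3.rec (fun _ => (Cert rels S Gen.i)) lc_i_rc_29_1 lc_i_rc_29_1 lc_i_rc_34_1 lc_i_rc_23_1 lc_i_rc_34_1 lc_i_rc_23_1 lc_i_rc_40_1 lc_i_rc_34_1 lc_i_rc_23_1 lc_i_rc_34_1 lc_i_rc_34_3 lc_i_rc_43_1 lc_i_rc_29_1 lc_i_rc_23_1 lc_i_rc_29_1 lc_i_rc_8_3 lc_i_Cert_tree lc_i_Cert_tree lc_i_rc_44_0 lc_i_rc_16_1 lc_i_rc_23_1 lc_i_rc_29_1 lc_i_rc_23_1 lc_i_rc_16_1 lc_i_rc_43_1 lc_i_rc_34_3 lc_i_rc_36_1 lc_i_rc_29_1 lc_i_rc_23_1 lc_i_rc_34_1 lc_i_rc_43_1 lc_i_rc_34_1) (@D3.rec (fun _ => (Cert rels S Gen.i)) lc_i_rc_23_1 lc_i_rc_40_1 lc_i_rc_16_1 lc_i_rc_36_1 lc_i_rc_29_1 lc_i_rc_34_1 lc_i_rc_34_1 lc_i_rc_40_1 lc_i_rc_40_1 lc_i_rc_40_1 lc_i_rc_23_1 lc_i_rc_34_1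 lc_i_rc_34_3 lc_i_rc_16_1 lc_i_rc_40_1 lc_i_rc_29_1 lc_i_rc_34_1 lc_i_rc_40_3 lc_i_rc_36_3 lc_i_rc_29_1 lc_i_rc_29_1 lc_i_rc_23_1 lc_i_rc_34_1 lc_i_rc_34_3 lc_i_rc_34_3 lc_i_rc_36_3 lc_i_rc_29_1 lc_i_rc_29_1 lc_i_rc_23_1 lc_i_rc_34_1 lc_i_rc_29_1 lc_i_rc_23_1) (@D3.rec (fun _ => (Cert rels S Gen.i)) lc_i_rc_34_1 lc_i_rc_16_1 lc_i_rc_23_1 lc_i_rc_29_1 lc_i_rc_43_1 lc_i_rc_23_1 lc_i_rc_16_1 lc_i_rc_23_1 lc_i_rc_8_1 lc_i_rc_40_1 lc_i_rc_36_3 lc_i_rc_29_1 lc_i_rc_8_1 lc_i_rc_8_1 lc_i_rc_8_1 lc_i_rc_34_3 lc_i_rc_36_3 lc_i_rc_29_1 lc_i_rc_29_1 lc_i_rc_23_1 lc_i_rc_34_1 lc_i_rc_23_1 lc_i_rc_34_1 lc_i_rc_23_1 lc_i_rc_16_1 lc_i_rc_16_1 lc_i_rc_8_3 lc_i_rc_29_1 lc_i_rc_29_1 lc_i_rc_34_1 lc_i_rc_34_1 lc_i_rc_40_1)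 (@D3.rec (fun _ => (Cert rels S Gen.i)) lc_i_rc_34_1 lc_i_rc_34_1 lc_i_rc_43_1 lc_i_rc_29_1 lc_i_rc_29_1 lc_i_rc_29_1 lc_i_rc_34_1 lc_i_rc_34_1 lc_i_rc_40_1 lc_i_rc_34_1 lc_i_rc_23_1 lc_i_rc_34_3 lc_i_rc_36_3 lc_i_rc_36_3 lc_i_rc_29_1 lc_i_rc_29_1 lc_i_rc_23_1 lc_i_rc_34_1 lc_i_rc_23_1 lc_i_rc_34_1 lc_i_rc_16_1 lc_i_rc_8_1 lc_i_rc_8_1 lc_i_rc_8_1 lc_i_rc_29_1 lc_i_rc_29_1 lc_i_rc_29_1 lc_i_rc_16_1 lc_i_rc_34_1 lc_i_rc_23_1 lc_i_rc_34_1 lc_i_rc_36_3) (@D3.rec (fun _ => (Cert rels S Gen.i)) lc_i_rc_23_1 lc_i_rc_40_1 lc_i_rc_34_1 lc_i_rc_23_1 lc_i_rc_34_1 lc_i_rc_34_1 lc_i_rc_23_1 lc_i_rc_16_1 lc_i_rc_23_1 lc_i_rc_34_1 lc_i_rc_34_1 lc_i_rc_34_1 lc_i_rc_34_1 lc_i_rc_40_1 lc_i_rc_23_1 lc_i_rc_40_1 lc_i_rc_29_1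 lc_i_rc_34_1 lc_i_rc_23_1 lc_i_rc_43_1 lc_i_rc_40_1 lc_i_rc_36_5 lc_i_rc_34_1 lc_i_rc_29_1 lc_i_rc_40_1 lc_i_rc_23_1 lc_i_rc_16_1 lc_i_rc_34_3 lc_i_rc_16_1 lc_i_rc_34_3 lc_i_rc_8_1 lc_i_rc_8_1) (@D3.rec (fun _ => (Cert rels S Gen.i)) lc_i_rc_8_1 lc_i_rc_29_3 lc_i_rc_23_1 lc_i_rc_16_1 lc_i_rc_23_1 lc_i_rc_23_1 lc_i_rc_40_3 lc_i_rc_29_1 lc_i_rc_16_1 lc_i_rc_23_1 lc_i_rc_8_1 lc_i_rc_8_1 lc_i_rc_29_1 lc_i_rc_23_1 lc_i_rc_23_1 lc_i_rc_16_1 lc_i_rc_16_1 lc_i_rc_23_1 lc_i_rc_8_1 lc_i_rc_23_1 lc_i_rc_29_1 lc_i_rc_23_1 lc_i_rc_16_1 lc_i_rc_29_1 lc_i_rc_29_1 lc_i_rc_23_1 lc_i_rc_29_1 lc_i_rc_40_1 lc_i_rc_23_1 lc_i_rc_34_1 lc_i_rc_16_1 lc_i_rc_23_1) (@D3.rec (fun _ => (Cert rels S Gen.i)) lc_i_rc_16_1 lc_i_rc_29_1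 lc_i_rc_23_1 lc_i_rc_34_1 lc_i_rc_16_1 lc_i_rc_23_1 lc_i_rc_40_1 lc_i_rc_43_1 lc_i_rc_29_1 lc_i_rc_23_1 lc_i_rc_34_1 lc_i_rc_16_1 lc_i_rc_23_1 lc_i_rc_34_1 lc_i_rc_29_1 lc_i_rc_23_1 lc_i_rc_16_1 lc_i_rc_29_1 lc_i_rc_29_1 lc_i_rc_23_1 lc_i_rc_34_1 lc_i_rc_23_1 lc_i_rc_34_1 lc_i_rc_16_1 lc_i_rc_23_1 lc_i_rc_40_1 lc_i_rc_23_1 lc_i_rc_34_1 lc_i_rc_8_1 lc_i_rc_16_1 lc_i_rc_23_1 lc_i_rc_43_1) (@D3.rec (fun _ => (Cert rels S Gen.i)) lc_i_rc_23_1 lc_i_rc_16_1 lc_i_rc_23_1 lc_i_rc_8_1 lc_i_rc_16_1 lc_i_rc_29_1 lc_i_rc_8_1 lc_i_rc_29_1 lc_i_rc_8_1 lc_i_Cert_tree lc_i_rc_44_0 lc_i_rc_29_1 lc_i_rc_29_1 lc_i_rc_23_1 lc_i_rc_34_1 lc_i_rc_29_1 lc_i_rc_23_1 lc_i_rc_34_1 lc_i_rc_16_1 lc_i_rc_23_1 lc_i_rc_29_1 lc_i_rc_43_1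 lc_i_rc_23_1 lc_i_rc_16_1 lc_i_rc_23_1 lc_i_rc_8_1 lc_i_rc_29_1 lc_i_rc_29_1 lc_i_rc_23_1 lc_i_rc_34_1 lc_i_rc_23_1 lc_i_rc_34_1)
def ce_i_16 : D2 → D3 → (Cert rels S Gen.i) := @D2.rec (fun _ => D3 → (Cert rels S Gen.i)) (@D3.rec (fun _ => (Cert rels S Gen.i)) lc_i_rc_23_1 lc_i_rc_40_1 lc_i_rc_23_1 lc_i_rc_34_1 lc_i_rc_23_1 lc_i_rc_43_1 lc_i_rc_45_26 lc_i_rc_34_1 lc_i_rc_23_1 lc_i_rc_29_1 lc_i_rc_23_1 lc_i_rc_34_1 lc_i_rc_16_1 lc_i_rc_23_1 lc_i_rc_40_1 lc_i_rc_16_1 lc_i_rc_23_1 lc_i_rc_40_1 lc_i_rc_8_1 lc_i_rc_16_1 lc_i_rc_29_1 lc_i_rc_23_1 lc_i_rc_43_1 lc_i_rc_23_1 lc_i_rc_34_3 lc_i_rc_8_3 lc_i_rc_34_1 lc_i_rc_23_1 lc_i_rc_34_1 lc_i_rc_16_3 lc_i_rc_16_1 lc_i_rc_23_1) (@D3.rec (fun _ => (Cert rels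 S Gen.i)) lc_i_rc_36_3 lc_i_rc_16_1 lc_i_rc_23_1 lc_i_rc_29_1 lc_i_rc_8_1 lc_i_rc_16_1 lc_i_rc_29_1 lc_i_rc_8_1 lc_i_rc_16_1 lc_i_rc_8_1 lc_i_rc_8_1 lc_i_rc_29_1 lc_i_rc_36_1 lc_i_rc_23_1 lc_i_rc_34_1 lc_i_rc_29_1 lc_i_rc_40_1 lc_i_rc_23_1 lc_i_rc_36_1 lc_i_rc_8_1 lc_i_rc_29_3 lc_i_rc_29_1 lc_i_rc_16_1 lc_i_rc_34_1 lc_i_rc_23_1 lc_i_rc_34_1 lc_i_rc_29_1 lc_i_rc_23_1 lc_i_rc_34_1 lc_i_rc_40_1 lc_i_rc_8_1 lc_i_rc_8_1) (@D3.rec (fun _ => (Cert rels S Gen.i)) lc_i_rc_29_1 lc_i_rc_16_1 lc_i_rc_23_1 lc_i_rc_16_1 lc_i_rc_29_1 lc_i_rc_29_1 lc_i_rc_23_1 lc_i_rc_34_1 lc_i_rc_23_1 lc_i_rc_34_1 lc_i_rc_16_1 lc_i_rc_23_1 lc_i_rc_40_1 lc_i_rc_43_1 lc_i_rc_34_1 lc_i_rc_23_1 lc_i_rc_34_1 lc_i_rc_40_1 lc_i_rc_34_1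 lc_i_rc_23_1 lc_i_rc_40_1 lc_i_rc_23_1 lc_i_rc_40_1 lc_i_rc_40_1 lc_i_rc_36_3 lc_i_rc_34_1 lc_i_rc_8_1 lc_i_rc_8_1 lc_i_rc_23_1 lc_i_rc_23_1 lc_i_rc_34_1 lc_i_rc_16_1) (@D3.rec (fun _ => (Cert rels S Gen.i)) lc_i_rc_29_1 lc_i_rc_23_1 lc_i_rc_16_1 lc_i_rc_36_3 lc_i_rc_29_1 lc_i_rc_34_1 lc_i_rc_23_1 lc_i_rc_34_1 lc_i_rc_29_1 lc_i_rc_23_1 lc_i_rc_40_1 lc_i_rc_34_1 lc_i_rc_23_1 lc_i_rc_34_1 lc_i_rc_8_1 lc_i_rc_16_1 lc_i_rc_23_1 lc_i_rc_43_1 lc_i_rc_8_1 lc_i_rc_29_1 lc_i_rc_23_1 lc_i_rc_36_3 lc_i_rc_36_3 lc_i_rc_36_3 lc_i_rc_16_1 lc_i_rc_34_1 lc_i_rc_29_1 lc_i_rc_29_1 lc_i_rc_16_1 lc_i_rc_29_1 lc_i_rc_23_1 lc_i_rc_34_1) (@D3.rec (fun _ => (Cert rels S Gen.i)) lc_i_rc_8_3 lc_i_rc_36_1 lc_i_rc_34_1 lc_i_rc_16_1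 lc_i_rc_23_1 lc_i_rc_29_1 lc_i_rc_23_1 lc_i_rc_40_1 lc_i_rc_29_3 lc_i_rc_40_1 lc_i_rc_40_1 lc_i_rc_23_1 lc_i_rc_34_1 lc_i_rc_16_1 lc_i_rc_23_1 lc_i_rc_40_1 lc_i_rc_40_1 lc_i_rc_8_1 lc_i_rc_36_3 lc_i_rc_29_1 lc_i_rc_23_1 lc_i_rc_34_1 lc_i_rc_34_1 lc_i_rc_23_1 lc_i_rc_16_1 lc_i_rc_16_1 lc_i_rc_8_1 lc_i_rc_8_3 lc_i_rc_29_1 lc_i_rc_23_1 lc_i_rc_34_1 lc_i_rc_23_1) (@D3.rec (fun _ => (Cert rels S Gen.i)) lc_i_rc_34_1 lc_i_rc_16_1 lc_i_rc_23_1 lc_i_rc_40_1 lc_i_rc_34_1 lc_i_rc_16_1 lc_i_rc_23_1 lc_i_rc_34_1 lc_i_rc_8_1 lc_i_rc_16_1 lc_i_rc_23_1 lc_i_rc_43_1 lc_i_rc_23_1 lc_i_rc_34_1 lc_i_rc_23_1 lc_i_rc_34_1 lc_i_rc_43_1 lc_i_rc_40_1 lc_i_rc_23_1 lc_i_rc_36_3 lc_i_rc_16_1 lc_i_rc_23_1 lc_i_rc_40_1 lc_i_rc_40_1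 lc_i_rc_29_1 lc_i_rc_23_1 lc_i_rc_40_3 lc_i_rc_16_1 lc_i_rc_23_1 lc_i_rc_36_3 lc_i_rc_34_1 lc_i_rc_16_1) (@D3.rec (fun _ => (Cert rels S Gen.i)) lc_i_rc_23_1 lc_i_rc_34_1 lc_i_rc_8_1 lc_i_rc_16_1 lc_i_rc_23_1 lc_i_rc_40_1 lc_i_rc_29_1 lc_i_rc_29_1 lc_i_rc_23_1 lc_i_rc_34_1 lc_i_rc_34_1 lc_i_rc_23_1 lc_i_rc_34_3 lc_i_rc_8_1 lc_i_rc_29_1 lc_i_rc_16_1 lc_i_rc_29_1 lc_i_rc_23_1 lc_i_rc_34_1 lc_i_rc_23_1 lc_i_rc_34_1 lc_i_rc_16_1 lc_i_rc_23_1 lc_i_rc_40_1 lc_i_rc_23_1 lc_i_rc_34_1 lc_i_rc_8_1 lc_i_rc_34_1 lc_i_rc_8_3 lc_i_rc_23_1 lc_i_rc_16_1 lc_i_rc_34_1) (@D3.rec (fun _ => (Cert rels S Gen.i)) lc_i_rc_8_3 lc_i_rc_23_1 lc_i_rc_34_1 lc_i_rc_16_1 lc_i_rc_23_1 lc_i_rc_40_1 lc_i_rc_16_1 lc_i_rc_23_1 lc_i_rc_40_1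 lc_i_rc_8_1 lc_i_rc_16_1 lc_i_rc_29_1 lc_i_rc_23_1 lc_i_rc_43_1 lc_i_rc_40_1 lc_i_rc_16_1 lc_i_rc_23_1 lc_i_rc_34_1 lc_i_rc_8_1 lc_i_rc_16_1 lc_i_rc_23_1 lc_i_rc_16_1 lc_i_rc_34_1 lc_i_rc_34_3 lc_i_rc_16_1 lc_i_rc_8_1 lc_i_rc_16_1 lc_i_rc_29_1 lc_i_rc_8_1 lc_i_rc_16_1 lc_i_rc_8_1 lc_i_rc_8_1) (@D3.rec (fun _ => (Cert rels S Gen.i)) lc_i_rc_43_1 lc_i_rc_23_1 lc_i_rc_40_1 lc_i_rc_40_1 lc_i_rc_23_1 lc_i_rc_34_3 lc_i_rc_23_1 lc_i_rc_34_3 lc_i_rc_36_3 lc_i_rc_34_1 lc_i_rc_44_0 lc_i_rc_34_1 lc_i_rc_23_1 lc_i_rc_34_1 lc_i_rc_34_1 lc_i_rc_40_1 lc_i_rc_29_1 lc_i_rc_23_1 lc_i_rc_34_1 lc_i_rc_29_1 lc_i_rc_23_1 lc_i_rc_29_1 lc_i_rc_23_1 lc_i_rc_16_1 lc_i_rc_29_1 lc_i_rc_34_1 lc_i_rc_23_1 lc_i_rc_34_1 lc_i_rc_16_1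 lc_i_rc_23_1 lc_i_rc_29_1 lc_i_rc_43_1) (@D3.rec (fun _ => (Cert rels S Gen.i)) lc_i_rc_16_1 lc_i_rc_23_1 lc_i_rc_8_1 lc_i_rc_40_1 lc_i_rc_23_1 lc_i_rc_40_1 lc_i_rc_40_1 lc_i_rc_8_1 lc_i_rc_8_1 lc_i_rc_8_3 lc_i_rc_16_1 lc_i_rc_23_1 lc_i_rc_16_1 lc_i_rc_36_1 lc_i_rc_29_1 lc_i_rc_34_1 lc_i_rc_34_1 lc_i_rc_40_1 lc_i_rc_34_1 lc_i_rc_43_1 lc_i_rc_23_1 lc_i_rc_36_1 lc_i_rc_43_1 lc_i_rc_34_1 lc_i_rc_43_1 lc_i_rc_23_1 lc_i_rc_34_1 lc_i_rc_34_1 lc_i_rc_34_1 lc_i_rc_16_1 lc_i_rc_23_1 lc_i_rc_40_1) (@D3.rec (fun _ => (Cert rels S Gen.i)) lc_i_rc_34_1 lc_i_rc_34_1 lc_i_rc_40_1 lc_i_rc_23_1 lc_i_rc_23_1 lc_i_rc_29_1 lc_i_rc_23_1 lc_i_rc_34_1 lc_i_rc_16_3 lc_i_rc_34_1 lc_i_rc_8_1 lc_i_rc_8_1 lc_i_rc_29_1 lc_i_rc_29_1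 lc_i_rc_23_1 lc_i_rc_34_1 lc_i_rc_23_1 lc_i_rc_34_1 lc_i_rc_23_1 lc_i_rc_40_1 lc_i_rc_8_1 lc_i_rc_34_1 lc_i_rc_16_1 lc_i_rc_16_1 lc_i_rc_8_3 lc_i_Cert_tree lc_i_rc_23_1 lc_i_rc_34_1 lc_i_rc_34_1 lc_i_rc_34_1 lc_i_rc_16_3 lc_i_rc_40_1) (@D3.rec (fun _ => (Cert rels S Gen.i)) lc_i_rc_23_1 lc_i_rc_40_1 lc_i_rc_29_1 lc_i_rc_23_1 lc_i_rc_43_1 lc_i_rc_34_1 lc_i_rc_16_1 lc_i_rc_34_1 lc_i_rc_34_3 lc_i_rc_29_1 lc_i_Cert_tree lc_i_rc_44_0 lc_i_rc_44_0 lc_i_rc_16_1 lc_i_rc_23_1 lc_i_rc_29_1 lc_i_rc_23_1 lc_i_rc_16_1 lc_i_rc_23_1 lc_i_rc_36_1 lc_i_rc_23_1 lc_i_rc_34_1 lc_i_rc_23_1 lc_i_rc_40_1 lc_i_rc_36_1 lc_i_rc_40_1 lc_i_rc_23_1 lc_i_rc_40_1 lc_i_rc_36_1 lc_i_rc_34_1 lc_i_rc_40_1 lc_i_rc_40_1) (@D3.rec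 (fun _ => (Cert rels S Gen.i)) lc_i_rc_43_1 lc_i_rc_40_1 lc_i_rc_16_1 lc_i_rc_23_1 lc_i_rc_40_1 lc_i_rc_34_3 lc_i_rc_40_3 lc_i_rc_29_1 lc_i_rc_34_1 lc_i_rc_40_1 lc_i_rc_29_1 lc_i_rc_29_1 lc_i_rc_23_1 lc_i_rc_34_1 lc_i_rc_36_1 lc_i_rc_16_1 lc_i_rc_23_1 lc_i_rc_40_1 lc_i_rc_34_3 lc_i_rc_29_1 lc_i_rc_29_1 lc_i_rc_23_1 lc_i_rc_34_1 lc_i_rc_23_1 lc_i_rc_34_1 lc_i_rc_16_1 lc_i_rc_23_1 lc_i_rc_40_1 lc_i_rc_23_1 lc_i_rc_34_1 lc_i_rc_16_1 lc_i_rc_23_1) (@D3.rec (fun _ => (Cert rels S Gen.i)) lc_i_rc_34_1 lc_i_rc_8_1 lc_i_rc_16_1 lc_i_rc_23_1 lc_i_rc_29_1 lc_i_rc_8_1 lc_i_rc_29_1 lc_i_rc_29_1 lc_i_rc_23_1 lc_i_rc_34_1 lc_i_rc_16_1 lc_i_rc_8_1 lc_i_rc_8_1 lc_i_rc_8_1 lc_i_rc_16_1 lc_i_rc_29_1 lc_i_rc_16_1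 lc_i_rc_34_1 lc_i_rc_23_1 lc_i_rc_34_1 lc_i_rc_23_1 lc_i_rc_40_1 lc_i_rc_23_1 lc_i_rc_34_1 lc_i_rc_23_1 lc_i_rc_16_1 lc_i_rc_23_1 lc_i_rc_8_3 lc_i_rc_34_1 lc_i_rc_34_1 lc_i_rc_40_1 lc_i_rc_40_1) (@D3.rec (fun _ => (Cert rels S Gen.i)) lc_i_rc_43_1 lc_i_rc_40_1 lc_i_rc_34_1 lc_i_rc_23_1 lc_i_rc_29_3 lc_i_rc_34_1 lc_i_rc_34_1 lc_i_rc_40_1 lc_i_rc_40_1 lc_i_rc_43_1 lc_i_rc_34_1 lc_i_rc_16_3 lc_i_rc_36_1 lc_i_rc_29_1 lc_i_rc_23_1 lc_i_rc_34_1 lc_i_rc_23_1 lc_i_rc_34_1 lc_i_rc_16_1 lc_i_rc_23_1 lc_i_rc_40_1 lc_i_rc_23_1 lc_i_rc_34_1 lc_i_rc_16_1 lc_i_rc_8_1 lc_i_rc_8_1 lc_i_rc_23_1 lc_i_rc_34_1 lc_i_rc_34_1 lc_i_rc_34_1 lc_i_rc_16_1 lc_i_rc_40_1) (@D3.rec (fun _ => (Cert rels S Gen.i)) lc_i_rc_23_1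 lc_i_rc_40_1 lc_i_rc_36_3 lc_i_rc_29_1 lc_i_rc_23_1 lc_i_rc_43_1 lc_i_rc_40_1 lc_i_rc_23_1 lc_i_rc_34_1 lc_i_rc_34_3 lc_i_rc_23_1 lc_i_rc_29_1 lc_i_rc_40_1 lc_i_rc_40_1 lc_i_rc_40_1 lc_i_rc_34_3 lc_i_rc_43_1 lc_i_rc_23_1 lc_i_rc_43_1 lc_i_rc_34_1 lc_i_rc_40_1 lc_i_rc_23_1 lc_i_rc_40_1 lc_i_rc_23_1 lc_i_rc_34_3 lc_i_rc_40_1 lc_i_rc_8_1 lc_i_rc_16_1 lc_i_rc_29_1 lc_i_rc_8_3 lc_i_rc_8_1 lc_i_rc_16_1) (@D3.rec (fun _ => (Cert rels S Gen.i)) lc_i_rc_23_1 lc_i_rc_16_1 lc_i_rc_16_1 lc_i_rc_8_1 lc_i_rc_23_1 lc_i_rc_29_1 lc_i_rc_23_1 lc_i_rc_16_1 lc_i_rc_23_1 lc_i_rc_34_1 lc_i_rc_23_1 lc_i_rc_34_1 lc_i_rc_16_1 lc_i_rc_23_1 lc_i_rc_29_1 lc_i_rc_43_1 lc_i_rc_16_1 lc_i_rc_23_1 lc_i_rc_8_1 lc_i_rc_29_1 lc_i_rc_23_1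 lc_i_rc_16_1 lc_i_rc_23_1 lc_i_rc_34_1 lc_i_rc_16_1 lc_i_rc_23_1 lc_i_rc_40_1 lc_i_rc_16_1 lc_i_rc_23_1 lc_i_rc_43_1 lc_i_rc_23_1 lc_i_rc_34_1) (@D3.rec (fun _ => (Cert rels S Gen.i)) lc_i_rc_16_1 lc_i_rc_23_1 lc_i_rc_40_1 lc_i_rc_16_1 lc_i_rc_29_1 lc_i_rc_23_1 lc_i_rc_34_1 lc_i_rc_29_1 lc_i_Cert_tree lc_i_rc_23_1 lc_i_rc_34_1 lc_i_rc_23_1 lc_i_rc_34_1 lc_i_rc_23_1 lc_i_rc_40_1 lc_i_rc_16_1 lc_i_rc_23_1 lc_i_rc_40_1 lc_i_rc_8_1 lc_i_rc_16_1 lc_i_rc_29_1 lc_i_rc_23_1 lc_i_rc_43_1 lc_i_rc_23_1 lc_i_rc_40_1 lc_i_rc_8_1 lc_i_rc_16_1 lc_i_rc_23_1 lc_i_rc_8_1 lc_i_rc_16_1 lc_i_rc_29_1 lc_i_rc_8_1) (@D3.rec (fun _ => (Cert rels S Gen.i)) lc_i_rc_16_1 lc_i_Cert_tree lc_i_Cert_tree lc_i_rc_44_0 lc_i_rc_23_1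 lc_i_rc_34_1 lc_i_rc_23_1 lc_i_rc_34_1 lc_i_rc_16_1 lc_i_rc_23_1 lc_i_rc_40_1 lc_i_rc_23_1 lc_i_rc_34_1 lc_i_rc_16_1 lc_i_rc_23_1 lc_i_rc_34_1 lc_i_rc_8_1 lc_i_rc_16_1 lc_i_rc_23_1 lc_i_rc_29_1 lc_i_rc_8_1 lc_i_rc_29_1 lc_i_rc_23_1 lc_i_rc_29_3 lc_i_rc_23_1 lc_i_rc_34_1 lc_i_rc_23_1 lc_i_rc_40_1 lc_i_rc_23_1 lc_i_rc_40_1 lc_i_rc_29_1 lc_i_rc_23_1) (@D3.rec (fun _ => (Cert rels S Gen.i)) lc_i_rc_43_1 lc_i_rc_23_1 lc_i_rc_34_1 lc_i_rc_23_1 lc_i_rc_34_1 lc_i_rc_40_1 lc_i_rc_23_1 lc_i_rc_29_1 lc_i_rc_16_1 lc_i_rc_23_1 lc_i_rc_40_1 lc_i_rc_16_1 lc_i_rc_29_1 lc_i_rc_23_1 lc_i_rc_43_1 lc_i_rc_8_1 lc_i_rc_16_1 lc_i_rc_29_1 lc_i_rc_23_1 lc_i_rc_43_1 lc_i_rc_8_1 lc_i_rc_16_1 lc_i_rc_16_1 lc_i_rc_29_1 lc_i_rc_23_1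 lc_i_rc_23_1 lc_i_rc_34_3 lc_i_rc_8_3 lc_i_rc_44_1 lc_i_rc_43_3 lc_i_rc_23_1 lc_i_rc_16_3) (@D3.rec (fun _ => (Cert rels S Gen.i)) lc_i_rc_16_1 lc_i_rc_29_1 lc_i_rc_8_1 lc_i_rc_16_1 lc_i_rc_36_3 lc_i_rc_8_1 lc_i_rc_23_1 lc_i_rc_29_1 lc_i_rc_23_1 lc_i_rc_36_1 lc_i_rc_23_1 lc_i_rc_34_1 lc_i_rc_23_1 lc_i_rc_34_1 lc_i_rc_23_1 lc_i_rc_36_1 lc_i_rc_16_1 lc_i_rc_23_1 lc_i_rc_36_1 lc_i_rc_8_1 lc_i_rc_16_1 lc_i_rc_34_1 lc_i_rc_34_1 lc_i_rc_40_1 lc_i_rc_23_1 lc_i_rc_40_1 lc_i_rc_23_1 lc_i_rc_34_1 lc_i_rc_23_1 lc_i_rc_40_1 lc_i_rc_40_1 lc_i_rc_8_1) (@D3.rec (fun _ => (Cert rels S Gen.i)) lc_i_rc_8_1 lc_i_rc_34_1 lc_i_rc_16_1 lc_i_rc_29_1 lc_i_rc_23_1 lc_i_rc_16_1 lc_i_rc_23_1 lc_i_rc_34_1 lc_i_rc_23_1 lc_i_rc_34_1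 lc_i_rc_23_1 lc_i_rc_23_1 lc_i_rc_40_1 lc_i_rc_23_1 lc_i_rc_34_1 lc_i_rc_16_1 lc_i_rc_23_1 lc_i_rc_43_1 lc_i_rc_34_1 lc_i_rc_23_1 lc_i_rc_34_1 lc_i_rc_43_1 lc_i_rc_40_1 lc_i_rc_23_1 lc_i_rc_40_1 lc_i_rc_23_1 lc_i_rc_40_1 lc_i_rc_36_3 lc_i_rc_34_1 lc_i_rc_8_1 lc_i_rc_8_1 lc_i_rc_23_1)
def ce_i_17 : D2 → D3 → (Cert rels S Gen.i) := @D2.rec (fun _ => D3 → (Cert rels S Gen.i)) (@D3.rec (fun _ => (Cert rels S Gen.i)) lc_i_rc_29_3 lc_i_rc_34_1 lc_i_rc_16_1 lc_i_rc_29_1 lc_i_rc_23_1 lc_i_rc_23_1 lc_i_rc_36_3 lc_i_rc_34_1 lc_i_rc_40_1 lc_i_rc_23_1 lc_i_rc_40_1 lc_i_rc_8_1 lc_i_rc_23_1 lc_i_rc_23_1 lc_i_rc_43_1 lc_i_rc_34_1 lc_i_rc_23_1 lc_i_rc_34_1 lc_i_rc_8_1 lc_i_rc_16_1 lc_i_rc_23_1 lc_i_rc_8_3 lc_i_rc_40_1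 lc_i_rc_40_1 lc_i_rc_36_3 lc_i_rc_34_1 lc_i_rc_40_1 lc_i_rc_34_1 lc_i_rc_34_1 lc_i_rc_16_1 lc_i_rc_23_1 lc_i_rc_34_1) (@D3.rec (fun _ => (Cert rels S Gen.i)) lc_i_rc_16_1 lc_i_rc_23_1 lc_i_rc_40_1 lc_i_rc_8_3 lc_i_rc_36_1 lc_i_rc_29_1 lc_i_rc_23_1 lc_i_rc_16_1 lc_i_rc_23_1 lc_i_rc_29_1 lc_i_rc_8_3 lc_i_rc_43_1 lc_i_rc_40_1 lc_i_rc_16_1 lc_i_rc_23_1 lc_i_rc_34_3 lc_i_rc_16_1 lc_i_rc_23_1 lc_i_rc_40_1 lc_i_rc_8_1 lc_i_rc_36_3 lc_i_rc_23_1 lc_i_rc_34_1 lc_i_rc_23_1 lc_i_rc_40_1 lc_i_rc_34_1 lc_i_rc_23_1 lc_i_rc_16_1 lc_i_rc_8_1 lc_i_rc_8_1 lc_i_rc_8_3 lc_i_rc_23_1) (@D3.rec (fun _ => (Cert rels S Gen.i)) lc_i_rc_34_1 lc_i_rc_16_1 lc_i_rc_23_1 lc_i_rc_40_1 lc_i_rc_16_1 lc_i_rc_23_1 lc_i_rc_40_1 lc_i_rc_8_1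 lc_i_rc_16_1 lc_i_rc_29_1 lc_i_rc_23_1 lc_i_rc_43_1 lc_i_rc_40_1 lc_i_rc_16_1 lc_i_rc_23_1 lc_i_rc_34_1 lc_i_rc_8_1 lc_i_rc_16_1 lc_i_rc_23_1 lc_i_rc_23_1 lc_i_rc_34_1 lc_i_rc_23_1 lc_i_rc_34_1 lc_i_rc_40_1 lc_i_rc_16_1 lc_i_rc_23_1 lc_i_rc_36_3 lc_i_rc_8_1 lc_i_rc_23_1 lc_i_rc_34_1 lc_i_rc_29_1 lc_i_rc_16_1) (@D3.rec (fun _ => (Cert rels S Gen.i)) lc_i_rc_23_1 lc_i_rc_36_3 lc_i_rc_8_1 lc_i_rc_16_1 lc_i_rc_23_1 lc_i_rc_36_3 lc_i_rc_34_1 lc_i_rc_16_1 lc_i_rc_29_1 lc_i_rc_23_1 lc_i_rc_34_1 lc_i_rc_16_1 lc_i_rc_23_1 lc_i_rc_34_1 lc_i_rc_23_1 lc_i_rc_34_1 lc_i_rc_23_1 lc_i_rc_40_1 lc_i_rc_40_1 lc_i_rc_23_1 lc_i_rc_34_3 lc_i_rc_23_1 lc_i_rc_34_1 lc_i_rc_23_1 lc_i_rc_16_1 lc_i_rc_23_1 lc_i_rc_34_1 lc_i_rc_23_1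 lc_i_rc_40_1 lc_i_rc_16_1 lc_i_rc_23_1 lc_i_rc_40_1) (@D3.rec (fun _ => (Cert rels S Gen.i)) lc_i_rc_16_1 lc_i_rc_29_1 lc_i_rc_23_1 lc_i_rc_43_1 lc_i_rc_23_1 lc_i_rc_34_1 lc_i_rc_8_1 lc_i_rc_8_1 lc_i_rc_34_1 lc_i_rc_8_3 lc_i_rc_23_1 lc_i_rc_40_1 lc_i_rc_8_3 lc_i_rc_16_1 lc_i_rc_23_1 lc_i_rc_40_1 lc_i_rc_16_1 lc_i_rc_23_1 lc_i_rc_43_1 lc_i_rc_8_1 lc_i_rc_16_1 lc_i_rc_29_1 lc_i_rc_23_1 lc_i_rc_43_1 lc_i_rc_8_1 lc_i_rc_16_1 lc_i_rc_16_1 lc_i_rc_29_1 lc_i_rc_23_1 lc_i_rc_40_1 lc_i_rc_16_1 lc_i_rc_23_1) (@D3.rec (fun _ => (Cert rels S Gen.i)) lc_i_rc_8_1 lc_i_rc_16_1 lc_i_rc_34_3 lc_i_rc_8_1 lc_i_rc_16_1 lc_i_rc_36_3 lc_i_rc_8_1 lc_i_rc_23_1 lc_i_Cert_tree lc_i_rc_8_1 lc_i_rc_23_1 lc_i_rc_40_1 lc_i_rc_23_1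 lc_i_rc_34_3 lc_i_rc_23_1 lc_i_rc_36_3 lc_i_rc_40_1 lc_i_rc_23_1 lc_i_rc_34_3 lc_i_rc_40_1 lc_i_rc_40_1 lc_i_rc_23_1 lc_i_rc_34_1 lc_i_rc_23_1 lc_i_rc_34_3 lc_i_rc_23_1 lc_i_rc_34_1 lc_i_rc_16_1 lc_i_rc_23_1 lc_i_rc_29_1 lc_i_rc_29_1 lc_i_rc_23_1) (@D3.rec (fun _ => (Cert rels S Gen.i)) lc_i_rc_16_1 lc_i_rc_34_1 lc_i_rc_40_1 lc_i_rc_16_1 lc_i_rc_23_1 lc_i_rc_34_1 lc_i_rc_8_1 lc_i_rc_16_1 lc_i_rc_23_1 lc_i_rc_29_1 lc_i_rc_8_1 lc_i_rc_16_1 lc_i_rc_29_1 lc_i_rc_43_1 lc_i_rc_23_1 lc_i_rc_40_1 lc_i_rc_8_1 lc_i_rc_8_1 lc_i_rc_8_3 lc_i_rc_16_1 lc_i_rc_23_1 lc_i_rc_36_1 lc_i_rc_34_1 lc_i_rc_40_1 lc_i_rc_40_1 lc_i_rc_43_1 lc_i_rc_34_1 lc_i_rc_23_1 lc_i_rc_40_1 lc_i_rc_40_1 lc_i_rc_34_1 lc_i_rc_23_1) (@D3.rec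 (fun _ => (Cert rels S Gen.i)) lc_i_rc_40_1 lc_i_rc_34_1 lc_i_rc_29_1 lc_i_rc_8_3 lc_i_Cert_tree lc_i_rc_23_1 lc_i_rc_34_3 lc_i_rc_40_1 lc_i_rc_43_1 lc_i_rc_36_5 lc_i_rc_23_1 lc_i_rc_34_1 lc_i_rc_23_1 lc_i_rc_40_1 lc_i_rc_23_1 lc_i_rc_34_1 lc_i_rc_8_1 lc_i_rc_23_1 lc_i_rc_34_1 lc_i_rc_23_1 lc_i_rc_34_1 lc_i_rc_23_1 lc_i_rc_40_1 lc_i_rc_23_1 lc_i_rc_40_1 lc_i_rc_29_1 lc_i_rc_23_1 lc_i_rc_43_1 lc_i_rc_8_1 lc_i_rc_34_1 lc_i_rc_16_1 lc_i_rc_8_3) (@D3.rec (fun _ => (Cert rels S Gen.i)) lc_i_Cert_tree lc_i_rc_44_0 lc_i_rc_40_1 lc_i_rc_40_1 lc_i_rc_40_1 lc_i_rc_34_3 lc_i_rc_43_1 lc_i_rc_29_1 lc_i_rc_23_1 lc_i_rc_43_1 lc_i_rc_29_1 lc_i_rc_23_1 lc_i_rc_34_1 lc_i_rc_23_1 lc_i_rc_44_0 lc_i_rc_16_1 lc_i_rc_23_1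 lc_i_rc_29_1 lc_i_rc_23_1 lc_i_rc_40_1 lc_i_rc_23_1 lc_i_rc_40_1 lc_i_rc_29_1 lc_i_rc_23_1 lc_i_rc_43_1 lc_i_rc_44_1 lc_i_rc_40_1 lc_i_rc_23_1 lc_i_rc_40_1 lc_i_rc_40_1 lc_i_rc_43_1 lc_i_rc_43_1) (@D3.rec (fun _ => (Cert rels S Gen.i)) lc_i_rc_40_3 lc_i_rc_16_1 lc_i_rc_23_1 lc_i_rc_40_1 lc_i_rc_34_1 lc_i_rc_40_1 lc_i_rc_40_1 lc_i_rc_34_1 lc_i_rc_23_1 lc_i_rc_34_1 lc_i_rc_16_1 lc_i_rc_23_1 lc_i_rc_40_1 lc_i_rc_34_1 lc_i_rc_40_1 lc_i_rc_16_1 lc_i_rc_23_1 lc_i_rc_40_1 lc_i_rc_29_3 lc_i_rc_23_1 lc_i_rc_34_1 lc_i_rc_16_1 lc_i_rc_23_1 lc_i_rc_40_1 lc_i_rc_16_1 lc_i_rc_23_1 lc_i_rc_40_1 lc_i_rc_8_1 lc_i_rc_16_1 lc_i_rc_23_1 lc_i_rc_43_1 lc_i_rc_23_1) (@D3.rec (fun _ => (Cert rels S Gen.i)) lc_i_rc_40_1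 lc_i_rc_8_1 lc_i_rc_16_1 lc_i_rc_29_1 lc_i_rc_23_1 lc_i_rc_34_1 lc_i_rc_8_1 lc_i_rc_16_1 lc_i_rc_23_1 lc_i_rc_23_1 lc_i_rc_34_1 lc_i_rc_16_1 lc_i_rc_23_1 lc_i_rc_40_1 lc_i_rc_16_1 lc_i_rc_8_1 lc_i_rc_8_1 lc_i_rc_23_1 lc_i_rc_16_1 lc_i_rc_34_1 lc_i_rc_16_1 lc_i_rc_40_1 lc_i_rc_23_1 lc_i_rc_40_1 lc_i_rc_29_1 lc_i_rc_23_1 lc_i_rc_43_1 lc_i_rc_23_1 lc_i_rc_34_1 lc_i_rc_23_1 lc_i_rc_23_1 lc_i_rc_8_3) (@D3.rec (fun _ => (Cert rels S Gen.i)) lc_i_rc_40_1 lc_i_rc_40_1 lc_i_rc_43_1 lc_i_rc_43_1 lc_i_rc_40_1 lc_i_rc_23_1 lc_i_rc_29_3 lc_i_rc_40_1 lc_i_rc_40_1 lc_i_rc_43_1 lc_i_rc_43_1 lc_i_rc_34_1 lc_i_rc_8_1 lc_i_rc_36_1 lc_i_rc_34_1 lc_i_rc_23_1 lc_i_rc_40_1 lc_i_rc_16_1 lc_i_rc_23_1 lc_i_rc_40_1 lc_i_rc_16_1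 lc_i_rc_23_1 lc_i_rc_43_1 lc_i_rc_23_1 lc_i_rc_34_1 lc_i_rc_16_1 lc_i_rc_8_1 lc_i_rc_34_1 lc_i_rc_40_1 lc_i_rc_40_1 lc_i_rc_40_1 lc_i_rc_16_1) (@D3.rec (fun _ => (Cert rels S Gen.i)) lc_i_rc_43_1 lc_i_rc_29_1 lc_i_rc_23_1 lc_i_rc_43_1 lc_i_rc_8_3 lc_i_rc_36_3 lc_i_rc_29_1 lc_i_rc_23_1 lc_i_rc_40_1 lc_i_rc_23_1 lc_i_rc_34_3 lc_i_rc_23_1 lc_i_rc_40_1 lc_i_rc_40_3 lc_i_rc_43_1 lc_i_rc_34_3 lc_i_rc_23_1 lc_i_rc_29_1 lc_i_rc_34_1 lc_i_rc_16_1 lc_i_rc_8_1 lc_i_rc_16_1 lc_i_rc_23_1 lc_i_rc_29_1 lc_i_rc_29_1 lc_i_rc_23_1 lc_i_rc_16_1 lc_i_rc_16_1 lc_i_rc_23_1 lc_i_rc_40_1 lc_i_rc_16_1 lc_i_rc_23_1) (@D3.rec (fun _ => (Cert rels S Gen.i)) lc_i_rc_34_1 lc_i_rc_8_1 lc_i_rc_16_1 lc_i_rc_23_1 lc_i_rc_29_1 lc_i_rc_8_1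 lc_i_rc_16_1 lc_i_rc_29_1 lc_i_rc_29_1 lc_i_Cert_tree lc_i_rc_23_1 lc_i_rc_16_1 lc_i_rc_23_1 lc_i_rc_40_1 lc_i_rc_16_1 lc_i_rc_29_1 lc_i_rc_23_1 lc_i_rc_43_1 lc_i_rc_16_1 lc_i_rc_23_1 lc_i_rc_16_1 lc_i_rc_23_1 lc_i_rc_40_1 lc_i_rc_16_1 lc_i_rc_29_1 lc_i_rc_23_1 lc_i_rc_43_1 lc_i_rc_16_1 lc_i_rc_29_1 lc_i_Cert_tree lc_i_rc_23_1 lc_i_rc_29_1) (@D3.rec (fun _ => (Cert rels S Gen.i)) lc_i_rc_29_1 lc_i_Cert_tree lc_i_rc_44_0 lc_i_rc_40_1 lc_i_rc_23_1 lc_i_rc_40_1 lc_i_rc_23_1 lc_i_rc_43_1 lc_i_rc_8_1 lc_i_rc_16_1 lc_i_rc_29_1 lc_i_rc_23_1 lc_i_rc_43_1 lc_i_rc_8_1 lc_i_rc_16_1 lc_i_rc_16_1 lc_i_rc_29_1 lc_i_rc_23_1 lc_i_rc_23_1 lc_i_rc_16_1 lc_i_rc_8_1 lc_i_rc_16_1 lc_i_rc_8_1 lc_i_rc_44_0 lc_i_rc_44_0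 lc_i_rc_23_1 lc_i_rc_34_3 lc_i_rc_16_1 lc_i_rc_23_1 lc_i_rc_40_1 lc_i_rc_8_1 lc_i_rc_16_1) (@D3.rec (fun _ => (Cert rels S Gen.i)) lc_i_rc_29_1 lc_i_rc_23_1 lc_i_rc_43_1 lc_i_rc_23_1 lc_i_rc_40_1 lc_i_rc_8_1 lc_i_rc_16_1 lc_i_rc_29_1 lc_i_rc_23_1 lc_i_rc_34_1 lc_i_rc_8_1 lc_i_rc_16_1 lc_i_rc_23_1 lc_i_rc_23_1 lc_i_rc_29_3 lc_i_rc_23_1 lc_i_rc_40_1 lc_i_rc_29_1 lc_i_rc_23_1 lc_i_rc_43_1 lc_i_rc_29_1 lc_i_rc_23_1 lc_i_rc_43_1 lc_i_rc_29_1 lc_i_rc_23_1 lc_i_rc_23_1 lc_i_rc_34_1 lc_i_rc_40_1 lc_i_rc_23_1 lc_i_rc_29_1 lc_i_rc_16_1 lc_i_rc_29_1) (@D3.rec (fun _ => (Cert rels S Gen.i)) lc_i_rc_23_1 lc_i_rc_43_1 lc_i_rc_16_1 lc_i_rc_29_1 lc_i_rc_23_1 lc_i_rc_8_1 lc_i_rc_16_1 lc_i_rc_16_1 lc_i_rc_29_1 lc_i_rc_36_3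 lc_i_rc_23_1 lc_i_rc_8_1 lc_i_rc_8_1 lc_i_rc_16_1 lc_i_rc_16_1 lc_i_rc_29_1 lc_i_rc_23_1 lc_i_rc_8_3 lc_i_rc_40_3 lc_i_rc_40_1 lc_i_rc_23_1 lc_i_rc_8_1 lc_i_rc_16_1 lc_i_rc_23_1 lc_i_rc_29_1 lc_i_rc_16_1 lc_i_rc_23_1 lc_i_rc_40_1 lc_i_rc_29_1 lc_i_rc_23_1 lc_i_rc_34_1 lc_i_rc_16_1) (@D3.rec (fun _ => (Cert rels S Gen.i)) lc_i_rc_23_1 lc_i_rc_34_1 lc_i_rc_16_1 lc_i_rc_23_1 lc_i_rc_36_1 lc_i_rc_8_1 lc_i_rc_16_1 lc_i_rc_23_1 lc_i_rc_36_1 lc_i_rc_34_3 lc_i_rc_43_1 lc_i_rc_23_1 lc_i_rc_40_1 lc_i_rc_23_1 lc_i_rc_40_1 lc_i_rc_23_1 lc_i_rc_40_1 lc_i_rc_8_1 lc_i_rc_8_1 lc_i_rc_40_1 lc_i_rc_16_1 lc_i_rc_29_1 lc_i_rc_8_3 lc_i_rc_23_1 lc_i_rc_23_1 lc_i_rc_40_1 lc_i_rc_23_1 lc_i_rc_40_1 lc_i_rc_23_1 lc_i_rc_29_1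 lc_i_rc_23_1 lc_i_rc_43_1) (@D3.rec (fun _ => (Cert rels S Gen.i)) lc_i_rc_23_1 lc_i_rc_34_1 lc_i_rc_16_1 lc_i_rc_23_1 lc_i_rc_34_1 lc_i_rc_23_1 lc_i_rc_34_1 lc_i_rc_40_1 lc_i_rc_23_1 lc_i_rc_23_1 lc_i_rc_40_1 lc_i_rc_34_1 lc_i_rc_8_1 lc_i_rc_34_1 lc_i_rc_23_1 lc_i_rc_34_1 lc_i_rc_29_1 lc_i_rc_23_1 lc_i_rc_40_1 lc_i_rc_40_1 lc_i_rc_43_1 lc_i_rc_23_1 lc_i_rc_43_1 lc_i_rc_8_1 lc_i_rc_34_3 lc_i_rc_23_1 lc_i_rc_34_1 lc_i_rc_23_1 lc_i_rc_8_1 lc_i_rc_16_1 lc_i_rc_40_1 lc_i_rc_40_1) (@D3.rec (fun _ => (Cert rels S Gen.i)) lc_i_rc_16_1 lc_i_rc_43_1 lc_i_rc_34_1 lc_i_rc_34_1 lc_i_rc_23_1 lc_i_rc_40_1 lc_i_rc_16_1 lc_i_rc_29_1 lc_i_rc_23_1 lc_i_rc_40_1 lc_i_rc_8_3 lc_i_rc_8_3 lc_i_rc_36_1 lc_i_rc_34_1 lc_i_rc_23_1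 lc_i_rc_16_1 lc_i_rc_23_1 lc_i_rc_16_1 lc_i_rc_16_1 lc_i_rc_29_1 lc_i_rc_23_1 lc_i_rc_34_3 lc_i_rc_16_1 lc_i_rc_23_1 lc_i_rc_40_1 lc_i_rc_23_1 lc_i_rc_40_1 lc_i_rc_23_1 lc_i_rc_43_1 lc_i_rc_34_1 lc_i_rc_23_1 lc_i_rc_8_1) (@D3.rec (fun _ => (Cert rels S Gen.i)) lc_i_rc_8_1 lc_i_rc_8_3 lc_i_rc_16_1 lc_i_rc_23_1 lc_i_rc_40_1 lc_i_rc_16_1 lc_i_rc_29_1 lc_i_rc_23_1 lc_i_rc_43_1 lc_i_rc_8_1 lc_i_rc_16_1 lc_i_rc_29_1 lc_i_rc_23_1 lc_i_rc_43_1 lc_i_rc_8_1 lc_i_rc_16_1 lc_i_rc_16_1 lc_i_rc_29_1 lc_i_rc_23_1 lc_i_rc_40_1 lc_i_rc_16_1 lc_i_rc_23_1 lc_i_rc_8_1 lc_i_rc_16_1 lc_i_rc_29_1 lc_i_rc_23_1 lc_i_rc_34_1 lc_i_rc_23_1 lc_i_rc_16_1 lc_i_rc_29_1 lc_i_rc_23_1 lc_i_rc_43_1) (@D3.rec (fun _ => (Cert rels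 S Gen.i)) lc_i_rc_16_1 lc_i_rc_23_1 lc_i_rc_29_1 lc_i_rc_16_1 lc_i_rc_29_1 lc_i_rc_23_1 lc_i_rc_36_3 lc_i_rc_8_1 lc_i_rc_16_1 lc_i_rc_23_1 lc_i_rc_34_1 lc_i_rc_16_1 lc_i_rc_29_1 lc_i_rc_23_1 lc_i_rc_16_1 lc_i_rc_40_1 lc_i_rc_23_1 lc_i_rc_40_1 lc_i_rc_29_1 lc_i_rc_23_1 lc_i_rc_43_1 lc_i_rc_40_1 lc_i_rc_23_1 lc_i_rc_34_1 lc_i_rc_40_1 lc_i_rc_23_1 lc_i_rc_16_1 lc_i_rc_23_1 lc_i_rc_40_1 lc_i_rc_29_1 lc_i_rc_23_1 lc_i_rc_43_1)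
def ce_i_18 : D2 → D3 → (Cert rels S Gen.i) := @D2.rec (fun _ => D3 → (Cert rels S Gen.i)) (@D3.rec (fun _ => (Cert rels S Gen.i)) lc_i_rc_16_1 lc_i_rc_29_1 lc_i_rc_23_1 lc_i_rc_43_1 lc_i_rc_16_1 lc_i_rc_16_1 lc_i_rc_29_1 lc_i_rc_23_1 lc_i_rc_23_1 lc_i_rc_34_1 lc_i_rc_8_1 lc_i_Cert_tree lc_i_rc_8_1 lc_i_rc_8_3 lc_i_rc_40_1 lc_i_rc_8_3 lc_i_rc_16_1 lc_i_rc_23_1 lc_i_rc_43_1 lc_i_rc_16_1 lc_i_rc_23_1 lc_i_rc_8_1 lc_i_rc_16_1 lc_i_rc_16_1 lc_i_rc_29_1 lc_i_rc_36_3 lc_i_rc_23_1 lc_i_rc_8_1 lc_i_rc_8_1 lc_i_rc_23_1 lc_i_rc_16_1 lc_i_rc_16_1) (@D3.rec (fun _ => (Cert rels S Gen.i)) lc_i_rc_29_1 lc_i_rc_16_1 lc_i_rc_8_1 lc_i_rc_8_1 lc_i_rc_23_1 lc_i_rc_16_1 lc_i_rc_8_1 lc_i_rc_44_0 lc_i_rc_23_1 lc_i_rc_23_1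 lc_i_rc_43_1 lc_i_rc_29_1 lc_i_rc_23_1 lc_i_rc_34_3 lc_i_rc_40_1 lc_i_rc_23_1 lc_i_rc_34_1 lc_i_rc_29_1 lc_i_rc_23_1 lc_i_rc_34_3 lc_i_rc_23_1 lc_i_rc_40_1 lc_i_rc_8_1 lc_i_rc_16_1 lc_i_rc_23_1 lc_i_rc_23_1 lc_i_rc_29_1 lc_i_rc_29_1 lc_i_rc_23_1 lc_i_rc_40_1 lc_i_rc_43_1 lc_i_rc_8_1) (@D3.rec (fun _ => (Cert rels S Gen.i)) lc_i_rc_16_1 lc_i_rc_29_1 lc_i_rc_23_1 lc_i_rc_34_1 lc_i_rc_8_1 lc_i_rc_16_1 lc_i_rc_23_1 lc_i_rc_16_1 lc_i_rc_23_1 lc_i_rc_8_1 lc_i_rc_8_3 lc_i_rc_40_1 lc_i_rc_40_1 lc_i_rc_43_1 lc_i_rc_43_1 lc_i_rc_29_1 lc_i_rc_23_1 lc_i_rc_43_1 lc_i_rc_44_0 lc_i_rc_29_1 lc_i_rc_23_1 lc_i_rc_40_3 lc_i_rc_34_1 lc_i_rc_16_1 lc_i_Cert_tree lc_i_rc_44_0 lc_i_rc_34_3 lc_i_rc_43_1 lc_i_rc_23_1 lc_i_rc_40_1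 lc_i_rc_29_1 lc_i_rc_23_1) (@D3.rec (fun _ => (Cert rels S Gen.i)) lc_i_rc_43_1 lc_i_rc_16_3 lc_i_rc_23_1 lc_i_rc_40_1 lc_i_rc_23_1 lc_i_rc_40_1 lc_i_rc_29_1 lc_i_rc_23_1 lc_i_rc_43_1 lc_i_rc_29_1 lc_i_rc_23_1 lc_i_rc_43_1 lc_i_rc_29_1 lc_i_rc_23_1 lc_i_rc_8_1 lc_i_Cert_tree lc_i_rc_44_0 lc_i_rc_40_1 lc_i_rc_40_3 lc_i_rc_43_1 lc_i_rc_16_3 lc_i_rc_29_1 lc_i_rc_23_1 lc_i_rc_29_1 lc_i_rc_23_1 lc_i_rc_29_1 lc_i_rc_23_1 lc_i_rc_43_1 lc_i_rc_29_1 lc_i_rc_23_1 lc_i_rc_43_1 lc_i_rc_29_1) (@D3.rec (fun _ => (Cert rels S Gen.i)) lc_i_rc_23_1 lc_i_rc_40_1 lc_i_rc_43_1 lc_i_rc_43_1 lc_i_rc_40_3 lc_i_rc_16_1 lc_i_rc_23_1 lc_i_rc_34_1 lc_i_rc_40_1 lc_i_rc_34_3 lc_i_rc_16_1 lc_i_rc_23_1 lc_i_rc_40_1 lc_i_rc_8_1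 lc_i_rc_16_1 lc_i_rc_29_1 lc_i_rc_23_1 lc_i_rc_43_1 lc_i_rc_40_1 lc_i_rc_40_3 lc_i_rc_16_1 lc_i_rc_23_1 lc_i_rc_29_3 lc_i_rc_16_1 lc_i_rc_23_1 lc_i_rc_40_1 lc_i_rc_16_1 lc_i_rc_34_1 lc_i_rc_23_1 lc_i_rc_43_1 lc_i_rc_8_1 lc_i_rc_16_1) (@D3.rec (fun _ => (Cert rels S Gen.i)) lc_i_rc_23_1 lc_i_rc_43_1 lc_i_rc_8_1 lc_i_rc_16_1 lc_i_rc_23_1 lc_i_rc_23_1 lc_i_rc_40_1 lc_i_rc_16_1 lc_i_rc_29_1 lc_i_rc_23_1 lc_i_rc_8_1 lc_i_rc_16_1 lc_i_rc_16_1 lc_i_rc_23_1 lc_i_rc_40_1 lc_i_rc_16_1 lc_i_rc_29_1 lc_i_rc_23_1 lc_i_rc_43_1 lc_i_rc_16_1 lc_i_rc_8_1 lc_i_rc_23_1 lc_i_rc_16_1 lc_i_rc_40_1 lc_i_rc_16_1 lc_i_rc_16_1 lc_i_rc_43_1 lc_i_rc_29_1 lc_i_rc_23_1 lc_i_rc_43_1 lc_i_rc_29_1 lc_i_rc_23_1) (@D3.rec (fun _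 => (Cert rels S Gen.i)) lc_i_rc_23_1 lc_i_rc_23_1 lc_i_rc_8_3 lc_i_rc_40_3 lc_i_rc_43_1 lc_i_rc_23_1 lc_i_rc_29_3 lc_i_rc_40_3 lc_i_rc_43_1 lc_i_rc_8_1 lc_i_rc_40_1 lc_i_rc_40_1 lc_i_rc_23_1 lc_i_rc_43_1 lc_i_rc_16_1 lc_i_rc_23_1 lc_i_rc_43_1 lc_i_rc_16_1 lc_i_rc_23_1 lc_i_rc_23_1 lc_i_rc_16_1 lc_i_rc_23_1 lc_i_rc_40_1 lc_i_rc_40_3 lc_i_rc_43_1 lc_i_rc_16_1 lc_i_rc_29_1 lc_i_rc_23_1 lc_i_rc_8_3 lc_i_rc_36_3 lc_i_rc_29_1 lc_i_rc_29_1) (@D3.rec (fun _ => (Cert rels S Gen.i)) lc_i_rc_8_1 lc_i_rc_16_1 lc_i_rc_23_1 lc_i_rc_23_1 lc_i_rc_29_1 lc_i_rc_29_1 lc_i_Cert_tree lc_i_rc_23_1 lc_i_rc_16_3 lc_i_rc_16_1 lc_i_rc_23_3 lc_i_rc_23_1 lc_i_rc_43_1 lc_i_rc_8_1 lc_i_rc_16_1 lc_i_rc_29_1 lc_i_rc_23_1 lc_i_rc_34_1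 lc_i_rc_8_1 lc_i_rc_16_1 lc_i_rc_23_1 lc_i_rc_16_1 lc_i_rc_29_1 lc_i_Cert_tree lc_i_rc_44_0 lc_i_rc_16_1 lc_i_rc_29_1 lc_i_rc_23_1 lc_i_rc_43_1 lc_i_rc_16_1 lc_i_rc_16_1 lc_i_rc_29_1) (@D3.rec (fun _ => (Cert rels S Gen.i)) lc_i_rc_23_1 lc_i_rc_16_1 lc_i_rc_16_1 lc_i_rc_29_1 lc_i_rc_23_1 lc_i_rc_43_1 lc_i_rc_16_1 lc_i_rc_16_1 lc_i_rc_29_1 lc_i_Cert_tree lc_i_rc_23_1 lc_i_rc_16_1 lc_i_rc_29_1 lc_i_Cert_tree lc_i_rc_44_0 lc_i_rc_8_1 lc_i_Cert_tree lc_i_Cert_tree lc_i_rc_44_0 lc_i_rc_43_1 lc_i_rc_23_1 lc_i_rc_43_1 lc_i_rc_23_1 lc_i_rc_8_1 lc_i_rc_16_1 lc_i_rc_16_1 lc_i_rc_29_1 lc_i_rc_23_1 lc_i_rc_8_1 lc_i_rc_16_1 lc_i_rc_16_1 lc_i_rc_29_1) (@D3.rec (fun _ => (Cert rels S Gen.i)) lc_i_rc_8_1 lc_i_rc_29_1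 lc_i_rc_23_1 lc_i_rc_34_3 lc_i_rc_8_1 lc_i_rc_16_1 lc_i_rc_29_1 lc_i_rc_23_1 lc_i_rc_43_1 lc_i_rc_8_1 lc_i_rc_16_1 lc_i_rc_16_1 lc_i_rc_29_1 lc_i_rc_23_1 lc_i_rc_23_1 lc_i_rc_40_1 lc_i_rc_34_1 lc_i_rc_16_1 lc_i_rc_29_1 lc_i_rc_23_1 lc_i_rc_8_1 lc_i_rc_16_1 lc_i_rc_23_3 lc_i_rc_23_1 lc_i_rc_29_3 lc_i_rc_29_1 lc_i_rc_23_1 lc_i_rc_43_1 lc_i_rc_29_1 lc_i_rc_23_1 lc_i_rc_29_1 lc_i_rc_36_3) (@D3.rec (fun _ => (Cert rels S Gen.i)) lc_i_rc_23_1 lc_i_rc_34_1 lc_i_rc_29_1 lc_i_rc_34_1 lc_i_rc_23_1 lc_i_rc_16_1 lc_i_rc_29_1 lc_i_rc_23_1 lc_i_rc_16_1 lc_i_rc_29_1 lc_i_rc_8_1 lc_i_rc_8_1 lc_i_rc_16_1 lc_i_rc_16_1 lc_i_rc_16_1 lc_i_rc_29_1 lc_i_rc_36_3 lc_i_rc_8_1 lc_i_rc_8_1 lc_i_rc_16_1 lc_i_rc_44_0 lc_i_rc_8_1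 lc_i_rc_23_1 lc_i_rc_23_1 lc_i_rc_29_1 lc_i_rc_16_1 lc_i_rc_29_1 lc_i_rc_23_1 lc_i_rc_36_1 lc_i_rc_29_1 lc_i_rc_8_3 lc_i_rc_23_1) (@D3.rec (fun _ => (Cert rels S Gen.i)) lc_i_rc_16_1 lc_i_rc_29_1 lc_i_rc_23_1 lc_i_rc_34_1 lc_i_rc_16_1 lc_i_rc_29_1 lc_i_rc_23_1 lc_i_rc_36_1 lc_i_rc_8_1 lc_i_rc_16_1 lc_i_rc_23_1 lc_i_rc_16_1 lc_i_rc_23_1 lc_i_rc_29_1 lc_i_rc_23_1 lc_i_rc_40_3 lc_i_rc_23_1 lc_i_rc_8_1 lc_i_rc_43_1 lc_i_rc_29_1 lc_i_rc_8_3 lc_i_rc_29_1 lc_i_rc_23_1 lc_i_rc_40_3 lc_i_rc_29_1 lc_i_rc_23_1 lc_i_rc_43_1 lc_i_rc_34_3 lc_i_rc_34_3 lc_i_rc_29_1 lc_i_rc_23_1 lc_i_rc_23_1) (@D3.rec (fun _ => (Cert rels S Gen.i)) lc_i_rc_16_1 lc_i_rc_23_1 lc_i_rc_43_1 lc_i_rc_34_1 lc_i_rc_23_1 lc_i_rc_43_1 lc_i_rc_43_1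 lc_i_rc_23_1 lc_i_rc_8_1 lc_i_rc_23_1 lc_i_rc_8_1 lc_i_rc_34_1 lc_i_rc_34_1 lc_i_rc_29_1 lc_i_rc_23_1 lc_i_rc_40_1 lc_i_rc_16_1 lc_i_rc_16_1 lc_i_rc_29_1 lc_i_rc_23_1 lc_i_rc_8_3 lc_i_rc_8_3 lc_i_rc_16_1 lc_i_rc_36_1 lc_i_rc_23_1 lc_i_rc_16_1 lc_i_rc_16_1 lc_i_rc_16_1 lc_i_rc_29_1 lc_i_rc_23_1 lc_i_rc_16_1 lc_i_rc_43_1) (@D3.rec (fun _ => (Cert rels S Gen.i)) lc_i_rc_23_1 lc_i_rc_43_1 lc_i_rc_23_1 lc_i_rc_8_1 lc_i_rc_8_1 lc_i_rc_8_1 lc_i_rc_8_3 lc_i_rc_16_1 lc_i_rc_29_1 lc_i_rc_23_1 lc_i_rc_43_1 lc_i_rc_16_1 lc_i_rc_16_1 lc_i_rc_29_1 lc_i_rc_23_1 lc_i_rc_8_1 lc_i_rc_16_1 lc_i_rc_16_1 lc_i_rc_29_1 lc_i_rc_36_3 lc_i_rc_23_1 lc_i_rc_8_1 lc_i_rc_8_1 lc_i_rc_16_1 lc_i_rc_16_1 lc_i_rc_34_1 lc_i_rc_29_1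 lc_i_rc_16_1 lc_i_rc_8_1 lc_i_rc_29_1 lc_i_rc_23_1 lc_i_rc_16_1) (@D3.rec (fun _ => (Cert rels S Gen.i)) lc_i_rc_16_1 lc_i_rc_29_1 lc_i_rc_23_1 lc_i_rc_8_1 lc_i_rc_29_1 lc_i_rc_16_1 lc_i_rc_29_1 lc_i_rc_23_1 lc_i_rc_8_1 lc_i_rc_16_1 lc_i_rc_16_1 lc_i_rc_29_1 lc_i_rc_40_3 lc_i_rc_29_1 lc_i_rc_23_1 lc_i_rc_43_1 lc_i_rc_29_1 lc_i_rc_23_1 lc_i_rc_29_1 lc_i_rc_23_1 lc_i_rc_40_1 lc_i_rc_29_1 lc_i_rc_23_1 lc_i_rc_16_1 lc_i_rc_29_1 lc_i_rc_23_1 lc_i_rc_43_1 lc_i_rc_29_1 lc_i_Cert_tree lc_i_rc_23_1 lc_i_rc_16_1 lc_i_rc_16_1) (@D3.rec (fun _ => (Cert rels S Gen.i)) lc_i_rc_29_1 lc_i_rc_23_1 lc_i_rc_23_1 lc_i_rc_16_1 lc_i_rc_16_1 lc_i_rc_34_1 lc_i_rc_29_1 lc_i_rc_23_1 lc_i_rc_29_1 lc_i_Cert_tree lc_i_rc_44_0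 lc_i_rc_16_1 lc_i_rc_23_1 lc_i_rc_16_1 lc_i_rc_8_1 lc_i_rc_8_1 lc_i_rc_23_1 lc_i_rc_16_1 lc_i_rc_16_1 lc_i_rc_16_1 lc_i_rc_29_1 lc_i_rc_36_3 lc_i_rc_8_1 lc_i_rc_8_1 lc_i_rc_8_1 lc_i_rc_23_1 lc_i_rc_16_1 lc_i_rc_8_1 lc_i_rc_8_1 lc_i_rc_29_1 lc_i_rc_23_1 lc_i_rc_29_1) (@D3.rec (fun _ => (Cert rels S Gen.i)) lc_i_rc_23_1 lc_i_rc_34_1 lc_i_rc_29_1 lc_i_rc_23_1 lc_i_rc_23_1 lc_i_rc_23_1 lc_i_rc_43_1 lc_i_rc_8_1 lc_i_rc_16_1 lc_i_rc_16_1 lc_i_rc_23_1 lc_i_rc_23_1 lc_i_rc_34_1 lc_i_rc_29_1 lc_i_rc_43_1 lc_i_rc_8_1 lc_i_rc_16_1 lc_i_rc_16_1 lc_i_rc_29_1 lc_i_rc_23_1 lc_i_rc_8_1 lc_i_rc_16_1 lc_i_rc_43_1 lc_i_rc_43_1 lc_i_rc_29_1 lc_i_rc_23_1 lc_i_rc_29_1 lc_i_rc_23_1 lc_i_Cert_tree lc_i_rc_44_0 lc_i_rc_29_1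 lc_i_rc_23_1) (@D3.rec (fun _ => (Cert rels S Gen.i)) lc_i_rc_43_1 lc_i_rc_29_1 lc_i_rc_23_1 lc_i_rc_29_1 lc_i_rc_23_1 lc_i_rc_40_1 lc_i_rc_29_1 lc_i_rc_23_1 lc_i_rc_43_1 lc_i_rc_29_1 lc_i_rc_23_1 lc_i_rc_29_1 lc_i_rc_16_1 lc_i_rc_23_1 lc_i_rc_34_1 lc_i_rc_29_1 lc_i_rc_44_0 lc_i_rc_29_1 lc_i_rc_29_1 lc_i_rc_23_1 lc_i_rc_29_1 lc_i_rc_23_1 lc_i_rc_34_1 lc_i_rc_29_1 lc_i_rc_34_3 lc_i_rc_16_1 lc_i_rc_34_1 lc_i_rc_34_3 lc_i_rc_8_1 lc_i_rc_16_1 lc_i_rc_29_1 lc_i_rc_23_1) (@D3.rec (fun _ => (Cert rels S Gen.i)) lc_i_rc_43_1 lc_i_rc_8_1 lc_i_rc_16_1 lc_i_rc_16_1 lc_i_rc_29_1 lc_i_rc_23_1 lc_i_rc_34_1 lc_i_rc_16_1 lc_i_rc_29_3 lc_i_rc_16_1 lc_i_rc_23_1 lc_i_rc_43_1 lc_i_rc_16_1 lc_i_rc_34_1 lc_i_rc_23_1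 lc_i_rc_8_1 lc_i_rc_16_1 lc_i_rc_23_1 lc_i_rc_8_1 lc_i_rc_16_1 lc_i_rc_23_1 lc_i_rc_16_1 lc_i_rc_29_1 lc_i_rc_8_1 lc_i_rc_16_1 lc_i_rc_29_1 lc_i_rc_23_1 lc_i_rc_43_1 lc_i_rc_16_1 lc_i_rc_16_1 lc_i_rc_29_1 lc_i_rc_23_1) (@D3.rec (fun _ => (Cert rels S Gen.i)) lc_i_rc_16_1 lc_i_rc_29_1 lc_i_rc_23_1 lc_i_rc_16_1 lc_i_rc_43_1 lc_i_rc_16_1 lc_i_rc_16_1 lc_i_rc_29_1 lc_i_rc_23_1 lc_i_rc_34_1 lc_i_rc_29_1 lc_i_rc_23_1 lc_i_rc_23_1 lc_i_rc_8_1 lc_i_rc_43_1 lc_i_rc_43_1 lc_i_rc_23_1 lc_i_rc_16_1 lc_i_rc_23_1 lc_i_rc_16_1 lc_i_rc_34_1 lc_i_rc_29_1 lc_i_rc_8_3 lc_i_rc_8_1 lc_i_rc_16_1 lc_i_rc_16_1 lc_i_rc_23_1 lc_i_rc_34_3 lc_i_rc_23_1 lc_i_rc_34_1 lc_i_rc_29_1 lc_i_Cert_tree) (@D3.rec (fun _ => (Cert rels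 S Gen.i)) lc_i_rc_44_0 lc_i_rc_16_3 lc_i_rc_16_1 lc_i_rc_16_1 lc_i_rc_23_3 lc_i_rc_23_1 lc_i_rc_8_1 lc_i_rc_16_1 lc_i_rc_16_1 lc_i_rc_29_1 lc_i_rc_23_1 lc_i_rc_8_1 lc_i_rc_16_1 lc_i_Cert_tree lc_i_rc_44_0 lc_i_rc_16_1 lc_i_rc_16_1 lc_i_rc_29_1 lc_i_rc_23_1 lc_i_rc_23_1 lc_i_rc_16_1 lc_i_rc_16_1 lc_i_rc_34_1 lc_i_rc_29_1 lc_i_rc_16_1 lc_i_rc_16_1 lc_i_rc_29_1 lc_i_rc_29_1 lc_i_rc_23_1 lc_i_rc_16_1 lc_i_rc_16_1 lc_i_rc_34_1) (@D3.rec (fun _ => (Cert rels S Gen.i)) lc_i_rc_29_1 lc_i_Cert_tree lc_i_rc_44_0 lc_i_Cert_tree lc_i_rc_44_0 lc_i_Cert_tree lc_i_Cert_tree lc_i_rc_44_0 lc_i_rc_44_0 lc_i_rc_23_1 lc_i_rc_8_1 lc_i_rc_16_1 lc_i_rc_16_1 lc_i_rc_29_1 lc_i_rc_16_1 lc_i_rc_29_1 lc_i_rc_23_1 lc_i_rc_8_1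 lc_i_rc_16_1 lc_i_rc_16_1 lc_i_rc_29_1 lc_i_rc_23_1 lc_i_rc_29_1 lc_i_rc_8_1 lc_i_rc_16_1 lc_i_rc_16_1 lc_i_rc_34_1 lc_i_rc_29_1 lc_i_rc_23_1 lc_i_rc_34_1 lc_i_rc_16_1 lc_i_rc_29_1)
def ce_i_19 : D2 → D3 → (Cert rels S Gen.i) := @D2.rec (fun _ => D3 → (Cert rels S Gen.i)) (@D3.rec (fun _ => (Cert rels S Gen.i)) lc_i_rc_8_1 lc_i_rc_23_3 lc_i_rc_23_1 lc_i_rc_29_1 lc_i_rc_23_1 lc_i_rc_34_1 lc_i_rc_29_1 lc_i_rc_34_1 lc_i_rc_29_1 lc_i_rc_36_3 lc_i_rc_34_1 lc_i_rc_16_1 lc_i_rc_29_1 lc_i_rc_8_1 lc_i_rc_8_1 lc_i_rc_8_1 lc_i_rc_16_1 lc_i_rc_16_1 lc_i_rc_36_3 lc_i_rc_8_1 lc_i_rc_23_1 lc_i_rc_23_1 lc_i_rc_16_1 lc_i_rc_16_1 lc_i_rc_29_1 lc_i_rc_23_1 lc_i_rc_29_1 lc_i_rc_29_1 lc_i_rc_8_3 lc_i_rc_16_1 lc_i_rc_16_1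 lc_i_rc_29_1) (@D3.rec (fun _ => (Cert rels S Gen.i)) lc_i_rc_23_1 lc_i_rc_16_1 lc_i_rc_29_1 lc_i_rc_16_1 lc_i_rc_23_1 lc_i_rc_8_1 lc_i_rc_16_1 lc_i_rc_29_1 lc_i_rc_23_1 lc_i_rc_8_3 lc_i_rc_29_1 lc_i_rc_23_1 lc_i_rc_29_1 lc_i_rc_23_1 lc_i_rc_29_1 lc_i_rc_23_1 lc_i_rc_34_1 lc_i_rc_29_1 lc_i_rc_8_1 lc_i_rc_29_1 lc_i_rc_16_1 lc_i_rc_23_1 lc_i_rc_16_1 lc_i_rc_16_1 lc_i_rc_34_1 lc_i_rc_29_1 lc_i_rc_8_3 lc_i_rc_16_1 lc_i_rc_23_1 lc_i_rc_16_1 lc_i_rc_16_1 lc_i_rc_29_3) (@D3.rec (fun _ => (Cert rels S Gen.i)) lc_i_rc_29_1 lc_i_rc_23_1 lc_i_rc_8_1 lc_i_rc_8_1 lc_i_rc_16_1 lc_i_rc_16_1 lc_i_rc_29_1 lc_i_rc_23_1 lc_i_rc_36_3 lc_i_rc_16_1 lc_i_rc_16_1 lc_i_rc_34_1 lc_i_rc_29_1 lc_i_rc_8_1 lc_i_rc_8_1 lc_i_rc_16_1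 lc_i_rc_16_1 lc_i_rc_16_1 lc_i_rc_34_1 lc_i_rc_29_1 lc_i_rc_36_3 lc_i_rc_8_1 lc_i_rc_8_1 lc_i_rc_16_1 lc_i_rc_16_1 lc_i_rc_34_1 lc_i_rc_29_1 lc_i_rc_29_1 lc_i_rc_16_1 lc_i_rc_16_1 lc_i_rc_34_1 lc_i_rc_29_1) (@D3.rec (fun _ => (Cert rels S Gen.i)) lc_i_rc_16_1 lc_i_rc_29_1 lc_i_rc_8_1 lc_i_rc_29_1 lc_i_rc_23_1 lc_i_rc_34_1 lc_i_rc_29_1 lc_i_rc_40_1 lc_i_rc_34_1 lc_i_rc_29_1 lc_i_rc_23_1 lc_i_rc_29_1 lc_i_rc_23_1 lc_i_rc_34_1 lc_i_rc_29_1 lc_i_Cert_tree lc_i_rc_44_0 lc_i_rc_23_1 lc_i_rc_16_1 lc_i_rc_16_1 lc_i_rc_34_1 lc_i_rc_29_1 lc_i_rc_23_1 lc_i_rc_16_1 lc_i_rc_16_1 lc_i_rc_34_1 lc_i_Cert_tree lc_i_rc_44_0 lc_i_rc_16_1 lc_i_rc_8_1 lc_i_rc_8_1 lc_i_rc_8_1) (@D3.rec (fun _ => (Cert rels S Gen.i))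 lc_i_rc_8_1 lc_i_rc_23_1 lc_i_rc_16_1 lc_i_rc_16_1 lc_i_rc_36_3 lc_i_rc_8_1 lc_i_rc_8_1 lc_i_rc_23_1 lc_i_rc_29_3 lc_i_rc_29_1 lc_i_rc_29_1 lc_i_rc_23_1 lc_i_rc_29_3 lc_i_rc_29_1 lc_i_rc_23_1 lc_i_rc_23_1 lc_i_rc_8_1 lc_i_rc_16_1 lc_i_rc_16_1 lc_i_rc_23_1 lc_i_rc_23_1 lc_i_rc_34_1 lc_i_rc_8_1 lc_i_rc_16_1 lc_i_rc_16_1 lc_i_rc_29_1 lc_i_rc_8_1 lc_i_rc_34_1 lc_i_rc_29_1 lc_i_rc_34_1 lc_i_rc_29_1 lc_i_rc_44_0) (@D3.rec (fun _ => (Cert rels S Gen.i)) lc_i_rc_29_1 lc_i_rc_23_1 lc_i_rc_23_1 lc_i_rc_34_1 lc_i_rc_29_1 lc_i_rc_29_1 lc_i_rc_23_1 lc_i_rc_29_1 lc_i_rc_23_1 lc_i_rc_34_1 lc_i_rc_29_1 lc_i_rc_34_1 lc_i_rc_29_1 lc_i_rc_29_1 lc_i_rc_34_1 lc_i_rc_34_1 lc_i_rc_29_1 lc_i_rc_34_1 lc_i_rc_29_1 lc_i_rc_34_1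 lc_i_rc_34_3 lc_i_rc_8_1 lc_i_rc_16_1 lc_i_rc_16_1 lc_i_rc_29_1 lc_i_rc_23_1 lc_i_rc_8_1 lc_i_rc_16_1 lc_i_rc_16_1 lc_i_rc_34_1 lc_i_rc_29_1 lc_i_rc_34_1) (@D3.rec (fun _ => (Cert rels S Gen.i)) lc_i_rc_16_1 lc_i_rc_23_1 lc_i_rc_16_1 lc_i_rc_34_1 lc_i_rc_8_1 lc_i_rc_16_1 lc_i_rc_8_1 lc_i_rc_16_1 lc_i_rc_16_1 lc_i_rc_29_1 lc_i_rc_23_1 lc_i_rc_16_1 lc_i_rc_16_1 lc_i_rc_34_1 lc_i_rc_29_1 lc_i_rc_29_1 lc_i_rc_23_1 lc_i_rc_16_1 lc_i_rc_16_1 lc_i_rc_34_1 lc_i_rc_29_1 lc_i_rc_34_1 lc_i_rc_8_1 lc_i_rc_16_1 lc_i_rc_29_1 lc_i_rc_8_1 lc_i_rc_16_1 lc_i_rc_36_1 lc_i_rc_16_1 lc_i_rc_23_1 lc_i_rc_23_1 lc_i_rc_29_1) (@D3.rec (fun _ => (Cert rels S Gen.i)) lc_i_rc_34_1 lc_i_Cert_tree lc_i_Cert_tree lc_i_rc_44_0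 lc_i_rc_29_1 lc_i_rc_16_3 lc_i_rc_23_1 lc_i_rc_16_1 lc_i_rc_16_1 lc_i_rc_23_3 lc_i_rc_23_3 lc_i_rc_8_1 lc_i_rc_16_1 lc_i_rc_16_1 lc_i_rc_29_1 lc_i_rc_8_1 lc_i_rc_44_0 lc_i_rc_23_1 lc_i_rc_16_1 lc_i_rc_16_1 lc_i_rc_34_1 lc_i_rc_29_1 lc_i_rc_23_1 lc_i_rc_16_1 lc_i_rc_16_1 lc_i_rc_34_1 lc_i_rc_16_1 lc_i_rc_29_1 lc_i_rc_16_1 lc_i_rc_34_1 lc_i_rc_29_1 lc_i_rc_29_1) (@D3.rec (fun _ => (Cert rels S Gen.i)) lc_i_rc_16_1 lc_i_rc_16_1 lc_i_rc_34_1 lc_i_Cert_tree lc_i_Cert_tree lc_i_rc_44_0 lc_i_rc_44_0 lc_i_Cert_tree lc_i_rc_44_0 lc_i_rc_44_0 lc_i_rc_16_1 lc_i_rc_29_3 lc_i_rc_29_1 lc_i_rc_8_1 lc_i_rc_16_1 lc_i_rc_16_1 lc_i_rc_34_1 lc_i_rc_29_1 lc_i_rc_29_1 lc_i_rc_8_1 lc_i_rc_16_1 lc_i_rc_16_1 lc_i_rc_34_1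 lc_i_rc_34_1 lc_i_rc_23_3 lc_i_rc_23_3 lc_i_rc_34_1 lc_i_rc_29_1 lc_i_rc_34_1 lc_i_rc_34_1 lc_i_rc_36_3 lc_i_rc_36_3) (@D3.rec (fun _ => (Cert rels S Gen.i)) lc_i_rc_40_1 lc_i_rc_8_1 lc_i_rc_8_1 lc_i_rc_16_1 lc_i_rc_23_1 lc_i_rc_23_1 lc_i_rc_16_1 lc_i_rc_16_1 lc_i_rc_34_1 lc_i_rc_29_1 lc_i_rc_29_1 lc_i_rc_34_1 lc_i_rc_8_3 lc_i_rc_16_1 lc_i_rc_16_1 lc_i_rc_29_1 lc_i_rc_29_1 lc_i_rc_16_1 lc_i_rc_29_1 lc_i_rc_16_1 lc_i_rc_8_1 lc_i_rc_34_1 lc_i_rc_29_1 lc_i_rc_34_1 lc_i_rc_29_1 lc_i_rc_34_1 lc_i_rc_29_1 lc_i_rc_40_3 lc_i_rc_43_1 lc_i_rc_34_1 lc_i_rc_34_1 lc_i_rc_29_1) (@D3.rec (fun _ => (Cert rels S Gen.i)) lc_i_rc_16_1 lc_i_rc_16_1 lc_i_rc_16_1 lc_i_rc_34_1 lc_i_rc_16_1 lc_i_rc_16_1 lc_i_rc_16_1 lc_i_rc_29_3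 lc_i_rc_34_1 lc_i_rc_8_1 lc_i_rc_16_1 lc_i_rc_16_1 lc_i_rc_34_1 lc_i_rc_29_1 lc_i_rc_40_1 lc_i_rc_16_1 lc_i_rc_16_1 lc_i_rc_34_1 lc_i_rc_8_1 lc_i_rc_8_1 lc_i_rc_16_1 lc_i_rc_16_1 lc_i_rc_16_1 lc_i_rc_34_1 lc_i_rc_36_3 lc_i_rc_36_3 lc_i_rc_8_1 lc_i_rc_8_1 lc_i_rc_16_1 lc_i_rc_40_1 lc_i_rc_29_1 lc_i_rc_16_1) (@D3.rec (fun _ => (Cert rels S Gen.i)) lc_i_rc_16_1 lc_i_rc_34_1 lc_i_rc_34_1 lc_i_rc_29_1 lc_i_rc_34_1 lc_i_rc_34_1 lc_i_rc_29_1 lc_i_rc_34_1 lc_i_rc_29_1 lc_i_rc_34_1 lc_i_rc_29_1 lc_i_rc_34_1 lc_i_Cert_tree lc_i_Cert_tree lc_i_rc_44_0 lc_i_rc_23_1 lc_i_rc_16_1 lc_i_rc_16_1 lc_i_rc_34_1 lc_i_rc_23_1 lc_i_rc_23_1 lc_i_rc_16_1 lc_i_rc_40_1 lc_i_rc_44_0 lc_i_rc_8_1 lc_i_rc_8_1 lc_i_rc_8_1 lc_i_rc_23_1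 lc_i_rc_16_1 lc_i_rc_8_1 lc_i_rc_29_3 lc_i_rc_29_1) (@D3.rec (fun _ => (Cert rels S Gen.i)) lc_i_rc_29_1 lc_i_rc_29_3 lc_i_rc_23_1 lc_i_rc_23_1 lc_i_rc_8_1 lc_i_rc_16_1 lc_i_rc_16_1 lc_i_rc_23_1 lc_i_rc_40_1 lc_i_rc_8_1 lc_i_rc_16_1 lc_i_rc_34_1 lc_i_rc_34_1 lc_i_rc_34_1 lc_i_rc_29_1 lc_i_rc_23_1 lc_i_rc_34_1 lc_i_rc_34_1 lc_i_rc_29_1 lc_i_rc_34_1 lc_i_rc_29_1 lc_i_rc_34_1 lc_i_rc_34_1 lc_i_rc_34_1 lc_i_rc_16_1 lc_i_rc_40_1 lc_i_rc_34_1 lc_i_rc_34_1 lc_i_rc_40_1 lc_i_rc_8_1 lc_i_rc_16_1 lc_i_rc_16_1) (@D3.rec (fun _ => (Cert rels S Gen.i)) lc_i_rc_34_1 lc_i_rc_29_1 lc_i_rc_8_1 lc_i_rc_16_1 lc_i_rc_16_1 lc_i_rc_34_1 lc_i_rc_16_1 lc_i_rc_8_1 lc_i_rc_16_1 lc_i_rc_16_1 lc_i_rc_34_1 lc_i_rc_29_1 lc_i_rc_16_1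 lc_i_rc_16_1 lc_i_rc_34_1 lc_i_rc_34_1 lc_i_rc_29_1 lc_i_rc_16_1 lc_i_rc_34_1 lc_i_rc_40_1 lc_i_rc_40_1 lc_i_rc_8_1 lc_i_rc_16_1 lc_i_rc_16_1 lc_i_rc_40_1 lc_i_rc_23_1 lc_i_rc_40_3 lc_i_rc_43_1 lc_i_rc_40_1 lc_i_Cert_tree lc_i_rc_44_0 lc_i_rc_44_0) (@D3.rec (fun _ => (Cert rels S Gen.i)) lc_i_rc_29_1 lc_i_rc_16_3 lc_i_rc_23_1 lc_i_rc_34_1 lc_i_rc_16_1 lc_i_rc_23_3 lc_i_rc_8_1 lc_i_rc_16_1 lc_i_rc_23_1 lc_i_rc_16_1 lc_i_rc_16_1 lc_i_rc_34_1 lc_i_rc_23_1 lc_i_rc_23_1 lc_i_rc_16_1 lc_i_rc_40_1 lc_i_rc_16_1 lc_i_rc_16_1 lc_i_rc_29_1 lc_i_rc_34_1 lc_i_rc_34_1 lc_i_rc_29_1 lc_i_rc_16_1 lc_i_rc_40_1 lc_i_Cert_tree lc_i_rc_44_0 lc_i_rc_44_0 lc_i_rc_44_0 lc_i_rc_29_3 lc_i_rc_8_1 lc_i_rc_16_1 lc_i_rc_16_1)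 (@D3.rec (fun _ => (Cert rels S Gen.i)) lc_i_rc_34_1 lc_i_rc_34_1 lc_i_rc_29_1 lc_i_rc_16_1 lc_i_rc_40_1 lc_i_rc_23_3 lc_i_rc_34_1 lc_i_rc_40_1 lc_i_rc_40_1 lc_i_rc_36_3 lc_i_rc_8_1 lc_i_rc_23_1 lc_i_rc_16_1 lc_i_rc_16_1 lc_i_rc_34_1 lc_i_rc_29_1 lc_i_rc_34_1 lc_i_rc_16_1 lc_i_rc_16_1 lc_i_rc_29_1 lc_i_rc_16_1 lc_i_rc_34_1 lc_i_rc_34_1 lc_i_rc_34_1 lc_i_rc_34_1 lc_i_rc_40_1 lc_i_rc_34_1 lc_i_rc_34_1 lc_i_rc_16_1 lc_i_rc_16_1 lc_i_rc_34_1 lc_i_rc_16_1) (@D3.rec (fun _ => (Cert rels S Gen.i)) lc_i_rc_29_3 lc_i_rc_34_1 lc_i_rc_16_1 lc_i_rc_16_1 lc_i_rc_34_1 lc_i_rc_8_3 lc_i_rc_43_1 lc_i_rc_16_1 lc_i_rc_40_1 lc_i_rc_8_1 lc_i_rc_8_1 lc_i_rc_16_1 lc_i_rc_34_1 lc_i_rc_29_1 lc_i_rc_40_1 lc_i_rc_36_3 lc_i_rc_8_1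 lc_i_rc_16_1 lc_i_rc_29_1 lc_i_rc_16_1 lc_i_rc_34_3 lc_i_rc_34_1 lc_i_rc_40_1 lc_i_rc_43_1 lc_i_rc_34_1 lc_i_rc_34_1 lc_i_rc_40_1 lc_i_Cert_tree lc_i_rc_44_0 lc_i_rc_44_0 lc_i_rc_23_1 lc_i_rc_23_1) (@D3.rec (fun _ => (Cert rels S Gen.i)) lc_i_rc_16_1 lc_i_rc_40_1 lc_i_rc_23_1 lc_i_rc_16_1 lc_i_rc_8_1 lc_i_rc_8_1 lc_i_rc_29_3 lc_i_rc_29_1 lc_i_rc_29_3 lc_i_rc_23_1 lc_i_rc_16_1 lc_i_rc_23_1 lc_i_rc_34_3 lc_i_rc_34_3 lc_i_rc_34_1 lc_i_rc_34_1 lc_i_rc_23_1 lc_i_rc_40_1 lc_i_rc_34_1 lc_i_rc_34_1 lc_i_rc_40_1 lc_i_rc_40_1 lc_i_rc_34_1 lc_i_rc_34_3 lc_i_rc_40_1 lc_i_rc_8_1 lc_i_rc_16_1 lc_i_rc_16_1 lc_i_rc_34_1 lc_i_rc_16_1 lc_i_rc_40_1 lc_i_rc_16_1) (@D3.rec (fun _ => (Cert rels S Gen.i)) lc_i_rc_16_1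 lc_i_rc_34_1 lc_i_rc_16_1 lc_i_rc_40_1 lc_i_rc_34_1 lc_i_rc_16_1 lc_i_rc_40_1 lc_i_rc_34_1 lc_i_rc_29_1 lc_i_rc_16_1 lc_i_rc_8_1 lc_i_rc_43_1 lc_i_rc_23_1 lc_i_rc_34_1 lc_i_Cert_tree lc_i_rc_44_0 lc_i_rc_34_1 lc_i_rc_29_1 lc_i_rc_34_1 lc_i_rc_23_1 lc_i_rc_34_1 lc_i_rc_23_3 lc_i_rc_23_1 lc_i_rc_23_1 lc_i_rc_16_1 lc_i_rc_40_1 lc_i_rc_23_1 lc_i_rc_16_1 lc_i_rc_16_1 lc_i_rc_34_1 lc_i_rc_29_1 lc_i_rc_40_1) (@D3.rec (fun _ => (Cert rels S Gen.i)) lc_i_rc_34_1 lc_i_rc_16_1 lc_i_Cert_tree lc_i_rc_44_0 lc_i_rc_29_3 lc_i_rc_16_1 lc_i_rc_40_1 lc_i_rc_34_1 lc_i_rc_16_1 lc_i_rc_23_3 lc_i_rc_40_1 lc_i_rc_40_1 lc_i_rc_23_1 lc_i_rc_16_1 lc_i_rc_34_1 lc_i_rc_34_3 lc_i_rc_16_1 lc_i_rc_29_1 lc_i_rc_34_3 lc_i_rc_34_3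 lc_i_rc_40_1 lc_i_rc_43_3 lc_i_rc_34_1 lc_i_rc_34_1 lc_i_rc_16_1 lc_i_rc_16_1 lc_i_rc_34_1 lc_i_rc_16_1 lc_i_rc_40_1 lc_i_rc_8_3 lc_i_rc_16_1 lc_i_rc_8_1) (@D3.rec (fun _ => (Cert rels S Gen.i)) lc_i_rc_16_1 lc_i_rc_34_1 lc_i_rc_40_1 lc_i_rc_8_1 lc_i_rc_16_1 lc_i_rc_40_1 lc_i_rc_40_1 lc_i_rc_40_1 lc_i_rc_40_1 lc_i_Cert_tree lc_i_rc_44_0 lc_i_rc_23_1 lc_i_rc_16_1 lc_i_rc_23_1 lc_i_rc_29_1 lc_i_rc_23_1 lc_i_rc_16_1 lc_i_rc_40_1 lc_i_rc_34_1 lc_i_rc_34_1 lc_i_rc_40_1 lc_i_rc_40_1 lc_i_rc_16_1 lc_i_rc_40_1 lc_i_rc_16_1 lc_i_rc_16_1 lc_i_rc_40_1 lc_i_rc_16_1 lc_i_rc_40_1 lc_i_rc_43_1 lc_i_rc_16_1 lc_i_rc_8_1) (@D3.rec (fun _ => (Cert rels S Gen.i)) lc_i_rc_43_3 lc_i_rc_44_0 lc_i_rc_34_1 lc_i_rc_34_1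 lc_i_rc_40_1 lc_i_rc_23_1 lc_i_rc_16_1 lc_i_rc_23_1 lc_i_rc_16_1 lc_i_rc_34_1 lc_i_rc_40_1 lc_i_rc_44_0 lc_i_rc_16_1 lc_i_rc_40_1 lc_i_rc_16_1 lc_i_rc_16_1 lc_i_rc_40_1 lc_i_rc_16_1 lc_i_rc_8_3 lc_i_rc_8_1 lc_i_rc_40_1 lc_i_rc_44_0 lc_i_rc_23_1 lc_i_rc_40_1 lc_i_rc_16_1 lc_i_rc_16_1 lc_i_rc_40_1 lc_i_rc_8_1 lc_i_rc_40_1 lc_i_rc_40_1 lc_i_rc_23_1 lc_i_rc_40_1)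
def ce_i : Pt → (Cert rels S Gen.i) := @Pt.rec (fun _ => (Cert rels S Gen.i)) (@D1.rec (fun _ => D2 → D3 → (Cert rels S Gen.i)) ce_i_0 ce_i_1 ce_i_2 ce_i_3 ce_i_4 ce_i_5 ce_i_6 ce_i_7 ce_i_8 ce_i_9 ce_i_10 ce_i_11 ce_i_12 ce_i_13 ce_i_14 ce_i_15 ce_i_16 ce_i_17 ce_i_18 ce_i_19)
def isSeed_i (p : Pt) : Bool := false

end

end Cfsg.Agent.Helper28.S1685
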