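import Cfsg.Agent.Lib.Helper28.S1685.Tree

set_option autoImplicit false
set_option maxRecDepth 100000
set_option linter.all false

namespace Cfsg.Agent.Helper28.S1685

open Cfsg.Agent.Helper28
open Cfsg.Spor.Fi22 (Gen)

noncomputable section

def lv_a_0 : D2 → D3 → Nat := @D2.rec (fun _ => D3 → Nat) (@D3.rec (fun _ => Nat) 0 1 2 3 4 5 5 6 6 6 7 7 7 7 8 8 8 8 8 9 9 9 9 9 0 9 9 10 10 10 0 10) (@D3.rec (fun _ => Nat) 10 10 10 1 2 10 0 11 11 11 11 11 1 2 2 11 11 11 11 2 3 11 1 2 2 12 12 12 12 12 12 2) (@D3.rec (fun _ => Nat) 2 3 3 3 12 12 12 12 12 3 4 12 2 2 3 3 3 3 13 13 13 13 13 13 13 13 3 3 3 15 14 4) (@D3.rec (fun _ => Nat) 4 4 13 13 13 13 13 4 63 62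 13 3 3 3 3 15 4 16 4 4 4 4 14 14 14 14 14 14 14 14 14 14) (@D3.rec (fun _ => Nat) 4 4 4 15 16 5 5 69 5 14 14 14 14 14 0 68 14 4 4 4 4 4 20 17 5 19 5 16 5 5 5 61) (@D3.rec (fun _ => Nat) 5 15 15 15 15 15 15 15 15 15 15 15 15 0 5 5 5 17 16 6 6 6 63 60 15 15 15 0 15 15 15 1) (@D3.rec (fun _ => Nat) 62 5 5 5 5 5 5 20 17 17 17 6 18 6 18 6 6 6 6 61 6 16 16 16 16 16 16 16 16 16 16 0) (@D3.rec (fun _ => Nat) 16 16 16 0 16 1 6 6 6 17 18 7 7 0 7 58 59 60 16 16 0 16 16 1 2 16 16 6 6 6 6 6) (@D3.rec (fun _ => Nat) 6 6 18 18 19 19 19 21 7 18 7 18 7 7 7 7 0 7 7 59 61 62 17 17 17 17 17 17 17 17 17 0) (@D3.rec (fun _ => Nat) 17 17 0 17 17 1 2 17 17 1 2 17 7 7 0 7 19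 19 18 18 0 8 58 1 2 59 60 60 57 0 17 17) (@D3.rec (fun _ => Nat) 1 2 17 17 17 2 3 17 7 7 7 7 7 7 0 7 7 20 19 19 19 19 19 20 8 20 8 8 20 20 0 8) (@D3.rec (fun _ => Nat) 8 0 8 8 1 2 61 8 60 61 59 18 18 18 18 18 18 18 0 18 18 0 18 18 1 2 18 18 18 1 2 18) (@D3.rec (fun _ => Nat) 18 18 2 3 18 2 3 18 0 8 1 2 0 19 19 0 20 20 1 2 9 58 58 2 3 3 59 60 1 2 18 18) (@D3.rec (fun _ => Nat) 18 2 3 3 18 18 3 4 8 8 8 0 8 8 0 8 8 1 2 8 20 21 21 21 0 21 21 21 20 9 9 20) (@D3.rec (fun _ => Nat) 20 0 9 9 0 20 20 1 2 9 9 60 1 2 9 9 62 2 3 3 61 59 62 61 59 59 19 19 19 19 0 19) (@D3.rec (fun _ => Nat) 19 0 19 19 1 2 19 19 19 1 2 19 19 19 2 3 3 19 19 2 3 3 19 19 19 3 4 3 4 4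 19 1) (@D3.rec (fun _ => Nat) 2 9 2 1 2 21 21 1 2 20 20 60 2 3 3 60 59 60 3 3 4 4 2 3 3 19 19 19 3 3 4 4) (@D3.rec (fun _ => Nat) 4 19 19 4 9 9 0 9 9 1 2 9 9 1 2 9 9 2 3 22 21 21 0 21 21 1 2 21 21 21 21 22) (@D3.rec (fun _ => Nat) 22 0 10 10 0 22 22 1 2 10 10 60 1 2 22 22 22 2 3 3 10 61 60 2 3 3 10 10 62 3 3 4) (@D3.rec (fun _ => Nat) 4 4 63 61 61 61 20 20 20 0 20 20 1 2 20 20 20 1 2 20 20 20 2 3 3 20 20 20 2 3 3 20) (@D3.rec (fun _ => Nat) 20 20 3 3 4 4 4 20 20 3 3 4 4 4 4 20 20 20 4 4 4 5 5 2 3 2 3 3 21 21 2 3) (@D3.rec (fun _ => Nat) 3 22 22 60 3 3 4 4 4 4 60 4 4 3 3 4 4 4 4 20 20 20 4 4 4 5 5 5 20 0 10 10)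
def lv_a_1 : D2 → D3 → Nat := @D2.rec (fun _ => D3 → Nat) (@D3.rec (fun _ => Nat) 1 2 10 10 2 3 3 10 2 3 3 10 10 3 22 22 0 23 23 1 2 23 23 23 2 3 3 23 23 23 23 23) (@D3.rec (fun _ => Nat) 0 22 22 1 2 11 11 74 1 2 22 22 22 2 3 3 11 11 62 2 3 3 22 22 22 3 3 4 4 4 4 11) (@D3.rec (fun _ => Nat) 63 64 61 3 3 4 4 4 4 65 64 11 11 4 4 4 5 5 5 61 73 21 21 0 21 21 1 2 21 21 21 2) (@D3.rec (fun _ => Nat) 3 3 21 21 21 2 3 3 21 21 21 3 3 4 4 4 4 21 21 21 21 3 3 4 4 4 4 21 21 21 4 4) (@D3.rec (fun _ => Nat) 4 5 5 5 21 4 4 4 4 5 5 5 5 5 21 21 16 5 5 6 6 3 4 3 3 4 4 4 62 63 3 3) (@D3.rec (fun _ => Nat) 4 4 4 4 62 4 4 4 4 5 5 5 4 4 4 4 5 5 5 5 5 21 21 21 15 5 5 5 6 6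 6 21) (@D3.rec (fun _ => Nat) 1 2 11 11 2 3 3 11 11 3 3 4 4 11 3 3 4 4 4 11 11 0 24 23 1 2 23 23 23 2 3 3) (@D3.rec (fun _ => Nat) 23 21 23 3 3 4 4 4 4 23 23 23 23 0 23 24 1 2 24 24 24 2 3 3 12 12 77 2 3 3 24 22) (@D3.rec (fun _ => Nat) 24 3 3 4 4 4 4 12 66 12 12 3 3 4 4 4 4 24 24 24 24 4 4 4 4 5 5 5 5 5 5 64) (@D3.rec (fun _ => Nat) 65 4 4 4 4 5 5 5 5 5 5 65 66 12 5 5 5 6 67 69 0 22 22 1 2 22 22 22 2 3 3 22) (@D3.rec (fun _ => Nat) 22 22 3 3 4 4 4 4 22 22 22 22 3 3 4 4 4 4 22 22 22 22 4 4 4 4 5 5 5 5 5 5) (@D3.rec (fun _ => Nat) 22 22 22 22 4 4 4 4 5 5 5 5 5 22 22 22 16 5 5 5 6 6 6 22 17 5 5 5 5 5 6 6) (@D3.rec (fun _ => Nat) 6 6 6 6 22 21 6 6 7 7 4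 4 4 4 5 5 5 5 4 4 4 4 5 5 5 16 5 5 5 6 16 5) (@D3.rec (fun _ => Nat) 5 5 5 5 6 6 6 6 6 6 6 22 22 22 16 6 6 6 7 7 7 2 3 3 12 12 3 3 4 4 4 12) (@D3.rec (fun _ => Nat) 12 12 4 4 5 5 4 4 4 5 5 5 5 12 1 2 24 25 25 2 3 3 25 23 25 3 3 4 4 4 4 25) (@D3.rec (fun _ => Nat) 25 25 23 4 4 4 4 5 5 5 5 5 5 25 25 68 67 1 2 25 24 24 2 3 3 24 22 24 3 3 4 4) (@D3.rec (fun _ => Nat) 4 4 13 70 13 13 3 3 4 4 4 4 24 24 24 22 4 4 4 4 5 5 5 5 5 5 66 13 68 13 4 4) (@D3.rec (fun _ => Nat) 4 4 5 5 5 5 5 5 24 24 17 5 5 5 5 5 5 6 6 6 6 6 6 65 18 5 5 5 5 5 5 6) (@D3.rec (fun _ => Nat) 6 6 6 6 6 6 6 67 67 66 6 7 69 0 1 2 23 23 23 2 3 3 23 23 23 3 3 4 4 4 4 23) (@D3.rec (fun _ => Nat)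 23 23 23 4 4 4 4 5 5 5 5 5 5 23 23 23 23 4 4 4 4 5 5 5 5 5 5 7 5 5 5 5) (@D3.rec (fun _ => Nat) 5 5 6 6 6 6 6 6 6 6 6 17 5 5 5 5 5 6 6 6 6 6 6 6 17 6 6 6 7 7 7 18) (@D3.rec (fun _ => Nat) 20 6 6 6 6 6 6 7 7 7 7 7 7 22 22 7 7 8 8 8 17 17 5 5 5 5 6 6 6 17 5 5)
def lv_a_2 : D2 → D3 → Nat := @D2.rec (fun _ => D3 → Nat) (@D3.rec (fun _ => Nat) 5 6 6 17 17 6 17 17 6 6 6 6 6 6 6 7 7 7 7 7 7 7 7 7 17 17 7 7 7 8 8 3) (@D3.rec (fun _ => Nat) 3 4 4 4 13 13 13 4 4 4 5 5 5 5 5 13 13 18 5 5 6 19 5 5 5 5 6 6 6 6 2 3) (@D3.rec (fun _ => Nat) 3 25 23 25 3 3 4 4 4 4 25 25 25 23 4 4 4 4 5 5 5 5 5 5 25 25 25 27 18 5 5 5) (@D3.rec (fun _ => Nat) 5 5 5 6 6 6 6 6 6 6 6 6 67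 66 65 2 3 3 26 24 26 3 3 4 4 4 4 26 26 26 24 4) (@D3.rec (fun _ => Nat) 4 4 4 5 5 5 5 5 5 66 14 73 14 4 4 4 4 5 5 5 5 5 5 26 26 26 26 7 5 5 5 5) (@D3.rec (fun _ => Nat) 5 5 6 6 6 6 6 6 6 6 6 64 66 67 14 68 18 5 5 5 5 5 5 6 6 6 6 6 6 6 18 18) (@D3.rec (fun _ => Nat) 6 6 6 6 6 6 7 7 7 7 65 19 21 6 6 6 6 6 6 6 6 7 7 7 7 7 7 7 7 7 74 69) (@D3.rec (fun _ => Nat) 7 8 0 1 2 3 3 3 3 4 4 4 4 4 4 4 4 5 5 5 5 5 5 7 5 5 5 5 5 5 6 6) (@D3.rec (fun _ => Nat) 6 6 6 6 6 6 6 8 5 5 5 5 5 5 6 6 6 6 6 8 8 6 6 6 6 6 6 6 6 6 7 7) (@D3.rec (fun _ => Nat) 7 7 7 7 7 7 18 18 6 6 6 6 6 6 6 7 7 7 7 7 7 18 18 7 7 7 8 8 8 19 21 21) (@D3.rec (fun _ => Nat) 21 7 7 7 7 7 7 8 8 8 8 8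 8 8 23 23 23 8 8 8 9 9 9 18 18 6 6 6 7 7 18 18) (@D3.rec (fun _ => Nat) 6 6 18 18 18 18 18 7 7 7 7 7 7 7 7 7 8 8 8 8 18 18 8 8 9 4 4 4 5 5 5 5) (@D3.rec (fun _ => Nat) 5 14 14 7 5 5 5 5 5 6 6 6 6 6 6 14 19 6 7 20 22 6 6 6 6 7 7 7 7 3 3 4) (@D3.rec (fun _ => Nat) 4 4 4 27 27 27 25 4 4 4 4 5 5 5 5 5 5 27 27 27 27 7 5 5 5 5 5 5 6 6 6 6) (@D3.rec (fun _ => Nat) 6 6 6 6 6 67 27 27 27 27 19 19 6 6 6 6 6 6 6 6 6 7 7 7 7 7 7 7 7 7 7 68) (@D3.rec (fun _ => Nat) 65 3 3 4 4 4 4 26 26 26 24 4 4 4 4 5 5 5 5 5 5 26 26 26 28 7 5 5 5 5 5 5) (@D3.rec (fun _ => Nat) 6 6 6 6 6 6 6 6 6 64 64 15 15 71 8 5 5 5 5 5 5 6 6 6 6 6 6 6 6 6 26 26) (@D3.rec (fun _ => Nat) 28 28 8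 8 6 6 6 6 6 6 6 6 6 7 7 7 7 7 7 7 7 7 7 7 7 7 69 65 70 19 19 6) (@D3.rec (fun _ => Nat) 6 6 6 6 6 6 7 7 7 7 7 19 19 19 19 7 7 7 7 8 8 8 8 0 20 20 22 22 22 7 7 7) (@D3.rec (fun _ => Nat) 7 7 7 7 7 7 8 8 8 8 8 8 8 8 8 8 8 0 72 8 0 1 3 3 4 4 4 4 4 5 5 8) (@D3.rec (fun _ => Nat) 5 5 5 5 5 5 6 6 6 6 6 8 8 6 6 6 6 6 6 6 6 6 7 7 7 7 7 7 7 7 9 9) (@D3.rec (fun _ => Nat) 6 6 6 6 6 7 7 7 7 9 9 9 9 9 7 7 7 7 7 7 7 7 8 8 8 8 8 8 8 8 8 19)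
def lv_a_3 : D2 → D3 → Nat := @D2.rec (fun _ => D3 → Nat) (@D3.rec (fun _ => Nat) 19 19 19 7 7 7 7 7 7 8 8 8 8 8 8 19 19 8 8 8 9 9 9 22 22 22 22 22 22 8 8 8) (@D3.rec (fun _ => Nat) 8 8 8 8 9 9 9 9 9 9 9 9 24 24 24 24 24 9 9 9 10 10 10 19 19 19 7 7 19 19 19 19) (@D3.rec (fun _ => Nat) 19 19 19 19 19 8 8 8 8 9 19 19 19 9 10 7 5 5 5 5 5 6 6 6 6 6 6 15 15 8 8 6) (@D3.rec (fun _ => Nat) 6 6 6 6 6 7 7 7 7 7 7 7 20 7 8 23 23 23 7 7 7 7 8 8 8 8 8 4 4 4 4 5) (@D3.rec (fun _ => Nat) 5 5 5 5 5 27 27 27 29 7 5 5 5 5 5 5 6 6 6 6 6 6 6 6 6 66 27 27 29 29 8 8) (@D3.rec (fun _ => Nat) 6 6 6 6 6 6 6 6 6 7 7 7 7 7 7 7 7 7 7 7 7 7 67 66 29 63 29 20 20 20 20 20) (@D3.rec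 (fun _ => Nat) 7 7 7 7 7 7 7 7 7 7 8 8 8 8 8 8 8 8 8 8 65 0 4 4 4 4 5 5 5 5 5 5) (@D3.rec (fun _ => Nat) 28 28 28 28 8 5 5 5 5 5 5 6 6 6 6 6 6 6 6 6 28 28 28 28 8 8 6 6 6 6 6 6) (@D3.rec (fun _ => Nat) 6 6 6 7 7 7 7 7 7 7 7 7 7 7 7 7 64 71 66 72 16 9 9 6 6 6 6 6 6 6 6 6) (@D3.rec (fun _ => Nat) 7 7 7 7 7 7 7 7 7 7 7 7 28 28 9 9 9 9 9 7 7 7 7 7 7 7 7 7 7 7 7 7) (@D3.rec (fun _ => Nat) 8 8 8 8 8 8 8 8 8 8 8 8 8 8 8 8 0 65 20 20 20 20 20 7 7 7 7 7 8 8 8 8) (@D3.rec (fun _ => Nat) 20 20 20 8 8 8 8 9 9 9 9 0 1 23 23 23 23 23 23 23 8 8 8 8 8 8 8 8 8 8 8 9) (@D3.rec (fun _ => Nat) 9 9 9 9 9 9 9 9 9 9 0 9 1 2 0 1 4 19 5 5 6 9 9 6 6 6 6 6 7 7 7 7) (@D3.rec (fun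 _ => Nat) 9 9 9 9 9 7 7 7 7 7 7 7 7 8 8 8 8 8 8 8 8 8 10 10 10 10 10 7 7 7 7 8) (@D3.rec (fun _ => Nat) 8 8 8 8 10 10 10 10 10 10 10 10 10 8 8 8 8 8 8 8 8 8 9 9 9 9 9 9 9 9 9 9) (@D3.rec (fun _ => Nat) 9 20 20 20 20 20 20 20 8 8 8 8 8 8 9 9 9 9 9 9 20 20 20 20 9 9 9 10 10 10 23 23) (@D3.rec (fun _ => Nat) 23 23 23 23 23 23 23 23 9 9 9 9 9 9 9 9 10 10 10 10 10 10 10 10 10 25 25 25 25 25 25 25) (@D3.rec (fun _ => Nat) 10 10 10 11 11 11 20 20 20 20 20 20 20 20 20 20 20 9 10 20 20 10 8 8 6 6 6 6 6 6 7 7) (@D3.rec (fun _ => Nat) 7 7 7 7 7 7 16 9 9 9 9 7 7 7 7 7 7 7 8 8 8 8 8 8 8 8 21 8 9 24 24 24) (@D3.rec (fun _ => Nat) 24 24 8 8 8 8 8 9 9 9 9 9 9 20 5 5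 5 5 5 5 6 6 6 6 6 6 6 6 6 29 29 29) (@D3.rec (fun _ => Nat) 29 29 8 8 6 6 6 6 6 6 6 6 6 7 7 7 7 7 7 7 7 7 7 7 7 7 64 29 29 29 29 9) (@D3.rec (fun _ => Nat) 9 9 9 9 7 7 7 7 7 7 7 7 7 7 7 7 7 8 8 8 8 8 8 8 8 8 8 8 8 8 8 8)
def lv_a_4 : D2 → D3 → Nat := @D2.rec (fun _ => D3 → Nat) (@D3.rec (fun _ => Nat) 8 8 8 67 65 68 0 65 21 21 21 21 21 21 21 21 8 8 8 8 8 8 8 8 8 8 9 9 9 9 9 9) (@D3.rec (fun _ => Nat) 9 9 9 9 0 0 1 20 5 5 5 5 5 5 6 6 6 6 6 6 6 6 28 28 28 30 30 9 9 6 6 6) (@D3.rec (fun _ => Nat) 6 6 6 6 6 6 7 7 7 7 7 7 7 7 7 7 7 7 28 30 28 30 9 9 9 9 9 7 7 7 7 7) (@D3.rec (fun _ => Nat) 7 7 7 7 7 7 7 7 8 8 8 8 8 8 8 8 8 8 8 8 8 8 8 8 8 8 64 69 0 70 17 10)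 (@D3.rec (fun _ => Nat) 10 10 10 10 7 7 7 7 7 7 7 7 7 7 7 7 8 8 8 8 8 8 8 8 8 8 8 8 8 8 8 10) (@D3.rec (fun _ => Nat) 10 10 10 10 10 10 10 10 8 8 8 8 8 8 8 8 8 8 8 8 8 8 8 8 9 9 9 9 9 9 9 9) (@D3.rec (fun _ => Nat) 9 9 9 9 9 9 9 9 9 0 9 1 2 21 21 21 21 21 21 8 8 8 8 9 9 9 9 21 21 21 21 9) (@D3.rec (fun _ => Nat) 9 9 9 0 10 10 10 0 1 24 24 24 24 24 24 24 24 24 24 24 24 9 9 9 9 9 9 9 9 9 9 9) (@D3.rec (fun _ => Nat) 0 9 0 10 10 10 10 10 10 10 10 10 10 10 10 10 10 1 2 2 1 20 20 20 6 7 10 10 10 10 10 7) (@D3.rec (fun _ => Nat) 7 7 7 8 8 8 10 10 10 10 10 10 10 10 10 8 8 8 8 8 8 8 8 8 9 9 9 9 9 9 9 9) (@D3.rec (fun _ => Nat) 9 9 9 11 11 11 11 11 8 8 8 8 8 9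 9 9 9 9 11 11 11 11 11 11 11 11 11 11 11 11 11 9) (@D3.rec (fun _ => Nat) 9 9 9 9 9 9 9 9 9 9 10 10 10 10 10 10 10 10 10 10 10 21 21 21 21 21 21 21 21 21 9 9) (@D3.rec (fun _ => Nat) 9 9 9 9 10 10 10 10 21 21 21 21 21 10 10 10 11 11 24 24 24 24 24 24 24 24 24 24 24 24 24 24) (@D3.rec (fun _ => Nat) 24 10 10 10 10 10 10 10 10 10 11 11 11 11 11 11 11 11 11 26 26 26 26 26 26 26 26 26 26 11 11 11) (@D3.rec (fun _ => Nat) 21 21 21 21 21 21 10 21 21 9 9 9 9 7 7 7 7 7 7 7 7 8 8 8 8 8 8 8 8 8 8 17) (@D3.rec (fun _ => Nat) 10 10 10 10 10 10 10 8 8 8 8 8 8 8 8 9 9 9 9 9 9 9 9 9 9 22 22 9 25 25 25 25) (@D3.rec (fun _ => Nat) 25 25 25 25 9 9 9 9 9 9 10 10 10 10 10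 10 21 21 6 6 6 6 6 6 6 6 6 7 7 7 7 7) (@D3.rec (fun _ => Nat) 7 7 7 7 7 29 29 31 29 31 9 9 9 9 9 7 7 7 7 7 7 7 7 7 7 7 7 7 8 8 8 8) (@D3.rec (fun _ => Nat) 8 8 8 8 8 8 8 8 8 8 8 8 8 8 73 66 72 31 0 31 29 10 10 10 10 10 10 10 10 10 8 8) (@D3.rec (fun _ => Nat) 8 8 8 8 8 8 8 8 8 8 8 8 8 8 8 8 9 9 9 9 9 9 9 9 9 9 9 9 9 9 9 9) (@D3.rec (fun _ => Nat) 9 9 9 9 9 0 9 0 65 1 2 22 22 22 22 22 22 22 22 22 22 22 9 9 9 9 9 9 9 9 9 9) (@D3.rec (fun _ => Nat) 0 10 10 10 10 10 10 10 10 10 0 10 0 1 1 21 21 6 6 6 6 6 6 6 6 7 7 7 7 76 7 7)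
def lv_a_5 : D2 → D3 → Nat := @D2.rec (fun _ => D3 → Nat) (@D3.rec (fun _ => Nat) 7 7 30 30 30 30 30 10 10 10 10 10 7 7 7 7 7 7 7 7 7 7 7 7 8 8 8 8 8 8 8 8) (@D3.rec (fun _ => Nat) 8 8 8 8 8 8 30 0 30 30 10 10 10 10 10 10 10 10 10 8 8 8 8 8 8 8 8 8 8 8 8 8) (@D3.rec (fun _ => Nat) 8 8 8 8 8 9 9 9 9 9 9 9 9 9 9 9 9 9 9 9 9 9 9 9 9 9 0 9 9 71 1 2) (@D3.rec (fun _ => Nat) 70 11 11 11 11 11 11 11 11 11 8 8 8 8 8 8 8 8 8 8 8 8 8 8 8 9 9 9 9 9 9 9) (@D3.rec (fun _ => Nat) 9 9 9 9 9 9 9 9 11 11 11 11 11 11 11 11 11 11 11 11 11 11 11 11 11 9 9 9 9 9 9 9) (@D3.rec (fun _ => Nat) 9 9 9 9 9 9 9 9 9 9 0 9 10 10 10 10 10 10 10 10 10 0 10 10 10 10 10 10 10 10 10 10)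 (@D3.rec (fun _ => Nat) 10 10 10 10 1 2 2 22 22 22 22 22 22 22 9 9 9 9 10 10 10 22 22 22 22 22 22 10 10 10 0 1) (@D3.rec (fun _ => Nat) 0 11 1 25 25 25 25 25 25 25 25 25 25 25 25 25 25 25 25 25 25 0 10 10 10 10 10 10 10 10 10 10) (@D3.rec (fun _ => Nat) 10 10 10 10 1 2 1 2 2 11 11 11 11 11 11 11 11 11 11 11 11 11 11 11 2 21 7 11 11 11 11 11) (@D3.rec (fun _ => Nat) 8 8 8 9 11 11 11 11 11 11 11 11 11 11 11 11 11 9 9 9 9 9 9 9 9 9 9 9 10 10 10 10) (@D3.rec (fun _ => Nat) 10 10 10 10 10 12 69 12 76 12 12 12 12 12 9 9 9 9 9 10 10 10 12 12 12 12 12 12 12 12 12 12) (@D3.rec (fun _ => Nat) 12 12 12 12 12 12 12 12 12 12 12 10 10 10 10 10 10 10 10 10 10 10 11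 11 11 11 11 11 11 11 11 11) (@D3.rec (fun _ => Nat) 22 22 22 22 22 22 22 22 22 22 22 22 22 10 10 10 10 11 11 22 22 22 22 22 22 22 11 11 12 25 25 25) (@D3.rec (fun _ => Nat) 25 25 25 25 25 25 25 25 25 25 25 25 25 25 25 25 25 25 25 11 11 11 11 11 11 11 11 11 12 12 12 12) (@D3.rec (fun _ => Nat) 12 12 27 27 27 27 27 27 27 27 27 27 27 27 27 75 22 22 22 10 10 10 10 10 10 10 8 8 8 8 8 8) (@D3.rec (fun _ => Nat) 8 8 8 8 9 9 9 9 9 9 9 9 9 9 9 9 9 11 11 11 11 11 11 11 11 11 11 11 11 9 9 9) (@D3.rec (fun _ => Nat) 9 9 9 9 9 9 9 10 10 10 10 10 10 10 10 10 10 10 23 23 26 26 26 26 26 26 26 26 26 26 26 26) (@D3.rec (fun _ => Nat) 10 10 10 10 10 10 11 11 11 11 11 11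 22 22 22 22 7 7 7 7 7 7 7 7 7 7 8 8 8 8 8 8) (@D3.rec (fun _ => Nat) 8 8 8 8 8 8 31 31 74 31 0 31 31 10 10 10 10 10 10 10 10 10 8 8 8 8 8 8 8 8 8 8) (@D3.rec (fun _ => Nat) 8 8 8 8 8 8 8 8 9 9 9 9 9 9 9 9 9 9 9 9 9 9 9 9 9 9 9 9 9 9 0 9) (@D3.rec (fun _ => Nat) 9 73 73 0 71 31 1 2 31 11 11 11 11 11 11 11 11 11 11 11 11 11 11 11 11 11 9 9 9 9 9 9) (@D3.rec (fun _ => Nat) 9 9 9 9 9 9 9 9 9 9 9 9 9 9 9 0 9 10 10 10 10 10 10 10 10 10 10 10 10 0 10 10)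
def lv_a_6 : D2 → D3 → Nat := @D2.rec (fun _ => D3 → Nat) (@D3.rec (fun _ => Nat) 10 10 10 10 10 10 10 10 10 10 10 10 0 10 1 2 1 2 2 23 23 23 23 23 23 23 23 23 23 23 23 23) (@D3.rec (fun _ => Nat) 23 10 10 10 10 10 10 10 10 10 0 10 0 1 11 11 11 11 11 0 11 11 11 1 1 22 22 22 22 7 7 7) (@D3.rec (fun _ => Nat) 7 7 7 7 7 8 8 75 8 8 8 8 30 32 32 0 32 30 11 11 11 11 11 11 11 11 11 8 8 8 8 8) (@D3.rec (fun _ => Nat) 8 8 8 8 8 8 8 8 8 9 9 9 9 9 9 9 9 9 9 9 9 0 9 9 32 1 2 30 11 11 11 11) (@D3.rec (fun _ => Nat) 11 11 11 11 11 11 11 11 11 11 11 11 11 9 9 9 9 9 9 9 9 9 9 9 9 9 9 9 9 9 9 9) (@D3.rec (fun _ => Nat) 9 9 0 9 9 10 10 10 10 10 10 10 10 10 10 10 0 10 10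 10 10 10 10 10 10 10 10 10 10 10 10 10) (@D3.rec (fun _ => Nat) 1 2 10 2 3 12 75 12 12 12 12 70 12 12 12 12 12 12 12 12 12 9 9 9 9 9 9 9 9 9 9 9) (@D3.rec (fun _ => Nat) 9 9 9 70 9 10 10 10 10 10 10 10 10 10 10 10 10 12 12 12 12 12 12 12 12 12 12 12 12 12 12 12) (@D3.rec (fun _ => Nat) 12 12 12 12 12 12 12 12 12 12 12 10 10 10 10 10 10 10 10 10 0 10 10 10 10 10 10 10 10 10 10 10) (@D3.rec (fun _ => Nat) 10 10 10 1 2 11 11 11 11 0 11 11 11 11 11 11 11 11 1 2 2 11 11 11 11 11 11 11 11 11 11 11) (@D3.rec (fun _ => Nat) 11 11 11 11 2 23 23 23 23 23 23 23 23 10 10 10 11 23 23 23 23 23 23 0 0 11 1 1 2 0 26 26) (@D3.rec (fun _ => Nat) 26 26 26 26 26 26 26 26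 26 26 26 26 26 26 26 26 26 26 26 26 26 26 26 26 26 1 2 2 11 11 11 11) (@D3.rec (fun _ => Nat) 11 11 11 11 11 11 11 11 11 11 11 2 2 2 3 3 3 12 12 12 12 12 12 12 12 12 12 12 12 22 22 12) (@D3.rec (fun _ => Nat) 12 12 12 12 12 12 9 10 12 12 12 12 12 12 12 12 12 12 12 12 12 12 12 12 12 12 12 12 12 10 10 10) (@D3.rec (fun _ => Nat) 10 10 10 10 10 10 11 11 11 11 11 11 11 11 75 71 74 71 13 13 13 13 66 75 13 10 10 10 11 11 11 13) (@D3.rec (fun _ => Nat) 13 13 73 13 13 77 13 13 13 13 13 13 13 13 13 13 13 13 13 13 13 13 13 13 13 13 13 11 11 11 11 11) (@D3.rec (fun _ => Nat) 11 11 11 11 11 12 12 12 12 12 23 23 23 23 23 23 23 23 11 11 12 23 23 23 23 23 23 23 23 12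 26 26) (@D3.rec (fun _ => Nat) 26 26 26 26 26 26 26 26 26 26 26 26 26 26 26 26 26 26 26 26 26 26 26 26 26 26 26 26 12 12 12 12) (@D3.rec (fun _ => Nat) 12 12 79 13 13 13 28 28 28 28 28 28 23 11 11 11 11 11 11 11 11 11 11 11 11 9 9 9 9 9 9 9) (@D3.rec (fun _ => Nat) 9 9 9 9 64 9 9 10 10 10 10 10 10 10 10 10 10 10 10 10 10 10 12 12 12 12 12 12 12 12 12 12) (@D3.rec (fun _ => Nat) 12 12 12 12 12 12 12 12 10 10 10 10 10 10 10 10 10 10 10 11 11 11 11 11 11 11 11 11 11 11 11 24) (@D3.rec (fun _ => Nat) 24 27 27 27 27 27 27 27 27 27 27 27 27 27 27 27 27 27 11 11 11 11 11 11 12 12 12 12 12 12 0 23)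
def lv_a_7 : D2 → D3 → Nat := @D2.rec (fun _ => D3 → Nat) (@D3.rec (fun _ => Nat) 23 23 23 23 23 8 8 8 8 8 8 8 8 8 8 8 8 9 9 9 9 9 9 9 9 0 9 9 70 69 33 0) (@D3.rec (fun _ => Nat) 74 33 1 2 31 11 11 11 11 11 11 11 11 11 11 11 11 11 11 11 11 11 9 9 9 9 9 9 9 9 9 9) (@D3.rec (fun _ => Nat) 9 9 9 9 9 9 9 9 9 9 9 9 0 9 9 10 10 10 10 10 10 10 10 10 10 10 0 10 10 10 10 10) (@D3.rec (fun _ => Nat) 10 10 10 10 10 10 10 10 10 10 10 0 10 10 1 2 10 73 75 1 2 74 2 3 74 12 12 12 12 12 12 12) (@D3.rec (fun _ => Nat) 12 12 12 12 70 12 12 12 12 12 12 12 12 12 12 12 12 12 12 10 10 10 10 10 10 10 10 10 10 10 10 0) (@D3.rec (fun _ => Nat) 10 10 10 10 10 10 10 10 10 10 10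 10 10 10 0 10 1 2 11 11 11 11 11 11 0 11 11 11 11 11 11 11) (@D3.rec (fun _ => Nat) 0 11 11 11 11 11 1 2 2 11 11 11 11 11 11 11 11 11 11 11 11 11 11 11 1 2 2 2 24 24 24 24) (@D3.rec (fun _ => Nat) 24 24 24 24 24 24 24 24 24 0 24 24 24 24 11 11 11 11 11 0 11 11 11 70 1 67 1 12 12 12 1 2) (@D3.rec (fun _ => Nat) 12 23 23 23 23 23 8 8 8 8 8 8 78 74 9 9 0 9 9 32 32 1 2 32 12 12 12 12 12 12 12 12) (@D3.rec (fun _ => Nat) 12 12 12 12 12 12 9 9 9 9 9 9 9 9 9 9 9 9 0 9 9 10 10 10 0 10 10 10 10 10 10 10) (@D3.rec (fun _ => Nat) 1 2 10 2 3 12 12 12 12 12 12 69 12 12 12 12 12 12 12 12 12 12 12 12 12 12 12 12 12 12 12 12) (@D3.rec (fun _ => Nat) 10 10 10 10 10 10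 10 10 10 10 10 0 10 10 10 10 10 10 10 10 10 10 10 10 10 65 10 10 1 2 10 11) (@D3.rec (fun _ => Nat) 11 11 11 0 11 11 11 11 11 11 11 11 11 11 11 11 1 2 2 11 11 11 11 11 11 11 11 11 11 11 11 11) (@D3.rec (fun _ => Nat) 11 11 2 3 11 3 75 13 13 13 13 13 13 13 13 74 70 13 13 71 13 74 13 13 13 13 70 13 13 10 10 10) (@D3.rec (fun _ => Nat) 68 10 10 10 10 10 10 10 10 10 70 11 11 11 11 11 11 11 11 11 11 11 13 13 13 13 77 13 13 13 13 13) (@D3.rec (fun _ => Nat) 13 13 13 13 0 13 13 13 13 13 13 13 13 13 76 13 13 13 13 13 13 13 13 13 13 13 13 13 13 13 13 13) (@D3.rec (fun _ => Nat) 11 11 11 11 0 11 11 11 11 11 11 11 11 1 2 2 11 11 11 11 11 11 11 11 11 11 11 11 11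 11 11 2) (@D3.rec (fun _ => Nat) 12 12 1 2 2 12 12 12 12 12 12 12 12 12 2 2 3 3 3 12 12 12 12 12 12 12 12 12 12 12 24 24) (@D3.rec (fun _ => Nat) 24 24 24 24 24 24 11 24 24 24 24 24 0 24 1 1 2 2 1 2 2 27 27 27 27 27 27 27 27 27 27 27) (@D3.rec (fun _ => Nat) 27 27 27 27 27 27 27 27 27 27 27 27 27 27 27 27 27 27 27 27 27 27 27 27 27 27 2 2 3 3 3 12) (@D3.rec (fun _ => Nat) 12 12 12 12 12 12 12 12 12 12 12 75 3 3 3 4 4 4 13 13 13 13 13 13 13 13 13 23 13 13 13 13) (@D3.rec (fun _ => Nat) 13 10 13 13 13 13 13 13 13 13 13 13 13 13 13 13 13 13 13 13 13 13 13 13 13 13 13 13 11 11 11 11)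
def lv_a_8 : D2 → D3 → Nat := @D2.rec (fun _ => D3 → Nat) (@D3.rec (fun _ => Nat) 11 11 11 11 12 12 72 71 75 71 14 75 77 72 79 81 75 72 78 75 11 11 11 14 73 14 14 14 14 83 14 77) (@D3.rec (fun _ => Nat) 14 14 14 14 14 14 14 14 14 14 14 14 14 14 14 75 14 14 14 14 74 78 14 14 80 76 14 14 76 12 12 12) (@D3.rec (fun _ => Nat) 12 12 75 13 24 24 24 24 24 24 24 12 24 24 24 24 24 24 24 27 27 27 27 27 27 27 27 27 27 27 27 27) (@D3.rec (fun _ => Nat) 27 27 27 27 27 27 27 27 27 27 27 27 27 27 27 27 27 13 13 13 72 29 29 12 12 12 12 12 12 12 12 12) (@D3.rec (fun _ => Nat) 12 12 12 12 12 12 12 12 12 10 10 10 64 10 10 10 10 10 10 10 10 10 10 10 66 10 11 11 11 11 11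 11) (@D3.rec (fun _ => Nat) 11 11 11 11 11 11 11 11 13 13 13 13 13 13 13 13 13 13 13 13 13 13 13 13 13 13 13 13 13 13 13 13) (@D3.rec (fun _ => Nat) 13 13 13 11 11 11 11 11 11 11 11 11 11 11 11 12 12 12 12 12 12 12 12 12 12 12 0 25 25 28 28 28) (@D3.rec (fun _ => Nat) 28 28 28 28 28 28 28 28 28 28 28 28 28 28 28 28 28 28 28 28 12 12 12 12 12 12 0 13 13 13 0 13) (@D3.rec (fun _ => Nat) 13 0 13 1 24 24 24 24 24 24 24 24 9 9 9 9 9 9 9 9 0 9 9 10 10 10 10 10 82 10 1 2) (@D3.rec (fun _ => Nat) 10 70 71 33 1 2 70 2 3 33 12 12 12 12 12 12 12 12 12 12 12 12 12 12 12 12 12 12 12 12 12 12) (@D3.rec (fun _ => Nat) 12 12 12 10 10 10 10 10 10 10 10 10 10 10 0 10 10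 10 10 10 10 10 10 10 10 10 10 10 10 10 10 0) (@D3.rec (fun _ => Nat) 10 10 1 2 10 11 11 11 11 11 0 11 11 11 11 11 11 11 11 0 11 11 11 1 2 2 11 11 11 11 11 11) (@D3.rec (fun _ => Nat) 11 11 11 11 11 11 78 11 11 11 1 2 11 2 3 11 71 2 3 3 74 76 13 13 73 13 13 13 13 13 13 13) (@D3.rec (fun _ => Nat) 13 13 13 13 0 13 13 13 13 13 73 73 73 13 13 13 13 13 13 13 13 13 13 75 79 13 13 81 78 13 13 85) (@D3.rec (fun _ => Nat) 11 11 11 11 11 11 0 11 11 11 11 11 11 11 0 11 11 11 11 11 1 2 2 11 11 11 11 11 11 11 11 11) (@D3.rec (fun _ => Nat) 11 11 11 11 11 11 1 2 2 12 12 12 12 12 1 2 12 12 12 12 12 12 12 12 1 2 12 12 12 12 12 2) (@D3.rec (fun _ => Nat) 2 3 3 3 12 12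 12 12 12 12 12 12 12 12 12 12 2 25 25 25 25 25 25 25 25 25 25 25 25 0 25 25) (@D3.rec (fun _ => Nat) 25 72 25 1 67 25 12 72 12 12 1 67 2 12 2 24 24 24 24 9 9 0 9 9 76 10 10 1 2 10 34 2) (@D3.rec (fun _ => Nat) 3 32 13 13 13 13 13 13 13 13 13 13 13 13 13 13 13 13 13 10 10 10 0 10 10 10 10 10 68 10 10 1) (@D3.rec (fun _ => Nat) 2 10 11 11 11 1 2 11 11 11 2 3 11 3 13 13 13 13 13 13 13 13 13 13 72 71 13 13 13 0 13 13) (@D3.rec (fun _ => Nat) 13 13 13 13 13 13 13 13 13 13 13 13 13 13 13 13 13 13 13 13 13 13 13 13 11 11 11 11 0 11 11 11) (@D3.rec (fun _ => Nat) 11 11 11 11 63 11 11 11 11 11 1 2 2 11 11 11 11 11 11 11 11 11 11 11 11 11 11 65 11 2 3 11)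
def lv_a_9 : D2 → D3 → Nat := @D2.rec (fun _ => D3 → Nat) (@D3.rec (fun _ => Nat) 12 12 12 1 2 12 12 12 12 12 12 12 12 12 12 2 2 3 3 12 12 12 12 12 12 12 12 12 12 3 4 12) (@D3.rec (fun _ => Nat) 14 14 14 14 14 14 68 14 14 72 14 14 72 14 73 14 72 73 14 73 77 68 14 81 77 68 14 77 71 11 11 11) (@D3.rec (fun _ => Nat) 70 73 11 11 11 11 11 11 11 11 12 12 12 12 76 14 14 14 14 14 14 76 14 14 77 14 0 14 14 14 14 14) (@D3.rec (fun _ => Nat) 14 14 14 14 14 1 2 2 14 14 14 14 14 14 14 14 14 14 84 14 14 78 14 14 14 14 14 14 14 14 14 14) (@D3.rec (fun _ => Nat) 14 14 14 14 70 76 14 14 82 76 14 14 76 12 12 1 2 2 12 12 12 12 12 12 12 12 12 2 2 3 3 3) (@D3.rec (fun _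 => Nat) 12 12 12 12 12 12 12 12 12 12 12 75 2 2 3 3 13 13 13 13 13 13 3 3 3 4 4 13 13 13 13 13) (@D3.rec (fun _ => Nat) 13 13 25 25 25 25 25 25 25 25 25 0 25 25 25 25 25 1 2 2 2 2 3 3 3 3 28 28 28 28 28 28) (@D3.rec (fun _ => Nat) 28 28 28 28 28 28 28 28 28 28 28 28 28 28 28 28 28 28 28 28 28 28 28 28 28 28 28 28 28 28 28 28) (@D3.rec (fun _ => Nat) 28 28 28 3 3 3 4 4 4 13 13 13 13 13 13 13 13 13 73 4 4 4 5 5 5 14 14 14 14 14 14 14) (@D3.rec (fun _ => Nat) 14 14 14 14 14 14 14 14 14 14 14 14 14 14 14 14 14 14 14 14 14 14 14 14 14 14 12 12 71 71 75 75) (@D3.rec (fun _ => Nat) 15 68 75 77 76 81 75 78 15 84 15 79 15 15 15 15 15 75 15 74 15 15 15 15 15 15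 15 15 15 15 15 15) (@D3.rec (fun _ => Nat) 15 15 15 15 15 73 78 15 15 76 78 15 79 79 13 74 25 25 25 25 25 25 25 25 25 25 28 28 28 28 28 28) (@D3.rec (fun _ => Nat) 28 28 28 28 28 28 28 28 28 28 28 28 28 28 28 28 28 72 28 28 28 74 13 13 13 13 13 64 13 13 13 13) (@D3.rec (fun _ => Nat) 13 13 13 13 13 13 13 13 13 13 13 13 13 13 13 13 13 13 64 11 11 11 64 64 11 11 11 11 11 11 11 11) (@D3.rec (fun _ => Nat) 11 11 66 11 12 12 12 12 12 12 12 12 12 12 14 14 14 14 14 73 14 14 14 14 14 14 70 14 14 14 14 14) (@D3.rec (fun _ => Nat) 14 14 14 14 14 14 14 14 14 14 14 74 78 14 14 81 83 14 14 83 12 12 12 12 12 12 12 12 12 12 12 81) (@D3.rec (fun _ => Nat) 13 13 13 13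 13 13 13 13 0 1 26 26 26 29 29 29 29 29 29 29 29 29 29 29 29 29 29 29 29 29 29 29) (@D3.rec (fun _ => Nat) 29 29 29 29 29 29 29 83 13 13 13 0 13 13 82 13 1 1 81 1 25 25 25 25 25 25 10 10 10 10 10 10) (@D3.rec (fun _ => Nat) 1 2 10 2 3 2 80 3 13 13 13 13 13 13 13 13 13 13 13 13 13 0 13 13 13 13 13 13 13 13 13 13) (@D3.rec (fun _ => Nat) 13 13 13 13 13 13 13 13 13 11 11 11 11 11 0 11 11 11 11 11 11 11 11 0 11 11 11 1 2 2 11 11) (@D3.rec (fun _ => Nat) 11 11 11 11 11 11 11 11 11 11 67 11 11 11 1 2 11 2 3 11 12 12 12 12 1 2 12 12 12 12 12 12) (@D3.rec (fun _ => Nat) 12 1 2 12 12 2 2 3 3 12 12 12 12 12 12 12 12 12 12 2 12 3 4 12 3 73 71 76 76 14 14 14)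
def lv_a_10 : D2 → D3 → Nat := @D2.rec (fun _ => D3 → Nat) (@D3.rec (fun _ => Nat) 74 14 14 14 14 14 0 14 14 14 14 14 14 14 14 0 14 14 73 14 14 1 2 2 14 14 14 14 14 14 14 69) (@D3.rec (fun _ => Nat) 73 72 72 78 74 14 14 14 14 14 14 14 81 14 14 14 14 14 75 77 14 81 14 84 12 12 71 12 12 12 1 71) (@D3.rec (fun _ => Nat) 2 12 12 12 12 12 12 12 12 1 71 2 12 12 12 12 12 2 2 3 3 3 12 12 12 12 12 12 12 12 12 12) (@D3.rec (fun _ => Nat) 12 12 2 13 13 13 2 3 13 13 13 13 13 13 2 3 13 13 13 13 3 3 3 4 4 13 13 13 13 13 13 13) (@D3.rec (fun _ => Nat) 13 13 0 26 26 26 26 26 0 26 26 26 26 26 26 72 26 26 26 1 71 2 26 26 69 72 2 71 10 10 1 2) (@D3.rec (fun _ => Nat) 10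 2 3 14 14 14 14 14 14 0 14 14 14 14 14 14 14 14 14 11 66 11 11 1 2 11 11 68 11 2 3 11) (@D3.rec (fun _ => Nat) 12 2 3 12 12 3 4 12 14 14 14 14 14 14 70 14 14 14 0 14 14 14 14 14 67 69 69 65 14 14 14 14) (@D3.rec (fun _ => Nat) 14 1 2 2 14 14 14 14 14 14 14 14 14 14 14 14 14 14 14 14 14 14 14 14 14 14 14 14 14 14 14 14) (@D3.rec (fun _ => Nat) 14 14 12 65 12 12 1 25 2 12 12 12 12 12 12 65 65 12 12 12 12 2 2 33 3 3 12 12 12 12 12 12) (@D3.rec (fun _ => Nat) 12 12 12 67 12 3 4 12 13 13 2 3 13 13 13 13 13 13 13 3 3 4 4 13 13 13 13 13 13 4 15 68) (@D3.rec (fun _ => Nat) 15 69 15 15 15 15 68 68 15 70 15 15 72 15 76 77 15 73 81 15 72 73 82 72 83 76 80 70 12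 70 70 70) (@D3.rec (fun _ => Nat) 12 12 12 13 13 15 15 15 15 15 0 15 15 15 15 15 76 15 74 15 1 2 2 15 15 15 15 29 15 15 15 15) (@D3.rec (fun _ => Nat) 15 15 31 15 15 2 2 3 3 3 3 15 15 15 15 15 15 15 15 15 15 15 15 15 15 15 76 84 15 78 15 15) (@D3.rec (fun _ => Nat) 15 15 15 15 15 15 15 15 15 15 15 15 15 74 81 15 82 79 2 2 29 3 3 13 13 13 13 13 13 3 3 3) (@D3.rec (fun _ => Nat) 29 4 4 13 13 13 13 13 13 13 77 3 3 4 14 14 14 14 4 4 5 5 14 14 14 26 26 26 26 26 26 26) (@D3.rec (fun _ => Nat) 1 2 2 26 26 26 26 26 26 2 3 3 3 3 4 4 4 4 4 4 86 29 29 29 29 29 29 29 29 29 29 29) (@D3.rec (fun _ => Nat) 29 29 29 29 29 29 29 29 29 29 29 29 29 29 29 29 29 29 29 29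 29 29 29 29 29 75 29 29 29 29 29 4) (@D3.rec (fun _ => Nat) 4 4 5 5 5 14 14 14 73 79 5 5 5 6 6 76 15 15 15 15 15 15 15 15 15 15 15 15 15 15 15 15) (@D3.rec (fun _ => Nat) 15 15 15 15 15 15 15 15 15 15 15 15 15 74 74 75 77 77 80 82 16 76 85 83 79 16 16 16 16 75 16 75) (@D3.rec (fun _ => Nat) 74 16 16 16 16 16 16 16 16 75 72 16 79 16 16 16 16 77 16 73 76 82 26 26 26 26 26 26 26 26 26 29) (@D3.rec (fun _ => Nat) 29 29 29 29 29 29 29 29 29 29 77 29 29 29 29 73 14 14 14 66 14 14 14 14 66 66 14 14 14 14 14 14) (@D3.rec (fun _ => Nat) 14 14 14 14 14 14 14 14 14 14 14 14 14 14 14 14 14 14 66 12 12 66 66 12 12 12 12 12 12 12 68 12)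
def lv_a_11 : D2 → D3 → Nat := @D2.rec (fun _ => D3 → Nat) (@D3.rec (fun _ => Nat) 13 13 13 13 13 13 77 15 15 15 15 15 15 70 15 15 72 15 15 15 15 71 15 15 15 72 15 15 15 15 15 15) (@D3.rec (fun _ => Nat) 15 15 15 15 15 15 15 15 15 15 15 81 76 15 82 75 84 72 13 13 13 13 13 13 13 13 0 79 14 14 14 14) (@D3.rec (fun _ => Nat) 0 1 27 27 27 30 30 30 30 30 30 30 30 30 30 30 30 30 0 30 30 30 30 30 30 30 80 1 26 26 26 26) (@D3.rec (fun _ => Nat) 2 82 3 14 14 14 14 14 14 14 14 0 14 14 14 14 14 14 14 14 0 14 14 14 14 1 2 2 14 14 14 14) (@D3.rec (fun _ => Nat) 14 14 14 14 14 14 14 14 14 14 14 14 14 14 14 14 14 12 74 12 12 12 1 26 2 12 12 12 12 69 12 12) (@D3.rec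 (fun _ => Nat) 12 1 2 12 12 2 2 28 3 3 12 12 12 12 12 12 12 12 12 12 69 2 82 12 3 4 12 13 13 13 2 3) (@D3.rec (fun _ => Nat) 13 13 13 13 13 13 2 3 13 13 3 3 4 4 13 13 13 13 13 13 0 4 71 76 73 78 0 15 15 15 15 15) (@D3.rec (fun _ => Nat) 75 15 15 72 15 15 15 15 1 69 2 15 15 15 15 32 15 15 15 15 15 15 1 72 2 67 75 15 15 29 76 15) (@D3.rec (fun _ => Nat) 2 2 3 3 3 3 15 15 15 15 15 15 15 15 15 15 74 69 78 74 75 78 72 15 15 15 15 15 15 15 15 83) (@D3.rec (fun _ => Nat) 15 83 79 15 15 79 83 84 13 73 13 13 2 29 71 3 13 13 13 13 13 13 2 74 3 13 13 13 13 3 3 3) (@D3.rec (fun _ => Nat) 28 4 4 13 13 13 13 13 13 13 13 13 0 14 3 14 14 14 14 14 14 3 14 14 14 14 4 4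 5 5 14 14) (@D3.rec (fun _ => Nat) 14 14 0 14 14 1 27 75 27 27 27 27 27 1 2 2 27 27 27 27 27 74 2 73 69 2 74 15 15 15 15 69) (@D3.rec (fun _ => Nat) 15 15 1 2 15 15 15 15 15 15 70 12 2 3 12 73 12 3 4 12 13 3 4 4 15 15 15 15 15 0 15 15) (@D3.rec (fun _ => Nat) 15 15 15 70 72 65 15 15 1 30 2 15 15 15 15 15 15 69 69 71 71 65 65 15 15 15 15 15 15 2 2 3) (@D3.rec (fun _ => Nat) 31 3 3 15 15 15 15 15 15 15 15 15 15 15 15 15 15 15 15 15 15 15 15 15 15 15 15 15 15 15 15 15) (@D3.rec (fun _ => Nat) 15 15 15 13 65 13 2 30 3 13 13 13 13 65 65 13 13 13 3 3 29 4 4 13 13 13 13 13 67 13 4 5) (@D3.rec (fun _ => Nat) 83 14 3 4 14 14 14 4 4 5 14 71 68 16 70 16 71 16 16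 74 71 70 70 74 74 16 72 16 16 74 76 75) (@D3.rec (fun _ => Nat) 75 77 16 79 80 73 77 76 81 83 72 72 72 13 13 14 16 16 16 16 16 1 2 2 16 16 16 16 77 16 16 76) (@D3.rec (fun _ => Nat) 74 16 2 2 3 29 3 3 16 16 16 29 16 16 16 29 16 16 16 16 27 16 16 16 27 16 3 3 3 3 4 4) (@D3.rec (fun _ => Nat) 4 30 4 4 4 16 16 16 16 16 16 16 16 16 16 16 16 16 16 16 16 16 16 16 16 76 74 80 73 16 16 16) (@D3.rec (fun _ => Nat) 16 16 16 16 16 16 16 16 75 83 83 84 3 3 29 4 14 14 14 14 4 4 30 5 5 14 14 14 76 4 5 15) (@D3.rec (fun _ => Nat) 5 5 6 78 27 27 27 27 27 27 2 2 3 3 3 27 27 27 27 27 27 4 4 4 4 4 4 5 5 5 5 5)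
def lv_a_12 : D2 → D3 → Nat := @D2.rec (fun _ => D3 → Nat) (@D3.rec (fun _ => Nat) 5 5 5 5 84 30 30 30 30 30 30 30 30 30 30 30 73 30 30 30 30 30 30 30 30 30 30 30 75 30 30 30) (@D3.rec (fun _ => Nat) 30 30 30 30 30 75 32 5 5 5 6 6 6 77 73 6 6 16 16 16 16 16 16 16 16 16 16 16 16 16 16 16) (@D3.rec (fun _ => Nat) 16 16 16 16 16 73 75 84 80 82 80 80 87 77 17 17 17 17 17 75 17 80 75 17 17 81 17 77 76 75 74 77) (@D3.rec (fun _ => Nat) 27 27 27 27 27 27 30 30 30 30 32 30 30 30 79 68 15 15 15 15 15 66 15 15 15 15 68 66 66 15 15 15) (@D3.rec (fun _ => Nat) 15 15 15 15 15 15 15 15 15 15 15 15 15 15 15 15 15 15 15 15 15 66 13 13 66 66 13 13 13 13 0 68) (@D3.rec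 (fun _ => Nat) 68 78 14 14 14 14 14 16 16 16 16 81 16 16 73 16 16 73 16 16 72 16 16 71 16 16 16 16 70 16 16 16) (@D3.rec (fun _ => Nat) 74 16 16 16 16 16 16 16 16 16 16 16 16 79 16 72 0 80 84 85 82 75 83 14 14 14 14 0 81 1 1 28) (@D3.rec (fun _ => Nat) 28 28 31 31 31 31 31 31 31 31 31 31 0 31 80 1 33 31 0 15 15 15 15 15 15 15 69 15 15 15 15 1) (@D3.rec (fun _ => Nat) 32 2 15 15 15 15 15 15 69 15 15 15 15 1 2 15 15 15 2 2 3 30 3 3 15 15 15 15 15 15 15 15) (@D3.rec (fun _ => Nat) 15 15 15 15 15 15 15 15 15 15 15 15 15 13 71 13 13 2 32 3 13 13 13 13 67 13 13 2 3 13 13 3) (@D3.rec (fun _ => Nat) 3 30 4 4 13 13 13 13 13 13 0 78 4 5 81 14 14 3 4 14 14 14 14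 3 79 4 4 0 1 76 76 75) (@D3.rec (fun _ => Nat) 71 78 1 2 2 16 16 16 16 79 16 16 16 16 71 16 16 16 16 2 70 30 72 3 16 16 16 34 16 16 16 28) (@D3.rec (fun _ => Nat) 16 16 69 16 16 16 2 71 71 3 75 69 26 76 16 16 26 75 16 3 3 3 3 4 4 4 31 4 4 4 16 16) (@D3.rec (fun _ => Nat) 16 16 16 16 16 16 16 16 16 16 16 78 74 71 76 74 74 75 16 79 16 16 16 16 16 81 82 16 85 16 0 73) (@D3.rec (fun _ => Nat) 14 3 30 73 14 14 14 14 14 14 3 73 14 14 14 14 4 4 30 5 5 14 14 14 14 0 14 14 79 82 1 15) (@D3.rec (fun _ => Nat) 15 78 15 15 15 5 5 15 15 1 28 73 74 28 28 28 28 2 2 3 3 28 28 28 28 16 16 16 70 16 2 3) (@D3.rec (fun _ => Nat) 16 16 16 16 73 13 3 4 71 4 5 82 4 70 16 69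 16 16 16 16 1 2 2 16 16 16 16 16 16 69 71 67) (@D3.rec (fun _ => Nat) 16 2 27 27 3 16 16 16 16 16 16 16 75 69 69 71 65 67 67 16 16 16 16 16 16 16 3 3 3 31 4 4) (@D3.rec (fun _ => Nat) 29 4 4 16 16 16 16 16 16 16 16 16 16 16 16 16 16 16 16 16 16 16 16 16 16 16 16 16 16 16 16 16) (@D3.rec (fun _ => Nat) 16 16 67 14 3 27 4 14 67 67 14 14 4 4 29 5 5 81 14 69 69 5 83 4 5 70 68 17 70 70 17 17) (@D3.rec (fun _ => Nat) 37 37 70 70 70 70 31 72 72 70 17 72 17 17 75 77 77 75 79 82 72 72 14 17 75 17 17 17 2 2 3 78) (@D3.rec (fun _ => Nat) 3 3 76 17 17 79 17 17 17 72 17 17 81 76 17 3 3 3 31 4 4 32 4 4 17 31 17 17 17 17 31 17)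
def lv_a_13 : D2 → D3 → Nat := @D2.rec (fun _ => D3 → Nat) (@D3.rec (fun _ => Nat) 17 17 29 69 31 71 17 17 17 33 17 17 17 33 4 4 4 4 4 4 5 31 5 5 5 5 31 5 5 5 17 17) (@D3.rec (fun _ => Nat) 17 17 17 17 17 17 17 17 17 17 77 17 17 17 17 17 79 74 74 79 17 17 17 17 17 17 17 17 17 77 17 78) (@D3.rec (fun _ => Nat) 4 31 5 15 5 5 31 6 6 79 74 5 80 6 28 28 28 28 3 3 3 79 4 4 28 28 28 28 28 28 5 5) (@D3.rec (fun _ => Nat) 5 5 5 5 5 5 5 6 6 6 6 6 6 6 6 6 86 83 31 31 31 31 31 31 31 31 75 31 31 31 31 31) (@D3.rec (fun _ => Nat) 31 31 31 31 31 31 31 79 31 31 79 6 6 6 7 77 76 17 17 17 17 17 17 17 17 17 76 77 80 78 76 75) (@D3.rec (fun _ => Nat) 80 82 82 18 18 82 73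 18 81 80 77 28 28 28 28 0 33 38 68 16 16 16 16 16 16 68 16 16 16 16 16 39) (@D3.rec (fun _ => Nat) 68 68 68 16 16 16 16 16 16 16 16 16 16 16 16 16 16 16 16 16 16 16 16 16 0 68 14 14 68 68 68 14) (@D3.rec (fun _ => Nat) 14 14 83 1 70 37 39 17 70 17 17 17 75 17 17 70 37 72 17 17 74 17 17 74 17 17 71 17 17 17 17 72) (@D3.rec (fun _ => Nat) 17 17 17 17 74 17 72 0 17 17 17 17 17 17 17 17 17 78 0 17 83 82 72 1 78 79 80 1 29 29 29 32) (@D3.rec (fun _ => Nat) 32 32 32 32 32 32 0 32 82 1 2 1 36 2 16 16 16 16 16 16 16 16 71 16 16 16 16 2 28 28 3 16) (@D3.rec (fun _ => Nat) 16 16 16 16 16 16 16 70 16 16 16 2 3 16 16 16 3 3 3 32 31 4 30 4 4 16 16 16 16 16 16 16)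 (@D3.rec (fun _ => Nat) 16 16 16 16 16 16 16 16 16 16 16 16 16 16 0 73 14 14 3 28 4 14 14 14 72 14 3 81 4 4 30 5) (@D3.rec (fun _ => Nat) 79 80 0 1 73 5 82 4 1 69 78 73 73 2 2 72 3 3 38 17 79 17 17 17 80 17 17 17 73 17 17 17) (@D3.rec (fun _ => Nat) 17 3 32 70 71 31 71 4 27 32 34 17 17 17 30 17 17 17 28 17 17 71 17 17 17 3 74 73 4 28 76 76) (@D3.rec (fun _ => Nat) 31 78 17 17 31 74 17 4 4 4 4 4 4 31 30 30 5 5 5 30 5 5 5 75 17 17 17 17 17 17 17 17) (@D3.rec (fun _ => Nat) 17 17 17 0 80 80 71 74 78 77 80 81 79 17 17 77 17 17 75 81 87 0 80 84 1 15 31 75 15 0 73 15) (@D3.rec (fun _ => Nat) 15 15 83 5 5 30 80 6 15 74 15 72 84 1 76 76 29 29 3 3 4 29 29 29 17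 17 72 17 3 4 17 17) (@D3.rec (fun _ => Nat) 17 73 4 5 73 5 80 72 17 67 17 17 17 2 2 38 3 3 17 17 17 17 17 17 17 71 67 17 3 29 32 4) (@D3.rec (fun _ => Nat) 17 17 17 17 17 17 17 17 71 71 71 73 67 67 67 17 17 17 17 17 17 4 4 4 4 33 28 33 5 5 29 5) (@D3.rec (fun _ => Nat) 5 5 17 17 17 17 17 17 17 17 17 17 17 17 17 17 17 17 17 17 17 17 17 17 17 17 17 17 17 67 4 5) (@D3.rec (fun _ => Nat) 67 67 67 5 5 71 6 85 69 85 70 75 18 72 72 18 18 37 38 72 72 72 72 77 70 74 72 18 74 18 18 79) (@D3.rec (fun _ => Nat) 77 74 74 77 18 18 74 3 3 3 33 32 4 72 4 4 78 71 74 18 18 72 18 18 18 74 18 18 78 18 4 4)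
def lv_a_14 : D2 → D3 → Nat := @D2.rec (fun _ => D3 → Nat) (@D3.rec (fun _ => Nat) 4 4 39 38 31 5 5 31 5 5 18 31 18 18 18 18 31 18 18 18 71 29 71 18 18 18 29 18 18 18 5 5) (@D3.rec (fun _ => Nat) 5 5 5 5 5 5 6 33 6 6 6 6 32 6 6 6 6 18 18 18 18 18 18 18 18 18 18 78 18 18 18 18) (@D3.rec (fun _ => Nat) 18 18 82 81 81 74 79 78 18 18 18 18 79 18 76 5 31 6 81 6 6 7 81 76 29 29 29 4 4 76 76 29) (@D3.rec (fun _ => Nat) 29 29 29 29 0 6 6 6 6 6 6 6 6 6 7 7 7 7 7 7 81 7 7 82 87 83 32 32 32 75 32 75) (@D3.rec (fun _ => Nat) 32 32 32 32 32 75 7 78 18 18 18 77 79 81 71 76 82 82 86 88 19 19 0 80 81 81 0 80 1 38 68 17) (@D3.rec (fun _ => Nat) 17 17 17 17 17 68 17 17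 17 17 17 39 68 68 68 68 17 17 17 17 17 17 17 17 17 17 0 17 17 17 17 17) (@D3.rec (fun _ => Nat) 17 17 17 17 0 17 1 68 84 82 68 83 68 81 74 70 39 39 18 72 18 18 18 74 18 18 70 37 73 18 18 74) (@D3.rec (fun _ => Nat) 18 18 18 74 18 73 18 18 18 18 18 72 18 18 0 18 18 18 76 80 74 1 80 18 18 18 83 18 18 0 18 81) (@D3.rec (fun _ => Nat) 83 86 1 2 74 76 82 30 30 30 0 33 33 82 0 33 1 2 2 2 38 3 17 17 17 17 17 17 17 71 17 17) (@D3.rec (fun _ => Nat) 17 17 3 32 34 4 17 17 17 17 17 17 17 17 71 17 17 17 3 4 17 17 17 4 4 4 32 5 30 5 5 5) (@D3.rec (fun _ => Nat) 17 17 17 17 17 17 17 17 17 17 17 0 17 17 17 17 0 1 73 4 5 76 81 75 5 81 1 83 71 73 71 3) (@D3.rec (fun _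 => Nat) 3 72 4 4 40 18 73 18 18 18 74 18 18 18 73 18 18 18 18 4 32 70 72 32 73 5 29 32 34 18 18 18) (@D3.rec (fun _ => Nat) 30 18 18 18 18 18 0 72 18 18 18 4 74 75 5 28 78 76 28 76 18 18 18 75 84 85 5 5 5 5 5 5) (@D3.rec (fun _ => Nat) 31 32 32 6 6 6 33 6 6 6 6 77 18 18 18 18 18 18 18 18 18 0 18 18 18 82 1 76 76 78 83 76) (@D3.rec (fun _ => Nat) 0 77 80 83 84 85 18 77 0 80 84 1 2 76 75 76 1 75 77 80 6 32 82 83 75 4 30 0 18 18 72 18) (@D3.rec (fun _ => Nat) 4 5 5 18 18 18 73 5 84 71 69 18 18 3 3 40 4 4 18 18 18 18 18 18 18 71 69 18 4 29 29 5) (@D3.rec (fun _ => Nat) 5 18 18 18 18 18 18 18 18 71 71 71 73 69 69 69 69 18 18 18 18 18 18 5 5 5 5 5 35 28 33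 6) (@D3.rec (fun _ => Nat) 6 31 6 6 6 6 18 18 18 18 18 18 18 18 18 18 18 18 18 18 18 18 18 18 18 18 18 69 5 69 69 6) (@D3.rec (fun _ => Nat) 77 83 71 85 72 75 19 77 72 19 19 38 37 72 72 72 72 74 77 72 74 72 19 74 19 19 74 73 19 19 79 4) (@D3.rec (fun _ => Nat) 4 4 33 34 5 82 5 5 71 71 73 19 19 75 19 19 19 19 77 19 19 0 19 5 5 5 5 39 40 33 6 6) (@D3.rec (fun _ => Nat) 34 6 6 6 19 33 19 19 19 19 31 19 19 19 71 33 74 19 19 19 35 19 19 19 6 6 6 6 6 6 6 6) (@D3.rec (fun _ => Nat) 6 7 33 7 7 7 7 7 33 7 7 76 7 7 7 19 19 19 19 19 19 19 80 19 19 19 19 19 82 19 19 19)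
def lv_a_15 : D2 → D3 → Nat := @D2.rec (fun _ => D3 → Nat) (@D3.rec (fun _ => Nat) 80 80 82 81 78 19 6 33 75 7 76 0 76 0 0 1 7 7 7 7 7 7 7 7 84 8 8 8 8 83 77 89) (@D3.rec (fun _ => Nat) 77 91 77 19 19 0 0 73 73 75 82 90 89 79 0 87 20 1 82 1 40 70 18 18 18 18 18 18 70 70 18 18) (@D3.rec (fun _ => Nat) 18 18 18 84 41 70 70 70 70 70 18 18 18 18 18 18 18 18 0 18 18 18 1 18 18 18 18 18 0 18 1 2) (@D3.rec (fun _ => Nat) 78 87 77 70 72 39 41 19 72 19 19 19 19 74 19 19 0 72 37 76 19 19 19 76 76 19 19 19 19 73 19 19) (@D3.rec (fun _ => Nat) 19 19 19 0 19 19 74 74 82 19 19 1 2 19 19 74 76 85 19 78 84 84 0 19 1 2 19 2 74 0 1 81) (@D3.rec (fun _ => Nat) 1 2 2 3 38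 4 18 18 18 18 18 18 18 73 18 18 18 18 4 30 30 5 5 18 18 18 18 18 18 18 18 81) (@D3.rec (fun _ => Nat) 73 18 18 18 4 75 5 18 18 18 5 5 5 5 32 6 32 6 6 6 18 18 18 18 18 18 18 18 18 0 18 18) (@D3.rec (fun _ => Nat) 18 1 18 0 1 75 5 72 81 84 71 75 73 4 4 73 5 5 40 19 72 19 19 19 19 19 19 0 19 75 19 19) (@D3.rec (fun _ => Nat) 19 19 84 5 36 72 74 33 73 73 6 37 34 38 19 19 19 19 30 19 19 0 19 19 19 73 1 73 19 19 19 5) (@D3.rec (fun _ => Nat) 75 75 75 6 30 81 76 76 33 77 79 0 19 19 19 77 84 6 6 6 6 6 6 6 37 32 38 7 7 7 7 32) (@D3.rec (fun _ => Nat) 76 7 74 7 7 7 75 19 19 88 19 19 19 0 19 19 19 86 19 19 1 2 19 19 76 76 0 83 76 1 84 86) (@D3.rec (fun _ => Nat)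 0 77 1 2 84 2 79 32 83 1 19 19 75 74 19 5 5 6 6 19 19 19 82 71 69 19 19 4 4 40 5 5) (@D3.rec (fun _ => Nat) 5 19 19 19 19 19 19 19 19 0 73 69 69 19 5 5 31 34 6 6 19 19 19 19 19 19 19 19 73 73 73 73) (@D3.rec (fun _ => Nat) 69 69 69 69 71 19 19 19 19 19 19 6 6 6 6 6 6 37 38 31 7 7 7 82 31 7 7 87 7 7 19 19) (@D3.rec (fun _ => Nat) 19 19 19 19 19 19 19 19 19 19 19 19 19 81 19 69 87 71 87 72 77 77 20 74 20 20 38 39 74 74 74 74) (@D3.rec (fun _ => Nat) 74 74 74 79 70 76 72 20 76 20 81 20 20 0 5 5 5 35 34 6 82 78 6 6 74 73 76 20 79 20 75 20) (@D3.rec (fun _ => Nat) 20 0 20 20 20 77 0 20 1 20 6 6 6 6 6 37 38 33 7 7 7 33 33 7 7 7 20 33 20 20 20 20) (@D3.rec (fun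 _ => Nat) 33 20 20 73 31 74 20 20 20 31 20 20 7 7 7 7 7 7 7 7 78 7 7 7 8 37 8 8 8 8 8 78) (@D3.rec (fun _ => Nat) 8 8 34 8 8 78 8 8 79 20 20 20 20 20 20 20 81 20 20 20 20 20 20 79 20 80 88 1 0 1 1 8) (@D3.rec (fun _ => Nat) 8 8 8 80 9 89 77 80 0 20 1 1 75 78 87 0 90 88 1 88 40 70 70 19 19 19 19 19 19 19 0 70) (@D3.rec (fun _ => Nat) 72 19 19 19 84 19 19 19 41 70 70 87 70 72 70 72 72 19 19 19 19 19 19 0 19 19 19 19 1 2 19 19) (@D3.rec (fun _ => Nat) 19 0 19 1 2 19 2 80 85 70 72 41 41 20 20 74 20 20 0 20 20 20 76 0 20 1 73 39 76 76 20 20)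
def lv_a_16 : D2 → D3 → Nat := @D2.rec (fun _ => D3 → Nat) (@D3.rec (fun _ => Nat) 20 20 76 74 20 20 76 20 75 75 20 20 82 20 20 0 20 20 1 2 20 20 20 74 74 82 80 20 20 2 3 20) (@D3.rec (fun _ => Nat) 76 87 86 88 1 2 20 2 3 1 2 4 38 5 5 19 19 19 19 19 19 19 0 19 73 73 19 19 19 19 5 5) (@D3.rec (fun _ => Nat) 34 36 6 6 19 19 19 19 19 19 80 19 19 19 73 19 19 19 5 77 6 19 19 19 6 6 6 6 32 7 32 7) (@D3.rec (fun _ => Nat) 83 7 7 19 19 19 19 19 0 19 19 19 19 19 1 2 19 19 1 78 83 71 75 73 5 5 75 6 6 42 20 20) (@D3.rec (fun _ => Nat) 72 20 20 0 20 20 20 20 1 20 75 20 20 78 20 20 20 6 34 72 74 74 34 75 75 7 39 32 38 20 20 20) (@D3.rec (fun _ => Nat) 20 0 20 20 32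 76 20 20 1 2 20 20 74 74 20 20 20 6 77 77 79 77 77 7 30 77 79 0 78 78 30 77) (@D3.rec (fun _ => Nat) 77 79 1 80 20 20 7 7 7 7 7 7 7 7 39 34 38 81 8 8 8 77 8 8 35 35 81 8 77 8 8 84) (@D3.rec (fun _ => Nat) 20 86 20 84 85 20 0 20 20 1 2 80 20 20 20 84 20 20 2 3 20 79 78 1 86 1 2 84 2 3 85 20) (@D3.rec (fun _ => Nat) 20 81 74 20 6 6 7 7 20 20 79 73 71 71 20 20 5 5 5 42 6 6 6 6 20 20 20 20 0 20 20 20) (@D3.rec (fun _ => Nat) 0 20 1 73 71 71 20 6 6 31 36 7 7 20 20 20 20 20 20 20 73 73 73 73 75 71 71 71 71 71 71 71) (@D3.rec (fun _ => Nat) 20 20 20 20 20 7 7 7 7 7 7 7 39 38 79 33 8 8 8 8 79 31 8 8 85 85 8 20 20 20 20 20) (@D3.rec (fun _ => Nat) 20 20 20 20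 20 20 20 20 20 83 71 85 73 74 77 77 21 74 43 41 44 40 74 74 74 74 74 76 83 72 76 74) (@D3.rec (fun _ => Nat) 21 76 0 83 21 21 1 6 6 6 35 36 85 7 84 0 83 7 7 73 75 76 76 81 21 0 79 21 77 77 0 21) (@D3.rec (fun _ => Nat) 21 1 2 21 21 1 21 7 7 7 88 7 7 7 39 40 35 35 8 8 8 8 36 36 8 8 86 21 33 21 21 21) (@D3.rec (fun _ => Nat) 21 33 21 73 73 35 76 21 21 21 33 21 8 8 8 8 8 8 78 8 8 8 8 78 8 8 9 9 35 9 9 9) (@D3.rec (fun _ => Nat) 9 9 78 78 9 9 35 9 9 78 9 79 21 21 21 21 21 21 21 80 21 21 21 21 80 1 9 82 80 79 1 88) (@D3.rec (fun _ => Nat) 77 88 0 1 42 42 72 72 20 20 20 20 0 20 20 20 0 20 1 80 72 72 20 20 86 20 20 82 20 20 43 43) (@D3.rec (fun _ => Nat) 85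 72 72 86 79 72 72 72 72 72 20 20 20 20 20 0 20 20 1 2 20 20 20 20 20 2 85 20 1 2 20 2) (@D3.rec (fun _ => Nat) 3 80 79 72 41 41 43 43 0 21 21 76 76 0 21 21 1 2 21 21 1 21 74 74 39 39 78 78 21 21 21 21) (@D3.rec (fun _ => Nat) 21 78 78 21 84 21 75 76 85 21 21 84 84 21 21 1 2 21 21 21 2 3 3 21 21 76 76 84 82 76 21 3) (@D3.rec (fun _ => Nat) 4 89 2 3 81 3 5 5 40 40 6 6 20 20 20 20 0 20 20 20 83 20 1 20 75 75 20 20 20 20 20 6) (@D3.rec (fun _ => Nat) 6 32 38 74 7 7 20 20 20 20 77 20 20 20 20 76 20 20 75 20 20 20 6 83 7 20 20 7 7 7 7 34)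
def lv_a_17 : D2 → D3 → Nat := @D2.rec (fun _ => D3 → Nat) (@D3.rec (fun _ => Nat) 8 32 8 83 83 8 20 20 20 20 20 1 2 20 20 20 20 20 2 3 20 82 73 77 75 6 6 75 7 7 42 42) (@D3.rec (fun _ => Nat) 83 21 21 74 21 21 1 2 21 21 21 21 77 86 21 21 86 21 21 7 38 74 74 76 75 35 75 75 39 39 32 40) (@D3.rec (fun _ => Nat) 40 75 21 21 0 21 21 1 2 21 21 21 32 75 21 21 2 3 21 75 73 21 21 7 83 77 75 87 75 75 32 79) (@D3.rec (fun _ => Nat) 79 81 1 2 78 78 32 79 87 79 81 88 21 8 8 8 8 8 8 8 8 39 39 34 34 40 40 81 9 76 9 9) (@D3.rec (fun _ => Nat) 76 9 9 9 34 32 77 77 9 76 9 85 21 88 83 21 88 83 21 1 2 77 21 21 2 3 3 84 21 21 88 21) (@D3.rec (fun _ => Nat) 3 4 78 2 3 79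 3 4 85 21 81 76 7 7 8 21 75 71 73 21 21 6 6 6 6 42 42 0 7 7 7 7) (@D3.rec (fun _ => Nat) 7 21 21 0 21 21 1 2 21 21 1 87 21 75 73 73 7 7 33 33 8 21 21 21 21 21 21 75 75 75 75 71) (@D3.rec (fun _ => Nat) 73 73 73 73 71 73 21 21 21 21 8 8 8 8 8 8 8 39 39 40 40 81 33 9 9 9 9 9 75 33 9 89) (@D3.rec (fun _ => Nat) 89 89 21 21 21 21 21 83 21 21 21 21 21 21 71 76 79 79 43 41 42 42 76 76 76 76 76 76 82 72 78 74) (@D3.rec (fun _ => Nat) 1 2 83 22 7 7 7 37 80 36 0 78 8 83 1 2 80 8 73 75 75 87 78 77 0 79 22 1 2 79 22 77) (@D3.rec (fun _ => Nat) 78 1 92 22 22 22 2 3 22 8 8 85 8 8 87 8 8 89 41 40 35 33 9 9 9 9 9 33 33 9 86 22) (@D3.rec (fun _ => Nat) 33 22 22 22 33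 75 75 37 75 22 22 39 9 9 9 9 9 81 9 9 80 9 9 9 9 80 9 10 10 39 10 10) (@D3.rec (fun _ => Nat) 10 80 10 10 80 80 80 10 35 10 80 84 22 22 22 22 22 82 22 86 1 0 42 42 72 74 74 0 21 21 0 21) (@D3.rec (fun _ => Nat) 21 1 2 21 21 1 87 21 82 82 74 86 21 21 78 21 21 21 78 21 81 43 41 83 72 74 74 84 87 87 74 79) (@D3.rec (fun _ => Nat) 74 74 72 21 21 21 21 21 1 2 21 21 21 2 3 80 21 21 21 80 2 3 3 85 86 43 43 0 43 41 1 2) (@D3.rec (fun _ => Nat) 22 22 22 76 76 1 2 22 22 22 2 3 22 75 72 41 41 78 76 76 22 22 22 22 22 76 83 22 76 76 85 84) (@D3.rec (fun _ => Nat) 22 22 84 84 22 2 3 3 22 81 22 3 3 4 4 22 76 84 82 82 4 3 4 6 6 86 40 40 7 7 7 90) (@D3.rec (fun _ => Nat)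 21 21 80 21 21 1 2 21 21 21 21 75 75 21 21 21 21 7 7 34 34 80 80 8 21 21 21 21 82 21 21 21) (@D3.rec (fun _ => Nat) 21 21 82 21 75 21 21 7 83 21 8 8 8 34 9 34 85 85 21 21 21 21 21 2 3 21 21 21 3 4 73 77) (@D3.rec (fun _ => Nat) 7 7 76 8 44 42 82 22 22 22 74 22 22 22 2 3 22 22 80 22 22 22 80 22 36 74 76 77 77 34 77 41) (@D3.rec (fun _ => Nat) 41 32 78 40 40 78 22 22 22 1 2 22 22 22 2 3 3 22 22 32 78 22 3 4 76 73 73 22 81 79 79 79) (@D3.rec (fun _ => Nat) 81 79 37 79 79 79 81 2 3 80 37 79 81 79 82 9 9 9 9 9 9 9 9 41 41 36 34 40 40 83 83 10)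
def lv_a_18 : D2 → D3 → Nat := @D2.rec (fun _ => D3 → Nat) (@D3.rec (fun _ => Nat) 79 10 10 10 79 79 10 10 37 37 83 83 83 79 84 22 86 83 22 86 85 2 3 3 81 84 22 3 3 4 4 4) (@D3.rec (fun _ => Nat) 82 86 4 3 4 4 4 87 83 8 75 73 73 73 22 7 7 7 7 7 44 40 1 2 8 8 8 8 8 22 22 1) (@D3.rec (fun _ => Nat) 2 22 22 22 2 3 22 87 73 8 38 22 22 22 22 75 75 75 77 73 73 73 73 73 73 73 22 22 9 9 9 9) (@D3.rec (fun _ => Nat) 9 9 41 41 40 40 83 81 33 10 10 10 10 10 81 87 87 22 22 22 22 81 22 22 79 41 43 43 42 44 42 76) (@D3.rec (fun _ => Nat) 76 76 82 74 2 3 83 8 8 41 0 82 40 1 2 78 82 9 84 2 3 80 75 89 77 77 89 93 79 79 1 2) (@D3.rec (fun _ => Nat) 81 23 2 3 81 78 78 84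 23 23 3 4 80 9 9 88 9 9 9 84 9 87 41 42 37 35 35 10 10 10 10 10) (@D3.rec (fun _ => Nat) 38 82 23 35 23 77 77 35 77 10 10 10 10 10 81 10 10 80 10 10 80 11 11 37 11 11 80 11 80 80 80 83) (@D3.rec (fun _ => Nat) 1 2 44 44 44 74 84 74 1 2 22 22 22 1 2 22 22 22 2 3 22 88 82 82 87 84 22 22 22 84 84 22) (@D3.rec (fun _ => Nat) 22 84 86 45 43 43 86 82 74 82 74 84 81 81 89 81 87 74 74 22 22 22 22 2 3 82 22 22 3 88 82 22) (@D3.rec (fun _ => Nat) 3 43 43 43 1 2 47 41 41 2 3 3 23 23 78 78 2 3 23 23 3 4 76 74 74 41 41 41 80 80 23 79) (@D3.rec (fun _ => Nat) 23 23 23 83 78 90 82 23 86 84 3 3 4 4 4 23 81 4 4 5 84 4 7 7 7 88 42 42 42 8 82 8) (@D3.rec (fun _ => Nat)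 88 22 22 22 82 22 22 22 2 3 22 22 77 22 22 22 22 8 38 76 76 22 22 22 22 22 22 82 77 22 22 22) (@D3.rec (fun _ => Nat) 78 22 9 34 85 22 22 22 3 4 4 8 76 44 42 42 90 85 23 23 76 23 23 23 3 4 87 88 23 23 88 40) (@D3.rec (fun _ => Nat) 76 76 77 41 41 41 34 77 42 42 42 77 77 23 23 2 3 3 23 79 23 3 3 4 4 23 23 77 4 75 75 83) (@D3.rec (fun _ => Nat) 87 77 77 83 34 81 81 81 3 4 81 89 10 10 10 10 10 10 41 41 41 36 34 34 42 42 42 83 83 78 78 78) (@D3.rec (fun _ => Nat) 11 11 90 78 78 11 11 34 79 79 79 90 83 90 3 3 4 4 4 4 79 81 4 4 4 5 5 4 4 75 75 8) (@D3.rec (fun _ => Nat) 8 8 8 8 48 42 42 2 87 3 9 9 9 9 23 2 82 3 23 23 3 4 23 23 77 77 75 75 75 75 10 10) (@D3.rec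 (fun _ => Nat) 10 10 10 41 41 41 42 42 42 81 77 11 11 11 11 11 91 83 43 45 42 44 78 78 3 4 9 41 1 2 80 82) (@D3.rec (fun _ => Nat) 42 2 86 3 80 80 3 4 75 89 77 77 86 85 79 2 3 81 3 4 80 85 24 4 85 10 10 10 83 83 10 10) (@D3.rec (fun _ => Nat) 83 89 88 43 42 35 35 11 11 11 11 87 77 11 11 11 11 85 11 82 12 82 82 2 3 3 44 88 44 76 76 85) (@D3.rec (fun _ => Nat) 86 2 3 3 23 23 2 88 3 23 23 3 4 87 84 84 80 23 23 87 84 80 23 23 84 84 43 47 43 86 84 74) (@D3.rec (fun _ => Nat) 76 87 87 89 88 81 92 81 76 23 3 82 82 23 87 45 45 2 81 3 47 43 3 3 4 4 24 24 78 3 4 24)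
def lv_a_19 : D2 → D3 → Nat := @D2.rec (fun _ => D3 → Nat) (@D3.rec (fun _ => Nat) 4 74 74 43 43 78 78 24 24 81 24 83 84 4 4 4 5 5 81 5 8 8 85 85 42 42 9 9 76 88 89 23) (@D3.rec (fun _ => Nat) 23 82 23 23 23 3 4 23 23 82 23 23 23 23 84 84 23 23 4 44 46 44 91 85 24 24 24 24 4 85 82 24) (@D3.rec (fun _ => Nat) 24 78 43 43 80 80 42 42 89 80 80 24 24 3 3 4 88 4 24 24 79 4 4 5 5 24 75 75 87 83 81 81) (@D3.rec (fun _ => Nat) 81 81 4 11 11 11 11 43 43 36 36 42 42 85 85 85 85 89 81 81 12 12 91 81 81 12 85 85 88 4 4 4) (@D3.rec (fun _ => Nat) 4 5 5 5 81 5 5 6 75 75 9 9 9 9 46 42 3 80 4 10 10 10 3 84 4 24 4 77 77 75 75 75) (@D3.rec (fun _ => Nat) 11 11 11 11 11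 43 43 42 42 88 77 12 12 12 12 43 43 44 44 78 4 2 88 3 80 80 3 89 4 80 78 4) (@D3.rec (fun _ => Nat) 85 79 84 84 3 4 4 85 84 11 11 91 84 11 11 90 86 35 37 12 12 12 12 83 3 3 4 88 4 50 46 81) (@D3.rec (fun _ => Nat) 76 89 82 87 3 3 87 4 4 24 24 3 86 4 24 4 90 88 86 86 24 24 90 86 86 24 86 82 85 43 45 45) (@D3.rec (fun _ => Nat) 87 84 76 86 84 90 89 83 83 83 89 49 45 3 89 4 47 47 4 4 5 5 25 4 76 76 43 43 82 25 94 79) (@D3.rec (fun _ => Nat) 25 5 5 6 9 9 86 89 44 44 10 87 82 89 89 24 24 86 24 24 4 24 24 24 24 24 24 86 86 24 44 44) (@D3.rec (fun _ => Nat) 46 87 85 25 25 89 88 25 43 43 79 79 44 44 87 79 79 25 4 4 5 5 90 25 95 79 5 5 6 25 77 88) (@D3.rec (fun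 _ => Nat) 83 79 12 12 12 43 43 36 36 44 44 87 87 85 85 87 80 80 13 80 91 80 13 81 5 5 5 6 6 6 77 10) (@D3.rec (fun _ => Nat) 10 10 48 48 4 84 83 11 11 4 85 79 75 12 12 12 12 43 43 44 44 89 13 13 13 13 45 44 80 3 91 4) (@D3.rec (fun _ => Nat) 93 80 4 91 89 80 87 4 85 85 12 12 88 85 12 87 87 37 13 13 4 4 5 5 89 50 85 84 75 90 90 83) (@D3.rec (fun _ => Nat) 4 4 89 5 5 25 4 86 88 88 86 25 90 88 88 25 87 86 90 45 47 47 89 76 89 89 90 83 51 4 87 87) (@D3.rec (fun _ => Nat) 49 5 5 6 26 76 45 82 26 81 6 10 89 85 44 11 88 88 89 25 25 25 25 25 86 25 44 46 46 88 26 91) (@D3.rec (fun _ => Nat) 26 45 82 82 44 82 82 82 26 5 5 6 87 90 26 89 6 7 77 89 83 13 13 45 36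 44 87 87 87 87 92 92) (@D3.rec (fun _ => Nat) 83 14 93 83 6 6 76 11 11 48 91 12 79 77 13 13 13 13 45 44 89 14 14 45 46 4 93 91 80 89 83 88) (@D3.rec (fun _ => Nat) 87 13 90 13 86 37 14 5 5 6 91 88 52 90 90 90 5 5 86 91 6 26 92 90 88 26 88 88 88 85 84 45) (@D3.rec (fun _ => Nat) 47 89 88 90 51 85 49 6 7 78 45 82 11 84 46 90 91 26 26 26 26 88 46 48 87 87 45 81 46 81 81 6) (@D3.rec (fun _ => Nat) 7 92 84 7 91 14 45 38 46 89 89 91 82 82 12 50 91 14 14 45 46 15 91 81 89 87 14 90 89 6 7 91) (@D3.rec (fun _ => Nat) 92 89 6 91 7 92 90 92 88 87 47 88 90 7 87 89 46 84 84 7 92 89 92 15 90 89 7 85 7 89 91 90)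
def lv_a : Pt → Nat := @Pt.rec (fun _ => Nat) (@D1.rec (fun _ => D2 → D3 → Nat) lv_a_0 lv_a_1 lv_a_2 lv_a_3 lv_a_4 lv_a_5 lv_a_6 lv_a_7 lv_a_8 lv_a_9 lv_a_10 lv_a_11 lv_a_12 lv_a_13 lv_a_14 lv_a_15 lv_a_16 lv_a_17 lv_a_18 lv_a_19)
abbrev lc_a_Cert_tree : Cert rels S Gen.a := Cert.tree
abbrev lc_a_rc_0_0 : Cert rels S Gen.a := rc_0_0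
abbrev lc_a_rc_0_1 : Cert rels S Gen.a := rc_0_1
abbrev lc_a_rc_1_0 : Cert rels S Gen.a := rc_1_0
abbrev lc_a_rc_1_2 : Cert rels S Gen.a := rc_1_2
abbrev lc_a_rc_1_4 : Cert rels S Gen.a := rc_1_4
abbrev lc_a_rc_2_0 : Cert rels S Gen.a := rc_2_0
abbrev lc_a_rc_2_2 : Cert rels S Gen.a := rc_2_2
abbrev lc_a_rc_3_0 : Cert rels S Gen.a := rc_3_0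
abbrev lc_a_rc_3_2 : Cert rels S Gen.a := rc_3_2
abbrev lc_a_rc_46_0 : Cert rels S Gen.a := rc_46_0
abbrev lc_a_rc_46_14 : Cert rels S Gen.a := rc_46_14
abbrev lc_a_rc_46_21 : Cert rels S Gen.a := rc_46_21
abbrev lc_a_rc_46_28 : Cert rels S Gen.a := rc_46_28
abbrev lc_a_rc_46_35 : Cert rels S Gen.a := rc_46_35
abbrev lc_a_rc_46_42 : Cert rels S Gen.a := rc_46_42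
abbrev lc_a_rc_46_49 : Cert rels S Gen.a := rc_46_49
abbrev lc_a_rc_46_56 : Cert rels S Gen.a := rc_46_56
abbrev lc_a_rc_46_7 : Cert rels S Gen.a := rc_46_7
abbrev lc_a_rc_4_0 : Cert rels S Gen.a := rc_4_0
abbrev lc_a_rc_4_2 : Cert rels S Gen.a := rc_4_2
abbrev lc_a_rc_5_0 : Cert rels S Gen.a := rc_5_0
abbrev lc_a_rc_5_2 : Cert rels S Gen.a := rc_5_2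
abbrev lc_a_rc_6_0 : Cert rels S Gen.a := rc_6_0
abbrev lc_a_rc_6_2 : Cert rels S Gen.a := rc_6_2
abbrev lc_a_rc_7_0 : Cert rels S Gen.a := rc_7_0
abbrev lc_a_rc_7_2 : Cert rels S Gen.a := rc_7_2
abbrev lc_a_rc_8_0 : Cert rels S Gen.a := rc_8_0
abbrev lc_a_rc_8_2 : Cert rels S Gen.a := rc_8_2
def ce_a_0 : D2 → D3 → (Cert rels S Gen.a) := @D2.rec (fun _ => D3 → (Cert rels S Gen.a)) (@D3.rec (fun _ => (Cert rels S Gen.a)) lc_a_Cert_tree lc_a_rc_0_0 lc_a_rc_1_2 lc_a_rc_2_2 lc_a_rc_3_2 lc_a_rc_4_2 lc_a_rc_5_2 lc_a_rc_6_2 lc_a_rc_5_2 lc_a_rc_8_2 lc_a_rc_7_2 lc_a_rc_6_2 lc_a_rc_3_2 lc_a_rc_8_2 lc_a_rc_7_2 lc_a_rc_3_2 lc_a_rc_8_2 lc_a_rc_2_2 lc_a_rc_3_2 lc_a_rc_3_2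 lc_a_rc_8_2 lc_a_rc_2_2 lc_a_rc_4_2 lc_a_rc_3_2 lc_a_Cert_tree lc_a_rc_2_2 lc_a_rc_5_2 lc_a_rc_2_2 lc_a_rc_4_2 lc_a_rc_3_2 lc_a_Cert_tree lc_a_rc_2_2) (@D3.rec (fun _ => (Cert rels S Gen.a)) lc_a_rc_2_2 lc_a_rc_4_2 lc_a_rc_5_2 lc_a_rc_0_0 lc_a_rc_8_2 lc_a_rc_2_2 lc_a_Cert_tree lc_a_rc_2_2 lc_a_rc_2_2 lc_a_rc_6_2 lc_a_rc_4_2 lc_a_rc_5_2 lc_a_rc_0_0 lc_a_rc_4_2 lc_a_rc_8_2 lc_a_rc_3_2 lc_a_rc_2_2 lc_a_rc_2_2 lc_a_rc_5_2 lc_a_rc_8_2 lc_a_rc_5_2 lc_a_rc_3_2 lc_a_rc_0_0 lc_a_rc_4_2 lc_a_rc_8_2 lc_a_rc_3_2 lc_a_rc_2_2 lc_a_rc_2_2 lc_a_rc_2_2 lc_a_rc_6_2 lc_a_rc_5_2 lc_a_rc_4_2) (@D3.rec (fun _ => (Cert rels S Gen.a)) lc_a_rc_8_2 lc_a_rc_3_2 lc_a_rc_8_2 lc_a_rc_5_2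 lc_a_rc_5_2 lc_a_rc_3_2 lc_a_rc_2_2 lc_a_rc_3_2 lc_a_rc_3_2 lc_a_rc_5_2 lc_a_rc_3_2 lc_a_rc_4_2 lc_a_rc_4_2 lc_a_rc_8_2 lc_a_rc_3_2 lc_a_rc_6_2 lc_a_rc_8_2 lc_a_rc_5_2 lc_a_rc_3_2 lc_a_rc_5_2 lc_a_rc_3_2 lc_a_rc_2_2 lc_a_rc_2_2 lc_a_rc_3_2 lc_a_rc_5_2 lc_a_rc_3_2 lc_a_rc_3_2 lc_a_rc_8_2 lc_a_rc_5_2 lc_a_rc_3_2 lc_a_rc_2_2 lc_a_rc_3_2) (@D3.rec (fun _ => (Cert rels S Gen.a)) lc_a_rc_5_2 lc_a_rc_3_2 lc_a_rc_8_2 lc_a_rc_5_2 lc_a_rc_3_2 lc_a_rc_4_2 lc_a_rc_2_2 lc_a_rc_3_2 lc_a_rc_4_2 lc_a_rc_4_2 lc_a_rc_6_2 lc_a_rc_3_2 lc_a_rc_6_2 lc_a_rc_8_2 lc_a_rc_5_2 lc_a_rc_7_2 lc_a_rc_3_2 lc_a_rc_7_2 lc_a_rc_3_2 lc_a_rc_8_2 lc_a_rc_5_2 lc_a_rc_3_2 lc_a_rc_4_2 lc_a_rc_5_2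 lc_a_rc_3_2 lc_a_rc_8_2 lc_a_rc_5_2 lc_a_rc_5_2 lc_a_rc_3_2 lc_a_rc_4_2 lc_a_rc_3_2 lc_a_rc_2_2) (@D3.rec (fun _ => (Cert rels S Gen.a)) lc_a_rc_3_2 lc_a_rc_5_2 lc_a_rc_3_2 lc_a_rc_8_2 lc_a_rc_8_2 lc_a_rc_5_2 lc_a_rc_3_2 lc_a_rc_3_2 lc_a_rc_4_2 lc_a_rc_8_2 lc_a_rc_5_2 lc_a_rc_2_2 lc_a_rc_4_2 lc_a_rc_6_2 lc_a_Cert_tree lc_a_rc_2_2 lc_a_rc_7_2 lc_a_rc_3_2 lc_a_rc_3_2 lc_a_rc_8_2 lc_a_rc_5_2 lc_a_rc_3_2 lc_a_rc_3_2 lc_a_rc_8_2 lc_a_rc_4_2 lc_a_rc_2_2 lc_a_rc_3_2 lc_a_rc_8_2 lc_a_rc_5_2 lc_a_rc_5_2 lc_a_rc_3_2 lc_a_rc_4_0) (@D3.rec (fun _ => (Cert rels S Gen.a)) lc_a_rc_4_2 lc_a_rc_5_2 lc_a_rc_4_2 lc_a_rc_8_2 lc_a_rc_5_2 lc_a_rc_8_2 lc_a_rc_5_2 lc_a_rc_3_2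 lc_a_rc_2_2 lc_a_rc_4_2 lc_a_rc_6_2 lc_a_rc_2_2 lc_a_rc_4_2 lc_a_Cert_tree lc_a_rc_5_2 lc_a_rc_3_2 lc_a_rc_4_2 lc_a_rc_5_2 lc_a_rc_5_2 lc_a_rc_3_2 lc_a_rc_2_2 lc_a_rc_4_2 lc_a_rc_2_2 lc_a_rc_3_0 lc_a_rc_8_2 lc_a_rc_2_2 lc_a_rc_5_2 lc_a_Cert_tree lc_a_rc_2_2 lc_a_rc_6_2 lc_a_rc_7_2 lc_a_rc_0_0) (@D3.rec (fun _ => (Cert rels S Gen.a)) lc_a_rc_4_0 lc_a_rc_4_2 lc_a_rc_3_2 lc_a_rc_5_2 lc_a_rc_5_2 lc_a_rc_3_2 lc_a_rc_4_2 lc_a_rc_4_2 lc_a_rc_6_2 lc_a_rc_5_2 lc_a_rc_2_2 lc_a_rc_4_2 lc_a_rc_6_2 lc_a_rc_5_2 lc_a_rc_5_2 lc_a_rc_3_2 lc_a_rc_3_2 lc_a_rc_2_2 lc_a_rc_4_2 lc_a_rc_3_0 lc_a_rc_6_2 lc_a_rc_3_2 lc_a_rc_8_2 lc_a_rc_5_2 lc_a_rc_8_2 lc_a_rc_3_2 lc_a_rc_8_2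 lc_a_rc_2_2 lc_a_rc_5_2 lc_a_rc_2_2 lc_a_rc_4_2 lc_a_Cert_tree) (@D3.rec (fun _ => (Cert rels S Gen.a)) lc_a_rc_2_2 lc_a_rc_6_2 lc_a_rc_7_2 lc_a_Cert_tree lc_a_rc_2_2 lc_a_rc_0_0 lc_a_rc_3_2 lc_a_rc_2_2 lc_a_rc_4_2 lc_a_rc_3_2 lc_a_rc_3_2 lc_a_rc_2_2 lc_a_rc_4_2 lc_a_Cert_tree lc_a_rc_2_2 lc_a_rc_5_0 lc_a_rc_5_0 lc_a_rc_3_0 lc_a_rc_2_2 lc_a_rc_8_2 lc_a_Cert_tree lc_a_rc_2_2 lc_a_rc_6_2 lc_a_rc_0_0 lc_a_rc_4_2 lc_a_rc_2_2 lc_a_rc_7_2 lc_a_rc_4_2 lc_a_rc_5_2 lc_a_rc_3_2 lc_a_rc_3_2 lc_a_rc_2_2) (@D3.rec (fun _ => (Cert rels S Gen.a)) lc_a_rc_4_2 lc_a_rc_6_2 lc_a_rc_3_2 lc_a_rc_8_2 lc_a_rc_6_2 lc_a_rc_3_2 lc_a_rc_4_0 lc_a_rc_8_2 lc_a_rc_5_2 lc_a_rc_6_2 lc_a_rc_3_2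 lc_a_rc_3_2 lc_a_rc_2_2 lc_a_rc_4_2 lc_a_rc_2_2 lc_a_rc_4_2 lc_a_Cert_tree lc_a_rc_2_2 lc_a_rc_6_2 lc_a_rc_7_2 lc_a_rc_6_2 lc_a_rc_6_2 lc_a_rc_2_2 lc_a_rc_3_2 lc_a_rc_8_2 lc_a_rc_3_2 lc_a_rc_3_2 lc_a_rc_2_2 lc_a_rc_4_2 lc_a_rc_2_2 lc_a_rc_8_2 lc_a_Cert_tree) (@D3.rec (fun _ => (Cert rels S Gen.a)) lc_a_rc_2_2 lc_a_rc_6_2 lc_a_Cert_tree lc_a_rc_2_2 lc_a_rc_4_2 lc_a_rc_0_0 lc_a_rc_4_2 lc_a_rc_2_2 lc_a_rc_7_2 lc_a_rc_0_0 lc_a_rc_4_2 lc_a_rc_3_2 lc_a_rc_2_2 lc_a_rc_4_2 lc_a_Cert_tree lc_a_rc_2_2 lc_a_rc_2_2 lc_a_rc_4_2 lc_a_rc_2_2 lc_a_rc_4_2 lc_a_Cert_tree lc_a_rc_2_2 lc_a_rc_0_1 lc_a_rc_0_0 lc_a_rc_4_2 lc_a_rc_5_0 lc_a_rc_5_0 lc_a_rc_7_2 lc_a_rc_46_14 lc_a_Cert_tree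 lc_a_rc_2_2 lc_a_rc_8_2) (@D3.rec (fun _ => (Cert rels S Gen.a)) lc_a_rc_0_0 lc_a_rc_4_2 lc_a_rc_3_2 lc_a_rc_2_2 lc_a_rc_7_2 lc_a_rc_4_2 lc_a_rc_6_2 lc_a_rc_2_2 lc_a_rc_5_2 lc_a_rc_3_2 lc_a_rc_2_2 lc_a_rc_4_2 lc_a_rc_2_2 lc_a_rc_4_2 lc_a_Cert_tree lc_a_rc_2_2 lc_a_rc_6_2 lc_a_rc_8_2 lc_a_rc_4_2 lc_a_rc_3_2 lc_a_rc_2_2 lc_a_rc_4_2 lc_a_rc_8_2 lc_a_rc_4_2 lc_a_rc_3_2 lc_a_rc_3_2 lc_a_rc_2_2 lc_a_rc_4_2 lc_a_rc_2_2 lc_a_rc_4_2 lc_a_Cert_tree lc_a_rc_2_2) (@D3.rec (fun _ => (Cert rels S Gen.a)) lc_a_rc_6_2 lc_a_Cert_tree lc_a_rc_2_2 lc_a_rc_6_2 lc_a_rc_0_0 lc_a_rc_4_2 lc_a_rc_7_2 lc_a_rc_2_2 lc_a_rc_6_2 lc_a_rc_6_2 lc_a_rc_7_2 lc_a_rc_2_2 lc_a_rc_5_2 lc_a_rc_3_2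 lc_a_rc_2_2 lc_a_rc_4_2 lc_a_rc_2_2 lc_a_rc_4_2 lc_a_Cert_tree lc_a_rc_2_2 lc_a_rc_4_2 lc_a_Cert_tree lc_a_rc_2_2 lc_a_rc_8_2 lc_a_rc_0_0 lc_a_rc_4_2 lc_a_rc_3_2 lc_a_rc_2_2 lc_a_rc_7_2 lc_a_rc_0_0 lc_a_rc_4_2 lc_a_rc_3_2) (@D3.rec (fun _ => (Cert rels S Gen.a)) lc_a_rc_2_2 lc_a_rc_4_2 lc_a_rc_4_2 lc_a_rc_6_2 lc_a_rc_2_2 lc_a_rc_4_2 lc_a_rc_3_2 lc_a_rc_5_2 lc_a_Cert_tree lc_a_rc_2_2 lc_a_rc_0_0 lc_a_rc_4_2 lc_a_Cert_tree lc_a_rc_2_2 lc_a_rc_6_2 lc_a_Cert_tree lc_a_rc_2_2 lc_a_rc_6_2 lc_a_rc_0_0 lc_a_rc_4_2 lc_a_rc_3_2 lc_a_rc_2_2 lc_a_rc_7_2 lc_a_rc_4_2 lc_a_rc_3_2 lc_a_rc_6_2 lc_a_rc_2_2 lc_a_rc_7_2 lc_a_rc_0_0 lc_a_rc_4_2 lc_a_rc_3_2 lc_a_rc_2_2) (@D3.rec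 (fun _ => (Cert rels S Gen.a)) lc_a_rc_8_2 lc_a_rc_4_2 lc_a_rc_3_2 lc_a_rc_6_2 lc_a_rc_3_2 lc_a_rc_2_2 lc_a_rc_6_2 lc_a_rc_7_2 lc_a_rc_3_2 lc_a_rc_2_2 lc_a_rc_4_2 lc_a_Cert_tree lc_a_rc_2_2 lc_a_rc_6_2 lc_a_Cert_tree lc_a_rc_2_2 lc_a_rc_6_2 lc_a_rc_0_0 lc_a_rc_4_2 lc_a_rc_2_2 lc_a_rc_5_2 lc_a_rc_3_2 lc_a_rc_2_2 lc_a_rc_4_2 lc_a_Cert_tree lc_a_rc_2_2 lc_a_rc_6_2 lc_a_rc_5_2 lc_a_rc_3_2 lc_a_rc_2_2 lc_a_rc_4_2 lc_a_rc_2_2) (@D3.rec (fun _ => (Cert rels S Gen.a)) lc_a_rc_4_2 lc_a_Cert_tree lc_a_rc_2_2 lc_a_rc_6_2 lc_a_Cert_tree lc_a_rc_2_2 lc_a_rc_6_2 lc_a_rc_0_0 lc_a_rc_4_2 lc_a_rc_3_2 lc_a_rc_2_2 lc_a_rc_6_2 lc_a_rc_0_0 lc_a_rc_4_2 lc_a_rc_3_2 lc_a_rc_2_2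 lc_a_rc_4_2 lc_a_rc_4_2 lc_a_rc_3_2 lc_a_rc_6_2 lc_a_rc_6_2 lc_a_rc_7_2 lc_a_rc_6_2 lc_a_rc_4_2 lc_a_rc_6_2 lc_a_rc_8_2 lc_a_rc_2_2 lc_a_rc_5_2 lc_a_rc_2_2 lc_a_rc_4_2 lc_a_Cert_tree lc_a_rc_2_2) (@D3.rec (fun _ => (Cert rels S Gen.a)) lc_a_rc_6_2 lc_a_Cert_tree lc_a_rc_2_2 lc_a_rc_4_2 lc_a_rc_0_0 lc_a_rc_4_2 lc_a_rc_3_2 lc_a_rc_2_2 lc_a_rc_4_2 lc_a_rc_0_0 lc_a_rc_4_2 lc_a_rc_3_2 lc_a_rc_2_2 lc_a_rc_8_2 lc_a_rc_4_2 lc_a_rc_3_2 lc_a_rc_6_2 lc_a_rc_3_2 lc_a_rc_2_2 lc_a_rc_4_2 lc_a_rc_3_2 lc_a_rc_6_2 lc_a_rc_3_2 lc_a_rc_5_2 lc_a_rc_2_2 lc_a_rc_6_2 lc_a_rc_7_2 lc_a_rc_3_2 lc_a_rc_2_2 lc_a_rc_5_2 lc_a_rc_8_2 lc_a_rc_0_0) (@D3.rec (fun _ => (Cert rels S Gen.a))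 lc_a_rc_4_2 lc_a_rc_3_2 lc_a_rc_4_2 lc_a_rc_0_0 lc_a_rc_4_2 lc_a_rc_3_2 lc_a_rc_2_2 lc_a_rc_0_0 lc_a_rc_4_2 lc_a_rc_3_2 lc_a_rc_2_2 lc_a_rc_8_2 lc_a_rc_4_2 lc_a_rc_3_2 lc_a_rc_6_2 lc_a_rc_3_2 lc_a_rc_3_2 lc_a_rc_7_2 lc_a_rc_3_2 lc_a_rc_6_2 lc_a_rc_5_2 lc_a_rc_7_2 lc_a_rc_4_2 lc_a_rc_3_2 lc_a_rc_6_2 lc_a_rc_3_2 lc_a_rc_5_2 lc_a_rc_2_2 lc_a_rc_3_2 lc_a_rc_6_2 lc_a_rc_2_2 lc_a_rc_3_2) (@D3.rec (fun _ => (Cert rels S Gen.a)) lc_a_rc_7_2 lc_a_rc_4_2 lc_a_rc_3_2 lc_a_rc_7_2 lc_a_rc_2_2 lc_a_rc_4_2 lc_a_Cert_tree lc_a_rc_2_2 lc_a_rc_6_2 lc_a_rc_0_0 lc_a_rc_4_2 lc_a_rc_3_2 lc_a_rc_2_2 lc_a_rc_0_0 lc_a_rc_4_2 lc_a_rc_3_2 lc_a_rc_2_2 lc_a_rc_4_2 lc_a_rc_6_2 lc_a_rc_3_2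 lc_a_rc_2_2 lc_a_rc_3_2 lc_a_Cert_tree lc_a_rc_2_2 lc_a_rc_6_2 lc_a_rc_0_0 lc_a_rc_4_2 lc_a_rc_3_2 lc_a_rc_2_2 lc_a_rc_7_2 lc_a_rc_3_2 lc_a_rc_2_2) (@D3.rec (fun _ => (Cert rels S Gen.a)) lc_a_rc_3_2 lc_a_Cert_tree lc_a_rc_2_2 lc_a_rc_6_2 lc_a_Cert_tree lc_a_rc_2_2 lc_a_rc_6_2 lc_a_rc_0_0 lc_a_rc_4_2 lc_a_rc_3_2 lc_a_rc_2_2 lc_a_rc_4_2 lc_a_rc_0_0 lc_a_rc_4_2 lc_a_rc_3_2 lc_a_rc_2_2 lc_a_rc_7_2 lc_a_rc_4_2 lc_a_rc_3_2 lc_a_rc_6_2 lc_a_rc_3_2 lc_a_rc_7_2 lc_a_rc_6_2 lc_a_rc_4_2 lc_a_rc_3_2 lc_a_rc_6_2 lc_a_rc_3_2 lc_a_rc_5_2 lc_a_rc_4_2 lc_a_rc_3_2 lc_a_rc_6_2 lc_a_rc_3_2) (@D3.rec (fun _ => (Cert rels S Gen.a)) lc_a_rc_5_2 lc_a_rc_7_2 lc_a_rc_4_2 lc_a_rc_6_2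 lc_a_rc_8_2 lc_a_rc_4_2 lc_a_rc_3_2 lc_a_rc_2_2 lc_a_rc_5_2 lc_a_Cert_tree lc_a_rc_2_2 lc_a_rc_6_2 lc_a_rc_0_0 lc_a_rc_4_2 lc_a_rc_3_2 lc_a_rc_2_2 lc_a_rc_7_2 lc_a_rc_0_0 lc_a_rc_4_2 lc_a_rc_3_2 lc_a_rc_2_2 lc_a_rc_4_2 lc_a_rc_4_2 lc_a_rc_3_2 lc_a_rc_6_2 lc_a_rc_3_2 lc_a_rc_5_2 lc_a_rc_2_2 lc_a_rc_4_2 lc_a_rc_3_2 lc_a_rc_6_2 lc_a_rc_3_2) (@D3.rec (fun _ => (Cert rels S Gen.a)) lc_a_rc_5_2 lc_a_rc_2_2 lc_a_rc_3_2 lc_a_rc_6_2 lc_a_rc_2_2 lc_a_rc_3_2 lc_a_rc_7_2 lc_a_rc_4_2 lc_a_rc_3_2 lc_a_rc_3_2 lc_a_rc_6_2 lc_a_rc_2_2 lc_a_rc_3_2 lc_a_rc_5_2 lc_a_rc_7_2 lc_a_rc_3_2 lc_a_rc_5_2 lc_a_rc_8_2 lc_a_rc_7_2 lc_a_rc_2_2 lc_a_rc_5_2 lc_a_rc_2_2 lc_a_rc_8_2 lc_a_rc_4_2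 lc_a_rc_3_2 lc_a_rc_4_2 lc_a_rc_3_2 lc_a_rc_6_2 lc_a_rc_3_2 lc_a_rc_5_2 lc_a_rc_4_2 lc_a_rc_3_2) (@D3.rec (fun _ => (Cert rels S Gen.a)) lc_a_rc_6_2 lc_a_rc_3_2 lc_a_rc_5_2 lc_a_rc_8_2 lc_a_rc_3_2 lc_a_rc_6_2 lc_a_rc_2_2 lc_a_rc_3_2 lc_a_rc_5_2 lc_a_rc_7_2 lc_a_rc_7_2 lc_a_rc_5_2 lc_a_rc_7_2 lc_a_rc_3_2 lc_a_rc_6_2 lc_a_rc_2_2 lc_a_rc_3_2 lc_a_rc_5_2 lc_a_rc_7_2 lc_a_rc_4_2 lc_a_rc_3_2 lc_a_rc_5_2 lc_a_rc_2_2 lc_a_rc_3_2 lc_a_rc_7_2 lc_a_rc_2_2 lc_a_rc_4_2 lc_a_rc_3_2 lc_a_rc_4_2 lc_a_Cert_tree lc_a_rc_2_2 lc_a_rc_6_2)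
def ce_a_1 : D2 → D3 → (Cert rels S Gen.a) := @D2.rec (fun _ => D3 → (Cert rels S Gen.a)) (@D3.rec (fun _ => (Cert rels S Gen.a)) lc_a_rc_0_0 lc_a_rc_4_2 lc_a_rc_3_2 lc_a_rc_2_2 lc_a_rc_4_2 lc_a_rc_3_2 lc_a_rc_6_2 lc_a_rc_3_2 lc_a_rc_4_2 lc_a_rc_3_2 lc_a_rc_6_2 lc_a_rc_3_2 lc_a_rc_5_2 lc_a_rc_6_2 lc_a_rc_2_2 lc_a_rc_4_2 lc_a_Cert_tree lc_a_rc_2_2 lc_a_rc_3_2 lc_a_rc_0_0 lc_a_rc_4_2 lc_a_rc_3_2 lc_a_rc_2_2 lc_a_rc_7_2 lc_a_rc_4_2 lc_a_rc_3_2 lc_a_rc_6_2 lc_a_rc_3_2 lc_a_rc_5_2 lc_a_rc_2_2 lc_a_rc_2_2 lc_a_rc_4_2) (@D3.rec (fun _ => (Cert rels S Gen.a)) lc_a_Cert_tree lc_a_rc_2_2 lc_a_rc_3_2 lc_a_rc_0_0 lc_a_rc_4_2 lc_a_rc_3_2 lc_a_rc_2_2 lc_a_rc_0_1 lc_a_rc_0_0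 lc_a_rc_4_2 lc_a_rc_3_2 lc_a_rc_2_2 lc_a_rc_7_2 lc_a_rc_4_2 lc_a_rc_3_2 lc_a_rc_6_2 lc_a_rc_3_2 lc_a_rc_5_2 lc_a_rc_4_2 lc_a_rc_4_2 lc_a_rc_3_2 lc_a_rc_6_2 lc_a_rc_3_2 lc_a_rc_5_2 lc_a_rc_2_2 lc_a_rc_3_2 lc_a_rc_6_2 lc_a_rc_2_2 lc_a_rc_3_2 lc_a_rc_5_2 lc_a_rc_7_2 lc_a_rc_4_2) (@D3.rec (fun _ => (Cert rels S Gen.a)) lc_a_rc_5_2 lc_a_rc_5_2 lc_a_rc_8_2 lc_a_rc_3_2 lc_a_rc_6_2 lc_a_rc_2_2 lc_a_rc_3_2 lc_a_rc_5_2 lc_a_rc_7_2 lc_a_rc_6_2 lc_a_rc_4_2 lc_a_rc_5_2 lc_a_rc_8_2 lc_a_rc_3_2 lc_a_rc_5_2 lc_a_rc_7_2 lc_a_rc_4_2 lc_a_rc_5_2 lc_a_rc_8_2 lc_a_rc_4_2 lc_a_rc_46_21 lc_a_rc_3_2 lc_a_rc_4_2 lc_a_Cert_tree lc_a_rc_2_2 lc_a_rc_6_2 lc_a_rc_0_0 lc_a_rc_4_2 lc_a_rc_3_2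 lc_a_rc_2_2 lc_a_rc_7_2 lc_a_rc_4_2) (@D3.rec (fun _ => (Cert rels S Gen.a)) lc_a_rc_3_2 lc_a_rc_6_2 lc_a_rc_3_2 lc_a_rc_5_2 lc_a_rc_2_2 lc_a_rc_4_2 lc_a_rc_3_2 lc_a_rc_6_2 lc_a_rc_3_2 lc_a_rc_5_2 lc_a_rc_2_2 lc_a_rc_3_2 lc_a_rc_6_2 lc_a_rc_2_2 lc_a_rc_3_2 lc_a_rc_5_2 lc_a_rc_7_2 lc_a_rc_3_2 lc_a_rc_3_2 lc_a_rc_5_2 lc_a_rc_8_2 lc_a_rc_3_2 lc_a_rc_6_2 lc_a_rc_2_2 lc_a_rc_3_2 lc_a_rc_5_2 lc_a_rc_7_2 lc_a_rc_4_2 lc_a_rc_3_2 lc_a_rc_5_2 lc_a_rc_2_2 lc_a_rc_3_2) (@D3.rec (fun _ => (Cert rels S Gen.a)) lc_a_rc_7_2 lc_a_rc_2_2 lc_a_rc_4_2 lc_a_rc_3_2 lc_a_rc_4_2 lc_a_rc_2_2 lc_a_rc_3_2 lc_a_rc_5_2 lc_a_rc_7_2 lc_a_rc_2_2 lc_a_rc_2_2 lc_a_rc_3_2 lc_a_rc_5_2 lc_a_rc_8_2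 lc_a_rc_5_2 lc_a_rc_8_2 lc_a_rc_1_2 lc_a_rc_2_2 lc_a_rc_8_2 lc_a_rc_3_2 lc_a_rc_2_2 lc_a_rc_3_2 lc_a_rc_2_2 lc_a_rc_3_2 lc_a_rc_6_2 lc_a_rc_2_2 lc_a_rc_3_2 lc_a_rc_5_2 lc_a_rc_4_2 lc_a_rc_4_2 lc_a_rc_3_2 lc_a_rc_6_2) (@D3.rec (fun _ => (Cert rels S Gen.a)) lc_a_rc_2_2 lc_a_rc_3_2 lc_a_rc_5_2 lc_a_rc_7_2 lc_a_rc_8_2 lc_a_rc_2_2 lc_a_rc_3_2 lc_a_rc_5_2 lc_a_rc_7_2 lc_a_rc_2_2 lc_a_rc_2_2 lc_a_rc_3_2 lc_a_rc_2_2 lc_a_rc_3_2 lc_a_rc_5_2 lc_a_rc_7_2 lc_a_rc_2_2 lc_a_rc_2_2 lc_a_rc_4_2 lc_a_rc_3_2 lc_a_rc_5_2 lc_a_rc_4_2 lc_a_rc_5_2 lc_a_rc_5_2 lc_a_rc_1_2 lc_a_rc_2_2 lc_a_rc_4_2 lc_a_rc_3_2 lc_a_rc_2_2 lc_a_rc_2_2 lc_a_rc_4_2 lc_a_rc_6_2) (@D3.rec (fun _ =>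 (Cert rels S Gen.a)) lc_a_rc_0_0 lc_a_rc_4_2 lc_a_rc_3_2 lc_a_rc_2_2 lc_a_rc_4_2 lc_a_rc_3_2 lc_a_rc_6_2 lc_a_rc_3_2 lc_a_rc_5_2 lc_a_rc_3_2 lc_a_rc_6_2 lc_a_rc_2_2 lc_a_rc_3_2 lc_a_rc_4_2 lc_a_rc_3_2 lc_a_rc_6_2 lc_a_rc_2_2 lc_a_rc_3_2 lc_a_rc_5_2 lc_a_rc_5_2 lc_a_rc_8_2 lc_a_Cert_tree lc_a_rc_2_2 lc_a_rc_5_2 lc_a_rc_0_0 lc_a_rc_4_2 lc_a_rc_2_2 lc_a_rc_2_2 lc_a_rc_3_2 lc_a_rc_4_2 lc_a_rc_3_2 lc_a_rc_6_2) (@D3.rec (fun _ => (Cert rels S Gen.a)) lc_a_rc_3_2 lc_a_rc_4_2 lc_a_rc_2_2 lc_a_rc_3_2 lc_a_rc_6_2 lc_a_rc_2_2 lc_a_rc_3_2 lc_a_rc_5_2 lc_a_rc_7_2 lc_a_rc_4_2 lc_a_rc_3_2 lc_a_rc_5_2 lc_a_rc_8_2 lc_a_Cert_tree lc_a_rc_2_2 lc_a_rc_5_2 lc_a_rc_0_0 lc_a_rc_4_2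 lc_a_rc_2_2 lc_a_rc_2_2 lc_a_rc_3_2 lc_a_rc_4_2 lc_a_rc_3_2 lc_a_rc_6_2 lc_a_rc_3_2 lc_a_rc_5_2 lc_a_rc_46_0 lc_a_rc_4_2 lc_a_rc_3_2 lc_a_rc_6_2 lc_a_rc_3_2 lc_a_rc_4_2) (@D3.rec (fun _ => (Cert rels S Gen.a)) lc_a_rc_2_2 lc_a_rc_3_2 lc_a_rc_6_2 lc_a_rc_2_2 lc_a_rc_3_2 lc_a_rc_5_2 lc_a_rc_7_2 lc_a_rc_4_2 lc_a_rc_4_0 lc_a_rc_5_2 lc_a_rc_8_2 lc_a_rc_3_2 lc_a_rc_6_2 lc_a_rc_2_2 lc_a_rc_3_2 lc_a_rc_5_2 lc_a_rc_7_2 lc_a_rc_4_2 lc_a_rc_3_2 lc_a_rc_5_2 lc_a_rc_8_2 lc_a_rc_2_2 lc_a_rc_3_2 lc_a_rc_5_2 lc_a_rc_7_2 lc_a_rc_2_2 lc_a_rc_2_2 lc_a_rc_4_2 lc_a_rc_3_2 lc_a_rc_5_2 lc_a_rc_8_2 lc_a_rc_1_0) (@D3.rec (fun _ => (Cert rels S Gen.a)) lc_a_rc_2_0 lc_a_rc_2_2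 lc_a_rc_3_2 lc_a_rc_5_2 lc_a_rc_7_2 lc_a_rc_2_2 lc_a_rc_2_2 lc_a_rc_4_2 lc_a_rc_3_2 lc_a_rc_5_2 lc_a_rc_8_2 lc_a_rc_5_2 lc_a_rc_6_0 lc_a_rc_8_2 lc_a_rc_4_2 lc_a_rc_5_2 lc_a_rc_8_2 lc_a_rc_5_2 lc_a_rc_4_0 lc_a_rc_46_0 lc_a_Cert_tree lc_a_rc_4_2 lc_a_rc_6_2 lc_a_rc_0_0 lc_a_rc_4_2 lc_a_rc_3_2 lc_a_rc_2_2 lc_a_rc_7_2 lc_a_rc_4_2 lc_a_rc_3_2 lc_a_rc_6_2 lc_a_rc_3_2) (@D3.rec (fun _ => (Cert rels S Gen.a)) lc_a_rc_5_2 lc_a_rc_2_2 lc_a_rc_3_2 lc_a_rc_6_2 lc_a_rc_2_2 lc_a_rc_3_2 lc_a_rc_5_2 lc_a_rc_7_2 lc_a_rc_4_2 lc_a_rc_3_2 lc_a_rc_5_2 lc_a_rc_8_2 lc_a_rc_3_2 lc_a_rc_6_2 lc_a_rc_2_2 lc_a_rc_3_2 lc_a_rc_5_2 lc_a_rc_7_2 lc_a_rc_3_2 lc_a_rc_3_2 lc_a_rc_5_2 lc_a_rc_8_2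 lc_a_rc_2_2 lc_a_rc_3_2 lc_a_rc_5_2 lc_a_rc_7_2 lc_a_rc_2_2 lc_a_rc_2_2 lc_a_rc_4_2 lc_a_rc_3_2 lc_a_rc_5_2 lc_a_rc_8_2) (@D3.rec (fun _ => (Cert rels S Gen.a)) lc_a_rc_3_2 lc_a_rc_5_2 lc_a_rc_5_2 lc_a_rc_8_2 lc_a_rc_2_2 lc_a_rc_3_2 lc_a_rc_5_2 lc_a_rc_7_2 lc_a_rc_2_2 lc_a_rc_2_2 lc_a_rc_4_2 lc_a_rc_3_2 lc_a_rc_5_2 lc_a_rc_4_2 lc_a_rc_5_2 lc_a_rc_5_2 lc_a_rc_1_2 lc_a_rc_2_2 lc_a_rc_4_2 lc_a_rc_3_2 lc_a_rc_2_2 lc_a_rc_2_2 lc_a_rc_4_2 lc_a_rc_6_2 lc_a_rc_1_2 lc_a_rc_2_2 lc_a_rc_2_2 lc_a_rc_3_2 lc_a_rc_5_2 lc_a_rc_8_2 lc_a_rc_2_2 lc_a_rc_2_2) (@D3.rec (fun _ => (Cert rels S Gen.a)) lc_a_rc_3_2 lc_a_rc_2_2 lc_a_rc_5_2 lc_a_rc_8_2 lc_a_rc_8_2 lc_a_rc_1_2 lc_a_rc_3_2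 lc_a_rc_2_2 lc_a_rc_4_2 lc_a_rc_3_2 lc_a_rc_2_2 lc_a_rc_2_2 lc_a_rc_3_2 lc_a_rc_5_2 lc_a_rc_2_2 lc_a_rc_2_2 lc_a_rc_4_2 lc_a_rc_5_2 lc_a_rc_2_2 lc_a_rc_3_2 lc_a_rc_5_2 lc_a_rc_7_2 lc_a_rc_2_2 lc_a_rc_2_2 lc_a_rc_3_2 lc_a_rc_1_2 lc_a_rc_2_2 lc_a_rc_2_2 lc_a_rc_3_2 lc_a_rc_2_2 lc_a_rc_1_2 lc_a_rc_2_2) (@D3.rec (fun _ => (Cert rels S Gen.a)) lc_a_rc_2_2 lc_a_rc_4_2 lc_a_rc_3_2 lc_a_rc_5_2 lc_a_rc_2_2 lc_a_rc_2_2 lc_a_rc_2_2 lc_a_rc_3_2 lc_a_rc_4_2 lc_a_rc_5_2 lc_a_rc_5_2 lc_a_rc_6_2 lc_a_rc_5_2 lc_a_rc_3_2 lc_a_rc_1_2 lc_a_rc_2_2 lc_a_rc_2_2 lc_a_rc_4_2 lc_a_rc_3_2 lc_a_rc_2_2 lc_a_rc_6_2 lc_a_rc_4_2 lc_a_rc_3_2 lc_a_rc_6_2 lc_a_rc_3_2 lc_a_rc_5_2 lc_a_rc_3_2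 lc_a_rc_6_2 lc_a_rc_2_2 lc_a_rc_3_2 lc_a_rc_5_2 lc_a_rc_4_2) (@D3.rec (fun _ => (Cert rels S Gen.a)) lc_a_rc_5_2 lc_a_rc_8_2 lc_a_rc_2_2 lc_a_rc_3_2 lc_a_rc_2_2 lc_a_rc_4_2 lc_a_rc_2_2 lc_a_rc_3_2 lc_a_rc_5_2 lc_a_rc_2_2 lc_a_rc_2_2 lc_a_rc_5_2 lc_a_rc_8_2 lc_a_rc_8_2 lc_a_rc_0_0 lc_a_rc_4_2 lc_a_rc_3_2 lc_a_rc_2_2 lc_a_rc_5_2 lc_a_rc_4_2 lc_a_rc_3_2 lc_a_rc_6_2 lc_a_rc_2_2 lc_a_rc_2_2 lc_a_rc_2_2 lc_a_rc_3_2 lc_a_rc_6_2 lc_a_rc_2_2 lc_a_rc_3_2 lc_a_rc_5_2 lc_a_rc_7_2 lc_a_rc_4_2) (@D3.rec (fun _ => (Cert rels S Gen.a)) lc_a_rc_3_2 lc_a_rc_5_2 lc_a_rc_4_2 lc_a_rc_2_2 lc_a_rc_3_2 lc_a_rc_5_2 lc_a_rc_7_2 lc_a_rc_2_2 lc_a_rc_2_2 lc_a_rc_4_2 lc_a_rc_3_2 lc_a_rc_5_2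 lc_a_rc_8_2 lc_a_rc_4_2 lc_a_rc_5_2 lc_a_rc_4_0 lc_a_rc_4_0 lc_a_rc_0_0 lc_a_rc_4_2 lc_a_rc_3_2 lc_a_rc_2_2 lc_a_rc_5_2 lc_a_rc_4_2 lc_a_rc_3_2 lc_a_rc_6_2 lc_a_rc_2_2 lc_a_rc_2_2 lc_a_rc_2_2 lc_a_rc_3_2 lc_a_rc_6_2 lc_a_rc_2_2 lc_a_rc_3_2) (@D3.rec (fun _ => (Cert rels S Gen.a)) lc_a_rc_5_2 lc_a_rc_7_2 lc_a_rc_4_2 lc_a_rc_0_1 lc_a_rc_5_2 lc_a_rc_8_2 lc_a_rc_3_2 lc_a_rc_6_2 lc_a_rc_2_2 lc_a_rc_3_2 lc_a_rc_5_2 lc_a_rc_7_2 lc_a_rc_4_2 lc_a_rc_3_2 lc_a_rc_5_2 lc_a_rc_4_2 lc_a_rc_2_2 lc_a_rc_3_2 lc_a_rc_5_2 lc_a_rc_7_2 lc_a_rc_2_2 lc_a_rc_2_2 lc_a_rc_4_2 lc_a_rc_3_2 lc_a_rc_5_2 lc_a_rc_8_2 lc_a_rc_3_2 lc_a_rc_5_2 lc_a_rc_5_2 lc_a_rc_8_2 lc_a_rc_2_2 lc_a_rc_3_2)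 (@D3.rec (fun _ => (Cert rels S Gen.a)) lc_a_rc_5_2 lc_a_rc_7_2 lc_a_rc_2_2 lc_a_rc_2_2 lc_a_rc_4_2 lc_a_rc_3_2 lc_a_rc_5_2 lc_a_rc_8_2 lc_a_rc_4_2 lc_a_rc_5_2 lc_a_rc_1_2 lc_a_rc_2_2 lc_a_rc_2_2 lc_a_rc_4_2 lc_a_rc_3_2 lc_a_rc_5_2 lc_a_rc_8_2 lc_a_rc_2_2 lc_a_rc_2_2 lc_a_rc_2_2 lc_a_rc_2_2 lc_a_rc_4_2 lc_a_rc_5_2 lc_a_rc_3_2 lc_a_rc_1_2 lc_a_rc_2_2 lc_a_rc_2_2 lc_a_rc_4_2 lc_a_rc_3_2 lc_a_rc_5_2 lc_a_rc_8_2 lc_a_rc_2_2) (@D3.rec (fun _ => (Cert rels S Gen.a)) lc_a_rc_2_2 lc_a_rc_2_2 lc_a_rc_3_2 lc_a_rc_2_2 lc_a_rc_5_2 lc_a_rc_5_2 lc_a_rc_8_2 lc_a_rc_5_2 lc_a_rc_8_2 lc_a_rc_8_2 lc_a_rc_5_2 lc_a_rc_3_2 lc_a_rc_46_35 lc_a_Cert_tree lc_a_rc_0_0 lc_a_rc_4_2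 lc_a_rc_4_2 lc_a_rc_6_2 lc_a_rc_7_2 lc_a_rc_4_2 lc_a_rc_3_2 lc_a_rc_6_2 lc_a_rc_3_2 lc_a_rc_5_2 lc_a_rc_2_2 lc_a_rc_3_2 lc_a_rc_6_2 lc_a_rc_2_2 lc_a_rc_3_2 lc_a_rc_5_2 lc_a_rc_7_2 lc_a_rc_4_2) (@D3.rec (fun _ => (Cert rels S Gen.a)) lc_a_rc_3_2 lc_a_rc_5_2 lc_a_rc_8_2 lc_a_rc_2_2 lc_a_rc_3_2 lc_a_rc_5_2 lc_a_rc_7_2 lc_a_rc_2_2 lc_a_rc_2_2 lc_a_rc_4_2 lc_a_rc_3_2 lc_a_rc_5_2 lc_a_rc_8_2 lc_a_rc_4_2 lc_a_rc_5_2 lc_a_rc_5_2 lc_a_rc_8_2 lc_a_rc_2_2 lc_a_rc_3_2 lc_a_rc_5_2 lc_a_rc_7_2 lc_a_rc_2_2 lc_a_rc_2_2 lc_a_rc_4_2 lc_a_rc_3_2 lc_a_rc_5_2 lc_a_rc_8_2 lc_a_rc_1_2 lc_a_rc_2_2 lc_a_rc_2_2 lc_a_rc_4_2 lc_a_rc_3_2) (@D3.rec (fun _ => (Cert rels S Gen.a)) lc_a_rc_5_2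 lc_a_rc_8_2 lc_a_rc_2_2 lc_a_rc_2_2 lc_a_rc_2_2 lc_a_rc_3_2 lc_a_rc_2_2 lc_a_rc_4_2 lc_a_rc_5_2 lc_a_rc_5_2 lc_a_rc_8_2 lc_a_rc_1_2 lc_a_rc_2_2 lc_a_rc_2_2 lc_a_rc_4_2 lc_a_rc_3_2 lc_a_rc_5_2 lc_a_rc_2_2 lc_a_rc_2_2 lc_a_rc_2_2 lc_a_rc_3_2 lc_a_rc_4_2 lc_a_rc_5_2 lc_a_rc_5_2 lc_a_rc_1_2 lc_a_rc_2_2 lc_a_rc_2_2 lc_a_rc_4_2 lc_a_rc_3_2 lc_a_rc_2_2 lc_a_rc_6_2 lc_a_rc_1_2) (@D3.rec (fun _ => (Cert rels S Gen.a)) lc_a_rc_1_2 lc_a_rc_2_2 lc_a_rc_2_2 lc_a_rc_3_2 lc_a_rc_2_2 lc_a_rc_5_2 lc_a_rc_8_2 lc_a_rc_2_2 lc_a_rc_3_2 lc_a_rc_2_2 lc_a_rc_4_2 lc_a_rc_3_2 lc_a_rc_8_2 lc_a_rc_1_2 lc_a_rc_1_2 lc_a_rc_4_2 lc_a_rc_3_2 lc_a_rc_6_2 lc_a_rc_4_2 lc_a_rc_5_2 lc_a_rc_1_2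 lc_a_rc_1_2 lc_a_rc_2_2 lc_a_rc_2_2 lc_a_rc_4_2 lc_a_rc_5_2 lc_a_rc_2_2 lc_a_rc_2_2 lc_a_rc_3_2 lc_a_rc_1_2 lc_a_rc_2_2 lc_a_rc_2_2)
def ce_a_2 : D2 → D3 → (Cert rels S Gen.a) := @D2.rec (fun _ => D3 → (Cert rels S Gen.a)) (@D3.rec (fun _ => (Cert rels S Gen.a)) lc_a_rc_3_2 lc_a_rc_2_2 lc_a_rc_3_2 lc_a_rc_1_2 lc_a_rc_1_2 lc_a_rc_2_2 lc_a_rc_1_2 lc_a_rc_1_2 lc_a_rc_2_2 lc_a_rc_2_2 lc_a_rc_2_2 lc_a_rc_3_2 lc_a_rc_4_2 lc_a_rc_5_2 lc_a_rc_5_2 lc_a_rc_3_2 lc_a_rc_2_2 lc_a_rc_2_2 lc_a_rc_2_2 lc_a_rc_3_2 lc_a_rc_4_2 lc_a_rc_6_2 lc_a_rc_5_2 lc_a_rc_3_2 lc_a_rc_1_2 lc_a_rc_1_2 lc_a_rc_3_2 lc_a_rc_2_2 lc_a_rc_6_2 lc_a_rc_3_2 lc_a_rc_2_2 lc_a_rc_3_2) (@D3.rec (fun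 _ => (Cert rels S Gen.a)) lc_a_rc_6_2 lc_a_rc_2_2 lc_a_rc_3_2 lc_a_rc_5_2 lc_a_rc_4_2 lc_a_rc_5_2 lc_a_rc_8_2 lc_a_rc_2_2 lc_a_rc_3_2 lc_a_rc_5_2 lc_a_rc_2_2 lc_a_rc_2_2 lc_a_rc_4_2 lc_a_rc_5_2 lc_a_rc_8_2 lc_a_rc_5_2 lc_a_rc_8_2 lc_a_rc_1_2 lc_a_rc_2_2 lc_a_rc_4_2 lc_a_rc_2_2 lc_a_rc_1_2 lc_a_rc_2_2 lc_a_rc_2_2 lc_a_rc_5_2 lc_a_rc_8_2 lc_a_rc_2_2 lc_a_rc_3_2 lc_a_rc_2_2 lc_a_rc_8_2 lc_a_rc_4_2 lc_a_rc_3_2) (@D3.rec (fun _ => (Cert rels S Gen.a)) lc_a_rc_6_2 lc_a_rc_3_2 lc_a_rc_3_2 lc_a_rc_2_2 lc_a_rc_3_2 lc_a_rc_6_2 lc_a_rc_2_2 lc_a_rc_3_2 lc_a_rc_5_2 lc_a_rc_7_2 lc_a_rc_2_2 lc_a_rc_2_2 lc_a_rc_2_2 lc_a_rc_2_2 lc_a_rc_2_2 lc_a_rc_3_2 lc_a_rc_5_2 lc_a_rc_7_2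 lc_a_rc_2_2 lc_a_rc_2_2 lc_a_rc_4_2 lc_a_rc_3_2 lc_a_rc_5_2 lc_a_rc_8_2 lc_a_rc_4_2 lc_a_rc_5_2 lc_a_rc_5_2 lc_a_rc_5_2 lc_a_rc_1_2 lc_a_rc_2_2 lc_a_rc_2_2 lc_a_rc_4_2) (@D3.rec (fun _ => (Cert rels S Gen.a)) lc_a_rc_3_2 lc_a_rc_5_2 lc_a_rc_8_2 lc_a_rc_2_2 lc_a_rc_2_2 lc_a_rc_2_2 lc_a_rc_3_2 lc_a_rc_2_2 lc_a_rc_4_2 lc_a_rc_5_2 lc_a_rc_5_2 lc_a_rc_8_2 lc_a_rc_2_2 lc_a_rc_1_0 lc_a_rc_3_2 lc_a_rc_4_2 lc_a_rc_3_2 lc_a_rc_6_2 lc_a_rc_3_2 lc_a_rc_3_2 lc_a_rc_2_2 lc_a_rc_3_2 lc_a_rc_6_2 lc_a_rc_2_2 lc_a_rc_3_2 lc_a_rc_5_2 lc_a_rc_7_2 lc_a_rc_2_2 lc_a_rc_2_2 lc_a_rc_2_2 lc_a_rc_2_2 lc_a_rc_2_2) (@D3.rec (fun _ => (Cert rels S Gen.a)) lc_a_rc_3_2 lc_a_rc_5_2 lc_a_rc_7_2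 lc_a_rc_2_2 lc_a_rc_2_2 lc_a_rc_4_2 lc_a_rc_3_2 lc_a_rc_5_2 lc_a_rc_8_2 lc_a_rc_6_0 lc_a_rc_5_2 lc_a_rc_46_21 lc_a_rc_8_2 lc_a_rc_2_2 lc_a_rc_3_2 lc_a_rc_5_2 lc_a_rc_7_2 lc_a_rc_2_2 lc_a_rc_2_2 lc_a_rc_4_2 lc_a_rc_3_2 lc_a_rc_5_2 lc_a_rc_8_2 lc_a_rc_4_2 lc_a_rc_5_2 lc_a_rc_5_2 lc_a_rc_5_2 lc_a_rc_1_2 lc_a_rc_2_2 lc_a_rc_2_2 lc_a_rc_4_2 lc_a_rc_3_2) (@D3.rec (fun _ => (Cert rels S Gen.a)) lc_a_rc_5_2 lc_a_rc_8_2 lc_a_rc_2_2 lc_a_rc_2_2 lc_a_rc_2_2 lc_a_rc_3_2 lc_a_rc_2_2 lc_a_rc_4_2 lc_a_rc_5_2 lc_a_rc_5_2 lc_a_rc_8_2 lc_a_rc_3_2 lc_a_rc_5_2 lc_a_rc_5_2 lc_a_rc_8_2 lc_a_rc_8_2 lc_a_rc_1_2 lc_a_rc_2_2 lc_a_rc_2_2 lc_a_rc_4_2 lc_a_rc_3_2 lc_a_rc_5_2 lc_a_rc_8_2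 lc_a_rc_2_2 lc_a_rc_2_2 lc_a_rc_2_2 lc_a_rc_3_2 lc_a_rc_2_2 lc_a_rc_4_2 lc_a_rc_5_2 lc_a_rc_1_2 lc_a_rc_1_2) (@D3.rec (fun _ => (Cert rels S Gen.a)) lc_a_rc_2_2 lc_a_rc_2_2 lc_a_rc_2_2 lc_a_rc_2_2 lc_a_rc_4_2 lc_a_rc_5_2 lc_a_rc_3_2 lc_a_rc_2_2 lc_a_rc_2_2 lc_a_rc_3_2 lc_a_rc_6_0 lc_a_rc_1_2 lc_a_rc_1_2 lc_a_rc_2_2 lc_a_rc_2_2 lc_a_rc_2_2 lc_a_rc_3_2 lc_a_rc_2_2 lc_a_rc_5_2 lc_a_rc_5_2 lc_a_rc_8_2 lc_a_rc_2_2 lc_a_rc_2_2 lc_a_rc_3_2 lc_a_rc_2_2 lc_a_rc_4_2 lc_a_rc_3_2 lc_a_rc_3_2 lc_a_rc_8_2 lc_a_rc_8_2 lc_a_rc_46_21 lc_a_rc_8_2) (@D3.rec (fun _ => (Cert rels S Gen.a)) lc_a_rc_3_2 lc_a_rc_2_2 lc_a_Cert_tree lc_a_rc_0_0 lc_a_rc_4_2 lc_a_rc_3_2 lc_a_rc_6_2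 lc_a_rc_3_2 lc_a_rc_6_2 lc_a_rc_2_2 lc_a_rc_3_2 lc_a_rc_5_2 lc_a_rc_7_2 lc_a_rc_2_2 lc_a_rc_3_2 lc_a_rc_5_2 lc_a_rc_7_2 lc_a_rc_2_2 lc_a_rc_2_2 lc_a_rc_4_2 lc_a_rc_3_2 lc_a_rc_5_2 lc_a_rc_8_2 lc_a_rc_1_2 lc_a_rc_2_2 lc_a_rc_2_2 lc_a_rc_4_2 lc_a_rc_3_2 lc_a_rc_5_2 lc_a_rc_8_2 lc_a_rc_2_2 lc_a_rc_2_2) (@D3.rec (fun _ => (Cert rels S Gen.a)) lc_a_rc_2_2 lc_a_rc_3_2 lc_a_rc_2_2 lc_a_rc_4_2 lc_a_rc_5_2 lc_a_rc_5_2 lc_a_rc_8_2 lc_a_rc_1_2 lc_a_rc_2_2 lc_a_rc_2_2 lc_a_rc_4_2 lc_a_rc_3_2 lc_a_rc_5_2 lc_a_rc_8_2 lc_a_rc_2_2 lc_a_rc_2_2 lc_a_rc_2_2 lc_a_rc_3_2 lc_a_rc_2_2 lc_a_rc_1_2 lc_a_rc_1_2 lc_a_rc_2_2 lc_a_rc_2_2 lc_a_rc_2_2 lc_a_rc_3_2 lc_a_rc_2_2 lc_a_rc_4_2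 lc_a_rc_5_2 lc_a_rc_5_2 lc_a_rc_8_2 lc_a_rc_3_2 lc_a_rc_2_2) (@D3.rec (fun _ => (Cert rels S Gen.a)) lc_a_rc_2_2 lc_a_rc_2_2 lc_a_rc_3_2 lc_a_rc_2_2 lc_a_rc_4_2 lc_a_rc_3_2 lc_a_rc_1_2 lc_a_rc_1_2 lc_a_rc_2_2 lc_a_rc_2_2 lc_a_rc_2_2 lc_a_rc_3_2 lc_a_rc_4_2 lc_a_rc_5_2 lc_a_rc_5_2 lc_a_rc_3_2 lc_a_rc_2_2 lc_a_rc_2_2 lc_a_rc_2_2 lc_a_rc_3_2 lc_a_rc_4_2 lc_a_rc_1_2 lc_a_rc_1_2 lc_a_rc_3_2 lc_a_rc_2_2 lc_a_rc_6_2 lc_a_rc_3_2 lc_a_rc_5_2 lc_a_rc_2_2 lc_a_rc_1_2 lc_a_rc_1_2 lc_a_rc_1_2) (@D3.rec (fun _ => (Cert rels S Gen.a)) lc_a_rc_1_2 lc_a_rc_2_2 lc_a_rc_3_2 lc_a_rc_2_2 lc_a_rc_4_2 lc_a_rc_3_2 lc_a_rc_8_2 lc_a_rc_3_2 lc_a_rc_2_2 lc_a_rc_4_2 lc_a_rc_3_2 lc_a_rc_6_2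 lc_a_rc_4_2 lc_a_rc_5_2 lc_a_rc_2_2 lc_a_rc_1_2 lc_a_rc_1_2 lc_a_rc_6_2 lc_a_rc_4_2 lc_a_rc_5_2 lc_a_rc_7_2 lc_a_rc_6_2 lc_a_rc_5_2 lc_a_rc_1_2 lc_a_rc_1_2 lc_a_rc_2_2 lc_a_rc_2_2 lc_a_rc_3_2 lc_a_rc_3_2 lc_a_rc_3_2 lc_a_rc_1_2 lc_a_rc_1_2) (@D3.rec (fun _ => (Cert rels S Gen.a)) lc_a_rc_2_2 lc_a_rc_3_2 lc_a_rc_1_2 lc_a_rc_1_2 lc_a_rc_1_2 lc_a_rc_1_2 lc_a_rc_1_2 lc_a_rc_3_2 lc_a_rc_2_2 lc_a_rc_2_2 lc_a_rc_2_2 lc_a_rc_3_2 lc_a_rc_4_2 lc_a_rc_6_2 lc_a_rc_5_2 lc_a_rc_3_2 lc_a_rc_3_2 lc_a_rc_2_2 lc_a_rc_2_2 lc_a_rc_3_2 lc_a_rc_1_2 lc_a_rc_1_2 lc_a_rc_3_2 lc_a_rc_2_2 lc_a_rc_3_2 lc_a_rc_2_2 lc_a_rc_3_2 lc_a_rc_5_2 lc_a_rc_2_2 lc_a_rc_2_2 lc_a_rc_4_2 lc_a_rc_5_2)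 (@D3.rec (fun _ => (Cert rels S Gen.a)) lc_a_rc_8_2 lc_a_rc_5_2 lc_a_rc_8_2 lc_a_rc_1_2 lc_a_rc_2_2 lc_a_rc_2_2 lc_a_rc_4_2 lc_a_rc_5_2 lc_a_rc_8_2 lc_a_rc_2_2 lc_a_rc_2_2 lc_a_rc_3_2 lc_a_rc_2_2 lc_a_rc_5_2 lc_a_rc_8_2 lc_a_rc_8_2 lc_a_rc_1_2 lc_a_rc_2_2 lc_a_rc_3_2 lc_a_rc_1_2 lc_a_rc_1_2 lc_a_rc_2_2 lc_a_rc_3_2 lc_a_rc_2_2 lc_a_rc_8_2 lc_a_rc_3_2 lc_a_rc_2_2 lc_a_rc_4_2 lc_a_rc_3_2 lc_a_rc_3_2 lc_a_rc_6_2 lc_a_rc_2_2) (@D3.rec (fun _ => (Cert rels S Gen.a)) lc_a_rc_3_2 lc_a_rc_5_2 lc_a_rc_7_2 lc_a_rc_4_2 lc_a_rc_3_2 lc_a_rc_3_2 lc_a_rc_3_2 lc_a_rc_2_2 lc_a_rc_3_2 lc_a_rc_5_2 lc_a_rc_7_2 lc_a_rc_2_2 lc_a_rc_2_2 lc_a_rc_4_2 lc_a_rc_3_2 lc_a_rc_5_2 lc_a_rc_8_2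 lc_a_rc_2_2 lc_a_rc_2_2 lc_a_rc_2_2 lc_a_rc_2_2 lc_a_rc_1_2 lc_a_rc_2_2 lc_a_rc_2_2 lc_a_rc_4_2 lc_a_rc_3_2 lc_a_rc_5_2 lc_a_rc_8_2 lc_a_rc_2_2 lc_a_rc_2_2 lc_a_rc_2_2 lc_a_rc_3_2) (@D3.rec (fun _ => (Cert rels S Gen.a)) lc_a_rc_2_2 lc_a_rc_4_2 lc_a_rc_5_2 lc_a_rc_5_2 lc_a_rc_8_2 lc_a_rc_3_2 lc_a_rc_5_2 lc_a_rc_3_2 lc_a_rc_5_2 lc_a_rc_7_2 lc_a_rc_1_2 lc_a_rc_1_2 lc_a_rc_2_2 lc_a_rc_2_2 lc_a_rc_2_2 lc_a_rc_3_2 lc_a_rc_2_2 lc_a_rc_4_2 lc_a_rc_5_2 lc_a_rc_5_2 lc_a_rc_8_2 lc_a_rc_3_2 lc_a_rc_2_2 lc_a_rc_2_2 lc_a_rc_2_2 lc_a_rc_3_2 lc_a_rc_2_2 lc_a_rc_3_2 lc_a_rc_6_2 lc_a_rc_5_2 lc_a_rc_3_2 lc_a_rc_3_2) (@D3.rec (fun _ => (Cert rels S Gen.a)) lc_a_rc_5_0 lc_a_rc_3_2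 lc_a_rc_6_2 lc_a_rc_2_2 lc_a_rc_3_2 lc_a_rc_5_2 lc_a_rc_7_2 lc_a_rc_4_2 lc_a_rc_3_2 lc_a_rc_3_2 lc_a_rc_3_2 lc_a_rc_2_2 lc_a_rc_3_2 lc_a_rc_5_2 lc_a_rc_7_2 lc_a_rc_2_2 lc_a_rc_2_2 lc_a_rc_4_2 lc_a_rc_3_2 lc_a_rc_5_2 lc_a_rc_8_2 lc_a_rc_2_2 lc_a_rc_2_2 lc_a_rc_2_2 lc_a_rc_2_2 lc_a_rc_1_2 lc_a_rc_2_2 lc_a_rc_2_2 lc_a_rc_4_2 lc_a_rc_3_2 lc_a_rc_5_2 lc_a_rc_8_2) (@D3.rec (fun _ => (Cert rels S Gen.a)) lc_a_rc_2_2 lc_a_rc_2_2 lc_a_rc_2_2 lc_a_rc_3_2 lc_a_rc_2_2 lc_a_rc_4_2 lc_a_rc_5_2 lc_a_rc_5_2 lc_a_rc_8_2 lc_a_rc_5_0 lc_a_rc_6_0 lc_a_rc_3_2 lc_a_rc_8_2 lc_a_rc_1_0 lc_a_rc_1_2 lc_a_rc_2_2 lc_a_rc_2_2 lc_a_rc_4_2 lc_a_rc_3_2 lc_a_rc_5_2 lc_a_rc_8_2 lc_a_rc_2_2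 lc_a_rc_2_2 lc_a_rc_2_2 lc_a_rc_3_2 lc_a_rc_2_2 lc_a_rc_4_2 lc_a_rc_5_2 lc_a_rc_5_2 lc_a_rc_8_2 lc_a_rc_5_2 lc_a_rc_3_2) (@D3.rec (fun _ => (Cert rels S Gen.a)) lc_a_rc_5_2 lc_a_rc_7_2 lc_a_rc_1_2 lc_a_rc_1_2 lc_a_rc_2_2 lc_a_rc_2_2 lc_a_rc_2_2 lc_a_rc_3_2 lc_a_rc_2_2 lc_a_rc_4_2 lc_a_rc_5_2 lc_a_rc_5_2 lc_a_rc_8_2 lc_a_rc_3_2 lc_a_rc_2_2 lc_a_rc_2_2 lc_a_rc_2_2 lc_a_rc_3_2 lc_a_rc_2_2 lc_a_rc_4_2 lc_a_rc_3_2 lc_a_rc_6_2 lc_a_rc_5_2 lc_a_rc_3_2 lc_a_rc_8_2 lc_a_rc_8_2 lc_a_rc_6_0 lc_a_rc_6_0 lc_a_rc_6_0 lc_a_rc_1_2 lc_a_rc_1_2 lc_a_rc_2_2) (@D3.rec (fun _ => (Cert rels S Gen.a)) lc_a_rc_2_2 lc_a_rc_2_2 lc_a_rc_3_2 lc_a_rc_2_2 lc_a_rc_4_2 lc_a_rc_5_2 lc_a_rc_3_2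 lc_a_rc_2_2 lc_a_rc_2_2 lc_a_rc_3_2 lc_a_rc_3_2 lc_a_rc_1_2 lc_a_rc_1_2 lc_a_rc_1_2 lc_a_rc_1_2 lc_a_rc_3_2 lc_a_rc_2_2 lc_a_rc_2_2 lc_a_rc_3_2 lc_a_rc_3_2 lc_a_rc_5_2 lc_a_rc_3_2 lc_a_rc_2_2 lc_a_Cert_tree lc_a_rc_1_2 lc_a_rc_1_2 lc_a_rc_1_2 lc_a_rc_1_2 lc_a_rc_1_2 lc_a_rc_2_2 lc_a_rc_2_2 lc_a_rc_3_2) (@D3.rec (fun _ => (Cert rels S Gen.a)) lc_a_rc_2_2 lc_a_rc_4_2 lc_a_rc_3_2 lc_a_rc_3_2 lc_a_rc_8_2 lc_a_rc_8_2 lc_a_rc_3_2 lc_a_rc_2_2 lc_a_rc_3_2 lc_a_rc_2_2 lc_a_rc_4_2 lc_a_rc_3_2 lc_a_rc_6_2 lc_a_rc_4_2 lc_a_rc_5_2 lc_a_rc_2_2 lc_a_rc_3_2 lc_a_Cert_tree lc_a_rc_1_0 lc_a_rc_2_2 lc_a_Cert_tree lc_a_rc_0_0 lc_a_rc_3_2 lc_a_rc_6_2 lc_a_rc_2_2 lc_a_rc_2_2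 lc_a_rc_3_2 lc_a_rc_5_2 lc_a_rc_7_2 lc_a_rc_2_2 lc_a_rc_2_2 lc_a_rc_1_2) (@D3.rec (fun _ => (Cert rels S Gen.a)) lc_a_rc_2_2 lc_a_rc_2_2 lc_a_rc_4_2 lc_a_rc_3_2 lc_a_rc_5_2 lc_a_rc_8_2 lc_a_rc_2_2 lc_a_rc_2_2 lc_a_rc_2_2 lc_a_rc_3_2 lc_a_rc_2_2 lc_a_rc_1_2 lc_a_rc_1_2 lc_a_rc_2_2 lc_a_rc_2_2 lc_a_rc_2_2 lc_a_rc_3_2 lc_a_rc_2_2 lc_a_rc_4_2 lc_a_rc_5_2 lc_a_rc_5_2 lc_a_rc_8_2 lc_a_rc_3_2 lc_a_rc_2_2 lc_a_rc_2_2 lc_a_rc_2_2 lc_a_rc_3_2 lc_a_rc_2_2 lc_a_rc_4_2 lc_a_rc_3_2 lc_a_rc_1_2 lc_a_rc_1_2) (@D3.rec (fun _ => (Cert rels S Gen.a)) lc_a_rc_2_2 lc_a_rc_2_2 lc_a_rc_2_2 lc_a_rc_3_2 lc_a_rc_2_2 lc_a_rc_3_2 lc_a_rc_3_2 lc_a_rc_4_2 lc_a_rc_3_2 lc_a_rc_1_2 lc_a_rc_1_2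 lc_a_rc_1_2 lc_a_rc_1_2 lc_a_rc_1_2 lc_a_rc_3_2 lc_a_rc_2_2 lc_a_rc_2_2 lc_a_rc_2_2 lc_a_rc_3_2 lc_a_rc_2_2 lc_a_rc_4_2 lc_a_rc_3_2 lc_a_rc_3_2 lc_a_rc_5_2 lc_a_rc_3_2 lc_a_rc_3_2 lc_a_rc_4_2 lc_a_rc_3_2 lc_a_rc_6_2 lc_a_rc_4_2 lc_a_rc_5_2 lc_a_rc_1_2)
def ce_a_3 : D2 → D3 → (Cert rels S Gen.a) := @D2.rec (fun _ => D3 → (Cert rels S Gen.a)) (@D3.rec (fun _ => (Cert rels S Gen.a)) lc_a_rc_1_2 lc_a_rc_1_2 lc_a_rc_1_2 lc_a_rc_3_2 lc_a_rc_2_2 lc_a_rc_2_2 lc_a_rc_2_2 lc_a_rc_3_2 lc_a_rc_4_2 lc_a_rc_3_2 lc_a_rc_5_2 lc_a_rc_3_2 lc_a_rc_3_2 lc_a_rc_4_2 lc_a_rc_6_2 lc_a_rc_1_2 lc_a_rc_1_2 lc_a_rc_3_2 lc_a_rc_5_2 lc_a_rc_2_2 lc_a_rc_3_2 lc_a_rc_5_2 lc_a_rc_8_2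 lc_a_rc_1_2 lc_a_rc_1_2 lc_a_rc_1_2 lc_a_rc_1_0 lc_a_rc_1_2 lc_a_rc_1_2 lc_a_rc_3_2 lc_a_rc_2_2 lc_a_rc_4_2) (@D3.rec (fun _ => (Cert rels S Gen.a)) lc_a_rc_3_2 lc_a_rc_6_2 lc_a_rc_4_2 lc_a_rc_5_2 lc_a_rc_4_2 lc_a_rc_3_2 lc_a_rc_6_2 lc_a_rc_4_2 lc_a_rc_5_2 lc_a_rc_7_2 lc_a_rc_6_2 lc_a_rc_5_2 lc_a_rc_2_2 lc_a_rc_2_2 lc_a_rc_1_2 lc_a_rc_1_2 lc_a_rc_1_2 lc_a_rc_7_2 lc_a_rc_6_2 lc_a_rc_5_2 lc_a_rc_7_2 lc_a_rc_6_2 lc_a_rc_3_2 lc_a_rc_1_2 lc_a_rc_1_2 lc_a_rc_1_2 lc_a_rc_3_2 lc_a_rc_3_2 lc_a_rc_1_2 lc_a_rc_1_2 lc_a_rc_1_2 lc_a_rc_1_2) (@D3.rec (fun _ => (Cert rels S Gen.a)) lc_a_rc_1_2 lc_a_rc_1_2 lc_a_rc_1_2 lc_a_rc_2_2 lc_a_rc_1_2 lc_a_rc_3_2 lc_a_rc_2_2 lc_a_rc_2_2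 lc_a_rc_3_2 lc_a_rc_3_2 lc_a_rc_2_2 lc_a_rc_1_2 lc_a_rc_1_2 lc_a_rc_3_2 lc_a_rc_4_2 lc_a_rc_1_2 lc_a_rc_2_2 lc_a_rc_2_2 lc_a_rc_4_2 lc_a_rc_5_2 lc_a_rc_8_2 lc_a_rc_2_2 lc_a_rc_2_2 lc_a_rc_3_2 lc_a_rc_2_2 lc_a_rc_5_2 lc_a_rc_8_2 lc_a_rc_3_2 lc_a_rc_8_2 lc_a_rc_1_2 lc_a_rc_1_2 lc_a_rc_2_2) (@D3.rec (fun _ => (Cert rels S Gen.a)) lc_a_rc_2_2 lc_a_rc_3_2 lc_a_rc_2_2 lc_a_rc_5_2 lc_a_rc_8_2 lc_a_rc_3_2 lc_a_rc_2_2 lc_a_rc_3_2 lc_a_rc_2_2 lc_a_rc_4_2 lc_a_rc_3_2 lc_a_rc_8_2 lc_a_rc_1_2 lc_a_rc_3_2 lc_a_rc_5_2 lc_a_rc_1_2 lc_a_rc_1_2 lc_a_rc_1_2 lc_a_rc_3_2 lc_a_rc_2_2 lc_a_rc_4_2 lc_a_rc_3_2 lc_a_rc_4_2 lc_a_rc_3_2 lc_a_rc_6_2 lc_a_rc_4_2 lc_a_rc_5_2 lc_a_rc_2_2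 lc_a_rc_3_2 lc_a_rc_5_2 lc_a_rc_7_2 lc_a_rc_2_2) (@D3.rec (fun _ => (Cert rels S Gen.a)) lc_a_rc_2_2 lc_a_rc_4_2 lc_a_rc_3_2 lc_a_rc_5_2 lc_a_rc_8_2 lc_a_rc_4_2 lc_a_rc_4_2 lc_a_rc_3_2 lc_a_rc_3_2 lc_a_rc_1_2 lc_a_rc_2_2 lc_a_rc_2_2 lc_a_rc_4_2 lc_a_rc_3_2 lc_a_rc_5_2 lc_a_rc_8_2 lc_a_rc_2_2 lc_a_rc_2_2 lc_a_rc_2_2 lc_a_rc_3_2 lc_a_rc_2_2 lc_a_rc_4_2 lc_a_rc_5_2 lc_a_rc_5_2 lc_a_rc_8_2 lc_a_rc_7_2 lc_a_rc_2_2 lc_a_rc_3_2 lc_a_rc_2_2 lc_a_rc_2_2 lc_a_rc_1_2 lc_a_rc_1_2) (@D3.rec (fun _ => (Cert rels S Gen.a)) lc_a_rc_2_2 lc_a_rc_2_2 lc_a_rc_2_2 lc_a_rc_3_2 lc_a_rc_2_2 lc_a_rc_4_2 lc_a_rc_5_2 lc_a_rc_5_2 lc_a_rc_8_2 lc_a_rc_3_2 lc_a_rc_2_2 lc_a_rc_2_2 lc_a_rc_2_2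 lc_a_rc_3_2 lc_a_rc_2_2 lc_a_rc_4_2 lc_a_rc_3_2 lc_a_rc_6_2 lc_a_rc_5_2 lc_a_rc_3_2 lc_a_rc_8_2 lc_a_rc_8_2 lc_a_rc_3_2 lc_a_rc_3_2 lc_a_rc_7_2 lc_a_rc_46_21 lc_a_rc_3_2 lc_a_rc_1_2 lc_a_rc_1_2 lc_a_rc_1_2 lc_a_rc_1_2 lc_a_rc_1_2) (@D3.rec (fun _ => (Cert rels S Gen.a)) lc_a_rc_3_2 lc_a_rc_2_2 lc_a_rc_2_2 lc_a_rc_2_2 lc_a_rc_3_2 lc_a_rc_2_2 lc_a_rc_3_2 lc_a_rc_6_2 lc_a_rc_5_2 lc_a_rc_3_2 lc_a_rc_3_2 lc_a_rc_5_2 lc_a_rc_2_2 lc_a_rc_2_2 lc_a_rc_3_2 lc_a_rc_3_2 lc_a_rc_4_2 lc_a_rc_3_2 lc_a_rc_3_2 lc_a_rc_2_2 lc_a_rc_7_2 lc_a_Cert_tree lc_a_rc_2_2 lc_a_rc_3_2 lc_a_rc_5_2 lc_a_rc_7_2 lc_a_rc_2_2 lc_a_rc_2_2 lc_a_rc_4_2 lc_a_rc_3_2 lc_a_rc_5_2 lc_a_rc_8_2)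 (@D3.rec (fun _ => (Cert rels S Gen.a)) lc_a_rc_4_2 lc_a_rc_4_2 lc_a_rc_3_2 lc_a_rc_3_2 lc_a_rc_1_2 lc_a_rc_2_2 lc_a_rc_2_2 lc_a_rc_4_2 lc_a_rc_3_2 lc_a_rc_5_2 lc_a_rc_8_2 lc_a_rc_2_2 lc_a_rc_2_2 lc_a_rc_2_2 lc_a_rc_3_2 lc_a_rc_2_2 lc_a_rc_4_2 lc_a_rc_5_2 lc_a_rc_5_2 lc_a_rc_8_2 lc_a_rc_2_2 lc_a_rc_3_2 lc_a_rc_2_2 lc_a_rc_2_2 lc_a_rc_1_2 lc_a_rc_1_2 lc_a_rc_2_2 lc_a_rc_2_2 lc_a_rc_2_2 lc_a_rc_3_2 lc_a_rc_2_2 lc_a_rc_4_2) (@D3.rec (fun _ => (Cert rels S Gen.a)) lc_a_rc_5_2 lc_a_rc_5_2 lc_a_rc_8_2 lc_a_rc_3_2 lc_a_rc_2_2 lc_a_rc_2_2 lc_a_rc_2_2 lc_a_rc_3_2 lc_a_rc_2_2 lc_a_rc_4_2 lc_a_rc_3_2 lc_a_rc_6_2 lc_a_rc_5_2 lc_a_rc_3_2 lc_a_rc_8_2 lc_a_rc_8_2 lc_a_rc_0_0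 lc_a_rc_46_21 lc_a_rc_8_2 lc_a_rc_0_0 lc_a_rc_3_2 lc_a_rc_1_2 lc_a_rc_1_2 lc_a_rc_2_2 lc_a_rc_2_2 lc_a_rc_2_2 lc_a_rc_3_2 lc_a_rc_2_2 lc_a_rc_4_2 lc_a_rc_5_2 lc_a_rc_5_2 lc_a_rc_8_2) (@D3.rec (fun _ => (Cert rels S Gen.a)) lc_a_rc_3_2 lc_a_rc_2_2 lc_a_rc_2_2 lc_a_rc_2_2 lc_a_rc_3_2 lc_a_rc_2_2 lc_a_rc_4_2 lc_a_rc_3_2 lc_a_rc_5_2 lc_a_rc_3_2 lc_a_rc_8_2 lc_a_rc_8_2 lc_a_rc_7_2 lc_a_rc_3_2 lc_a_rc_1_2 lc_a_rc_1_2 lc_a_rc_1_2 lc_a_rc_1_2 lc_a_rc_1_2 lc_a_rc_3_2 lc_a_rc_2_2 lc_a_rc_2_2 lc_a_rc_2_2 lc_a_rc_3_2 lc_a_rc_2_2 lc_a_rc_4_2 lc_a_rc_3_2 lc_a_rc_6_2 lc_a_rc_5_2 lc_a_rc_3_2 lc_a_rc_8_2 lc_a_rc_8_2) (@D3.rec (fun _ => (Cert rels S Gen.a)) lc_a_rc_3_2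 lc_a_rc_5_2 lc_a_rc_2_2 lc_a_rc_2_2 lc_a_rc_3_2 lc_a_rc_2_2 lc_a_rc_3_2 lc_a_rc_2_2 lc_a_rc_4_2 lc_a_rc_3_2 lc_a_rc_6_2 lc_a_rc_4_2 lc_a_rc_5_2 lc_a_rc_8_2 lc_a_rc_2_2 lc_a_rc_3_2 lc_a_Cert_tree lc_a_rc_8_2 lc_a_rc_1_2 lc_a_rc_1_2 lc_a_rc_1_2 lc_a_rc_1_2 lc_a_rc_1_2 lc_a_rc_3_2 lc_a_rc_2_2 lc_a_rc_2_2 lc_a_rc_3_2 lc_a_rc_3_2 lc_a_rc_3_2 lc_a_rc_5_2 lc_a_rc_3_2 lc_a_rc_4_2) (@D3.rec (fun _ => (Cert rels S Gen.a)) lc_a_rc_1_2 lc_a_rc_1_2 lc_a_rc_1_2 lc_a_rc_3_2 lc_a_rc_5_2 lc_a_rc_3_2 lc_a_rc_2_2 lc_a_rc_5_2 lc_a_rc_5_2 lc_a_rc_8_2 lc_a_rc_2_2 lc_a_Cert_tree lc_a_rc_0_0 lc_a_rc_1_2 lc_a_rc_1_2 lc_a_rc_1_2 lc_a_rc_1_2 lc_a_rc_1_0 lc_a_rc_1_2 lc_a_rc_1_2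 lc_a_rc_3_2 lc_a_rc_2_2 lc_a_rc_3_2 lc_a_rc_2_2 lc_a_rc_4_2 lc_a_rc_3_2 lc_a_rc_6_2 lc_a_rc_4_2 lc_a_rc_5_2 lc_a_rc_2_2 lc_a_rc_3_2 lc_a_rc_2_2) (@D3.rec (fun _ => (Cert rels S Gen.a)) lc_a_rc_4_2 lc_a_rc_3_2 lc_a_rc_4_2 lc_a_rc_3_2 lc_a_rc_6_2 lc_a_rc_4_2 lc_a_rc_5_2 lc_a_rc_7_2 lc_a_rc_6_2 lc_a_rc_5_2 lc_a_Cert_tree lc_a_rc_2_2 lc_a_rc_0_0 lc_a_rc_8_2 lc_a_Cert_tree lc_a_rc_0_0 lc_a_rc_2_2 lc_a_rc_1_2 lc_a_rc_2_2 lc_a_rc_2_2 lc_a_rc_3_2 lc_a_rc_1_2 lc_a_rc_1_2 lc_a_rc_2_2 lc_a_rc_2_2 lc_a_rc_2_2 lc_a_rc_3_2 lc_a_rc_2_2 lc_a_rc_3_2 lc_a_rc_3_2 lc_a_rc_4_2 lc_a_rc_3_2) (@D3.rec (fun _ => (Cert rels S Gen.a)) lc_a_rc_1_2 lc_a_rc_1_2 lc_a_rc_1_2 lc_a_rc_1_2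 lc_a_rc_1_2 lc_a_rc_3_2 lc_a_rc_2_2 lc_a_rc_2_2 lc_a_rc_2_2 lc_a_rc_3_2 lc_a_rc_2_2 lc_a_rc_4_2 lc_a_rc_3_2 lc_a_rc_3_2 lc_a_rc_5_2 lc_a_rc_3_2 lc_a_rc_3_2 lc_a_rc_4_2 lc_a_rc_3_2 lc_a_rc_6_2 lc_a_rc_4_2 lc_a_rc_5_2 lc_a_rc_1_2 lc_a_rc_1_2 lc_a_rc_1_2 lc_a_rc_1_2 lc_a_rc_1_2 lc_a_rc_3_2 lc_a_rc_3_2 lc_a_rc_4_2 lc_a_rc_3_2 lc_a_rc_5_2) (@D3.rec (fun _ => (Cert rels S Gen.a)) lc_a_rc_4_2 lc_a_rc_6_2 lc_a_rc_4_2 lc_a_rc_5_2 lc_a_rc_1_2 lc_a_rc_1_2 lc_a_rc_1_2 lc_a_rc_1_2 lc_a_rc_1_2 lc_a_rc_1_2 lc_a_rc_2_2 lc_a_rc_1_2 lc_a_rc_1_2 lc_a_rc_3_2 lc_a_rc_5_2 lc_a_rc_3_2 lc_a_rc_3_2 lc_a_rc_4_2 lc_a_rc_3_2 lc_a_rc_6_2 lc_a_rc_4_2 lc_a_rc_5_2 lc_a_rc_5_2 lc_a_rc_5_2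 lc_a_rc_8_2 lc_a_rc_4_2 lc_a_rc_4_2 lc_a_rc_6_2 lc_a_rc_4_2 lc_a_rc_5_2 lc_a_rc_7_2 lc_a_rc_6_2) (@D3.rec (fun _ => (Cert rels S Gen.a)) lc_a_rc_5_2 lc_a_rc_1_2 lc_a_rc_1_2 lc_a_rc_1_2 lc_a_rc_1_2 lc_a_rc_1_2 lc_a_rc_2_2 lc_a_rc_1_2 lc_a_rc_3_2 lc_a_rc_5_2 lc_a_rc_3_2 lc_a_rc_3_2 lc_a_rc_4_2 lc_a_rc_6_2 lc_a_rc_5_2 lc_a_rc_5_2 lc_a_rc_8_2 lc_a_rc_4_2 lc_a_rc_4_2 lc_a_rc_6_2 lc_a_rc_2_2 lc_a_rc_1_2 lc_a_rc_1_2 lc_a_rc_1_2 lc_a_rc_3_2 lc_a_rc_5_2 lc_a_rc_8_2 lc_a_rc_4_2 lc_a_rc_5_2 lc_a_rc_8_2 lc_a_rc_1_2 lc_a_rc_1_2) (@D3.rec (fun _ => (Cert rels S Gen.a)) lc_a_rc_1_0 lc_a_rc_1_2 lc_a_rc_1_2 lc_a_rc_1_0 lc_a_rc_1_0 lc_a_rc_1_2 lc_a_rc_1_2 lc_a_rc_1_2 lc_a_rc_4_2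 lc_a_rc_3_2 lc_a_rc_6_2 lc_a_rc_4_2 lc_a_rc_5_2 lc_a_rc_7_2 lc_a_rc_6_2 lc_a_rc_5_2 lc_a_rc_6_2 lc_a_rc_4_2 lc_a_rc_5_2 lc_a_rc_7_2 lc_a_rc_6_2 lc_a_rc_5_2 lc_a_rc_7_2 lc_a_rc_6_2 lc_a_rc_3_2 lc_a_rc_2_0 lc_a_rc_2_2 lc_a_rc_2_2 lc_a_rc_2_2 lc_a_rc_1_2 lc_a_rc_1_2 lc_a_rc_1_2) (@D3.rec (fun _ => (Cert rels S Gen.a)) lc_a_rc_7_2 lc_a_rc_6_2 lc_a_rc_3_2 lc_a_rc_7_2 lc_a_rc_3_2 lc_a_rc_2_2 lc_a_rc_1_2 lc_a_rc_1_2 lc_a_rc_2_2 lc_a_rc_2_2 lc_a_rc_2_2 lc_a_rc_1_2 lc_a_rc_1_2 lc_a_rc_1_2 lc_a_rc_1_2 lc_a_rc_2_2 lc_a_rc_2_2 lc_a_rc_3_2 lc_a_rc_4_2 lc_a_rc_2_2 lc_a_rc_1_2 lc_a_rc_4_2 lc_a_rc_1_2 lc_a_rc_1_2 lc_a_rc_2_2 lc_a_rc_2_2 lc_a_rc_3_2 lc_a_rc_2_2 lc_a_rc_5_2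 lc_a_rc_8_2 lc_a_rc_3_2 lc_a_rc_2_2) (@D3.rec (fun _ => (Cert rels S Gen.a)) lc_a_rc_3_2 lc_a_rc_2_2 lc_a_rc_4_2 lc_a_rc_3_2 lc_a_rc_3_2 lc_a_rc_8_2 lc_a_rc_3_2 lc_a_rc_1_2 lc_a_rc_1_2 lc_a_rc_1_2 lc_a_rc_1_2 lc_a_rc_3_2 lc_a_rc_2_2 lc_a_rc_3_2 lc_a_rc_2_2 lc_a_rc_4_2 lc_a_rc_3_2 lc_a_rc_8_2 lc_a_rc_5_2 lc_a_rc_3_2 lc_a_rc_2_2 lc_a_rc_4_2 lc_a_rc_3_2 lc_a_rc_6_2 lc_a_rc_4_2 lc_a_rc_5_2 lc_a_rc_1_2 lc_a_rc_5_2 lc_a_rc_8_2 lc_a_rc_1_2 lc_a_rc_1_2 lc_a_rc_1_0) (@D3.rec (fun _ => (Cert rels S Gen.a)) lc_a_rc_1_2 lc_a_rc_1_2 lc_a_rc_4_2 lc_a_rc_3_2 lc_a_rc_6_2 lc_a_rc_4_2 lc_a_rc_5_2 lc_a_rc_6_2 lc_a_rc_4_2 lc_a_rc_5_2 lc_a_rc_7_2 lc_a_rc_6_2 lc_a_rc_5_2 lc_a_rc_1_2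 lc_a_rc_2_2 lc_a_rc_2_2 lc_a_rc_4_2 lc_a_rc_3_2 lc_a_rc_5_2 lc_a_rc_8_2 lc_a_rc_2_2 lc_a_rc_2_2 lc_a_rc_2_2 lc_a_rc_3_2 lc_a_rc_2_2 lc_a_rc_4_2 lc_a_rc_5_2 lc_a_rc_5_2 lc_a_rc_8_2 lc_a_rc_6_2 lc_a_rc_4_2 lc_a_rc_4_2) (@D3.rec (fun _ => (Cert rels S Gen.a)) lc_a_rc_4_2 lc_a_rc_3_2 lc_a_rc_1_2 lc_a_rc_1_2 lc_a_rc_2_2 lc_a_rc_2_2 lc_a_rc_2_2 lc_a_rc_3_2 lc_a_rc_2_2 lc_a_rc_4_2 lc_a_rc_5_2 lc_a_rc_5_2 lc_a_rc_8_2 lc_a_rc_3_2 lc_a_rc_2_2 lc_a_rc_2_2 lc_a_rc_2_2 lc_a_rc_3_2 lc_a_rc_2_2 lc_a_rc_4_2 lc_a_rc_3_2 lc_a_rc_6_2 lc_a_rc_5_2 lc_a_rc_3_2 lc_a_rc_8_2 lc_a_rc_8_2 lc_a_rc_7_2 lc_a_rc_3_2 lc_a_rc_2_2 lc_a_rc_2_2 lc_a_rc_3_2 lc_a_rc_1_2) (@D3.rec (fun _ =>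 (Cert rels S Gen.a)) lc_a_rc_1_2 lc_a_rc_1_2 lc_a_rc_1_2 lc_a_rc_1_2 lc_a_rc_3_2 lc_a_rc_2_2 lc_a_rc_2_2 lc_a_rc_2_2 lc_a_rc_3_2 lc_a_rc_2_2 lc_a_rc_4_2 lc_a_rc_3_2 lc_a_rc_6_2 lc_a_rc_5_2 lc_a_rc_3_2 lc_a_rc_8_2 lc_a_rc_8_2 lc_a_rc_3_2 lc_a_rc_5_2 lc_a_rc_2_2 lc_a_rc_2_2 lc_a_rc_3_2 lc_a_rc_2_2 lc_a_rc_3_2 lc_a_rc_2_2 lc_a_rc_4_2 lc_a_rc_3_2 lc_a_rc_6_2 lc_a_rc_4_2 lc_a_rc_5_2 lc_a_rc_6_2 lc_a_rc_3_2)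
def ce_a_4 : D2 → D3 → (Cert rels S Gen.a) := @D2.rec (fun _ => D3 → (Cert rels S Gen.a)) (@D3.rec (fun _ => (Cert rels S Gen.a)) lc_a_rc_8_2 lc_a_rc_2_2 lc_a_rc_3_2 lc_a_rc_3_2 lc_a_rc_7_2 lc_a_rc_3_2 lc_a_Cert_tree lc_a_rc_8_2 lc_a_rc_1_2 lc_a_rc_1_2 lc_a_rc_1_2 lc_a_rc_1_2 lc_a_rc_1_2 lc_a_rc_1_2 lc_a_rc_2_2 lc_a_rc_1_2 lc_a_rc_3_2 lc_a_rc_5_2 lc_a_rc_2_2 lc_a_rc_2_2 lc_a_rc_3_2 lc_a_rc_3_2 lc_a_rc_4_2 lc_a_rc_3_2 lc_a_rc_3_2 lc_a_rc_2_2 lc_a_rc_3_2 lc_a_rc_5_2 lc_a_rc_5_2 lc_a_rc_8_2 lc_a_rc_3_2 lc_a_rc_2_2) (@D3.rec (fun _ => (Cert rels S Gen.a)) lc_a_rc_4_2 lc_a_rc_4_2 lc_a_rc_4_2 lc_a_rc_2_2 lc_a_Cert_tree lc_a_Cert_tree lc_a_rc_0_0 lc_a_rc_1_2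 lc_a_rc_2_2 lc_a_rc_2_2 lc_a_rc_4_2 lc_a_rc_3_2 lc_a_rc_5_2 lc_a_rc_8_2 lc_a_rc_2_2 lc_a_rc_2_2 lc_a_rc_3_2 lc_a_rc_2_2 lc_a_rc_4_2 lc_a_rc_5_2 lc_a_rc_5_2 lc_a_rc_8_2 lc_a_rc_6_2 lc_a_rc_4_2 lc_a_rc_4_2 lc_a_rc_4_2 lc_a_rc_3_2 lc_a_rc_1_2 lc_a_rc_1_2 lc_a_rc_2_2 lc_a_rc_2_2 lc_a_rc_2_2) (@D3.rec (fun _ => (Cert rels S Gen.a)) lc_a_rc_3_2 lc_a_rc_2_2 lc_a_rc_4_2 lc_a_rc_5_2 lc_a_rc_5_2 lc_a_rc_8_2 lc_a_rc_3_2 lc_a_rc_2_2 lc_a_rc_2_2 lc_a_rc_2_2 lc_a_rc_3_2 lc_a_rc_2_2 lc_a_rc_4_2 lc_a_rc_3_2 lc_a_rc_5_2 lc_a_rc_3_2 lc_a_rc_8_2 lc_a_rc_8_2 lc_a_rc_3_2 lc_a_rc_2_2 lc_a_rc_2_2 lc_a_rc_3_2 lc_a_rc_1_2 lc_a_rc_1_2 lc_a_rc_1_2 lc_a_rc_1_2 lc_a_rc_1_2 lc_a_rc_3_2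 lc_a_rc_2_2 lc_a_rc_2_2 lc_a_rc_2_2 lc_a_rc_3_2) (@D3.rec (fun _ => (Cert rels S Gen.a)) lc_a_rc_2_2 lc_a_rc_4_2 lc_a_rc_3_2 lc_a_rc_6_2 lc_a_rc_5_2 lc_a_rc_3_2 lc_a_rc_8_2 lc_a_rc_8_2 lc_a_rc_3_2 lc_a_rc_5_2 lc_a_rc_2_2 lc_a_rc_2_2 lc_a_rc_3_2 lc_a_rc_2_2 lc_a_rc_3_2 lc_a_rc_2_2 lc_a_rc_4_2 lc_a_rc_3_2 lc_a_rc_6_2 lc_a_rc_4_2 lc_a_rc_5_2 lc_a_rc_6_2 lc_a_rc_3_2 lc_a_rc_8_2 lc_a_rc_2_2 lc_a_rc_3_2 lc_a_rc_8_2 lc_a_rc_1_0 lc_a_Cert_tree lc_a_rc_1_0 lc_a_rc_5_2 lc_a_rc_1_2) (@D3.rec (fun _ => (Cert rels S Gen.a)) lc_a_rc_1_2 lc_a_rc_1_2 lc_a_rc_1_2 lc_a_rc_1_2 lc_a_rc_3_2 lc_a_rc_2_2 lc_a_rc_2_2 lc_a_rc_2_2 lc_a_rc_3_2 lc_a_rc_2_2 lc_a_rc_4_2 lc_a_rc_3_2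 lc_a_rc_5_2 lc_a_rc_3_2 lc_a_rc_8_2 lc_a_rc_8_2 lc_a_rc_3_2 lc_a_rc_5_2 lc_a_rc_2_2 lc_a_rc_3_2 lc_a_rc_2_2 lc_a_rc_3_2 lc_a_rc_2_2 lc_a_rc_4_2 lc_a_rc_3_2 lc_a_rc_6_2 lc_a_rc_4_2 lc_a_rc_5_2 lc_a_rc_8_2 lc_a_rc_2_2 lc_a_rc_3_2 lc_a_rc_1_2) (@D3.rec (fun _ => (Cert rels S Gen.a)) lc_a_rc_1_2 lc_a_rc_1_2 lc_a_rc_1_2 lc_a_rc_1_2 lc_a_rc_1_2 lc_a_rc_2_2 lc_a_rc_1_2 lc_a_rc_1_2 lc_a_rc_3_2 lc_a_rc_5_2 lc_a_rc_2_2 lc_a_rc_2_2 lc_a_rc_3_2 lc_a_rc_2_2 lc_a_rc_3_2 lc_a_rc_2_2 lc_a_rc_4_2 lc_a_rc_3_2 lc_a_rc_6_2 lc_a_rc_4_2 lc_a_rc_5_2 lc_a_rc_8_2 lc_a_rc_2_2 lc_a_rc_3_2 lc_a_rc_3_2 lc_a_rc_5_2 lc_a_rc_5_2 lc_a_rc_8_2 lc_a_rc_3_2 lc_a_rc_2_2 lc_a_rc_2_2 lc_a_rc_4_2)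 (@D3.rec (fun _ => (Cert rels S Gen.a)) lc_a_rc_3_2 lc_a_rc_4_2 lc_a_rc_3_2 lc_a_rc_6_2 lc_a_rc_4_2 lc_a_rc_5_2 lc_a_rc_7_2 lc_a_rc_6_2 lc_a_rc_5_2 lc_a_Cert_tree lc_a_rc_2_2 lc_a_rc_0_0 lc_a_rc_8_2 lc_a_rc_1_2 lc_a_rc_1_2 lc_a_rc_1_2 lc_a_rc_1_2 lc_a_rc_2_2 lc_a_rc_1_2 lc_a_rc_3_2 lc_a_rc_5_2 lc_a_rc_3_2 lc_a_rc_4_2 lc_a_rc_5_2 lc_a_rc_5_2 lc_a_rc_8_2 lc_a_rc_4_2 lc_a_rc_2_2 lc_a_rc_1_2 lc_a_rc_1_2 lc_a_rc_1_2 lc_a_rc_5_2) (@D3.rec (fun _ => (Cert rels S Gen.a)) lc_a_rc_5_2 lc_a_rc_8_2 lc_a_rc_2_2 lc_a_Cert_tree lc_a_rc_8_2 lc_a_rc_2_2 lc_a_rc_8_2 lc_a_Cert_tree lc_a_rc_0_0 lc_a_rc_1_2 lc_a_rc_1_2 lc_a_rc_1_2 lc_a_rc_1_2 lc_a_rc_1_0 lc_a_rc_1_2 lc_a_rc_1_2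 lc_a_rc_1_0 lc_a_rc_1_0 lc_a_rc_1_2 lc_a_rc_1_2 lc_a_rc_1_2 lc_a_rc_2_2 lc_a_rc_4_2 lc_a_rc_3_2 lc_a_rc_4_2 lc_a_rc_3_2 lc_a_rc_6_2 lc_a_rc_4_2 lc_a_rc_5_2 lc_a_rc_7_2 lc_a_rc_6_2 lc_a_rc_5_2) (@D3.rec (fun _ => (Cert rels S Gen.a)) lc_a_Cert_tree lc_a_rc_2_2 lc_a_Cert_tree lc_a_rc_2_2 lc_a_rc_2_2 lc_a_rc_6_2 lc_a_rc_4_2 lc_a_rc_5_2 lc_a_rc_6_2 lc_a_rc_4_2 lc_a_rc_5_2 lc_a_rc_7_2 lc_a_rc_6_2 lc_a_rc_5_2 lc_a_rc_7_2 lc_a_rc_6_2 lc_a_rc_3_2 lc_a_rc_0_0 lc_a_rc_8_2 lc_a_rc_8_2 lc_a_rc_0_0 lc_a_rc_1_2 lc_a_rc_1_2 lc_a_rc_1_2 lc_a_rc_3_2 lc_a_rc_4_2 lc_a_rc_1_2 lc_a_rc_1_2 lc_a_rc_1_2 lc_a_rc_1_2 lc_a_rc_1_2 lc_a_rc_3_2) (@D3.rec (fun _ => (Cert rels S Gen.a))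 lc_a_rc_3_2 lc_a_rc_4_2 lc_a_rc_3_2 lc_a_rc_6_2 lc_a_rc_4_2 lc_a_rc_5_2 lc_a_rc_1_2 lc_a_rc_1_2 lc_a_rc_1_2 lc_a_rc_1_2 lc_a_rc_1_2 lc_a_rc_1_2 lc_a_rc_2_2 lc_a_rc_1_2 lc_a_rc_1_2 lc_a_rc_3_2 lc_a_rc_5_2 lc_a_rc_3_2 lc_a_rc_3_2 lc_a_rc_4_2 lc_a_rc_3_2 lc_a_rc_6_2 lc_a_rc_4_2 lc_a_rc_5_2 lc_a_rc_5_2 lc_a_rc_5_2 lc_a_rc_8_2 lc_a_rc_4_2 lc_a_rc_4_2 lc_a_rc_6_2 lc_a_rc_4_2 lc_a_rc_5_2) (@D3.rec (fun _ => (Cert rels S Gen.a)) lc_a_rc_7_2 lc_a_rc_6_2 lc_a_rc_5_2 lc_a_rc_1_2 lc_a_rc_1_2 lc_a_rc_2_2 lc_a_rc_1_2 lc_a_rc_1_2 lc_a_rc_5_2 lc_a_rc_4_2 lc_a_rc_6_2 lc_a_rc_4_2 lc_a_rc_5_2 lc_a_rc_8_2 lc_a_rc_6_2 lc_a_rc_7_2 lc_a_rc_6_2 lc_a_rc_5_2 lc_a_rc_2_2 lc_a_rc_1_2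 lc_a_rc_1_2 lc_a_rc_1_2 lc_a_rc_1_2 lc_a_rc_2_2 lc_a_rc_1_2 lc_a_rc_1_2 lc_a_rc_2_2 lc_a_rc_2_2 lc_a_rc_1_2 lc_a_rc_1_2 lc_a_rc_1_2 lc_a_rc_5_2) (@D3.rec (fun _ => (Cert rels S Gen.a)) lc_a_rc_5_2 lc_a_rc_8_2 lc_a_rc_4_2 lc_a_rc_4_2 lc_a_rc_6_2 lc_a_rc_4_2 lc_a_rc_5_2 lc_a_rc_7_2 lc_a_rc_6_2 lc_a_rc_5_2 lc_a_rc_8_2 lc_a_rc_5_2 lc_a_rc_8_2 lc_a_rc_6_2 lc_a_rc_6_2 lc_a_rc_7_2 lc_a_rc_6_2 lc_a_rc_5_2 lc_a_rc_7_2 lc_a_rc_6_2 lc_a_rc_3_2 lc_a_rc_2_2 lc_a_rc_1_2 lc_a_rc_1_2 lc_a_rc_1_2 lc_a_rc_1_2 lc_a_rc_2_2 lc_a_rc_1_2 lc_a_rc_2_2 lc_a_rc_1_2 lc_a_rc_5_2 lc_a_rc_5_2) (@D3.rec (fun _ => (Cert rels S Gen.a)) lc_a_rc_8_2 lc_a_rc_4_2 lc_a_rc_4_2 lc_a_rc_6_2 lc_a_rc_8_2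 lc_a_rc_5_2 lc_a_rc_8_2 lc_a_rc_6_2 lc_a_rc_2_2 lc_a_rc_2_2 lc_a_rc_1_2 lc_a_rc_1_2 lc_a_rc_1_2 lc_a_rc_4_2 lc_a_rc_5_2 lc_a_rc_8_2 lc_a_rc_5_2 lc_a_rc_8_2 lc_a_rc_1_0 lc_a_rc_1_2 lc_a_rc_1_2 lc_a_rc_1_0 lc_a_rc_1_0 lc_a_rc_1_2 lc_a_rc_1_2 lc_a_rc_1_2 lc_a_rc_1_0 lc_a_rc_1_0 lc_a_rc_1_0 lc_a_rc_1_0 lc_a_rc_1_2 lc_a_rc_1_2) (@D3.rec (fun _ => (Cert rels S Gen.a)) lc_a_rc_1_2 lc_a_rc_6_2 lc_a_rc_4_2 lc_a_rc_5_2 lc_a_rc_7_2 lc_a_rc_6_2 lc_a_rc_5_2 lc_a_rc_7_2 lc_a_rc_6_2 lc_a_rc_3_2 lc_a_rc_7_2 lc_a_rc_6_2 lc_a_rc_5_2 lc_a_rc_7_2 lc_a_rc_6_2 lc_a_rc_3_2 lc_a_rc_7_2 lc_a_rc_3_2 lc_a_rc_2_2 lc_a_rc_2_0 lc_a_rc_2_0 lc_a_rc_2_0 lc_a_rc_2_2 lc_a_rc_2_2 lc_a_rc_2_2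 lc_a_rc_3_2 lc_a_rc_1_2 lc_a_rc_1_2 lc_a_rc_1_2 lc_a_rc_7_2 lc_a_rc_3_2 lc_a_rc_2_2) (@D3.rec (fun _ => (Cert rels S Gen.a)) lc_a_rc_2_2 lc_a_rc_2_2 lc_a_rc_2_2 lc_a_rc_1_2 lc_a_rc_2_2 lc_a_rc_3_2 lc_a_rc_4_2 lc_a_rc_2_2 lc_a_rc_1_2 lc_a_rc_1_2 lc_a_rc_1_2 lc_a_rc_1_2 lc_a_rc_1_2 lc_a_rc_3_2 lc_a_rc_2_2 lc_a_rc_3_2 lc_a_rc_2_2 lc_a_rc_4_2 lc_a_rc_3_2 lc_a_rc_3_2 lc_a_rc_8_2 lc_a_rc_5_2 lc_a_rc_3_2 lc_a_rc_2_2 lc_a_rc_4_2 lc_a_rc_3_2 lc_a_rc_6_2 lc_a_rc_4_2 lc_a_rc_5_2 lc_a_rc_2_2 lc_a_rc_3_2 lc_a_rc_5_2) (@D3.rec (fun _ => (Cert rels S Gen.a)) lc_a_rc_1_2 lc_a_rc_1_2 lc_a_rc_1_2 lc_a_rc_1_2 lc_a_rc_2_2 lc_a_rc_1_2 lc_a_rc_1_2 lc_a_rc_5_2 lc_a_rc_3_2 lc_a_rc_2_2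 lc_a_rc_4_2 lc_a_rc_3_2 lc_a_rc_6_2 lc_a_rc_4_2 lc_a_rc_5_2 lc_a_rc_5_2 lc_a_rc_8_2 lc_a_rc_4_2 lc_a_rc_3_2 lc_a_rc_6_2 lc_a_rc_4_2 lc_a_rc_5_2 lc_a_rc_7_2 lc_a_rc_6_2 lc_a_rc_5_2 lc_a_rc_2_2 lc_a_rc_1_2 lc_a_rc_8_2 lc_a_rc_1_0 lc_a_rc_1_2 lc_a_rc_1_2 lc_a_rc_1_0) (@D3.rec (fun _ => (Cert rels S Gen.a)) lc_a_rc_1_0 lc_a_rc_1_2 lc_a_rc_1_2 lc_a_rc_1_2 lc_a_rc_6_2 lc_a_rc_4_2 lc_a_rc_5_2 lc_a_rc_7_2 lc_a_rc_6_2 lc_a_rc_5_2 lc_a_rc_7_2 lc_a_rc_6_2 lc_a_rc_5_2 lc_a_rc_7_2 lc_a_rc_6_2 lc_a_rc_3_2 lc_a_rc_1_2 lc_a_rc_1_2 lc_a_rc_2_2 lc_a_rc_2_2 lc_a_rc_2_2 lc_a_rc_3_2 lc_a_rc_2_2 lc_a_rc_4_2 lc_a_rc_5_2 lc_a_rc_5_2 lc_a_rc_8_2 lc_a_rc_2_2 lc_a_rc_2_2 lc_a_rc_3_2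 lc_a_rc_2_2 lc_a_rc_4_2) (@D3.rec (fun _ => (Cert rels S Gen.a)) lc_a_rc_3_2 lc_a_rc_5_2 lc_a_rc_3_2 lc_a_rc_8_2 lc_a_rc_8_2 lc_a_rc_6_2 lc_a_rc_4_2 lc_a_rc_4_2 lc_a_rc_2_2 lc_a_rc_4_2 lc_a_rc_1_2 lc_a_rc_1_2 lc_a_rc_1_2 lc_a_rc_1_2 lc_a_rc_1_2 lc_a_rc_3_2 lc_a_rc_2_2 lc_a_rc_2_2 lc_a_rc_2_2 lc_a_rc_3_2 lc_a_rc_2_2 lc_a_rc_4_2 lc_a_rc_3_2 lc_a_rc_6_2 lc_a_rc_5_2 lc_a_rc_3_2 lc_a_rc_8_2 lc_a_rc_8_2 lc_a_rc_3_2 lc_a_rc_5_2 lc_a_rc_2_2 lc_a_rc_2_2) (@D3.rec (fun _ => (Cert rels S Gen.a)) lc_a_rc_3_2 lc_a_rc_2_2 lc_a_rc_3_2 lc_a_rc_2_2 lc_a_rc_4_2 lc_a_rc_3_2 lc_a_rc_6_2 lc_a_rc_4_2 lc_a_rc_5_2 lc_a_rc_6_2 lc_a_rc_3_2 lc_a_rc_8_2 lc_a_rc_2_2 lc_a_rc_3_2 lc_a_rc_1_0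 lc_a_rc_8_2 lc_a_rc_1_0 lc_a_rc_3_2 lc_a_Cert_tree lc_a_rc_2_2 lc_a_rc_3_2 lc_a_rc_1_2 lc_a_rc_1_2 lc_a_rc_1_2 lc_a_rc_1_2 lc_a_rc_1_2 lc_a_rc_1_2 lc_a_rc_2_2 lc_a_rc_1_2 lc_a_rc_1_2 lc_a_rc_3_2 lc_a_rc_5_2) (@D3.rec (fun _ => (Cert rels S Gen.a)) lc_a_rc_2_2 lc_a_rc_2_2 lc_a_rc_3_2 lc_a_rc_2_2 lc_a_rc_3_2 lc_a_rc_2_2 lc_a_rc_4_2 lc_a_rc_3_2 lc_a_rc_6_2 lc_a_rc_4_2 lc_a_rc_5_2 lc_a_rc_6_2 lc_a_rc_3_2 lc_a_rc_8_2 lc_a_rc_2_2 lc_a_rc_3_2 lc_a_rc_3_2 lc_a_rc_5_2 lc_a_rc_5_2 lc_a_rc_8_2 lc_a_rc_2_2 lc_a_rc_3_2 lc_a_rc_2_2 lc_a_rc_2_2 lc_a_rc_4_2 lc_a_rc_3_2 lc_a_rc_4_2 lc_a_rc_3_2 lc_a_rc_6_2 lc_a_rc_4_2 lc_a_rc_5_2 lc_a_rc_7_2) (@D3.rec (fun _ => (Cert rels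 S Gen.a)) lc_a_rc_6_2 lc_a_rc_5_2 lc_a_rc_8_2 lc_a_rc_2_2 lc_a_rc_3_2 lc_a_Cert_tree lc_a_rc_2_2 lc_a_Cert_tree lc_a_rc_8_2 lc_a_rc_0_0 lc_a_rc_8_2 lc_a_rc_2_2 lc_a_rc_1_2 lc_a_rc_1_2 lc_a_rc_1_2 lc_a_rc_1_2 lc_a_rc_1_2 lc_a_rc_1_2 lc_a_rc_2_2 lc_a_rc_1_2 lc_a_rc_1_2 lc_a_rc_2_2 lc_a_rc_3_2 lc_a_rc_5_2 lc_a_rc_5_2 lc_a_rc_8_2 lc_a_rc_3_2 lc_a_rc_2_2 lc_a_rc_4_2 lc_a_rc_4_2 lc_a_rc_4_2 lc_a_rc_2_2) (@D3.rec (fun _ => (Cert rels S Gen.a)) lc_a_Cert_tree lc_a_rc_4_2 lc_a_rc_5_2 lc_a_rc_5_2 lc_a_rc_8_2 lc_a_rc_2_2 lc_a_rc_5_2 lc_a_rc_8_2 lc_a_rc_2_2 lc_a_rc_4_2 lc_a_Cert_tree lc_a_rc_2_2 lc_a_Cert_tree lc_a_rc_0_0 lc_a_rc_0_0 lc_a_rc_1_2 lc_a_rc_1_2 lc_a_rc_2_2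 lc_a_rc_2_2 lc_a_rc_3_2 lc_a_rc_2_2 lc_a_rc_4_2 lc_a_rc_5_2 lc_a_rc_5_2 lc_a_rc_8_2 lc_a_rc_2_2 lc_a_rc_2_2 lc_a_rc_4_2 lc_a_rc_3_2 lc_a_rc_0_1 lc_a_rc_5_2 lc_a_rc_3_2)
def ce_a_5 : D2 → D3 → (Cert rels S Gen.a) := @D2.rec (fun _ => D3 → (Cert rels S Gen.a)) (@D3.rec (fun _ => (Cert rels S Gen.a)) lc_a_rc_8_2 lc_a_rc_8_2 lc_a_rc_6_2 lc_a_rc_4_2 lc_a_rc_4_2 lc_a_rc_2_2 lc_a_rc_4_2 lc_a_rc_1_2 lc_a_rc_1_2 lc_a_rc_1_2 lc_a_rc_1_2 lc_a_rc_1_2 lc_a_rc_3_2 lc_a_rc_2_2 lc_a_rc_2_2 lc_a_rc_2_2 lc_a_rc_3_2 lc_a_rc_2_2 lc_a_rc_4_2 lc_a_rc_3_2 lc_a_rc_5_2 lc_a_rc_3_2 lc_a_rc_8_2 lc_a_rc_8_2 lc_a_rc_5_2 lc_a_rc_2_2 lc_a_rc_3_2 lc_a_rc_2_2 lc_a_rc_2_2 lc_a_rc_4_2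 lc_a_rc_3_2 lc_a_rc_6_2) (@D3.rec (fun _ => (Cert rels S Gen.a)) lc_a_rc_4_2 lc_a_rc_5_2 lc_a_rc_3_2 lc_a_rc_8_2 lc_a_rc_2_2 lc_a_rc_3_2 lc_a_rc_3_2 lc_a_Cert_tree lc_a_rc_2_2 lc_a_rc_3_2 lc_a_rc_1_2 lc_a_rc_1_2 lc_a_rc_1_2 lc_a_rc_1_2 lc_a_rc_1_2 lc_a_rc_1_2 lc_a_rc_2_2 lc_a_rc_1_2 lc_a_rc_1_2 lc_a_rc_3_2 lc_a_rc_5_2 lc_a_rc_2_2 lc_a_rc_2_2 lc_a_rc_3_2 lc_a_rc_2_2 lc_a_rc_3_2 lc_a_rc_2_2 lc_a_rc_4_2 lc_a_rc_3_2 lc_a_rc_6_2 lc_a_rc_4_2 lc_a_rc_5_2) (@D3.rec (fun _ => (Cert rels S Gen.a)) lc_a_rc_6_2 lc_a_rc_3_2 lc_a_rc_8_2 lc_a_rc_2_2 lc_a_rc_3_2 lc_a_rc_3_2 lc_a_rc_5_2 lc_a_rc_5_2 lc_a_rc_8_2 lc_a_rc_2_2 lc_a_rc_3_2 lc_a_rc_2_2 lc_a_rc_2_2 lc_a_rc_4_2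 lc_a_rc_3_2 lc_a_rc_4_2 lc_a_rc_3_2 lc_a_rc_6_2 lc_a_rc_4_2 lc_a_rc_5_2 lc_a_rc_7_2 lc_a_rc_6_2 lc_a_rc_5_2 lc_a_rc_8_2 lc_a_rc_2_2 lc_a_rc_3_2 lc_a_Cert_tree lc_a_rc_2_2 lc_a_rc_5_2 lc_a_rc_1_0 lc_a_rc_0_0 lc_a_rc_8_2) (@D3.rec (fun _ => (Cert rels S Gen.a)) lc_a_rc_1_0 lc_a_rc_1_2 lc_a_rc_1_2 lc_a_rc_1_2 lc_a_rc_1_2 lc_a_rc_1_2 lc_a_rc_1_2 lc_a_rc_2_2 lc_a_rc_1_2 lc_a_rc_1_2 lc_a_rc_3_2 lc_a_rc_5_2 lc_a_rc_2_2 lc_a_rc_3_2 lc_a_rc_2_2 lc_a_rc_3_2 lc_a_rc_2_2 lc_a_rc_4_2 lc_a_rc_3_2 lc_a_rc_6_2 lc_a_rc_4_2 lc_a_rc_5_2 lc_a_rc_8_2 lc_a_rc_2_2 lc_a_rc_3_2 lc_a_rc_5_2 lc_a_rc_8_2 lc_a_rc_3_2 lc_a_rc_2_2 lc_a_rc_2_2 lc_a_rc_4_2 lc_a_rc_3_2) (@D3.rec (fun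 _ => (Cert rels S Gen.a)) lc_a_rc_3_2 lc_a_rc_6_2 lc_a_rc_4_2 lc_a_rc_5_2 lc_a_rc_7_2 lc_a_rc_6_2 lc_a_rc_5_2 lc_a_rc_2_2 lc_a_rc_2_2 lc_a_rc_1_2 lc_a_rc_1_2 lc_a_rc_1_2 lc_a_rc_1_2 lc_a_rc_1_2 lc_a_rc_1_2 lc_a_rc_1_2 lc_a_rc_1_2 lc_a_rc_2_2 lc_a_rc_1_2 lc_a_rc_1_2 lc_a_rc_2_2 lc_a_rc_2_2 lc_a_rc_1_2 lc_a_rc_1_2 lc_a_rc_1_2 lc_a_rc_3_2 lc_a_rc_5_2 lc_a_rc_5_2 lc_a_rc_8_2 lc_a_rc_3_2 lc_a_rc_2_2 lc_a_rc_2_2) (@D3.rec (fun _ => (Cert rels S Gen.a)) lc_a_rc_4_2 lc_a_rc_3_2 lc_a_rc_4_2 lc_a_rc_3_2 lc_a_rc_6_2 lc_a_rc_4_2 lc_a_rc_5_2 lc_a_rc_7_2 lc_a_rc_6_2 lc_a_rc_5_2 lc_a_Cert_tree lc_a_rc_2_2 lc_a_rc_4_2 lc_a_rc_5_2 lc_a_rc_5_2 lc_a_rc_8_2 lc_a_rc_2_2 lc_a_rc_5_2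 lc_a_rc_8_2 lc_a_rc_4_2 lc_a_rc_3_2 lc_a_Cert_tree lc_a_rc_2_2 lc_a_rc_2_2 lc_a_rc_6_2 lc_a_rc_4_2 lc_a_rc_5_2 lc_a_rc_6_2 lc_a_rc_4_2 lc_a_rc_5_2 lc_a_rc_7_2 lc_a_rc_6_2) (@D3.rec (fun _ => (Cert rels S Gen.a)) lc_a_rc_5_2 lc_a_rc_7_2 lc_a_rc_6_2 lc_a_rc_3_2 lc_a_rc_0_0 lc_a_rc_8_2 lc_a_rc_8_2 lc_a_rc_2_2 lc_a_rc_1_2 lc_a_rc_1_2 lc_a_rc_1_2 lc_a_rc_2_2 lc_a_rc_1_2 lc_a_rc_2_2 lc_a_rc_5_2 lc_a_rc_5_2 lc_a_rc_8_2 lc_a_rc_4_2 lc_a_rc_8_2 lc_a_rc_5_2 lc_a_rc_8_2 lc_a_rc_2_2 lc_a_rc_2_2 lc_a_rc_1_2 lc_a_rc_1_2 lc_a_rc_1_2 lc_a_rc_2_2 lc_a_rc_8_2 lc_a_rc_2_2 lc_a_rc_8_2 lc_a_Cert_tree lc_a_rc_0_0) (@D3.rec (fun _ => (Cert rels S Gen.a)) lc_a_Cert_tree lc_a_rc_2_2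 lc_a_rc_0_0 lc_a_rc_2_2 lc_a_rc_1_2 lc_a_rc_1_2 lc_a_rc_1_0 lc_a_rc_1_2 lc_a_rc_1_2 lc_a_rc_1_0 lc_a_rc_1_0 lc_a_rc_1_2 lc_a_rc_1_2 lc_a_rc_1_2 lc_a_rc_1_0 lc_a_rc_1_0 lc_a_rc_1_0 lc_a_rc_1_0 lc_a_rc_1_2 lc_a_rc_1_2 lc_a_rc_1_2 lc_a_Cert_tree lc_a_rc_2_2 lc_a_rc_2_2 lc_a_rc_6_2 lc_a_rc_4_2 lc_a_rc_5_2 lc_a_rc_6_2 lc_a_rc_4_2 lc_a_rc_5_2 lc_a_rc_7_2 lc_a_rc_6_2) (@D3.rec (fun _ => (Cert rels S Gen.a)) lc_a_rc_5_2 lc_a_rc_7_2 lc_a_rc_6_2 lc_a_rc_3_2 lc_a_rc_0_0 lc_a_rc_8_2 lc_a_rc_0_0 lc_a_rc_4_2 lc_a_rc_8_2 lc_a_rc_2_2 lc_a_rc_2_2 lc_a_rc_2_2 lc_a_rc_7_2 lc_a_rc_6_2 lc_a_rc_5_2 lc_a_rc_7_2 lc_a_rc_6_2 lc_a_rc_5_2 lc_a_rc_7_2 lc_a_rc_6_2 lc_a_rc_3_2 lc_a_rc_7_2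 lc_a_rc_3_2 lc_a_rc_2_2 lc_a_rc_8_2 lc_a_rc_1_2 lc_a_rc_4_2 lc_a_rc_1_2 lc_a_rc_1_2 lc_a_rc_2_2 lc_a_rc_1_2 lc_a_rc_1_2) (@D3.rec (fun _ => (Cert rels S Gen.a)) lc_a_rc_6_2 lc_a_rc_4_2 lc_a_rc_5_2 lc_a_rc_5_2 lc_a_rc_2_2 lc_a_rc_1_2 lc_a_rc_1_2 lc_a_rc_1_2 lc_a_rc_1_2 lc_a_rc_2_2 lc_a_rc_1_2 lc_a_rc_1_2 lc_a_rc_2_2 lc_a_rc_2_2 lc_a_rc_1_2 lc_a_rc_1_2 lc_a_rc_1_2 lc_a_rc_5_2 lc_a_rc_5_2 lc_a_rc_8_2 lc_a_rc_4_2 lc_a_rc_4_2 lc_a_rc_6_2 lc_a_rc_4_2 lc_a_rc_5_2 lc_a_rc_7_2 lc_a_rc_6_2 lc_a_rc_5_2 lc_a_rc_5_2 lc_a_rc_6_2 lc_a_rc_6_2 lc_a_rc_7_2) (@D3.rec (fun _ => (Cert rels S Gen.a)) lc_a_rc_6_2 lc_a_rc_5_2 lc_a_rc_7_2 lc_a_rc_6_2 lc_a_rc_3_2 lc_a_rc_2_2 lc_a_rc_3_2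 lc_a_rc_2_2 lc_a_rc_0_1 lc_a_rc_2_2 lc_a_rc_2_2 lc_a_rc_1_2 lc_a_rc_1_2 lc_a_rc_1_2 lc_a_rc_8_2 lc_a_rc_6_2 lc_a_rc_7_2 lc_a_rc_6_2 lc_a_rc_5_2 lc_a_rc_7_2 lc_a_rc_6_2 lc_a_rc_3_2 lc_a_rc_2_2 lc_a_rc_2_2 lc_a_rc_1_2 lc_a_rc_1_2 lc_a_rc_1_2 lc_a_rc_2_2 lc_a_rc_1_2 lc_a_rc_2_2 lc_a_rc_1_2 lc_a_rc_2_2) (@D3.rec (fun _ => (Cert rels S Gen.a)) lc_a_rc_2_2 lc_a_rc_1_2 lc_a_rc_1_2 lc_a_rc_1_2 lc_a_rc_3_2 lc_a_rc_2_2 lc_a_rc_2_2 lc_a_rc_2_2 lc_a_rc_1_2 lc_a_rc_1_2 lc_a_rc_1_2 lc_a_rc_8_2 lc_a_rc_5_2 lc_a_rc_8_2 lc_a_rc_6_2 lc_a_rc_6_2 lc_a_rc_7_2 lc_a_rc_6_2 lc_a_rc_5_2 lc_a_rc_7_2 lc_a_rc_6_2 lc_a_rc_3_2 lc_a_rc_6_2 lc_a_rc_8_2 lc_a_rc_7_2 lc_a_rc_7_2 lc_a_rc_7_2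 lc_a_rc_6_2 lc_a_rc_3_2 lc_a_rc_7_2 lc_a_rc_3_2 lc_a_rc_2_2) (@D3.rec (fun _ => (Cert rels S Gen.a)) lc_a_rc_2_2 lc_a_rc_2_2 lc_a_rc_1_2 lc_a_rc_1_2 lc_a_rc_1_2 lc_a_rc_2_2 lc_a_rc_1_2 lc_a_rc_2_2 lc_a_rc_1_2 lc_a_rc_2_2 lc_a_rc_1_2 lc_a_rc_3_2 lc_a_rc_2_2 lc_a_rc_8_2 lc_a_rc_5_2 lc_a_rc_8_2 lc_a_rc_6_2 lc_a_rc_6_2 lc_a_rc_8_2 lc_a_rc_2_2 lc_a_rc_2_2 lc_a_rc_3_2 lc_a_rc_2_2 lc_a_rc_1_2 lc_a_rc_1_2 lc_a_rc_1_2 lc_a_rc_5_2 lc_a_rc_8_2 lc_a_rc_8_2 lc_a_rc_1_0 lc_a_rc_2_2 lc_a_rc_1_2) (@D3.rec (fun _ => (Cert rels S Gen.a)) lc_a_rc_1_2 lc_a_rc_1_2 lc_a_rc_1_0 lc_a_rc_1_0 lc_a_rc_1_0 lc_a_rc_1_0 lc_a_rc_1_2 lc_a_rc_1_2 lc_a_rc_1_2 lc_a_rc_1_0 lc_a_rc_1_0 lc_a_rc_1_0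 lc_a_rc_1_0 lc_a_rc_1_0 lc_a_rc_1_0 lc_a_rc_1_0 lc_a_rc_1_2 lc_a_rc_1_2 lc_a_rc_1_2 lc_a_rc_7_2 lc_a_rc_6_2 lc_a_rc_5_2 lc_a_rc_7_2 lc_a_rc_6_2 lc_a_rc_3_2 lc_a_rc_7_2 lc_a_rc_3_2 lc_a_rc_2_2 lc_a_rc_7_2 lc_a_rc_6_2 lc_a_rc_3_2 lc_a_rc_7_2) (@D3.rec (fun _ => (Cert rels S Gen.a)) lc_a_rc_3_2 lc_a_rc_2_2 lc_a_rc_2_0 lc_a_rc_2_0 lc_a_rc_2_0 lc_a_rc_2_0 lc_a_rc_8_2 lc_a_rc_5_2 lc_a_rc_2_2 lc_a_rc_2_2 lc_a_rc_3_2 lc_a_rc_4_2 lc_a_rc_1_2 lc_a_rc_1_2 lc_a_rc_2_2 lc_a_rc_46_49 lc_a_rc_2_2 lc_a_rc_1_2 lc_a_rc_2_2 lc_a_rc_1_2 lc_a_rc_1_2 lc_a_rc_1_2 lc_a_rc_1_2 lc_a_rc_2_2 lc_a_rc_1_2 lc_a_rc_1_2 lc_a_rc_5_2 lc_a_rc_3_2 lc_a_rc_2_2 lc_a_rc_4_2 lc_a_rc_3_2 lc_a_rc_6_2)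 (@D3.rec (fun _ => (Cert rels S Gen.a)) lc_a_rc_4_2 lc_a_rc_5_2 lc_a_rc_2_2 lc_a_rc_3_2 lc_a_rc_5_2 lc_a_rc_8_2 lc_a_rc_2_2 lc_a_rc_4_2 lc_a_rc_3_2 lc_a_rc_6_2 lc_a_rc_4_2 lc_a_rc_5_2 lc_a_rc_7_2 lc_a_rc_6_2 lc_a_rc_5_2 lc_a_rc_2_2 lc_a_rc_5_2 lc_a_rc_2_2 lc_a_rc_1_2 lc_a_rc_1_2 lc_a_rc_1_2 lc_a_rc_2_2 lc_a_rc_1_2 lc_a_rc_1_2 lc_a_rc_2_2 lc_a_rc_2_2 lc_a_rc_1_2 lc_a_rc_1_2 lc_a_rc_1_2 lc_a_rc_5_2 lc_a_rc_8_2 lc_a_rc_4_2) (@D3.rec (fun _ => (Cert rels S Gen.a)) lc_a_rc_3_2 lc_a_rc_6_2 lc_a_rc_4_2 lc_a_rc_5_2 lc_a_rc_7_2 lc_a_rc_6_2 lc_a_rc_5_2 lc_a_rc_5_2 lc_a_rc_8_2 lc_a_rc_6_2 lc_a_rc_4_2 lc_a_rc_5_2 lc_a_rc_7_2 lc_a_rc_6_2 lc_a_rc_5_2 lc_a_rc_7_2 lc_a_rc_6_2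 lc_a_rc_3_2 lc_a_rc_2_2 lc_a_rc_1_2 lc_a_rc_1_0 lc_a_rc_1_0 lc_a_rc_1_2 lc_a_rc_1_2 lc_a_rc_1_2 lc_a_rc_1_0 lc_a_rc_1_0 lc_a_rc_1_0 lc_a_rc_1_0 lc_a_rc_1_2 lc_a_rc_1_2 lc_a_rc_1_2) (@D3.rec (fun _ => (Cert rels S Gen.a)) lc_a_rc_7_2 lc_a_rc_6_2 lc_a_rc_5_2 lc_a_rc_7_2 lc_a_rc_6_2 lc_a_rc_3_2 lc_a_rc_7_2 lc_a_rc_6_2 lc_a_rc_3_2 lc_a_rc_7_2 lc_a_rc_3_2 lc_a_rc_2_2 lc_a_rc_1_2 lc_a_rc_1_2 lc_a_rc_1_2 lc_a_rc_1_2 lc_a_rc_2_2 lc_a_rc_2_2 lc_a_rc_3_2 lc_a_rc_2_2 lc_a_rc_4_2 lc_a_rc_3_2 lc_a_rc_5_2 lc_a_rc_3_2 lc_a_rc_8_2 lc_a_rc_8_2 lc_a_rc_2_2 lc_a_rc_3_2 lc_a_rc_2_2 lc_a_rc_4_2 lc_a_rc_3_2 lc_a_rc_6_2) (@D3.rec (fun _ => (Cert rels S Gen.a)) lc_a_rc_4_2 lc_a_rc_5_2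 lc_a_rc_3_2 lc_a_rc_8_2 lc_a_rc_2_2 lc_a_rc_3_2 lc_a_rc_6_2 lc_a_rc_6_2 lc_a_rc_1_0 lc_a_rc_4_2 lc_a_Cert_tree lc_a_rc_2_2 lc_a_rc_4_2 lc_a_rc_1_2 lc_a_rc_1_2 lc_a_rc_1_2 lc_a_rc_1_2 lc_a_rc_1_2 lc_a_rc_1_2 lc_a_rc_2_2 lc_a_rc_1_2 lc_a_rc_1_2 lc_a_rc_3_2 lc_a_rc_5_2 lc_a_rc_2_2 lc_a_rc_2_2 lc_a_rc_3_2 lc_a_rc_2_2 lc_a_rc_3_2 lc_a_rc_2_2 lc_a_rc_4_2 lc_a_rc_3_2) (@D3.rec (fun _ => (Cert rels S Gen.a)) lc_a_rc_6_2 lc_a_rc_4_2 lc_a_rc_5_2 lc_a_rc_6_2 lc_a_rc_3_2 lc_a_rc_8_2 lc_a_rc_2_2 lc_a_rc_3_2 lc_a_rc_3_2 lc_a_rc_5_2 lc_a_rc_5_2 lc_a_rc_8_2 lc_a_rc_2_2 lc_a_rc_3_2 lc_a_rc_2_2 lc_a_rc_2_2 lc_a_rc_4_2 lc_a_rc_3_2 lc_a_rc_4_2 lc_a_rc_3_2 lc_a_rc_6_2 lc_a_rc_4_2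 lc_a_rc_5_2 lc_a_rc_7_2 lc_a_rc_6_2 lc_a_rc_5_2 lc_a_rc_3_2 lc_a_rc_8_2 lc_a_rc_2_2 lc_a_rc_3_2 lc_a_Cert_tree lc_a_rc_2_2) (@D3.rec (fun _ => (Cert rels S Gen.a)) lc_a_rc_5_2 lc_a_rc_1_0 lc_a_rc_1_0 lc_a_Cert_tree lc_a_rc_1_0 lc_a_rc_5_2 lc_a_rc_0_0 lc_a_rc_8_2 lc_a_rc_2_2 lc_a_rc_2_2 lc_a_rc_1_2 lc_a_rc_1_2 lc_a_rc_1_2 lc_a_rc_1_2 lc_a_rc_1_2 lc_a_rc_1_2 lc_a_rc_1_2 lc_a_rc_1_2 lc_a_rc_2_2 lc_a_rc_1_2 lc_a_rc_1_2 lc_a_rc_2_2 lc_a_rc_2_2 lc_a_rc_1_2 lc_a_rc_1_2 lc_a_rc_1_2 lc_a_rc_3_2 lc_a_rc_5_2 lc_a_rc_5_2 lc_a_rc_8_2 lc_a_rc_2_2 lc_a_rc_3_2) (@D3.rec (fun _ => (Cert rels S Gen.a)) lc_a_rc_2_2 lc_a_rc_2_2 lc_a_rc_4_2 lc_a_rc_3_2 lc_a_rc_4_2 lc_a_rc_3_2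 lc_a_rc_6_2 lc_a_rc_4_2 lc_a_rc_5_2 lc_a_rc_7_2 lc_a_rc_6_2 lc_a_rc_5_2 lc_a_rc_8_2 lc_a_rc_2_2 lc_a_rc_3_2 lc_a_Cert_tree lc_a_rc_2_2 lc_a_rc_4_2 lc_a_rc_5_2 lc_a_rc_5_2 lc_a_rc_8_2 lc_a_rc_2_2 lc_a_rc_5_2 lc_a_rc_8_2 lc_a_rc_3_2 lc_a_rc_2_2 lc_a_rc_2_2 lc_a_rc_4_2 lc_a_rc_3_2 lc_a_Cert_tree lc_a_rc_2_2 lc_a_rc_2_2)
def ce_a_6 : D2 → D3 → (Cert rels S Gen.a) := @D2.rec (fun _ => D3 → (Cert rels S Gen.a)) (@D3.rec (fun _ => (Cert rels S Gen.a)) lc_a_rc_6_2 lc_a_rc_4_2 lc_a_rc_5_2 lc_a_rc_6_2 lc_a_rc_4_2 lc_a_rc_5_2 lc_a_rc_7_2 lc_a_rc_6_2 lc_a_rc_5_2 lc_a_rc_7_2 lc_a_rc_6_2 lc_a_rc_3_2 lc_a_Cert_tree lc_a_rc_2_2 lc_a_rc_0_0 lc_a_rc_8_2 lc_a_rc_0_0 lc_a_rc_8_2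 lc_a_rc_8_2 lc_a_rc_2_2 lc_a_rc_2_2 lc_a_rc_1_2 lc_a_rc_1_2 lc_a_rc_1_2 lc_a_rc_1_2 lc_a_rc_1_2 lc_a_rc_2_2 lc_a_rc_1_2 lc_a_rc_2_2 lc_a_rc_1_2 lc_a_rc_2_2 lc_a_rc_2_2) (@D3.rec (fun _ => (Cert rels S Gen.a)) lc_a_rc_1_2 lc_a_rc_4_2 lc_a_rc_5_2 lc_a_rc_5_2 lc_a_rc_8_2 lc_a_rc_2_2 lc_a_rc_5_2 lc_a_rc_8_2 lc_a_rc_2_2 lc_a_rc_4_2 lc_a_Cert_tree lc_a_rc_2_2 lc_a_Cert_tree lc_a_rc_0_0 lc_a_rc_5_2 lc_a_rc_8_2 lc_a_rc_2_2 lc_a_rc_5_2 lc_a_rc_8_2 lc_a_Cert_tree lc_a_rc_2_2 lc_a_rc_2_2 lc_a_rc_8_2 lc_a_rc_0_0 lc_a_rc_0_0 lc_a_rc_1_2 lc_a_rc_1_2 lc_a_rc_1_2 lc_a_rc_1_2 lc_a_rc_2_2 lc_a_rc_2_2 lc_a_rc_4_2) (@D3.rec (fun _ => (Cert rels S Gen.a)) lc_a_rc_3_2 lc_a_rc_5_2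 lc_a_rc_3_2 lc_a_rc_8_2 lc_a_rc_8_2 lc_a_rc_2_2 lc_a_rc_4_2 lc_a_rc_1_2 lc_a_rc_3_2 lc_a_rc_8_2 lc_a_rc_2_2 lc_a_rc_3_2 lc_a_rc_6_2 lc_a_rc_6_2 lc_a_rc_4_2 lc_a_Cert_tree lc_a_rc_2_2 lc_a_rc_4_2 lc_a_rc_1_2 lc_a_rc_1_2 lc_a_rc_1_2 lc_a_rc_1_2 lc_a_rc_1_2 lc_a_rc_1_2 lc_a_rc_2_2 lc_a_rc_1_2 lc_a_rc_1_2 lc_a_rc_5_2 lc_a_rc_2_2 lc_a_rc_3_2 lc_a_rc_2_2 lc_a_rc_2_2) (@D3.rec (fun _ => (Cert rels S Gen.a)) lc_a_rc_4_2 lc_a_rc_3_2 lc_a_rc_6_2 lc_a_rc_4_2 lc_a_rc_5_2 lc_a_rc_3_2 lc_a_rc_8_2 lc_a_rc_2_2 lc_a_rc_3_2 lc_a_rc_5_2 lc_a_rc_8_2 lc_a_rc_3_2 lc_a_rc_2_2 lc_a_rc_2_2 lc_a_rc_4_2 lc_a_rc_3_2 lc_a_rc_4_2 lc_a_rc_6_2 lc_a_rc_5_2 lc_a_rc_2_2 lc_a_rc_3_2 lc_a_Cert_tree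 lc_a_rc_2_2 lc_a_rc_5_2 lc_a_rc_5_2 lc_a_rc_0_0 lc_a_rc_8_2 lc_a_rc_2_2 lc_a_rc_2_2 lc_a_rc_1_2 lc_a_rc_1_2 lc_a_rc_1_2) (@D3.rec (fun _ => (Cert rels S Gen.a)) lc_a_rc_1_2 lc_a_rc_1_2 lc_a_rc_1_2 lc_a_rc_1_2 lc_a_rc_1_2 lc_a_rc_2_2 lc_a_rc_1_2 lc_a_rc_1_2 lc_a_rc_2_2 lc_a_rc_2_2 lc_a_rc_1_2 lc_a_rc_1_2 lc_a_rc_1_2 lc_a_rc_3_2 lc_a_rc_5_2 lc_a_rc_5_2 lc_a_rc_8_2 lc_a_rc_2_2 lc_a_rc_3_2 lc_a_rc_2_2 lc_a_rc_2_2 lc_a_rc_4_2 lc_a_rc_3_2 lc_a_rc_4_2 lc_a_rc_3_2 lc_a_rc_6_2 lc_a_rc_4_2 lc_a_rc_5_2 lc_a_rc_7_2 lc_a_rc_6_2 lc_a_rc_5_2 lc_a_rc_8_2) (@D3.rec (fun _ => (Cert rels S Gen.a)) lc_a_rc_2_2 lc_a_rc_3_2 lc_a_Cert_tree lc_a_rc_2_2 lc_a_rc_5_2 lc_a_rc_5_2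 lc_a_rc_5_2 lc_a_rc_8_2 lc_a_rc_2_2 lc_a_rc_5_2 lc_a_rc_8_2 lc_a_rc_3_2 lc_a_rc_2_2 lc_a_rc_2_2 lc_a_rc_4_2 lc_a_rc_3_2 lc_a_Cert_tree lc_a_rc_2_2 lc_a_rc_2_2 lc_a_rc_6_2 lc_a_rc_4_2 lc_a_rc_5_2 lc_a_rc_6_2 lc_a_rc_4_2 lc_a_rc_7_2 lc_a_rc_6_2 lc_a_rc_5_2 lc_a_rc_7_2 lc_a_rc_6_2 lc_a_rc_3_2 lc_a_rc_2_2 lc_a_rc_5_2) (@D3.rec (fun _ => (Cert rels S Gen.a)) lc_a_rc_0_0 lc_a_rc_8_2 lc_a_rc_2_2 lc_a_rc_8_2 lc_a_rc_5_2 lc_a_rc_2_2 lc_a_rc_46_14 lc_a_rc_1_2 lc_a_rc_1_2 lc_a_rc_1_2 lc_a_rc_1_2 lc_a_rc_6_0 lc_a_rc_1_2 lc_a_rc_2_2 lc_a_rc_1_2 lc_a_rc_1_2 lc_a_rc_2_2 lc_a_rc_2_2 lc_a_rc_1_2 lc_a_rc_1_2 lc_a_rc_1_2 lc_a_rc_5_2 lc_a_rc_8_2 lc_a_rc_3_2 lc_a_rc_2_2 lc_a_rc_2_2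 lc_a_rc_4_2 lc_a_rc_3_2 lc_a_rc_3_2 lc_a_rc_6_2 lc_a_rc_4_2 lc_a_rc_5_2) (@D3.rec (fun _ => (Cert rels S Gen.a)) lc_a_rc_7_2 lc_a_rc_6_2 lc_a_rc_5_2 lc_a_rc_4_2 lc_a_rc_2_2 lc_a_rc_2_2 lc_a_rc_8_2 lc_a_rc_3_2 lc_a_rc_2_2 lc_a_rc_2_2 lc_a_rc_6_2 lc_a_rc_4_2 lc_a_rc_5_2 lc_a_rc_6_2 lc_a_rc_7_2 lc_a_rc_6_2 lc_a_rc_3_2 lc_a_rc_2_2 lc_a_rc_2_2 lc_a_rc_1_2 lc_a_rc_1_2 lc_a_rc_1_2 lc_a_rc_1_2 lc_a_rc_1_2 lc_a_rc_1_2 lc_a_rc_2_2 lc_a_rc_1_2 lc_a_rc_1_2 lc_a_rc_2_2 lc_a_rc_1_2 lc_a_rc_1_2 lc_a_rc_2_2) (@D3.rec (fun _ => (Cert rels S Gen.a)) lc_a_rc_2_2 lc_a_rc_1_2 lc_a_rc_1_2 lc_a_rc_1_2 lc_a_rc_3_2 lc_a_rc_2_2 lc_a_rc_2_2 lc_a_rc_2_2 lc_a_rc_1_2 lc_a_rc_1_2 lc_a_rc_1_2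 lc_a_rc_4_2 lc_a_rc_5_2 lc_a_rc_5_2 lc_a_rc_8_2 lc_a_rc_2_2 lc_a_rc_5_2 lc_a_rc_8_2 lc_a_rc_4_2 lc_a_rc_3_2 lc_a_Cert_tree lc_a_rc_2_2 lc_a_rc_2_2 lc_a_rc_6_2 lc_a_rc_4_2 lc_a_rc_5_2 lc_a_rc_6_2 lc_a_rc_4_2 lc_a_rc_5_2 lc_a_rc_7_2 lc_a_rc_6_2 lc_a_rc_5_2) (@D3.rec (fun _ => (Cert rels S Gen.a)) lc_a_rc_7_2 lc_a_rc_6_2 lc_a_rc_3_2 lc_a_rc_0_0 lc_a_rc_8_2 lc_a_rc_5_2 lc_a_rc_8_2 lc_a_rc_5_2 lc_a_rc_8_2 lc_a_Cert_tree lc_a_rc_2_2 lc_a_rc_2_2 lc_a_rc_6_2 lc_a_rc_8_2 lc_a_rc_8_2 lc_a_rc_6_2 lc_a_rc_4_2 lc_a_rc_5_2 lc_a_rc_0_0 lc_a_rc_4_2 lc_a_rc_8_2 lc_a_rc_2_2 lc_a_rc_2_2 lc_a_rc_2_2 lc_a_rc_7_2 lc_a_rc_6_2 lc_a_rc_5_2 lc_a_rc_7_2 lc_a_rc_6_2 lc_a_rc_5_2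 lc_a_rc_7_2 lc_a_rc_6_2) (@D3.rec (fun _ => (Cert rels S Gen.a)) lc_a_rc_3_2 lc_a_rc_7_2 lc_a_rc_3_2 lc_a_rc_2_2 lc_a_rc_8_2 lc_a_rc_2_2 lc_a_rc_2_2 lc_a_rc_1_2 lc_a_rc_1_2 lc_a_rc_1_2 lc_a_rc_2_2 lc_a_rc_1_2 lc_a_rc_2_2 lc_a_rc_8_2 lc_a_rc_5_2 lc_a_rc_8_2 lc_a_rc_8_2 lc_a_rc_2_2 lc_a_rc_3_2 lc_a_rc_2_2 lc_a_rc_1_2 lc_a_rc_2_2 lc_a_rc_1_2 lc_a_Cert_tree lc_a_Cert_tree lc_a_rc_2_2 lc_a_rc_0_0 lc_a_rc_0_0 lc_a_rc_8_2 lc_a_Cert_tree lc_a_rc_2_2 lc_a_rc_2_2) (@D3.rec (fun _ => (Cert rels S Gen.a)) lc_a_rc_1_2 lc_a_rc_1_2 lc_a_rc_1_2 lc_a_rc_1_0 lc_a_rc_1_0 lc_a_rc_1_2 lc_a_rc_1_2 lc_a_rc_1_2 lc_a_rc_1_0 lc_a_rc_1_0 lc_a_rc_1_0 lc_a_rc_1_0 lc_a_rc_1_2 lc_a_rc_1_2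 lc_a_rc_1_2 lc_a_rc_1_0 lc_a_rc_1_0 lc_a_rc_1_0 lc_a_rc_1_0 lc_a_rc_1_0 lc_a_rc_1_0 lc_a_rc_1_0 lc_a_rc_1_2 lc_a_rc_1_2 lc_a_rc_1_2 lc_a_rc_0_0 lc_a_rc_4_2 lc_a_rc_8_2 lc_a_rc_2_2 lc_a_rc_2_2 lc_a_rc_2_2 lc_a_rc_7_2) (@D3.rec (fun _ => (Cert rels S Gen.a)) lc_a_rc_6_2 lc_a_rc_5_2 lc_a_rc_7_2 lc_a_rc_6_2 lc_a_rc_5_2 lc_a_rc_7_2 lc_a_rc_6_2 lc_a_rc_3_2 lc_a_rc_7_2 lc_a_rc_3_2 lc_a_rc_2_2 lc_a_rc_8_2 lc_a_rc_4_2 lc_a_rc_8_2 lc_a_rc_6_2 lc_a_rc_8_2 lc_a_rc_5_2 lc_a_rc_2_2 lc_a_rc_2_2 lc_a_rc_2_2 lc_a_rc_7_2 lc_a_rc_6_2 lc_a_rc_3_2 lc_a_rc_7_2 lc_a_rc_6_2 lc_a_rc_3_2 lc_a_rc_7_2 lc_a_rc_3_2 lc_a_rc_2_2 lc_a_rc_1_2 lc_a_rc_1_2 lc_a_rc_2_2) (@D3.rec (fun _ =>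 (Cert rels S Gen.a)) lc_a_rc_2_2 lc_a_rc_2_2 lc_a_rc_2_2 lc_a_rc_1_2 lc_a_rc_1_2 lc_a_rc_1_2 lc_a_rc_5_2 lc_a_rc_3_2 lc_a_rc_2_2 lc_a_rc_2_2 lc_a_rc_1_2 lc_a_rc_1_2 lc_a_rc_1_2 lc_a_rc_2_2 lc_a_rc_1_2 lc_a_rc_2_2 lc_a_rc_1_2 lc_a_rc_2_2 lc_a_rc_2_2 lc_a_rc_1_2 lc_a_rc_1_2 lc_a_rc_1_2 lc_a_rc_3_2 lc_a_rc_2_2 lc_a_rc_2_2 lc_a_rc_2_2 lc_a_rc_1_2 lc_a_rc_1_2 lc_a_rc_1_2 lc_a_rc_5_2 lc_a_rc_6_2 lc_a_rc_6_2) (@D3.rec (fun _ => (Cert rels S Gen.a)) lc_a_rc_7_2 lc_a_rc_6_2 lc_a_rc_5_2 lc_a_rc_7_2 lc_a_rc_6_2 lc_a_rc_3_2 lc_a_rc_6_2 lc_a_rc_7_2 lc_a_rc_7_2 lc_a_rc_7_2 lc_a_rc_6_2 lc_a_rc_7_2 lc_a_rc_3_2 lc_a_rc_2_2 lc_a_rc_0_1 lc_a_rc_8_2 lc_a_rc_46_42 lc_a_rc_0_1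 lc_a_rc_3_2 lc_a_rc_2_2 lc_a_rc_2_2 lc_a_rc_2_2 lc_a_rc_1_2 lc_a_rc_4_2 lc_a_rc_1_2 lc_a_rc_7_2 lc_a_rc_6_2 lc_a_rc_3_2 lc_a_rc_7_2 lc_a_rc_3_2 lc_a_rc_2_2 lc_a_rc_2_2) (@D3.rec (fun _ => (Cert rels S Gen.a)) lc_a_rc_3_2 lc_a_rc_2_2 lc_a_rc_5_2 lc_a_rc_2_2 lc_a_rc_1_2 lc_a_rc_5_2 lc_a_rc_2_2 lc_a_rc_1_2 lc_a_rc_2_2 lc_a_rc_1_2 lc_a_rc_3_2 lc_a_rc_2_2 lc_a_rc_2_2 lc_a_rc_2_2 lc_a_rc_1_2 lc_a_rc_1_2 lc_a_rc_1_2 lc_a_rc_3_2 lc_a_rc_5_2 lc_a_rc_3_2 lc_a_rc_2_2 lc_a_rc_2_2 lc_a_rc_2_2 lc_a_rc_3_2 lc_a_rc_1_2 lc_a_rc_1_2 lc_a_rc_3_2 lc_a_rc_6_2 lc_a_rc_8_2 lc_a_rc_7_2 lc_a_rc_7_2 lc_a_rc_7_2) (@D3.rec (fun _ => (Cert rels S Gen.a)) lc_a_rc_6_2 lc_a_rc_3_2 lc_a_rc_7_2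 lc_a_rc_3_2 lc_a_rc_2_2 lc_a_rc_7_2 lc_a_rc_8_2 lc_a_rc_7_2 lc_a_rc_3_2 lc_a_rc_2_2 lc_a_rc_2_2 lc_a_rc_3_2 lc_a_rc_2_2 lc_a_rc_1_2 lc_a_rc_2_2 lc_a_rc_1_2 lc_a_rc_1_2 lc_a_rc_2_2 lc_a_rc_6_2 lc_a_rc_8_2 lc_a_rc_8_2 lc_a_rc_2_2 lc_a_rc_2_2 lc_a_rc_3_2 lc_a_rc_2_2 lc_a_rc_4_2 lc_a_rc_3_2 lc_a_rc_1_2 lc_a_rc_1_2 lc_a_rc_8_2 lc_a_rc_1_0 lc_a_rc_1_0) (@D3.rec (fun _ => (Cert rels S Gen.a)) lc_a_rc_2_2 lc_a_rc_2_2 lc_a_rc_1_2 lc_a_rc_1_2 lc_a_rc_1_2 lc_a_rc_1_0 lc_a_rc_1_0 lc_a_rc_1_0 lc_a_rc_1_0 lc_a_rc_1_0 lc_a_rc_1_0 lc_a_rc_1_0 lc_a_rc_1_2 lc_a_rc_1_2 lc_a_rc_1_2 lc_a_rc_1_0 lc_a_rc_1_0 lc_a_rc_1_0 lc_a_rc_1_0 lc_a_rc_8_2 lc_a_rc_5_2 lc_a_rc_1_0 lc_a_rc_1_0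 lc_a_rc_3_2 lc_a_rc_4_2 lc_a_rc_1_2 lc_a_rc_1_2 lc_a_rc_2_2 lc_a_rc_7_2 lc_a_rc_6_2 lc_a_rc_3_2 lc_a_rc_7_2) (@D3.rec (fun _ => (Cert rels S Gen.a)) lc_a_rc_3_2 lc_a_rc_2_2 lc_a_rc_3_0 lc_a_rc_7_2 lc_a_rc_3_2 lc_a_rc_2_2 lc_a_rc_2_0 lc_a_rc_2_0 lc_a_rc_8_2 lc_a_rc_5_2 lc_a_rc_8_2 lc_a_rc_2_2 lc_a_rc_2_2 lc_a_rc_2_2 lc_a_rc_1_2 lc_a_rc_1_2 lc_a_rc_1_2 lc_a_rc_2_2 lc_a_rc_1_2 lc_a_rc_1_2 lc_a_rc_2_2 lc_a_rc_2_2 lc_a_rc_1_2 lc_a_rc_1_2 lc_a_rc_1_2 lc_a_rc_5_2 lc_a_rc_8_2 lc_a_rc_2_2 lc_a_rc_4_2 lc_a_rc_3_2 lc_a_rc_6_2 lc_a_rc_4_2) (@D3.rec (fun _ => (Cert rels S Gen.a)) lc_a_rc_5_2 lc_a_rc_7_2 lc_a_rc_6_2 lc_a_rc_5_2 lc_a_rc_3_0 lc_a_rc_2_2 lc_a_rc_5_2 lc_a_rc_2_2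 lc_a_rc_5_2 lc_a_rc_8_2 lc_a_rc_2_2 lc_a_rc_2_2 lc_a_rc_6_2 lc_a_rc_4_2 lc_a_rc_5_2 lc_a_rc_7_2 lc_a_rc_6_2 lc_a_rc_5_2 lc_a_rc_7_2 lc_a_rc_6_2 lc_a_rc_3_2 lc_a_rc_2_2 lc_a_rc_2_2 lc_a_rc_1_2 lc_a_rc_1_2 lc_a_rc_2_2 lc_a_rc_1_2 lc_a_rc_1_2 lc_a_rc_2_2 lc_a_rc_2_2 lc_a_rc_1_2 lc_a_rc_1_2) (@D3.rec (fun _ => (Cert rels S Gen.a)) lc_a_rc_1_2 lc_a_rc_3_2 lc_a_rc_2_2 lc_a_rc_2_2 lc_a_rc_2_2 lc_a_rc_1_2 lc_a_rc_1_2 lc_a_rc_1_2 lc_a_rc_5_2 lc_a_rc_8_2 lc_a_rc_6_2 lc_a_rc_4_2 lc_a_rc_5_2 lc_a_rc_7_2 lc_a_rc_6_2 lc_a_rc_5_2 lc_a_rc_7_2 lc_a_rc_6_2 lc_a_rc_3_2 lc_a_rc_6_2 lc_a_rc_8_2 lc_a_rc_8_2 lc_a_rc_7_2 lc_a_rc_6_2 lc_a_rc_5_2 lc_a_rc_7_2 lc_a_rc_6_2 lc_a_rc_3_2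 lc_a_rc_7_2 lc_a_rc_3_2 lc_a_rc_2_2 lc_a_rc_3_2) (@D3.rec (fun _ => (Cert rels S Gen.a)) lc_a_rc_2_2 lc_a_rc_1_0 lc_a_rc_1_0 lc_a_rc_1_0 lc_a_rc_1_0 lc_a_rc_1_2 lc_a_rc_1_2 lc_a_rc_1_2 lc_a_rc_1_0 lc_a_rc_1_0 lc_a_rc_1_0 lc_a_rc_1_0 lc_a_rc_1_0 lc_a_rc_1_0 lc_a_rc_1_0 lc_a_rc_1_2 lc_a_rc_1_2 lc_a_rc_1_2 lc_a_rc_7_2 lc_a_rc_6_2 lc_a_rc_3_2 lc_a_rc_7_2 lc_a_rc_3_2 lc_a_rc_2_2 lc_a_rc_7_2 lc_a_rc_3_2 lc_a_rc_2_2 lc_a_rc_3_2 lc_a_rc_2_2 lc_a_rc_4_2 lc_a_Cert_tree lc_a_rc_1_2)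
def ce_a_7 : D2 → D3 → (Cert rels S Gen.a) := @D2.rec (fun _ => D3 → (Cert rels S Gen.a)) (@D3.rec (fun _ => (Cert rels S Gen.a)) lc_a_rc_1_2 lc_a_rc_1_2 lc_a_rc_1_2 lc_a_rc_1_2 lc_a_rc_1_2 lc_a_rc_2_2 lc_a_rc_3_2 lc_a_rc_2_2 lc_a_rc_4_2 lc_a_rc_3_2 lc_a_rc_6_2 lc_a_rc_4_2 lc_a_rc_5_2 lc_a_rc_3_2 lc_a_rc_8_2 lc_a_rc_2_2 lc_a_rc_3_2 lc_a_rc_3_2 lc_a_rc_6_2 lc_a_rc_4_2 lc_a_rc_5_2 lc_a_rc_7_2 lc_a_rc_6_2 lc_a_rc_5_2 lc_a_rc_3_2 lc_a_Cert_tree lc_a_rc_2_2 lc_a_rc_5_2 lc_a_rc_2_2 lc_a_rc_2_2 lc_a_rc_6_2 lc_a_Cert_tree) (@D3.rec (fun _ => (Cert rels S Gen.a)) lc_a_rc_1_0 lc_a_rc_5_2 lc_a_rc_0_0 lc_a_rc_8_2 lc_a_rc_2_2 lc_a_rc_2_2 lc_a_rc_1_2 lc_a_rc_1_2 lc_a_rc_1_2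 lc_a_rc_1_2 lc_a_rc_1_2 lc_a_rc_1_2 lc_a_rc_1_2 lc_a_rc_1_2 lc_a_rc_2_2 lc_a_rc_1_2 lc_a_rc_1_2 lc_a_rc_2_2 lc_a_rc_2_2 lc_a_rc_1_2 lc_a_rc_1_2 lc_a_rc_1_2 lc_a_rc_3_2 lc_a_rc_5_2 lc_a_rc_5_2 lc_a_rc_8_2 lc_a_rc_2_2 lc_a_rc_3_2 lc_a_rc_2_2 lc_a_rc_2_2 lc_a_rc_4_2 lc_a_rc_3_2) (@D3.rec (fun _ => (Cert rels S Gen.a)) lc_a_rc_4_2 lc_a_rc_3_2 lc_a_rc_6_2 lc_a_rc_4_2 lc_a_rc_5_2 lc_a_rc_7_2 lc_a_rc_6_2 lc_a_rc_5_2 lc_a_rc_3_2 lc_a_rc_8_2 lc_a_rc_2_2 lc_a_rc_3_2 lc_a_Cert_tree lc_a_rc_2_2 lc_a_rc_5_2 lc_a_rc_5_2 lc_a_rc_5_2 lc_a_rc_8_2 lc_a_rc_2_2 lc_a_rc_5_2 lc_a_rc_8_2 lc_a_rc_3_2 lc_a_rc_2_2 lc_a_rc_2_2 lc_a_rc_4_2 lc_a_rc_3_2 lc_a_Cert_tree lc_a_rc_2_2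 lc_a_rc_2_2 lc_a_rc_6_2 lc_a_rc_4_2 lc_a_rc_5_2) (@D3.rec (fun _ => (Cert rels S Gen.a)) lc_a_rc_4_2 lc_a_rc_5_2 lc_a_rc_7_2 lc_a_rc_6_2 lc_a_rc_5_2 lc_a_rc_7_2 lc_a_rc_6_2 lc_a_rc_3_2 lc_a_rc_2_2 lc_a_rc_4_2 lc_a_rc_3_2 lc_a_Cert_tree lc_a_rc_2_2 lc_a_rc_5_2 lc_a_rc_0_0 lc_a_rc_8_2 lc_a_rc_2_2 lc_a_rc_1_0 lc_a_rc_1_0 lc_a_rc_0_0 lc_a_rc_8_2 lc_a_rc_1_0 lc_a_rc_8_2 lc_a_rc_5_2 lc_a_rc_2_2 lc_a_rc_2_2 lc_a_rc_1_2 lc_a_rc_1_2 lc_a_rc_1_2 lc_a_rc_1_2 lc_a_rc_1_2 lc_a_rc_1_2) (@D3.rec (fun _ => (Cert rels S Gen.a)) lc_a_rc_1_2 lc_a_rc_2_2 lc_a_rc_1_2 lc_a_rc_1_2 lc_a_rc_2_2 lc_a_rc_1_2 lc_a_rc_1_2 lc_a_rc_2_2 lc_a_rc_2_2 lc_a_rc_1_2 lc_a_rc_1_2 lc_a_rc_1_2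 lc_a_rc_3_2 lc_a_rc_2_2 lc_a_rc_2_2 lc_a_rc_2_2 lc_a_rc_1_2 lc_a_rc_1_2 lc_a_rc_1_2 lc_a_rc_4_2 lc_a_rc_5_2 lc_a_rc_5_2 lc_a_rc_8_2 lc_a_rc_2_2 lc_a_rc_5_2 lc_a_rc_8_2 lc_a_rc_3_2 lc_a_rc_2_2 lc_a_rc_2_2 lc_a_rc_4_2 lc_a_rc_3_2 lc_a_Cert_tree) (@D3.rec (fun _ => (Cert rels S Gen.a)) lc_a_rc_2_2 lc_a_rc_2_2 lc_a_rc_6_2 lc_a_rc_4_2 lc_a_rc_5_2 lc_a_rc_6_2 lc_a_rc_4_2 lc_a_rc_5_2 lc_a_rc_7_2 lc_a_rc_6_2 lc_a_rc_5_2 lc_a_rc_7_2 lc_a_rc_6_2 lc_a_rc_3_2 lc_a_Cert_tree lc_a_rc_2_2 lc_a_rc_0_0 lc_a_rc_8_2 lc_a_rc_5_2 lc_a_rc_5_2 lc_a_rc_8_2 lc_a_rc_2_2 lc_a_rc_5_2 lc_a_rc_8_2 lc_a_Cert_tree lc_a_rc_2_2 lc_a_rc_2_2 lc_a_rc_6_2 lc_a_rc_8_2 lc_a_rc_8_2 lc_a_rc_4_2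 lc_a_rc_3_2) (@D3.rec (fun _ => (Cert rels S Gen.a)) lc_a_Cert_tree lc_a_rc_2_2 lc_a_rc_2_2 lc_a_rc_6_2 lc_a_rc_4_2 lc_a_rc_5_2 lc_a_rc_0_0 lc_a_rc_4_2 lc_a_rc_8_2 lc_a_rc_2_2 lc_a_rc_2_2 lc_a_rc_2_2 lc_a_rc_7_2 lc_a_rc_6_2 lc_a_rc_5_2 lc_a_rc_7_2 lc_a_rc_6_2 lc_a_rc_5_2 lc_a_rc_7_2 lc_a_rc_6_2 lc_a_rc_3_2 lc_a_rc_7_2 lc_a_rc_3_2 lc_a_rc_2_2 lc_a_rc_0_0 lc_a_rc_8_2 lc_a_rc_8_2 lc_a_rc_8_2 lc_a_rc_2_2 lc_a_rc_2_2 lc_a_rc_3_2 lc_a_rc_2_2) (@D3.rec (fun _ => (Cert rels S Gen.a)) lc_a_rc_1_2 lc_a_rc_1_2 lc_a_rc_1_2 lc_a_rc_1_2 lc_a_rc_2_2 lc_a_rc_1_2 lc_a_rc_1_2 lc_a_rc_2_2 lc_a_rc_1_2 lc_a_Cert_tree lc_a_rc_2_2 lc_a_rc_2_2 lc_a_rc_3_2 lc_a_rc_2_2 lc_a_rc_5_2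 lc_a_rc_8_2 lc_a_rc_2_2 lc_a_rc_5_2 lc_a_rc_8_2 lc_a_Cert_tree lc_a_rc_2_2 lc_a_rc_2_2 lc_a_rc_8_2 lc_a_rc_46_35 lc_a_rc_0_0 lc_a_rc_3_0 lc_a_rc_0_0 lc_a_rc_8_2 lc_a_rc_2_2 lc_a_rc_8_2 lc_a_rc_0_0 lc_a_rc_8_2) (@D3.rec (fun _ => (Cert rels S Gen.a)) lc_a_rc_2_2 lc_a_rc_1_2 lc_a_rc_1_2 lc_a_rc_1_2 lc_a_rc_1_2 lc_a_rc_1_2 lc_a_rc_2_2 lc_a_rc_4_2 lc_a_rc_3_2 lc_a_rc_8_2 lc_a_rc_2_2 lc_a_rc_3_2 lc_a_rc_1_2 lc_a_rc_1_2 lc_a_rc_2_2 lc_a_rc_3_2 lc_a_Cert_tree lc_a_rc_2_2 lc_a_rc_5_2 lc_a_rc_6_2 lc_a_rc_5_2 lc_a_rc_0_0 lc_a_rc_8_2 lc_a_rc_2_2 lc_a_rc_2_2 lc_a_rc_1_2 lc_a_rc_1_2 lc_a_rc_1_2 lc_a_rc_1_2 lc_a_rc_1_2 lc_a_rc_2_2 lc_a_rc_1_2) (@D3.rec (fun _ => (Cert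 rels S Gen.a)) lc_a_rc_1_2 lc_a_rc_2_2 lc_a_rc_2_2 lc_a_rc_1_2 lc_a_rc_1_2 lc_a_rc_1_2 lc_a_rc_5_2 lc_a_rc_8_2 lc_a_rc_3_2 lc_a_rc_2_2 lc_a_rc_2_2 lc_a_rc_4_2 lc_a_rc_3_2 lc_a_rc_4_2 lc_a_rc_6_2 lc_a_rc_5_2 lc_a_rc_2_2 lc_a_rc_3_2 lc_a_Cert_tree lc_a_rc_2_2 lc_a_rc_5_2 lc_a_rc_8_2 lc_a_rc_2_2 lc_a_rc_3_2 lc_a_Cert_tree lc_a_rc_2_2 lc_a_rc_4_2 lc_a_rc_5_2 lc_a_rc_6_2 lc_a_rc_3_2 lc_a_rc_2_2 lc_a_rc_5_2) (@D3.rec (fun _ => (Cert rels S Gen.a)) lc_a_rc_0_0 lc_a_rc_8_2 lc_a_rc_2_2 lc_a_rc_8_2 lc_a_rc_5_2 lc_a_rc_2_2 lc_a_rc_2_2 lc_a_rc_1_2 lc_a_rc_1_2 lc_a_rc_1_2 lc_a_rc_1_2 lc_a_rc_2_0 lc_a_rc_1_2 lc_a_rc_1_2 lc_a_rc_2_2 lc_a_rc_1_2 lc_a_rc_1_2 lc_a_rc_2_2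 lc_a_rc_1_2 lc_a_rc_1_2 lc_a_rc_2_2 lc_a_rc_2_2 lc_a_rc_1_2 lc_a_rc_1_2 lc_a_rc_1_2 lc_a_rc_3_2 lc_a_rc_2_2 lc_a_rc_2_2 lc_a_rc_2_2 lc_a_rc_1_2 lc_a_rc_1_2 lc_a_rc_1_2) (@D3.rec (fun _ => (Cert rels S Gen.a)) lc_a_rc_5_2 lc_a_rc_5_2 lc_a_rc_8_2 lc_a_rc_2_2 lc_a_rc_5_2 lc_a_rc_8_2 lc_a_rc_3_2 lc_a_rc_2_2 lc_a_rc_2_2 lc_a_rc_4_2 lc_a_rc_3_2 lc_a_Cert_tree lc_a_rc_2_2 lc_a_rc_2_2 lc_a_rc_6_2 lc_a_rc_4_2 lc_a_rc_5_2 lc_a_rc_6_2 lc_a_rc_4_2 lc_a_rc_7_2 lc_a_rc_6_2 lc_a_rc_5_2 lc_a_rc_7_2 lc_a_rc_6_2 lc_a_rc_3_2 lc_a_rc_4_0 lc_a_rc_2_2 lc_a_rc_5_2 lc_a_rc_0_0 lc_a_rc_8_2 lc_a_rc_2_2 lc_a_rc_5_2) (@D3.rec (fun _ => (Cert rels S Gen.a)) lc_a_rc_8_2 lc_a_rc_2_2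 lc_a_rc_8_2 lc_a_Cert_tree lc_a_rc_2_2 lc_a_rc_2_2 lc_a_rc_6_2 lc_a_rc_8_2 lc_a_rc_8_2 lc_a_rc_4_2 lc_a_rc_3_2 lc_a_rc_2_2 lc_a_rc_2_2 lc_a_rc_6_2 lc_a_rc_4_2 lc_a_rc_5_2 lc_a_rc_0_0 lc_a_rc_4_2 lc_a_rc_8_2 lc_a_rc_2_2 lc_a_rc_2_2 lc_a_rc_2_2 lc_a_rc_7_2 lc_a_rc_6_2 lc_a_rc_5_2 lc_a_rc_7_2 lc_a_rc_6_2 lc_a_rc_7_2 lc_a_rc_6_2 lc_a_rc_3_2 lc_a_rc_7_2 lc_a_rc_3_2) (@D3.rec (fun _ => (Cert rels S Gen.a)) lc_a_rc_2_2 lc_a_rc_2_2 lc_a_rc_8_2 lc_a_rc_5_2 lc_a_rc_3_2 lc_a_rc_5_2 lc_a_rc_0_0 lc_a_rc_2_2 lc_a_rc_1_2 lc_a_rc_1_2 lc_a_rc_1_2 lc_a_rc_1_2 lc_a_rc_2_2 lc_a_rc_1_2 lc_a_rc_1_2 lc_a_rc_46_42 lc_a_rc_8_2 lc_a_rc_2_2 lc_a_rc_2_2 lc_a_rc_5_2 lc_a_rc_1_2 lc_a_rc_5_2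 lc_a_rc_3_2 lc_a_rc_2_2 lc_a_rc_2_2 lc_a_rc_2_2 lc_a_rc_1_2 lc_a_rc_1_2 lc_a_rc_1_2 lc_a_rc_2_2 lc_a_rc_8_2 lc_a_rc_3_2) (@D3.rec (fun _ => (Cert rels S Gen.a)) lc_a_rc_2_0 lc_a_rc_2_2 lc_a_rc_2_2 lc_a_rc_6_2 lc_a_rc_4_2 lc_a_rc_5_2 lc_a_rc_6_2 lc_a_rc_7_2 lc_a_rc_6_2 lc_a_rc_3_2 lc_a_rc_2_2 lc_a_rc_2_2 lc_a_rc_8_2 lc_a_rc_5_2 lc_a_rc_2_2 lc_a_rc_2_2 lc_a_rc_2_2 lc_a_rc_6_2 lc_a_rc_5_2 lc_a_rc_7_2 lc_a_rc_3_2 lc_a_rc_2_2 lc_a_rc_2_2 lc_a_rc_2_2 lc_a_rc_3_2 lc_a_rc_2_2 lc_a_rc_4_2 lc_a_rc_1_2 lc_a_rc_1_2 lc_a_rc_1_2 lc_a_rc_2_2 lc_a_rc_1_2) (@D3.rec (fun _ => (Cert rels S Gen.a)) lc_a_rc_1_2 lc_a_rc_2_2 lc_a_rc_1_2 lc_a_rc_1_2 lc_a_Cert_tree lc_a_rc_2_2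 lc_a_rc_2_2 lc_a_rc_1_2 lc_a_rc_1_2 lc_a_rc_1_2 lc_a_rc_2_2 lc_a_rc_2_2 lc_a_rc_1_2 lc_a_rc_1_2 lc_a_rc_5_2 lc_a_rc_3_2 lc_a_rc_2_2 lc_a_rc_2_2 lc_a_rc_2_2 lc_a_rc_1_2 lc_a_rc_1_2 lc_a_rc_1_2 lc_a_rc_3_2 lc_a_rc_5_2 lc_a_rc_3_2 lc_a_rc_2_2 lc_a_rc_2_2 lc_a_rc_2_2 lc_a_rc_3_2 lc_a_rc_1_2 lc_a_rc_1_2 lc_a_rc_3_2) (@D3.rec (fun _ => (Cert rels S Gen.a)) lc_a_rc_5_2 lc_a_rc_8_2 lc_a_rc_5_2 lc_a_rc_8_2 lc_a_Cert_tree lc_a_rc_2_2 lc_a_rc_2_2 lc_a_rc_6_2 lc_a_rc_8_2 lc_a_rc_8_2 lc_a_rc_6_2 lc_a_rc_4_2 lc_a_rc_5_2 lc_a_rc_0_0 lc_a_rc_4_2 lc_a_rc_8_2 lc_a_rc_2_2 lc_a_rc_2_2 lc_a_rc_2_2 lc_a_rc_7_2 lc_a_rc_6_2 lc_a_rc_5_2 lc_a_rc_7_2 lc_a_rc_6_2 lc_a_rc_5_2 lc_a_rc_7_2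 lc_a_rc_6_2 lc_a_rc_3_2 lc_a_rc_7_2 lc_a_rc_3_2 lc_a_rc_2_2 lc_a_rc_8_2) (@D3.rec (fun _ => (Cert rels S Gen.a)) lc_a_rc_6_2 lc_a_rc_8_2 lc_a_rc_0_0 lc_a_rc_4_2 lc_a_rc_8_2 lc_a_rc_2_2 lc_a_rc_2_2 lc_a_rc_2_2 lc_a_rc_7_2 lc_a_rc_8_2 lc_a_rc_8_2 lc_a_rc_7_2 lc_a_rc_6_2 lc_a_rc_5_2 lc_a_rc_4_2 lc_a_rc_8_2 lc_a_rc_6_2 lc_a_rc_8_2 lc_a_rc_5_2 lc_a_rc_2_2 lc_a_rc_2_2 lc_a_rc_2_2 lc_a_rc_7_2 lc_a_rc_6_2 lc_a_rc_3_2 lc_a_rc_7_2 lc_a_rc_6_2 lc_a_rc_7_2 lc_a_rc_3_2 lc_a_rc_2_2 lc_a_rc_2_2 lc_a_rc_3_2) (@D3.rec (fun _ => (Cert rels S Gen.a)) lc_a_rc_2_2 lc_a_rc_1_2 lc_a_rc_2_2 lc_a_rc_1_2 lc_a_rc_1_2 lc_a_rc_2_2 lc_a_rc_8_2 lc_a_rc_3_2 lc_a_rc_2_2 lc_a_rc_3_2 lc_a_rc_4_2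 lc_a_rc_3_2 lc_a_Cert_tree lc_a_rc_2_2 lc_a_rc_0_0 lc_a_rc_0_0 lc_a_rc_8_2 lc_a_rc_8_2 lc_a_rc_0_0 lc_a_rc_4_2 lc_a_rc_8_2 lc_a_rc_2_2 lc_a_rc_2_2 lc_a_rc_2_2 lc_a_rc_2_2 lc_a_rc_1_2 lc_a_rc_1_2 lc_a_rc_1_2 lc_a_rc_1_0 lc_a_rc_1_0 lc_a_rc_1_0 lc_a_rc_2_2) (@D3.rec (fun _ => (Cert rels S Gen.a)) lc_a_rc_1_2 lc_a_rc_1_2 lc_a_rc_1_2 lc_a_rc_1_0 lc_a_rc_1_0 lc_a_rc_1_0 lc_a_rc_1_0 lc_a_rc_1_0 lc_a_rc_1_0 lc_a_rc_1_0 lc_a_rc_1_2 lc_a_rc_1_2 lc_a_rc_1_2 lc_a_rc_1_0 lc_a_rc_1_0 lc_a_rc_1_0 lc_a_rc_1_0 lc_a_rc_8_2 lc_a_rc_5_2 lc_a_rc_1_0 lc_a_rc_1_0 lc_a_rc_3_2 lc_a_rc_4_2 lc_a_rc_1_2 lc_a_rc_1_2 lc_a_rc_2_2 lc_a_rc_4_2 lc_a_rc_8_2 lc_a_rc_6_2 lc_a_rc_8_2 lc_a_rc_5_2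 lc_a_rc_2_2) (@D3.rec (fun _ => (Cert rels S Gen.a)) lc_a_rc_2_2 lc_a_rc_2_2 lc_a_rc_7_2 lc_a_rc_6_2 lc_a_rc_3_2 lc_a_rc_7_2 lc_a_rc_6_2 lc_a_rc_3_2 lc_a_rc_7_2 lc_a_rc_3_2 lc_a_rc_2_2 lc_a_rc_4_0 lc_a_rc_6_2 lc_a_rc_8_2 lc_a_rc_5_2 lc_a_rc_7_2 lc_a_rc_8_2 lc_a_rc_5_2 lc_a_rc_2_2 lc_a_rc_2_2 lc_a_rc_3_2 lc_a_rc_7_2 lc_a_rc_3_2 lc_a_rc_2_2 lc_a_rc_7_2 lc_a_rc_3_2 lc_a_rc_2_2 lc_a_rc_1_2 lc_a_rc_3_2 lc_a_rc_2_2 lc_a_rc_2_2 lc_a_rc_2_2) (@D3.rec (fun _ => (Cert rels S Gen.a)) lc_a_rc_1_2 lc_a_rc_3_2 lc_a_rc_2_2 lc_a_rc_3_2 lc_a_rc_2_2 lc_a_rc_2_2 lc_a_rc_1_2 lc_a_rc_2_2 lc_a_rc_1_2 lc_a_rc_2_2 lc_a_rc_1_2 lc_a_rc_3_2 lc_a_rc_2_2 lc_a_rc_2_2 lc_a_rc_2_2 lc_a_rc_1_2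 lc_a_rc_1_2 lc_a_rc_1_2 lc_a_rc_3_2 lc_a_rc_5_2 lc_a_rc_3_2 lc_a_rc_2_2 lc_a_rc_2_2 lc_a_rc_2_2 lc_a_rc_3_2 lc_a_rc_1_2 lc_a_rc_1_2 lc_a_rc_3_2 lc_a_rc_6_2 lc_a_rc_7_2 lc_a_rc_7_2 lc_a_rc_7_2)
def ce_a_8 : D2 → D3 → (Cert rels S Gen.a) := @D2.rec (fun _ => D3 → (Cert rels S Gen.a)) (@D3.rec (fun _ => (Cert rels S Gen.a)) lc_a_rc_6_2 lc_a_rc_7_2 lc_a_rc_3_2 lc_a_rc_2_2 lc_a_rc_7_2 lc_a_rc_7_2 lc_a_rc_2_2 lc_a_rc_2_2 lc_a_rc_2_2 lc_a_rc_2_2 lc_a_rc_3_2 lc_a_rc_4_2 lc_a_rc_3_2 lc_a_rc_5_0 lc_a_rc_3_0 lc_a_rc_7_2 lc_a_rc_4_2 lc_a_rc_1_2 lc_a_rc_4_2 lc_a_rc_2_2 lc_a_rc_7_2 lc_a_rc_3_2 lc_a_rc_2_2 lc_a_rc_3_2 lc_a_rc_5_2 lc_a_rc_3_2 lc_a_rc_4_2 lc_a_rc_3_2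 lc_a_rc_2_2 lc_a_rc_46_56 lc_a_rc_1_2 lc_a_rc_5_2) (@D3.rec (fun _ => (Cert rels S Gen.a)) lc_a_rc_3_2 lc_a_rc_2_2 lc_a_rc_1_2 lc_a_rc_3_2 lc_a_rc_2_2 lc_a_rc_1_2 lc_a_rc_3_2 lc_a_rc_5_2 lc_a_rc_3_2 lc_a_rc_2_2 lc_a_rc_2_2 lc_a_rc_2_2 lc_a_rc_3_2 lc_a_rc_1_2 lc_a_rc_1_2 lc_a_rc_1_2 lc_a_rc_4_2 lc_a_rc_3_2 lc_a_rc_5_2 lc_a_rc_3_2 lc_a_rc_3_0 lc_a_rc_4_0 lc_a_rc_2_2 lc_a_rc_2_2 lc_a_rc_3_2 lc_a_rc_5_0 lc_a_rc_1_2 lc_a_rc_3_2 lc_a_rc_2_2 lc_a_rc_7_2 lc_a_rc_8_2 lc_a_rc_7_2) (@D3.rec (fun _ => (Cert rels S Gen.a)) lc_a_rc_3_2 lc_a_rc_2_2 lc_a_rc_2_0 lc_a_rc_8_2 lc_a_rc_3_2 lc_a_rc_2_2 lc_a_rc_3_2 lc_a_rc_4_2 lc_a_rc_3_2 lc_a_rc_2_2 lc_a_rc_1_2 lc_a_rc_8_2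 lc_a_rc_2_2 lc_a_rc_4_2 lc_a_rc_3_2 lc_a_rc_6_2 lc_a_rc_4_2 lc_a_rc_5_2 lc_a_rc_1_2 lc_a_rc_1_0 lc_a_rc_1_0 lc_a_rc_3_2 lc_a_rc_1_0 lc_a_rc_2_2 lc_a_rc_2_2 lc_a_rc_3_2 lc_a_rc_1_2 lc_a_rc_1_2 lc_a_rc_1_2 lc_a_rc_1_0 lc_a_rc_1_0 lc_a_rc_1_0) (@D3.rec (fun _ => (Cert rels S Gen.a)) lc_a_rc_1_0 lc_a_rc_1_0 lc_a_rc_1_0 lc_a_rc_1_0 lc_a_rc_1_0 lc_a_rc_1_0 lc_a_rc_1_0 lc_a_rc_1_2 lc_a_rc_1_2 lc_a_rc_2_2 lc_a_rc_1_0 lc_a_rc_1_0 lc_a_rc_8_2 lc_a_rc_5_2 lc_a_rc_8_2 lc_a_rc_1_0 lc_a_rc_3_2 lc_a_rc_7_2 lc_a_rc_3_2 lc_a_rc_2_2 lc_a_rc_46_28 lc_a_rc_5_2 lc_a_rc_8_2 lc_a_rc_2_2 lc_a_rc_1_2 lc_a_rc_1_2 lc_a_rc_2_2 lc_a_rc_1_2 lc_a_rc_1_2 lc_a_rc_2_2 lc_a_rc_2_2 lc_a_rc_1_2)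 (@D3.rec (fun _ => (Cert rels S Gen.a)) lc_a_rc_1_2 lc_a_rc_1_2 lc_a_rc_3_2 lc_a_rc_2_2 lc_a_rc_2_2 lc_a_rc_2_2 lc_a_rc_1_2 lc_a_rc_1_2 lc_a_rc_1_2 lc_a_rc_2_2 lc_a_rc_5_2 lc_a_rc_8_2 lc_a_rc_0_1 lc_a_rc_2_2 lc_a_rc_2_2 lc_a_rc_6_2 lc_a_rc_4_2 lc_a_rc_5_2 lc_a_rc_7_2 lc_a_rc_6_2 lc_a_rc_5_2 lc_a_rc_7_2 lc_a_rc_6_2 lc_a_rc_3_2 lc_a_rc_8_2 lc_a_rc_2_2 lc_a_rc_2_2 lc_a_rc_8_2 lc_a_rc_8_2 lc_a_rc_2_2 lc_a_rc_2_2 lc_a_rc_6_2) (@D3.rec (fun _ => (Cert rels S Gen.a)) lc_a_rc_5_2 lc_a_rc_7_2 lc_a_rc_6_2 lc_a_rc_3_2 lc_a_rc_7_2 lc_a_rc_3_2 lc_a_rc_2_2 lc_a_rc_3_2 lc_a_rc_3_2 lc_a_rc_2_2 lc_a_rc_2_2 lc_a_rc_1_2 lc_a_rc_1_2 lc_a_rc_2_2 lc_a_rc_2_2 lc_a_rc_1_2 lc_a_rc_1_2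 lc_a_rc_1_2 lc_a_rc_3_2 lc_a_rc_2_2 lc_a_rc_2_2 lc_a_rc_2_2 lc_a_rc_1_2 lc_a_rc_1_2 lc_a_rc_1_2 lc_a_rc_3_2 lc_a_rc_5_2 lc_a_rc_3_2 lc_a_rc_2_2 lc_a_rc_2_2 lc_a_rc_2_2 lc_a_rc_3_2) (@D3.rec (fun _ => (Cert rels S Gen.a)) lc_a_rc_1_2 lc_a_rc_1_2 lc_a_rc_3_2 lc_a_rc_6_2 lc_a_rc_8_2 lc_a_rc_8_2 lc_a_rc_7_2 lc_a_rc_6_2 lc_a_rc_5_2 lc_a_rc_7_2 lc_a_rc_6_2 lc_a_rc_3_2 lc_a_rc_7_2 lc_a_rc_3_2 lc_a_rc_2_2 lc_a_rc_8_2 lc_a_rc_8_2 lc_a_rc_7_2 lc_a_rc_6_2 lc_a_rc_3_2 lc_a_rc_7_2 lc_a_rc_3_2 lc_a_rc_2_2 lc_a_rc_3_2 lc_a_rc_2_2 lc_a_rc_4_2 lc_a_Cert_tree lc_a_rc_4_2 lc_a_rc_3_2 lc_a_rc_1_0 lc_a_rc_1_0 lc_a_rc_1_0) (@D3.rec (fun _ => (Cert rels S Gen.a)) lc_a_rc_1_0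 lc_a_rc_1_0 lc_a_rc_1_0 lc_a_rc_1_0 lc_a_rc_1_2 lc_a_rc_1_2 lc_a_rc_1_2 lc_a_rc_1_0 lc_a_rc_1_0 lc_a_rc_1_0 lc_a_rc_1_0 lc_a_rc_8_2 lc_a_rc_5_2 lc_a_rc_1_0 lc_a_rc_1_0 lc_a_rc_3_2 lc_a_rc_4_2 lc_a_rc_1_2 lc_a_rc_1_2 lc_a_rc_2_2 lc_a_rc_7_2 lc_a_rc_3_2 lc_a_rc_2_2 lc_a_rc_3_2 lc_a_rc_2_2 lc_a_rc_4_2 lc_a_Cert_tree lc_a_rc_3_2 lc_a_rc_2_2 lc_a_rc_4_2 lc_a_Cert_tree lc_a_rc_2_2) (@D3.rec (fun _ => (Cert rels S Gen.a)) lc_a_rc_4_2 lc_a_Cert_tree lc_a_rc_2_2 lc_a_rc_0_0 lc_a_rc_1_2 lc_a_rc_1_2 lc_a_rc_1_2 lc_a_rc_1_2 lc_a_rc_1_2 lc_a_rc_1_2 lc_a_rc_1_2 lc_a_rc_1_2 lc_a_rc_3_2 lc_a_rc_6_2 lc_a_rc_4_2 lc_a_rc_5_2 lc_a_rc_7_2 lc_a_rc_6_2 lc_a_rc_5_2 lc_a_rc_3_2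 lc_a_Cert_tree lc_a_rc_2_2 lc_a_rc_5_2 lc_a_rc_5_2 lc_a_rc_6_2 lc_a_rc_5_2 lc_a_rc_7_2 lc_a_rc_6_2 lc_a_rc_2_0 lc_a_rc_5_2 lc_a_rc_0_0 lc_a_rc_8_2) (@D3.rec (fun _ => (Cert rels S Gen.a)) lc_a_rc_2_2 lc_a_rc_2_2 lc_a_rc_2_2 lc_a_rc_6_2 lc_a_rc_0_0 lc_a_rc_8_2 lc_a_rc_2_2 lc_a_rc_8_2 lc_a_rc_5_2 lc_a_rc_3_2 lc_a_rc_2_2 lc_a_rc_1_2 lc_a_rc_1_2 lc_a_rc_1_2 lc_a_rc_1_2 lc_a_rc_1_2 lc_a_rc_1_2 lc_a_rc_1_2 lc_a_rc_2_2 lc_a_rc_1_2 lc_a_rc_1_2 lc_a_rc_1_2 lc_a_rc_1_2 lc_a_rc_2_2 lc_a_rc_2_2 lc_a_rc_1_2 lc_a_rc_1_2 lc_a_rc_1_2 lc_a_rc_3_2 lc_a_rc_2_2 lc_a_rc_2_2 lc_a_rc_2_2) (@D3.rec (fun _ => (Cert rels S Gen.a)) lc_a_rc_1_2 lc_a_rc_1_2 lc_a_rc_1_2 lc_a_rc_5_2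 lc_a_rc_5_2 lc_a_rc_8_2 lc_a_rc_2_2 lc_a_rc_5_2 lc_a_rc_8_2 lc_a_rc_3_2 lc_a_rc_2_2 lc_a_rc_2_2 lc_a_rc_4_2 lc_a_rc_3_2 lc_a_Cert_tree lc_a_rc_2_2 lc_a_rc_2_2 lc_a_rc_6_2 lc_a_rc_4_2 lc_a_rc_5_2 lc_a_rc_4_2 lc_a_rc_5_2 lc_a_rc_7_2 lc_a_rc_6_2 lc_a_rc_5_2 lc_a_rc_7_2 lc_a_rc_6_2 lc_a_rc_3_2 lc_a_rc_2_2 lc_a_rc_4_2 lc_a_rc_3_2 lc_a_Cert_tree) (@D3.rec (fun _ => (Cert rels S Gen.a)) lc_a_rc_2_2 lc_a_rc_5_2 lc_a_rc_0_0 lc_a_rc_8_2 lc_a_rc_2_2 lc_a_rc_5_2 lc_a_rc_8_2 lc_a_rc_2_2 lc_a_rc_5_2 lc_a_rc_8_2 lc_a_Cert_tree lc_a_rc_2_2 lc_a_rc_2_2 lc_a_rc_6_2 lc_a_rc_8_2 lc_a_rc_8_2 lc_a_rc_2_2 lc_a_rc_4_2 lc_a_rc_3_2 lc_a_Cert_tree lc_a_rc_2_2 lc_a_rc_4_2 lc_a_rc_5_2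 lc_a_rc_0_0 lc_a_rc_4_2 lc_a_rc_8_2 lc_a_rc_2_2 lc_a_rc_2_2 lc_a_rc_2_2 lc_a_rc_7_2 lc_a_rc_6_2 lc_a_rc_5_2) (@D3.rec (fun _ => (Cert rels S Gen.a)) lc_a_rc_5_2 lc_a_rc_7_2 lc_a_rc_6_2 lc_a_rc_3_2 lc_a_rc_7_2 lc_a_rc_3_2 lc_a_rc_1_2 lc_a_rc_2_2 lc_a_rc_4_2 lc_a_rc_5_2 lc_a_rc_0_0 lc_a_rc_8_2 lc_a_rc_2_2 lc_a_rc_8_2 lc_a_rc_5_2 lc_a_rc_3_2 lc_a_rc_2_2 lc_a_rc_8_2 lc_a_rc_5_2 lc_a_rc_5_2 lc_a_rc_46_42 lc_a_rc_2_2 lc_a_rc_3_2 lc_a_rc_2_2 lc_a_rc_3_0 lc_a_rc_1_2 lc_a_rc_1_2 lc_a_rc_1_2 lc_a_rc_2_2 lc_a_rc_1_2 lc_a_rc_1_2 lc_a_rc_1_2) (@D3.rec (fun _ => (Cert rels S Gen.a)) lc_a_rc_1_2 lc_a_rc_2_2 lc_a_rc_1_2 lc_a_rc_1_2 lc_a_Cert_tree lc_a_rc_2_2 lc_a_rc_2_2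 lc_a_rc_1_2 lc_a_rc_1_2 lc_a_rc_1_2 lc_a_rc_2_2 lc_a_rc_2_2 lc_a_rc_0_0 lc_a_rc_1_2 lc_a_rc_1_2 lc_a_rc_3_2 lc_a_rc_2_2 lc_a_rc_2_2 lc_a_rc_2_2 lc_a_rc_1_2 lc_a_rc_1_2 lc_a_rc_1_2 lc_a_rc_3_2 lc_a_rc_7_2 lc_a_rc_2_2 lc_a_rc_2_2 lc_a_rc_2_2 lc_a_rc_2_2 lc_a_rc_3_2 lc_a_rc_1_2 lc_a_rc_1_2 lc_a_rc_1_2) (@D3.rec (fun _ => (Cert rels S Gen.a)) lc_a_rc_5_2 lc_a_rc_5_2 lc_a_rc_8_2 lc_a_rc_2_2 lc_a_rc_5_2 lc_a_rc_8_2 lc_a_Cert_tree lc_a_rc_2_2 lc_a_rc_2_2 lc_a_rc_6_2 lc_a_rc_8_2 lc_a_rc_8_2 lc_a_rc_4_2 lc_a_rc_3_2 lc_a_Cert_tree lc_a_rc_2_2 lc_a_rc_2_2 lc_a_rc_6_2 lc_a_rc_4_2 lc_a_rc_5_2 lc_a_rc_0_0 lc_a_rc_4_2 lc_a_rc_8_2 lc_a_rc_2_2 lc_a_rc_2_2 lc_a_rc_2_2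 lc_a_rc_7_2 lc_a_rc_6_2 lc_a_rc_5_2 lc_a_rc_7_2 lc_a_rc_6_2 lc_a_rc_5_2) (@D3.rec (fun _ => (Cert rels S Gen.a)) lc_a_rc_7_2 lc_a_rc_6_2 lc_a_rc_3_2 lc_a_rc_7_2 lc_a_rc_3_2 lc_a_rc_2_2 lc_a_rc_0_0 lc_a_rc_8_2 lc_a_rc_8_2 lc_a_rc_8_2 lc_a_rc_8_2 lc_a_rc_2_2 lc_a_rc_8_2 lc_a_rc_8_2 lc_a_rc_0_0 lc_a_rc_8_2 lc_a_rc_2_2 lc_a_rc_2_2 lc_a_rc_2_2 lc_a_rc_7_2 lc_a_rc_8_2 lc_a_rc_8_2 lc_a_rc_4_2 lc_a_rc_5_2 lc_a_rc_0_0 lc_a_rc_8_2 lc_a_rc_2_2 lc_a_rc_2_2 lc_a_rc_7_2 lc_a_rc_6_2 lc_a_rc_5_2 lc_a_rc_4_2) (@D3.rec (fun _ => (Cert rels S Gen.a)) lc_a_rc_8_2 lc_a_rc_6_2 lc_a_rc_8_2 lc_a_rc_5_2 lc_a_rc_2_2 lc_a_rc_2_2 lc_a_rc_2_2 lc_a_rc_7_2 lc_a_rc_6_2 lc_a_rc_3_2 lc_a_rc_7_2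 lc_a_rc_6_2 lc_a_rc_3_2 lc_a_rc_7_2 lc_a_rc_3_2 lc_a_rc_2_2 lc_a_rc_8_2 lc_a_rc_2_2 lc_a_rc_2_2 lc_a_rc_3_2 lc_a_rc_2_2 lc_a_rc_3_2 lc_a_rc_4_2 lc_a_rc_3_2 lc_a_rc_1_2 lc_a_rc_1_2 lc_a_rc_2_2 lc_a_rc_1_2 lc_a_rc_1_2 lc_a_Cert_tree lc_a_rc_2_2 lc_a_rc_2_2) (@D3.rec (fun _ => (Cert rels S Gen.a)) lc_a_rc_1_2 lc_a_rc_2_2 lc_a_rc_2_2 lc_a_rc_0_0 lc_a_rc_2_2 lc_a_rc_3_2 lc_a_rc_8_2 lc_a_rc_5_2 lc_a_rc_2_2 lc_a_rc_8_2 lc_a_rc_0_0 lc_a_rc_5_2 lc_a_rc_8_2 lc_a_rc_2_2 lc_a_rc_8_2 lc_a_rc_1_2 lc_a_rc_1_2 lc_a_rc_1_2 lc_a_rc_1_2 lc_a_rc_2_2 lc_a_rc_3_2 lc_a_Cert_tree lc_a_rc_2_2 lc_a_rc_5_2 lc_a_rc_7_2 lc_a_rc_2_2 lc_a_rc_5_2 lc_a_rc_0_0 lc_a_rc_8_2 lc_a_rc_2_2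 lc_a_rc_6_2 lc_a_rc_8_2) (@D3.rec (fun _ => (Cert rels S Gen.a)) lc_a_rc_5_2 lc_a_rc_3_2 lc_a_rc_2_2 lc_a_rc_1_2 lc_a_rc_1_2 lc_a_rc_1_2 lc_a_rc_1_2 lc_a_rc_2_2 lc_a_rc_1_2 lc_a_rc_1_2 lc_a_rc_2_2 lc_a_rc_2_2 lc_a_rc_1_2 lc_a_rc_3_2 lc_a_rc_2_2 lc_a_rc_2_2 lc_a_rc_2_2 lc_a_rc_1_2 lc_a_rc_1_2 lc_a_rc_8_2 lc_a_rc_2_2 lc_a_rc_3_2 lc_a_Cert_tree lc_a_rc_2_2 lc_a_rc_4_2 lc_a_rc_5_2 lc_a_rc_6_2 lc_a_rc_3_2 lc_a_rc_6_0 lc_a_rc_2_2 lc_a_rc_5_2 lc_a_rc_0_0) (@D3.rec (fun _ => (Cert rels S Gen.a)) lc_a_rc_8_2 lc_a_rc_2_2 lc_a_rc_8_2 lc_a_rc_2_2 lc_a_rc_5_2 lc_a_rc_0_0 lc_a_rc_8_2 lc_a_rc_2_2 lc_a_rc_5_2 lc_a_rc_2_2 lc_a_rc_8_2 lc_a_rc_5_2 lc_a_rc_3_2 lc_a_rc_5_2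 lc_a_rc_2_2 lc_a_rc_2_2 lc_a_rc_3_2 lc_a_rc_2_2 lc_a_rc_1_2 lc_a_rc_1_2 lc_a_rc_1_2 lc_a_rc_2_2 lc_a_rc_1_2 lc_a_rc_1_2 lc_a_rc_5_0 lc_a_rc_4_0 lc_a_rc_2_2 lc_a_rc_1_2 lc_a_rc_1_2 lc_a_Cert_tree lc_a_rc_2_2 lc_a_rc_2_2) (@D3.rec (fun _ => (Cert rels S Gen.a)) lc_a_rc_1_2 lc_a_rc_1_2 lc_a_rc_1_2 lc_a_rc_2_2 lc_a_rc_2_2 lc_a_rc_1_2 lc_a_rc_1_2 lc_a_rc_3_2 lc_a_rc_2_2 lc_a_rc_2_2 lc_a_rc_2_2 lc_a_rc_1_2 lc_a_rc_1_2 lc_a_rc_1_2 lc_a_rc_3_2 lc_a_rc_5_2 lc_a_rc_3_2 lc_a_rc_2_2 lc_a_rc_2_2 lc_a_rc_2_2 lc_a_rc_3_2 lc_a_rc_1_2 lc_a_rc_1_2 lc_a_rc_3_2 lc_a_rc_5_2 lc_a_rc_8_2 lc_a_rc_2_2 lc_a_rc_8_2 lc_a_Cert_tree lc_a_rc_2_2 lc_a_rc_2_2 lc_a_rc_6_2) (@D3.rec (fun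 _ => (Cert rels S Gen.a)) lc_a_rc_8_2 lc_a_rc_8_2 lc_a_rc_4_2 lc_a_rc_3_2 lc_a_rc_1_2 lc_a_rc_2_2 lc_a_rc_2_2 lc_a_rc_6_2 lc_a_rc_4_2 lc_a_rc_5_2 lc_a_rc_0_0 lc_a_rc_4_2 lc_a_rc_8_2 lc_a_rc_2_2 lc_a_rc_2_2 lc_a_rc_2_2 lc_a_rc_7_2 lc_a_rc_6_2 lc_a_rc_5_2 lc_a_rc_7_2 lc_a_rc_6_2 lc_a_rc_7_2 lc_a_rc_6_2 lc_a_rc_3_2 lc_a_rc_7_2 lc_a_rc_3_2 lc_a_rc_2_2 lc_a_rc_8_2 lc_a_rc_2_2 lc_a_rc_8_2 lc_a_rc_5_2 lc_a_rc_3_2)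
def ce_a_9 : D2 → D3 → (Cert rels S Gen.a) := @D2.rec (fun _ => D3 → (Cert rels S Gen.a)) (@D3.rec (fun _ => (Cert rels S Gen.a)) lc_a_rc_8_2 lc_a_rc_2_2 lc_a_rc_8_2 lc_a_rc_0_0 lc_a_rc_8_2 lc_a_rc_2_2 lc_a_rc_2_2 lc_a_rc_8_2 lc_a_rc_8_2 lc_a_rc_4_2 lc_a_rc_5_2 lc_a_rc_2_2 lc_a_rc_2_2 lc_a_rc_6_2 lc_a_rc_5_2 lc_a_rc_4_2 lc_a_rc_8_2 lc_a_rc_8_2 lc_a_rc_5_2 lc_a_rc_2_2 lc_a_rc_2_2 lc_a_rc_3_2 lc_a_rc_7_2 lc_a_rc_6_2 lc_a_rc_3_2 lc_a_rc_7_2 lc_a_rc_7_2 lc_a_rc_3_2 lc_a_rc_3_2 lc_a_rc_5_2 lc_a_rc_3_2 lc_a_rc_4_2) (@D3.rec (fun _ => (Cert rels S Gen.a)) lc_a_rc_3_2 lc_a_rc_2_2 lc_a_rc_2_2 lc_a_rc_1_2 lc_a_rc_2_2 lc_a_rc_1_2 lc_a_rc_3_2 lc_a_rc_2_2 lc_a_rc_2_2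 lc_a_rc_0_1 lc_a_rc_1_2 lc_a_rc_1_2 lc_a_rc_2_2 lc_a_rc_3_2 lc_a_rc_5_2 lc_a_rc_2_2 lc_a_rc_5_2 lc_a_rc_8_2 lc_a_rc_3_2 lc_a_rc_2_2 lc_a_rc_2_2 lc_a_rc_5_2 lc_a_rc_2_2 lc_a_rc_8_2 lc_a_rc_8_2 lc_a_rc_8_2 lc_a_rc_1_2 lc_a_rc_8_2 lc_a_rc_2_0 lc_a_rc_2_2 lc_a_rc_8_2 lc_a_rc_5_2) (@D3.rec (fun _ => (Cert rels S Gen.a)) lc_a_rc_0_1 lc_a_rc_8_2 lc_a_rc_2_2 lc_a_rc_2_2 lc_a_rc_2_2 lc_a_rc_6_2 lc_a_rc_5_2 lc_a_rc_7_2 lc_a_rc_3_2 lc_a_rc_2_2 lc_a_rc_2_2 lc_a_rc_2_2 lc_a_rc_2_2 lc_a_rc_6_2 lc_a_rc_4_2 lc_a_rc_2_2 lc_a_rc_3_2 lc_a_rc_2_2 lc_a_rc_3_2 lc_a_rc_4_2 lc_a_rc_3_2 lc_a_rc_1_2 lc_a_rc_1_2 lc_a_rc_2_2 lc_a_rc_1_2 lc_a_rc_1_2 lc_a_Cert_tree lc_a_rc_2_2 lc_a_rc_2_2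 lc_a_rc_1_2 lc_a_rc_1_2 lc_a_rc_1_2) (@D3.rec (fun _ => (Cert rels S Gen.a)) lc_a_rc_2_2 lc_a_rc_2_2 lc_a_rc_1_2 lc_a_rc_1_2 lc_a_rc_1_2 lc_a_rc_0_0 lc_a_rc_4_2 lc_a_rc_8_2 lc_a_rc_3_2 lc_a_rc_2_2 lc_a_rc_2_2 lc_a_rc_2_2 lc_a_rc_1_2 lc_a_rc_1_2 lc_a_rc_1_2 lc_a_rc_3_2 lc_a_rc_2_2 lc_a_rc_2_2 lc_a_rc_0_0 lc_a_rc_1_2 lc_a_rc_1_2 lc_a_rc_5_2 lc_a_rc_3_2 lc_a_rc_5_2 lc_a_rc_3_2 lc_a_rc_2_2 lc_a_rc_2_2 lc_a_rc_2_2 lc_a_rc_3_2 lc_a_rc_1_2 lc_a_rc_1_2 lc_a_rc_3_2) (@D3.rec (fun _ => (Cert rels S Gen.a)) lc_a_rc_4_2 lc_a_rc_3_2 lc_a_rc_5_2 lc_a_rc_3_2 lc_a_rc_5_2 lc_a_rc_2_0 lc_a_rc_2_2 lc_a_rc_2_2 lc_a_rc_8_2 lc_a_rc_8_2 lc_a_rc_1_2 lc_a_rc_3_2 lc_a_rc_8_2 lc_a_rc_6_2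 lc_a_rc_8_2 lc_a_rc_0_0 lc_a_rc_4_2 lc_a_rc_8_2 lc_a_rc_2_2 lc_a_rc_2_2 lc_a_rc_2_2 lc_a_rc_7_2 lc_a_rc_8_2 lc_a_rc_8_2 lc_a_rc_7_2 lc_a_rc_6_2 lc_a_rc_5_2 lc_a_rc_4_2 lc_a_rc_8_2 lc_a_rc_6_2 lc_a_rc_8_2 lc_a_rc_5_2) (@D3.rec (fun _ => (Cert rels S Gen.a)) lc_a_rc_2_2 lc_a_rc_2_2 lc_a_rc_2_2 lc_a_rc_7_2 lc_a_rc_6_2 lc_a_rc_3_2 lc_a_rc_7_2 lc_a_rc_6_2 lc_a_rc_7_2 lc_a_rc_3_2 lc_a_rc_2_2 lc_a_rc_3_2 lc_a_rc_4_2 lc_a_rc_8_2 lc_a_rc_8_2 lc_a_rc_5_2 lc_a_rc_2_2 lc_a_rc_2_2 lc_a_rc_8_2 lc_a_rc_8_2 lc_a_rc_7_2 lc_a_rc_6_2 lc_a_rc_6_2 lc_a_rc_8_2 lc_a_rc_5_2 lc_a_rc_8_2 lc_a_rc_5_2 lc_a_rc_2_2 lc_a_rc_2_2 lc_a_rc_3_2 lc_a_rc_7_2 lc_a_rc_3_2) (@D3.rec (fun _ =>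 (Cert rels S Gen.a)) lc_a_rc_2_2 lc_a_rc_7_2 lc_a_rc_3_2 lc_a_rc_2_2 lc_a_rc_3_2 lc_a_rc_4_2 lc_a_rc_3_2 lc_a_rc_2_2 lc_a_rc_1_2 lc_a_rc_4_2 lc_a_rc_3_2 lc_a_Cert_tree lc_a_rc_4_2 lc_a_rc_3_2 lc_a_rc_6_2 lc_a_rc_4_2 lc_a_rc_5_2 lc_a_rc_0_0 lc_a_rc_8_2 lc_a_rc_8_2 lc_a_rc_4_2 lc_a_rc_8_2 lc_a_rc_3_2 lc_a_rc_6_2 lc_a_rc_8_2 lc_a_rc_5_2 lc_a_rc_2_2 lc_a_rc_2_2 lc_a_rc_2_2 lc_a_rc_2_2 lc_a_rc_2_2 lc_a_rc_2_2) (@D3.rec (fun _ => (Cert rels S Gen.a)) lc_a_rc_3_2 lc_a_rc_1_2 lc_a_rc_1_2 lc_a_rc_1_2 lc_a_rc_1_0 lc_a_rc_1_0 lc_a_rc_1_0 lc_a_rc_1_0 lc_a_rc_1_0 lc_a_rc_2_2 lc_a_rc_3_2 lc_a_rc_1_2 lc_a_rc_1_2 lc_a_rc_1_2 lc_a_rc_1_0 lc_a_rc_1_0 lc_a_rc_1_0 lc_a_rc_1_0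 lc_a_rc_1_0 lc_a_rc_1_0 lc_a_rc_1_0 lc_a_rc_1_0 lc_a_rc_1_0 lc_a_rc_1_0 lc_a_rc_1_2 lc_a_rc_1_2 lc_a_rc_2_2 lc_a_rc_1_0 lc_a_rc_1_0 lc_a_rc_8_2 lc_a_rc_5_2 lc_a_rc_8_2) (@D3.rec (fun _ => (Cert rels S Gen.a)) lc_a_rc_5_2 lc_a_rc_1_0 lc_a_rc_3_2 lc_a_rc_6_2 lc_a_rc_8_2 lc_a_rc_5_2 lc_a_rc_7_2 lc_a_rc_8_2 lc_a_rc_5_2 lc_a_rc_2_2 lc_a_rc_2_2 lc_a_rc_3_2 lc_a_rc_7_2 lc_a_rc_3_2 lc_a_rc_2_2 lc_a_rc_7_2 lc_a_rc_3_2 lc_a_rc_2_2 lc_a_rc_5_0 lc_a_rc_7_2 lc_a_rc_8_2 lc_a_rc_5_2 lc_a_rc_8_2 lc_a_rc_5_2 lc_a_rc_3_2 lc_a_rc_2_2 lc_a_rc_3_2 lc_a_rc_2_2 lc_a_rc_3_2 lc_a_rc_3_2 lc_a_rc_3_2 lc_a_rc_4_2) (@D3.rec (fun _ => (Cert rels S Gen.a)) lc_a_rc_3_2 lc_a_rc_2_2 lc_a_rc_1_2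 lc_a_rc_3_2 lc_a_rc_2_2 lc_a_rc_1_2 lc_a_rc_3_2 lc_a_rc_2_2 lc_a_rc_1_2 lc_a_rc_3_2 lc_a_rc_5_2 lc_a_rc_3_2 lc_a_rc_2_2 lc_a_rc_2_2 lc_a_rc_2_2 lc_a_rc_3_2 lc_a_rc_1_2 lc_a_rc_1_2 lc_a_rc_4_2 lc_a_rc_3_2 lc_a_rc_5_2 lc_a_rc_3_2 lc_a_rc_2_2 lc_a_rc_2_2 lc_a_rc_1_2 lc_a_rc_3_2 lc_a_rc_7_2 lc_a_rc_7_2 lc_a_rc_2_2 lc_a_rc_2_2 lc_a_rc_0_0 lc_a_rc_2_2) (@D3.rec (fun _ => (Cert rels S Gen.a)) lc_a_rc_4_2 lc_a_rc_3_2 lc_a_rc_6_2 lc_a_rc_46_35 lc_a_rc_3_2 lc_a_rc_6_2 lc_a_rc_0_1 lc_a_rc_2_2 lc_a_rc_4_2 lc_a_rc_46_7 lc_a_rc_4_2 lc_a_rc_2_2 lc_a_rc_6_2 lc_a_rc_4_2 lc_a_rc_5_2 lc_a_rc_3_2 lc_a_rc_2_2 lc_a_rc_8_2 lc_a_rc_1_2 lc_a_rc_5_2 lc_a_rc_3_2 lc_a_rc_5_2 lc_a_rc_2_2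 lc_a_rc_3_2 lc_a_rc_5_2 lc_a_rc_2_2 lc_a_rc_4_2 lc_a_rc_3_2 lc_a_rc_5_2 lc_a_rc_3_2 lc_a_rc_8_2 lc_a_rc_5_2) (@D3.rec (fun _ => (Cert rels S Gen.a)) lc_a_rc_2_2 lc_a_rc_2_2 lc_a_rc_3_2 lc_a_rc_4_2 lc_a_rc_1_2 lc_a_rc_46_28 lc_a_rc_2_2 lc_a_rc_4_2 lc_a_rc_3_2 lc_a_rc_6_2 lc_a_rc_0_0 lc_a_rc_2_2 lc_a_rc_46_42 lc_a_rc_5_0 lc_a_rc_8_2 lc_a_rc_3_2 lc_a_rc_4_2 lc_a_rc_3_2 lc_a_rc_3_2 lc_a_rc_4_2 lc_a_rc_5_2 lc_a_rc_4_2 lc_a_rc_5_2 lc_a_rc_7_2 lc_a_rc_6_2 lc_a_rc_5_2 lc_a_rc_1_0 lc_a_rc_1_0 lc_a_rc_1_0 lc_a_rc_3_2 lc_a_rc_1_0 lc_a_rc_5_2) (@D3.rec (fun _ => (Cert rels S Gen.a)) lc_a_rc_2_2 lc_a_rc_2_2 lc_a_rc_3_2 lc_a_rc_4_2 lc_a_rc_1_2 lc_a_rc_3_2 lc_a_rc_2_2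 lc_a_rc_3_2 lc_a_rc_3_2 lc_a_rc_1_0 lc_a_rc_5_2 lc_a_rc_1_0 lc_a_rc_1_0 lc_a_rc_1_0 lc_a_rc_1_0 lc_a_rc_2_2 lc_a_rc_1_0 lc_a_rc_46_42 lc_a_rc_5_2 lc_a_rc_8_2 lc_a_rc_3_2 lc_a_rc_46_28 lc_a_rc_3_2 lc_a_rc_2_2 lc_a_rc_2_2 lc_a_rc_1_2 lc_a_rc_1_2 lc_a_rc_2_2 lc_a_rc_2_2 lc_a_rc_2_2 lc_a_rc_1_2 lc_a_rc_1_2) (@D3.rec (fun _ => (Cert rels S Gen.a)) lc_a_rc_1_2 lc_a_rc_3_2 lc_a_rc_2_2 lc_a_rc_2_2 lc_a_rc_2_2 lc_a_rc_1_2 lc_a_rc_1_2 lc_a_rc_1_2 lc_a_rc_3_2 lc_a_rc_5_2 lc_a_rc_3_2 lc_a_rc_2_2 lc_a_rc_2_2 lc_a_rc_2_2 lc_a_rc_3_2 lc_a_rc_1_2 lc_a_rc_1_2 lc_a_rc_3_2 lc_a_rc_5_2 lc_a_rc_2_2 lc_a_rc_8_2 lc_a_rc_8_2 lc_a_rc_4_2 lc_a_rc_8_2 lc_a_rc_2_2 lc_a_rc_2_2 lc_a_rc_6_2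 lc_a_rc_5_2 lc_a_rc_7_2 lc_a_rc_6_2 lc_a_rc_3_2 lc_a_rc_7_2) (@D3.rec (fun _ => (Cert rels S Gen.a)) lc_a_rc_3_2 lc_a_rc_2_2 lc_a_rc_5_2 lc_a_rc_3_2 lc_a_rc_2_2 lc_a_rc_8_2 lc_a_rc_2_2 lc_a_rc_3_2 lc_a_rc_6_2 lc_a_rc_3_2 lc_a_rc_7_2 lc_a_rc_3_2 lc_a_rc_2_2 lc_a_rc_4_2 lc_a_rc_3_2 lc_a_rc_4_2 lc_a_rc_3_2 lc_a_rc_2_2 lc_a_rc_2_2 lc_a_rc_5_2 lc_a_rc_1_2 lc_a_rc_1_2 lc_a_rc_3_2 lc_a_rc_2_2 lc_a_rc_2_2 lc_a_rc_2_2 lc_a_rc_7_2 lc_a_rc_1_2 lc_a_rc_1_2 lc_a_rc_3_2 lc_a_rc_5_2 lc_a_rc_3_2) (@D3.rec (fun _ => (Cert rels S Gen.a)) lc_a_rc_2_2 lc_a_rc_2_2 lc_a_rc_2_2 lc_a_rc_3_2 lc_a_rc_1_2 lc_a_rc_1_2 lc_a_rc_3_2 lc_a_rc_4_2 lc_a_rc_3_2 lc_a_rc_5_2 lc_a_rc_3_2 lc_a_rc_4_0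 lc_a_rc_2_0 lc_a_rc_2_2 lc_a_rc_2_2 lc_a_rc_3_2 lc_a_rc_2_0 lc_a_rc_1_2 lc_a_rc_3_2 lc_a_rc_3_2 lc_a_rc_8_2 lc_a_rc_8_2 lc_a_rc_7_2 lc_a_rc_6_2 lc_a_rc_3_2 lc_a_rc_7_2 lc_a_rc_3_2 lc_a_rc_2_2 lc_a_rc_3_2 lc_a_rc_2_2 lc_a_rc_4_2 lc_a_rc_1_4) (@D3.rec (fun _ => (Cert rels S Gen.a)) lc_a_rc_8_2 lc_a_rc_3_2 lc_a_rc_7_2 lc_a_rc_3_2 lc_a_rc_2_2 lc_a_rc_3_2 lc_a_rc_2_2 lc_a_rc_4_2 lc_a_Cert_tree lc_a_rc_0_0 lc_a_rc_6_2 lc_a_rc_4_2 lc_a_rc_5_2 lc_a_rc_1_0 lc_a_rc_1_0 lc_a_rc_1_0 lc_a_rc_1_0 lc_a_rc_1_0 lc_a_rc_1_0 lc_a_rc_1_0 lc_a_rc_1_0 lc_a_rc_1_0 lc_a_rc_1_0 lc_a_rc_1_2 lc_a_rc_1_2 lc_a_rc_2_2 lc_a_rc_1_0 lc_a_rc_1_0 lc_a_rc_8_2 lc_a_rc_5_2 lc_a_rc_8_2 lc_a_rc_5_2)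 (@D3.rec (fun _ => (Cert rels S Gen.a)) lc_a_rc_1_0 lc_a_rc_3_2 lc_a_rc_3_2 lc_a_rc_4_2 lc_a_rc_1_2 lc_a_rc_2_2 lc_a_rc_1_2 lc_a_rc_2_2 lc_a_rc_3_2 lc_a_rc_2_2 lc_a_rc_4_2 lc_a_Cert_tree lc_a_rc_2_2 lc_a_rc_4_2 lc_a_rc_1_4 lc_a_rc_2_2 lc_a_rc_0_0 lc_a_rc_0_0 lc_a_rc_3_0 lc_a_rc_0_0 lc_a_rc_1_2 lc_a_rc_1_2 lc_a_rc_1_2 lc_a_rc_1_2 lc_a_rc_1_2 lc_a_rc_1_2 lc_a_rc_5_2 lc_a_rc_6_2 lc_a_rc_5_2 lc_a_rc_7_2 lc_a_rc_6_2 lc_a_rc_5_2) (@D3.rec (fun _ => (Cert rels S Gen.a)) lc_a_rc_0_0 lc_a_rc_8_2 lc_a_rc_2_2 lc_a_rc_8_2 lc_a_rc_5_2 lc_a_rc_8_2 lc_a_rc_0_1 lc_a_rc_5_2 lc_a_rc_3_2 lc_a_rc_2_2 lc_a_rc_1_2 lc_a_rc_1_2 lc_a_rc_1_2 lc_a_rc_2_2 lc_a_rc_1_2 lc_a_rc_1_2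 lc_a_rc_1_2 lc_a_rc_1_2 lc_a_rc_2_2 lc_a_rc_1_2 lc_a_rc_1_2 lc_a_Cert_tree lc_a_rc_2_2 lc_a_rc_2_2 lc_a_rc_1_2 lc_a_rc_1_2 lc_a_rc_1_2 lc_a_rc_1_2 lc_a_rc_1_2 lc_a_rc_3_2 lc_a_rc_2_2 lc_a_rc_2_2) (@D3.rec (fun _ => (Cert rels S Gen.a)) lc_a_rc_2_2 lc_a_rc_1_2 lc_a_rc_1_2 lc_a_rc_1_2 lc_a_rc_3_2 lc_a_rc_2_2 lc_a_rc_2_2 lc_a_rc_1_2 lc_a_rc_1_2 lc_a_rc_5_2 lc_a_rc_8_2 lc_a_rc_2_2 lc_a_rc_5_2 lc_a_rc_8_2 lc_a_Cert_tree lc_a_rc_2_2 lc_a_rc_2_2 lc_a_rc_6_2 lc_a_rc_8_2 lc_a_rc_8_2 lc_a_rc_2_2 lc_a_rc_4_2 lc_a_rc_3_2 lc_a_Cert_tree lc_a_rc_2_2 lc_a_rc_4_2 lc_a_rc_5_2 lc_a_rc_0_0 lc_a_rc_4_2 lc_a_rc_8_2 lc_a_rc_2_2 lc_a_rc_2_2) (@D3.rec (fun _ => (Cert rels S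 Gen.a)) lc_a_rc_2_2 lc_a_rc_7_2 lc_a_rc_6_2 lc_a_rc_5_2 lc_a_rc_5_2 lc_a_rc_7_2 lc_a_rc_6_2 lc_a_rc_3_2 lc_a_rc_7_2 lc_a_rc_3_2 lc_a_rc_6_2 lc_a_rc_2_2 lc_a_rc_4_2 lc_a_rc_5_2 lc_a_rc_0_0 lc_a_rc_8_2 lc_a_rc_2_2 lc_a_rc_8_2 lc_a_rc_5_2 lc_a_rc_3_2 lc_a_rc_8_2 lc_a_rc_2_2 lc_a_rc_8_2 lc_a_rc_8_2 lc_a_rc_0_0 lc_a_rc_8_2 lc_a_rc_2_2 lc_a_rc_2_2 lc_a_rc_8_2 lc_a_rc_8_2 lc_a_rc_2_2 lc_a_rc_4_2) (@D3.rec (fun _ => (Cert rels S Gen.a)) lc_a_rc_5_2 lc_a_rc_0_0 lc_a_rc_8_2 lc_a_rc_2_2 lc_a_rc_5_2 lc_a_rc_4_2 lc_a_rc_8_2 lc_a_rc_8_2 lc_a_rc_5_2 lc_a_rc_2_2 lc_a_rc_2_2 lc_a_rc_3_2 lc_a_rc_7_2 lc_a_rc_6_2 lc_a_rc_3_2 lc_a_rc_3_2 lc_a_rc_3_2 lc_a_rc_2_2 lc_a_rc_4_2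 lc_a_rc_8_2 lc_a_rc_3_2 lc_a_rc_5_2 lc_a_rc_3_2 lc_a_rc_4_2 lc_a_rc_5_2 lc_a_rc_2_2 lc_a_rc_46_42 lc_a_rc_46_21 lc_a_rc_2_2 lc_a_rc_3_2 lc_a_rc_4_2 lc_a_rc_3_2)
def ce_a_10 : D2 → D3 → (Cert rels S Gen.a) := @D2.rec (fun _ => D3 → (Cert rels S Gen.a)) (@D3.rec (fun _ => (Cert rels S Gen.a)) lc_a_rc_46_35 lc_a_rc_1_2 lc_a_rc_1_2 lc_a_rc_2_2 lc_a_rc_1_2 lc_a_rc_1_2 lc_a_Cert_tree lc_a_rc_2_2 lc_a_rc_2_2 lc_a_rc_1_2 lc_a_rc_1_2 lc_a_rc_1_2 lc_a_rc_2_2 lc_a_rc_1_2 lc_a_rc_1_2 lc_a_Cert_tree lc_a_rc_2_2 lc_a_rc_2_2 lc_a_rc_3_2 lc_a_rc_1_2 lc_a_rc_1_2 lc_a_rc_0_0 lc_a_rc_4_2 lc_a_rc_8_2 lc_a_rc_3_2 lc_a_rc_2_2 lc_a_rc_2_2 lc_a_rc_2_2 lc_a_rc_1_2 lc_a_rc_1_2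 lc_a_rc_1_2 lc_a_rc_2_0) (@D3.rec (fun _ => (Cert rels S Gen.a)) lc_a_rc_0_0 lc_a_rc_2_2 lc_a_rc_5_2 lc_a_rc_46_28 lc_a_rc_5_0 lc_a_rc_1_2 lc_a_rc_3_2 lc_a_rc_5_2 lc_a_rc_3_2 lc_a_rc_2_2 lc_a_rc_2_2 lc_a_rc_2_2 lc_a_rc_46_7 lc_a_rc_1_2 lc_a_rc_1_2 lc_a_rc_3_2 lc_a_rc_4_2 lc_a_rc_3_2 lc_a_rc_6_2 lc_a_rc_2_2 lc_a_rc_2_2 lc_a_rc_46_42 lc_a_rc_1_2 lc_a_rc_1_2 lc_a_rc_8_2 lc_a_rc_8_2 lc_a_rc_4_0 lc_a_rc_2_2 lc_a_rc_8_2 lc_a_rc_8_2 lc_a_rc_0_0 lc_a_rc_3_2) (@D3.rec (fun _ => (Cert rels S Gen.a)) lc_a_rc_8_2 lc_a_rc_2_2 lc_a_rc_2_2 lc_a_rc_2_2 lc_a_rc_7_2 lc_a_rc_8_2 lc_a_rc_8_2 lc_a_rc_4_2 lc_a_rc_5_2 lc_a_rc_0_0 lc_a_rc_5_2 lc_a_rc_8_2 lc_a_rc_2_2 lc_a_rc_2_2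 lc_a_rc_7_2 lc_a_rc_6_2 lc_a_rc_5_2 lc_a_rc_4_2 lc_a_rc_8_2 lc_a_rc_6_2 lc_a_rc_8_2 lc_a_rc_5_2 lc_a_rc_2_2 lc_a_rc_2_2 lc_a_rc_2_2 lc_a_rc_7_2 lc_a_rc_6_2 lc_a_rc_3_2 lc_a_rc_7_2 lc_a_rc_6_2 lc_a_rc_3_2 lc_a_rc_7_2) (@D3.rec (fun _ => (Cert rels S Gen.a)) lc_a_rc_3_2 lc_a_rc_2_2 lc_a_rc_8_2 lc_a_rc_8_2 lc_a_rc_2_2 lc_a_rc_8_2 lc_a_rc_8_2 lc_a_rc_5_2 lc_a_rc_2_2 lc_a_rc_2_2 lc_a_rc_8_2 lc_a_rc_8_2 lc_a_rc_3_2 lc_a_rc_5_2 lc_a_rc_8_2 lc_a_rc_5_2 lc_a_rc_2_2 lc_a_rc_7_2 lc_a_rc_6_2 lc_a_rc_3_2 lc_a_rc_6_2 lc_a_rc_8_2 lc_a_rc_5_2 lc_a_rc_8_2 lc_a_rc_5_2 lc_a_rc_2_2 lc_a_rc_2_2 lc_a_rc_3_2 lc_a_rc_7_2 lc_a_rc_3_2 lc_a_rc_2_2 lc_a_rc_3_2) (@D3.rec (fun _ =>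 (Cert rels S Gen.a)) lc_a_rc_2_2 lc_a_rc_2_2 lc_a_Cert_tree lc_a_rc_3_2 lc_a_rc_2_2 lc_a_rc_3_2 lc_a_rc_4_2 lc_a_rc_3_2 lc_a_Cert_tree lc_a_rc_4_2 lc_a_rc_3_2 lc_a_rc_6_2 lc_a_rc_4_2 lc_a_rc_5_2 lc_a_rc_1_2 lc_a_rc_5_2 lc_a_rc_2_2 lc_a_rc_2_2 lc_a_rc_1_2 lc_a_rc_0_0 lc_a_rc_2_2 lc_a_rc_8_2 lc_a_rc_3_2 lc_a_rc_2_2 lc_a_rc_6_0 lc_a_rc_8_2 lc_a_rc_8_2 lc_a_rc_8_2 lc_a_rc_2_2 lc_a_rc_5_2 lc_a_rc_0_0 lc_a_rc_8_2) (@D3.rec (fun _ => (Cert rels S Gen.a)) lc_a_rc_2_2 lc_a_rc_8_2 lc_a_rc_5_2 lc_a_rc_3_2 lc_a_rc_2_2 lc_a_rc_2_2 lc_a_rc_1_2 lc_a_rc_2_2 lc_a_rc_1_2 lc_a_Cert_tree lc_a_rc_2_2 lc_a_rc_2_2 lc_a_rc_1_2 lc_a_rc_1_2 lc_a_rc_3_2 lc_a_rc_2_2 lc_a_rc_3_2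 lc_a_rc_2_2 lc_a_rc_1_2 lc_a_rc_8_2 lc_a_rc_6_0 lc_a_rc_2_2 lc_a_rc_5_2 lc_a_rc_0_0 lc_a_rc_8_2 lc_a_rc_2_2 lc_a_rc_5_2 lc_a_rc_6_0 lc_a_rc_2_2 lc_a_rc_8_2 lc_a_rc_5_2 lc_a_rc_3_2) (@D3.rec (fun _ => (Cert rels S Gen.a)) lc_a_rc_2_2 lc_a_rc_8_2 lc_a_rc_5_2 lc_a_rc_3_2 lc_a_rc_3_2 lc_a_rc_5_2 lc_a_rc_3_2 lc_a_rc_4_2 lc_a_rc_2_2 lc_a_rc_3_2 lc_a_rc_2_2 lc_a_rc_3_2 lc_a_rc_4_2 lc_a_rc_3_2 lc_a_rc_2_0 lc_a_rc_1_2 lc_a_rc_2_2 lc_a_rc_1_2 lc_a_Cert_tree lc_a_rc_2_2 lc_a_rc_2_2 lc_a_rc_1_2 lc_a_rc_1_2 lc_a_rc_1_2 lc_a_rc_1_2 lc_a_rc_4_2 lc_a_rc_2_0 lc_a_rc_0_0 lc_a_rc_2_2 lc_a_rc_2_2 lc_a_rc_1_2 lc_a_rc_1_2) (@D3.rec (fun _ => (Cert rels S Gen.a)) lc_a_rc_1_2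 lc_a_rc_0_0 lc_a_rc_4_2 lc_a_rc_8_2 lc_a_rc_3_2 lc_a_rc_2_2 lc_a_rc_2_2 lc_a_rc_2_2 lc_a_rc_1_2 lc_a_rc_1_2 lc_a_rc_1_2 lc_a_rc_3_2 lc_a_rc_2_2 lc_a_rc_2_2 lc_a_rc_1_2 lc_a_rc_1_2 lc_a_rc_3_2 lc_a_rc_5_2 lc_a_rc_3_2 lc_a_rc_2_2 lc_a_rc_2_2 lc_a_rc_2_2 lc_a_rc_3_2 lc_a_rc_1_2 lc_a_rc_1_2 lc_a_rc_3_2 lc_a_rc_4_2 lc_a_rc_3_2 lc_a_rc_5_2 lc_a_rc_3_2 lc_a_rc_2_2 lc_a_rc_2_2) (@D3.rec (fun _ => (Cert rels S Gen.a)) lc_a_rc_1_2 lc_a_rc_3_2 lc_a_rc_8_2 lc_a_rc_0_0 lc_a_rc_2_2 lc_a_rc_8_2 lc_a_rc_0_0 lc_a_rc_1_2 lc_a_rc_8_2 lc_a_rc_2_2 lc_a_rc_2_2 lc_a_rc_8_2 lc_a_rc_8_2 lc_a_rc_4_2 lc_a_rc_5_2 lc_a_rc_0_0 lc_a_rc_0_0 lc_a_rc_2_2 lc_a_rc_2_2 lc_a_rc_6_2 lc_a_rc_5_2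 lc_a_rc_4_2 lc_a_rc_8_2 lc_a_rc_5_2 lc_a_rc_8_2 lc_a_rc_5_2 lc_a_rc_2_2 lc_a_rc_2_2 lc_a_rc_3_2 lc_a_rc_7_2 lc_a_rc_6_2 lc_a_rc_3_2) (@D3.rec (fun _ => (Cert rels S Gen.a)) lc_a_rc_7_2 lc_a_rc_7_2 lc_a_rc_3_2 lc_a_rc_5_2 lc_a_rc_3_2 lc_a_rc_5_2 lc_a_rc_3_2 lc_a_rc_4_2 lc_a_rc_8_2 lc_a_rc_2_2 lc_a_rc_8_2 lc_a_rc_5_2 lc_a_rc_2_2 lc_a_rc_3_2 lc_a_rc_8_2 lc_a_rc_5_2 lc_a_rc_2_2 lc_a_rc_3_2 lc_a_rc_6_2 lc_a_rc_8_2 lc_a_rc_5_2 lc_a_rc_5_2 lc_a_rc_3_2 lc_a_rc_2_2 lc_a_rc_3_2 lc_a_rc_4_2 lc_a_rc_7_2 lc_a_rc_3_2 lc_a_rc_4_2 lc_a_rc_3_2 lc_a_rc_3_2 lc_a_rc_2_0) (@D3.rec (fun _ => (Cert rels S Gen.a)) lc_a_rc_3_2 lc_a_rc_46_42 lc_a_rc_2_2 lc_a_rc_1_2 lc_a_rc_2_2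 lc_a_rc_1_2 lc_a_rc_4_2 lc_a_rc_1_4 lc_a_rc_3_2 lc_a_rc_4_2 lc_a_rc_2_2 lc_a_rc_2_2 lc_a_rc_4_2 lc_a_rc_1_2 lc_a_rc_2_0 lc_a_rc_0_0 lc_a_rc_3_2 lc_a_rc_8_2 lc_a_rc_46_7 lc_a_rc_4_2 lc_a_rc_3_2 lc_a_rc_4_0 lc_a_rc_2_2 lc_a_rc_8_2 lc_a_rc_0_1 lc_a_rc_4_2 lc_a_rc_8_2 lc_a_rc_2_0 lc_a_rc_2_2 lc_a_rc_6_2 lc_a_rc_4_2 lc_a_rc_5_2) (@D3.rec (fun _ => (Cert rels S Gen.a)) lc_a_rc_2_2 lc_a_rc_2_2 lc_a_rc_6_2 lc_a_rc_2_2 lc_a_rc_3_2 lc_a_rc_3_2 lc_a_rc_2_2 lc_a_rc_3_2 lc_a_rc_4_2 lc_a_rc_3_2 lc_a_Cert_tree lc_a_rc_4_2 lc_a_rc_3_2 lc_a_rc_6_2 lc_a_rc_4_2 lc_a_rc_5_2 lc_a_rc_2_2 lc_a_rc_2_2 lc_a_rc_0_0 lc_a_rc_1_2 lc_a_rc_0_0 lc_a_rc_4_2 lc_a_rc_8_2 lc_a_rc_3_2 lc_a_rc_2_2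 lc_a_rc_2_2 lc_a_rc_2_2 lc_a_rc_6_2 lc_a_rc_1_2 lc_a_rc_1_2 lc_a_rc_3_2 lc_a_rc_2_2) (@D3.rec (fun _ => (Cert rels S Gen.a)) lc_a_rc_2_2 lc_a_rc_2_2 lc_a_rc_3_2 lc_a_rc_1_2 lc_a_rc_1_2 lc_a_rc_4_2 lc_a_rc_8_2 lc_a_rc_3_2 lc_a_rc_6_2 lc_a_rc_8_2 lc_a_rc_5_2 lc_a_rc_3_2 lc_a_rc_5_2 lc_a_rc_3_2 lc_a_rc_2_2 lc_a_rc_2_2 lc_a_rc_2_2 lc_a_rc_3_2 lc_a_rc_1_2 lc_a_rc_1_2 lc_a_rc_3_2 lc_a_rc_3_2 lc_a_rc_5_2 lc_a_rc_3_2 lc_a_rc_2_2 lc_a_rc_2_2 lc_a_rc_8_2 lc_a_rc_2_2 lc_a_rc_1_2 lc_a_rc_5_2 lc_a_rc_4_2 lc_a_rc_3_2) (@D3.rec (fun _ => (Cert rels S Gen.a)) lc_a_rc_5_2 lc_a_rc_3_2 lc_a_rc_8_2 lc_a_rc_5_2 lc_a_rc_2_2 lc_a_rc_2_2 lc_a_rc_3_2 lc_a_rc_4_2 lc_a_rc_1_2 lc_a_rc_3_2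 lc_a_rc_2_2 lc_a_rc_4_2 lc_a_rc_3_2 lc_a_rc_4_0 lc_a_rc_2_0 lc_a_rc_2_2 lc_a_rc_8_2 lc_a_rc_8_2 lc_a_rc_4_2 lc_a_rc_8_2 lc_a_rc_1_2 lc_a_rc_8_2 lc_a_rc_5_2 lc_a_rc_2_2 lc_a_rc_2_2 lc_a_rc_8_2 lc_a_rc_8_2 lc_a_rc_7_2 lc_a_rc_6_2 lc_a_rc_6_2 lc_a_rc_8_2 lc_a_rc_5_2) (@D3.rec (fun _ => (Cert rels S Gen.a)) lc_a_rc_1_2 lc_a_rc_8_2 lc_a_rc_5_2 lc_a_rc_2_2 lc_a_rc_2_2 lc_a_rc_3_2 lc_a_rc_7_2 lc_a_rc_3_2 lc_a_rc_2_2 lc_a_rc_7_2 lc_a_rc_4_0 lc_a_rc_8_2 lc_a_rc_5_2 lc_a_rc_5_2 lc_a_rc_2_2 lc_a_rc_3_2 lc_a_rc_8_2 lc_a_rc_7_2 lc_a_rc_8_2 lc_a_rc_5_2 lc_a_rc_5_2 lc_a_rc_3_2 lc_a_rc_2_2 lc_a_rc_3_2 lc_a_rc_2_2 lc_a_rc_4_2 lc_a_rc_3_2 lc_a_rc_3_2 lc_a_rc_4_2 lc_a_rc_5_2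 lc_a_rc_4_2 lc_a_rc_5_2) (@D3.rec (fun _ => (Cert rels S Gen.a)) lc_a_rc_0_0 lc_a_rc_4_2 lc_a_rc_8_2 lc_a_rc_6_2 lc_a_rc_4_2 lc_a_rc_5_2 lc_a_rc_7_2 lc_a_rc_6_2 lc_a_rc_5_2 lc_a_rc_8_2 lc_a_rc_3_2 lc_a_rc_6_2 lc_a_rc_8_2 lc_a_rc_5_2 lc_a_rc_3_2 lc_a_rc_5_2 lc_a_rc_3_2 lc_a_rc_7_2 lc_a_rc_8_2 lc_a_rc_5_2 lc_a_rc_2_2 lc_a_rc_2_2 lc_a_rc_2_2 lc_a_rc_2_2 lc_a_rc_2_2 lc_a_rc_2_2 lc_a_rc_2_2 lc_a_rc_2_2 lc_a_rc_2_2 lc_a_rc_3_2 lc_a_rc_4_2 lc_a_rc_1_2) (@D3.rec (fun _ => (Cert rels S Gen.a)) lc_a_rc_1_2 lc_a_rc_2_2 lc_a_rc_1_0 lc_a_rc_1_0 lc_a_rc_1_0 lc_a_rc_1_0 lc_a_rc_1_0 lc_a_rc_1_0 lc_a_rc_1_0 lc_a_rc_2_2 lc_a_rc_3_2 lc_a_rc_4_2 lc_a_rc_1_2 lc_a_rc_3_2 lc_a_rc_2_2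 lc_a_rc_1_0 lc_a_rc_1_0 lc_a_rc_1_0 lc_a_rc_1_0 lc_a_rc_1_0 lc_a_rc_1_0 lc_a_rc_1_0 lc_a_rc_1_0 lc_a_rc_2_2 lc_a_rc_1_0 lc_a_rc_5_0 lc_a_rc_5_2 lc_a_rc_5_2 lc_a_rc_8_2 lc_a_rc_5_2 lc_a_rc_3_2 lc_a_rc_7_2) (@D3.rec (fun _ => (Cert rels S Gen.a)) lc_a_rc_8_2 lc_a_rc_5_2 lc_a_rc_8_2 lc_a_rc_5_2 lc_a_rc_3_2 lc_a_rc_2_2 lc_a_rc_3_2 lc_a_rc_2_2 lc_a_rc_4_2 lc_a_rc_6_2 lc_a_rc_8_2 lc_a_rc_5_2 lc_a_rc_3_2 lc_a_rc_5_2 lc_a_rc_3_2 lc_a_rc_46_21 lc_a_rc_4_2 lc_a_rc_4_2 lc_a_rc_4_2 lc_a_rc_6_2 lc_a_rc_4_2 lc_a_rc_5_2 lc_a_rc_3_2 lc_a_rc_2_2 lc_a_rc_1_2 lc_a_rc_3_2 lc_a_rc_5_2 lc_a_rc_2_2 lc_a_rc_3_2 lc_a_rc_5_2 lc_a_rc_2_2 lc_a_rc_4_2) (@D3.rec (fun _ => (Cert rels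 S Gen.a)) lc_a_rc_3_2 lc_a_rc_5_2 lc_a_rc_3_2 lc_a_rc_8_2 lc_a_rc_5_2 lc_a_rc_2_2 lc_a_rc_2_2 lc_a_rc_3_2 lc_a_rc_4_2 lc_a_rc_1_2 lc_a_rc_4_2 lc_a_rc_3_2 lc_a_rc_2_2 lc_a_rc_2_2 lc_a_rc_5_2 lc_a_rc_46_21 lc_a_rc_2_2 lc_a_rc_46_35 lc_a_rc_2_2 lc_a_rc_0_0 lc_a_rc_4_2 lc_a_rc_2_2 lc_a_rc_2_2 lc_a_rc_2_2 lc_a_rc_2_2 lc_a_rc_6_2 lc_a_rc_5_2 lc_a_rc_3_2 lc_a_rc_5_2 lc_a_rc_8_2 lc_a_rc_2_2 lc_a_rc_8_2) (@D3.rec (fun _ => (Cert rels S Gen.a)) lc_a_rc_5_2 lc_a_rc_4_2 lc_a_rc_3_2 lc_a_rc_5_2 lc_a_rc_8_2 lc_a_rc_4_2 lc_a_rc_3_2 lc_a_rc_5_2 lc_a_rc_8_2 lc_a_rc_4_2 lc_a_rc_46_35 lc_a_rc_8_2 lc_a_rc_46_28 lc_a_rc_8_2 lc_a_rc_5_2 lc_a_rc_2_2 lc_a_rc_3_2 lc_a_rc_0_1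 lc_a_rc_4_2 lc_a_rc_46_42 lc_a_rc_3_0 lc_a_rc_7_2 lc_a_rc_6_2 lc_a_rc_4_2 lc_a_rc_5_2 lc_a_rc_5_2 lc_a_rc_5_2 lc_a_rc_5_2 lc_a_rc_7_2 lc_a_rc_6_2 lc_a_rc_3_2 lc_a_rc_4_2) (@D3.rec (fun _ => (Cert rels S Gen.a)) lc_a_rc_3_2 lc_a_rc_1_0 lc_a_rc_5_2 lc_a_rc_5_2 lc_a_rc_5_2 lc_a_rc_2_2 lc_a_rc_3_2 lc_a_rc_3_2 lc_a_rc_4_2 lc_a_rc_6_2 lc_a_rc_46_42 lc_a_rc_5_2 lc_a_rc_5_2 lc_a_rc_1_0 lc_a_rc_3_2 lc_a_rc_46_35 lc_a_rc_3_2 lc_a_rc_4_2 lc_a_rc_3_2 lc_a_rc_0_1 lc_a_rc_2_2 lc_a_rc_2_2 lc_a_rc_1_2 lc_a_rc_1_2 lc_a_rc_0_1 lc_a_rc_0_1 lc_a_rc_3_2 lc_a_rc_2_2 lc_a_rc_2_2 lc_a_rc_2_2 lc_a_rc_1_2 lc_a_rc_1_2) (@D3.rec (fun _ => (Cert rels S Gen.a)) lc_a_rc_3_2 lc_a_rc_5_2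 lc_a_rc_3_2 lc_a_rc_2_2 lc_a_rc_2_2 lc_a_rc_2_2 lc_a_rc_3_2 lc_a_rc_1_2 lc_a_rc_1_2 lc_a_rc_3_2 lc_a_rc_4_2 lc_a_rc_3_2 lc_a_rc_5_2 lc_a_rc_3_2 lc_a_rc_2_2 lc_a_rc_2_2 lc_a_rc_1_2 lc_a_rc_3_2 lc_a_rc_0_1 lc_a_rc_2_2 lc_a_rc_8_2 lc_a_rc_0_1 lc_a_rc_5_2 lc_a_rc_2_2 lc_a_rc_3_2 lc_a_rc_6_2 lc_a_rc_3_2 lc_a_rc_7_2 lc_a_rc_3_2 lc_a_rc_2_2 lc_a_rc_3_2 lc_a_rc_4_2)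
def ce_a_11 : D2 → D3 → (Cert rels S Gen.a) := @D2.rec (fun _ => D3 → (Cert rels S Gen.a)) (@D3.rec (fun _ => (Cert rels S Gen.a)) lc_a_rc_3_2 lc_a_rc_3_2 lc_a_rc_3_2 lc_a_rc_4_2 lc_a_rc_3_2 lc_a_rc_2_2 lc_a_rc_46_28 lc_a_rc_4_2 lc_a_rc_3_2 lc_a_rc_6_2 lc_a_rc_4_2 lc_a_rc_5_2 lc_a_rc_3_2 lc_a_rc_5_2 lc_a_rc_2_2 lc_a_rc_2_2 lc_a_rc_6_2 lc_a_rc_1_2 lc_a_rc_3_2 lc_a_rc_5_2 lc_a_rc_3_2 lc_a_rc_4_2 lc_a_rc_2_2 lc_a_rc_2_2 lc_a_rc_3_2 lc_a_rc_3_2 lc_a_rc_1_2 lc_a_rc_3_2 lc_a_rc_4_2 lc_a_rc_3_2 lc_a_rc_5_2 lc_a_rc_3_2) (@D3.rec (fun _ => (Cert rels S Gen.a)) lc_a_rc_8_2 lc_a_rc_5_2 lc_a_rc_2_2 lc_a_rc_2_2 lc_a_rc_3_2 lc_a_rc_4_2 lc_a_rc_1_2 lc_a_rc_3_2 lc_a_rc_2_2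 lc_a_rc_4_2 lc_a_rc_3_2 lc_a_rc_46_14 lc_a_rc_2_0 lc_a_rc_2_2 lc_a_rc_0_0 lc_a_rc_1_2 lc_a_rc_2_2 lc_a_rc_3_0 lc_a_rc_8_2 lc_a_rc_3_2 lc_a_rc_7_2 lc_a_rc_3_2 lc_a_rc_2_2 lc_a_rc_3_2 lc_a_rc_2_2 lc_a_rc_4_2 lc_a_Cert_tree lc_a_rc_46_56 lc_a_rc_3_2 lc_a_rc_3_2 lc_a_rc_2_2 lc_a_rc_4_2) (@D3.rec (fun _ => (Cert rels S Gen.a)) lc_a_Cert_tree lc_a_rc_0_0 lc_a_rc_7_2 lc_a_rc_6_2 lc_a_rc_5_2 lc_a_rc_1_0 lc_a_rc_1_0 lc_a_rc_1_0 lc_a_rc_1_0 lc_a_rc_1_0 lc_a_rc_1_0 lc_a_rc_1_0 lc_a_rc_1_0 lc_a_rc_2_2 lc_a_rc_1_0 lc_a_rc_1_2 lc_a_rc_2_2 lc_a_rc_1_2 lc_a_Cert_tree lc_a_rc_5_2 lc_a_rc_5_2 lc_a_rc_8_2 lc_a_rc_5_2 lc_a_rc_3_2 lc_a_rc_3_2 lc_a_rc_4_2 lc_a_rc_1_2 lc_a_rc_0_0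 lc_a_rc_1_2 lc_a_rc_1_2 lc_a_rc_1_2 lc_a_rc_1_2) (@D3.rec (fun _ => (Cert rels S Gen.a)) lc_a_rc_8_2 lc_a_rc_1_4 lc_a_rc_5_2 lc_a_rc_3_2 lc_a_rc_4_2 lc_a_rc_3_2 lc_a_rc_1_2 lc_a_rc_1_2 lc_a_rc_2_2 lc_a_rc_1_2 lc_a_rc_1_2 lc_a_Cert_tree lc_a_rc_2_2 lc_a_rc_2_2 lc_a_rc_1_2 lc_a_rc_1_2 lc_a_rc_1_2 lc_a_rc_2_2 lc_a_rc_1_2 lc_a_rc_1_2 lc_a_Cert_tree lc_a_rc_2_2 lc_a_rc_2_2 lc_a_rc_1_2 lc_a_rc_1_2 lc_a_rc_0_0 lc_a_rc_4_2 lc_a_rc_8_2 lc_a_rc_3_2 lc_a_rc_2_2 lc_a_rc_2_2 lc_a_rc_2_2) (@D3.rec (fun _ => (Cert rels S Gen.a)) lc_a_rc_1_2 lc_a_rc_1_2 lc_a_rc_1_2 lc_a_rc_1_2 lc_a_rc_3_2 lc_a_rc_5_2 lc_a_rc_3_2 lc_a_rc_2_2 lc_a_rc_2_2 lc_a_rc_2_2 lc_a_rc_1_2 lc_a_rc_1_2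 lc_a_rc_3_2 lc_a_rc_4_2 lc_a_rc_3_2 lc_a_rc_2_2 lc_a_rc_1_2 lc_a_rc_8_2 lc_a_rc_46_28 lc_a_rc_2_2 lc_a_rc_8_2 lc_a_rc_8_2 lc_a_rc_0_0 lc_a_rc_1_2 lc_a_rc_8_2 lc_a_rc_2_2 lc_a_rc_2_2 lc_a_rc_8_2 lc_a_rc_8_2 lc_a_rc_6_2 lc_a_rc_2_2 lc_a_rc_4_2) (@D3.rec (fun _ => (Cert rels S Gen.a)) lc_a_rc_5_2 lc_a_rc_0_0 lc_a_rc_8_2 lc_a_rc_2_2 lc_a_rc_5_2 lc_a_rc_4_2 lc_a_rc_8_2 lc_a_rc_6_2 lc_a_rc_8_2 lc_a_rc_5_2 lc_a_rc_2_2 lc_a_rc_2_2 lc_a_rc_3_2 lc_a_rc_7_2 lc_a_rc_6_2 lc_a_rc_3_2 lc_a_rc_3_2 lc_a_rc_3_2 lc_a_rc_2_2 lc_a_rc_4_2 lc_a_rc_6_2 lc_a_rc_8_2 lc_a_rc_46_49 lc_a_rc_3_2 lc_a_rc_5_2 lc_a_rc_3_2 lc_a_rc_4_2 lc_a_rc_8_2 lc_a_rc_2_2 lc_a_rc_8_2 lc_a_rc_8_2 lc_a_rc_5_2)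 (@D3.rec (fun _ => (Cert rels S Gen.a)) lc_a_rc_2_2 lc_a_rc_3_2 lc_a_rc_8_2 lc_a_rc_3_2 lc_a_rc_2_2 lc_a_rc_5_2 lc_a_rc_8_2 lc_a_rc_5_2 lc_a_rc_3_2 lc_a_rc_3_2 lc_a_rc_8_2 lc_a_rc_5_2 lc_a_rc_5_2 lc_a_rc_3_2 lc_a_rc_2_2 lc_a_rc_4_2 lc_a_rc_7_2 lc_a_rc_3_2 lc_a_rc_2_2 lc_a_rc_4_2 lc_a_Cert_tree lc_a_rc_3_2 lc_a_rc_46_35 lc_a_rc_2_2 lc_a_rc_46_35 lc_a_rc_3_2 lc_a_Cert_tree lc_a_rc_4_2 lc_a_rc_3_2 lc_a_rc_6_2 lc_a_rc_4_2 lc_a_rc_5_2) (@D3.rec (fun _ => (Cert rels S Gen.a)) lc_a_rc_4_2 lc_a_rc_2_2 lc_a_rc_1_2 lc_a_rc_46_42 lc_a_rc_2_2 lc_a_rc_2_2 lc_a_rc_1_2 lc_a_rc_1_2 lc_a_rc_0_0 lc_a_rc_7_2 lc_a_rc_8_2 lc_a_rc_3_2 lc_a_rc_2_2 lc_a_rc_2_2 lc_a_rc_2_2 lc_a_rc_5_2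 lc_a_rc_1_2 lc_a_rc_1_2 lc_a_rc_2_2 lc_a_rc_2_2 lc_a_rc_1_2 lc_a_rc_1_2 lc_a_rc_0_0 lc_a_rc_5_2 lc_a_rc_8_2 lc_a_rc_4_2 lc_a_rc_3_0 lc_a_rc_2_2 lc_a_rc_2_2 lc_a_rc_4_2 lc_a_rc_6_2 lc_a_rc_1_2) (@D3.rec (fun _ => (Cert rels S Gen.a)) lc_a_rc_4_2 lc_a_rc_8_2 lc_a_rc_3_2 lc_a_rc_6_2 lc_a_rc_8_2 lc_a_rc_5_2 lc_a_rc_3_2 lc_a_rc_5_2 lc_a_rc_3_2 lc_a_rc_2_2 lc_a_rc_2_2 lc_a_rc_2_2 lc_a_rc_3_2 lc_a_rc_1_2 lc_a_rc_1_2 lc_a_rc_3_2 lc_a_rc_0_0 lc_a_rc_2_0 lc_a_rc_0_0 lc_a_rc_5_0 lc_a_rc_5_2 lc_a_rc_6_2 lc_a_rc_1_2 lc_a_rc_3_2 lc_a_rc_4_2 lc_a_rc_3_2 lc_a_rc_5_2 lc_a_rc_3_2 lc_a_rc_8_2 lc_a_rc_5_2 lc_a_rc_2_2 lc_a_rc_4_2) (@D3.rec (fun _ => (Cert rels S Gen.a)) lc_a_rc_3_2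 lc_a_rc_4_2 lc_a_rc_1_2 lc_a_rc_3_2 lc_a_rc_2_2 lc_a_rc_46_7 lc_a_rc_46_35 lc_a_rc_2_2 lc_a_rc_8_2 lc_a_rc_0_0 lc_a_rc_2_2 lc_a_rc_8_2 lc_a_rc_8_2 lc_a_rc_1_2 lc_a_rc_7_2 lc_a_rc_5_2 lc_a_rc_2_2 lc_a_rc_2_2 lc_a_rc_8_2 lc_a_rc_8_2 lc_a_rc_3_2 lc_a_rc_5_2 lc_a_rc_8_2 lc_a_rc_8_2 lc_a_rc_5_2 lc_a_rc_2_2 lc_a_rc_7_2 lc_a_rc_6_2 lc_a_rc_3_2 lc_a_rc_6_2 lc_a_rc_8_2 lc_a_rc_5_2) (@D3.rec (fun _ => (Cert rels S Gen.a)) lc_a_rc_1_2 lc_a_rc_8_2 lc_a_rc_5_2 lc_a_rc_2_2 lc_a_rc_2_2 lc_a_rc_3_2 lc_a_rc_7_2 lc_a_rc_3_2 lc_a_rc_2_2 lc_a_rc_3_2 lc_a_rc_2_2 lc_a_rc_2_2 lc_a_Cert_tree lc_a_rc_3_2 lc_a_rc_5_2 lc_a_rc_2_2 lc_a_rc_3_2 lc_a_rc_8_2 lc_a_rc_3_2 lc_a_rc_2_2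 lc_a_rc_3_2 lc_a_rc_5_2 lc_a_rc_3_2 lc_a_rc_7_2 lc_a_rc_3_2 lc_a_rc_2_2 lc_a_rc_8_2 lc_a_rc_5_2 lc_a_rc_5_2 lc_a_rc_3_2 lc_a_rc_2_2 lc_a_rc_3_2) (@D3.rec (fun _ => (Cert rels S Gen.a)) lc_a_rc_2_2 lc_a_rc_2_2 lc_a_Cert_tree lc_a_rc_2_2 lc_a_rc_4_2 lc_a_rc_0_0 lc_a_rc_3_2 lc_a_rc_2_0 lc_a_rc_4_2 lc_a_rc_3_2 lc_a_rc_6_2 lc_a_rc_4_2 lc_a_rc_5_2 lc_a_rc_0_0 lc_a_rc_4_2 lc_a_rc_8_2 lc_a_rc_4_2 lc_a_rc_5_2 lc_a_rc_7_2 lc_a_rc_6_2 lc_a_rc_5_2 lc_a_rc_8_2 lc_a_rc_8_2 lc_a_rc_6_0 lc_a_rc_8_2 lc_a_rc_8_2 lc_a_rc_1_2 lc_a_rc_3_2 lc_a_rc_3_2 lc_a_rc_2_2 lc_a_rc_1_2 lc_a_rc_6_0) (@D3.rec (fun _ => (Cert rels S Gen.a)) lc_a_rc_2_2 lc_a_rc_1_2 lc_a_rc_0_0 lc_a_rc_8_2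 lc_a_rc_3_2 lc_a_rc_2_2 lc_a_rc_2_2 lc_a_rc_1_2 lc_a_rc_3_2 lc_a_rc_4_2 lc_a_rc_6_0 lc_a_rc_2_2 lc_a_rc_8_2 lc_a_rc_5_2 lc_a_rc_3_2 lc_a_rc_8_0 lc_a_rc_3_2 lc_a_rc_5_2 lc_a_rc_3_2 lc_a_rc_4_2 lc_a_rc_3_2 lc_a_rc_5_2 lc_a_rc_3_2 lc_a_rc_3_2 lc_a_rc_3_2 lc_a_rc_2_2 lc_a_rc_3_2 lc_a_rc_4_2 lc_a_rc_3_2 lc_a_Cert_tree lc_a_rc_4_2 lc_a_rc_3_2) (@D3.rec (fun _ => (Cert rels S Gen.a)) lc_a_rc_6_2 lc_a_rc_4_2 lc_a_rc_5_2 lc_a_rc_0_0 lc_a_rc_8_2 lc_a_rc_5_2 lc_a_rc_2_2 lc_a_rc_1_2 lc_a_rc_0_0 lc_a_rc_4_2 lc_a_rc_8_2 lc_a_rc_3_2 lc_a_rc_2_2 lc_a_rc_2_2 lc_a_rc_2_2 lc_a_rc_1_2 lc_a_rc_1_2 lc_a_rc_4_2 lc_a_rc_3_0 lc_a_rc_0_0 lc_a_rc_0_0 lc_a_rc_4_2 lc_a_rc_8_2 lc_a_rc_3_2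 lc_a_rc_2_2 lc_a_rc_2_2 lc_a_rc_2_2 lc_a_rc_1_2 lc_a_rc_1_2 lc_a_rc_4_2 lc_a_rc_8_2 lc_a_rc_3_2) (@D3.rec (fun _ => (Cert rels S Gen.a)) lc_a_rc_5_2 lc_a_rc_8_2 lc_a_rc_5_2 lc_a_rc_3_2 lc_a_rc_5_2 lc_a_rc_3_2 lc_a_rc_2_2 lc_a_rc_2_2 lc_a_rc_2_2 lc_a_rc_3_2 lc_a_rc_1_2 lc_a_rc_1_2 lc_a_rc_3_2 lc_a_rc_3_2 lc_a_rc_5_2 lc_a_rc_3_2 lc_a_rc_2_2 lc_a_rc_2_2 lc_a_rc_1_2 lc_a_rc_4_2 lc_a_rc_3_2 lc_a_rc_5_2 lc_a_rc_3_2 lc_a_rc_8_2 lc_a_rc_5_2 lc_a_rc_2_2 lc_a_rc_2_2 lc_a_rc_3_2 lc_a_rc_4_2 lc_a_rc_1_2 lc_a_rc_3_2 lc_a_rc_2_2) (@D3.rec (fun _ => (Cert rels S Gen.a)) lc_a_rc_4_2 lc_a_rc_3_2 lc_a_rc_2_2 lc_a_rc_8_2 lc_a_rc_8_2 lc_a_rc_2_2 lc_a_rc_8_2 lc_a_rc_4_2 lc_a_rc_5_2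 lc_a_rc_2_2 lc_a_rc_3_2 lc_a_rc_8_2 lc_a_rc_5_2 lc_a_rc_8_2 lc_a_rc_5_2 lc_a_rc_2_2 lc_a_rc_3_2 lc_a_rc_6_2 lc_a_rc_8_2 lc_a_rc_5_2 lc_a_rc_6_2 lc_a_rc_5_2 lc_a_rc_3_2 lc_a_rc_2_2 lc_a_rc_3_2 lc_a_rc_4_2 lc_a_rc_7_2 lc_a_rc_3_2 lc_a_rc_3_2 lc_a_rc_4_2 lc_a_rc_3_2 lc_a_rc_2_2) (@D3.rec (fun _ => (Cert rels S Gen.a)) lc_a_rc_1_2 lc_a_rc_3_2 lc_a_rc_5_2 lc_a_rc_3_2 lc_a_rc_3_2 lc_a_rc_3_2 lc_a_rc_4_2 lc_a_rc_5_2 lc_a_rc_3_2 lc_a_rc_3_2 lc_a_rc_3_2 lc_a_rc_3_2 lc_a_rc_0_0 lc_a_rc_3_2 lc_a_rc_2_0 lc_a_rc_5_2 lc_a_rc_8_2 lc_a_rc_2_2 lc_a_rc_2_2 lc_a_rc_46_35 lc_a_rc_5_0 lc_a_rc_4_2 lc_a_rc_5_2 lc_a_rc_1_2 lc_a_rc_0_0 lc_a_rc_3_2 lc_a_rc_0_1 lc_a_rc_2_2 lc_a_rc_3_2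 lc_a_rc_0_1 lc_a_rc_4_2 lc_a_rc_46_21) (@D3.rec (fun _ => (Cert rels S Gen.a)) lc_a_rc_3_2 lc_a_rc_3_2 lc_a_rc_5_2 lc_a_rc_2_2 lc_a_rc_7_2 lc_a_rc_0_0 lc_a_rc_2_2 lc_a_rc_6_0 lc_a_rc_2_2 lc_a_rc_8_2 lc_a_rc_0_1 lc_a_rc_0_1 lc_a_rc_0_1 lc_a_rc_2_2 lc_a_rc_3_2 lc_a_rc_3_2 lc_a_rc_3_2 lc_a_rc_4_2 lc_a_rc_3_2 lc_a_rc_4_2 lc_a_rc_5_2 lc_a_rc_0_0 lc_a_rc_4_2 lc_a_rc_8_2 lc_a_rc_4_2 lc_a_rc_6_2 lc_a_rc_4_2 lc_a_rc_5_2 lc_a_rc_3_2 lc_a_rc_6_2 lc_a_rc_5_2 lc_a_rc_46_35) (@D3.rec (fun _ => (Cert rels S Gen.a)) lc_a_rc_0_0 lc_a_rc_2_2 lc_a_rc_4_2 lc_a_rc_8_2 lc_a_rc_3_2 lc_a_rc_1_4 lc_a_rc_8_2 lc_a_rc_5_2 lc_a_rc_3_2 lc_a_rc_5_2 lc_a_rc_3_2 lc_a_rc_6_2 lc_a_rc_2_2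 lc_a_rc_2_2 lc_a_rc_3_2 lc_a_rc_6_2 lc_a_rc_1_2 lc_a_rc_3_2 lc_a_rc_5_2 lc_a_rc_3_2 lc_a_rc_2_2 lc_a_rc_2_2 lc_a_rc_2_2 lc_a_rc_3_2 lc_a_rc_1_2 lc_a_rc_1_2 lc_a_rc_3_2 lc_a_rc_6_2 lc_a_rc_8_2 lc_a_rc_5_2 lc_a_rc_3_2 lc_a_rc_5_2) (@D3.rec (fun _ => (Cert rels S Gen.a)) lc_a_rc_3_2 lc_a_rc_1_4 lc_a_rc_8_2 lc_a_rc_5_2 lc_a_rc_3_2 lc_a_rc_4_2 lc_a_rc_3_2 lc_a_rc_5_2 lc_a_rc_3_2 lc_a_rc_8_2 lc_a_rc_5_2 lc_a_rc_2_2 lc_a_rc_2_2 lc_a_rc_3_2 lc_a_rc_4_2 lc_a_rc_1_2 lc_a_rc_3_2 lc_a_rc_2_2 lc_a_rc_4_2 lc_a_rc_3_2 lc_a_rc_5_2 lc_a_rc_3_2 lc_a_rc_8_2 lc_a_rc_5_2 lc_a_rc_2_2 lc_a_rc_8_2 lc_a_rc_8_2 lc_a_rc_2_2 lc_a_rc_5_2 lc_a_rc_4_2 lc_a_rc_3_2 lc_a_rc_8_2) (@D3.rec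 (fun _ => (Cert rels S Gen.a)) lc_a_rc_5_2 lc_a_rc_8_2 lc_a_rc_5_2 lc_a_rc_2_2 lc_a_rc_3_2 lc_a_rc_2_2 lc_a_rc_4_2 lc_a_rc_2_2 lc_a_rc_6_2 lc_a_rc_2_0 lc_a_rc_2_0 lc_a_rc_0_0 lc_a_rc_8_2 lc_a_rc_5_2 lc_a_rc_1_2 lc_a_rc_5_2 lc_a_rc_2_2 lc_a_rc_3_2 lc_a_rc_8_2 lc_a_rc_7_2 lc_a_rc_8_2 lc_a_rc_5_2 lc_a_rc_1_2 lc_a_rc_5_2 lc_a_rc_3_2 lc_a_rc_2_2 lc_a_rc_3_2 lc_a_rc_2_2 lc_a_rc_0_1 lc_a_rc_5_2 lc_a_rc_3_2 lc_a_rc_3_2) (@D3.rec (fun _ => (Cert rels S Gen.a)) lc_a_rc_5_2 lc_a_rc_3_2 lc_a_rc_3_2 lc_a_rc_46_14 lc_a_rc_6_2 lc_a_rc_4_2 lc_a_rc_5_2 lc_a_rc_5_2 lc_a_rc_5_2 lc_a_rc_5_2 lc_a_rc_4_2 lc_a_rc_8_2 lc_a_rc_6_2 lc_a_rc_8_2 lc_a_rc_5_2 lc_a_rc_7_2 lc_a_rc_6_2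 lc_a_rc_5_2 lc_a_rc_7_2 lc_a_rc_6_2 lc_a_rc_3_2 lc_a_rc_3_2 lc_a_rc_5_2 lc_a_rc_3_2 lc_a_rc_7_2 lc_a_rc_8_2 lc_a_rc_5_2 lc_a_rc_4_2 lc_a_rc_3_2 lc_a_rc_5_2 lc_a_rc_3_2 lc_a_rc_8_2)
def ce_a_12 : D2 → D3 → (Cert rels S Gen.a) := @D2.rec (fun _ => D3 → (Cert rels S Gen.a)) (@D3.rec (fun _ => (Cert rels S Gen.a)) lc_a_rc_5_2 lc_a_rc_8_2 lc_a_rc_5_2 lc_a_rc_3_2 lc_a_rc_4_2 lc_a_rc_2_2 lc_a_rc_2_2 lc_a_rc_2_2 lc_a_rc_2_2 lc_a_rc_2_2 lc_a_rc_3_2 lc_a_rc_2_2 lc_a_rc_3_2 lc_a_rc_3_2 lc_a_rc_4_2 lc_a_rc_6_2 lc_a_rc_2_2 lc_a_rc_1_0 lc_a_rc_1_0 lc_a_rc_1_0 lc_a_rc_1_0 lc_a_rc_1_0 lc_a_rc_3_2 lc_a_rc_2_2 lc_a_rc_3_2 lc_a_rc_3_2 lc_a_rc_4_2 lc_a_rc_6_2 lc_a_rc_7_2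 lc_a_rc_1_0 lc_a_rc_1_0 lc_a_rc_1_0) (@D3.rec (fun _ => (Cert rels S Gen.a)) lc_a_rc_1_0 lc_a_rc_1_0 lc_a_rc_2_2 lc_a_rc_1_0 lc_a_rc_1_0 lc_a_rc_8_2 lc_a_rc_5_0 lc_a_rc_8_2 lc_a_rc_5_2 lc_a_rc_3_2 lc_a_rc_5_2 lc_a_rc_3_2 lc_a_rc_2_2 lc_a_rc_0_0 lc_a_rc_3_2 lc_a_rc_5_2 lc_a_rc_3_2 lc_a_rc_4_2 lc_a_rc_6_2 lc_a_rc_5_2 lc_a_rc_3_2 lc_a_rc_5_2 lc_a_rc_2_2 lc_a_rc_4_2 lc_a_rc_3_2 lc_a_rc_5_2 lc_a_rc_8_2 lc_a_rc_4_2 lc_a_rc_3_2 lc_a_rc_5_2 lc_a_rc_8_2 lc_a_rc_8_2) (@D3.rec (fun _ => (Cert rels S Gen.a)) lc_a_rc_8_2 lc_a_rc_5_2 lc_a_rc_2_2 lc_a_rc_3_2 lc_a_rc_4_2 lc_a_rc_5_2 lc_a_rc_2_2 lc_a_rc_2_0 lc_a_rc_3_2 lc_a_rc_6_0 lc_a_rc_2_2 lc_a_rc_8_2 lc_a_rc_4_2 lc_a_rc_8_2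 lc_a_rc_6_2 lc_a_rc_3_2 lc_a_rc_4_2 lc_a_rc_3_2 lc_a_rc_5_2 lc_a_rc_8_2 lc_a_rc_8_2 lc_a_rc_2_2 lc_a_rc_8_2 lc_a_rc_8_2 lc_a_rc_8_2 lc_a_rc_8_2 lc_a_rc_8_2 lc_a_rc_0_1 lc_a_rc_0_1 lc_a_rc_3_2 lc_a_rc_46_35 lc_a_rc_4_2) (@D3.rec (fun _ => (Cert rels S Gen.a)) lc_a_rc_6_2 lc_a_rc_5_2 lc_a_rc_3_2 lc_a_rc_3_2 lc_a_rc_3_2 lc_a_rc_2_2 lc_a_rc_5_2 lc_a_rc_5_2 lc_a_rc_5_2 lc_a_rc_5_2 lc_a_rc_5_0 lc_a_rc_3_2 lc_a_rc_6_2 lc_a_rc_4_2 lc_a_rc_3_2 lc_a_rc_46_35 lc_a_rc_4_2 lc_a_rc_3_2 lc_a_rc_6_2 lc_a_rc_4_2 lc_a_rc_5_2 lc_a_rc_8_2 lc_a_rc_3_2 lc_a_rc_2_2 lc_a_rc_2_2 lc_a_rc_1_2 lc_a_rc_46_28 lc_a_rc_8_2 lc_a_rc_5_2 lc_a_rc_3_2 lc_a_rc_5_2 lc_a_rc_3_2) (@D3.rec (fun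 _ => (Cert rels S Gen.a)) lc_a_rc_2_2 lc_a_rc_2_2 lc_a_rc_3_2 lc_a_rc_1_2 lc_a_rc_3_2 lc_a_rc_4_2 lc_a_rc_3_2 lc_a_rc_5_2 lc_a_rc_3_2 lc_a_rc_8_2 lc_a_rc_5_2 lc_a_rc_2_2 lc_a_rc_2_2 lc_a_rc_3_2 lc_a_rc_4_2 lc_a_rc_1_2 lc_a_rc_3_2 lc_a_rc_2_2 lc_a_rc_4_2 lc_a_rc_3_2 lc_a_rc_2_2 lc_a_rc_5_2 lc_a_rc_3_2 lc_a_rc_3_2 lc_a_rc_5_2 lc_a_rc_3_2 lc_a_rc_3_2 lc_a_rc_4_2 lc_a_rc_3_2 lc_a_rc_2_2 lc_a_Cert_tree lc_a_rc_2_2) (@D3.rec (fun _ => (Cert rels S Gen.a)) lc_a_rc_4_2 lc_a_rc_0_0 lc_a_rc_4_2 lc_a_rc_2_2 lc_a_rc_2_2 lc_a_rc_4_2 lc_a_rc_6_2 lc_a_rc_4_2 lc_a_rc_6_2 lc_a_rc_4_2 lc_a_rc_5_2 lc_a_rc_5_2 lc_a_rc_6_2 lc_a_rc_5_2 lc_a_rc_3_2 lc_a_rc_5_2 lc_a_rc_3_2 lc_a_rc_8_2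 lc_a_rc_2_2 lc_a_rc_3_2 lc_a_rc_1_2 lc_a_rc_3_2 lc_a_rc_4_2 lc_a_rc_5_0 lc_a_rc_5_2 lc_a_rc_3_2 lc_a_rc_8_2 lc_a_rc_5_2 lc_a_rc_7_2 lc_a_rc_2_2 lc_a_rc_3_2 lc_a_rc_4_2) (@D3.rec (fun _ => (Cert rels S Gen.a)) lc_a_rc_0_1 lc_a_rc_3_2 lc_a_rc_2_2 lc_a_rc_4_2 lc_a_rc_3_2 lc_a_rc_8_2 lc_a_rc_5_2 lc_a_rc_8_2 lc_a_rc_5_2 lc_a_rc_2_2 lc_a_rc_3_2 lc_a_rc_2_2 lc_a_rc_4_2 lc_a_rc_1_2 lc_a_rc_2_2 lc_a_rc_8_2 lc_a_Cert_tree lc_a_rc_0_0 lc_a_rc_0_0 lc_a_rc_2_2 lc_a_rc_4_2 lc_a_rc_2_2 lc_a_rc_0_0 lc_a_rc_3_2 lc_a_rc_3_2 lc_a_rc_2_2 lc_a_rc_4_2 lc_a_Cert_tree lc_a_rc_1_2 lc_a_rc_0_0 lc_a_rc_0_0 lc_a_rc_7_2) (@D3.rec (fun _ => (Cert rels S Gen.a)) lc_a_rc_6_2 lc_a_rc_3_2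 lc_a_rc_1_0 lc_a_rc_1_0 lc_a_rc_1_0 lc_a_rc_1_0 lc_a_rc_1_0 lc_a_rc_2_2 lc_a_rc_1_0 lc_a_rc_1_0 lc_a_rc_2_2 lc_a_rc_4_2 lc_a_Cert_tree lc_a_rc_2_2 lc_a_rc_2_2 lc_a_rc_0_0 lc_a_rc_5_0 lc_a_rc_5_2 lc_a_Cert_tree lc_a_rc_4_2 lc_a_rc_3_2 lc_a_rc_6_2 lc_a_rc_4_2 lc_a_rc_5_2 lc_a_rc_2_2 lc_a_rc_1_2 lc_a_rc_6_2 lc_a_rc_2_2 lc_a_rc_2_2 lc_a_rc_1_2 lc_a_rc_1_2 lc_a_rc_0_0) (@D3.rec (fun _ => (Cert rels S Gen.a)) lc_a_rc_3_0 lc_a_rc_8_2 lc_a_rc_3_2 lc_a_rc_2_2 lc_a_rc_2_2 lc_a_rc_2_2 lc_a_rc_1_2 lc_a_rc_1_2 lc_a_rc_3_0 lc_a_rc_2_2 lc_a_rc_2_2 lc_a_rc_1_2 lc_a_rc_1_2 lc_a_rc_0_0 lc_a_rc_8_2 lc_a_rc_2_2 lc_a_rc_2_2 lc_a_rc_1_2 lc_a_rc_4_2 lc_a_rc_8_2 lc_a_rc_3_2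 lc_a_rc_6_2 lc_a_rc_8_2 lc_a_rc_5_2 lc_a_rc_3_2 lc_a_rc_5_2 lc_a_rc_3_2 lc_a_rc_2_2 lc_a_rc_2_2 lc_a_rc_2_2 lc_a_rc_3_2 lc_a_rc_1_2) (@D3.rec (fun _ => (Cert rels S Gen.a)) lc_a_rc_1_2 lc_a_rc_3_2 lc_a_rc_3_2 lc_a_rc_4_2 lc_a_rc_3_2 lc_a_rc_5_2 lc_a_rc_3_2 lc_a_rc_8_2 lc_a_rc_5_2 lc_a_rc_2_2 lc_a_rc_3_2 lc_a_rc_3_2 lc_a_rc_2_2 lc_a_rc_8_2 lc_a_rc_6_2 lc_a_rc_2_2 lc_a_rc_8_2 lc_a_rc_8_2 lc_a_rc_3_2 lc_a_rc_5_2 lc_a_rc_2_2 lc_a_rc_3_2 lc_a_rc_8_2 lc_a_rc_3_2 lc_a_rc_6_2 lc_a_rc_2_2 lc_a_rc_5_2 lc_a_rc_8_2 lc_a_rc_5_2 lc_a_rc_3_2 lc_a_rc_3_2 lc_a_rc_8_2) (@D3.rec (fun _ => (Cert rels S Gen.a)) lc_a_rc_5_2 lc_a_rc_6_2 lc_a_rc_5_2 lc_a_rc_3_2 lc_a_rc_2_2 lc_a_rc_4_2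 lc_a_rc_7_2 lc_a_rc_3_2 lc_a_rc_2_2 lc_a_rc_4_2 lc_a_Cert_tree lc_a_rc_46_49 lc_a_rc_3_2 lc_a_rc_2_2 lc_a_rc_1_2 lc_a_rc_3_2 lc_a_rc_3_2 lc_a_rc_5_2 lc_a_rc_3_2 lc_a_rc_4_2 lc_a_rc_3_2 lc_a_rc_2_2 lc_a_rc_3_2 lc_a_rc_5_2 lc_a_rc_46_14 lc_a_rc_5_2 lc_a_rc_3_2 lc_a_Cert_tree lc_a_rc_0_0 lc_a_rc_2_2 lc_a_rc_3_2 lc_a_rc_1_4) (@D3.rec (fun _ => (Cert rels S Gen.a)) lc_a_rc_3_2 lc_a_rc_5_2 lc_a_rc_0_0 lc_a_rc_4_2 lc_a_rc_8_2 lc_a_rc_4_2 lc_a_rc_6_2 lc_a_rc_4_2 lc_a_rc_5_2 lc_a_rc_2_0 lc_a_rc_6_2 lc_a_rc_5_2 lc_a_rc_2_2 lc_a_rc_1_2 lc_a_rc_4_0 lc_a_rc_3_2 lc_a_rc_2_2 lc_a_rc_2_2 lc_a_rc_1_2 lc_a_rc_8_2 lc_a_rc_5_0 lc_a_rc_1_4 lc_a_rc_7_2 lc_a_rc_5_2 lc_a_rc_3_2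 lc_a_rc_5_2 lc_a_rc_3_2 lc_a_rc_5_2 lc_a_rc_2_2 lc_a_rc_2_2 lc_a_rc_3_2 lc_a_rc_6_2) (@D3.rec (fun _ => (Cert rels S Gen.a)) lc_a_rc_1_2 lc_a_rc_3_2 lc_a_rc_5_2 lc_a_rc_2_2 lc_a_rc_2_2 lc_a_rc_1_2 lc_a_rc_8_2 lc_a_rc_3_2 lc_a_rc_6_2 lc_a_rc_5_2 lc_a_rc_0_0 lc_a_rc_0_1 lc_a_rc_2_2 lc_a_rc_4_0 lc_a_rc_2_2 lc_a_rc_3_2 lc_a_rc_1_2 lc_a_rc_3_0 lc_a_rc_3_2 lc_a_rc_3_2 lc_a_rc_6_2 lc_a_rc_8_2 lc_a_rc_5_2 lc_a_rc_3_2 lc_a_rc_5_2 lc_a_rc_3_2 lc_a_rc_1_4 lc_a_rc_8_2 lc_a_rc_5_2 lc_a_rc_3_2 lc_a_rc_4_2 lc_a_rc_3_2) (@D3.rec (fun _ => (Cert rels S Gen.a)) lc_a_rc_5_2 lc_a_rc_3_2 lc_a_rc_8_2 lc_a_rc_5_2 lc_a_rc_2_2 lc_a_rc_2_2 lc_a_rc_3_2 lc_a_rc_4_2 lc_a_rc_1_2 lc_a_rc_3_2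 lc_a_rc_2_2 lc_a_rc_3_2 lc_a_rc_8_2 lc_a_rc_5_2 lc_a_rc_7_2 lc_a_rc_4_0 lc_a_rc_3_2 lc_a_rc_5_0 lc_a_rc_2_2 lc_a_rc_0_1 lc_a_rc_3_2 lc_a_rc_8_2 lc_a_rc_5_2 lc_a_rc_8_2 lc_a_rc_5_2 lc_a_rc_2_2 lc_a_rc_4_2 lc_a_rc_2_2 lc_a_rc_3_2 lc_a_rc_2_2 lc_a_Cert_tree lc_a_rc_5_2) (@D3.rec (fun _ => (Cert rels S Gen.a)) lc_a_rc_3_2 lc_a_rc_5_2 lc_a_rc_1_2 lc_a_rc_5_2 lc_a_rc_2_2 lc_a_rc_3_2 lc_a_rc_8_2 lc_a_rc_3_2 lc_a_rc_2_2 lc_a_rc_3_2 lc_a_rc_5_2 lc_a_rc_1_2 lc_a_rc_3_2 lc_a_rc_7_2 lc_a_rc_3_2 lc_a_rc_2_2 lc_a_rc_8_2 lc_a_rc_5_2 lc_a_rc_1_2 lc_a_rc_5_2 lc_a_rc_3_2 lc_a_rc_2_2 lc_a_rc_3_2 lc_a_rc_2_2 lc_a_rc_2_2 lc_a_Cert_tree lc_a_rc_2_2 lc_a_rc_4_2 lc_a_rc_46_28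 lc_a_rc_1_2 lc_a_rc_0_0 lc_a_rc_2_2) (@D3.rec (fun _ => (Cert rels S Gen.a)) lc_a_rc_2_2 lc_a_rc_2_2 lc_a_rc_2_2 lc_a_rc_2_2 lc_a_rc_4_2 lc_a_rc_5_2 lc_a_rc_3_2 lc_a_rc_3_2 lc_a_rc_4_2 lc_a_rc_0_0 lc_a_rc_5_2 lc_a_rc_3_2 lc_a_rc_3_2 lc_a_rc_6_2 lc_a_rc_5_2 lc_a_rc_6_2 lc_a_rc_5_2 lc_a_rc_4_2 lc_a_rc_8_2 lc_a_rc_8_2 lc_a_rc_5_2 lc_a_rc_5_2 lc_a_rc_7_2 lc_a_rc_6_2 lc_a_rc_3_2 lc_a_rc_3_2 lc_a_rc_5_2 lc_a_rc_2_2 lc_a_rc_3_2 lc_a_rc_2_2 lc_a_rc_8_2 lc_a_rc_5_2) (@D3.rec (fun _ => (Cert rels S Gen.a)) lc_a_rc_3_2 lc_a_rc_2_2 lc_a_rc_3_2 lc_a_rc_5_2 lc_a_rc_1_2 lc_a_rc_3_2 lc_a_rc_5_2 lc_a_rc_3_2 lc_a_rc_1_2 lc_a_rc_3_2 lc_a_rc_2_2 lc_a_rc_1_2 lc_a_rc_3_2 lc_a_rc_3_2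 lc_a_rc_3_2 lc_a_rc_0_0 lc_a_rc_4_2 lc_a_rc_3_2 lc_a_rc_4_2 lc_a_rc_5_2 lc_a_rc_0_0 lc_a_rc_4_2 lc_a_rc_8_2 lc_a_rc_4_2 lc_a_rc_6_2 lc_a_rc_4_2 lc_a_rc_5_2 lc_a_rc_6_2 lc_a_rc_5_2 lc_a_rc_1_2 lc_a_rc_5_2 lc_a_rc_0_0) (@D3.rec (fun _ => (Cert rels S Gen.a)) lc_a_rc_2_2 lc_a_rc_8_2 lc_a_rc_3_2 lc_a_rc_2_2 lc_a_rc_5_2 lc_a_rc_3_2 lc_a_rc_5_2 lc_a_rc_3_2 lc_a_rc_2_2 lc_a_rc_2_2 lc_a_rc_3_2 lc_a_rc_1_2 lc_a_rc_0_0 lc_a_rc_4_2 lc_a_rc_5_2 lc_a_rc_5_2 lc_a_rc_46_35 lc_a_rc_0_0 lc_a_rc_5_2 lc_a_rc_3_2 lc_a_rc_5_2 lc_a_rc_3_2 lc_a_rc_2_2 lc_a_rc_2_2 lc_a_rc_3_2 lc_a_rc_1_2 lc_a_rc_3_2 lc_a_rc_8_2 lc_a_rc_5_2 lc_a_rc_7_2 lc_a_rc_5_2 lc_a_rc_3_2) (@D3.rec (fun _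 => (Cert rels S Gen.a)) lc_a_rc_6_2 lc_a_rc_5_2 lc_a_rc_3_2 lc_a_rc_4_2 lc_a_rc_3_2 lc_a_rc_5_2 lc_a_rc_3_2 lc_a_rc_8_2 lc_a_rc_5_2 lc_a_rc_2_2 lc_a_rc_2_2 lc_a_rc_3_2 lc_a_rc_4_2 lc_a_rc_1_2 lc_a_rc_3_2 lc_a_rc_2_2 lc_a_rc_4_2 lc_a_rc_3_2 lc_a_rc_5_2 lc_a_rc_3_2 lc_a_rc_8_2 lc_a_rc_5_2 lc_a_rc_2_2 lc_a_rc_4_2 lc_a_rc_3_2 lc_a_rc_8_2 lc_a_rc_5_2 lc_a_rc_8_2 lc_a_rc_5_2 lc_a_rc_2_2 lc_a_rc_3_2 lc_a_rc_2_2) (@D3.rec (fun _ => (Cert rels S Gen.a)) lc_a_rc_4_2 lc_a_rc_2_2 lc_a_rc_5_2 lc_a_rc_3_2 lc_a_rc_5_2 lc_a_rc_5_2 lc_a_rc_3_2 lc_a_rc_3_2 lc_a_rc_5_2 lc_a_rc_3_2 lc_a_rc_3_2 lc_a_rc_4_2 lc_a_rc_5_2 lc_a_rc_3_2 lc_a_rc_6_2 lc_a_rc_3_2 lc_a_rc_2_2 lc_a_rc_1_2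 lc_a_rc_3_2 lc_a_rc_2_2 lc_a_rc_4_2 lc_a_rc_2_2 lc_a_rc_2_2 lc_a_rc_3_2 lc_a_rc_3_2 lc_a_rc_3_2 lc_a_rc_8_2 lc_a_rc_5_2 lc_a_rc_5_2 lc_a_rc_5_2 lc_a_rc_3_2 lc_a_rc_3_2) (@D3.rec (fun _ => (Cert rels S Gen.a)) lc_a_rc_4_0 lc_a_rc_4_2 lc_a_rc_3_2 lc_a_rc_6_2 lc_a_rc_5_2 lc_a_rc_3_2 lc_a_rc_3_2 lc_a_rc_2_2 lc_a_rc_3_2 lc_a_rc_3_2 lc_a_rc_5_2 lc_a_rc_5_2 lc_a_rc_3_2 lc_a_rc_4_2 lc_a_rc_46_35 lc_a_rc_4_2 lc_a_rc_3_2 lc_a_rc_5_2 lc_a_rc_5_2 lc_a_rc_0_0 lc_a_rc_6_2 lc_a_rc_3_2 lc_a_rc_3_2 lc_a_rc_5_2 lc_a_rc_3_2 lc_a_rc_4_2 lc_a_rc_5_2 lc_a_rc_5_2 lc_a_rc_4_2 lc_a_rc_8_2 lc_a_rc_3_2 lc_a_rc_0_1) (@D3.rec (fun _ => (Cert rels S Gen.a)) lc_a_rc_8_2 lc_a_rc_5_2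 lc_a_rc_3_2 lc_a_rc_5_2 lc_a_rc_4_2 lc_a_rc_4_0 lc_a_rc_6_2 lc_a_rc_5_2 lc_a_rc_5_2 lc_a_rc_7_2 lc_a_rc_6_2 lc_a_rc_3_2 lc_a_rc_2_2 lc_a_rc_46_28 lc_a_rc_3_2 lc_a_rc_3_2 lc_a_rc_8_2 lc_a_rc_5_2 lc_a_rc_2_2 lc_a_rc_5_2 lc_a_rc_3_2 lc_a_rc_1_4 lc_a_rc_5_2 lc_a_rc_3_2 lc_a_rc_4_2 lc_a_rc_3_2 lc_a_rc_5_2 lc_a_rc_3_2 lc_a_rc_8_2 lc_a_rc_5_2 lc_a_rc_6_2 lc_a_rc_2_2)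
def ce_a_13 : D2 → D3 → (Cert rels S Gen.a) := @D2.rec (fun _ => D3 → (Cert rels S Gen.a)) (@D3.rec (fun _ => (Cert rels S Gen.a)) lc_a_rc_3_2 lc_a_rc_4_2 lc_a_rc_6_2 lc_a_rc_4_2 lc_a_rc_2_2 lc_a_rc_5_2 lc_a_rc_3_2 lc_a_rc_8_2 lc_a_rc_5_2 lc_a_rc_3_0 lc_a_rc_2_2 lc_a_rc_3_2 lc_a_rc_4_2 lc_a_rc_5_2 lc_a_rc_3_2 lc_a_rc_5_2 lc_a_rc_3_2 lc_a_rc_8_2 lc_a_rc_5_2 lc_a_rc_3_2 lc_a_rc_4_2 lc_a_rc_1_4 lc_a_rc_5_2 lc_a_rc_3_2 lc_a_rc_8_2 lc_a_rc_5_2 lc_a_rc_1_4 lc_a_rc_5_2 lc_a_rc_3_2 lc_a_rc_4_2 lc_a_rc_4_2 lc_a_rc_3_2) (@D3.rec (fun _ => (Cert rels S Gen.a)) lc_a_rc_8_2 lc_a_rc_5_2 lc_a_rc_8_2 lc_a_rc_5_2 lc_a_rc_2_2 lc_a_rc_3_2 lc_a_rc_2_2 lc_a_rc_4_2 lc_a_rc_6_2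 lc_a_rc_2_2 lc_a_rc_5_2 lc_a_rc_4_2 lc_a_rc_3_2 lc_a_rc_8_2 lc_a_rc_5_2 lc_a_rc_8_2 lc_a_rc_2_0 lc_a_rc_8_2 lc_a_rc_8_2 lc_a_rc_2_0 lc_a_rc_5_2 lc_a_rc_5_2 lc_a_rc_8_2 lc_a_rc_5_2 lc_a_rc_8_2 lc_a_rc_2_2 lc_a_rc_5_2 lc_a_rc_3_2 lc_a_rc_2_2 lc_a_rc_4_2 lc_a_rc_2_2 lc_a_rc_0_0) (@D3.rec (fun _ => (Cert rels S Gen.a)) lc_a_rc_5_2 lc_a_rc_1_2 lc_a_rc_3_2 lc_a_rc_3_2 lc_a_rc_5_2 lc_a_rc_3_2 lc_a_rc_1_2 lc_a_rc_3_2 lc_a_rc_2_2 lc_a_rc_0_0 lc_a_rc_1_2 lc_a_rc_3_2 lc_a_rc_2_2 lc_a_rc_3_2 lc_a_rc_6_2 lc_a_rc_5_2 lc_a_rc_3_2 lc_a_rc_3_2 lc_a_rc_6_2 lc_a_rc_8_2 lc_a_rc_5_2 lc_a_rc_6_0 lc_a_rc_8_2 lc_a_rc_5_2 lc_a_rc_7_2 lc_a_rc_6_2 lc_a_rc_3_2 lc_a_rc_7_2 lc_a_rc_3_2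 lc_a_rc_2_2 lc_a_rc_4_2 lc_a_rc_3_2) (@D3.rec (fun _ => (Cert rels S Gen.a)) lc_a_rc_5_2 lc_a_rc_3_2 lc_a_rc_8_2 lc_a_rc_5_2 lc_a_rc_8_2 lc_a_rc_5_2 lc_a_rc_3_2 lc_a_rc_4_2 lc_a_rc_3_2 lc_a_rc_8_2 lc_a_rc_5_2 lc_a_rc_8_2 lc_a_rc_3_2 lc_a_rc_5_2 lc_a_rc_3_2 lc_a_rc_2_2 lc_a_rc_4_2 lc_a_rc_5_2 lc_a_rc_2_2 lc_a_rc_2_2 lc_a_rc_2_2 lc_a_rc_3_2 lc_a_rc_3_2 lc_a_rc_3_2 lc_a_rc_4_2 lc_a_rc_3_2 lc_a_rc_8_2 lc_a_rc_4_2 lc_a_rc_6_2 lc_a_rc_1_0 lc_a_rc_1_0 lc_a_rc_1_0) (@D3.rec (fun _ => (Cert rels S Gen.a)) lc_a_rc_3_2 lc_a_rc_3_2 lc_a_rc_5_2 lc_a_rc_4_2 lc_a_rc_3_2 lc_a_rc_6_2 lc_a_rc_4_2 lc_a_rc_8_2 lc_a_rc_3_2 lc_a_rc_1_0 lc_a_rc_2_0 lc_a_rc_5_2 lc_a_rc_3_2 lc_a_rc_2_2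 lc_a_rc_2_2 lc_a_rc_0_1 lc_a_rc_5_0 lc_a_rc_6_2 lc_a_rc_3_2 lc_a_rc_4_2 lc_a_rc_3_2 lc_a_rc_5_2 lc_a_rc_8_2 lc_a_rc_8_2 lc_a_rc_8_2 lc_a_rc_8_2 lc_a_rc_3_2 lc_a_rc_4_2 lc_a_rc_2_0 lc_a_rc_5_2 lc_a_rc_7_2 lc_a_rc_7_2) (@D3.rec (fun _ => (Cert rels S Gen.a)) lc_a_rc_2_2 lc_a_rc_5_2 lc_a_rc_5_0 lc_a_rc_3_2 lc_a_rc_2_2 lc_a_rc_2_2 lc_a_rc_8_2 lc_a_rc_8_2 lc_a_rc_8_0 lc_a_rc_2_2 lc_a_rc_6_2 lc_a_rc_3_2 lc_a_rc_2_2 lc_a_rc_2_2 lc_a_rc_4_2 lc_a_Cert_tree lc_a_rc_5_0 lc_a_rc_5_2 lc_a_rc_3_2 lc_a_rc_4_2 lc_a_rc_6_2 lc_a_rc_4_2 lc_a_rc_5_2 lc_a_rc_6_2 lc_a_rc_5_2 lc_a_rc_5_2 lc_a_rc_5_2 lc_a_rc_3_2 lc_a_rc_2_2 lc_a_rc_3_2 lc_a_rc_3_2 lc_a_rc_3_2) (@D3.rec (fun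 _ => (Cert rels S Gen.a)) lc_a_rc_3_2 lc_a_rc_5_2 lc_a_rc_3_2 lc_a_rc_4_2 lc_a_rc_5_2 lc_a_rc_3_2 lc_a_rc_8_2 lc_a_rc_5_2 lc_a_rc_2_2 lc_a_rc_3_2 lc_a_rc_4_2 lc_a_rc_3_2 lc_a_rc_2_2 lc_a_rc_4_2 lc_a_rc_3_2 lc_a_rc_8_2 lc_a_rc_5_2 lc_a_rc_8_2 lc_a_rc_5_2 lc_a_rc_2_2 lc_a_rc_3_2 lc_a_rc_2_2 lc_a_rc_4_2 lc_a_rc_2_2 lc_a_Cert_tree lc_a_rc_3_2 lc_a_rc_4_2 lc_a_rc_2_2 lc_a_rc_3_2 lc_a_rc_2_2 lc_a_rc_4_2 lc_a_rc_2_2) (@D3.rec (fun _ => (Cert rels S Gen.a)) lc_a_rc_4_2 lc_a_rc_6_2 lc_a_rc_1_4 lc_a_rc_0_0 lc_a_rc_2_2 lc_a_rc_5_0 lc_a_rc_4_2 lc_a_rc_4_2 lc_a_rc_3_2 lc_a_rc_6_2 lc_a_rc_5_2 lc_a_rc_5_2 lc_a_rc_7_2 lc_a_rc_6_2 lc_a_rc_3_2 lc_a_rc_6_0 lc_a_rc_3_2 lc_a_rc_3_2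 lc_a_rc_8_2 lc_a_rc_5_2 lc_a_rc_2_2 lc_a_rc_3_2 lc_a_rc_4_2 lc_a_rc_3_2 lc_a_rc_2_2 lc_a_rc_4_2 lc_a_rc_7_2 lc_a_rc_8_2 lc_a_rc_5_2 lc_a_rc_8_2 lc_a_rc_5_2 lc_a_rc_1_2) (@D3.rec (fun _ => (Cert rels S Gen.a)) lc_a_rc_3_2 lc_a_rc_2_2 lc_a_rc_4_2 lc_a_rc_6_2 lc_a_rc_3_2 lc_a_rc_2_2 lc_a_rc_5_2 lc_a_Cert_tree lc_a_rc_5_2 lc_a_rc_5_2 lc_a_rc_8_2 lc_a_rc_5_2 lc_a_rc_8_2 lc_a_rc_2_2 lc_a_rc_5_2 lc_a_rc_3_2 lc_a_rc_2_2 lc_a_rc_5_0 lc_a_Cert_tree lc_a_rc_2_2 lc_a_rc_2_2 lc_a_rc_2_2 lc_a_rc_2_2 lc_a_rc_0_0 lc_a_rc_6_0 lc_a_rc_0_0 lc_a_rc_1_2 lc_a_rc_0_0 lc_a_rc_7_2 lc_a_rc_3_2 lc_a_rc_2_2 lc_a_rc_3_2) (@D3.rec (fun _ => (Cert rels S Gen.a)) lc_a_rc_1_0 lc_a_rc_1_0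 lc_a_rc_2_2 lc_a_rc_4_2 lc_a_rc_2_2 lc_a_rc_1_0 lc_a_Cert_tree lc_a_rc_2_2 lc_a_rc_3_2 lc_a_rc_0_0 lc_a_rc_4_2 lc_a_rc_0_0 lc_a_rc_3_2 lc_a_rc_8_2 lc_a_rc_4_2 lc_a_rc_6_2 lc_a_rc_4_2 lc_a_rc_5_2 lc_a_rc_6_2 lc_a_rc_5_2 lc_a_rc_2_2 lc_a_rc_1_2 lc_a_rc_6_2 lc_a_rc_3_2 lc_a_rc_2_2 lc_a_rc_2_2 lc_a_rc_1_2 lc_a_rc_8_2 lc_a_rc_3_2 lc_a_rc_2_2 lc_a_rc_5_2 lc_a_rc_3_2) (@D3.rec (fun _ => (Cert rels S Gen.a)) lc_a_rc_5_2 lc_a_rc_3_2 lc_a_rc_2_2 lc_a_rc_2_2 lc_a_rc_3_2 lc_a_rc_1_2 lc_a_rc_3_2 lc_a_rc_6_2 lc_a_rc_2_2 lc_a_rc_2_2 lc_a_rc_1_2 lc_a_rc_8_2 lc_a_rc_5_2 lc_a_rc_2_2 lc_a_rc_3_2 lc_a_rc_3_2 lc_a_rc_3_2 lc_a_rc_8_2 lc_a_rc_5_2 lc_a_rc_2_0 lc_a_rc_3_0 lc_a_rc_3_2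 lc_a_rc_6_2 lc_a_rc_5_2 lc_a_rc_3_2 lc_a_rc_4_2 lc_a_rc_3_2 lc_a_rc_5_2 lc_a_rc_3_2 lc_a_rc_8_2 lc_a_rc_5_2 lc_a_rc_2_2) (@D3.rec (fun _ => (Cert rels S Gen.a)) lc_a_rc_2_2 lc_a_rc_3_2 lc_a_rc_4_2 lc_a_rc_1_2 lc_a_rc_3_2 lc_a_rc_2_2 lc_a_rc_2_2 lc_a_rc_3_2 lc_a_rc_8_2 lc_a_rc_5_2 lc_a_rc_8_2 lc_a_rc_5_2 lc_a_rc_2_2 lc_a_rc_2_2 lc_a_Cert_tree lc_a_rc_0_0 lc_a_rc_3_2 lc_a_rc_3_2 lc_a_rc_5_2 lc_a_rc_5_2 lc_a_rc_3_2 lc_a_rc_4_2 lc_a_rc_3_2 lc_a_rc_2_2 lc_a_rc_1_2 lc_a_rc_3_2 lc_a_rc_5_2 lc_a_rc_46_14 lc_a_rc_5_2 lc_a_rc_3_2 lc_a_rc_6_2 lc_a_rc_2_2) (@D3.rec (fun _ => (Cert rels S Gen.a)) lc_a_rc_1_2 lc_a_rc_0_0 lc_a_Cert_tree lc_a_rc_0_0 lc_a_rc_3_2 lc_a_rc_2_2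 lc_a_rc_2_2 lc_a_rc_3_2 lc_a_rc_0_0 lc_a_rc_3_2 lc_a_rc_5_2 lc_a_rc_3_2 lc_a_rc_4_0 lc_a_rc_4_2 lc_a_rc_8_2 lc_a_rc_5_2 lc_a_rc_8_2 lc_a_rc_5_2 lc_a_rc_3_2 lc_a_rc_4_2 lc_a_rc_0_1 lc_a_rc_6_2 lc_a_rc_5_2 lc_a_rc_5_2 lc_a_rc_7_2 lc_a_rc_6_2 lc_a_rc_3_2 lc_a_rc_2_2 lc_a_rc_0_0 lc_a_rc_3_2 lc_a_rc_2_2 lc_a_rc_3_2) (@D3.rec (fun _ => (Cert rels S Gen.a)) lc_a_rc_3_2 lc_a_rc_5_2 lc_a_rc_1_4 lc_a_rc_4_2 lc_a_rc_7_2 lc_a_rc_1_4 lc_a_rc_1_4 lc_a_rc_3_2 lc_a_rc_6_2 lc_a_rc_7_2 lc_a_rc_1_2 lc_a_rc_3_2 lc_a_rc_8_2 lc_a_rc_5_2 lc_a_rc_6_2 lc_a_rc_2_2 lc_a_rc_3_2 lc_a_rc_4_2 lc_a_rc_6_2 lc_a_rc_3_2 lc_a_rc_2_2 lc_a_rc_6_2 lc_a_rc_2_2 lc_a_rc_3_2 lc_a_rc_3_2 lc_a_rc_5_2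 lc_a_rc_3_2 lc_a_rc_2_2 lc_a_rc_3_2 lc_a_rc_0_0 lc_a_rc_6_2 lc_a_rc_4_2) (@D3.rec (fun _ => (Cert rels S Gen.a)) lc_a_rc_4_2 lc_a_rc_0_0 lc_a_rc_3_2 lc_a_rc_4_2 lc_a_rc_5_2 lc_a_rc_5_2 lc_a_rc_2_2 lc_a_rc_3_2 lc_a_rc_5_2 lc_a_rc_3_2 lc_a_rc_8_2 lc_a_rc_5_2 lc_a_rc_3_2 lc_a_rc_2_2 lc_a_rc_1_4 lc_a_rc_1_4 lc_a_rc_3_2 lc_a_rc_8_2 lc_a_rc_5_2 lc_a_rc_1_4 lc_a_rc_5_2 lc_a_rc_3_2 lc_a_rc_4_2 lc_a_rc_3_2 lc_a_rc_3_2 lc_a_rc_8_2 lc_a_rc_5_2 lc_a_rc_8_2 lc_a_rc_5_2 lc_a_rc_2_2 lc_a_rc_3_2 lc_a_rc_2_2) (@D3.rec (fun _ => (Cert rels S Gen.a)) lc_a_rc_4_2 lc_a_rc_6_2 lc_a_rc_2_2 lc_a_Cert_tree lc_a_rc_8_2 lc_a_rc_2_0 lc_a_rc_3_2 lc_a_rc_3_2 lc_a_rc_3_2 lc_a_rc_8_0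 lc_a_rc_0_0 lc_a_rc_2_2 lc_a_rc_6_2 lc_a_rc_5_2 lc_a_rc_8_2 lc_a_rc_3_2 lc_a_rc_8_2 lc_a_rc_2_2 lc_a_rc_4_2 lc_a_rc_3_2 lc_a_rc_8_2 lc_a_Cert_tree lc_a_rc_4_2 lc_a_rc_2_2 lc_a_rc_0_0 lc_a_rc_2_2 lc_a_rc_1_2 lc_a_rc_3_2 lc_a_rc_2_2 lc_a_Cert_tree lc_a_rc_3_2 lc_a_rc_2_2) (@D3.rec (fun _ => (Cert rels S Gen.a)) lc_a_rc_2_2 lc_a_rc_4_2 lc_a_rc_46_14 lc_a_rc_5_2 lc_a_rc_3_2 lc_a_rc_1_2 lc_a_rc_46_49 lc_a_rc_2_2 lc_a_rc_3_2 lc_a_rc_2_2 lc_a_rc_4_2 lc_a_rc_1_4 lc_a_rc_1_2 lc_a_rc_0_0 lc_a_rc_46_49 lc_a_rc_5_2 lc_a_rc_6_2 lc_a_rc_3_2 lc_a_rc_8_2 lc_a_rc_5_2 lc_a_rc_5_2 lc_a_rc_7_2 lc_a_rc_3_2 lc_a_rc_2_2 lc_a_rc_5_2 lc_a_rc_3_2 lc_a_rc_0_1 lc_a_rc_3_2 lc_a_rc_5_2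 lc_a_rc_3_2 lc_a_rc_5_2 lc_a_rc_3_2) (@D3.rec (fun _ => (Cert rels S Gen.a)) lc_a_rc_4_2 lc_a_rc_0_0 lc_a_rc_3_2 lc_a_rc_2_2 lc_a_rc_8_0 lc_a_rc_2_2 lc_a_rc_2_2 lc_a_rc_8_2 lc_a_rc_5_2 lc_a_rc_3_2 lc_a_rc_4_2 lc_a_rc_5_2 lc_a_rc_5_2 lc_a_rc_4_2 lc_a_rc_8_2 lc_a_rc_4_2 lc_a_rc_8_2 lc_a_rc_5_2 lc_a_rc_5_2 lc_a_rc_4_2 lc_a_rc_6_2 lc_a_rc_5_2 lc_a_rc_5_2 lc_a_rc_6_2 lc_a_rc_3_2 lc_a_rc_8_2 lc_a_rc_5_2 lc_a_rc_3_2 lc_a_rc_5_2 lc_a_rc_0_1 lc_a_rc_5_2 lc_a_rc_3_2) (@D3.rec (fun _ => (Cert rels S Gen.a)) lc_a_rc_4_2 lc_a_rc_5_2 lc_a_rc_3_2 lc_a_rc_8_2 lc_a_rc_5_2 lc_a_rc_2_2 lc_a_rc_3_2 lc_a_rc_4_2 lc_a_rc_3_2 lc_a_rc_5_2 lc_a_rc_3_2 lc_a_rc_3_2 lc_a_rc_3_2 lc_a_rc_5_2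 lc_a_rc_3_2 lc_a_rc_3_2 lc_a_rc_8_2 lc_a_rc_5_2 lc_a_rc_2_2 lc_a_rc_3_2 lc_a_rc_4_2 lc_a_rc_5_2 lc_a_rc_3_2 lc_a_rc_5_2 lc_a_rc_3_2 lc_a_rc_1_4 lc_a_rc_0_0 lc_a_rc_7_2 lc_a_rc_8_2 lc_a_rc_5_2 lc_a_rc_6_2 lc_a_rc_3_2) (@D3.rec (fun _ => (Cert rels S Gen.a)) lc_a_rc_2_2 lc_a_rc_4_2 lc_a_rc_4_2 lc_a_rc_3_2 lc_a_rc_8_2 lc_a_rc_5_2 lc_a_rc_8_2 lc_a_rc_5_2 lc_a_rc_2_2 lc_a_rc_3_2 lc_a_rc_2_2 lc_a_rc_4_2 lc_a_rc_6_2 lc_a_rc_2_2 lc_a_rc_4_2 lc_a_rc_3_2 lc_a_rc_8_2 lc_a_rc_5_2 lc_a_rc_8_2 lc_a_rc_5_2 lc_a_rc_5_2 lc_a_rc_8_2 lc_a_rc_5_2 lc_a_rc_8_2 lc_a_rc_2_2 lc_a_rc_5_2 lc_a_rc_3_2 lc_a_rc_2_2 lc_a_rc_2_2 lc_a_rc_3_2 lc_a_rc_3_2 lc_a_rc_2_2) (@D3.rec (fun _ =>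 (Cert rels S Gen.a)) lc_a_rc_3_2 lc_a_rc_2_2 lc_a_rc_4_2 lc_a_rc_3_2 lc_a_rc_2_2 lc_a_rc_1_2 lc_a_rc_2_2 lc_a_rc_2_2 lc_a_rc_2_2 lc_a_rc_3_2 lc_a_rc_8_2 lc_a_rc_4_2 lc_a_rc_5_2 lc_a_rc_3_2 lc_a_rc_3_2 lc_a_rc_4_2 lc_a_rc_4_2 lc_a_rc_4_0 lc_a_rc_4_2 lc_a_rc_4_2 lc_a_rc_6_2 lc_a_rc_3_2 lc_a_rc_4_2 lc_a_rc_0_1 lc_a_rc_3_2 lc_a_rc_5_2 lc_a_rc_4_0 lc_a_rc_5_2 lc_a_rc_3_2 lc_a_rc_4_2 lc_a_rc_6_2 lc_a_rc_0_1) (@D3.rec (fun _ => (Cert rels S Gen.a)) lc_a_rc_5_2 lc_a_rc_3_2 lc_a_rc_2_2 lc_a_rc_46_28 lc_a_rc_5_2 lc_a_rc_5_2 lc_a_rc_4_2 lc_a_rc_3_2 lc_a_rc_8_2 lc_a_rc_5_2 lc_a_rc_4_0 lc_a_rc_4_2 lc_a_rc_3_2 lc_a_rc_1_4 lc_a_rc_5_2 lc_a_rc_3_2 lc_a_rc_46_28 lc_a_rc_3_0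 lc_a_rc_4_0 lc_a_rc_8_2 lc_a_rc_5_2 lc_a_rc_4_0 lc_a_rc_6_2 lc_a_rc_3_2 lc_a_rc_5_2 lc_a_rc_2_0 lc_a_rc_3_2 lc_a_rc_2_2 lc_a_rc_6_0 lc_a_rc_4_2 lc_a_rc_5_2 lc_a_rc_3_2)
def ce_a_14 : D2 → D3 → (Cert rels S Gen.a) := @D2.rec (fun _ => D3 → (Cert rels S Gen.a)) (@D3.rec (fun _ => (Cert rels S Gen.a)) lc_a_rc_5_2 lc_a_rc_3_2 lc_a_rc_1_4 lc_a_rc_1_4 lc_a_rc_1_4 lc_a_rc_8_2 lc_a_rc_5_2 lc_a_rc_1_4 lc_a_rc_3_2 lc_a_rc_4_2 lc_a_rc_4_2 lc_a_rc_3_2 lc_a_rc_8_2 lc_a_rc_5_2 lc_a_rc_8_2 lc_a_rc_5_2 lc_a_rc_6_2 lc_a_rc_3_2 lc_a_rc_4_2 lc_a_rc_6_2 lc_a_rc_4_2 lc_a_rc_3_2 lc_a_rc_6_2 lc_a_rc_5_2 lc_a_rc_8_2 lc_a_rc_5_2 lc_a_rc_5_2 lc_a_rc_3_2 lc_a_rc_4_2 lc_a_rc_6_2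 lc_a_rc_4_2 lc_a_rc_5_2) (@D3.rec (fun _ => (Cert rels S Gen.a)) lc_a_rc_3_2 lc_a_rc_8_2 lc_a_rc_5_2 lc_a_rc_5_2 lc_a_rc_3_2 lc_a_rc_4_2 lc_a_rc_4_2 lc_a_rc_1_4 lc_a_rc_8_2 lc_a_rc_5_2 lc_a_rc_8_2 lc_a_rc_3_2 lc_a_rc_1_4 lc_a_rc_3_2 lc_a_rc_2_2 lc_a_rc_4_2 lc_a_rc_6_2 lc_a_rc_5_2 lc_a_rc_5_2 lc_a_rc_8_2 lc_a_rc_5_2 lc_a_rc_8_2 lc_a_rc_2_2 lc_a_rc_5_2 lc_a_rc_3_2 lc_a_rc_2_2 lc_a_rc_4_2 lc_a_rc_2_0 lc_a_rc_2_2 lc_a_rc_6_2 lc_a_rc_7_2 lc_a_rc_5_2) (@D3.rec (fun _ => (Cert rels S Gen.a)) lc_a_rc_5_2 lc_a_rc_8_2 lc_a_rc_0_0 lc_a_rc_2_0 lc_a_rc_2_0 lc_a_rc_8_2 lc_a_rc_2_0 lc_a_rc_5_2 lc_a_rc_5_2 lc_a_rc_2_2 lc_a_rc_2_2 lc_a_rc_8_2 lc_a_rc_46_28 lc_a_rc_2_2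 lc_a_rc_6_0 lc_a_rc_3_2 lc_a_rc_3_2 lc_a_rc_2_2 lc_a_rc_2_2 lc_a_rc_3_2 lc_a_rc_2_2 lc_a_rc_2_2 lc_a_rc_0_1 lc_a_rc_0_1 lc_a_rc_6_2 lc_a_rc_3_2 lc_a_rc_2_2 lc_a_rc_8_2 lc_a_rc_5_2 lc_a_rc_7_2 lc_a_rc_4_2 lc_a_rc_7_2) (@D3.rec (fun _ => (Cert rels S Gen.a)) lc_a_rc_2_2 lc_a_rc_3_2 lc_a_rc_2_2 lc_a_rc_4_2 lc_a_Cert_tree lc_a_rc_4_2 lc_a_rc_3_2 lc_a_rc_8_2 lc_a_rc_5_2 lc_a_rc_8_2 lc_a_rc_3_2 lc_a_rc_5_2 lc_a_rc_3_2 lc_a_rc_2_2 lc_a_rc_5_2 lc_a_rc_5_2 lc_a_rc_8_2 lc_a_rc_3_2 lc_a_rc_3_2 lc_a_rc_2_2 lc_a_rc_3_2 lc_a_rc_3_2 lc_a_rc_2_2 lc_a_rc_46_42 lc_a_rc_1_0 lc_a_rc_5_0 lc_a_rc_3_2 lc_a_rc_3_2 lc_a_rc_4_2 lc_a_rc_5_2 lc_a_rc_4_2 lc_a_rc_4_2) (@D3.rec (fun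 _ => (Cert rels S Gen.a)) lc_a_rc_3_2 lc_a_rc_3_2 lc_a_rc_3_2 lc_a_rc_6_2 lc_a_rc_4_2 lc_a_rc_46_28 lc_a_rc_2_2 lc_a_rc_1_4 lc_a_rc_3_2 lc_a_rc_2_2 lc_a_rc_8_2 lc_a_rc_3_2 lc_a_rc_4_2 lc_a_rc_7_2 lc_a_rc_7_2 lc_a_rc_2_0 lc_a_rc_2_2 lc_a_rc_3_2 lc_a_rc_5_0 lc_a_rc_1_0 lc_a_rc_2_2 lc_a_rc_4_2 lc_a_Cert_tree lc_a_rc_2_2 lc_a_rc_0_1 lc_a_rc_0_1 lc_a_Cert_tree lc_a_rc_8_2 lc_a_rc_0_0 lc_a_rc_8_2 lc_a_rc_5_2 lc_a_rc_4_2) (@D3.rec (fun _ => (Cert rels S Gen.a)) lc_a_rc_6_2 lc_a_rc_5_2 lc_a_rc_5_2 lc_a_rc_6_2 lc_a_rc_3_2 lc_a_rc_3_2 lc_a_rc_8_2 lc_a_rc_5_2 lc_a_rc_3_2 lc_a_rc_4_2 lc_a_rc_2_2 lc_a_rc_3_2 lc_a_rc_5_2 lc_a_rc_3_2 lc_a_rc_2_2 lc_a_rc_4_2 lc_a_rc_4_2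 lc_a_rc_8_2 lc_a_rc_5_2 lc_a_rc_8_2 lc_a_rc_5_2 lc_a_rc_3_2 lc_a_rc_2_2 lc_a_rc_4_2 lc_a_rc_6_2 lc_a_rc_2_2 lc_a_Cert_tree lc_a_rc_5_2 lc_a_rc_5_2 lc_a_rc_8_2 lc_a_rc_5_2 lc_a_rc_8_2) (@D3.rec (fun _ => (Cert rels S Gen.a)) lc_a_rc_2_2 lc_a_rc_5_2 lc_a_rc_3_2 lc_a_rc_2_2 lc_a_Cert_tree lc_a_rc_2_2 lc_a_rc_0_0 lc_a_rc_2_2 lc_a_rc_3_2 lc_a_rc_46_49 lc_a_rc_2_2 lc_a_rc_1_2 lc_a_rc_2_2 lc_a_rc_1_2 lc_a_rc_4_2 lc_a_rc_3_2 lc_a_rc_8_2 lc_a_rc_4_2 lc_a_rc_5_2 lc_a_rc_3_2 lc_a_rc_6_2 lc_a_rc_3_2 lc_a_rc_5_2 lc_a_rc_2_0 lc_a_rc_3_2 lc_a_rc_2_2 lc_a_rc_6_0 lc_a_rc_3_2 lc_a_rc_4_0 lc_a_rc_8_2 lc_a_rc_5_2 lc_a_rc_3_2) (@D3.rec (fun _ => (Cert rels S Gen.a)) lc_a_rc_2_2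 lc_a_rc_4_2 lc_a_rc_6_2 lc_a_rc_2_2 lc_a_rc_5_2 lc_a_rc_8_0 lc_a_rc_8_2 lc_a_rc_5_2 lc_a_rc_8_2 lc_a_rc_2_2 lc_a_rc_5_2 lc_a_rc_3_2 lc_a_rc_2_2 lc_a_rc_4_2 lc_a_Cert_tree lc_a_rc_2_2 lc_a_rc_6_2 lc_a_rc_7_2 lc_a_rc_2_2 lc_a_rc_2_2 lc_a_rc_0_1 lc_a_rc_0_0 lc_a_rc_0_0 lc_a_rc_5_2 lc_a_rc_8_2 lc_a_rc_2_2 lc_a_rc_4_2 lc_a_rc_2_2 lc_a_rc_8_2 lc_a_Cert_tree lc_a_rc_2_2 lc_a_rc_3_2) (@D3.rec (fun _ => (Cert rels S Gen.a)) lc_a_rc_3_2 lc_a_rc_5_0 lc_a_rc_0_0 lc_a_rc_4_2 lc_a_rc_8_0 lc_a_rc_0_0 lc_a_rc_0_0 lc_a_rc_3_2 lc_a_rc_2_2 lc_a_rc_4_2 lc_a_Cert_tree lc_a_rc_2_2 lc_a_rc_4_2 lc_a_rc_5_2 lc_a_Cert_tree lc_a_rc_2_2 lc_a_rc_0_0 lc_a_rc_4_2 lc_a_rc_4_2 lc_a_rc_8_2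 lc_a_rc_3_2 lc_a_rc_5_2 lc_a_rc_4_2 lc_a_rc_6_2 lc_a_rc_5_2 lc_a_rc_5_2 lc_a_rc_6_2 lc_a_rc_3_2 lc_a_rc_2_2 lc_a_rc_6_2 lc_a_rc_3_2 lc_a_rc_2_2) (@D3.rec (fun _ => (Cert rels S Gen.a)) lc_a_rc_3_2 lc_a_rc_3_2 lc_a_rc_5_2 lc_a_rc_2_2 lc_a_rc_5_2 lc_a_rc_3_2 lc_a_rc_3_2 lc_a_rc_8_2 lc_a_rc_5_2 lc_a_rc_2_2 lc_a_rc_3_2 lc_a_rc_4_2 lc_a_rc_3_2 lc_a_rc_2_2 lc_a_rc_5_2 lc_a_rc_2_2 lc_a_rc_3_2 lc_a_rc_3_2 lc_a_rc_5_2 lc_a_rc_3_2 lc_a_rc_3_2 lc_a_rc_4_2 lc_a_rc_2_2 lc_a_rc_3_2 lc_a_rc_5_2 lc_a_rc_3_2 lc_a_rc_3_2 lc_a_rc_5_2 lc_a_rc_6_2 lc_a_rc_3_2 lc_a_rc_2_2 lc_a_rc_4_2) (@D3.rec (fun _ => (Cert rels S Gen.a)) lc_a_rc_3_2 lc_a_rc_8_2 lc_a_rc_5_2 lc_a_rc_8_2 lc_a_rc_5_2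 lc_a_rc_2_2 lc_a_rc_3_2 lc_a_rc_2_2 lc_a_rc_4_2 lc_a_rc_6_2 lc_a_rc_2_2 lc_a_Cert_tree lc_a_rc_5_2 lc_a_rc_8_2 lc_a_rc_8_2 lc_a_rc_2_2 lc_a_Cert_tree lc_a_rc_0_0 lc_a_rc_3_2 lc_a_rc_3_2 lc_a_rc_2_2 lc_a_rc_1_2 lc_a_rc_0_0 lc_a_rc_0_1 lc_a_rc_2_2 lc_a_rc_2_2 lc_a_rc_0_0 lc_a_rc_3_2 lc_a_rc_4_2 lc_a_rc_5_2 lc_a_rc_5_2 lc_a_rc_8_2) (@D3.rec (fun _ => (Cert rels S Gen.a)) lc_a_rc_5_2 lc_a_rc_6_2 lc_a_rc_5_2 lc_a_rc_3_2 lc_a_rc_3_2 lc_a_rc_5_2 lc_a_rc_3_2 lc_a_rc_6_2 lc_a_rc_3_2 lc_a_rc_5_2 lc_a_rc_7_2 lc_a_rc_3_2 lc_a_rc_2_2 lc_a_rc_3_2 lc_a_rc_3_2 lc_a_rc_5_2 lc_a_rc_3_2 lc_a_rc_4_2 lc_a_rc_2_2 lc_a_rc_3_2 lc_a_rc_1_4 lc_a_rc_4_2 lc_a_rc_8_0 lc_a_rc_1_4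 lc_a_rc_3_2 lc_a_rc_4_2 lc_a_rc_0_1 lc_a_rc_7_2 lc_a_rc_1_2 lc_a_rc_5_2 lc_a_rc_8_2 lc_a_rc_5_2) (@D3.rec (fun _ => (Cert rels S Gen.a)) lc_a_rc_6_2 lc_a_rc_3_2 lc_a_rc_2_2 lc_a_rc_4_2 lc_a_rc_6_2 lc_a_rc_2_2 lc_a_Cert_tree lc_a_rc_1_4 lc_a_rc_3_2 lc_a_rc_4_2 lc_a_rc_2_2 lc_a_rc_3_2 lc_a_rc_4_0 lc_a_rc_3_2 lc_a_rc_4_2 lc_a_rc_3_2 lc_a_rc_5_2 lc_a_rc_5_2 lc_a_rc_5_2 lc_a_rc_1_2 lc_a_rc_2_2 lc_a_rc_4_2 lc_a_rc_6_2 lc_a_rc_2_2 lc_a_rc_0_0 lc_a_rc_2_2 lc_a_rc_3_2 lc_a_rc_8_2 lc_a_rc_5_2 lc_a_rc_5_2 lc_a_rc_3_2 lc_a_rc_4_2) (@D3.rec (fun _ => (Cert rels S Gen.a)) lc_a_rc_8_2 lc_a_rc_2_0 lc_a_rc_8_2 lc_a_rc_5_2 lc_a_rc_8_2 lc_a_rc_3_2 lc_a_rc_1_4 lc_a_rc_3_2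 lc_a_rc_2_2 lc_a_rc_4_2 lc_a_rc_6_2 lc_a_rc_0_1 lc_a_rc_5_2 lc_a_rc_8_2 lc_a_rc_5_2 lc_a_rc_8_2 lc_a_rc_2_2 lc_a_rc_5_2 lc_a_rc_3_2 lc_a_rc_2_2 lc_a_rc_4_2 lc_a_Cert_tree lc_a_rc_2_2 lc_a_rc_6_2 lc_a_rc_7_2 lc_a_rc_2_2 lc_a_rc_0_0 lc_a_rc_0_0 lc_a_rc_0_0 lc_a_rc_3_0 lc_a_rc_0_0 lc_a_rc_8_0) (@D3.rec (fun _ => (Cert rels S Gen.a)) lc_a_Cert_tree lc_a_rc_1_2 lc_a_rc_2_2 lc_a_rc_5_2 lc_a_rc_8_2 lc_a_rc_4_2 lc_a_rc_2_2 lc_a_rc_4_2 lc_a_Cert_tree lc_a_rc_4_2 lc_a_rc_3_2 lc_a_rc_0_0 lc_a_rc_4_2 lc_a_rc_1_2 lc_a_rc_2_2 lc_a_rc_1_2 lc_a_rc_0_0 lc_a_rc_2_2 lc_a_rc_1_2 lc_a_rc_46_49 lc_a_rc_2_2 lc_a_rc_3_2 lc_a_rc_2_2 lc_a_rc_0_0 lc_a_rc_1_4 lc_a_rc_5_2 lc_a_rc_4_2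 lc_a_Cert_tree lc_a_rc_5_2 lc_a_rc_4_2 lc_a_rc_3_2 lc_a_rc_4_2) (@D3.rec (fun _ => (Cert rels S Gen.a)) lc_a_rc_3_2 lc_a_rc_2_2 lc_a_rc_4_2 lc_a_rc_5_2 lc_a_rc_4_2 lc_a_rc_6_2 lc_a_rc_5_2 lc_a_rc_2_2 lc_a_rc_3_2 lc_a_rc_5_2 lc_a_rc_5_2 lc_a_rc_5_2 lc_a_rc_5_2 lc_a_rc_8_2 lc_a_rc_5_2 lc_a_rc_4_2 lc_a_rc_5_2 lc_a_rc_3_2 lc_a_rc_8_2 lc_a_rc_5_2 lc_a_rc_6_2 lc_a_rc_3_2 lc_a_rc_5_2 lc_a_rc_3_2 lc_a_rc_2_2 lc_a_rc_3_2 lc_a_rc_3_2 lc_a_rc_4_2 lc_a_rc_3_2 lc_a_rc_5_2 lc_a_rc_3_2 lc_a_rc_2_2) (@D3.rec (fun _ => (Cert rels S Gen.a)) lc_a_rc_4_2 lc_a_rc_4_2 lc_a_rc_8_2 lc_a_rc_5_2 lc_a_rc_8_2 lc_a_rc_5_2 lc_a_rc_3_2 lc_a_rc_4_2 lc_a_rc_6_2 lc_a_rc_4_0 lc_a_rc_3_2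 lc_a_rc_4_2 lc_a_rc_2_2 lc_a_rc_5_2 lc_a_rc_3_2 lc_a_rc_2_2 lc_a_rc_4_2 lc_a_rc_5_2 lc_a_rc_8_2 lc_a_rc_5_2 lc_a_rc_3_2 lc_a_rc_4_2 lc_a_rc_6_2 lc_a_rc_8_2 lc_a_rc_5_2 lc_a_rc_3_2 lc_a_rc_2_2 lc_a_rc_4_2 lc_a_rc_1_4 lc_a_rc_8_2 lc_a_rc_5_2 lc_a_rc_8_2) (@D3.rec (fun _ => (Cert rels S Gen.a)) lc_a_rc_3_2 lc_a_rc_3_2 lc_a_rc_2_2 lc_a_rc_4_2 lc_a_rc_2_2 lc_a_rc_6_2 lc_a_rc_5_2 lc_a_rc_5_2 lc_a_rc_8_2 lc_a_rc_5_2 lc_a_rc_8_2 lc_a_rc_2_2 lc_a_rc_5_2 lc_a_rc_3_2 lc_a_rc_2_2 lc_a_rc_4_2 lc_a_rc_2_2 lc_a_rc_6_2 lc_a_rc_7_2 lc_a_rc_5_2 lc_a_rc_5_2 lc_a_rc_8_2 lc_a_rc_5_2 lc_a_rc_2_2 lc_a_rc_2_2 lc_a_rc_8_2 lc_a_rc_2_2 lc_a_rc_2_2 lc_a_rc_2_2 lc_a_rc_2_2 lc_a_rc_2_2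 lc_a_rc_2_2) (@D3.rec (fun _ => (Cert rels S Gen.a)) lc_a_rc_2_2 lc_a_rc_3_2 lc_a_rc_3_2 lc_a_rc_5_2 lc_a_rc_3_2 lc_a_rc_5_2 lc_a_rc_5_2 lc_a_rc_3_0 lc_a_rc_4_2 lc_a_rc_6_2 lc_a_rc_6_2 lc_a_rc_4_0 lc_a_rc_4_2 lc_a_rc_5_2 lc_a_rc_3_2 lc_a_rc_2_2 lc_a_rc_4_2 lc_a_rc_4_2 lc_a_rc_6_2 lc_a_rc_4_0 lc_a_rc_5_2 lc_a_rc_5_2 lc_a_rc_5_2 lc_a_rc_4_2 lc_a_rc_6_2 lc_a_rc_7_2 lc_a_rc_2_2 lc_a_rc_1_2 lc_a_rc_3_2 lc_a_rc_5_2 lc_a_rc_4_2 lc_a_rc_3_2) (@D3.rec (fun _ => (Cert rels S Gen.a)) lc_a_rc_5_2 lc_a_rc_3_2 lc_a_rc_4_0 lc_a_rc_4_2 lc_a_rc_5_2 lc_a_rc_1_4 lc_a_rc_3_2 lc_a_rc_4_2 lc_a_rc_3_0 lc_a_rc_3_0 lc_a_rc_5_2 lc_a_rc_8_2 lc_a_rc_3_2 lc_a_rc_5_2 lc_a_rc_3_2 lc_a_rc_2_2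 lc_a_rc_3_2 lc_a_rc_6_2 lc_a_rc_3_2 lc_a_rc_2_2 lc_a_rc_4_2 lc_a_Cert_tree lc_a_rc_6_2 lc_a_rc_8_2 lc_a_rc_5_2 lc_a_rc_3_2 lc_a_rc_4_2 lc_a_rc_1_4 lc_a_rc_1_4 lc_a_rc_2_2 lc_a_rc_8_2 lc_a_rc_3_2) (@D3.rec (fun _ => (Cert rels S Gen.a)) lc_a_rc_3_2 lc_a_rc_2_2 lc_a_rc_4_2 lc_a_rc_6_2 lc_a_rc_5_2 lc_a_rc_5_2 lc_a_rc_8_2 lc_a_rc_5_2 lc_a_rc_8_2 lc_a_rc_5_2 lc_a_rc_3_2 lc_a_rc_4_2 lc_a_rc_6_2 lc_a_rc_7_2 lc_a_rc_5_2 lc_a_rc_5_2 lc_a_rc_1_4 lc_a_rc_5_2 lc_a_rc_8_2 lc_a_rc_5_2 lc_a_rc_3_2 lc_a_rc_4_2 lc_a_rc_6_2 lc_a_rc_7_2 lc_a_rc_4_2 lc_a_rc_8_2 lc_a_rc_5_2 lc_a_rc_8_2 lc_a_rc_3_2 lc_a_rc_3_2 lc_a_rc_2_2 lc_a_rc_4_2) (@D3.rec (fun _ => (Cert rels S Gen.a))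 lc_a_rc_6_2 lc_a_rc_5_2 lc_a_rc_1_4 lc_a_rc_8_2 lc_a_rc_3_2 lc_a_rc_3_2 lc_a_rc_2_2 lc_a_rc_4_2 lc_a_rc_3_2 lc_a_rc_2_2 lc_a_rc_4_2 lc_a_rc_3_2 lc_a_rc_2_2 lc_a_rc_6_2 lc_a_rc_7_2 lc_a_rc_3_2 lc_a_rc_5_2 lc_a_rc_8_2 lc_a_rc_2_2 lc_a_rc_5_2 lc_a_rc_2_2 lc_a_rc_8_2 lc_a_rc_46_28 lc_a_rc_2_2 lc_a_rc_6_2 lc_a_rc_4_2 lc_a_rc_2_2 lc_a_rc_6_2 lc_a_rc_1_4 lc_a_rc_2_2 lc_a_rc_7_2 lc_a_rc_3_2)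
def ce_a_15 : D2 → D3 → (Cert rels S Gen.a) := @D2.rec (fun _ => D3 → (Cert rels S Gen.a)) (@D3.rec (fun _ => (Cert rels S Gen.a)) lc_a_rc_8_0 lc_a_rc_7_0 lc_a_rc_4_2 lc_a_rc_2_0 lc_a_rc_0_0 lc_a_rc_3_2 lc_a_rc_2_2 lc_a_rc_2_2 lc_a_rc_4_2 lc_a_rc_2_2 lc_a_rc_1_4 lc_a_Cert_tree lc_a_rc_4_2 lc_a_Cert_tree lc_a_Cert_tree lc_a_rc_0_0 lc_a_rc_5_2 lc_a_rc_5_2 lc_a_rc_8_2 lc_a_rc_3_2 lc_a_rc_3_2 lc_a_rc_2_2 lc_a_rc_3_2 lc_a_rc_2_2 lc_a_rc_1_4 lc_a_rc_3_2 lc_a_rc_3_2 lc_a_rc_2_2 lc_a_rc_2_2 lc_a_rc_3_2 lc_a_rc_2_2 lc_a_rc_46_56) (@D3.rec (fun _ => (Cert rels S Gen.a)) lc_a_rc_2_2 lc_a_rc_1_0 lc_a_rc_0_1 lc_a_rc_2_2 lc_a_rc_4_2 lc_a_Cert_tree lc_a_Cert_tree lc_a_rc_7_2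 lc_a_rc_2_0 lc_a_rc_3_2 lc_a_rc_3_2 lc_a_rc_0_0 lc_a_rc_1_0 lc_a_rc_6_0 lc_a_Cert_tree lc_a_rc_46_56 lc_a_rc_2_2 lc_a_rc_0_0 lc_a_rc_5_2 lc_a_rc_0_0 lc_a_rc_8_2 lc_a_rc_3_2 lc_a_rc_5_2 lc_a_rc_6_2 lc_a_rc_3_2 lc_a_rc_5_2 lc_a_rc_3_2 lc_a_rc_2_2 lc_a_rc_2_2 lc_a_rc_4_2 lc_a_rc_8_2 lc_a_rc_5_2) (@D3.rec (fun _ => (Cert rels S Gen.a)) lc_a_rc_2_2 lc_a_rc_4_2 lc_a_rc_6_2 lc_a_rc_2_2 lc_a_rc_5_2 lc_a_rc_3_2 lc_a_rc_2_2 lc_a_rc_4_2 lc_a_rc_2_2 lc_a_rc_4_2 lc_a_rc_5_2 lc_a_rc_8_2 lc_a_rc_5_2 lc_a_rc_8_2 lc_a_rc_2_2 lc_a_rc_5_2 lc_a_rc_2_2 lc_a_rc_4_2 lc_a_Cert_tree lc_a_rc_2_2 lc_a_rc_6_2 lc_a_rc_7_2 lc_a_rc_0_0 lc_a_rc_5_2 lc_a_rc_8_2 lc_a_rc_2_2 lc_a_rc_2_2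 lc_a_rc_8_2 lc_a_Cert_tree lc_a_rc_2_2 lc_a_rc_0_0 lc_a_rc_4_2) (@D3.rec (fun _ => (Cert rels S Gen.a)) lc_a_rc_2_2 lc_a_rc_46_42 lc_a_rc_2_2 lc_a_rc_3_2 lc_a_rc_5_2 lc_a_rc_8_0 lc_a_rc_5_2 lc_a_rc_3_2 lc_a_rc_5_2 lc_a_rc_3_2 lc_a_rc_2_2 lc_a_rc_3_2 lc_a_rc_6_2 lc_a_rc_3_2 lc_a_rc_2_2 lc_a_rc_4_2 lc_a_Cert_tree lc_a_rc_1_2 lc_a_rc_4_2 lc_a_rc_5_2 lc_a_rc_8_2 lc_a_rc_2_2 lc_a_rc_5_2 lc_a_rc_2_2 lc_a_rc_4_2 lc_a_rc_2_2 lc_a_rc_6_2 lc_a_rc_7_2 lc_a_rc_3_2 lc_a_rc_3_2 lc_a_rc_8_2 lc_a_rc_2_2) (@D3.rec (fun _ => (Cert rels S Gen.a)) lc_a_rc_5_2 lc_a_rc_2_2 lc_a_rc_8_2 lc_a_Cert_tree lc_a_rc_2_2 lc_a_rc_6_2 lc_a_rc_2_2 lc_a_rc_4_2 lc_a_rc_3_2 lc_a_rc_2_2 lc_a_rc_6_2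 lc_a_rc_0_0 lc_a_rc_4_2 lc_a_rc_2_2 lc_a_rc_7_2 lc_a_rc_3_2 lc_a_rc_5_2 lc_a_rc_5_2 lc_a_rc_2_2 lc_a_rc_8_2 lc_a_rc_5_2 lc_a_rc_46_7 lc_a_Cert_tree lc_a_rc_2_2 lc_a_rc_0_0 lc_a_rc_4_2 lc_a_rc_3_2 lc_a_rc_4_2 lc_a_rc_5_2 lc_a_Cert_tree lc_a_rc_0_0 lc_a_rc_3_2) (@D3.rec (fun _ => (Cert rels S Gen.a)) lc_a_rc_0_0 lc_a_rc_4_2 lc_a_rc_4_2 lc_a_rc_5_2 lc_a_rc_4_2 lc_a_rc_3_2 lc_a_rc_5_2 lc_a_rc_6_2 lc_a_rc_3_2 lc_a_rc_5_2 lc_a_rc_3_2 lc_a_rc_2_2 lc_a_rc_3_2 lc_a_rc_3_2 lc_a_rc_5_2 lc_a_rc_3_2 lc_a_rc_4_2 lc_a_rc_2_2 lc_a_rc_3_2 lc_a_rc_5_2 lc_a_rc_3_2 lc_a_rc_2_2 lc_a_rc_4_2 lc_a_rc_5_2 lc_a_rc_8_2 lc_a_rc_5_2 lc_a_rc_3_2 lc_a_rc_2_2 lc_a_rc_4_2 lc_a_rc_6_2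 lc_a_rc_2_2 lc_a_rc_2_2) (@D3.rec (fun _ => (Cert rels S Gen.a)) lc_a_rc_3_2 lc_a_rc_3_2 lc_a_rc_4_2 lc_a_rc_2_2 lc_a_rc_3_2 lc_a_rc_3_2 lc_a_rc_4_2 lc_a_rc_2_2 lc_a_rc_4_2 lc_a_rc_6_2 lc_a_rc_5_2 lc_a_rc_3_2 lc_a_rc_2_2 lc_a_rc_4_2 lc_a_rc_5_2 lc_a_rc_3_2 lc_a_rc_3_2 lc_a_rc_4_2 lc_a_rc_2_2 lc_a_rc_6_2 lc_a_rc_5_2 lc_a_rc_8_2 lc_a_rc_5_2 lc_a_rc_8_2 lc_a_rc_2_2 lc_a_rc_5_2 lc_a_rc_3_2 lc_a_rc_2_2 lc_a_rc_4_2 lc_a_Cert_tree lc_a_rc_2_2 lc_a_rc_6_2) (@D3.rec (fun _ => (Cert rels S Gen.a)) lc_a_rc_7_2 lc_a_rc_0_0 lc_a_rc_2_2 lc_a_Cert_tree lc_a_rc_0_0 lc_a_rc_2_2 lc_a_rc_2_2 lc_a_rc_2_2 lc_a_rc_3_2 lc_a_rc_5_2 lc_a_rc_5_2 lc_a_rc_5_2 lc_a_rc_5_2 lc_a_rc_5_2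 lc_a_rc_3_2 lc_a_rc_1_4 lc_a_rc_3_2 lc_a_rc_4_2 lc_a_rc_5_2 lc_a_rc_3_2 lc_a_rc_5_2 lc_a_rc_3_2 lc_a_rc_2_2 lc_a_rc_3_2 lc_a_rc_6_2 lc_a_rc_2_2 lc_a_rc_4_2 lc_a_Cert_tree lc_a_rc_4_2 lc_a_rc_4_2 lc_a_rc_5_2 lc_a_rc_2_2) (@D3.rec (fun _ => (Cert rels S Gen.a)) lc_a_rc_4_2 lc_a_rc_6_2 lc_a_rc_2_2 lc_a_rc_4_2 lc_a_rc_1_4 lc_a_rc_5_2 lc_a_rc_3_2 lc_a_rc_3_2 lc_a_rc_2_2 lc_a_rc_4_2 lc_a_rc_6_2 lc_a_rc_4_2 lc_a_rc_5_2 lc_a_rc_4_2 lc_a_rc_5_2 lc_a_rc_8_2 lc_a_rc_2_2 lc_a_rc_5_2 lc_a_rc_3_2 lc_a_rc_2_2 lc_a_rc_4_2 lc_a_Cert_tree lc_a_rc_2_2 lc_a_rc_6_2 lc_a_rc_7_2 lc_a_rc_1_4 lc_a_rc_0_0 lc_a_rc_3_2 lc_a_rc_2_2 lc_a_rc_4_2 lc_a_rc_6_2 lc_a_rc_4_2) (@D3.rec (fun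 _ => (Cert rels S Gen.a)) lc_a_rc_5_2 lc_a_rc_2_2 lc_a_rc_4_2 lc_a_rc_6_2 lc_a_rc_0_0 lc_a_rc_0_0 lc_a_rc_2_2 lc_a_rc_5_2 lc_a_rc_3_2 lc_a_rc_0_0 lc_a_rc_2_0 lc_a_Cert_tree lc_a_rc_2_2 lc_a_rc_6_2 lc_a_rc_7_2 lc_a_rc_1_2 lc_a_rc_2_2 lc_a_rc_5_2 lc_a_rc_8_2 lc_a_rc_3_2 lc_a_rc_3_2 lc_a_rc_2_2 lc_a_rc_4_2 lc_a_rc_6_2 lc_a_rc_4_2 lc_a_rc_1_4 lc_a_rc_4_2 lc_a_rc_3_2 lc_a_rc_3_2 lc_a_rc_2_2 lc_a_rc_4_2 lc_a_rc_3_2) (@D3.rec (fun _ => (Cert rels S Gen.a)) lc_a_rc_2_2 lc_a_rc_4_2 lc_a_rc_1_4 lc_a_rc_2_2 lc_a_rc_6_2 lc_a_rc_7_2 lc_a_rc_8_2 lc_a_rc_5_2 lc_a_rc_8_2 lc_a_rc_46_49 lc_a_rc_5_2 lc_a_rc_2_2 lc_a_rc_8_2 lc_a_Cert_tree lc_a_rc_2_2 lc_a_rc_6_2 lc_a_rc_4_2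 lc_a_rc_3_2 lc_a_rc_2_2 lc_a_rc_6_2 lc_a_rc_0_0 lc_a_rc_4_2 lc_a_rc_2_2 lc_a_rc_7_2 lc_a_rc_2_2 lc_a_rc_5_2 lc_a_Cert_tree lc_a_rc_1_2 lc_a_rc_2_2 lc_a_rc_0_0 lc_a_rc_46_7 lc_a_rc_5_2) (@D3.rec (fun _ => (Cert rels S Gen.a)) lc_a_Cert_tree lc_a_rc_4_2 lc_a_rc_0_0 lc_a_rc_4_2 lc_a_rc_4_0 lc_a_rc_4_2 lc_a_rc_5_0 lc_a_rc_2_2 lc_a_rc_2_2 lc_a_rc_0_0 lc_a_rc_5_2 lc_a_rc_6_2 lc_a_rc_3_2 lc_a_rc_4_2 lc_a_rc_6_2 lc_a_rc_2_2 lc_a_rc_4_2 lc_a_rc_2_2 lc_a_rc_6_2 lc_a_rc_5_2 lc_a_rc_6_2 lc_a_rc_7_2 lc_a_rc_5_2 lc_a_rc_3_2 lc_a_rc_3_2 lc_a_rc_3_2 lc_a_rc_5_2 lc_a_rc_5_2 lc_a_rc_3_2 lc_a_rc_5_2 lc_a_rc_3_2 lc_a_rc_2_2) (@D3.rec (fun _ => (Cert rels S Gen.a)) lc_a_rc_4_2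 lc_a_rc_8_2 lc_a_rc_3_2 lc_a_rc_3_2 lc_a_rc_2_2 lc_a_rc_3_2 lc_a_rc_6_2 lc_a_rc_2_2 lc_a_rc_4_2 lc_a_Cert_tree lc_a_rc_4_2 lc_a_rc_2_2 lc_a_rc_4_2 lc_a_rc_6_2 lc_a_rc_2_2 lc_a_rc_4_2 lc_a_rc_3_2 lc_a_rc_4_2 lc_a_rc_2_2 lc_a_rc_6_2 lc_a_rc_5_2 lc_a_rc_8_2 lc_a_rc_5_2 lc_a_rc_8_2 lc_a_rc_5_2 lc_a_rc_4_2 lc_a_rc_6_2 lc_a_rc_7_2 lc_a_rc_5_2 lc_a_rc_2_2 lc_a_rc_4_2 lc_a_rc_4_2) (@D3.rec (fun _ => (Cert rels S Gen.a)) lc_a_rc_3_2 lc_a_rc_2_2 lc_a_rc_4_2 lc_a_rc_2_2 lc_a_rc_4_0 lc_a_rc_5_2 lc_a_rc_8_2 lc_a_rc_5_2 lc_a_rc_4_2 lc_a_rc_6_2 lc_a_rc_7_2 lc_a_rc_8_2 lc_a_rc_3_2 lc_a_rc_2_2 lc_a_rc_4_2 lc_a_rc_2_2 lc_a_rc_6_2 lc_a_rc_4_2 lc_a_rc_4_2 lc_a_rc_5_2 lc_a_rc_3_2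 lc_a_rc_2_2 lc_a_rc_4_2 lc_a_rc_2_2 lc_a_rc_4_2 lc_a_rc_2_2 lc_a_rc_6_2 lc_a_rc_4_2 lc_a_rc_2_2 lc_a_rc_7_2 lc_a_rc_3_2 lc_a_rc_5_2) (@D3.rec (fun _ => (Cert rels S Gen.a)) lc_a_rc_8_2 lc_a_rc_2_2 lc_a_rc_5_2 lc_a_rc_2_2 lc_a_rc_8_2 lc_a_rc_2_2 lc_a_rc_6_2 lc_a_rc_4_2 lc_a_rc_2_2 lc_a_rc_6_2 lc_a_rc_2_2 lc_a_rc_7_2 lc_a_rc_3_2 lc_a_rc_2_2 lc_a_rc_3_2 lc_a_rc_3_2 lc_a_rc_5_2 lc_a_rc_5_2 lc_a_rc_8_2 lc_a_rc_4_2 lc_a_rc_2_2 lc_a_rc_5_2 lc_a_rc_6_2 lc_a_rc_4_2 lc_a_rc_7_2 lc_a_rc_7_2 lc_a_rc_3_2 lc_a_rc_3_2 lc_a_rc_2_2 lc_a_rc_5_2 lc_a_rc_2_2 lc_a_rc_4_2) (@D3.rec (fun _ => (Cert rels S Gen.a)) lc_a_rc_2_2 lc_a_rc_6_2 lc_a_rc_4_2 lc_a_rc_3_2 lc_a_rc_5_2 lc_a_rc_5_2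 lc_a_rc_5_2 lc_a_rc_6_2 lc_a_rc_4_2 lc_a_rc_7_2 lc_a_rc_4_0 lc_a_rc_3_2 lc_a_rc_6_2 lc_a_Cert_tree lc_a_rc_5_2 lc_a_rc_3_2 lc_a_rc_4_2 lc_a_rc_5_2 lc_a_rc_5_2 lc_a_rc_3_2 lc_a_rc_3_2 lc_a_rc_4_0 lc_a_rc_4_2 lc_a_rc_6_2 lc_a_rc_5_2 lc_a_rc_5_2 lc_a_rc_7_2 lc_a_rc_3_2 lc_a_rc_4_0 lc_a_rc_3_2 lc_a_rc_7_2 lc_a_rc_2_2) (@D3.rec (fun _ => (Cert rels S Gen.a)) lc_a_rc_4_2 lc_a_Cert_tree lc_a_rc_2_2 lc_a_rc_3_2 lc_a_rc_7_2 lc_a_rc_3_0 lc_a_Cert_tree lc_a_rc_2_2 lc_a_rc_0_0 lc_a_rc_7_2 lc_a_rc_8_2 lc_a_rc_3_2 lc_a_rc_2_2 lc_a_rc_4_2 lc_a_rc_6_2 lc_a_rc_4_2 lc_a_rc_4_2 lc_a_rc_3_2 lc_a_rc_3_2 lc_a_rc_2_2 lc_a_rc_4_2 lc_a_rc_2_2 lc_a_rc_4_2 lc_a_rc_2_2 lc_a_rc_6_2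 lc_a_rc_7_2 lc_a_rc_3_2 lc_a_rc_5_2 lc_a_rc_8_2 lc_a_rc_5_2 lc_a_rc_8_2 lc_a_rc_6_2) (@D3.rec (fun _ => (Cert rels S Gen.a)) lc_a_rc_4_2 lc_a_rc_6_2 lc_a_rc_7_2 lc_a_rc_3_2 lc_a_rc_3_2 lc_a_rc_3_2 lc_a_rc_5_2 lc_a_rc_8_2 lc_a_rc_6_2 lc_a_rc_4_2 lc_a_rc_6_2 lc_a_rc_7_2 lc_a_rc_5_2 lc_a_rc_8_2 lc_a_rc_3_2 lc_a_rc_3_2 lc_a_rc_2_2 lc_a_rc_4_2 lc_a_rc_2_2 lc_a_rc_4_2 lc_a_rc_1_4 lc_a_rc_2_2 lc_a_rc_6_2 lc_a_rc_7_2 lc_a_rc_3_2 lc_a_rc_3_2 lc_a_rc_3_2 lc_a_rc_2_2 lc_a_rc_4_2 lc_a_rc_2_2 lc_a_rc_4_2 lc_a_rc_0_1) (@D3.rec (fun _ => (Cert rels S Gen.a)) lc_a_rc_2_2 lc_a_rc_6_2 lc_a_rc_4_2 lc_a_rc_2_2 lc_a_rc_6_2 lc_a_rc_0_1 lc_a_rc_2_2 lc_a_rc_7_2 lc_a_rc_2_2 lc_a_rc_3_2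 lc_a_rc_5_2 lc_a_rc_8_2 lc_a_rc_2_2 lc_a_rc_6_2 lc_a_rc_2_2 lc_a_rc_8_2 lc_a_rc_1_4 lc_a_rc_3_2 lc_a_rc_2_2 lc_a_rc_7_2 lc_a_rc_6_2 lc_a_rc_2_2 lc_a_rc_7_2 lc_a_rc_1_4 lc_a_rc_2_2 lc_a_rc_7_2 lc_a_rc_0_0 lc_a_rc_0_0 lc_a_Cert_tree lc_a_rc_0_0 lc_a_rc_0_0 lc_a_rc_3_2) (@D3.rec (fun _ => (Cert rels S Gen.a)) lc_a_rc_3_2 lc_a_rc_2_2 lc_a_rc_2_2 lc_a_rc_3_0 lc_a_rc_2_2 lc_a_rc_46_56 lc_a_rc_2_2 lc_a_rc_4_0 lc_a_Cert_tree lc_a_rc_2_2 lc_a_rc_0_0 lc_a_rc_0_0 lc_a_rc_3_2 lc_a_rc_3_0 lc_a_rc_46_28 lc_a_Cert_tree lc_a_rc_46_56 lc_a_rc_0_0 lc_a_rc_0_0 lc_a_rc_0_1 lc_a_rc_3_2 lc_a_rc_2_2 lc_a_rc_4_2 lc_a_rc_3_2 lc_a_rc_3_2 lc_a_rc_2_2 lc_a_rc_3_2 lc_a_rc_6_2 lc_a_rc_2_2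 lc_a_rc_4_2 lc_a_Cert_tree lc_a_rc_2_2) (@D3.rec (fun _ => (Cert rels S Gen.a)) lc_a_rc_4_2 lc_a_rc_8_2 lc_a_rc_2_2 lc_a_rc_5_2 lc_a_rc_3_2 lc_a_rc_2_2 lc_a_rc_6_2 lc_a_rc_7_2 lc_a_rc_5_2 lc_a_rc_2_2 lc_a_rc_4_2 lc_a_rc_46_42 lc_a_rc_2_2 lc_a_rc_4_2 lc_a_rc_3_2 lc_a_rc_2_2 lc_a_rc_4_2 lc_a_rc_3_2 lc_a_rc_8_2 lc_a_rc_2_2 lc_a_rc_5_2 lc_a_rc_2_2 lc_a_rc_8_2 lc_a_Cert_tree lc_a_rc_2_2 lc_a_rc_6_2 lc_a_rc_2_2 lc_a_rc_6_2 lc_a_rc_0_0 lc_a_rc_4_2 lc_a_rc_2_2 lc_a_rc_7_2) (@D3.rec (fun _ => (Cert rels S Gen.a)) lc_a_rc_2_2 lc_a_Cert_tree lc_a_rc_2_2 lc_a_rc_0_0 lc_a_rc_4_2 lc_a_rc_3_2 lc_a_rc_4_2 lc_a_rc_0_1 lc_a_rc_3_2 lc_a_rc_5_2 lc_a_rc_8_2 lc_a_rc_3_2 lc_a_rc_3_2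 lc_a_rc_2_2 lc_a_rc_3_2 lc_a_rc_5_2 lc_a_rc_2_2 lc_a_rc_4_2 lc_a_Cert_tree lc_a_rc_2_2 lc_a_rc_3_2 lc_a_rc_7_2 lc_a_rc_3_0 lc_a_Cert_tree lc_a_rc_2_2 lc_a_rc_0_0 lc_a_rc_3_2 lc_a_rc_5_2 lc_a_rc_2_2 lc_a_rc_5_2 lc_a_rc_2_2 lc_a_rc_8_2)
def ce_a_16 : D2 → D3 → (Cert rels S Gen.a) := @D2.rec (fun _ => D3 → (Cert rels S Gen.a)) (@D3.rec (fun _ => (Cert rels S Gen.a)) lc_a_rc_2_2 lc_a_rc_6_2 lc_a_rc_2_2 lc_a_rc_4_2 lc_a_rc_2_2 lc_a_rc_7_2 lc_a_rc_0_0 lc_a_rc_3_2 lc_a_rc_2_2 lc_a_rc_4_2 lc_a_rc_2_2 lc_a_rc_8_2 lc_a_rc_5_2 lc_a_rc_2_2 lc_a_rc_6_2 lc_a_Cert_tree lc_a_rc_2_2 lc_a_rc_8_2 lc_a_rc_0_0 lc_a_rc_4_2 lc_a_rc_3_2 lc_a_rc_2_2 lc_a_rc_7_2 lc_a_rc_2_2 lc_a_rc_4_0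 lc_a_rc_4_2 lc_a_rc_3_2 lc_a_rc_2_2 lc_a_rc_7_2 lc_a_rc_4_2 lc_a_rc_6_2 lc_a_rc_2_2) (@D3.rec (fun _ => (Cert rels S Gen.a)) lc_a_rc_3_2 lc_a_rc_46_28 lc_a_rc_8_2 lc_a_rc_46_49 lc_a_rc_0_0 lc_a_rc_4_2 lc_a_rc_3_2 lc_a_rc_4_2 lc_a_rc_3_2 lc_a_rc_0_0 lc_a_rc_4_2 lc_a_rc_3_2 lc_a_rc_5_2 lc_a_rc_2_2 lc_a_rc_4_2 lc_a_rc_3_2 lc_a_rc_3_2 lc_a_rc_2_2 lc_a_rc_3_2 lc_a_rc_6_2 lc_a_rc_2_2 lc_a_rc_4_2 lc_a_Cert_tree lc_a_rc_4_2 lc_a_rc_2_2 lc_a_rc_4_2 lc_a_rc_5_2 lc_a_rc_2_2 lc_a_rc_4_2 lc_a_rc_6_2 lc_a_rc_2_2 lc_a_rc_4_2) (@D3.rec (fun _ => (Cert rels S Gen.a)) lc_a_rc_3_2 lc_a_rc_4_2 lc_a_rc_2_2 lc_a_rc_6_2 lc_a_rc_5_2 lc_a_rc_8_2 lc_a_rc_2_2 lc_a_rc_5_2 lc_a_rc_2_2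 lc_a_rc_4_2 lc_a_rc_2_2 lc_a_rc_2_2 lc_a_rc_6_2 lc_a_rc_7_2 lc_a_rc_4_2 lc_a_rc_2_2 lc_a_rc_4_2 lc_a_rc_6_2 lc_a_rc_4_2 lc_a_rc_4_2 lc_a_rc_6_2 lc_a_rc_2_2 lc_a_rc_6_2 lc_a_rc_7_2 lc_a_rc_3_2 lc_a_rc_4_2 lc_a_rc_2_2 lc_a_rc_6_2 lc_a_rc_5_2 lc_a_rc_4_2 lc_a_rc_4_2 lc_a_rc_6_2) (@D3.rec (fun _ => (Cert rels S Gen.a)) lc_a_rc_4_2 lc_a_rc_2_2 lc_a_rc_7_2 lc_a_rc_5_2 lc_a_rc_8_2 lc_a_rc_5_2 lc_a_rc_2_2 lc_a_rc_8_2 lc_a_Cert_tree lc_a_rc_2_2 lc_a_rc_6_2 lc_a_rc_4_2 lc_a_rc_2_2 lc_a_rc_6_2 lc_a_rc_0_0 lc_a_rc_4_2 lc_a_rc_2_2 lc_a_rc_7_2 lc_a_rc_0_0 lc_a_rc_3_2 lc_a_rc_5_2 lc_a_rc_5_2 lc_a_rc_5_2 lc_a_rc_5_2 lc_a_rc_3_2 lc_a_rc_4_2 lc_a_rc_3_2 lc_a_rc_4_2 lc_a_rc_6_2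 lc_a_rc_5_2 lc_a_rc_2_2 lc_a_rc_3_2) (@D3.rec (fun _ => (Cert rels S Gen.a)) lc_a_rc_5_2 lc_a_rc_2_2 lc_a_rc_4_2 lc_a_Cert_tree lc_a_rc_2_2 lc_a_rc_3_2 lc_a_rc_7_2 lc_a_rc_2_2 lc_a_rc_0_0 lc_a_rc_6_2 lc_a_rc_4_2 lc_a_rc_2_2 lc_a_rc_5_2 lc_a_rc_3_2 lc_a_rc_2_2 lc_a_rc_6_2 lc_a_rc_7_2 lc_a_rc_6_2 lc_a_rc_3_2 lc_a_rc_3_2 lc_a_rc_2_2 lc_a_rc_4_2 lc_a_rc_4_2 lc_a_rc_2_2 lc_a_rc_4_0 lc_a_rc_7_2 lc_a_rc_5_2 lc_a_rc_5_2 lc_a_rc_5_2 lc_a_rc_2_2 lc_a_rc_5_2 lc_a_rc_2_2) (@D3.rec (fun _ => (Cert rels S Gen.a)) lc_a_rc_8_2 lc_a_Cert_tree lc_a_rc_2_2 lc_a_rc_6_2 lc_a_rc_4_2 lc_a_rc_1_4 lc_a_rc_2_2 lc_a_rc_6_2 lc_a_rc_0_0 lc_a_rc_4_2 lc_a_rc_2_2 lc_a_rc_7_2 lc_a_rc_2_2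 lc_a_rc_4_2 lc_a_rc_2_2 lc_a_rc_6_2 lc_a_rc_7_2 lc_a_rc_6_2 lc_a_rc_2_2 lc_a_rc_5_2 lc_a_rc_3_2 lc_a_rc_2_2 lc_a_rc_6_2 lc_a_rc_7_2 lc_a_rc_3_2 lc_a_rc_5_2 lc_a_rc_2_0 lc_a_Cert_tree lc_a_rc_2_2 lc_a_rc_5_2 lc_a_rc_4_2 lc_a_rc_1_2) (@D3.rec (fun _ => (Cert rels S Gen.a)) lc_a_rc_4_2 lc_a_rc_2_0 lc_a_rc_0_0 lc_a_rc_8_2 lc_a_rc_2_2 lc_a_rc_7_2 lc_a_rc_3_2 lc_a_rc_3_2 lc_a_rc_2_2 lc_a_rc_4_2 lc_a_rc_4_2 lc_a_rc_2_2 lc_a_rc_6_2 lc_a_rc_7_2 lc_a_rc_5_2 lc_a_rc_3_2 lc_a_rc_5_0 lc_a_rc_2_2 lc_a_rc_4_2 lc_a_rc_2_2 lc_a_rc_4_2 lc_a_rc_1_4 lc_a_rc_2_2 lc_a_rc_6_2 lc_a_rc_2_2 lc_a_rc_4_2 lc_a_rc_2_2 lc_a_rc_6_2 lc_a_rc_1_4 lc_a_rc_2_2 lc_a_rc_7_2 lc_a_rc_2_2) (@D3.rec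 (fun _ => (Cert rels S Gen.a)) lc_a_rc_5_2 lc_a_rc_1_0 lc_a_rc_8_2 lc_a_rc_5_2 lc_a_rc_0_1 lc_a_rc_6_2 lc_a_Cert_tree lc_a_rc_2_2 lc_a_rc_8_2 lc_a_rc_0_0 lc_a_rc_4_2 lc_a_rc_3_2 lc_a_rc_2_2 lc_a_rc_7_2 lc_a_rc_6_2 lc_a_rc_4_2 lc_a_rc_2_2 lc_a_rc_7_2 lc_a_rc_4_2 lc_a_rc_6_2 lc_a_rc_2_2 lc_a_rc_3_0 lc_a_rc_2_2 lc_a_rc_0_0 lc_a_rc_8_2 lc_a_rc_0_0 lc_a_rc_4_2 lc_a_rc_4_0 lc_a_rc_4_2 lc_a_rc_3_2 lc_a_rc_3_2 lc_a_rc_6_2) (@D3.rec (fun _ => (Cert rels S Gen.a)) lc_a_rc_7_2 lc_a_rc_3_2 lc_a_rc_5_2 lc_a_rc_7_2 lc_a_rc_2_2 lc_a_rc_6_2 lc_a_rc_2_2 lc_a_rc_7_2 lc_a_rc_6_2 lc_a_rc_7_2 lc_a_rc_7_0 lc_a_rc_4_2 lc_a_rc_2_2 lc_a_rc_4_2 lc_a_rc_3_2 lc_a_rc_6_2 lc_a_rc_3_2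 lc_a_rc_2_2 lc_a_rc_4_2 lc_a_rc_3_2 lc_a_rc_2_2 lc_a_rc_4_2 lc_a_rc_2_2 lc_a_rc_6_2 lc_a_rc_3_2 lc_a_rc_3_2 lc_a_rc_2_2 lc_a_rc_4_2 lc_a_Cert_tree lc_a_rc_2_2 lc_a_rc_3_2 lc_a_rc_7_2) (@D3.rec (fun _ => (Cert rels S Gen.a)) lc_a_Cert_tree lc_a_rc_2_2 lc_a_rc_0_0 lc_a_rc_4_2 lc_a_rc_2_2 lc_a_rc_4_0 lc_a_rc_7_2 lc_a_rc_2_2 lc_a_rc_6_2 lc_a_rc_4_2 lc_a_rc_4_2 lc_a_rc_2_2 lc_a_rc_7_2 lc_a_rc_3_2 lc_a_rc_8_2 lc_a_rc_5_2 lc_a_rc_8_2 lc_a_rc_6_2 lc_a_rc_6_2 lc_a_rc_7_2 lc_a_rc_2_2 lc_a_rc_5_2 lc_a_rc_2_2 lc_a_rc_6_2 lc_a_rc_4_2 lc_a_rc_2_2 lc_a_rc_4_2 lc_a_rc_2_2 lc_a_rc_4_0 lc_a_rc_3_2 lc_a_rc_2_2 lc_a_rc_4_0) (@D3.rec (fun _ => (Cert rels S Gen.a)) lc_a_rc_5_2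 lc_a_rc_8_2 lc_a_rc_6_2 lc_a_rc_6_2 lc_a_rc_7_2 lc_a_rc_3_2 lc_a_rc_2_2 lc_a_rc_4_2 lc_a_rc_2_2 lc_a_rc_6_2 lc_a_rc_2_2 lc_a_rc_7_2 lc_a_rc_5_2 lc_a_rc_5_0 lc_a_rc_5_2 lc_a_rc_5_2 lc_a_rc_2_2 lc_a_rc_4_2 lc_a_rc_2_2 lc_a_rc_6_2 lc_a_rc_3_2 lc_a_rc_4_2 lc_a_rc_2_2 lc_a_rc_7_2 lc_a_rc_6_2 lc_a_rc_5_2 lc_a_rc_2_2 lc_a_rc_3_2 lc_a_rc_5_2 lc_a_rc_8_2 lc_a_rc_2_2 lc_a_rc_6_2) (@D3.rec (fun _ => (Cert rels S Gen.a)) lc_a_rc_2_2 lc_a_rc_8_2 lc_a_rc_3_2 lc_a_rc_2_2 lc_a_rc_7_2 lc_a_rc_6_2 lc_a_rc_2_2 lc_a_rc_7_2 lc_a_rc_2_2 lc_a_rc_3_2 lc_a_rc_5_2 lc_a_rc_8_2 lc_a_rc_8_2 lc_a_rc_4_2 lc_a_rc_2_2 lc_a_rc_5_2 lc_a_rc_7_2 lc_a_rc_4_2 lc_a_rc_4_0 lc_a_rc_3_0 lc_a_rc_4_0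 lc_a_rc_3_2 lc_a_rc_2_2 lc_a_rc_6_2 lc_a_rc_2_2 lc_a_rc_5_0 lc_a_rc_2_2 lc_a_rc_6_2 lc_a_rc_2_2 lc_a_rc_5_2 lc_a_rc_5_2 lc_a_rc_5_2) (@D3.rec (fun _ => (Cert rels S Gen.a)) lc_a_rc_7_2 lc_a_rc_4_2 lc_a_Cert_tree lc_a_rc_2_2 lc_a_rc_3_2 lc_a_rc_7_2 lc_a_rc_0_0 lc_a_rc_3_2 lc_a_rc_4_2 lc_a_rc_6_2 lc_a_rc_3_2 lc_a_rc_3_2 lc_a_rc_5_2 lc_a_rc_4_2 lc_a_rc_4_2 lc_a_Cert_tree lc_a_rc_2_2 lc_a_rc_6_2 lc_a_rc_7_2 lc_a_rc_5_0 lc_a_rc_5_0 lc_a_rc_2_2 lc_a_rc_7_2 lc_a_rc_4_0 lc_a_rc_3_2 lc_a_Cert_tree lc_a_rc_3_2 lc_a_rc_3_2 lc_a_rc_2_2 lc_a_rc_7_2 lc_a_Cert_tree lc_a_rc_2_2) (@D3.rec (fun _ => (Cert rels S Gen.a)) lc_a_rc_4_2 lc_a_rc_0_0 lc_a_rc_4_2 lc_a_rc_2_2 lc_a_rc_3_2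 lc_a_rc_0_0 lc_a_rc_3_2 lc_a_rc_3_2 lc_a_rc_2_2 lc_a_rc_4_2 lc_a_rc_0_0 lc_a_rc_2_2 lc_a_rc_6_2 lc_a_rc_7_2 lc_a_rc_1_4 lc_a_rc_1_4 lc_a_rc_2_2 lc_a_rc_4_2 lc_a_rc_2_2 lc_a_rc_4_2 lc_a_rc_2_2 lc_a_rc_6_2 lc_a_rc_2_2 lc_a_rc_4_2 lc_a_rc_2_2 lc_a_rc_7_2 lc_a_rc_0_1 lc_a_rc_3_2 lc_a_rc_5_2 lc_a_rc_8_2 lc_a_rc_6_2 lc_a_rc_8_2) (@D3.rec (fun _ => (Cert rels S Gen.a)) lc_a_rc_7_2 lc_a_rc_4_2 lc_a_rc_7_2 lc_a_rc_2_2 lc_a_rc_4_2 lc_a_rc_4_2 lc_a_rc_4_2 lc_a_rc_6_2 lc_a_rc_8_2 lc_a_rc_7_2 lc_a_rc_4_2 lc_a_rc_7_2 lc_a_rc_3_2 lc_a_rc_3_2 lc_a_rc_2_2 lc_a_rc_4_2 lc_a_rc_2_2 lc_a_rc_4_2 lc_a_rc_1_4 lc_a_rc_2_2 lc_a_rc_6_2 lc_a_rc_2_2 lc_a_rc_6_2 lc_a_rc_1_4 lc_a_rc_2_2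 lc_a_rc_7_2 lc_a_rc_2_2 lc_a_rc_4_2 lc_a_rc_4_2 lc_a_rc_4_2 lc_a_rc_2_2 lc_a_rc_6_2) (@D3.rec (fun _ => (Cert rels S Gen.a)) lc_a_rc_2_2 lc_a_rc_6_2 lc_a_rc_5_2 lc_a_rc_3_2 lc_a_rc_2_2 lc_a_rc_7_2 lc_a_rc_6_2 lc_a_rc_2_2 lc_a_rc_7_2 lc_a_rc_6_2 lc_a_rc_2_2 lc_a_rc_2_2 lc_a_rc_3_2 lc_a_rc_6_2 lc_a_rc_8_2 lc_a_rc_2_2 lc_a_rc_7_2 lc_a_rc_2_2 lc_a_rc_8_2 lc_a_rc_2_0 lc_a_rc_3_2 lc_a_rc_2_2 lc_a_rc_7_2 lc_a_rc_2_2 lc_a_rc_2_0 lc_a_rc_0_0 lc_a_rc_2_2 lc_a_rc_46_49 lc_a_rc_4_0 lc_a_rc_3_2 lc_a_rc_0_0 lc_a_rc_46_56) (@D3.rec (fun _ => (Cert rels S Gen.a)) lc_a_rc_3_0 lc_a_rc_46_21 lc_a_Cert_tree lc_a_rc_0_0 lc_a_rc_2_2 lc_a_rc_4_2 lc_a_rc_2_2 lc_a_rc_5_2 lc_a_rc_2_2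 lc_a_rc_3_2 lc_a_rc_2_2 lc_a_rc_4_2 lc_a_Cert_tree lc_a_rc_2_2 lc_a_rc_3_2 lc_a_rc_7_2 lc_a_Cert_tree lc_a_rc_2_2 lc_a_rc_0_0 lc_a_rc_4_2 lc_a_rc_2_2 lc_a_rc_4_2 lc_a_rc_2_2 lc_a_rc_8_2 lc_a_rc_5_2 lc_a_rc_2_2 lc_a_rc_6_2 lc_a_rc_3_2 lc_a_rc_2_2 lc_a_rc_7_2 lc_a_rc_2_2 lc_a_rc_6_0) (@D3.rec (fun _ => (Cert rels S Gen.a)) lc_a_rc_46_28 lc_a_rc_2_2 lc_a_rc_4_2 lc_a_rc_46_35 lc_a_rc_4_2 lc_a_rc_2_2 lc_a_rc_4_2 lc_a_rc_3_2 lc_a_rc_5_2 lc_a_rc_2_2 lc_a_rc_3_2 lc_a_rc_2_2 lc_a_rc_8_2 lc_a_rc_2_2 lc_a_rc_6_2 lc_a_Cert_tree lc_a_rc_2_2 lc_a_rc_8_2 lc_a_rc_0_0 lc_a_rc_4_2 lc_a_rc_3_2 lc_a_rc_2_2 lc_a_rc_7_2 lc_a_rc_2_2 lc_a_rc_7_2 lc_a_rc_4_2 lc_a_rc_46_14 lc_a_rc_2_2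 lc_a_rc_0_0 lc_a_rc_4_2 lc_a_rc_3_2 lc_a_rc_4_2) (@D3.rec (fun _ => (Cert rels S Gen.a)) lc_a_rc_3_2 lc_a_rc_5_2 lc_a_rc_5_2 lc_a_rc_8_2 lc_a_rc_2_2 lc_a_rc_4_2 lc_a_rc_2_2 lc_a_rc_4_2 lc_a_Cert_tree lc_a_rc_2_2 lc_a_rc_3_2 lc_a_rc_2_2 lc_a_rc_5_2 lc_a_Cert_tree lc_a_rc_2_2 lc_a_rc_4_2 lc_a_rc_0_0 lc_a_rc_4_2 lc_a_rc_2_2 lc_a_rc_3_2 lc_a_rc_0_0 lc_a_rc_3_2 lc_a_rc_2_2 lc_a_rc_4_2 lc_a_rc_2_2 lc_a_rc_5_2 lc_a_rc_2_2 lc_a_rc_6_2 lc_a_rc_2_2 lc_a_rc_8_2 lc_a_rc_3_2 lc_a_rc_2_2) (@D3.rec (fun _ => (Cert rels S Gen.a)) lc_a_rc_7_2 lc_a_rc_2_2 lc_a_rc_6_0 lc_a_rc_2_2 lc_a_rc_2_2 lc_a_rc_3_2 lc_a_rc_2_2 lc_a_rc_4_0 lc_a_rc_46_35 lc_a_rc_2_2 lc_a_rc_8_2 lc_a_rc_5_2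 lc_a_rc_8_0 lc_a_rc_2_2 lc_a_rc_7_2 lc_a_rc_0_0 lc_a_rc_4_2 lc_a_rc_3_2 lc_a_rc_2_2 lc_a_rc_8_2 lc_a_rc_4_2 lc_a_rc_3_2 lc_a_rc_6_2 lc_a_rc_3_2 lc_a_rc_2_2 lc_a_rc_2_2 lc_a_rc_4_0 lc_a_rc_6_2 lc_a_rc_3_2 lc_a_rc_4_2 lc_a_rc_2_2 lc_a_rc_6_2) (@D3.rec (fun _ => (Cert rels S Gen.a)) lc_a_rc_7_2 lc_a_rc_1_0 lc_a_rc_4_2 lc_a_rc_3_2 lc_a_rc_7_2 lc_a_rc_3_2 lc_a_rc_2_2 lc_a_rc_4_2 lc_a_rc_2_2 lc_a_rc_5_2 lc_a_rc_2_2 lc_a_rc_6_2 lc_a_rc_2_2 lc_a_rc_3_2 lc_a_rc_2_2 lc_a_rc_4_2 lc_a_Cert_tree lc_a_rc_2_2 lc_a_rc_3_2 lc_a_rc_7_2 lc_a_rc_0_0 lc_a_rc_2_2 lc_a_rc_0_0 lc_a_rc_6_2 lc_a_rc_2_2 lc_a_rc_5_0 lc_a_rc_2_2 lc_a_rc_5_2 lc_a_rc_2_2 lc_a_rc_6_2 lc_a_rc_7_2 lc_a_rc_2_2)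 (@D3.rec (fun _ => (Cert rels S Gen.a)) lc_a_rc_6_2 lc_a_rc_4_2 lc_a_rc_4_2 lc_a_rc_3_2 lc_a_rc_2_2 lc_a_rc_7_2 lc_a_rc_2_2 lc_a_rc_5_2 lc_a_rc_2_2 lc_a_rc_8_2 lc_a_rc_2_2 lc_a_rc_2_2 lc_a_rc_6_2 lc_a_rc_2_2 lc_a_rc_6_2 lc_a_rc_2_2 lc_a_rc_2_2 lc_a_rc_7_2 lc_a_rc_4_2 lc_a_rc_2_2 lc_a_rc_6_2 lc_a_rc_7_2 lc_a_rc_6_2 lc_a_rc_5_2 lc_a_rc_7_2 lc_a_rc_2_2 lc_a_rc_7_2 lc_a_rc_4_2 lc_a_rc_6_2 lc_a_rc_2_2 lc_a_rc_7_2 lc_a_rc_5_2)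
def ce_a_17 : D2 → D3 → (Cert rels S Gen.a) := @D2.rec (fun _ => D3 → (Cert rels S Gen.a)) (@D3.rec (fun _ => (Cert rels S Gen.a)) lc_a_rc_6_2 lc_a_rc_4_2 lc_a_rc_7_2 lc_a_rc_6_2 lc_a_rc_5_2 lc_a_rc_2_2 lc_a_rc_5_2 lc_a_rc_8_2 lc_a_rc_6_2 lc_a_rc_2_2 lc_a_rc_8_2 lc_a_rc_0_0 lc_a_rc_4_2 lc_a_rc_2_2 lc_a_rc_7_2 lc_a_rc_6_2 lc_a_rc_2_2 lc_a_rc_7_2 lc_a_rc_4_2 lc_a_rc_6_2 lc_a_rc_2_2 lc_a_rc_4_0 lc_a_rc_5_2 lc_a_rc_5_2 lc_a_rc_5_2 lc_a_rc_4_2 lc_a_rc_6_2 lc_a_rc_4_2 lc_a_rc_6_2 lc_a_rc_7_2 lc_a_rc_2_2 lc_a_rc_6_0) (@D3.rec (fun _ => (Cert rels S Gen.a)) lc_a_rc_46_28 lc_a_rc_2_2 lc_a_rc_3_2 lc_a_rc_5_2 lc_a_rc_2_2 lc_a_rc_4_2 lc_a_rc_0_0 lc_a_rc_4_2 lc_a_rc_2_2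 lc_a_rc_3_2 lc_a_rc_3_2 lc_a_rc_7_2 lc_a_rc_4_2 lc_a_rc_5_2 lc_a_rc_2_2 lc_a_rc_6_2 lc_a_rc_4_2 lc_a_rc_2_2 lc_a_rc_7_2 lc_a_rc_7_2 lc_a_rc_4_2 lc_a_rc_2_2 lc_a_rc_4_2 lc_a_rc_2_2 lc_a_rc_4_0 lc_a_rc_6_2 lc_a_rc_2_2 lc_a_rc_4_0 lc_a_rc_2_2 lc_a_rc_5_2 lc_a_rc_5_2 lc_a_rc_2_2) (@D3.rec (fun _ => (Cert rels S Gen.a)) lc_a_rc_5_2 lc_a_rc_1_4 lc_a_rc_2_2 lc_a_rc_6_2 lc_a_Cert_tree lc_a_rc_2_2 lc_a_rc_8_2 lc_a_rc_0_0 lc_a_rc_4_2 lc_a_rc_3_2 lc_a_rc_2_2 lc_a_rc_7_2 lc_a_rc_4_2 lc_a_rc_1_4 lc_a_rc_2_2 lc_a_rc_7_2 lc_a_rc_4_2 lc_a_rc_6_2 lc_a_rc_2_2 lc_a_rc_2_2 lc_a_rc_5_2 lc_a_rc_2_2 lc_a_rc_7_2 lc_a_rc_7_2 lc_a_rc_46_28 lc_a_rc_2_2 lc_a_rc_5_2 lc_a_rc_46_35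 lc_a_rc_2_2 lc_a_rc_4_2 lc_a_rc_4_2 lc_a_rc_1_2) (@D3.rec (fun _ => (Cert rels S Gen.a)) lc_a_rc_0_0 lc_a_rc_2_0 lc_a_rc_0_0 lc_a_rc_4_2 lc_a_rc_2_2 lc_a_rc_5_2 lc_a_rc_4_2 lc_a_rc_1_2 lc_a_rc_8_0 lc_a_rc_0_0 lc_a_rc_2_0 lc_a_rc_8_2 lc_a_rc_2_2 lc_a_rc_4_2 lc_a_rc_2_2 lc_a_rc_4_2 lc_a_rc_2_2 lc_a_rc_6_2 lc_a_rc_6_2 lc_a_rc_2_2 lc_a_rc_7_2 lc_a_rc_2_2 lc_a_rc_5_2 lc_a_rc_2_2 lc_a_rc_4_2 lc_a_rc_2_2 lc_a_rc_5_0 lc_a_rc_2_2 lc_a_rc_6_2 lc_a_rc_1_4 lc_a_rc_2_2 lc_a_rc_6_2) (@D3.rec (fun _ => (Cert rels S Gen.a)) lc_a_rc_1_4 lc_a_rc_3_2 lc_a_rc_2_2 lc_a_rc_7_2 lc_a_rc_2_2 lc_a_rc_4_2 lc_a_rc_3_2 lc_a_rc_2_2 lc_a_rc_7_2 lc_a_rc_1_4 lc_a_rc_2_2 lc_a_rc_3_2 lc_a_rc_6_2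 lc_a_rc_8_2 lc_a_rc_6_0 lc_a_rc_8_2 lc_a_rc_5_2 lc_a_rc_8_0 lc_a_rc_7_2 lc_a_rc_0_0 lc_a_rc_4_2 lc_a_rc_3_2 lc_a_rc_2_2 lc_a_rc_8_2 lc_a_rc_4_2 lc_a_rc_3_2 lc_a_rc_6_2 lc_a_rc_3_2 lc_a_rc_2_2 lc_a_rc_7_2 lc_a_rc_6_2 lc_a_rc_2_2) (@D3.rec (fun _ => (Cert rels S Gen.a)) lc_a_rc_6_2 lc_a_rc_7_2 lc_a_rc_3_2 lc_a_rc_4_2 lc_a_rc_3_2 lc_a_rc_5_2 lc_a_rc_3_2 lc_a_rc_2_2 lc_a_rc_5_2 lc_a_rc_7_2 lc_a_rc_3_2 lc_a_rc_4_0 lc_a_rc_2_2 lc_a_rc_7_2 lc_a_rc_2_2 lc_a_rc_7_2 lc_a_rc_4_2 lc_a_rc_2_2 lc_a_rc_5_2 lc_a_rc_3_2 lc_a_rc_7_2 lc_a_rc_2_2 lc_a_rc_4_2 lc_a_rc_2_2 lc_a_rc_6_2 lc_a_rc_2_2 lc_a_rc_4_2 lc_a_Cert_tree lc_a_rc_2_2 lc_a_rc_6_2 lc_a_rc_3_2 lc_a_rc_2_2) (@D3.rec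 (fun _ => (Cert rels S Gen.a)) lc_a_rc_7_2 lc_a_rc_3_2 lc_a_rc_3_2 lc_a_Cert_tree lc_a_rc_2_2 lc_a_rc_4_2 lc_a_rc_0_0 lc_a_rc_4_2 lc_a_rc_2_2 lc_a_rc_3_2 lc_a_rc_0_0 lc_a_rc_46_28 lc_a_rc_3_2 lc_a_rc_4_2 lc_a_rc_2_2 lc_a_rc_4_0 lc_a_rc_2_2 lc_a_rc_7_2 lc_a_rc_4_2 lc_a_rc_4_2 lc_a_rc_2_2 lc_a_rc_3_2 lc_a_rc_8_2 lc_a_rc_6_2 lc_a_rc_8_2 lc_a_rc_7_2 lc_a_rc_7_2 lc_a_rc_2_2 lc_a_rc_6_2 lc_a_rc_2_2 lc_a_rc_6_0 lc_a_rc_2_2) (@D3.rec (fun _ => (Cert rels S Gen.a)) lc_a_rc_4_0 lc_a_rc_2_2 lc_a_rc_4_0 lc_a_rc_3_2 lc_a_rc_5_2 lc_a_rc_2_2 lc_a_rc_6_2 lc_a_rc_8_2 lc_a_rc_7_2 lc_a_rc_7_2 lc_a_rc_2_2 lc_a_rc_4_2 lc_a_rc_2_2 lc_a_rc_6_2 lc_a_rc_2_2 lc_a_rc_7_2 lc_a_rc_2_2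 lc_a_rc_2_2 lc_a_rc_5_2 lc_a_rc_2_2 lc_a_rc_5_0 lc_a_rc_2_2 lc_a_rc_5_2 lc_a_rc_2_2 lc_a_rc_6_2 lc_a_rc_3_2 lc_a_rc_2_2 lc_a_rc_7_2 lc_a_rc_3_2 lc_a_rc_4_2 lc_a_rc_2_2 lc_a_rc_7_2) (@D3.rec (fun _ => (Cert rels S Gen.a)) lc_a_rc_6_2 lc_a_rc_8_2 lc_a_rc_3_2 lc_a_rc_6_2 lc_a_rc_8_2 lc_a_rc_2_2 lc_a_rc_7_2 lc_a_rc_4_2 lc_a_rc_2_2 lc_a_rc_8_2 lc_a_rc_3_2 lc_a_rc_2_2 lc_a_rc_7_2 lc_a_rc_2_2 lc_a_rc_8_2 lc_a_rc_4_2 lc_a_rc_2_2 lc_a_rc_5_2 lc_a_rc_3_0 lc_a_rc_3_0 lc_a_rc_3_0 lc_a_rc_3_2 lc_a_rc_3_2 lc_a_rc_2_2 lc_a_rc_7_2 lc_a_rc_2_2 lc_a_rc_5_0 lc_a_rc_2_2 lc_a_rc_3_2 lc_a_rc_5_2 lc_a_rc_5_2 lc_a_rc_5_2) (@D3.rec (fun _ => (Cert rels S Gen.a)) lc_a_rc_0_0 lc_a_rc_4_2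 lc_a_rc_3_2 lc_a_rc_3_2 lc_a_rc_4_2 lc_a_rc_6_2 lc_a_rc_7_2 lc_a_rc_4_2 lc_a_rc_7_2 lc_a_rc_4_2 lc_a_Cert_tree lc_a_rc_5_2 lc_a_rc_6_2 lc_a_rc_2_2 lc_a_rc_0_0 lc_a_rc_4_2 lc_a_rc_3_2 lc_a_rc_7_2 lc_a_rc_5_0 lc_a_rc_2_2 lc_a_rc_5_0 lc_a_rc_46_42 lc_a_rc_2_2 lc_a_rc_8_0 lc_a_Cert_tree lc_a_rc_3_2 lc_a_rc_3_2 lc_a_rc_0_0 lc_a_rc_4_2 lc_a_rc_3_2 lc_a_rc_3_2 lc_a_rc_2_2) (@D3.rec (fun _ => (Cert rels S Gen.a)) lc_a_rc_8_0 lc_a_rc_0_0 lc_a_rc_46_28 lc_a_rc_3_2 lc_a_rc_2_2 lc_a_rc_4_2 lc_a_rc_4_2 lc_a_rc_6_2 lc_a_rc_2_2 lc_a_rc_2_2 lc_a_rc_4_2 lc_a_rc_46_49 lc_a_rc_2_2 lc_a_rc_6_2 lc_a_rc_0_0 lc_a_rc_2_2 lc_a_rc_7_2 lc_a_rc_46_28 lc_a_rc_1_4 lc_a_rc_1_4 lc_a_rc_2_2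 lc_a_rc_4_2 lc_a_rc_2_2 lc_a_rc_6_2 lc_a_rc_3_2 lc_a_rc_2_2 lc_a_rc_7_2 lc_a_rc_2_2 lc_a_rc_4_2 lc_a_rc_2_2 lc_a_rc_0_1 lc_a_rc_3_2) (@D3.rec (fun _ => (Cert rels S Gen.a)) lc_a_rc_5_2 lc_a_rc_8_2 lc_a_rc_7_2 lc_a_rc_8_2 lc_a_rc_4_2 lc_a_rc_2_2 lc_a_rc_4_2 lc_a_rc_4_2 lc_a_rc_4_2 lc_a_rc_7_2 lc_a_rc_8_2 lc_a_rc_4_2 lc_a_rc_2_2 lc_a_rc_4_2 lc_a_rc_4_2 lc_a_rc_2_2 lc_a_rc_6_2 lc_a_rc_1_2 lc_a_rc_2_2 lc_a_rc_6_2 lc_a_rc_1_4 lc_a_rc_2_2 lc_a_rc_7_2 lc_a_rc_2_2 lc_a_rc_7_2 lc_a_rc_1_4 lc_a_rc_2_2 lc_a_rc_2_2 lc_a_rc_6_2 lc_a_rc_6_2 lc_a_rc_6_2 lc_a_rc_2_2) (@D3.rec (fun _ => (Cert rels S Gen.a)) lc_a_rc_7_2 lc_a_rc_3_2 lc_a_rc_2_2 lc_a_rc_7_2 lc_a_rc_3_2 lc_a_rc_0_1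 lc_a_rc_3_2 lc_a_rc_2_2 lc_a_rc_6_2 lc_a_rc_2_2 lc_a_rc_0_1 lc_a_rc_2_2 lc_a_rc_3_2 lc_a_rc_7_2 lc_a_rc_8_2 lc_a_rc_2_2 lc_a_rc_2_2 lc_a_rc_2_0 lc_a_rc_3_2 lc_a_rc_46_49 lc_a_rc_0_0 lc_a_Cert_tree lc_a_rc_2_2 lc_a_rc_6_2 lc_a_rc_3_2 lc_a_rc_2_2 lc_a_rc_5_2 lc_a_Cert_tree lc_a_rc_2_2 lc_a_rc_3_2 lc_a_Cert_tree lc_a_rc_2_2) (@D3.rec (fun _ => (Cert rels S Gen.a)) lc_a_rc_4_2 lc_a_rc_0_0 lc_a_rc_4_2 lc_a_rc_2_2 lc_a_rc_3_2 lc_a_rc_0_0 lc_a_rc_46_49 lc_a_rc_3_2 lc_a_rc_0_1 lc_a_rc_46_21 lc_a_rc_2_2 lc_a_rc_8_2 lc_a_rc_2_2 lc_a_rc_8_2 lc_a_rc_5_2 lc_a_rc_3_2 lc_a_rc_2_2 lc_a_rc_7_2 lc_a_rc_3_2 lc_a_rc_2_2 lc_a_rc_0_1 lc_a_rc_2_2 lc_a_rc_4_2 lc_a_rc_46_35 lc_a_rc_3_2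 lc_a_rc_2_2 lc_a_rc_4_2 lc_a_rc_46_35 lc_a_rc_6_2 lc_a_rc_5_2 lc_a_rc_2_2 lc_a_rc_4_2) (@D3.rec (fun _ => (Cert rels S Gen.a)) lc_a_rc_3_2 lc_a_rc_5_2 lc_a_rc_8_2 lc_a_rc_3_2 lc_a_rc_2_2 lc_a_rc_8_2 lc_a_rc_2_2 lc_a_rc_7_2 lc_a_rc_0_0 lc_a_rc_4_2 lc_a_rc_3_2 lc_a_rc_2_2 lc_a_rc_8_2 lc_a_rc_4_2 lc_a_rc_3_2 lc_a_rc_5_2 lc_a_rc_3_2 lc_a_rc_2_2 lc_a_rc_2_2 lc_a_rc_4_2 lc_a_rc_4_2 lc_a_rc_3_2 lc_a_rc_3_2 lc_a_rc_46_28 lc_a_rc_1_2 lc_a_rc_2_2 lc_a_rc_6_2 lc_a_Cert_tree lc_a_rc_2_2 lc_a_rc_4_2 lc_a_rc_0_0 lc_a_rc_4_2) (@D3.rec (fun _ => (Cert rels S Gen.a)) lc_a_rc_2_2 lc_a_rc_2_2 lc_a_rc_3_2 lc_a_rc_2_2 lc_a_rc_6_2 lc_a_rc_0_0 lc_a_rc_4_2 lc_a_rc_3_2 lc_a_rc_2_2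 lc_a_rc_4_2 lc_a_rc_4_2 lc_a_rc_6_2 lc_a_rc_2_2 lc_a_rc_2_2 lc_a_rc_5_2 lc_a_rc_2_2 lc_a_rc_5_2 lc_a_rc_3_2 lc_a_rc_2_2 lc_a_rc_5_2 lc_a_rc_3_2 lc_a_rc_2_2 lc_a_rc_8_2 lc_a_rc_3_2 lc_a_rc_2_2 lc_a_rc_2_2 lc_a_rc_4_0 lc_a_rc_3_2 lc_a_rc_2_2 lc_a_rc_4_0 lc_a_rc_46_35 lc_a_rc_0_0) (@D3.rec (fun _ => (Cert rels S Gen.a)) lc_a_rc_2_2 lc_a_rc_8_2 lc_a_rc_6_2 lc_a_rc_0_0 lc_a_rc_2_2 lc_a_rc_4_2 lc_a_rc_3_2 lc_a_rc_6_2 lc_a_rc_3_2 lc_a_rc_7_2 lc_a_rc_2_2 lc_a_rc_3_2 lc_a_rc_6_2 lc_a_rc_3_2 lc_a_rc_7_2 lc_a_rc_3_2 lc_a_rc_2_2 lc_a_rc_7_2 lc_a_rc_3_2 lc_a_rc_5_2 lc_a_rc_7_2 lc_a_rc_3_2 lc_a_rc_5_2 lc_a_rc_2_2 lc_a_rc_6_2 lc_a_rc_0_0 lc_a_rc_2_2 lc_a_rc_5_2 lc_a_rc_3_2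 lc_a_rc_2_2 lc_a_rc_7_2 lc_a_rc_1_4) (@D3.rec (fun _ => (Cert rels S Gen.a)) lc_a_rc_2_2 lc_a_rc_3_2 lc_a_rc_1_2 lc_a_rc_2_2 lc_a_rc_4_2 lc_a_rc_0_0 lc_a_rc_4_2 lc_a_rc_2_2 lc_a_rc_3_2 lc_a_rc_3_2 lc_a_rc_7_2 lc_a_rc_2_2 lc_a_rc_5_0 lc_a_rc_2_2 lc_a_rc_6_2 lc_a_rc_2_2 lc_a_rc_7_2 lc_a_rc_2_2 lc_a_rc_7_2 lc_a_rc_4_2 lc_a_rc_4_2 lc_a_rc_3_2 lc_a_rc_5_2 lc_a_rc_2_2 lc_a_rc_2_2 lc_a_rc_6_2 lc_a_rc_2_2 lc_a_rc_8_2 lc_a_rc_2_2 lc_a_rc_3_2 lc_a_rc_2_2 lc_a_rc_7_2) (@D3.rec (fun _ => (Cert rels S Gen.a)) lc_a_rc_2_2 lc_a_rc_7_2 lc_a_rc_2_2 lc_a_rc_2_2 lc_a_rc_5_0 lc_a_rc_2_2 lc_a_rc_7_2 lc_a_rc_7_2 lc_a_rc_5_2 lc_a_rc_2_2 lc_a_rc_6_2 lc_a_rc_7_2 lc_a_rc_2_2 lc_a_rc_5_2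 lc_a_rc_7_2 lc_a_rc_4_2 lc_a_rc_7_2 lc_a_rc_6_2 lc_a_rc_6_2 lc_a_rc_8_2 lc_a_rc_7_2 lc_a_rc_2_2 lc_a_rc_8_2 lc_a_rc_4_2 lc_a_rc_6_2 lc_a_rc_2_2 lc_a_rc_7_2 lc_a_rc_2_2 lc_a_rc_6_2 lc_a_rc_7_2 lc_a_rc_5_2 lc_a_rc_5_2) (@D3.rec (fun _ => (Cert rels S Gen.a)) lc_a_rc_6_2 lc_a_rc_7_2 lc_a_rc_4_2 lc_a_rc_7_2 lc_a_rc_2_2 lc_a_rc_4_2 lc_a_rc_46_35 lc_a_rc_2_2 lc_a_rc_2_2 lc_a_rc_3_2 lc_a_rc_6_2 lc_a_rc_3_2 lc_a_rc_2_2 lc_a_rc_4_2 lc_a_rc_4_2 lc_a_rc_6_2 lc_a_rc_2_2 lc_a_rc_5_2 lc_a_rc_5_2 lc_a_rc_3_2 lc_a_rc_2_2 lc_a_rc_7_2 lc_a_rc_6_2 lc_a_rc_2_2 lc_a_rc_6_2 lc_a_rc_2_2 lc_a_rc_4_0 lc_a_rc_2_2 lc_a_rc_4_0 lc_a_rc_6_2 lc_a_rc_2_2 lc_a_rc_2_2) (@D3.rec (fun _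 => (Cert rels S Gen.a)) lc_a_rc_5_2 lc_a_rc_5_2 lc_a_rc_1_4 lc_a_rc_2_2 lc_a_rc_5_2 lc_a_rc_1_4 lc_a_rc_3_2 lc_a_rc_2_2 lc_a_rc_7_2 lc_a_rc_0_0 lc_a_rc_4_2 lc_a_rc_3_2 lc_a_rc_2_2 lc_a_rc_8_2 lc_a_rc_4_2 lc_a_rc_3_2 lc_a_rc_6_2 lc_a_rc_3_2 lc_a_rc_2_2 lc_a_rc_4_2 lc_a_rc_1_4 lc_a_rc_2_2 lc_a_rc_6_2 lc_a_rc_7_2 lc_a_rc_3_2 lc_a_rc_2_2 lc_a_rc_5_2 lc_a_rc_2_2 lc_a_rc_5_2 lc_a_rc_3_2 lc_a_rc_2_2 lc_a_rc_6_2) (@D3.rec (fun _ => (Cert rels S Gen.a)) lc_a_rc_6_2 lc_a_rc_2_2 lc_a_rc_5_2 lc_a_rc_1_2 lc_a_rc_3_2 lc_a_rc_6_2 lc_a_rc_2_0 lc_a_rc_4_2 lc_a_rc_6_2 lc_a_rc_2_2 lc_a_rc_4_2 lc_a_rc_1_2 lc_a_rc_8_0 lc_a_rc_7_2 lc_a_rc_8_2 lc_a_rc_6_2 lc_a_rc_2_2 lc_a_rc_6_2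 lc_a_rc_3_2 lc_a_rc_2_2 lc_a_rc_7_2 lc_a_rc_7_2 lc_a_rc_2_2 lc_a_rc_2_2 lc_a_rc_5_2 lc_a_rc_2_2 lc_a_rc_4_2 lc_a_rc_2_2 lc_a_rc_5_0 lc_a_rc_3_2 lc_a_rc_2_2 lc_a_rc_7_2)
def ce_a_18 : D2 → D3 → (Cert rels S Gen.a) := @D2.rec (fun _ => D3 → (Cert rels S Gen.a)) (@D3.rec (fun _ => (Cert rels S Gen.a)) lc_a_rc_1_4 lc_a_rc_3_2 lc_a_rc_2_2 lc_a_rc_7_2 lc_a_rc_3_2 lc_a_rc_1_4 lc_a_rc_3_2 lc_a_rc_2_2 lc_a_rc_2_2 lc_a_rc_4_2 lc_a_rc_3_2 lc_a_rc_5_2 lc_a_rc_2_2 lc_a_rc_1_4 lc_a_rc_4_2 lc_a_rc_7_2 lc_a_rc_8_2 lc_a_rc_0_1 lc_a_rc_8_2 lc_a_rc_6_2 lc_a_rc_0_1 lc_a_rc_4_2 lc_a_rc_3_2 lc_a_rc_6_2 lc_a_rc_3_2 lc_a_rc_5_2 lc_a_rc_2_2 lc_a_rc_3_2 lc_a_rc_6_2 lc_a_rc_2_2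 lc_a_rc_3_2 lc_a_rc_7_2) (@D3.rec (fun _ => (Cert rels S Gen.a)) lc_a_rc_3_2 lc_a_rc_7_2 lc_a_rc_7_2 lc_a_rc_3_2 lc_a_rc_2_2 lc_a_rc_5_2 lc_a_rc_2_2 lc_a_rc_8_2 lc_a_rc_3_2 lc_a_rc_2_2 lc_a_rc_4_2 lc_a_rc_3_2 lc_a_rc_2_2 lc_a_rc_5_2 lc_a_rc_3_2 lc_a_rc_2_2 lc_a_rc_6_2 lc_a_rc_3_2 lc_a_rc_2_2 lc_a_rc_7_2 lc_a_rc_2_2 lc_a_rc_4_2 lc_a_rc_0_0 lc_a_rc_4_2 lc_a_rc_3_2 lc_a_rc_2_2 lc_a_rc_7_2 lc_a_rc_3_2 lc_a_rc_2_2 lc_a_rc_3_2 lc_a_rc_3_2 lc_a_rc_0_0) (@D3.rec (fun _ => (Cert rels S Gen.a)) lc_a_rc_4_2 lc_a_rc_3_2 lc_a_rc_2_2 lc_a_rc_4_2 lc_a_rc_4_2 lc_a_rc_6_2 lc_a_rc_2_2 lc_a_rc_46_28 lc_a_rc_2_2 lc_a_rc_2_2 lc_a_rc_5_2 lc_a_rc_3_2 lc_a_rc_8_2 lc_a_rc_7_2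 lc_a_rc_8_2 lc_a_rc_3_2 lc_a_rc_2_2 lc_a_rc_7_2 lc_a_rc_2_2 lc_a_rc_3_2 lc_a_rc_2_2 lc_a_rc_4_0 lc_a_rc_2_2 lc_a_rc_3_2 lc_a_rc_5_2 lc_a_rc_8_2 lc_a_rc_7_2 lc_a_rc_8_2 lc_a_rc_2_2 lc_a_rc_6_2 lc_a_rc_3_2 lc_a_rc_2_2) (@D3.rec (fun _ => (Cert rels S Gen.a)) lc_a_rc_7_2 lc_a_rc_2_2 lc_a_rc_2_2 lc_a_rc_5_2 lc_a_rc_2_2 lc_a_rc_5_0 lc_a_rc_4_2 lc_a_rc_5_2 lc_a_rc_5_2 lc_a_rc_3_2 lc_a_rc_2_2 lc_a_rc_7_2 lc_a_rc_3_2 lc_a_rc_2_2 lc_a_rc_3_2 lc_a_rc_7_2 lc_a_rc_8_2 lc_a_rc_3_2 lc_a_rc_7_2 lc_a_rc_8_2 lc_a_rc_2_2 lc_a_rc_1_2 lc_a_rc_2_2 lc_a_rc_3_2 lc_a_rc_2_2 lc_a_rc_2_0 lc_a_rc_3_0 lc_a_rc_3_0 lc_a_rc_2_2 lc_a_rc_3_0 lc_a_rc_3_2 lc_a_rc_3_2) (@D3.rec (fun _ =>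 (Cert rels S Gen.a)) lc_a_rc_2_2 lc_a_rc_2_2 lc_a_rc_3_2 lc_a_rc_5_2 lc_a_rc_4_2 lc_a_rc_6_2 lc_a_rc_3_2 lc_a_rc_6_2 lc_a_rc_7_2 lc_a_rc_4_2 lc_a_Cert_tree lc_a_rc_7_2 lc_a_rc_4_2 lc_a_rc_0_0 lc_a_rc_4_2 lc_a_rc_5_2 lc_a_rc_5_2 lc_a_rc_7_2 lc_a_rc_5_0 lc_a_rc_4_2 lc_a_rc_6_2 lc_a_rc_3_2 lc_a_rc_6_2 lc_a_rc_0_1 lc_a_rc_2_2 lc_a_rc_6_2 lc_a_rc_46_21 lc_a_rc_0_0 lc_a_rc_2_2 lc_a_rc_8_0 lc_a_rc_0_0 lc_a_rc_4_2) (@D3.rec (fun _ => (Cert rels S Gen.a)) lc_a_rc_3_2 lc_a_rc_3_2 lc_a_rc_4_2 lc_a_rc_6_2 lc_a_rc_3_2 lc_a_rc_2_2 lc_a_rc_8_0 lc_a_rc_46_14 lc_a_rc_3_2 lc_a_rc_2_2 lc_a_rc_6_2 lc_a_rc_7_2 lc_a_rc_46_28 lc_a_rc_2_2 lc_a_rc_6_2 lc_a_rc_46_14 lc_a_rc_3_2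 lc_a_rc_2_2 lc_a_rc_7_2 lc_a_rc_46_28 lc_a_rc_2_2 lc_a_rc_46_21 lc_a_rc_1_4 lc_a_rc_1_4 lc_a_rc_3_2 lc_a_rc_2_2 lc_a_rc_4_2 lc_a_rc_3_2 lc_a_rc_2_2 lc_a_rc_7_2 lc_a_rc_3_2 lc_a_rc_2_2) (@D3.rec (fun _ => (Cert rels S Gen.a)) lc_a_rc_2_2 lc_a_rc_2_2 lc_a_rc_3_2 lc_a_rc_5_2 lc_a_rc_8_2 lc_a_rc_2_2 lc_a_rc_4_2 lc_a_rc_4_2 lc_a_rc_4_2 lc_a_rc_2_2 lc_a_rc_6_2 lc_a_rc_6_2 lc_a_rc_2_2 lc_a_rc_7_2 lc_a_rc_1_2 lc_a_rc_2_2 lc_a_rc_7_2 lc_a_rc_1_4 lc_a_rc_2_2 lc_a_rc_2_2 lc_a_rc_1_4 lc_a_rc_2_2 lc_a_rc_7_2 lc_a_rc_7_2 lc_a_rc_7_2 lc_a_rc_2_2 lc_a_rc_3_2 lc_a_rc_2_2 lc_a_rc_3_2 lc_a_rc_7_2 lc_a_rc_3_2 lc_a_rc_3_2) (@D3.rec (fun _ => (Cert rels S Gen.a)) lc_a_rc_0_0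 lc_a_rc_4_2 lc_a_rc_3_2 lc_a_rc_2_2 lc_a_rc_7_2 lc_a_rc_3_2 lc_a_rc_1_2 lc_a_rc_2_2 lc_a_rc_0_0 lc_a_rc_4_2 lc_a_rc_2_2 lc_a_rc_2_2 lc_a_rc_3_2 lc_a_rc_0_0 lc_a_rc_4_2 lc_a_rc_3_2 lc_a_rc_2_2 lc_a_rc_4_2 lc_a_rc_4_2 lc_a_rc_6_2 lc_a_rc_2_2 lc_a_rc_46_35 lc_a_rc_7_2 lc_a_rc_6_2 lc_a_rc_46_35 lc_a_rc_8_2 lc_a_rc_3_2 lc_a_rc_2_2 lc_a_rc_8_2 lc_a_rc_5_2 lc_a_rc_5_2 lc_a_rc_3_2) (@D3.rec (fun _ => (Cert rels S Gen.a)) lc_a_rc_2_2 lc_a_rc_3_2 lc_a_rc_0_1 lc_a_rc_3_2 lc_a_rc_2_2 lc_a_rc_4_2 lc_a_rc_1_2 lc_a_rc_46_28 lc_a_rc_3_2 lc_a_rc_1_2 lc_a_rc_2_2 lc_a_rc_1_2 lc_a_rc_7_2 lc_a_rc_6_2 lc_a_rc_0_1 lc_a_rc_0_0 lc_a_rc_46_14 lc_a_rc_5_2 lc_a_rc_8_2 lc_a_rc_3_2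 lc_a_rc_2_2 lc_a_rc_8_2 lc_a_rc_2_2 lc_a_rc_4_2 lc_a_rc_3_2 lc_a_rc_0_1 lc_a_rc_3_2 lc_a_rc_2_2 lc_a_rc_3_2 lc_a_rc_2_2 lc_a_rc_0_1 lc_a_rc_3_2) (@D3.rec (fun _ => (Cert rels S Gen.a)) lc_a_rc_3_2 lc_a_rc_3_2 lc_a_rc_2_2 lc_a_rc_7_2 lc_a_rc_0_0 lc_a_rc_4_2 lc_a_rc_2_2 lc_a_rc_2_2 lc_a_rc_4_2 lc_a_rc_4_2 lc_a_rc_3_2 lc_a_rc_6_2 lc_a_rc_2_2 lc_a_rc_2_2 lc_a_rc_2_2 lc_a_rc_7_2 lc_a_rc_4_2 lc_a_rc_6_2 lc_a_rc_3_2 lc_a_rc_2_2 lc_a_rc_6_2 lc_a_rc_7_2 lc_a_rc_3_2 lc_a_rc_2_2 lc_a_rc_5_2 lc_a_rc_3_2 lc_a_rc_2_2 lc_a_rc_5_2 lc_a_rc_3_2 lc_a_rc_2_2 lc_a_rc_3_2 lc_a_rc_5_2) (@D3.rec (fun _ => (Cert rels S Gen.a)) lc_a_rc_2_2 lc_a_rc_4_2 lc_a_rc_3_2 lc_a_rc_4_0 lc_a_rc_2_2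 lc_a_rc_1_4 lc_a_rc_3_2 lc_a_rc_2_2 lc_a_rc_7_2 lc_a_rc_8_0 lc_a_rc_3_2 lc_a_rc_6_2 lc_a_rc_3_2 lc_a_rc_5_2 lc_a_rc_7_2 lc_a_rc_3_2 lc_a_rc_7_0 lc_a_rc_3_2 lc_a_rc_7_2 lc_a_rc_3_2 lc_a_rc_5_2 lc_a_rc_5_2 lc_a_rc_3_2 lc_a_rc_2_2 lc_a_rc_7_2 lc_a_rc_0_0 lc_a_rc_3_2 lc_a_rc_2_2 lc_a_rc_5_2 lc_a_rc_3_2 lc_a_rc_3_2 lc_a_rc_2_2) (@D3.rec (fun _ => (Cert rels S Gen.a)) lc_a_rc_46_35 lc_a_rc_2_2 lc_a_rc_2_2 lc_a_rc_3_2 lc_a_rc_1_2 lc_a_rc_3_2 lc_a_rc_2_2 lc_a_rc_4_2 lc_a_rc_4_2 lc_a_rc_6_2 lc_a_rc_2_2 lc_a_rc_5_2 lc_a_rc_2_2 lc_a_rc_3_2 lc_a_rc_2_2 lc_a_rc_7_2 lc_a_rc_2_2 lc_a_rc_2_2 lc_a_rc_4_2 lc_a_rc_3_2 lc_a_rc_5_2 lc_a_rc_3_2 lc_a_rc_2_2 lc_a_rc_7_2 lc_a_rc_3_2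 lc_a_rc_2_2 lc_a_rc_8_2 lc_a_rc_3_2 lc_a_rc_4_2 lc_a_rc_3_2 lc_a_rc_2_2 lc_a_rc_2_2) (@D3.rec (fun _ => (Cert rels S Gen.a)) lc_a_rc_2_2 lc_a_rc_2_2 lc_a_rc_7_2 lc_a_rc_5_2 lc_a_rc_7_2 lc_a_rc_7_2 lc_a_rc_8_2 lc_a_rc_2_2 lc_a_rc_6_2 lc_a_rc_7_2 lc_a_rc_7_2 lc_a_rc_7_2 lc_a_rc_4_2 lc_a_rc_3_2 lc_a_rc_2_2 lc_a_rc_4_2 lc_a_rc_0_1 lc_a_rc_46_21 lc_a_rc_2_2 lc_a_rc_2_2 lc_a_rc_6_2 lc_a_rc_3_2 lc_a_rc_5_2 lc_a_rc_2_2 lc_a_rc_6_2 lc_a_rc_7_2 lc_a_rc_1_4 lc_a_rc_6_2 lc_a_rc_3_2 lc_a_rc_2_2 lc_a_rc_7_2 lc_a_rc_7_2) (@D3.rec (fun _ => (Cert rels S Gen.a)) lc_a_rc_2_2 lc_a_rc_4_0 lc_a_rc_2_2 lc_a_rc_3_2 lc_a_rc_2_2 lc_a_rc_5_2 lc_a_rc_5_2 lc_a_rc_1_4 lc_a_rc_3_2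 lc_a_rc_2_2 lc_a_rc_5_2 lc_a_rc_3_2 lc_a_rc_1_4 lc_a_rc_3_2 lc_a_rc_2_2 lc_a_rc_4_2 lc_a_rc_3_2 lc_a_rc_6_2 lc_a_rc_3_2 lc_a_rc_5_2 lc_a_rc_2_2 lc_a_rc_3_2 lc_a_rc_6_2 lc_a_rc_3_2 lc_a_rc_7_2 lc_a_rc_4_2 lc_a_rc_3_2 lc_a_rc_1_4 lc_a_rc_7_2 lc_a_rc_3_2 lc_a_rc_2_2 lc_a_rc_1_4) (@D3.rec (fun _ => (Cert rels S Gen.a)) lc_a_rc_46_21 lc_a_rc_3_2 lc_a_rc_2_2 lc_a_rc_0_0 lc_a_rc_4_2 lc_a_rc_1_2 lc_a_rc_3_2 lc_a_rc_0_0 lc_a_rc_6_2 lc_a_rc_7_2 lc_a_rc_1_2 lc_a_rc_8_0 lc_a_rc_7_2 lc_a_rc_3_2 lc_a_rc_2_2 lc_a_rc_7_2 lc_a_rc_3_2 lc_a_rc_2_2 lc_a_rc_3_2 lc_a_rc_2_2 lc_a_rc_5_2 lc_a_rc_3_2 lc_a_rc_2_2 lc_a_rc_4_2 lc_a_rc_3_2 lc_a_rc_2_2 lc_a_rc_5_0 lc_a_rc_6_2 lc_a_rc_5_2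 lc_a_rc_4_2 lc_a_rc_3_2 lc_a_rc_1_4) (@D3.rec (fun _ => (Cert rels S Gen.a)) lc_a_rc_3_2 lc_a_rc_2_2 lc_a_rc_0_1 lc_a_rc_3_2 lc_a_rc_1_4 lc_a_rc_4_2 lc_a_rc_3_2 lc_a_rc_2_2 lc_a_rc_3_2 lc_a_rc_5_2 lc_a_rc_8_2 lc_a_rc_8_2 lc_a_rc_7_2 lc_a_rc_7_2 lc_a_rc_3_2 lc_a_rc_6_2 lc_a_rc_2_2 lc_a_rc_3_2 lc_a_rc_5_2 lc_a_rc_7_2 lc_a_rc_3_2 lc_a_rc_5_2 lc_a_rc_2_2 lc_a_rc_3_2 lc_a_rc_7_2 lc_a_rc_2_2 lc_a_rc_3_2 lc_a_rc_2_2 lc_a_rc_5_2 lc_a_rc_3_2 lc_a_rc_2_2 lc_a_rc_3_2) (@D3.rec (fun _ => (Cert rels S Gen.a)) lc_a_rc_2_2 lc_a_rc_7_2 lc_a_rc_3_2 lc_a_rc_2_2 lc_a_rc_2_2 lc_a_rc_2_2 lc_a_rc_4_2 lc_a_rc_4_2 lc_a_rc_46_28 lc_a_rc_6_2 lc_a_rc_3_2 lc_a_rc_2_2 lc_a_rc_4_2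 lc_a_rc_3_2 lc_a_rc_3_2 lc_a_rc_4_2 lc_a_rc_46_28 lc_a_rc_6_2 lc_a_rc_3_2 lc_a_rc_2_2 lc_a_rc_6_2 lc_a_rc_7_2 lc_a_rc_3_2 lc_a_rc_8_2 lc_a_rc_3_2 lc_a_rc_2_2 lc_a_rc_3_2 lc_a_rc_2_2 lc_a_rc_5_2 lc_a_rc_8_2 lc_a_rc_3_2 lc_a_rc_2_2) (@D3.rec (fun _ => (Cert rels S Gen.a)) lc_a_rc_7_2 lc_a_rc_3_2 lc_a_rc_2_2 lc_a_rc_3_2 lc_a_rc_2_2 lc_a_rc_5_2 lc_a_rc_3_2 lc_a_rc_2_2 lc_a_rc_5_0 lc_a_rc_5_2 lc_a_rc_5_2 lc_a_rc_3_2 lc_a_rc_5_2 lc_a_rc_2_2 lc_a_rc_4_2 lc_a_rc_3_2 lc_a_rc_8_2 lc_a_rc_5_0 lc_a_rc_2_0 lc_a_rc_3_0 lc_a_rc_2_2 lc_a_rc_3_0 lc_a_rc_4_2 lc_a_rc_3_2 lc_a_rc_6_2 lc_a_rc_7_2 lc_a_rc_7_2 lc_a_rc_4_2 lc_a_rc_0_0 lc_a_rc_4_2 lc_a_rc_5_2 lc_a_rc_7_0) (@D3.rec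 (fun _ => (Cert rels S Gen.a)) lc_a_rc_4_2 lc_a_rc_4_2 lc_a_rc_46_35 lc_a_rc_6_2 lc_a_rc_6_2 lc_a_rc_5_2 lc_a_rc_6_2 lc_a_rc_7_2 lc_a_rc_6_2 lc_a_rc_0_1 lc_a_rc_2_2 lc_a_rc_7_2 lc_a_rc_46_21 lc_a_rc_0_0 lc_a_rc_2_2 lc_a_rc_4_2 lc_a_rc_6_2 lc_a_rc_3_2 lc_a_rc_6_2 lc_a_rc_7_2 lc_a_rc_2_2 lc_a_rc_3_2 lc_a_rc_3_2 lc_a_rc_7_2 lc_a_rc_46_14 lc_a_rc_3_2 lc_a_rc_2_2 lc_a_rc_7_2 lc_a_rc_1_2 lc_a_rc_0_0 lc_a_rc_3_2 lc_a_rc_2_2) (@D3.rec (fun _ => (Cert rels S Gen.a)) lc_a_rc_1_2 lc_a_rc_46_28 lc_a_rc_46_21 lc_a_rc_1_4 lc_a_rc_1_4 lc_a_rc_3_2 lc_a_rc_2_2 lc_a_rc_3_2 lc_a_rc_2_2 lc_a_rc_4_2 lc_a_rc_3_2 lc_a_rc_2_2 lc_a_rc_2_2 lc_a_rc_2_2 lc_a_rc_7_2 lc_a_rc_7_2 lc_a_rc_2_2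 lc_a_rc_1_2 lc_a_rc_2_2 lc_a_rc_1_4 lc_a_rc_2_2 lc_a_rc_3_2 lc_a_rc_3_2 lc_a_rc_4_2 lc_a_rc_3_2 lc_a_rc_6_2 lc_a_rc_3_2 lc_a_rc_0_0 lc_a_rc_2_2 lc_a_rc_4_2 lc_a_rc_3_2 lc_a_rc_46_21) (@D3.rec (fun _ => (Cert rels S Gen.a)) lc_a_rc_1_2 lc_a_rc_4_2 lc_a_rc_3_2 lc_a_rc_6_2 lc_a_rc_2_2 lc_a_rc_2_2 lc_a_rc_4_2 lc_a_rc_46_42 lc_a_rc_6_2 lc_a_rc_3_2 lc_a_rc_2_2 lc_a_rc_6_2 lc_a_rc_7_2 lc_a_rc_46_7 lc_a_rc_46_35 lc_a_rc_8_2 lc_a_rc_8_2 lc_a_rc_3_2 lc_a_rc_2_2 lc_a_rc_46_28 lc_a_rc_6_2 lc_a_rc_5_2 lc_a_rc_4_2 lc_a_rc_3_2 lc_a_rc_1_2 lc_a_rc_1_2 lc_a_rc_3_2 lc_a_rc_3_2 lc_a_rc_2_2 lc_a_rc_46_28 lc_a_rc_1_2 lc_a_rc_3_2) (@D3.rec (fun _ => (Cert rels S Gen.a)) lc_a_rc_3_2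 lc_a_rc_1_2 lc_a_rc_46_35 lc_a_rc_7_2 lc_a_rc_46_35 lc_a_rc_5_2 lc_a_rc_2_0 lc_a_rc_8_2 lc_a_rc_8_2 lc_a_rc_2_2 lc_a_rc_3_2 lc_a_rc_3_2 lc_a_rc_8_2 lc_a_rc_3_2 lc_a_rc_2_2 lc_a_rc_3_2 lc_a_rc_2_2 lc_a_rc_4_2 lc_a_rc_1_4 lc_a_rc_6_2 lc_a_rc_2_2 lc_a_rc_2_2 lc_a_rc_3_2 lc_a_rc_6_2 lc_a_rc_3_2 lc_a_rc_7_2 lc_a_rc_2_2 lc_a_rc_2_2 lc_a_rc_2_2 lc_a_rc_6_2 lc_a_rc_7_2 lc_a_rc_3_2)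
def ce_a_19 : D2 → D3 → (Cert rels S Gen.a) := @D2.rec (fun _ => D3 → (Cert rels S Gen.a)) (@D3.rec (fun _ => (Cert rels S Gen.a)) lc_a_rc_7_2 lc_a_rc_3_2 lc_a_rc_2_2 lc_a_rc_3_2 lc_a_rc_2_2 lc_a_rc_4_2 lc_a_rc_3_2 lc_a_rc_4_2 lc_a_rc_3_2 lc_a_rc_6_2 lc_a_rc_4_2 lc_a_rc_2_2 lc_a_rc_0_0 lc_a_rc_3_2 lc_a_rc_5_2 lc_a_rc_7_2 lc_a_rc_3_2 lc_a_rc_5_2 lc_a_rc_6_2 lc_a_rc_3_2 lc_a_rc_3_2 lc_a_rc_2_2 lc_a_rc_1_4 lc_a_rc_0_0 lc_a_rc_3_2 lc_a_rc_2_2 lc_a_rc_4_2 lc_a_rc_3_2 lc_a_rc_5_2 lc_a_rc_0_0 lc_a_rc_0_0 lc_a_rc_2_2) (@D3.rec (fun _ => (Cert rels S Gen.a)) lc_a_rc_2_2 lc_a_rc_1_2 lc_a_rc_3_2 lc_a_rc_5_2 lc_a_rc_2_2 lc_a_rc_6_2 lc_a_rc_7_2 lc_a_rc_3_2 lc_a_rc_2_2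 lc_a_rc_5_2 lc_a_rc_3_2 lc_a_rc_2_2 lc_a_rc_3_2 lc_a_rc_2_2 lc_a_rc_3_2 lc_a_rc_2_2 lc_a_rc_4_2 lc_a_rc_3_2 lc_a_rc_7_2 lc_a_rc_3_2 lc_a_rc_3_2 lc_a_rc_2_2 lc_a_rc_0_1 lc_a_rc_46_21 lc_a_rc_2_2 lc_a_rc_2_2 lc_a_rc_3_2 lc_a_rc_5_2 lc_a_rc_7_2 lc_a_rc_1_4 lc_a_rc_7_2 lc_a_rc_4_2) (@D3.rec (fun _ => (Cert rels S Gen.a)) lc_a_rc_3_2 lc_a_rc_2_2 lc_a_rc_3_2 lc_a_rc_2_2 lc_a_rc_3_2 lc_a_rc_1_4 lc_a_rc_3_2 lc_a_rc_2_2 lc_a_rc_46_42 lc_a_rc_3_2 lc_a_rc_1_4 lc_a_rc_4_2 lc_a_rc_3_2 lc_a_rc_3_2 lc_a_rc_6_2 lc_a_rc_3_2 lc_a_rc_1_4 lc_a_rc_7_2 lc_a_rc_4_2 lc_a_rc_3_2 lc_a_rc_6_2 lc_a_rc_3_2 lc_a_rc_7_2 lc_a_rc_4_2 lc_a_rc_3_2 lc_a_rc_4_2 lc_a_rc_4_2 lc_a_rc_3_2 lc_a_rc_46_21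 lc_a_rc_7_2 lc_a_rc_4_2 lc_a_rc_3_2) (@D3.rec (fun _ => (Cert rels S Gen.a)) lc_a_rc_1_2 lc_a_rc_3_2 lc_a_rc_7_2 lc_a_rc_3_2 lc_a_rc_2_2 lc_a_rc_4_2 lc_a_rc_3_2 lc_a_rc_3_2 lc_a_rc_2_2 lc_a_rc_3_2 lc_a_rc_2_2 lc_a_rc_3_2 lc_a_rc_2_2 lc_a_rc_4_2 lc_a_rc_3_2 lc_a_rc_5_2 lc_a_rc_8_2 lc_a_rc_1_4 lc_a_rc_3_2 lc_a_rc_1_4 lc_a_rc_4_2 lc_a_rc_3_2 lc_a_rc_1_4 lc_a_rc_4_2 lc_a_rc_3_2 lc_a_rc_4_2 lc_a_rc_5_2 lc_a_rc_8_2 lc_a_rc_8_2 lc_a_rc_2_2 lc_a_rc_3_2 lc_a_rc_5_2) (@D3.rec (fun _ => (Cert rels S Gen.a)) lc_a_rc_7_2 lc_a_rc_2_2 lc_a_rc_3_2 lc_a_rc_5_2 lc_a_rc_5_2 lc_a_rc_2_2 lc_a_rc_3_2 lc_a_rc_2_2 lc_a_rc_4_2 lc_a_rc_3_2 lc_a_rc_3_2 lc_a_rc_2_2 lc_a_rc_4_2 lc_a_rc_3_2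 lc_a_rc_2_2 lc_a_rc_2_2 lc_a_rc_6_2 lc_a_rc_46_35 lc_a_rc_7_2 lc_a_rc_4_2 lc_a_rc_3_2 lc_a_rc_4_2 lc_a_rc_6_2 lc_a_rc_46_21 lc_a_rc_7_2 lc_a_rc_3_2 lc_a_rc_7_2 lc_a_rc_4_2 lc_a_rc_3_2 lc_a_rc_3_0 lc_a_rc_3_2 lc_a_rc_8_2) (@D3.rec (fun _ => (Cert rels S Gen.a)) lc_a_rc_3_2 lc_a_rc_5_2 lc_a_rc_2_2 lc_a_rc_4_2 lc_a_rc_3_2 lc_a_rc_3_2 lc_a_rc_2_2 lc_a_rc_3_2 lc_a_rc_2_2 lc_a_rc_0_1 lc_a_rc_5_2 lc_a_rc_4_2 lc_a_rc_3_2 lc_a_rc_5_2 lc_a_rc_4_2 lc_a_rc_2_0 lc_a_rc_2_0 lc_a_rc_2_2 lc_a_rc_2_2 lc_a_rc_4_2 lc_a_rc_7_2 lc_a_rc_4_2 lc_a_rc_1_2 lc_a_rc_6_2 lc_a_rc_6_2 lc_a_rc_6_2 lc_a_rc_6_2 lc_a_rc_46_35 lc_a_rc_7_2 lc_a_rc_4_2 lc_a_rc_6_2 lc_a_rc_7_2) (@D3.rec (fun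 _ => (Cert rels S Gen.a)) lc_a_rc_1_2 lc_a_rc_2_2 lc_a_rc_1_4 lc_a_rc_3_2 lc_a_rc_6_2 lc_a_rc_7_2 lc_a_rc_7_2 lc_a_rc_1_2 lc_a_rc_1_2 lc_a_rc_3_2 lc_a_rc_2_2 lc_a_rc_46_21 lc_a_rc_1_2 lc_a_rc_4_2 lc_a_rc_3_2 lc_a_rc_46_28 lc_a_rc_0_0 lc_a_rc_3_2 lc_a_rc_3_2 lc_a_rc_4_2 lc_a_rc_3_2 lc_a_rc_4_2 lc_a_rc_2_2 lc_a_rc_1_2 lc_a_rc_3_2 lc_a_rc_6_2 lc_a_rc_3_2 lc_a_rc_1_2 lc_a_rc_7_2 lc_a_rc_3_2 lc_a_rc_3_2 lc_a_rc_0_0) (@D3.rec (fun _ => (Cert rels S Gen.a)) lc_a_rc_4_2 lc_a_rc_1_2 lc_a_rc_1_2 lc_a_rc_46_42 lc_a_rc_3_2 lc_a_rc_6_2 lc_a_rc_1_2 lc_a_rc_3_2 lc_a_rc_7_2 lc_a_rc_2_2 lc_a_rc_2_2 lc_a_rc_6_2 lc_a_rc_1_2 lc_a_rc_7_2 lc_a_rc_3_2 lc_a_rc_7_2 lc_a_rc_0_1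 lc_a_rc_2_2 lc_a_rc_8_2 lc_a_rc_8_2 lc_a_rc_4_2 lc_a_rc_3_2 lc_a_rc_0_0 lc_a_rc_5_2 lc_a_rc_5_2 lc_a_rc_4_2 lc_a_rc_1_2 lc_a_rc_1_2 lc_a_rc_1_2 lc_a_rc_3_2 lc_a_rc_3_2 lc_a_rc_3_2) (@D3.rec (fun _ => (Cert rels S Gen.a)) lc_a_rc_46_21 lc_a_rc_1_2 lc_a_rc_3_2 lc_a_rc_4_2 lc_a_rc_1_2 lc_a_rc_0_1 lc_a_rc_1_2 lc_a_rc_3_2 lc_a_rc_0_0 lc_a_rc_3_2 lc_a_rc_2_2 lc_a_rc_3_2 lc_a_rc_3_2 lc_a_rc_6_2 lc_a_rc_46_35 lc_a_rc_7_2 lc_a_rc_2_2 lc_a_rc_2_2 lc_a_rc_3_2 lc_a_rc_7_2 lc_a_rc_4_2 lc_a_rc_3_2 lc_a_rc_2_2 lc_a_rc_7_2 lc_a_rc_4_2 lc_a_rc_3_2 lc_a_rc_4_2 lc_a_rc_3_2 lc_a_rc_4_2 lc_a_rc_4_2 lc_a_rc_2_0 lc_a_rc_6_2) (@D3.rec (fun _ => (Cert rels S Gen.a)) lc_a_rc_6_2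 lc_a_rc_3_2 lc_a_rc_5_2 lc_a_rc_5_2 lc_a_rc_4_2 lc_a_rc_3_2 lc_a_rc_46_42 lc_a_rc_46_28 lc_a_rc_4_2 lc_a_rc_3_2 lc_a_rc_4_2 lc_a_rc_46_14 lc_a_rc_5_2 lc_a_rc_46_42 lc_a_rc_1_4 lc_a_rc_2_2 lc_a_rc_2_2 lc_a_rc_1_2 lc_a_rc_3_2 lc_a_rc_5_2 lc_a_rc_7_2 lc_a_rc_4_2 lc_a_rc_3_2 lc_a_rc_4_2 lc_a_rc_3_2 lc_a_rc_4_2 lc_a_rc_3_2 lc_a_rc_6_0 lc_a_rc_6_0 lc_a_rc_4_2 lc_a_rc_3_2 lc_a_rc_3_2) (@D3.rec (fun _ => (Cert rels S Gen.a)) lc_a_rc_3_2 lc_a_rc_2_2 lc_a_rc_2_2 lc_a_rc_2_2 lc_a_rc_5_2 lc_a_rc_3_2 lc_a_rc_1_4 lc_a_rc_4_2 lc_a_rc_4_2 lc_a_rc_3_2 lc_a_rc_3_2 lc_a_rc_1_4 lc_a_rc_4_2 lc_a_rc_3_2 lc_a_rc_1_2 lc_a_rc_4_2 lc_a_rc_3_2 lc_a_rc_4_2 lc_a_rc_3_2 lc_a_rc_7_2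 lc_a_rc_4_2 lc_a_rc_3_2 lc_a_rc_0_1 lc_a_rc_4_2 lc_a_rc_3_0 lc_a_rc_6_0 lc_a_rc_4_2 lc_a_rc_3_2 lc_a_rc_4_2 lc_a_rc_6_2 lc_a_rc_4_2 lc_a_rc_1_4) (@D3.rec (fun _ => (Cert rels S Gen.a)) lc_a_rc_1_4 lc_a_rc_4_2 lc_a_rc_4_2 lc_a_rc_3_2 lc_a_rc_4_2 lc_a_rc_4_2 lc_a_rc_3_2 lc_a_rc_3_2 lc_a_rc_3_2 lc_a_rc_4_2 lc_a_rc_3_2 lc_a_rc_7_2 lc_a_rc_6_0 lc_a_rc_7_2 lc_a_rc_8_2 lc_a_rc_46_42 lc_a_rc_4_2 lc_a_rc_3_2 lc_a_rc_4_2 lc_a_rc_2_2 lc_a_rc_1_4 lc_a_rc_4_2 lc_a_rc_6_2 lc_a_rc_8_2 lc_a_rc_2_2 lc_a_rc_3_2 lc_a_rc_5_2 lc_a_rc_2_2 lc_a_rc_5_2 lc_a_rc_2_2 lc_a_rc_4_2 lc_a_rc_4_2) (@D3.rec (fun _ => (Cert rels S Gen.a)) lc_a_rc_3_2 lc_a_rc_4_2 lc_a_rc_2_2 lc_a_rc_2_2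 lc_a_rc_7_2 lc_a_rc_46_21 lc_a_rc_2_2 lc_a_rc_4_2 lc_a_rc_6_2 lc_a_rc_7_2 lc_a_rc_1_2 lc_a_rc_4_2 lc_a_rc_3_0 lc_a_rc_4_2 lc_a_rc_3_2 lc_a_rc_5_2 lc_a_rc_4_2 lc_a_rc_4_2 lc_a_rc_3_2 lc_a_rc_4_2 lc_a_rc_3_2 lc_a_rc_46_21 lc_a_rc_4_2 lc_a_rc_5_2 lc_a_rc_5_2 lc_a_rc_6_2 lc_a_rc_2_0 lc_a_rc_2_2 lc_a_rc_6_2 lc_a_rc_6_2 lc_a_rc_1_2 lc_a_rc_7_2) (@D3.rec (fun _ => (Cert rels S Gen.a)) lc_a_rc_1_0 lc_a_rc_6_2 lc_a_rc_7_2 lc_a_rc_3_2 lc_a_rc_2_2 lc_a_rc_4_2 lc_a_rc_1_2 lc_a_rc_7_2 lc_a_rc_1_2 lc_a_rc_1_2 lc_a_rc_4_2 lc_a_rc_3_2 lc_a_rc_0_0 lc_a_rc_1_2 lc_a_rc_4_2 lc_a_rc_2_2 lc_a_rc_2_2 lc_a_rc_3_2 lc_a_rc_4_2 lc_a_rc_6_2 lc_a_rc_3_2 lc_a_rc_7_2 lc_a_rc_4_2 lc_a_rc_3_2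 lc_a_rc_46_35 lc_a_rc_3_2 lc_a_rc_0_0 lc_a_rc_2_2 lc_a_rc_4_0 lc_a_rc_1_2 lc_a_rc_0_1 lc_a_rc_1_2) (@D3.rec (fun _ => (Cert rels S Gen.a)) lc_a_rc_3_2 lc_a_rc_7_2 lc_a_rc_46_42 lc_a_rc_4_2 lc_a_rc_3_2 lc_a_rc_2_2 lc_a_rc_7_2 lc_a_rc_1_2 lc_a_rc_2_2 lc_a_rc_8_2 lc_a_rc_8_2 lc_a_rc_4_2 lc_a_rc_2_2 lc_a_rc_2_2 lc_a_rc_7_2 lc_a_rc_6_2 lc_a_rc_46_35 lc_a_rc_1_2 lc_a_rc_0_0 lc_a_rc_3_2 lc_a_rc_4_2 lc_a_rc_3_2 lc_a_rc_46_21 lc_a_rc_3_2 lc_a_rc_4_2 lc_a_rc_0_1 lc_a_rc_3_2 lc_a_rc_3_2 lc_a_rc_3_2 lc_a_rc_7_2 lc_a_rc_1_4 lc_a_rc_1_4) (@D3.rec (fun _ => (Cert rels S Gen.a)) lc_a_rc_2_2 lc_a_rc_4_2 lc_a_rc_3_2 lc_a_rc_4_2 lc_a_rc_2_2 lc_a_rc_4_2 lc_a_rc_4_2 lc_a_rc_4_0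 lc_a_rc_6_2 lc_a_rc_4_2 lc_a_rc_5_2 lc_a_rc_4_2 lc_a_rc_46_42 lc_a_rc_1_4 lc_a_rc_4_2 lc_a_rc_6_2 lc_a_rc_46_21 lc_a_rc_46_42 lc_a_rc_2_0 lc_a_rc_2_2 lc_a_rc_5_2 lc_a_rc_4_2 lc_a_rc_4_2 lc_a_rc_4_2 lc_a_rc_4_2 lc_a_rc_6_2 lc_a_rc_3_2 lc_a_rc_4_2 lc_a_rc_3_2 lc_a_rc_2_2 lc_a_rc_2_2 lc_a_rc_3_2) (@D3.rec (fun _ => (Cert rels S Gen.a)) lc_a_rc_6_2 lc_a_rc_4_2 lc_a_rc_4_2 lc_a_rc_3_2 lc_a_rc_4_2 lc_a_rc_2_2 lc_a_rc_2_2 lc_a_rc_4_2 lc_a_rc_6_2 lc_a_rc_4_2 lc_a_rc_3_2 lc_a_rc_4_2 lc_a_rc_0_1 lc_a_rc_3_2 lc_a_rc_6_2 lc_a_rc_2_0 lc_a_rc_4_2 lc_a_rc_6_2 lc_a_rc_6_2 lc_a_rc_1_4 lc_a_rc_4_2 lc_a_rc_4_2 lc_a_rc_6_2 lc_a_rc_4_2 lc_a_rc_3_2 lc_a_rc_4_2 lc_a_rc_6_2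 lc_a_rc_5_2 lc_a_rc_8_2 lc_a_rc_8_2 lc_a_rc_0_1 lc_a_rc_4_0) (@D3.rec (fun _ => (Cert rels S Gen.a)) lc_a_rc_4_2 lc_a_rc_6_2 lc_a_rc_1_4 lc_a_rc_6_2 lc_a_rc_2_2 lc_a_rc_5_2 lc_a_rc_4_2 lc_a_rc_4_2 lc_a_rc_6_2 lc_a_rc_2_2 lc_a_rc_2_2 lc_a_rc_6_2 lc_a_rc_6_2 lc_a_rc_3_0 lc_a_rc_4_2 lc_a_rc_5_2 lc_a_rc_5_2 lc_a_rc_6_2 lc_a_rc_4_2 lc_a_rc_4_2 lc_a_rc_46_7 lc_a_rc_6_2 lc_a_rc_5_2 lc_a_rc_2_0 lc_a_rc_2_2 lc_a_rc_7_2 lc_a_rc_0_1 lc_a_rc_1_2 lc_a_rc_4_2 lc_a_rc_4_2 lc_a_rc_4_2 lc_a_rc_0_0) (@D3.rec (fun _ => (Cert rels S Gen.a)) lc_a_rc_1_2 lc_a_rc_4_2 lc_a_rc_0_0 lc_a_rc_6_2 lc_a_rc_2_2 lc_a_rc_3_2 lc_a_rc_6_2 lc_a_rc_4_2 lc_a_rc_3_2 lc_a_rc_4_2 lc_a_rc_46_35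 lc_a_rc_2_2 lc_a_rc_3_2 lc_a_rc_2_2 lc_a_rc_1_2 lc_a_rc_1_2 lc_a_rc_4_2 lc_a_rc_3_2 lc_a_rc_46_35 lc_a_rc_2_2 lc_a_rc_4_2 lc_a_rc_2_2 lc_a_rc_46_42 lc_a_rc_2_2 lc_a_rc_8_2 lc_a_rc_6_2 lc_a_rc_3_0 lc_a_rc_6_2 lc_a_rc_1_2 lc_a_rc_1_2 lc_a_rc_1_2 lc_a_rc_3_2) (@D3.rec (fun _ => (Cert rels S Gen.a)) lc_a_rc_4_2 lc_a_rc_46_35 lc_a_rc_5_2 lc_a_rc_4_2 lc_a_rc_3_2 lc_a_rc_4_2 lc_a_rc_2_2 lc_a_rc_4_2 lc_a_rc_6_2 lc_a_rc_6_2 lc_a_rc_6_2 lc_a_rc_4_2 lc_a_rc_6_2 lc_a_rc_4_2 lc_a_rc_6_2 lc_a_rc_0_0 lc_a_rc_4_2 lc_a_rc_2_2 lc_a_rc_6_2 lc_a_rc_6_2 lc_a_rc_6_2 lc_a_rc_7_0 lc_a_rc_3_2 lc_a_rc_4_2 lc_a_rc_2_2 lc_a_rc_5_2 lc_a_rc_6_2 lc_a_rc_4_2 lc_a_rc_6_2 lc_a_rc_2_2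 lc_a_rc_6_2 lc_a_rc_4_2) (@D3.rec (fun _ => (Cert rels S Gen.a)) lc_a_rc_6_2 lc_a_rc_4_2 lc_a_rc_4_0 lc_a_rc_6_2 lc_a_rc_1_4 lc_a_rc_6_2 lc_a_rc_6_2 lc_a_rc_3_2 lc_a_rc_6_2 lc_a_rc_7_0 lc_a_rc_8_2 lc_a_rc_2_2 lc_a_rc_6_2 lc_a_rc_2_2 lc_a_rc_6_2 lc_a_rc_2_2 lc_a_rc_2_2 lc_a_rc_6_2 lc_a_rc_5_2 lc_a_rc_6_2 lc_a_rc_6_2 lc_a_rc_6_2 lc_a_rc_4_2 lc_a_rc_4_2 lc_a_rc_5_2 lc_a_rc_1_2 lc_a_rc_6_2 lc_a_rc_0_0 lc_a_rc_2_2 lc_a_rc_4_2 lc_a_rc_6_2 lc_a_rc_2_2) (@D3.rec (fun _ => (Cert rels S Gen.a)) lc_a_rc_2_2 lc_a_rc_1_2 lc_a_rc_4_2 lc_a_rc_4_2 lc_a_rc_6_2 lc_a_rc_4_2 lc_a_rc_8_2 lc_a_rc_3_0 lc_a_rc_46_42 lc_a_rc_1_2 lc_a_rc_5_2 lc_a_rc_5_0 lc_a_rc_3_2 lc_a_rc_6_2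 lc_a_rc_4_2 lc_a_rc_5_2 lc_a_rc_5_2 lc_a_rc_6_2 lc_a_rc_2_2 lc_a_rc_6_2 lc_a_rc_5_2 lc_a_rc_8_2 lc_a_rc_6_2 lc_a_rc_6_2 lc_a_rc_5_2 lc_a_rc_0_0 lc_a_rc_6_2 lc_a_rc_2_2 lc_a_rc_6_2 lc_a_rc_5_2 lc_a_rc_4_0 lc_a_rc_5_2)
def ce_a : Pt → (Cert rels S Gen.a) := @Pt.rec (fun _ => (Cert rels S Gen.a)) (@D1.rec (fun _ => D2 → D3 → (Cert rels S Gen.a)) ce_a_0 ce_a_1 ce_a_2 ce_a_3 ce_a_4 ce_a_5 ce_a_6 ce_a_7 ce_a_8 ce_a_9 ce_a_10 ce_a_11 ce_a_12 ce_a_13 ce_a_14 ce_a_15 ce_a_16 ce_a_17 ce_a_18 ce_a_19)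
def isSeed_a (p : Pt) : Bool := false

end

end Cfsg.Agent.Helper28.S1685
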