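import Cfsg.Agent.Lib.Helper28.S1685.F_a
import Cfsg.Agent.Lib.Helper28.S1685.F_b
import Cfsg.Agent.Lib.Helper28.S1685.F_c
import Cfsg.Agent.Lib.Helper28.S1685.F_d
import Cfsg.Agent.Lib.Helper28.S1685.F_e
import Cfsg.Agent.Lib.Helper28.S1685.F_f
import Cfsg.Agent.Lib.Helper28.S1685.F_g
import Cfsg.Agent.Lib.Helper28.S1685.F_h
import Cfsg.Agent.Lib.Helper28.S1685.F_i

set_option autoImplicit false
set_option maxRecDepth 100000
set_option linter.all false

namespace Cfsg.Agent.Helper28.S1685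

open Cfsg.Agent.Helper28
open Cfsg.Spor.Fi22 (Gen)

noncomputable section

def fwd : Gen → Pt → Pt := @Gen.rec (fun _ => Pt → Pt) f_a f_b f_c f_d f_e f_f f_g f_h f_i
def inv : Gen → Pt → Pt := @Gen.rec (fun _ => Pt → Pt) fi_a fi_b fi_c fi_d fi_e fi_f fi_g fi_h fi_i


theorem hfi : ∀ (x : Gen) (p : Pt), inv x (fwd x p) = p := by
  intro x p
  cases x
  · exact (chkInv_sound allPts beqPt allPts_sound beqPt_sound _ _ inv_chk_a).1 p
  · exact (chkInv_sound allPts beqPt allPts_sound beqPt_sound _ _ inv_chk_b).1 p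
  · exact (chkInv_sound allPts beqPt allPts_sound beqPt_sound _ _ inv_chk_c).1 p
  · exact (chkInv_sound allPts beqPt allPts_sound beqPt_sound _ _ inv_chk_d).1 p
  · exact (chkInv_sound allPts beqPt allPts_sound beqPt_sound _ _ inv_chk_e).1 p
  · exact (chkInv_sound allPts beqPt allPts_sound beqPt_sound _ _ inv_chk_f).1 p
  · exact (chkInv_sound allPts beqPt allPts_sound beqPt_sound _ _ inv_chk_g).1 p
  · exact (chkInv_sound allPts beqPt allPts_sound beqPt_sound _ _ inv_chk_h).1 p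
  · exact (chkInv_sound allPts beqPt allPts_sound beqPt_sound _ _ inv_chk_i).1 p

theorem hif : ∀ (x : Gen) (p : Pt), fwd x (inv x p) = p := by
  intro x p
  cases x
  · exact (chkInv_sound allPts beqPt allPts_sound beqPt_sound _ _ inv_chk_a).2 p
  · exact (chkInv_sound allPts beqPt allPts_sound beqPt_sound _ _ inv_chk_b).2 p
  · exact (chkInv_sound allPts beqPt allPts_sound beqPt_sound _ _ inv_chk_c).2 p
  · exact (chkInv_sound allPts beqPt allPts_sound beqPt_sound _ _ inv_chk_d).2 p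
  · exact (chkInv_sound allPts beqPt allPts_sound beqPt_sound _ _ inv_chk_e).2 p
  · exact (chkInv_sound allPts beqPt allPts_sound beqPt_sound _ _ inv_chk_f).2 p
  · exact (chkInv_sound allPts beqPt allPts_sound beqPt_sound _ _ inv_chk_g).2 p
  · exact (chkInv_sound allPts beqPt allPts_sound beqPt_sound _ _ inv_chk_h).2 p
  · exact (chkInv_sound allPts beqPt allPts_sound beqPt_sound _ _ inv_chk_i).2 p

def relW_0 : Word Gen := [(Gen.a, true), (Gen.a, true)]
def relF_0 : List (Pt → Pt) := [f_a, f_a]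
theorem relF_0_eq : relF_0 = relW_0.map (stepL fwd inv) := rfl
def relW_1 : Word Gen := [(Gen.a, true), (Gen.b, true), (Gen.a, true), (Gen.b, true), (Gen.a, true), (Gen.b, true)]
def relF_1 : List (Pt → Pt) := [f_a, f_b, f_a, f_b, f_a, f_b]
theorem relF_1_eq : relF_1 = relW_1.map (stepL fwd inv) := rfl
def relW_2 : Word Gen := [(Gen.a, true), (Gen.c, true), (Gen.a, true), (Gen.c, true)]
def relF_2 : List (Pt → Pt) := [f_a, f_c, f_a, f_c]
theorem relF_2_eq : relF_2 = relW_2.map (stepL fwd inv) := rfl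
def relW_3 : Word Gen := [(Gen.a, true), (Gen.d, true), (Gen.a, true), (Gen.d, true)]
def relF_3 : List (Pt → Pt) := [f_a, f_d, f_a, f_d]
theorem relF_3_eq : relF_3 = relW_3.map (stepL fwd inv) := rfl
def relW_4 : Word Gen := [(Gen.a, true), (Gen.e, true), (Gen.a, true), (Gen.e, true)]
def relF_4 : List (Pt → Pt) := [f_a, f_e, f_a, f_e]
theorem relF_4_eq : relF_4 = relW_4.map (stepL fwd inv) := rfl
def relW_5 : Word Gen := [(Gen.a, true), (Gen.h, true), (Gen.a, true), (Gen.h, true)]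
def relF_5 : List (Pt → Pt) := [f_a, f_h, f_a, f_h]
theorem relF_5_eq : relF_5 = relW_5.map (stepL fwd inv) := rfl
def relW_6 : Word Gen := [(Gen.a, true), (Gen.f, true), (Gen.a, true), (Gen.f, true)]
def relF_6 : List (Pt → Pt) := [f_a, f_f, f_a, f_f]
theorem relF_6_eq : relF_6 = relW_6.map (stepL fwd inv) := rfl
def relW_7 : Word Gen := [(Gen.a, true), (Gen.g, true), (Gen.a, true), (Gen.g, true)]
def relF_7 : List (Pt → Pt) := [f_a, f_g, f_a, f_g]
theorem relF_7_eq : relF_7 = relW_7.map (stepL fwd inv) := rfl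
def relW_8 : Word Gen := [(Gen.a, true), (Gen.i, true), (Gen.a, true), (Gen.i, true)]
def relF_8 : List (Pt → Pt) := [f_a, f_i, f_a, f_i]
theorem relF_8_eq : relF_8 = relW_8.map (stepL fwd inv) := rfl
def relW_9 : Word Gen := [(Gen.b, true), (Gen.b, true)]
def relF_9 : List (Pt → Pt) := [f_b, f_b]
theorem relF_9_eq : relF_9 = relW_9.map (stepL fwd inv) := rfl
def relW_10 : Word Gen := [(Gen.b, true), (Gen.c, true), (Gen.b, true), (Gen.c, true), (Gen.b, true), (Gen.c, true)]
def relF_10 : List (Pt → Pt) := [f_b, f_c, f_b, f_c, f_b, f_c]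
theorem relF_10_eq : relF_10 = relW_10.map (stepL fwd inv) := rfl
def relW_11 : Word Gen := [(Gen.b, true), (Gen.d, true), (Gen.b, true), (Gen.d, true)]
def relF_11 : List (Pt → Pt) := [f_b, f_d, f_b, f_d]
theorem relF_11_eq : relF_11 = relW_11.map (stepL fwd inv) := rfl
def relW_12 : Word Gen := [(Gen.b, true), (Gen.e, true), (Gen.b, true), (Gen.e, true)]
def relF_12 : List (Pt → Pt) := [f_b, f_e, f_b, f_e]
theorem relF_12_eq : relF_12 = relW_12.map (stepL fwd inv) := rfl
def relW_13 : Word Gen := [(Gen.b, true), (Gen.h, true), (Gen.b, true), (Gen.h, true)]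
def relF_13 : List (Pt → Pt) := [f_b, f_h, f_b, f_h]
theorem relF_13_eq : relF_13 = relW_13.map (stepL fwd inv) := rfl
def relW_14 : Word Gen := [(Gen.b, true), (Gen.f, true), (Gen.b, true), (Gen.f, true)]
def relF_14 : List (Pt → Pt) := [f_b, f_f, f_b, f_f]
theorem relF_14_eq : relF_14 = relW_14.map (stepL fwd inv) := rfl
def relW_15 : Word Gen := [(Gen.b, true), (Gen.g, true), (Gen.b, true), (Gen.g, true)]
def relF_15 : List (Pt → Pt) := [f_b, f_g, f_b, f_g]
theorem relF_15_eq : relF_15 = relW_15.map (stepL fwd inv) := rfl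
def relW_16 : Word Gen := [(Gen.b, true), (Gen.i, true), (Gen.b, true), (Gen.i, true)]
def relF_16 : List (Pt → Pt) := [f_b, f_i, f_b, f_i]
theorem relF_16_eq : relF_16 = relW_16.map (stepL fwd inv) := rfl
def relW_17 : Word Gen := [(Gen.c, true), (Gen.c, true)]
def relF_17 : List (Pt → Pt) := [f_c, f_c]
theorem relF_17_eq : relF_17 = relW_17.map (stepL fwd inv) := rfl
def relW_18 : Word Gen := [(Gen.c, true), (Gen.d, true), (Gen.c, true), (Gen.d, true), (Gen.c, true), (Gen.d, true)]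
def relF_18 : List (Pt → Pt) := [f_c, f_d, f_c, f_d, f_c, f_d]
theorem relF_18_eq : relF_18 = relW_18.map (stepL fwd inv) := rfl
def relW_19 : Word Gen := [(Gen.c, true), (Gen.e, true), (Gen.c, true), (Gen.e, true)]
def relF_19 : List (Pt → Pt) := [f_c, f_e, f_c, f_e]
theorem relF_19_eq : relF_19 = relW_19.map (stepL fwd inv) := rfl
def relW_20 : Word Gen := [(Gen.c, true), (Gen.h, true), (Gen.c, true), (Gen.h, true)]
def relF_20 : List (Pt → Pt) := [f_c, f_h, f_c, f_h]
theorem relF_20_eq : relF_20 = relW_20.map (stepL fwd inv) := rfl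
def relW_21 : Word Gen := [(Gen.c, true), (Gen.f, true), (Gen.c, true), (Gen.f, true)]
def relF_21 : List (Pt → Pt) := [f_c, f_f, f_c, f_f]
theorem relF_21_eq : relF_21 = relW_21.map (stepL fwd inv) := rfl
def relW_22 : Word Gen := [(Gen.c, true), (Gen.g, true), (Gen.c, true), (Gen.g, true)]
def relF_22 : List (Pt → Pt) := [f_c, f_g, f_c, f_g]
theorem relF_22_eq : relF_22 = relW_22.map (stepL fwd inv) := rfl
def relW_23 : Word Gen := [(Gen.c, true), (Gen.i, true), (Gen.c, true), (Gen.i, true)]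
def relF_23 : List (Pt → Pt) := [f_c, f_i, f_c, f_i]
theorem relF_23_eq : relF_23 = relW_23.map (stepL fwd inv) := rfl
def relW_24 : Word Gen := [(Gen.d, true), (Gen.d, true)]
def relF_24 : List (Pt → Pt) := [f_d, f_d]
theorem relF_24_eq : relF_24 = relW_24.map (stepL fwd inv) := rfl
def relW_25 : Word Gen := [(Gen.d, true), (Gen.e, true), (Gen.d, true), (Gen.e, true), (Gen.d, true), (Gen.e, true)]
def relF_25 : List (Pt → Pt) := [f_d, f_e, f_d, f_e, f_d, f_e]
theorem relF_25_eq : relF_25 = relW_25.map (stepL fwd inv) := rfl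
def relW_26 : Word Gen := [(Gen.d, true), (Gen.h, true), (Gen.d, true), (Gen.h, true), (Gen.d, true), (Gen.h, true)]
def relF_26 : List (Pt → Pt) := [f_d, f_h, f_d, f_h, f_d, f_h]
theorem relF_26_eq : relF_26 = relW_26.map (stepL fwd inv) := rfl
def relW_27 : Word Gen := [(Gen.d, true), (Gen.f, true), (Gen.d, true), (Gen.f, true)]
def relF_27 : List (Pt → Pt) := [f_d, f_f, f_d, f_f]
theorem relF_27_eq : relF_27 = relW_27.map (stepL fwd inv) := rfl
def relW_28 : Word Gen := [(Gen.d, true), (Gen.g, true), (Gen.d, true), (Gen.g, true)]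
def relF_28 : List (Pt → Pt) := [f_d, f_g, f_d, f_g]
theorem relF_28_eq : relF_28 = relW_28.map (stepL fwd inv) := rfl
def relW_29 : Word Gen := [(Gen.d, true), (Gen.i, true), (Gen.d, true), (Gen.i, true)]
def relF_29 : List (Pt → Pt) := [f_d, f_i, f_d, f_i]
theorem relF_29_eq : relF_29 = relW_29.map (stepL fwd inv) := rfl
def relW_30 : Word Gen := [(Gen.e, true), (Gen.e, true)]
def relF_30 : List (Pt → Pt) := [f_e, f_e]
theorem relF_30_eq : relF_30 = relW_30.map (stepL fwd inv) := rfl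
def relW_31 : Word Gen := [(Gen.e, true), (Gen.h, true), (Gen.e, true), (Gen.h, true)]
def relF_31 : List (Pt → Pt) := [f_e, f_h, f_e, f_h]
theorem relF_31_eq : relF_31 = relW_31.map (stepL fwd inv) := rfl
def relW_32 : Word Gen := [(Gen.e, true), (Gen.f, true), (Gen.e, true), (Gen.f, true), (Gen.e, true), (Gen.f, true)]
def relF_32 : List (Pt → Pt) := [f_e, f_f, f_e, f_f, f_e, f_f]
theorem relF_32_eq : relF_32 = relW_32.map (stepL fwd inv) := rfl
def relW_33 : Word Gen := [(Gen.e, true), (Gen.g, true), (Gen.e, true), (Gen.g, true)]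
def relF_33 : List (Pt → Pt) := [f_e, f_g, f_e, f_g]
theorem relF_33_eq : relF_33 = relW_33.map (stepL fwd inv) := rfl
def relW_34 : Word Gen := [(Gen.e, true), (Gen.i, true), (Gen.e, true), (Gen.i, true)]
def relF_34 : List (Pt → Pt) := [f_e, f_i, f_e, f_i]
theorem relF_34_eq : relF_34 = relW_34.map (stepL fwd inv) := rfl
def relW_35 : Word Gen := [(Gen.h, true), (Gen.h, true)]
def relF_35 : List (Pt → Pt) := [f_h, f_h]
theorem relF_35_eq : relF_35 = relW_35.map (stepL fwd inv) := rfl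
def relW_36 : Word Gen := [(Gen.h, true), (Gen.i, true), (Gen.h, true), (Gen.i, true), (Gen.h, true), (Gen.i, true)]
def relF_36 : List (Pt → Pt) := [f_h, f_i, f_h, f_i, f_h, f_i]
theorem relF_36_eq : relF_36 = relW_36.map (stepL fwd inv) := rfl
def relW_37 : Word Gen := [(Gen.f, true), (Gen.h, true), (Gen.f, true), (Gen.h, true)]
def relF_37 : List (Pt → Pt) := [f_f, f_h, f_f, f_h]
theorem relF_37_eq : relF_37 = relW_37.map (stepL fwd inv) := rfl
def relW_38 : Word Gen := [(Gen.f, true), (Gen.f, true)]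
def relF_38 : List (Pt → Pt) := [f_f, f_f]
theorem relF_38_eq : relF_38 = relW_38.map (stepL fwd inv) := rfl
def relW_39 : Word Gen := [(Gen.f, true), (Gen.g, true), (Gen.f, true), (Gen.g, true), (Gen.f, true), (Gen.g, true)]
def relF_39 : List (Pt → Pt) := [f_f, f_g, f_f, f_g, f_f, f_g]
theorem relF_39_eq : relF_39 = relW_39.map (stepL fwd inv) := rfl
def relW_40 : Word Gen := [(Gen.f, true), (Gen.i, true), (Gen.f, true), (Gen.i, true)]
def relF_40 : List (Pt → Pt) := [f_f, f_i, f_f, f_i]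
theorem relF_40_eq : relF_40 = relW_40.map (stepL fwd inv) := rfl
def relW_41 : Word Gen := [(Gen.g, true), (Gen.h, true), (Gen.g, true), (Gen.h, true)]
def relF_41 : List (Pt → Pt) := [f_g, f_h, f_g, f_h]
theorem relF_41_eq : relF_41 = relW_41.map (stepL fwd inv) := rfl
def relW_42 : Word Gen := [(Gen.g, true), (Gen.g, true)]
def relF_42 : List (Pt → Pt) := [f_g, f_g]
theorem relF_42_eq : relF_42 = relW_42.map (stepL fwd inv) := rfl
def relW_43 : Word Gen := [(Gen.g, true), (Gen.i, true), (Gen.g, true), (Gen.i, true)]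
def relF_43 : List (Pt → Pt) := [f_g, f_i, f_g, f_i]
theorem relF_43_eq : relF_43 = relW_43.map (stepL fwd inv) := rfl
def relW_44 : Word Gen := [(Gen.i, true), (Gen.i, true)]
def relF_44 : List (Pt → Pt) := [f_i, f_i]
theorem relF_44_eq : relF_44 = relW_44.map (stepL fwd inv) := rfl
def relW_45 : Word Gen := [(Gen.d, true), (Gen.c, true), (Gen.b, true), (Gen.d, true), (Gen.e, true), (Gen.f, true), (Gen.d, true), (Gen.h, true), (Gen.i, true), (Gen.d, true), (Gen.c, true), (Gen.b, true), (Gen.d, true), (Gen.e, true), (Gen.f, true), (Gen.d, true), (Gen.h, true), (Gen.i, true), (Gen.d, true), (Gen.c, true), (Gen.b, true), (Gen.d, true), (Gen.e, true), (Gen.f, true), (Gen.d, true), (Gen.h, true), (Gen.i, true), (Gen.d, true), (Gen.c, true), (Gen.b, true), (Gen.d, true), (Gen.e, true), (Gen.f, true), (Gen.d, true), (Gen.h, true), (Gen.i, true), (Gen.d, true), (Gen.c, true), (Gen.b, true), (Gen.d, true), (Gen.e, true), (Gen.f, true), (Gen.d, true), (Gen.h,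 true), (Gen.i, true), (Gen.d, true), (Gen.c, true), (Gen.b, true), (Gen.d, true), (Gen.e, true), (Gen.f, true), (Gen.d, true), (Gen.h, true), (Gen.i, true), (Gen.d, true), (Gen.c, true), (Gen.b, true), (Gen.d, true), (Gen.e, true), (Gen.f, true), (Gen.d, true), (Gen.h, true), (Gen.i, true), (Gen.d, true), (Gen.c, true), (Gen.b, true), (Gen.d, true), (Gen.e, true), (Gen.f, true), (Gen.d, true), (Gen.h, true), (Gen.i, true), (Gen.d, true), (Gen.c, true), (Gen.b, true), (Gen.d, true), (Gen.e, true), (Gen.f, true), (Gen.d, true), (Gen.h, true), (Gen.i, true), (Gen.d, true), (Gen.c, true), (Gen.b, true), (Gen.d, true), (Gen.e, true), (Gen.f, true), (Gen.d, true), (Gen.h, true), (Gen.i, true)]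
def relF_45 : List (Pt → Pt) := [f_d, f_c, f_b, f_d, f_e, f_f, f_d, f_h, f_i, f_d, f_c, f_b, f_d, f_e, f_f, f_d, f_h, f_i, f_d, f_c, f_b, f_d, f_e, f_f, f_d, f_h, f_i, f_d, f_c, f_b, f_d, f_e, f_f, f_d, f_h, f_i, f_d, f_c, f_b, f_d, f_e, f_f, f_d, f_h, f_i, f_d, f_c, f_b, f_d, f_e, f_f, f_d, f_h, f_i, f_d, f_c, f_b, f_d, f_e, f_f, f_d, f_h, f_i, f_d, f_c, f_b, f_d, f_e, f_f, f_d, f_h, f_i, f_d, f_c, f_b, f_d, f_e, f_f, f_d, f_h, f_i, f_d, f_c, f_b, f_d, f_e, f_f, f_d, f_h, f_i]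
theorem relF_45_eq : relF_45 = relW_45.map (stepL fwd inv) := rfl
def relW_46 : Word Gen := [(Gen.a, true), (Gen.b, true), (Gen.c, true), (Gen.d, true), (Gen.e, true), (Gen.f, true), (Gen.h, true), (Gen.a, true), (Gen.b, true), (Gen.c, true), (Gen.d, true), (Gen.e, true), (Gen.f, true), (Gen.h, true), (Gen.a, true), (Gen.b, true), (Gen.c, true), (Gen.d, true), (Gen.e, true), (Gen.f, true), (Gen.h, true), (Gen.a, true), (Gen.b, true), (Gen.c, true), (Gen.d, true), (Gen.e, true), (Gen.f, true), (Gen.h, true), (Gen.a, true), (Gen.b, true), (Gen.c, true), (Gen.d, true), (Gen.e, true), (Gen.f, true), (Gen.h, true), (Gen.a, true), (Gen.b, true), (Gen.c, true), (Gen.d, true), (Gen.e, true), (Gen.f, true), (Gen.h, true), (Gen.a, true), (Gen.b, true), (Gen.c, true), (Gen.d, true), (Gen.e, true), (Gen.f, true), (Gen.h, true), (Gen.a, true), (Gen.b, true), (Gen.c, true), (Gen.d, true), (Gen.e, true), (Gen.f, true), (Gen.h, true), (Gen.a, true), (Gen.b, true), (Gen.c,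 true), (Gen.d, true), (Gen.e, true), (Gen.f, true), (Gen.h, true)]
def relF_46 : List (Pt → Pt) := [f_a, f_b, f_c, f_d, f_e, f_f, f_h, f_a, f_b, f_c, f_d, f_e, f_f, f_h, f_a, f_b, f_c, f_d, f_e, f_f, f_h, f_a, f_b, f_c, f_d, f_e, f_f, f_h, f_a, f_b, f_c, f_d, f_e, f_f, f_h, f_a, f_b, f_c, f_d, f_e, f_f, f_h, f_a, f_b, f_c, f_d, f_e, f_f, f_h, f_a, f_b, f_c, f_d, f_e, f_f, f_h, f_a, f_b, f_c, f_d, f_e, f_f, f_h]
theorem relF_46_eq : relF_46 = relW_46.map (stepL fwd inv) := rfl
def relW_47 : Word Gen := [(Gen.b, true), (Gen.c, true), (Gen.d, true), (Gen.e, true), (Gen.f, true), (Gen.g, true), (Gen.h, true), (Gen.b, true), (Gen.c, true), (Gen.d, true), (Gen.e, true), (Gen.f, true), (Gen.g, true), (Gen.h, true), (Gen.b, true), (Gen.c, true), (Gen.d, true), (Gen.e, true), (Gen.f, true), (Gen.g, true), (Gen.h, true), (Gen.b, true), (Gen.c, true), (Gen.d, true), (Gen.e, true), (Gen.f, true), (Gen.g, true), (Gen.h, true), (Gen.b, true), (Gen.c, true), (Gen.d,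 true), (Gen.e, true), (Gen.f, true), (Gen.g, true), (Gen.h, true), (Gen.b, true), (Gen.c, true), (Gen.d, true), (Gen.e, true), (Gen.f, true), (Gen.g, true), (Gen.h, true), (Gen.b, true), (Gen.c, true), (Gen.d, true), (Gen.e, true), (Gen.f, true), (Gen.g, true), (Gen.h, true), (Gen.b, true), (Gen.c, true), (Gen.d, true), (Gen.e, true), (Gen.f, true), (Gen.g, true), (Gen.h, true), (Gen.b, true), (Gen.c, true), (Gen.d, true), (Gen.e, true), (Gen.f, true), (Gen.g, true), (Gen.h, true)]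
def relF_47 : List (Pt → Pt) := [f_b, f_c, f_d, f_e, f_f, f_g, f_h, f_b, f_c, f_d, f_e, f_f, f_g, f_h, f_b, f_c, f_d, f_e, f_f, f_g, f_h, f_b, f_c, f_d, f_e, f_f, f_g, f_h, f_b, f_c, f_d, f_e, f_f, f_g, f_h, f_b, f_c, f_d, f_e, f_f, f_g, f_h, f_b, f_c, f_d, f_e, f_f, f_g, f_h, f_b, f_c, f_d, f_e, f_f, f_g, f_h, f_b, f_c, f_d, f_e, f_f, f_g, f_h]
theorem relF_47_eq : relF_47 = relW_47.map (stepL fwd inv) := rfl
def subW_0 : Word Gen := [(Gen.b, true)]
def subF_0 : List (Pt → Pt) := [f_b]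
theorem subF_0_eq : subF_0 = subW_0.map (stepL fwd inv) := rfl
def subW_1 : Word Gen := [(Gen.c, true)]
def subF_1 : List (Pt → Pt) := [f_c]
theorem subF_1_eq : subF_1 = subW_1.map (stepL fwd inv) := rfl
def subW_2 : Word Gen := [(Gen.d, true)]
def subF_2 : List (Pt → Pt) := [f_d]
theorem subF_2_eq : subF_2 = subW_2.map (stepL fwd inv) := rfl
def subW_3 : Word Gen := [(Gen.e, true)]
def subF_3 : List (Pt → Pt) := [f_e]
theorem subF_3_eq : subF_3 = subW_3.map (stepL fwd inv) := rfl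
def subW_4 : Word Gen := [(Gen.f, true)]
def subF_4 : List (Pt → Pt) := [f_f]
theorem subF_4_eq : subF_4 = subW_4.map (stepL fwd inv) := rfl
def subW_5 : Word Gen := [(Gen.g, true)]
def subF_5 : List (Pt → Pt) := [f_g]
theorem subF_5_eq : subF_5 = subW_5.map (stepL fwd inv) := rfl
def subW_6 : Word Gen := [(Gen.h, true)]
def subF_6 : List (Pt → Pt) := [f_h]
theorem subF_6_eq : subF_6 = subW_6.map (stepL fwd inv) := rfl
def subW_7 : Word Gen := [(Gen.i, true)]
def subF_7 : List (Pt → Pt) := [f_i]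
theorem subF_7_eq : subF_7 = subW_7.map (stepL fwd inv) := rfl

end

end Cfsg.Agent.Helper28.S1685
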