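import Cfsg.Agent.Lib.Helper28.S1685.Model

set_option autoImplicit false
set_option maxRecDepth 100000
set_option linter.all false

namespace Cfsg.Agent.Helper28.S1685

open Cfsg.Agent.Helper28
open Cfsg.Spor.Fi22 (Gen)

theorem relchk_0 : chkWordF allPts beqPt relF_0 = true := by decide +kernel
theorem relchk_2 : chkWordF allPts beqPt relF_2 = true := by decide +kernel
theorem relchk_3 : chkWordF allPts beqPt relF_3 = true := by decide +kernel
theorem relchk_14 : chkWordF allPts beqPt relF_14 = true := by decide +kernel
theorem relchk_28 : chkWordF allPts beqPt relF_28 = true := by decide +kernel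

end Cfsg.Agent.Helper28.S1685
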